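import Cfsg.Prelude.Def_Blocks
import Mathlib.Analysis.Complex.Polynomial.Basic
import Mathlib.LinearAlgebra.Matrix.PosDef
import Mathlib.RepresentationTheory.Character
import Mathlib.Analysis.Complex.Order
import Mathlib.LinearAlgebra.Matrix.ToLin
import Mathlib.LinearAlgebra.Trace
import Mathlib.GroupTheory.GroupAction.ConjAct
import Mathlib.GroupTheory.Index
import Mathlib.RingTheory.SimpleModule.Rank

/-!
# Basic facts on `Cfsg.IrrCharacter` (helper24's library)

* `character_inv` : the character of a complex representation of a finite group on `Fin n → ℂ`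
  satisfies `χ g⁻¹ = conj (χ g)` (unitarian trick).
* `irr_orthonormal` : first orthogonality relation for `Cfsg.IrrCharacter`.
-/

set_option autoImplicit false

namespace Cfsg.Agent.Lib.H24

open scoped ComplexConjugate ComplexOrder
open Matrix

section inv

variable {G : Type*} [Group G] {n : ℕ}

/-- The matrix of `ρ g` in the standard basis. -/
noncomputable def repMat (ρ : Representation ℂ G (Fin n → ℂ)) (g : G) : Matrix (Fin n) (Fin n) ℂ :=
  LinearMap.toMatrix' (ρ g)

theorem repMat_mul (ρ : Representation ℂ G (Fin n → ℂ)) (g h : G) :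
    repMat ρ (g * h) = repMat ρ g * repMat ρ h := by
  simp [repMat, map_mul, Module.End.mul_eq_comp, LinearMap.toMatrix'_comp]

theorem repMat_one (ρ : Representation ℂ G (Fin n → ℂ)) : repMat ρ 1 = 1 := by
  simp [repMat, map_one, Module.End.one_eq_id]

theorem trace_repMat (ρ : Representation ℂ G (Fin n → ℂ)) (g : G) :
    (repMat ρ g).trace = ρ.character g := by
  rw [Representation.character, LinearMap.trace_eq_matrix_trace ℂ (Pi.basisFun ℂ (Fin n)),
    LinearMap.toMatrix_eq_toMatrix']
  rfl

theorem repMat_mul_inv (ρ : Representation ℂ G (Fin n → ℂ)) (g : G) :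
    repMat ρ g * repMat ρ g⁻¹ = 1 := by
  rw [← repMat_mul, mul_inv_cancel, repMat_one]

theorem repMat_inv_mul (ρ : Representation ℂ G (Fin n → ℂ)) (g : G) :
    repMat ρ g⁻¹ * repMat ρ g = 1 := by
  rw [← repMat_mul, inv_mul_cancel, repMat_one]

theorem character_inv [Finite G] (ρ : Representation ℂ G (Fin n → ℂ)) (g : G) :
    ρ.character g⁻¹ = conj (ρ.character g) := by
  classical
  have := Fintype.ofFinite G
  set A := repMat ρ with hA
  let H : Matrix (Fin n) (Fin n) ℂ := ∑ h : G, (A h)ᴴ * A h
  have hH : H.PosDef := by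
    refine Matrix.posDef_sum Finset.univ_nonempty (fun h _ => ?_)
    refine PosDef.conjTranspose_mul_self (A h) ?_
    rw [Matrix.mulVec_injective_iff_isUnit]
    exact (Matrix.isUnit_iff_isUnit_det _).mpr
      (IsUnit.of_mul_eq_one (A h⁻¹).det (by rw [← Matrix.det_mul, repMat_mul_inv, Matrix.det_one]))
  have hinv : (A g)ᴴ * H * A g = H := by
    simp only [H, Finset.mul_sum, Finset.sum_mul]
    refine Fintype.sum_equiv (Equiv.mulRight g) _ _ (fun h => ?_)
    simp only [Equiv.coe_mulRight, hA, repMat_mul, Matrix.conjTranspose_mul]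
    simp only [Matrix.mul_assoc]
  have hunit := hH.isUnit
  have h2 : (A g)ᴴ * H = H * A g⁻¹ := by
    calc (A g)ᴴ * H = (A g)ᴴ * H * (A g * A g⁻¹) := by rw [hA, repMat_mul_inv, Matrix.mul_one]
      _ = ((A g)ᴴ * H * A g) * A g⁻¹ := by simp only [Matrix.mul_assoc]
      _ = H * A g⁻¹ := by rw [hinv]
  have h3 : A g⁻¹ = H⁻¹ * ((A g)ᴴ * H) := by
    rw [h2, ← Matrix.mul_assoc, Matrix.nonsing_inv_mul _ ((Matrix.isUnit_iff_isUnit_det _).mp hunit),
      Matrix.one_mul]
  rw [← trace_repMat, ← trace_repMat, ← hA, h3, Matrix.trace_mul_comm, Matrix.mul_assoc,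
    Matrix.mul_nonsing_inv _ ((Matrix.isUnit_iff_isUnit_det _).mp hunit), Matrix.mul_one,
    Matrix.trace_conjTranspose]
  rfl

end inv

section irr

variable {G : Type*} [Group G]

/-- Unpack an irreducible character. -/
theorem irr_exists_rep (χ : IrrCharacter G) :
    ∃ (n : ℕ) (ρ : Representation ℂ G (Fin n → ℂ)), ρ.IsIrreducible ∧ ρ.character = (χ : G → ℂ) :=
  χ.2

theorem irreducible_dim_pos {n : ℕ} (ρ : Representation ℂ G (Fin n → ℂ)) (h : ρ.IsIrreducible) :
    0 < n := by
  rcases Nat.eq_zero_or_pos n with h0 | h0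
  · exfalso
    subst h0
    have : Nontrivial (Subrepresentation ρ) := IsSimpleOrder.toNontrivial
    obtain ⟨a, b, hab⟩ := exists_pair_ne (Subrepresentation ρ)
    apply hab
    apply Subrepresentation.toSubmodule_injective
    apply Subsingleton.elim
  · exact h0

/-- The value at `1` of an irreducible character is a positive natural number. -/
theorem irr_one_eq (χ : IrrCharacter G) : ∃ n : ℕ, 0 < n ∧ (χ : G → ℂ) 1 = n := by
  obtain ⟨n, ρ, hirr, hχ⟩ := irr_exists_rep χ
  refine ⟨n, irreducible_dim_pos ρ hirr, ?_⟩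
  rw [← hχ, Representation.char_one]
  simp

theorem irr_one_ne_zero (χ : IrrCharacter G) : (χ : G → ℂ) 1 ≠ 0 := by
  obtain ⟨n, hn, h⟩ := irr_one_eq χ
  rw [h]
  exact_mod_cast hn.ne'

theorem charDegree_irr (χ : IrrCharacter G) : ((charDegree (χ : G → ℂ) : ℕ) : ℂ) = (χ : G → ℂ) 1 := by
  obtain ⟨n, hn, h⟩ := irr_one_eq χ
  rw [charDegree, h]
  simp

theorem charDegree_pos (χ : IrrCharacter G) : 0 < charDegree (χ : G → ℂ) := by
  obtain ⟨n, hn, h⟩ := irr_one_eq χ
  rw [charDegree, h]
  simpa using hn

/-- Irreducible characters are class functions. -/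
theorem irr_conj (χ : IrrCharacter G) (g h : G) : (χ : G → ℂ) (h * g * h⁻¹) = (χ : G → ℂ) g := by
  obtain ⟨n, ρ, hirr, hχ⟩ := irr_exists_rep χ
  rw [← hχ]
  exact Representation.char_conj ρ g h

theorem irr_isClassFunction (χ : IrrCharacter G) : IsClassFunction G (χ : G → ℂ) :=
  fun g h => irr_conj χ g h

theorem irr_eq_of_isConj (χ : IrrCharacter G) {g h : G} (hgh : IsConj g h) :
    (χ : G → ℂ) g = (χ : G → ℂ) h := by
  obtain ⟨c, hc⟩ := isConj_iff.mp hgh
  rw [← hc, irr_conj]

theorem irr_inv [Finite G] (χ : IrrCharacter G) (g : G) :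
    (χ : G → ℂ) g⁻¹ = conj ((χ : G → ℂ) g) := by
  obtain ⟨n, ρ, hirr, hχ⟩ := irr_exists_rep χ
  rw [← hχ]
  exact character_inv ρ g

/-- First orthogonality relation. -/
theorem irr_orthonormal [Fintype G] (χ ψ : IrrCharacter G) :
    classInner (χ : G → ℂ) (ψ : G → ℂ) = if χ = ψ then 1 else 0 := by
  classical
  obtain ⟨n, ρ, hρ, hχ⟩ := irr_exists_rep χ
  obtain ⟨m, σ, hσ, hψ⟩ := irr_exists_rep ψ
  have : NeZero (Nat.card G : ℂ) := ⟨by exact_mod_cast Nat.card_pos.ne'⟩
  have : Invertible (Nat.card G : ℂ) := invertibleOfNonzero (NeZero.ne _)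
  have key : classInner (χ : G → ℂ) (ψ : G → ℂ) =
      (Nat.card G : ℂ)⁻¹ * ∑ g : G, ρ.character g * σ.character g⁻¹ := by
    rw [classInner]
    congr 1
    refine Finset.sum_congr rfl (fun g _ => ?_)
    rw [hχ, hψ, irr_inv]
  rw [key]
  by_cases h : χ = ψ
  · rw [if_pos h]
    subst h
    have hσρ : σ.character = ρ.character := hψ.trans hχ.symm
    rw [hσρ]
    have := hρ
    have := Representation.char_orthonormal ρ ρ
    rw [this, if_pos ⟨Representation.Equiv.refl ρ⟩]
  · rw [if_neg h]
    have := hρ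
    have := hσ
    have := Representation.char_orthonormal ρ σ
    rw [this, if_neg]
    rintro ⟨e⟩
    apply h
    apply Subtype.ext
    rw [← hχ, ← hψ]
    exact (Representation.char_iso e).symm

end irr

section trivial

variable {G : Type*} [Group G]

/-- A representation on a one-dimensional space is irreducible. -/
theorem isIrreducible_of_finrank_eq_one {V : Type*} [AddCommGroup V] [Module ℂ V]
    (ρ : Representation ℂ G V) (h : Module.finrank ℂ V = 1) : ρ.IsIrreducible := by
  have hs : IsSimpleModule ℂ V := isSimpleModule_iff_finrank_eq_one.mpr h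
  have hnt : Nontrivial V := Module.nontrivial_of_finrank_pos (R := ℂ) (by omega)
  refine { exists_pair_ne := ⟨⊥, ⊤, ?_⟩, eq_bot_or_eq_top := ?_ }
  · intro hbt
    have : (⊥ : Submodule ℂ V) = ⊤ := congrArg Subrepresentation.toSubmodule hbt
    exact bot_ne_top this
  · intro σ
    rcases eq_bot_or_eq_top σ.toSubmodule with h1 | h1
    · left
      exact Subrepresentation.toSubmodule_injective h1
    · right
      exact Subrepresentation.toSubmodule_injective h1

/-- The trivial character is irreducible. -/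
theorem isIrrCharacter_one : IsIrrCharacter G (fun _ : G => (1 : ℂ)) := by
  refine ⟨1, Representation.trivial ℂ G (Fin 1 → ℂ), ?_, ?_⟩
  · exact isIrreducible_of_finrank_eq_one _ (by simp)
  · funext g
    simp [Representation.character]

/-- The trivial character as an element of `IrrCharacter G`. -/
noncomputable def trivialIrr (G : Type*) [Group G] : IrrCharacter G :=
  ⟨fun _ => 1, isIrrCharacter_one⟩

@[simp] theorem trivialIrr_apply (g : G) : (trivialIrr G : G → ℂ) g = 1 := rfl

end trivial

section classes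

variable {G : Type*} [Group G]

/-- The index of the centralizer of `g` is the size of its conjugacy class. -/
theorem index_centralizer_eq_card_conj (g : G) :
    (Subgroup.centralizer ({g} : Set G)).index = Nat.card {h : G // IsConj g h} := by
  have h1 := MulAction.index_stabilizer (ConjAct G) g
  rw [ConjAct.stabilizer_eq_centralizer] at h1
  have h2 : (Subgroup.centralizer ({g} : Set G)).index =
      (Subgroup.centralizer ({ConjAct.toConjAct g} : Set (ConjAct G))).index := rfl
  rw [h2, h1, ← Nat.card_coe_set_eq]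
  refine Nat.card_congr (Equiv.subtypeEquivRight (fun h => ?_))
  rw [ConjAct.mem_orbit_conjAct, isConj_comm]

end classes

end Cfsg.Agent.Lib.H24
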