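import Cfsg.Agent.Lib.H24.CharComplete
import Cfsg.Agent.Lib.H24.CharBasic
import Mathlib.Algebra.BigOperators.Finprod
import Mathlib.LinearAlgebra.Dimension.Constructions
import Mathlib.RingTheory.Noetherian.Basic

/-!
# Consequences of completeness (helper24's library, part P4 of the character core)

For a finite group `G`:
* `finite_irr` : `Finite (IrrCharacter G)`
* `classFunction_expansion` / `classFunction_expansion_finsum` : `f = ∑ χ, ⟨f, χ⟩ • χ`
* `second_orthogonality` / `second_orthogonality_finsum`
* `sum_irr_one_sq` : `∑ χ(1)^2 = |G|`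
* `card_irr_eq_card_conjClasses`
-/

set_option autoImplicit false

namespace Cfsg.Agent.Lib.H24

open scoped ComplexConjugate
open Cfsg.Agent.Lib.L0

universe u

section finite

variable {G : Type*} [Group G] [Finite G]

/-- A finite group has finitely many irreducible characters. -/
theorem finite_irr : Finite (IrrCharacter G) :=
  (irr_linearIndependent (G := G)).finite_of_isNoetherian

/-- Named instance version of `finite_irr`. -/
instance instFiniteIrr : Finite (IrrCharacter G) := finite_irr

end finite

section classfun

variable {G : Type*} [Group G]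

theorem isClassFunction_zero : IsClassFunction G (0 : G → ℂ) := fun _ _ => rfl

theorem isClassFunction_add {f₁ f₂ : G → ℂ} (h₁ : IsClassFunction G f₁)
    (h₂ : IsClassFunction G f₂) : IsClassFunction G (f₁ + f₂) := fun g h => by
  simp only [Pi.add_apply, h₁ g h, h₂ g h]

theorem isClassFunction_sub {f₁ f₂ : G → ℂ} (h₁ : IsClassFunction G f₁)
    (h₂ : IsClassFunction G f₂) : IsClassFunction G (f₁ - f₂) := fun g h => by
  simp only [Pi.sub_apply, h₁ g h, h₂ g h]

theorem isClassFunction_smul (c : ℂ) {f : G → ℂ} (h₁ : IsClassFunction G f) :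
    IsClassFunction G (c • f) := fun g h => by
  simp only [Pi.smul_apply, h₁ g h]

theorem isClassFunction_sum {ι : Type*} (s : Finset ι) (f : ι → G → ℂ)
    (h : ∀ i ∈ s, IsClassFunction G (f i)) : IsClassFunction G (∑ i ∈ s, f i) := fun g k => by
  simp only [Finset.sum_apply]
  exact Finset.sum_congr rfl (fun i hi => h i hi g k)

theorem isClassFunction_irr (χ : IrrCharacter G) : IsClassFunction G (χ : G → ℂ) :=
  isClassFunction_of_isCharacter (isCharacter_of_irr χ.2)

theorem isClassFunction_eq_of_isConj {f : G → ℂ} (hf : IsClassFunction G f) {g h : G}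
    (hgh : IsConj g h) : f g = f h := by
  obtain ⟨c, hc⟩ := isConj_iff.mp hgh
  rw [← hc, hf]

end classfun

section expansion

variable {G : Type*} [Group G] [Fintype G]

/-- Expansion of a class function in the irreducible characters (`Fintype` sum). -/
theorem classFunction_expansion [Fintype (IrrCharacter G)] (f : G → ℂ)
    (hf : IsClassFunction G f) :
    f = ∑ χ : IrrCharacter G, classInner f (χ : G → ℂ) • (χ : G → ℂ) := by
  classical
  rw [← sub_eq_zero]
  apply eq_zero_of_forall_classInner_irr_eq_zero
  · refine isClassFunction_sub hf (isClassFunction_sum _ _ (fun χ _ => ?_))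
    exact isClassFunction_smul _ (isClassFunction_irr χ)
  · intro ψ
    rw [classInner_sub_left, classInner_sum_left, sub_eq_zero]
    simp only [classInner_smul_left]
    rw [Finset.sum_eq_single ψ]
    · rw [irr_classInner_self ψ.2, mul_one]
    · intro χ _ hχ
      rw [irr_classInner_ne χ.2 ψ.2 (fun h => hχ (Subtype.ext h)), mul_zero]
    · intro h
      exact absurd (Finset.mem_univ ψ) h

/-- Expansion of a class function in the irreducible characters (`finsum` form, as in S0152). -/
theorem classFunction_expansion_finsum (f : G → ℂ) (hf : IsClassFunction G f) :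
    f = ∑ᶠ χ : IrrCharacter G, classInner f (χ : G → ℂ) • (χ : G → ℂ) := by
  have := Fintype.ofFinite (IrrCharacter G)
  rw [finsum_eq_sum_of_fintype]
  exact classFunction_expansion f hf

end expansion

section second

variable {G : Type*} [Group G] [Fintype G]

/-- The indicator function of the conjugacy class of `g`. -/
noncomputable def classIndicator (g : G) : G → ℂ := by
  classical exact fun x => if IsConj g x then 1 else 0

theorem isClassFunction_classIndicator (g : G) : IsClassFunction G (classIndicator g) := by
  classical
  intro x k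
  unfold classIndicator
  have : IsConj g (k * x * k⁻¹) ↔ IsConj g x := by
    constructor
    · intro h
      exact h.trans (isConj_iff.mpr ⟨k⁻¹, by group⟩)
    · intro h
      exact h.trans (isConj_iff.mpr ⟨k, rfl⟩)
  simp only [this]

theorem classInner_classIndicator (g : G) (χ : IrrCharacter G) :
    classInner (classIndicator g) (χ : G → ℂ) =
      (Nat.card G : ℂ)⁻¹ * ((Subgroup.centralizer ({g} : Set G)).index : ℂ) *
        conj ((χ : G → ℂ) g) := by
  classical
  rw [classInner, mul_assoc]
  congr 1
  unfold classIndicator
  simp only [ite_mul, one_mul, zero_mul]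
  rw [← Finset.sum_filter]
  rw [Finset.sum_congr rfl (fun x hx => by
    rw [← isClassFunction_eq_of_isConj (isClassFunction_irr χ) (Finset.mem_filter.mp hx).2])]
  rw [Finset.sum_const, nsmul_eq_mul, index_centralizer_eq_card_conj, Nat.card_eq_fintype_card,
    Fintype.card_subtype]

/-- Second orthogonality relation (`Fintype` sum). -/
theorem second_orthogonality [Fintype (IrrCharacter G)] [DecidableRel (IsConj (α := G))] (g h : G) :
    ∑ χ : IrrCharacter G, (χ : G → ℂ) g * conj ((χ : G → ℂ) h) =
      if IsConj g h then (Nat.card (Subgroup.centralizer ({g} : Set G)) : ℂ) else 0 := by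
  classical
  have hexp := congrFun (classFunction_expansion (classIndicator g) (isClassFunction_classIndicator g)) h
  simp only [Finset.sum_apply, Pi.smul_apply, smul_eq_mul, classInner_classIndicator] at hexp
  -- hexp : δ_g(h) = Σ χ, |G|⁻¹ * idx * conj(χ g) * χ h
  have hG : (Nat.card G : ℂ) ≠ 0 := by exact_mod_cast (Nat.card_pos (α := G)).ne'
  have hidx : ((Subgroup.centralizer ({g} : Set G)).index : ℂ) ≠ 0 := by
    have := Subgroup.index_mul_card (Subgroup.centralizer ({g} : Set G))
    intro h0
    have h1 : (Subgroup.centralizer ({g} : Set G)).index = 0 := by exact_mod_cast h0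
    rw [h1, zero_mul] at this
    exact (Nat.card_pos (α := G)).ne' this.symm
  have hmul : ((Subgroup.centralizer ({g} : Set G)).index : ℂ) *
      (Nat.card (Subgroup.centralizer ({g} : Set G)) : ℂ) = (Nat.card G : ℂ) := by
    exact_mod_cast Subgroup.index_mul_card (Subgroup.centralizer ({g} : Set G))
  -- conjugate sum
  have hsum : ∑ χ : IrrCharacter G, conj ((χ : G → ℂ) g) * (χ : G → ℂ) h =
      (Nat.card (Subgroup.centralizer ({g} : Set G)) : ℂ) * classIndicator g h := by
    rw [hexp, Finset.mul_sum]
    refine Finset.sum_congr rfl (fun χ _ => ?_)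
    field_simp
    rw [← hmul]
    ring
  have hconj : ∑ χ : IrrCharacter G, (χ : G → ℂ) g * conj ((χ : G → ℂ) h) =
      conj (∑ χ : IrrCharacter G, conj ((χ : G → ℂ) g) * (χ : G → ℂ) h) := by
    rw [map_sum]
    refine Finset.sum_congr rfl (fun χ _ => ?_)
    rw [map_mul, Complex.conj_conj]
  rw [hconj, hsum, map_mul, Complex.conj_natCast]
  unfold classIndicator
  split_ifs <;> simp

/-- Second orthogonality relation (`finsum` form, as in S0145). -/
theorem second_orthogonality_finsum (g h : G) :
    (IsConj g h → ∑ᶠ χ : IrrCharacter G, (χ : G → ℂ) g * conj ((χ : G → ℂ) h) =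
      (Nat.card (Subgroup.centralizer ({g} : Set G)) : ℂ)) ∧
    (¬ IsConj g h → ∑ᶠ χ : IrrCharacter G, (χ : G → ℂ) g * conj ((χ : G → ℂ) h) = 0) := by
  classical
  have := Fintype.ofFinite (IrrCharacter G)
  rw [finsum_eq_sum_of_fintype, second_orthogonality]
  constructor
  · intro h1; rw [if_pos h1]
  · intro h1; rw [if_neg h1]

/-- The sum of the squares of the degrees is the group order. -/
theorem sum_irr_one_sq [Fintype (IrrCharacter G)] :
    ∑ χ : IrrCharacter G, (χ : G → ℂ) 1 ^ 2 = (Nat.card G : ℂ) := by
  classical
  have h := second_orthogonality (G := G) 1 1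
  rw [if_pos (IsConj.refl 1)] at h
  have hc : Subgroup.centralizer ({1} : Set G) = ⊤ := by
    ext x
    simp [Subgroup.mem_centralizer_iff]
  rw [hc, Subgroup.card_top] at h
  rw [← h]
  refine Finset.sum_congr rfl (fun χ _ => ?_)
  obtain ⟨n, _, hn⟩ := irr_one_eq χ
  rw [hn, Complex.conj_natCast, sq]

/-- Two elements are conjugate iff all irreducible characters agree on them. -/
theorem isConj_iff_forall_irr_eq (g h : G) :
    IsConj g h ↔ ∀ χ : IrrCharacter G, (χ : G → ℂ) g = (χ : G → ℂ) h := by
  classical
  have := Fintype.ofFinite (IrrCharacter G)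
  constructor
  · intro hgh χ
    exact isClassFunction_eq_of_isConj (isClassFunction_irr χ) hgh
  · intro hall
    by_contra hn
    have h1 := second_orthogonality (G := G) g h
    rw [if_neg hn] at h1
    have h2 := second_orthogonality (G := G) h h
    rw [if_pos (IsConj.refl h)] at h2
    have h3 : ∑ χ : IrrCharacter G, (χ : G → ℂ) g * conj ((χ : G → ℂ) h) =
        ∑ χ : IrrCharacter G, (χ : G → ℂ) h * conj ((χ : G → ℂ) h) :=
      Finset.sum_congr rfl (fun χ _ => by rw [hall χ])
    rw [h1, h2] at h3
    have h4 : Nat.card (Subgroup.centralizer ({h} : Set G)) = 0 := by exact_mod_cast h3.symm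
    exact (Nat.card_pos (α := Subgroup.centralizer ({h} : Set G))).ne' h4

end second

section count

variable {G : Type*} [Group G] [Finite G]

/-- The number of irreducible characters equals the number of conjugacy classes. -/
theorem card_irr_eq_card_conjClasses : Nat.card (IrrCharacter G) = Nat.card (ConjClasses G) := by
  classical
  have := Fintype.ofFinite G
  have := Fintype.ofFinite (IrrCharacter G)
  have := Fintype.ofFinite (ConjClasses G)
  -- the space of class functions as the range of composition with `ConjClasses.mk`
  let Φ : (ConjClasses G → ℂ) →ₗ[ℂ] (G → ℂ) := LinearMap.funLeft ℂ ℂ ConjClasses.mk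
  have hΦinj : Function.Injective Φ := by
    intro φ₁ φ₂ h
    funext c
    obtain ⟨g, rfl⟩ := ConjClasses.mk_surjective c
    exact congrFun h g
  have hmem : ∀ f : G → ℂ, f ∈ LinearMap.range Φ ↔ IsClassFunction G f := by
    intro f
    constructor
    · rintro ⟨φ, rfl⟩ g k
      show φ (ConjClasses.mk (k * g * k⁻¹)) = φ (ConjClasses.mk g)
      congr 1
      rw [ConjClasses.mk_eq_mk_iff_isConj]
      exact (isConj_iff.mpr ⟨k, rfl⟩).symm
    · intro hf
      refine ⟨fun c => Quotient.liftOn c f (fun a b hab => ?_), ?_⟩
      · exact isClassFunction_eq_of_isConj hf hab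
      · funext g
        rfl
  have hspan : Submodule.span ℂ (Set.range (fun χ : IrrCharacter G => (χ : G → ℂ))) =
      LinearMap.range Φ := by
    apply le_antisymm
    · rw [Submodule.span_le]
      rintro _ ⟨χ, rfl⟩
      exact (hmem _).mpr (isClassFunction_irr χ)
    · intro f hf
      rw [classFunction_expansion f ((hmem f).mp hf)]
      refine Submodule.sum_mem _ (fun χ _ => Submodule.smul_mem _ _ ?_)
      exact Submodule.subset_span ⟨χ, rfl⟩
  have h1 := finrank_span_eq_card (irr_linearIndependent (G := G))
  rw [hspan, LinearMap.finrank_range_of_inj hΦinj, Module.finrank_fintype_fun_eq_card] at h1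
  rw [Nat.card_eq_fintype_card, Nat.card_eq_fintype_card, h1]

end count

end Cfsg.Agent.Lib.H24
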