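import Cfsg.Agent.Lib.H24.CharSchur

/-!
# Normal subgroups and kernels of irreducible characters (helper24's library)

* `sum_normal_rep_eq_zero` : for irreducible `ρ` and a normal subgroup `N` not in the kernel,
  `∑ n : N, ρ n = 0`.
* `sum_normal_char_mul_eq_zero` : hence `∑ n : N, χ (g * n) = 0` for all `g`.
-/

set_option autoImplicit false

namespace Cfsg.Agent.Lib.H24

open scoped ComplexConjugate
open Cfsg.Agent.Lib.L0

section kernel

variable {G : Type*} [Group G] [Finite G] {V : Type*} [AddCommGroup V] [Module ℂ V]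
  [FiniteDimensional ℂ V]

/-- For an irreducible representation and a normal subgroup `N` on which the character is not
constantly `χ(1)`, the sum of `ρ n` over `N` vanishes. -/
theorem sum_normal_rep_eq_zero (ρ : Representation ℂ G V) (hρ : ρ.IsIrreducible)
    (N : Subgroup G) [N.Normal] [Fintype N]
    (hx : ∃ x ∈ N, ρ.character x ≠ ρ.character 1) : ∑ n : N, ρ (n : G) = 0 := by
  classical
  obtain ⟨x, hxN, hxne⟩ := hx
  set e : V →ₗ[ℂ] V := ∑ n : N, ρ (n : G) with he
  have hcomm : ∀ k : G, e ∘ₗ ρ k = ρ k ∘ₗ e := by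
    intro k
    show e * ρ k = ρ k * e
    rw [he, Finset.sum_mul, Finset.mul_sum]
    -- reindex n ↦ k⁻¹ n k
    let φ : N ≃ N :=
      { toFun := fun n => ⟨k⁻¹ * n * k, by
          have := ‹N.Normal›.conj_mem n n.2 k⁻¹
          simpa using this⟩
        invFun := fun n => ⟨k * n * k⁻¹, ‹N.Normal›.conj_mem n n.2 k⟩
        left_inv := fun n => by ext; simp [mul_assoc]
        right_inv := fun n => by ext; simp [mul_assoc] }
    refine Fintype.sum_equiv φ _ _ (fun n => ?_)
    show ρ (n : G) * ρ k = ρ k * ρ ((φ n : N) : G)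
    rw [← map_mul, ← map_mul]
    congr 1
    show (n : G) * k = k * (k⁻¹ * (n : G) * k)
    group
  have hS := schur_scalar ρ hρ e hcomm
  set c : ℂ := LinearMap.trace ℂ V e / (Module.finrank ℂ V : ℂ) with hc
  -- ρ x * e = e
  have hxe : ρ x * e = e := by
    rw [he, Finset.mul_sum]
    refine Fintype.sum_equiv (Equiv.mulLeft (⟨x, hxN⟩ : N)) _ _ (fun n => ?_)
    rw [← map_mul]
    rfl
  rw [hS] at hxe
  by_cases hc0 : c = 0
  · rw [hS, hc0, zero_smul]
  · exfalso
    apply hxne
    rw [char_eq_char_one_iff]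
    have h1 : c • (ρ x * LinearMap.id) = c • LinearMap.id := by
      rw [← mul_smul_comm]; exact hxe
    have h2 := smul_right_injective _ hc0 h1
    rw [show (LinearMap.id : V →ₗ[ℂ] V) = 1 from rfl, mul_one] at h2
    exact h2

/-- For an irreducible character and a normal subgroup not contained in its kernel, the sum of
the character over any coset vanishes. -/
theorem sum_normal_char_mul_eq_zero (ρ : Representation ℂ G V) (hρ : ρ.IsIrreducible)
    (N : Subgroup G) [N.Normal] [Fintype N]
    (hx : ∃ x ∈ N, ρ.character x ≠ ρ.character 1) (g : G) :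
    ∑ n : N, ρ.character (g * n) = 0 := by
  have h := sum_normal_rep_eq_zero ρ hρ N hx
  have h1 : ∑ n : N, ρ.character (g * n) = LinearMap.trace ℂ V (ρ g * ∑ n : N, ρ (n : G)) := by
    rw [Finset.mul_sum, map_sum]
    refine Finset.sum_congr rfl (fun n _ => ?_)
    rw [← map_mul]
    rfl
  rw [h1, h, mul_zero, map_zero]

end kernel

section irr

variable {G : Type*} [Group G] [Finite G]

theorem irr_sum_normal_mul_eq_zero (χ : IrrCharacter G) (N : Subgroup G) [N.Normal] [Fintype N]
    (hx : ∃ x ∈ N, (χ : G → ℂ) x ≠ (χ : G → ℂ) 1) (g : G) :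
    ∑ n : N, (χ : G → ℂ) (g * n) = 0 := by
  obtain ⟨n, ρ, hρ, hχ⟩ := χ.2
  rw [← hχ] at hx ⊢
  exact sum_normal_char_mul_eq_zero ρ hρ N hx g

end irr

end Cfsg.Agent.Lib.H24
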