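import Cfsg.Agent.Lib.H24.CharKer
import Cfsg.Agent.Lib.H24.CharKernel
import Cfsg.Agent.Lib.H23.DegreeDvd

/-!
# Deflation of characters to quotients; degrees and kernels (helper24's library)

* `deflRep ρ N h` : the representation of `G ⧸ N` induced by `ρ` when `N` acts trivially.
* `exists_deflation` : an irreducible character with `N` in its kernel is inflated from `G ⧸ N`.
* `charDegree_dvd_index` : then `χ(1)` divides `|G : N|`.
* `sum_sq_of_le_ker` : `∑_{χ, N ≤ ker χ} χ(1)² = |G : N|`.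
* `inflIrr ψ` : inflation of an irreducible character of `G ⧸ N`.
-/

set_option autoImplicit false

namespace Cfsg.Agent.Lib.H24

open scoped ComplexConjugate
open Cfsg Cfsg.Agent.Lib.L0 Cfsg.Agent.Lib.H23

section deflation

variable {G : Type*} [Group G] {V : Type*} [AddCommGroup V] [Module ℂ V]

/-- Deflation of a representation on which `N` acts trivially. -/
def deflRep (ρ : Representation ℂ G V) (N : Subgroup G) [N.Normal] (h : ∀ n ∈ N, ρ n = 1) :
    Representation ℂ (G ⧸ N) V :=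
  QuotientGroup.lift N ρ (fun n hn => by rw [MonoidHom.mem_ker]; exact h n hn)

theorem deflRep_mk (ρ : Representation ℂ G V) (N : Subgroup G) [N.Normal]
    (h : ∀ n ∈ N, ρ n = 1) (g : G) : deflRep ρ N h (g : G ⧸ N) = ρ g := rfl

/-- Subrepresentations of `ρ` and of its deflation coincide. -/
def deflSubrepOrderIso (ρ : Representation ℂ G V) (N : Subgroup G) [N.Normal]
    (h : ∀ n ∈ N, ρ n = 1) : Subrepresentation ρ ≃o Subrepresentation (deflRep ρ N h) where
  toFun U := ⟨U.toSubmodule, fun q v hv => by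
    obtain ⟨g, rfl⟩ := QuotientGroup.mk_surjective q
    exact U.apply_mem_toSubmodule g hv⟩
  invFun U := ⟨U.toSubmodule, fun g v hv => U.apply_mem_toSubmodule (g : G ⧸ N) hv⟩
  left_inv U := rfl
  right_inv U := rfl
  map_rel_iff' := Iff.rfl

theorem isIrreducible_deflRep (ρ : Representation ℂ G V) (hρ : ρ.IsIrreducible) (N : Subgroup G)
    [N.Normal] (h : ∀ n ∈ N, ρ n = 1) : (deflRep ρ N h).IsIrreducible :=
  (deflSubrepOrderIso ρ N h).isSimpleOrder_iff.mp hρ

end deflation

section defl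

variable {G : Type*} [Group G] [Finite G]

/-- An irreducible character with `N` in its kernel comes from an irreducible character of
`G ⧸ N`. -/
theorem exists_deflation (χ : IrrCharacter G) (N : Subgroup G) [N.Normal]
    (hN : ∀ n ∈ N, (χ : G → ℂ) n = (χ : G → ℂ) 1) :
    ∃ ψ : IrrCharacter (G ⧸ N), ∀ g : G, (ψ : G ⧸ N → ℂ) (g : G ⧸ N) = (χ : G → ℂ) g := by
  obtain ⟨n, ρ, hρ, hχ⟩ := irr_exists_rep χ
  have h : ∀ m ∈ N, ρ m = 1 := by
    intro m hm
    have := hN m hm
    rw [← hχ] at this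
    exact (char_eq_char_one_iff ρ m).mp this
  refine ⟨⟨(deflRep ρ N h).character, ⟨n, deflRep ρ N h, isIrreducible_deflRep ρ hρ N h, rfl⟩⟩, ?_⟩
  intro g
  rw [← hχ]
  rfl

/-- If `N` is in the kernel of the irreducible character `χ`, then `χ(1)` divides `|G : N|`. -/
theorem charDegree_dvd_index (χ : IrrCharacter G) (N : Subgroup G) [N.Normal]
    (hN : ∀ n ∈ N, (χ : G → ℂ) n = (χ : G → ℂ) 1) : charDegree (χ : G → ℂ) ∣ N.index := by
  obtain ⟨ψ, hψ⟩ := exists_deflation χ N hN
  have h1 := charDegree_dvd_card (ψ : G ⧸ N → ℂ) ψ.2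
  have h2 : charDegree (ψ : G ⧸ N → ℂ) = charDegree (χ : G → ℂ) := by
    apply charDegree_eq_of_apply_one
    have := hψ 1
    rw [QuotientGroup.mk_one] at this
    rw [this]
    exact apply_one_eq_charDegree _ χ.2
  rw [h2, ← Subgroup.index_eq_card] at h1
  exact h1

/-- The degree of an irreducible character divides the index of its kernel. -/
theorem charDegree_dvd_index_charKer (χ : IrrCharacter G) :
    charDegree (χ : G → ℂ) ∣ (charKer (χ : G → ℂ) (isCharacter_of_irr χ.2)).index :=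
  charDegree_dvd_index χ _ (fun _ hn => hn)

/-- Inflation of an irreducible character of a quotient. -/
noncomputable def inflIrr (N : Subgroup G) [N.Normal] (ψ : IrrCharacter (G ⧸ N)) : IrrCharacter G :=
  ⟨(ψ : G ⧸ N → ℂ) ∘ (QuotientGroup.mk' N),
    isIrrCharacter_comp_of_surjective (QuotientGroup.mk' N) (QuotientGroup.mk'_surjective N) ψ.2⟩

theorem inflIrr_apply (N : Subgroup G) [N.Normal] (ψ : IrrCharacter (G ⧸ N)) (g : G) :
    (inflIrr N ψ : G → ℂ) g = (ψ : G ⧸ N → ℂ) (g : G ⧸ N) := rfl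

theorem charDegree_inflIrr (N : Subgroup G) [N.Normal] (ψ : IrrCharacter (G ⧸ N)) :
    charDegree (inflIrr N ψ : G → ℂ) = charDegree (ψ : G ⧸ N → ℂ) := by
  apply charDegree_eq_of_apply_one
  rw [inflIrr_apply, QuotientGroup.mk_one]
  exact apply_one_eq_charDegree _ ψ.2

theorem charKer_inflIrr (N : Subgroup G) [N.Normal] (ψ : IrrCharacter (G ⧸ N)) :
    charKer (inflIrr N ψ : G → ℂ) (isCharacter_of_irr (inflIrr N ψ).2) =
      (charKer (ψ : G ⧸ N → ℂ) (isCharacter_of_irr ψ.2)).comap (QuotientGroup.mk' N) := by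
  ext g
  rw [Subgroup.mem_comap, mem_charKer, mem_charKer, inflIrr_apply, inflIrr_apply,
    QuotientGroup.mk_one]
  rfl

theorem index_charKer_inflIrr (N : Subgroup G) [N.Normal] (ψ : IrrCharacter (G ⧸ N)) :
    (charKer (inflIrr N ψ : G → ℂ) (isCharacter_of_irr (inflIrr N ψ).2)).index =
      (charKer (ψ : G ⧸ N → ℂ) (isCharacter_of_irr ψ.2)).index := by
  rw [charKer_inflIrr]
  exact Subgroup.index_comap_of_surjective _ (QuotientGroup.mk'_surjective N)

/-- `∑ χ(1)²` over the irreducible characters with `N` in the kernel is `|G : N|`. -/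
theorem sum_sq_of_le_ker [Fintype (IrrCharacter G)] (N : Subgroup G) [N.Normal]
    [DecidablePred (fun χ : IrrCharacter G => ∀ n ∈ N, (χ : G → ℂ) n = (χ : G → ℂ) 1)] :
    ∑ χ ∈ Finset.univ.filter (fun χ : IrrCharacter G => ∀ n ∈ N, (χ : G → ℂ) n = (χ : G → ℂ) 1),
      (charDegree (χ : G → ℂ)) ^ 2 = N.index := by
  classical
  have := Fintype.ofFinite G
  have := Fintype.ofFinite N
  -- column orthogonality summed over N
  have h1 : ∑ n : N, ∑ χ : IrrCharacter G, (χ : G → ℂ) 1 * (χ : G → ℂ) (n : G) = (Nat.card G : ℂ) := by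
    simp only [sum_irr_one_mul]
    rw [Finset.sum_eq_single (1 : N)]
    · simp
    · intro n _ hn
      rw [if_neg]
      intro h
      exact hn (Subtype.ext h)
    · intro h; exact absurd (Finset.mem_univ _) h
  rw [Finset.sum_comm] at h1
  have h2 : ∀ χ : IrrCharacter G, ∑ n : N, (χ : G → ℂ) 1 * (χ : G → ℂ) (n : G) =
      if (∀ n ∈ N, (χ : G → ℂ) n = (χ : G → ℂ) 1) then
        (Nat.card N : ℂ) * ((charDegree (χ : G → ℂ) : ℕ) : ℂ) ^ 2 else 0 := by
    intro χ
    split_ifs with h
    · have : ∀ n : N, (χ : G → ℂ) 1 * (χ : G → ℂ) (n : G) = (χ : G → ℂ) 1 * (χ : G → ℂ) 1 :=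
        fun n => by rw [h n n.2]
      simp only [this, Finset.sum_const, Finset.card_univ, nsmul_eq_mul,
        ← Nat.card_eq_fintype_card]
      rw [apply_one_eq_charDegree _ χ.2]
      ring
    · push Not at h
      rw [← Finset.mul_sum]
      have := irr_sum_normal_mul_eq_zero χ N h 1
      simp only [one_mul] at this
      rw [this, mul_zero]
  simp only [h2] at h1
  rw [Finset.sum_ite, Finset.sum_const_zero, add_zero, ← Finset.mul_sum] at h1
  have h3 : ((Nat.card N * ∑ χ ∈ Finset.univ.filter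
      (fun χ : IrrCharacter G => ∀ n ∈ N, (χ : G → ℂ) n = (χ : G → ℂ) 1),
      (charDegree (χ : G → ℂ)) ^ 2 : ℕ) : ℂ) = ((Nat.card N * N.index : ℕ) : ℂ) := by
    rw [mul_comm (Nat.card N) N.index, Subgroup.index_mul_card]
    push_cast
    exact h1
  have h4 : Nat.card N * ∑ χ ∈ Finset.univ.filter
      (fun χ : IrrCharacter G => ∀ n ∈ N, (χ : G → ℂ) n = (χ : G → ℂ) 1),
      (charDegree (χ : G → ℂ)) ^ 2 = Nat.card N * N.index := by exact_mod_cast h3
  exact Nat.eq_of_mul_eq_mul_left Nat.card_pos h4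

end defl

end Cfsg.Agent.Lib.H24
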