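import Cfsg.Agent.Lib.H24.CharOrth
import Cfsg.Agent.Lib.L0.CharOps
import Cfsg.Agent.Lib.L0.CharLinear
import Cfsg.Agent.Lib.L0.CharDecomp

/-!
# Kernels of characters (helper24's library)

* `charKer χ hχ` : the kernel `{g | χ g = χ 1}` of a character, as a (normal) subgroup.
* `irr_eq_trivial_of_charKer_eq_top` : an irreducible character with full kernel is trivial.
* `char_commutator_eq` : if all "small" irreducible characters are linear, a character of small
  degree is trivial on commutators.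
-/

set_option autoImplicit false

namespace Cfsg.Agent.Lib.H24

open scoped ComplexConjugate
open Cfsg Cfsg.Agent.Lib.L0

section ker

variable {G : Type*} [Group G] [Finite G]

/-- The kernel of a character. -/
def charKer (χ : G → ℂ) (hχ : IsCharacter G χ) : Subgroup G where
  carrier := {g | χ g = χ 1}
  one_mem' := rfl
  mul_mem' := by
    intro a b ha hb
    obtain ⟨n, ρ, rfl⟩ := hχ
    simp only [Set.mem_ofPred_eq] at ha hb ⊢
    rw [char_eq_char_one_iff] at ha hb ⊢
    rw [map_mul, ha, hb, one_mul]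
  inv_mem' := by
    intro a ha
    obtain ⟨n, ρ, rfl⟩ := hχ
    simp only [Set.mem_ofPred_eq] at ha ⊢
    rw [char_eq_char_one_iff] at ha ⊢
    have h : ρ a⁻¹ * ρ a = 1 := by rw [← map_mul, inv_mul_cancel, map_one]
    rw [ha, mul_one] at h
    exact h

theorem mem_charKer {χ : G → ℂ} {hχ : IsCharacter G χ} {g : G} :
    g ∈ charKer χ hχ ↔ χ g = χ 1 := Iff.rfl

instance charKer_normal (χ : G → ℂ) (hχ : IsCharacter G χ) : (charKer χ hχ).Normal := by
  constructor
  intro a ha g
  rw [mem_charKer] at ha ⊢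
  rw [isClassFunction_of_isCharacter hχ a g, ha]

theorem mem_charKer_rep {V : Type*} [AddCommGroup V] [Module ℂ V] [FiniteDimensional ℂ V]
    (ρ : Representation ℂ G V) {χ : G → ℂ} (hχ : IsCharacter G χ) (h : ρ.character = χ) (g : G) :
    g ∈ charKer χ hχ ↔ ρ g = 1 := by
  rw [mem_charKer, ← h, char_eq_char_one_iff]

theorem irr_eq_trivial_of_charKer_eq_top {χ : G → ℂ} (hχ : IsIrrCharacter G χ)
    (h : charKer χ (isCharacter_of_irr hχ) = ⊤) : χ = fun _ => 1 := by
  classical
  have := Fintype.ofFinite G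
  have hconst : ∀ g : G, χ g = χ 1 := by
    intro g
    have : g ∈ charKer χ (isCharacter_of_irr hχ) := by rw [h]; trivial
    exact this
  by_contra hne
  have h0 := irr_classInner_ne hχ (isIrrCharacter_one (G := G)) hne
  simp only [classInner, hconst, Pi.one_apply, map_one, mul_one, Finset.sum_const,
    Finset.card_univ, nsmul_eq_mul] at h0
  have hG : (Nat.card G : ℂ) ≠ 0 := by exact_mod_cast (Nat.card_pos (α := G)).ne'
  rw [← Nat.card_eq_fintype_card, ← mul_assoc, inv_mul_cancel₀ hG, one_mul] at h0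
  exact irr_one_ne_zero ⟨χ, hχ⟩ h0

/-- Linear characters are trivial on commutators. -/
theorem linear_commutator {ψ : G → ℂ} (hψ : IsCharacter G ψ) (h1 : ψ 1 = 1) (a b : G) :
    ψ (a * b * a⁻¹ * b⁻¹) = 1 := by
  rw [linear_char_mul hψ h1, linear_char_mul hψ h1, linear_char_mul hψ h1]
  have ha : ψ a * ψ a⁻¹ = 1 := by rw [← linear_char_mul hψ h1, mul_inv_cancel, h1]
  have hb : ψ b * ψ b⁻¹ = 1 := by rw [← linear_char_mul hψ h1, mul_inv_cancel, h1]
  calc ψ a * ψ b * ψ a⁻¹ * ψ b⁻¹ = (ψ a * ψ a⁻¹) * (ψ b * ψ b⁻¹) := by ring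
    _ = 1 := by rw [ha, hb, one_mul]

theorem list_sum_apply (l : List (G → ℂ)) (g : G) : l.sum g = (l.map (fun ψ => ψ g)).sum := by
  induction l with
  | nil => simp
  | cons a l ih => simp [ih]

/-- Degrees in a decomposition are bounded by the total degree. -/
theorem list_degree_le (l : List (G → ℂ)) (hl : ∀ ψ ∈ l, IsIrrCharacter G ψ) :
    ∃ d : ℕ, l.sum 1 = d ∧ ∀ ψ ∈ l, ∃ n : ℕ, ψ 1 = n ∧ n ≤ d := by
  induction l with
  | nil => exact ⟨0, by simp, by simp⟩
  | cons a l ih =>
    obtain ⟨d, hd, hle⟩ := ih (fun ψ hψ => hl ψ (List.mem_cons_of_mem _ hψ))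
    obtain ⟨n, _, hn⟩ := irr_one_eq ⟨a, hl a List.mem_cons_self⟩
    refine ⟨n + d, ?_, ?_⟩
    · simp only [List.sum_cons, Pi.add_apply, hd]
      rw [show a 1 = (n : ℂ) from hn]
      push_cast
      ring
    · intro ψ hψ
      rcases List.mem_cons.mp hψ with h | h
      · subst h
        exact ⟨n, hn, by omega⟩
      · obtain ⟨m, hm, hmd⟩ := hle ψ h
        exact ⟨m, hm, by omega⟩

/-- If every irreducible character of degree at most `χ 1` is linear, then `χ` is trivial on
commutators. -/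
theorem char_commutator_eq {χ : G → ℂ} (hχ : IsCharacter G χ) (d : ℕ) (hd : χ 1 = d)
    (hsmall : ∀ ψ : IrrCharacter G, ∀ n : ℕ, (ψ : G → ℂ) 1 = n → n ≤ d → n = 1) (a b : G) :
    χ (a * b * a⁻¹ * b⁻¹) = χ 1 := by
  obtain ⟨l, hl, rfl⟩ := isCharacter_exists_irr_decomp hχ
  obtain ⟨d', hd', hle⟩ := list_degree_le l hl
  have hdd : d' = d := by
    have : (d' : ℂ) = (d : ℂ) := by rw [← hd', hd]
    exact_mod_cast this
  subst hdd
  rw [list_sum_apply, list_sum_apply]
  congr 1
  apply List.map_congr_left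
  intro ψ hψ
  obtain ⟨n, hn, hnd⟩ := hle ψ hψ
  have h1 : n = 1 := hsmall ⟨ψ, hl ψ hψ⟩ n hn hnd
  subst h1
  have hψ1 : ψ 1 = 1 := by simpa using hn
  rw [linear_commutator (isCharacter_of_irr (hl ψ hψ)) hψ1, hψ1]

end ker

end Cfsg.Agent.Lib.H24
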