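import Cfsg.Agent.Lib.H24.CharOrth
import Mathlib.Tactic.Group

/-!
# Schur-type identities for irreducible characters (helper24's library)

For an irreducible representation `ρ` of a finite group on a finite-dimensional space `V`
with character `χ`:
* `schur_scalar` : an operator commuting with `ρ` is `(trace T / dim V) • id`
* `sum_rep_conj` : `∑ x, ρ (x g x⁻¹) = (|G| χ(g) / χ(1)) • id`
* `sum_char_conj_mul` : `∑ x, χ (x g x⁻¹ h) = |G| χ(g) χ(h) / χ(1)`  (generalized orthogonality)
* `sum_char_mul_char` : `∑ y, χ(y) χ(y⁻¹ w) = |G| χ(w) / χ(1)`  (convolution)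
* `sum_char_commutator_mul` : `∑ x y, χ (x y x⁻¹ y⁻¹ w) = |G|² χ(w) / χ(1)²`
* `sum_irr_one_mul` : `∑ χ, χ(1) χ(g) = if g = 1 then |G| else 0`
-/

set_option autoImplicit false

namespace Cfsg.Agent.Lib.H24

open scoped ComplexConjugate
open Cfsg.Agent.Lib.L0

section schur

variable {G : Type*} [Group G] {V : Type*} [AddCommGroup V] [Module ℂ V] [FiniteDimensional ℂ V]

omit [FiniteDimensional ℂ V] in
theorem nontrivial_of_irreducible (ρ : Representation ℂ G V) (hρ : ρ.IsIrreducible) :
    Nontrivial V := by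
  by_contra hV
  rw [not_nontrivial_iff_subsingleton] at hV
  have hnt : Nontrivial (Subrepresentation ρ) := IsSimpleOrder.toNontrivial
  obtain ⟨x, y, hxy⟩ := exists_pair_ne (Subrepresentation ρ)
  apply hxy
  apply Subrepresentation.toSubmodule_injective
  ext v
  have : v = 0 := Subsingleton.elim _ _
  simp [this]

theorem finrank_ne_zero_of_irreducible (ρ : Representation ℂ G V) (hρ : ρ.IsIrreducible) :
    (Module.finrank ℂ V : ℂ) ≠ 0 := by
  have := nontrivial_of_irreducible ρ hρ
  exact_mod_cast (Module.finrank_pos (R := ℂ) (M := V)).ne'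

/-- Schur's lemma: an operator commuting with an irreducible representation is a scalar,
namely `trace T / dim V`. -/
theorem schur_scalar (ρ : Representation ℂ G V) (hρ : ρ.IsIrreducible) (T : V →ₗ[ℂ] V)
    (hT : ∀ g : G, T ∘ₗ ρ g = ρ g ∘ₗ T) :
    T = (LinearMap.trace ℂ V T / (Module.finrank ℂ V : ℂ)) • LinearMap.id := by
  have := hρ
  let T' : Representation.IntertwiningMap ρ ρ := ⟨T, hT⟩
  obtain ⟨c, hc⟩ :=
    (Representation.IsIrreducible.algebraMap_intertwiningMap_bijective_of_isAlgClosed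
      (ρ := ρ)).2 T'
  have hTc : T = c • LinearMap.id := by
    have h1 := congrArg Representation.IntertwiningMap.toLinearMap hc
    rw [Representation.IntertwiningMap.algebraMap_apply] at h1
    exact h1.symm
  have htr : LinearMap.trace ℂ V T = c * (Module.finrank ℂ V : ℂ) := by
    rw [hTc, map_smul, LinearMap.trace_id, smul_eq_mul]
  rw [htr, mul_div_assoc, div_self (finrank_ne_zero_of_irreducible ρ hρ), mul_one]
  exact hTc

variable [Fintype G]

/-- The class sum acts as a scalar on an irreducible representation. -/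
theorem sum_rep_conj (ρ : Representation ℂ G V) (hρ : ρ.IsIrreducible) (g : G) :
    ∑ x : G, ρ (x * g * x⁻¹) =
      ((Nat.card G : ℂ) * ρ.character g / ρ.character 1) • LinearMap.id := by
  have hcomm : ∀ k : G, (∑ x : G, ρ (x * g * x⁻¹)) ∘ₗ ρ k = ρ k ∘ₗ (∑ x : G, ρ (x * g * x⁻¹)) := by
    intro k
    show (∑ x : G, ρ (x * g * x⁻¹)) * ρ k = ρ k * (∑ x : G, ρ (x * g * x⁻¹))
    rw [Finset.sum_mul, Finset.mul_sum]
    refine Fintype.sum_equiv (Equiv.mulLeft k⁻¹) _ _ (fun x => ?_)
    simp only [Equiv.coe_mulLeft]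
    rw [← map_mul, ← map_mul]
    congr 1
    group
  have h := schur_scalar ρ hρ _ hcomm
  rw [map_sum] at h
  have htr : ∑ x : G, LinearMap.trace ℂ V (ρ (x * g * x⁻¹)) = (Nat.card G : ℂ) * ρ.character g := by
    have : ∀ x : G, LinearMap.trace ℂ V (ρ (x * g * x⁻¹)) = ρ.character g :=
      fun x => Representation.char_conj ρ g x
    simp only [this, Finset.sum_const, Finset.card_univ, nsmul_eq_mul, Nat.card_eq_fintype_card]
  rw [htr] at h
  rw [h, Representation.char_one]

/-- Generalized orthogonality relation. -/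
theorem sum_char_conj_mul (ρ : Representation ℂ G V) (hρ : ρ.IsIrreducible) (g h : G) :
    ∑ x : G, ρ.character (x * g * x⁻¹ * h) =
      (Nat.card G : ℂ) * ρ.character g * ρ.character h / ρ.character 1 := by
  have h1 : ∑ x : G, ρ.character (x * g * x⁻¹ * h) =
      LinearMap.trace ℂ V ((∑ x : G, ρ (x * g * x⁻¹)) * ρ h) := by
    rw [Finset.sum_mul, map_sum]
    refine Finset.sum_congr rfl (fun x _ => ?_)
    rw [← map_mul]
    rfl
  rw [h1, sum_rep_conj ρ hρ g, smul_mul_assoc, map_smul, smul_eq_mul]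
  have : LinearMap.trace ℂ V (LinearMap.id * ρ h) = ρ.character h := by
    rw [show (LinearMap.id : V →ₗ[ℂ] V) = 1 from rfl, one_mul]
    rfl
  rw [this]
  ring

/-- `∑ y, χ(y) χ(y⁻¹) = |G|` for an irreducible character. -/
theorem sum_char_mul_char_inv (ρ : Representation ℂ G V) (hρ : ρ.IsIrreducible) :
    ∑ y : G, ρ.character y * ρ.character y⁻¹ = (Nat.card G : ℂ) := by
  have := hρ
  have h1 : Cfsg.classInner ρ.character ρ.character = 1 := by
    classical
    rw [classInner_irr_eq, if_pos ⟨Representation.Equiv.refl ρ⟩]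
  rw [classInner_char_eq] at h1
  have hG : (Nat.card G : ℂ) ≠ 0 := by exact_mod_cast (Nat.card_pos (α := G)).ne'
  field_simp at h1
  exact h1

/-- Convolution identity for an irreducible character. -/
theorem sum_char_mul_char (ρ : Representation ℂ G V) (hρ : ρ.IsIrreducible) (w : G) :
    ∑ y : G, ρ.character y * ρ.character (y⁻¹ * w) =
      (Nat.card G : ℂ) * ρ.character w / ρ.character 1 := by
  -- the operator T = ∑ y, χ(y⁻¹) • ρ y
  have ha : IsClassFunction G (fun y => ρ.character y⁻¹) := by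
    intro g k
    show ρ.character (k * g * k⁻¹)⁻¹ = ρ.character g⁻¹
    have : (k * g * k⁻¹)⁻¹ = k * g⁻¹ * k⁻¹ := by group
    rw [this, Representation.char_conj]
  have hcomm := classOp_comm (fun y => ρ.character y⁻¹) ha ρ
  have hS := schur_scalar ρ hρ _ hcomm
  rw [trace_classOp] at hS
  have htr : ∑ g : G, ρ.character g⁻¹ * ρ.character g = (Nat.card G : ℂ) := by
    rw [← sum_char_mul_char_inv ρ hρ]
    exact Finset.sum_congr rfl (fun g _ => mul_comm _ _)
  rw [htr] at hS
  -- now compute the trace of T * ρ w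
  have h1 : ∑ y : G, ρ.character y * ρ.character (y⁻¹ * w) =
      LinearMap.trace ℂ V (classOp (fun y => ρ.character y⁻¹) ρ * ρ w) := by
    rw [classOp, Finset.sum_mul, map_sum]
    refine Fintype.sum_equiv (Equiv.inv G) _ _ (fun y => ?_)
    simp only [Equiv.inv_apply, inv_inv, smul_mul_assoc, map_smul, smul_eq_mul]
    rw [← map_mul]
    rfl
  rw [h1, hS, smul_mul_assoc, map_smul, smul_eq_mul, Representation.char_one]
  have : LinearMap.trace ℂ V (LinearMap.id * ρ w) = ρ.character w := by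
    rw [show (LinearMap.id : V →ₗ[ℂ] V) = 1 from rfl, one_mul]
    rfl
  rw [this]
  ring

/-- Sum of a character over commutators times a fixed element. -/
theorem sum_char_commutator_mul (ρ : Representation ℂ G V) (hρ : ρ.IsIrreducible) (w : G) :
    ∑ x : G, ∑ y : G, ρ.character (x * y * x⁻¹ * y⁻¹ * w) =
      (Nat.card G : ℂ) ^ 2 * ρ.character w / ρ.character 1 ^ 2 := by
  rw [Finset.sum_comm]
  have h1 : ∀ y : G, ∑ x : G, ρ.character (x * y * x⁻¹ * y⁻¹ * w) =
      (Nat.card G : ℂ) * ρ.character y * ρ.character (y⁻¹ * w) / ρ.character 1 := by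
    intro y
    rw [← sum_char_conj_mul ρ hρ y (y⁻¹ * w)]
    refine Finset.sum_congr rfl (fun x _ => ?_)
    congr 1
    group
  simp only [h1]
  rw [← Finset.sum_div]
  have h2 : ∑ y : G, (Nat.card G : ℂ) * ρ.character y * ρ.character (y⁻¹ * w) =
      (Nat.card G : ℂ) * ∑ y : G, ρ.character y * ρ.character (y⁻¹ * w) := by
    rw [Finset.mul_sum]
    exact Finset.sum_congr rfl (fun y _ => by ring)
  rw [h2, sum_char_mul_char ρ hρ w]
  have h1ne : ρ.character 1 ≠ 0 := by
    rw [Representation.char_one]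
    exact finrank_ne_zero_of_irreducible ρ hρ
  field_simp

end schur

section irr

variable {G : Type*} [Group G] [Fintype G]

theorem irr_sum_conj_mul (χ : IrrCharacter G) (g h : G) :
    ∑ x : G, (χ : G → ℂ) (x * g * x⁻¹ * h) =
      (Nat.card G : ℂ) * (χ : G → ℂ) g * (χ : G → ℂ) h / (χ : G → ℂ) 1 := by
  obtain ⟨n, ρ, hρ, hχ⟩ := χ.2
  rw [← hχ]
  exact sum_char_conj_mul ρ hρ g h

theorem irr_sum_mul (χ : IrrCharacter G) (w : G) :
    ∑ y : G, (χ : G → ℂ) y * (χ : G → ℂ) (y⁻¹ * w) =
      (Nat.card G : ℂ) * (χ : G → ℂ) w / (χ : G → ℂ) 1 := by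
  obtain ⟨n, ρ, hρ, hχ⟩ := χ.2
  rw [← hχ]
  exact sum_char_mul_char ρ hρ w

theorem irr_sum_commutator_mul (χ : IrrCharacter G) (w : G) :
    ∑ x : G, ∑ y : G, (χ : G → ℂ) (x * y * x⁻¹ * y⁻¹ * w) =
      (Nat.card G : ℂ) ^ 2 * (χ : G → ℂ) w / (χ : G → ℂ) 1 ^ 2 := by
  obtain ⟨n, ρ, hρ, hχ⟩ := χ.2
  rw [← hχ]
  exact sum_char_commutator_mul ρ hρ w

/-- Column orthogonality against the identity: the regular character. -/
theorem sum_irr_one_mul [Fintype (IrrCharacter G)] [DecidableEq G] (g : G) :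
    ∑ χ : IrrCharacter G, (χ : G → ℂ) 1 * (χ : G → ℂ) g =
      if g = 1 then (Nat.card G : ℂ) else 0 := by
  classical
  have h := second_orthogonality (G := G) g 1
  have h2 : ∑ χ : IrrCharacter G, (χ : G → ℂ) 1 * (χ : G → ℂ) g =
      ∑ χ : IrrCharacter G, (χ : G → ℂ) g * conj ((χ : G → ℂ) 1) := by
    refine Finset.sum_congr rfl (fun χ _ => ?_)
    obtain ⟨n, _, hn⟩ := irr_one_eq χ
    rw [hn, Complex.conj_natCast, mul_comm]
  rw [h2, h]
  by_cases hg : g = 1
  · subst hg
    rw [if_pos (IsConj.refl 1), if_pos rfl]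
    have hc : Subgroup.centralizer ({1} : Set G) = ⊤ := by
      ext x
      simp [Subgroup.mem_centralizer_iff]
    rw [hc, Subgroup.card_top]
  · rw [if_neg hg, if_neg]
    intro hc
    exact hg (isConj_one_left.mp hc)

end irr

end Cfsg.Agent.Lib.H24
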