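import Mathlib
import Cfsg.Agent.Lib.H24.CharKer
import Cfsg.Agent.Lib.H24.CharSchur
import Cfsg.Agent.Lib.H24.CharBasic
import Cfsg.Agent.Lib.H23.CentralChar
import Cfsg.Agent.Lib.L0.CharOps

/-!
# Elements central modulo the kernel of a character (helper24's library)

* `char_mul_of_apply_eq_one` : elements of the kernel of a character can be cancelled.
* `exists_irr_two_not_ker` : for two nontrivial elements `x y` there is an irreducible character
  with neither of them in its kernel; `exists_irr_two_not_ker_rel` is the version relative to a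
  normal subgroup.
* `exists_scalar_of_commutator_ker` : if all commutators `[z, g]` lie in the kernel of the
  irreducible character `χ`, then `χ (z * g) = ω * χ g` for a scalar `ω`.
* `mul_conj_of_commutator_ker` : in that case `χ z * conj (χ z) = χ 1 ^ 2`.
* `sum_mul_conj_eq_card` : `∑ g, χ g * conj (χ g) = |G|` for irreducible `χ`.
-/

set_option autoImplicit false

namespace Cfsg.Agent.Lib.H24

open scoped ComplexConjugate
open Cfsg Cfsg.Agent.Lib.L0

section general

variable {G : Type*} [Group G] [Finite G]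

/-- Elements of the kernel of a character can be cancelled. -/
theorem char_mul_of_apply_eq_one {χ : G → ℂ} (hχ : IsCharacter G χ) {x : G} (hx : χ x = χ 1)
    (y : G) : χ (x * y) = χ y := by
  obtain ⟨n, ρ, rfl⟩ := hχ
  rw [char_eq_char_one_iff] at hx
  simp only [Representation.character, map_mul, hx, one_mul]

/-- For two nontrivial elements there is an irreducible character with neither in its kernel. -/
theorem exists_irr_two_not_ker {x y : G} (hx : x ≠ 1) (hy : y ≠ 1) :
    ∃ χ : IrrCharacter G, (χ : G → ℂ) x ≠ (χ : G → ℂ) 1 ∧ (χ : G → ℂ) y ≠ (χ : G → ℂ) 1 := by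
  classical
  have := Fintype.ofFinite G
  have := Fintype.ofFinite (IrrCharacter G)
  by_contra hcon
  push Not at hcon
  -- every χ has `χ (x * y) = χ x + χ y - χ 1`
  have key : ∀ χ : IrrCharacter G,
      (χ : G → ℂ) (x * y) = (χ : G → ℂ) x + (χ : G → ℂ) y - (χ : G → ℂ) 1 := by
    intro χ
    by_cases h : (χ : G → ℂ) x = (χ : G → ℂ) 1
    · rw [char_mul_of_apply_eq_one (isCharacter_of_irr χ.2) h, h]; ring
    · have h2 := hcon χ h
      have h3 : (χ : G → ℂ) (x * y) = (χ : G → ℂ) x := by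
        have hcl := isClassFunction_of_isCharacter (isCharacter_of_irr χ.2) (y * x) y⁻¹
        have : y⁻¹ * (y * x) * y⁻¹⁻¹ = x * y := by group
        rw [this] at hcl
        rw [hcl, char_mul_of_apply_eq_one (isCharacter_of_irr χ.2) h2]
      rw [h3, h2]; ring
  have hsum : ∑ χ : IrrCharacter G, (χ : G → ℂ) 1 * (χ : G → ℂ) (x * y) =
      ∑ χ : IrrCharacter G, (χ : G → ℂ) 1 * (χ : G → ℂ) x +
      ∑ χ : IrrCharacter G, (χ : G → ℂ) 1 * (χ : G → ℂ) y -
      ∑ χ : IrrCharacter G, (χ : G → ℂ) 1 * (χ : G → ℂ) 1 := by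
    rw [← Finset.sum_add_distrib, ← Finset.sum_sub_distrib]
    refine Finset.sum_congr rfl (fun χ _ => ?_)
    rw [key χ]; ring
  rw [sum_irr_one_mul, sum_irr_one_mul, sum_irr_one_mul, sum_irr_one_mul, if_neg hx, if_neg hy,
    if_pos rfl] at hsum
  have hG : (Nat.card G : ℂ) ≠ 0 := by exact_mod_cast (Nat.card_pos (α := G)).ne'
  split_ifs at hsum with h
  · apply hG
    linear_combination (1 / 2 : ℂ) * hsum
  · apply hG
    linear_combination hsum

/-- Relative version of `exists_irr_two_not_ker`. -/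
theorem exists_irr_two_not_ker_rel (N : Subgroup G) [N.Normal] {x y : G} (hx : x ∉ N)
    (hy : y ∉ N) :
    ∃ χ : IrrCharacter G, (∀ n ∈ N, (χ : G → ℂ) n = (χ : G → ℂ) 1) ∧
      (χ : G → ℂ) x ≠ (χ : G → ℂ) 1 ∧ (χ : G → ℂ) y ≠ (χ : G → ℂ) 1 := by
  have hx' : (QuotientGroup.mk' N x) ≠ 1 := by
    intro h; exact hx ((QuotientGroup.eq_one_iff x).mp h)
  have hy' : (QuotientGroup.mk' N y) ≠ 1 := by
    intro h; exact hy ((QuotientGroup.eq_one_iff y).mp h)
  obtain ⟨χ, h1, h2⟩ := exists_irr_two_not_ker hx' hy'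
  refine ⟨⟨(χ : G ⧸ N → ℂ) ∘ (QuotientGroup.mk' N),
    isIrrCharacter_comp_of_surjective (QuotientGroup.mk' N) (QuotientGroup.mk'_surjective N) χ.2⟩,
    ?_, ?_, ?_⟩
  · intro n hn
    simp only [Function.comp_apply]
    have h3 : QuotientGroup.mk' N n = 1 := (QuotientGroup.eq_one_iff n).mpr hn
    rw [h3, map_one]
  · simpa using h1
  · simpa using h2

/-- If all commutators `[z, g]` lie in the kernel of the irreducible character `χ`, then `z` acts
as a scalar. -/
theorem exists_scalar_of_commutator_ker {χ : G → ℂ} (hχ : IsIrrCharacter G χ) (z : G)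
    (hz : ∀ g : G, χ (z * g * z⁻¹ * g⁻¹) = χ 1) : ∃ ω : ℂ, ∀ g : G, χ (z * g) = ω * χ g := by
  obtain ⟨n, ρ, hirr, rfl⟩ := hχ
  have : ρ.IsIrreducible := hirr
  have hcomm : ∀ g : G, ρ z ∘ₗ ρ g = ρ g ∘ₗ ρ z := by
    intro g
    have h1 := (char_eq_char_one_iff ρ _).mp (hz g)
    rw [← Module.End.mul_eq_comp, ← Module.End.mul_eq_comp, ← map_mul, ← map_mul]
    have : z * g = (z * g * z⁻¹ * g⁻¹) * (g * z) := by group
    rw [this, map_mul, h1, one_mul]
  obtain ⟨c, hc⟩ := Cfsg.Agent.Lib.H23.exists_scalar_of_commute ρ (ρ z) hcomm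
  refine ⟨c, fun g => ?_⟩
  simp only [Representation.character, map_mul, hc]
  rw [show (c • LinearMap.id : Module.End ℂ (Fin n → ℂ)) * ρ g = c • ρ g by
    ext v; simp, map_smul, smul_eq_mul]

/-- If all commutators `[z, g]` lie in the kernel of the irreducible character `χ`, then
`|χ z| = χ 1`. -/
theorem mul_conj_of_commutator_ker {χ : G → ℂ} (hχ : IsIrrCharacter G χ) (z : G)
    (hz : ∀ g : G, χ (z * g * z⁻¹ * g⁻¹) = χ 1) : χ z * conj (χ z) = χ 1 ^ 2 := by
  obtain ⟨ω, hω⟩ := exists_scalar_of_commutator_ker hχ z hz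
  rw [← isCharacter_apply_inv (isCharacter_of_irr hχ)]
  have h1 := hω 1
  have h2 := hω z⁻¹
  rw [mul_one] at h1
  rw [mul_inv_cancel] at h2
  rw [h1, mul_assoc, mul_comm (χ 1), ← mul_assoc, ← h2]
  ring

/-- If `z` acts as a scalar modulo the kernel and fixes a nonzero value, it lies in the kernel. -/
theorem apply_eq_one_of_mul_eq {χ : G → ℂ} (hχ : IsIrrCharacter G χ) (z : G)
    (hz : ∀ g : G, χ (z * g * z⁻¹ * g⁻¹) = χ 1) {g : G} (hg : χ g ≠ 0) (h : χ (z * g) = χ g) :
    χ z = χ 1 := by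
  obtain ⟨ω, hω⟩ := exists_scalar_of_commutator_ker hχ z hz
  have h1 : ω = 1 := by
    have := hω g
    rw [h] at this
    have h2 : (ω - 1) * χ g = 0 := by linear_combination -this
    rcases mul_eq_zero.mp h2 with h3 | h3
    · linear_combination h3
    · exact absurd h3 hg
  have := hω 1
  rw [mul_one, h1, one_mul] at this
  exact this

/-- A central-mod-kernel element has nonzero character value. -/
theorem apply_ne_zero_of_commutator_ker {χ : G → ℂ} (hχ : IsIrrCharacter G χ) (z : G)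
    (hz : ∀ g : G, χ (z * g * z⁻¹ * g⁻¹) = χ 1) : χ z ≠ 0 := by
  intro h0
  have h := mul_conj_of_commutator_ker hχ z hz
  rw [h0, zero_mul] at h
  exact irr_one_ne_zero ⟨χ, hχ⟩ ((pow_eq_zero_iff (two_ne_zero)).mp h.symm)

/-- `∑ g, χ g * conj (χ g) = |G|` for an irreducible character. -/
theorem sum_mul_conj_eq_card [Fintype G] {χ : G → ℂ} (hχ : IsIrrCharacter G χ) :
    ∑ g : G, χ g * conj (χ g) = (Nat.card G : ℂ) := by
  have h := irr_classInner_self hχ
  unfold classInner at h
  have hG : (Nat.card G : ℂ) ≠ 0 := by exact_mod_cast (Nat.card_pos (α := G)).ne'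
  field_simp at h
  exact h

/-- An irreducible character with all commutators in its kernel is linear. -/
theorem linear_of_commutator_ker {χ : G → ℂ} (hχ : IsIrrCharacter G χ)
    (h : ∀ a b : G, χ (a * b * a⁻¹ * b⁻¹) = χ 1) : χ 1 = 1 := by
  classical
  have := Fintype.ofFinite G
  have h1 := sum_mul_conj_eq_card hχ
  have h2 : ∀ g : G, χ g * conj (χ g) = χ 1 ^ 2 := fun g =>
    mul_conj_of_commutator_ker hχ g (h g)
  rw [Finset.sum_congr rfl (fun g _ => h2 g), Finset.sum_const, Finset.card_univ, nsmul_eq_mul,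
    ← Nat.card_eq_fintype_card] at h1
  have hG : (Nat.card G : ℂ) ≠ 0 := by exact_mod_cast (Nat.card_pos (α := G)).ne'
  have h3 : χ 1 ^ 2 = 1 := by
    have : (Nat.card G : ℂ) * (χ 1 ^ 2 - 1) = 0 := by linear_combination h1
    rcases mul_eq_zero.mp this with h4 | h4
    · exact absurd h4 hG
    · linear_combination h4
  obtain ⟨n, hn, hn1⟩ := irr_one_eq ⟨χ, hχ⟩
  simp only at hn1
  rw [hn1] at h3 ⊢
  have h4 : n ^ 2 = 1 := by exact_mod_cast h3
  have h5 : n = 1 := by nlinarith
  rw [h5]; simp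

end general

end Cfsg.Agent.Lib.H24
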