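import Cfsg.Agent.Lib.H24.CharFSInd
import Cfsg.Agent.Lib.H24.CharKer
import Cfsg.Agent.Lib.L0.CharIndChar
import Cfsg.Agent.Lib.H23.DegreeDvd

/-!
# Abelian subgroups and character degrees (helper24's library)

* `irr_apply_one_of_comm` : irreducible characters of an abelian group are linear.
* `indFun_one` : `(ind θ)(1) = |G : H| θ(1)`.
* `charDegree_le_of_constituent` : a constituent has degree at most that of the character.
* `charDegree_mul_card_le` : `χ(1) |A| ≤ |G|` for an abelian subgroup `A`.
-/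

set_option autoImplicit false

namespace Cfsg.Agent.Lib.H24

open scoped ComplexConjugate
open Cfsg Cfsg.Agent.Lib.L0 Cfsg.Agent.Lib.H23

section abelian

variable {G : Type*} [Group G] [Finite G]

theorem irr_apply_one_of_comm (hcomm : ∀ a b : G, a * b = b * a) (ψ : IrrCharacter G) :
    (ψ : G → ℂ) 1 = 1 := by
  obtain ⟨n, ρ, hρ, hψ⟩ := irr_exists_rep ψ
  have hn : 0 < n := irreducible_dim_pos ρ hρ
  -- every ρ a is a scalar
  have hsc : ∀ a : G, ∃ c : ℂ, ρ a = c • LinearMap.id := by
    intro a
    refine ⟨_, schur_scalar ρ hρ (ρ a) (fun b => ?_)⟩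
    show ρ a * ρ b = ρ b * ρ a
    rw [← map_mul, ← map_mul, hcomm]
  have hnt : Nontrivial (Fin n → ℂ) := nontrivial_of_irreducible ρ hρ
  obtain ⟨v, hv⟩ := exists_ne (0 : Fin n → ℂ)
  have hinv : ∀ a : G, ∀ w ∈ Submodule.span ℂ {v}, ρ a w ∈ Submodule.span ℂ {v} := by
    intro a w hw
    obtain ⟨c, hc⟩ := hsc a
    rw [hc]
    simp only [LinearMap.smul_apply, LinearMap.id_coe, id_eq]
    exact Submodule.smul_mem _ _ hw
  rcases invariant_submodule_eq_bot_or_top ρ hρ _ hinv with h | h
  · exfalso
    rw [Submodule.span_singleton_eq_bot] at h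
    exact hv h
  · have h1 : Module.finrank ℂ (Submodule.span ℂ {v}) = 1 := finrank_span_singleton hv
    rw [h, finrank_top, Module.finrank_fin_fun] at h1
    rw [← hψ, Representation.char_one, Module.finrank_fin_fun, h1]
    simp

end abelian

section ind

variable {G : Type*} [Group G] [Fintype G]

theorem indFun_one (H : Subgroup G) (θ : H → ℂ) : indFun H θ 1 = (H.index : ℂ) * θ 1 := by
  rw [indFun_apply]
  have h1 : ∀ x : G, extendByZero H θ (x⁻¹ * 1 * x) = θ 1 := by
    intro x
    have : x⁻¹ * 1 * x = ((1 : H) : G) := by simp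
    rw [this, extendByZero_apply_mem]
  simp only [h1, Finset.sum_const, Finset.card_univ, nsmul_eq_mul]
  rw [← Nat.card_eq_fintype_card, ← Subgroup.index_mul_card H]
  have hH : (Nat.card H : ℂ) ≠ 0 := by exact_mod_cast (Nat.card_pos (α := H)).ne'
  push_cast
  field_simp

theorem charDegree_le_of_constituent {π : G → ℂ} (hπ : IsCharacter G π) (χ : IrrCharacter G)
    (h : classInner π (χ : G → ℂ) ≠ 0) (dπ : ℕ) (hd : π 1 = dπ) :
    charDegree (χ : G → ℂ) ≤ dπ := by
  classical
  have := Fintype.ofFinite (IrrCharacter G)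
  have hm : ∀ ψ : IrrCharacter G, ∃ m : ℕ, classInner π (ψ : G → ℂ) = m :=
    fun ψ => classInner_char_irr_nat hπ ψ.2
  choose m hm using hm
  have hexp := congrFun (classFunction_expansion π (isClassFunction_of_isCharacter hπ)) 1
  simp only [Finset.sum_apply, Pi.smul_apply, smul_eq_mul] at hexp
  have h1 : ((dπ : ℕ) : ℂ) = ((∑ ψ : IrrCharacter G, m ψ * charDegree (ψ : G → ℂ) : ℕ) : ℂ) := by
    rw [← hd, hexp]
    push_cast
    refine Finset.sum_congr rfl (fun ψ _ => ?_)
    rw [hm ψ, apply_one_eq_charDegree _ ψ.2]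
  have h2 : dπ = ∑ ψ : IrrCharacter G, m ψ * charDegree (ψ : G → ℂ) := by exact_mod_cast h1
  have hmχ : 1 ≤ m χ := by
    rw [Nat.one_le_iff_ne_zero]
    intro h0
    apply h
    rw [hm χ, h0]
    simp
  rw [h2]
  calc charDegree (χ : G → ℂ) ≤ m χ * charDegree (χ : G → ℂ) := Nat.le_mul_of_pos_left _ hmχ
    _ ≤ ∑ ψ : IrrCharacter G, m ψ * charDegree (ψ : G → ℂ) :=
      Finset.single_le_sum (f := fun ψ : IrrCharacter G => m ψ * charDegree (ψ : G → ℂ))
        (fun _ _ => Nat.zero_le _) (Finset.mem_univ χ)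

/-- The degree of an irreducible character is at most the index of any abelian subgroup. -/
theorem charDegree_mul_card_le (χ : IrrCharacter G) (A : Subgroup G)
    (hA : ∀ a ∈ A, ∀ b ∈ A, a * b = b * a) :
    charDegree (χ : G → ℂ) * Nat.card A ≤ Nat.card G := by
  classical
  have := Fintype.ofFinite A
  have hχA : IsCharacter A (fun a : A => (χ : G → ℂ) a) :=
    isCharacter_restrict A (isCharacter_of_irr χ.2)
  obtain ⟨l, hl, hsum⟩ := isCharacter_exists_irr_decomp hχA
  have hne : l ≠ [] := by
    rintro rfl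
    have := congrFun hsum 1
    simp only [List.sum_nil, Pi.zero_apply, OneMemClass.coe_one] at this
    exact irr_one_ne_zero χ this
  obtain ⟨lam, hlam⟩ := List.exists_mem_of_ne_nil l hne
  have hlamirr := hl lam hlam
  have hcommA : ∀ a b : A, a * b = b * a := by
    intro a b
    apply Subtype.ext
    exact hA a a.2 b b.2
  have hlam1 : lam 1 = 1 := irr_apply_one_of_comm hcommA ⟨lam, hlamirr⟩
  have hinner : classInner (fun a : A => (χ : G → ℂ) a) lam ≠ 0 := by
    rw [hsum, classInner_irr_list_sum hl hlamirr]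
    have : 0 < l.count lam := List.count_pos_iff.mpr hlam
    exact_mod_cast this.ne'
  have hfrob : classInner (indFun A lam) (χ : G → ℂ) ≠ 0 := by
    rw [frobenius_reciprocity A lam _ (isClassFunction_irr χ), ← classInner_conj_symm]
    intro h
    exact hinner ((map_eq_zero _).mp h)
  have hind : IsCharacter G (indFun A lam) := isCharacter_indFun A (isCharacter_of_irr hlamirr)
  have hdeg := charDegree_le_of_constituent hind χ hfrob A.index (by
    rw [indFun_one, hlam1, mul_one])
  calc charDegree (χ : G → ℂ) * Nat.card A ≤ A.index * Nat.card A := Nat.mul_le_mul_right _ hdeg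
    _ = Nat.card G := Subgroup.index_mul_card A

end ind

end Cfsg.Agent.Lib.H24
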