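import Cfsg.Agent.Lib.H24.CharOrth

/-!
# Brauer's permutation lemma (single map version) (helper24's library)

* `card_class_mul_card_centralizer` : `|cl(a)| * |C_G(a)| = |G|`.
* `card_conjClasses_subtype` : counting conjugacy classes with a property by a sum over the group.
* `perm_lemma` : if `τ : G → G` is such that `χ ∘ τ` is irreducible for every irreducible `χ`, then
  the number of `χ` with `χ ∘ τ = χ` is the number of classes `C` with `τ g ∼ g` for `g ∈ C`.
-/

set_option autoImplicit false

namespace Cfsg.Agent.Lib.H24

open scoped ComplexConjugate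
open Cfsg Cfsg.Agent.Lib.L0

section permlemma

variable {G : Type*} [Group G]

theorem card_class_mul_card_centralizer [Finite G] (a : G) :
    Nat.card {h : G // ConjClasses.mk h = ConjClasses.mk a} *
      Nat.card (Subgroup.centralizer ({a} : Set G)) = Nat.card G := by
  have h1 : Nat.card {h : G // ConjClasses.mk h = ConjClasses.mk a} =
      Nat.card {h : G // IsConj a h} := by
    refine Nat.card_congr (Equiv.subtypeEquivRight (fun h => ?_))
    rw [ConjClasses.mk_eq_mk_iff_isConj, isConj_comm]
  rw [h1, ← index_centralizer_eq_card_conj, Subgroup.index_mul_card]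

theorem card_centralizer_eq_of_isConj [Finite G] {a b : G} (h : IsConj a b) :
    Nat.card (Subgroup.centralizer ({a} : Set G)) = Nat.card (Subgroup.centralizer ({b} : Set G)) := by
  have h1 := card_class_mul_card_centralizer a
  have h2 := card_class_mul_card_centralizer b
  have h3 : ConjClasses.mk a = ConjClasses.mk b := ConjClasses.mk_eq_mk_iff_isConj.mpr h
  rw [h3, ← h2] at h1
  have hpos : 0 < Nat.card {h : G // ConjClasses.mk h = ConjClasses.mk b} :=
    Nat.card_pos_iff.mpr ⟨⟨⟨b, rfl⟩⟩, inferInstance⟩
  exact Nat.eq_of_mul_eq_mul_left hpos h1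

/-- Counting the conjugacy classes with a property `P` by a sum over the group. -/
theorem card_conjClasses_subtype [Fintype G] (P : ConjClasses G → Prop) [DecidablePred P] :
    (Nat.card {C : ConjClasses G // P C} : ℂ) =
      (Nat.card G : ℂ)⁻¹ * ∑ g : G, (if P (ConjClasses.mk g) then
        (Nat.card (Subgroup.centralizer ({g} : Set G)) : ℂ) else 0) := by
  classical
  have := Fintype.ofFinite (ConjClasses G)
  have hG : (Nat.card G : ℂ) ≠ 0 := by
    exact_mod_cast Nat.card_pos.ne'
  rw [← Fintype.sum_fiberwise (fun g : G => ConjClasses.mk g)]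
  have hfib : ∀ C : ConjClasses G,
      (∑ a : {a : G // ConjClasses.mk a = C}, (if P (ConjClasses.mk (a : G)) then
        (Nat.card (Subgroup.centralizer ({(a : G)} : Set G)) : ℂ) else 0)) =
      if P C then (Nat.card G : ℂ) else 0 := by
    intro C
    by_cases hC : P C
    · rw [if_pos hC]
      obtain ⟨a₀, rfl⟩ := ConjClasses.mk_surjective C
      have hterm : ∀ a : {a : G // ConjClasses.mk a = ConjClasses.mk a₀},
          (if P (ConjClasses.mk (a : G)) then
            (Nat.card (Subgroup.centralizer ({(a : G)} : Set G)) : ℂ) else 0) =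
          (Nat.card (Subgroup.centralizer ({a₀} : Set G)) : ℂ) := by
        intro a
        rw [a.2, if_pos hC]
        have : IsConj (a : G) a₀ := ConjClasses.mk_eq_mk_iff_isConj.mp a.2
        rw [card_centralizer_eq_of_isConj this]
      simp only [hterm, Finset.sum_const, Finset.card_univ, nsmul_eq_mul]
      rw [← Nat.card_eq_fintype_card, ← Nat.cast_mul, card_class_mul_card_centralizer]
    · rw [if_neg hC]
      refine Finset.sum_eq_zero (fun a _ => ?_)
      rw [a.2, if_neg hC]
  simp only [hfib]
  rw [Finset.sum_ite, Finset.sum_const_zero, add_zero, Finset.sum_const, nsmul_eq_mul,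
    ← mul_assoc, mul_comm ((Nat.card G : ℂ)⁻¹), mul_assoc, inv_mul_cancel₀ hG, mul_one]
  rw [Nat.card_eq_fintype_card, Fintype.card_subtype]

/-- **Brauer's permutation lemma**, for a single map `τ` of `G` such that composition with `τ`
permutes the irreducible characters: the number of fixed irreducible characters equals the number of
conjugacy classes `C` with `τ g` conjugate to `g` for `g ∈ C`. -/
theorem perm_lemma [Finite G] (τ : G → G)
    (hτ : ∀ χ : IrrCharacter G, IsIrrCharacter G ((χ : G → ℂ) ∘ τ)) :
    Nat.card {χ : IrrCharacter G // (χ : G → ℂ) ∘ τ = (χ : G → ℂ)} =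
      Nat.card {C : ConjClasses G // ∀ g : G, ConjClasses.mk g = C → IsConj (τ g) g} := by
  classical
  have := Fintype.ofFinite G
  have := Fintype.ofFinite (IrrCharacter G)
  -- `τ` respects conjugacy
  have hτconj : ∀ g g' : G, IsConj g g' → IsConj (τ g) (τ g') := by
    intro g g' h
    rw [isConj_iff_forall_irr_eq]
    intro χ
    have hcf := isClassFunction_of_isCharacter (isCharacter_of_irr (hτ χ))
    exact isClassFunction_eq_of_isConj hcf h
  have hP : ∀ g : G, (∀ g' : G, ConjClasses.mk g' = ConjClasses.mk g → IsConj (τ g') g') ↔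
      IsConj (τ g) g := by
    intro g
    constructor
    · intro h
      exact h g rfl
    · intro h g' hg'
      have h1 : IsConj g' g := ConjClasses.mk_eq_mk_iff_isConj.mp hg'
      exact ((hτconj _ _ h1).trans h).trans h1.symm
  have hcast : (Nat.card {χ : IrrCharacter G // (χ : G → ℂ) ∘ τ = (χ : G → ℂ)} : ℂ) =
      (Nat.card {C : ConjClasses G // ∀ g : G, ConjClasses.mk g = C → IsConj (τ g) g} : ℂ) := by
    rw [card_conjClasses_subtype]
    simp only [hP]
    -- character side
    have h1 : (Nat.card {χ : IrrCharacter G // (χ : G → ℂ) ∘ τ = (χ : G → ℂ)} : ℂ) =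
        ∑ χ : IrrCharacter G, classInner ((χ : G → ℂ) ∘ τ) (χ : G → ℂ) := by
      rw [Nat.card_eq_fintype_card, Fintype.card_subtype, Finset.card_filter]
      push_cast
      refine Finset.sum_congr rfl (fun χ _ => ?_)
      rw [irr_classInner_eq (hτ χ) χ.2]
    rw [h1]
    simp only [classInner]
    rw [← Finset.mul_sum, Finset.sum_comm]
    congr 1
    refine Finset.sum_congr rfl (fun g _ => ?_)
    simp only [Function.comp_apply]
    rw [second_orthogonality (τ g) g]
    split_ifs with h
    · rw [card_centralizer_eq_of_isConj h]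
    · rfl
  exact_mod_cast hcast

end permlemma

end Cfsg.Agent.Lib.H24
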