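import Mathlib
import Cfsg.Agent.Lib.H24.CharOrth
import Cfsg.Agent.Lib.H24.CharAbelian
import Cfsg.Agent.Lib.H24.CentralMod
import Cfsg.Agent.Lib.H24.CharPermLemma
import Cfsg.Agent.Lib.H23.CentralMul
import Cfsg.Agent.Lib.L0.CharLinear

/-!
# Characters over a faithful character of a central subgroup and good classes
(helper24's library)

For `N ≤ Z(G)` and a faithful `ψ ∈ Irr(N)`, the number of irreducible characters of `G` over `ψ`
equals the number of conjugacy classes of `G ⧸ N` of special ("good") cosets.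
-/

set_option autoImplicit false

namespace Cfsg.Agent.Lib.H24

open scoped ComplexConjugate
open Cfsg Cfsg.Agent.Lib.L0

section abstract

/-- The sum of a multiplicative function which is not identically one vanishes. -/
theorem sum_mul_fun_eq_zero {A : Type*} [Group A] [Fintype A] (ν : A → ℂ)
    (hmul : ∀ a b, ν (a * b) = ν a * ν b) (a₀ : A) (h : ν a₀ ≠ 1) : ∑ a, ν a = 0 := by
  have h1 : ∑ a, ν a = ν a₀ * ∑ a, ν a := by
    rw [Finset.mul_sum]
    symm
    refine Fintype.sum_equiv (Equiv.mulLeft a₀) _ _ (fun a => ?_)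
    rw [Equiv.coe_mulLeft, hmul]
  have h2 : (1 - ν a₀) * ∑ a, ν a = 0 := by linear_combination h1
  rcases mul_eq_zero.mp h2 with h3 | h3
  · exact absurd (by linear_combination -h3 : ν a₀ = 1) h
  · exact h3

end abstract

section main

variable {G : Type*} [Group G] [Fintype G] (N : Subgroup G) [Fintype N]

/-- A "special" element: the only commutators with `g` landing in `N` are trivial. -/
def IsSpecial (g : G) : Prop := ∀ x : G, x⁻¹ * g⁻¹ * x * g ∈ N → x * g = g * x

/-- The normalized multiplicity of `ψ` in the restriction of `χ` to the central subgroup `N`. -/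
noncomputable def overCoeff (χ : IrrCharacter G) (ψ : IrrCharacter N) : ℂ :=
  classInner (fun n : N => (χ : G → ℂ) n) (ψ : N → ℂ) / (χ : G → ℂ) 1

variable {N}

theorem overCoeff_eq (hN : N ≤ Subgroup.center G) (χ : IrrCharacter G) (ψ : IrrCharacter N) :
    (classInner (fun n : N => (χ : G → ℂ) n) (ψ : N → ℂ) = 0 ∧ overCoeff N χ ψ = 0) ∨
    (classInner (fun n : N => (χ : G → ℂ) n) (ψ : N → ℂ) ≠ 0 ∧ overCoeff N χ ψ = 1) := by
  classical
  have hcomm : ∀ a b : N, a * b = b * a := by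
    intro a b
    apply Subtype.ext
    exact ((Subgroup.mem_center_iff.mp (hN a.2)) b).symm
  have hψ1 : (ψ : N → ℂ) 1 = 1 := irr_apply_one_of_comm hcomm ψ
  have hψmul := linear_char_mul (isCharacter_of_irr ψ.2) hψ1
  have hχ1 : (χ : G → ℂ) 1 ≠ 0 := irr_one_ne_zero χ
  have hN0 : (Nat.card N : ℂ) ≠ 0 := by exact_mod_cast (Nat.card_pos (α := N)).ne'
  -- the multiplicative function
  set ν : N → ℂ := fun n => (χ : G → ℂ) n / (χ : G → ℂ) 1 * conj ((ψ : N → ℂ) n) with hν
  have hνmul : ∀ a b : N, ν (a * b) = ν a * ν b := by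
    intro a b
    have h1 := Cfsg.Agent.Lib.H23.irr_mul_center χ (a : G) (hN b.2)
    simp only [hν, Subgroup.coe_mul, hψmul, map_mul]
    field_simp
    linear_combination (conj ((ψ : N → ℂ) a) * conj ((ψ : N → ℂ) b)) * h1
  have hsum : classInner (fun n : N => (χ : G → ℂ) n) (ψ : N → ℂ) =
      (χ : G → ℂ) 1 * ((Nat.card N : ℂ)⁻¹ * ∑ n : N, ν n) := by
    simp only [classInner, hν]
    rw [Finset.mul_sum, Finset.mul_sum, Finset.mul_sum]
    refine Finset.sum_congr rfl (fun n _ => ?_)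
    field_simp
  by_cases hall : ∀ n : N, ν n = 1
  · right
    have h1 : classInner (fun n : N => (χ : G → ℂ) n) (ψ : N → ℂ) = (χ : G → ℂ) 1 := by
      rw [hsum]
      simp only [hall, Finset.sum_const, Finset.card_univ, nsmul_eq_mul, mul_one]
      rw [← Nat.card_eq_fintype_card, inv_mul_cancel₀ hN0, mul_one]
    refine ⟨by rw [h1]; exact hχ1, ?_⟩
    rw [overCoeff, h1, div_self hχ1]
  · left
    push Not at hall
    obtain ⟨n₀, hn₀⟩ := hall
    have h0 := sum_mul_fun_eq_zero ν hνmul n₀ hn₀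
    have h1 : classInner (fun n : N => (χ : G → ℂ) n) (ψ : N → ℂ) = 0 := by
      rw [hsum, h0, mul_zero, mul_zero]
    exact ⟨h1, by rw [overCoeff, h1, zero_div]⟩

/-- The key local identity: the sum of `|χ(g)|²` over the characters over `ψ`. -/
theorem sum_overCoeff_mul (hN : N ≤ Subgroup.center G) (ψ : IrrCharacter N)
    (hfaith : ∀ n : N, (ψ : N → ℂ) n = (ψ : N → ℂ) 1 → n = 1) [Fintype (IrrCharacter G)]
    [DecidablePred (IsSpecial N)] (g : G) :
    ∑ χ : IrrCharacter G, overCoeff N χ ψ * ((χ : G → ℂ) g * conj ((χ : G → ℂ) g)) =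
      if IsSpecial N g then
        (Nat.card (Subgroup.centralizer ({g} : Set G)) : ℂ) / (Nat.card N : ℂ) else 0 := by
  classical
  have hcomm : ∀ a b : N, a * b = b * a := by
    intro a b
    apply Subtype.ext
    exact ((Subgroup.mem_center_iff.mp (hN a.2)) b).symm
  have hψ1 : (ψ : N → ℂ) 1 = 1 := irr_apply_one_of_comm hcomm ψ
  have hψmul := linear_char_mul (isCharacter_of_irr ψ.2) hψ1
  have hN0 : (Nat.card N : ℂ) ≠ 0 := by exact_mod_cast (Nat.card_pos (α := N)).ne'
  have hcen : ∀ (n : N) (y : G), y * (n : G) = n * y :=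
    fun n y => Subgroup.mem_center_iff.mp (hN n.2) y
  -- Step 1: rewrite the left side with second orthogonality
  have hstep1 : ∑ χ : IrrCharacter G, overCoeff N χ ψ * ((χ : G → ℂ) g * conj ((χ : G → ℂ) g)) =
      (Nat.card N : ℂ)⁻¹ * ∑ n : N, conj ((ψ : N → ℂ) n) *
        (if IsConj (g * (n : G)) g then
          (Nat.card (Subgroup.centralizer ({g} : Set G)) : ℂ) else 0) := by
    have h1 : ∀ n : N, (if IsConj (g * (n : G)) g then
          (Nat.card (Subgroup.centralizer ({g} : Set G)) : ℂ) else 0) =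
        ∑ χ : IrrCharacter G, (χ : G → ℂ) (g * (n : G)) * conj ((χ : G → ℂ) g) := by
      intro n
      rw [second_orthogonality]
      split_ifs with h
      · rw [card_centralizer_eq_of_isConj h]
      · rfl
    simp only [h1]
    simp only [Finset.mul_sum]
    rw [Finset.sum_comm]
    refine Finset.sum_congr rfl (fun χ _ => ?_)
    have hχ1 : (χ : G → ℂ) 1 ≠ 0 := irr_one_ne_zero χ
    simp only [overCoeff, classInner]
    rw [Finset.mul_sum, Finset.sum_div, Finset.sum_mul]
    refine Finset.sum_congr rfl (fun n _ => ?_)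
    have h2 := Cfsg.Agent.Lib.H23.irr_mul_center χ g (hN n.2)
    field_simp
    linear_combination (-(conj ((ψ : N → ℂ) n) * conj ((χ : G → ℂ) g))) * h2
  rw [hstep1]
  by_cases hsp : IsSpecial N g
  · rw [if_pos hsp]
    -- only `n = 1` contributes
    have hone : ∀ n : N, IsConj (g * (n : G)) g → n = 1 := by
      intro n hn
      obtain ⟨c, hc⟩ := isConj_iff.mp hn
      -- c * (g * n) * c⁻¹ = g
      have h1 : (n : G) = (c⁻¹)⁻¹ * g⁻¹ * c⁻¹ * g := by
        have h2 : c * g * c⁻¹ * (n : G) = g := by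
          have := hcen n c⁻¹
          calc c * g * c⁻¹ * (n : G) = c * g * (c⁻¹ * (n : G)) := by group
            _ = c * g * ((n : G) * c⁻¹) := by rw [this]
            _ = c * (g * (n : G)) * c⁻¹ := by group
            _ = g := hc
        calc (n : G) = (c * g * c⁻¹)⁻¹ * (c * g * c⁻¹ * (n : G)) := by group
          _ = (c * g * c⁻¹)⁻¹ * g := by rw [h2]
          _ = (c⁻¹)⁻¹ * g⁻¹ * c⁻¹ * g := by group
      have h3 : c⁻¹ * g = g * c⁻¹ := hsp c⁻¹ (by rw [← h1]; exact n.2)
      apply Subtype.ext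
      rw [h1, Subgroup.coe_one]
      calc (c⁻¹)⁻¹ * g⁻¹ * c⁻¹ * g = (c⁻¹)⁻¹ * g⁻¹ * (c⁻¹ * g) := by group
        _ = (c⁻¹)⁻¹ * g⁻¹ * (g * c⁻¹) := by rw [h3]
        _ = 1 := by group
    rw [Finset.sum_eq_single (1 : N)]
    · rw [hψ1, map_one, one_mul, Subgroup.coe_one, mul_one, if_pos (IsConj.refl g)]
      field_simp
    · intro n _ hn1
      rw [if_neg (fun h => hn1 (hone n h)), mul_zero]
    · intro h
      exact absurd (Finset.mem_univ _) h
  · rw [if_neg hsp]
    -- a nontrivial commutator in `N`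
    unfold IsSpecial at hsp
    push Not at hsp
    obtain ⟨x, hxN, hxg⟩ := hsp
    set n₀ : N := ⟨x⁻¹ * g⁻¹ * x * g, hxN⟩ with hn₀
    have hn₀1 : n₀ ≠ 1 := by
      intro h
      apply hxg
      have h1 : x⁻¹ * g⁻¹ * x * g = 1 := congrArg Subtype.val h
      calc x * g = g * x * (x⁻¹ * g⁻¹ * x * g) := by group
        _ = g * x := by rw [h1, mul_one]
    have hψn₀ : (ψ : N → ℂ) n₀ ≠ 1 := by
      intro h
      exact hn₀1 (hfaith n₀ (by rw [h, hψ1]))
    -- `g * n₀ = x g x⁻¹`... we use: `g * n * n₀` is conjugate to `g * n`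
    have hconj : ∀ n : N, IsConj (g * ((n * n₀ : N) : G)) (g * (n : G)) := by
      intro n
      rw [isConj_iff]
      refine ⟨x⁻¹, ?_⟩
      rw [Subgroup.coe_mul]
      have h3 : ((n₀ : N) : G) = x⁻¹ * g⁻¹ * x * g := rfl
      calc x⁻¹ * (g * ((n : G) * (n₀ : G))) * x⁻¹⁻¹
          = x⁻¹ * g * (n : G) * ((n₀ : G) * x) := by group
        _ = x⁻¹ * g * (n : G) * (x * (n₀ : G)) := by rw [hcen n₀ x]
        _ = x⁻¹ * g * (n : G) * (x * (x⁻¹ * g⁻¹ * x * g)) := by rw [h3]
        _ = x⁻¹ * g * ((n : G) * g⁻¹) * x * g := by group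
        _ = x⁻¹ * g * (g⁻¹ * (n : G)) * x * g := by rw [hcen n g⁻¹]
        _ = x⁻¹ * ((n : G) * x) * g := by group
        _ = x⁻¹ * (x * (n : G)) * g := by rw [hcen n x]
        _ = (n : G) * g := by group
        _ = g * (n : G) := (hcen n g).symm
    set f : N → ℂ := fun n => conj ((ψ : N → ℂ) n) *
        (if IsConj (g * (n : G)) g then
          (Nat.card (Subgroup.centralizer ({g} : Set G)) : ℂ) else 0) with hf
    have hfmul : ∀ n : N, f (n * n₀) = conj ((ψ : N → ℂ) n₀) * f n := by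
      intro n
      have hiff : IsConj (g * ((n * n₀ : N) : G)) g ↔ IsConj (g * (n : G)) g :=
        ⟨fun h => (hconj n).symm.trans h, fun h => (hconj n).trans h⟩
      simp only [hf, hψmul, map_mul]
      by_cases h : IsConj (g * (n : G)) g
      · rw [if_pos h, if_pos (hiff.mpr h)]
        ring
      · rw [if_neg h, if_neg (fun h' => h (hiff.mp h'))]
        ring
    have hsum : ∑ n : N, f n = conj ((ψ : N → ℂ) n₀) * ∑ n : N, f n := by
      rw [Finset.mul_sum]
      rw [← Fintype.sum_equiv (Equiv.mulRight n₀) (fun n => f (n * n₀)) f (fun n => rfl)]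
      exact Finset.sum_congr rfl (fun n _ => hfmul n)
    have hne : conj ((ψ : N → ℂ) n₀) ≠ 1 := by
      intro h
      apply hψn₀
      have := congrArg conj h
      rwa [Complex.conj_conj, map_one] at this
    have h0 : ∑ n : N, f n = 0 := by
      have h2 : (1 - conj ((ψ : N → ℂ) n₀)) * ∑ n : N, f n = 0 := by linear_combination hsum
      rcases mul_eq_zero.mp h2 with h3 | h3
      · exact absurd (by linear_combination -h3 : conj ((ψ : N → ℂ) n₀) = 1) hne
      · exact h3
    rw [h0, mul_zero]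

end main

section count

variable {G : Type*} [Group G] [Fintype G] {N : Subgroup G} [Fintype N]

theorem isSpecial_conj [N.Normal] {g : G} (h : IsSpecial N g) (c : G) :
    IsSpecial N (c * g * c⁻¹) := by
  intro x hx
  have h1 : (c⁻¹ * x * c)⁻¹ * g⁻¹ * (c⁻¹ * x * c) * g =
      c⁻¹ * (x⁻¹ * (c * g * c⁻¹)⁻¹ * x * (c * g * c⁻¹)) * c⁻¹⁻¹ := by group
  have h2 : (c⁻¹ * x * c)⁻¹ * g⁻¹ * (c⁻¹ * x * c) * g ∈ N := by
    rw [h1]
    exact Subgroup.Normal.conj_mem ‹N.Normal› _ hx c⁻¹
  have h3 := h _ h2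
  calc x * (c * g * c⁻¹) = c * (c⁻¹ * x * c * g) * c⁻¹ := by group
    _ = c * (g * (c⁻¹ * x * c)) * c⁻¹ := by rw [h3]
    _ = c * g * c⁻¹ * x := by group

theorem isSpecial_mul_central (hN : N ≤ Subgroup.center G) {g : G} (h : IsSpecial N g) (n : N) :
    IsSpecial N (g * (n : G)) := by
  intro x hx
  have hcen : ∀ y : G, y * (n : G) = n * y := fun y => Subgroup.mem_center_iff.mp (hN n.2) y
  have h1 : x⁻¹ * (g * (n : G))⁻¹ * x * (g * (n : G)) = x⁻¹ * g⁻¹ * x * g := by
    calc x⁻¹ * (g * (n : G))⁻¹ * x * (g * (n : G))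
        = x⁻¹ * (n : G)⁻¹ * ((g⁻¹ * x * g) * (n : G)) := by group
      _ = x⁻¹ * (n : G)⁻¹ * ((n : G) * (g⁻¹ * x * g)) := by rw [hcen]
      _ = x⁻¹ * g⁻¹ * x * g := by group
  rw [h1] at hx
  have h2 := h x hx
  calc x * (g * (n : G)) = x * g * (n : G) := by group
    _ = g * x * (n : G) := by rw [h2]
    _ = g * (x * (n : G)) := by group
    _ = g * ((n : G) * x) := by rw [hcen]
    _ = g * (n : G) * x := by group

theorem special_class_iff [N.Normal] (hN : N ≤ Subgroup.center G) (g : G) :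
    (∃ g' : G, ConjClasses.mk (g' : G ⧸ N) = ConjClasses.mk (g : G ⧸ N) ∧ IsSpecial N g') ↔
      IsSpecial N g := by
  constructor
  · rintro ⟨g', hg', hsp⟩
    obtain ⟨c, hc⟩ := isConj_iff.mp (ConjClasses.mk_eq_mk_iff_isConj.mp hg')
    obtain ⟨c₀, rfl⟩ := QuotientGroup.mk_surjective c
    have h1 : ((c₀ * g' * c₀⁻¹ : G) : G ⧸ N) = (g : G ⧸ N) := by
      rw [← hc]; rfl
    have h2 : (c₀ * g' * c₀⁻¹)⁻¹ * g ∈ N := QuotientGroup.eq.mp h1
    have h3 : g = (c₀ * g' * c₀⁻¹) * ((⟨_, h2⟩ : N) : G) := by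
      simp only []
      group
    rw [h3]
    exact isSpecial_mul_central hN (isSpecial_conj hsp c₀) _
  · intro h
    exact ⟨g, rfl, h⟩

theorem card_centralizer_special [N.Normal] {g : G} (h : IsSpecial N g) :
    Nat.card (Subgroup.centralizer ({g} : Set G)) =
      Nat.card N * Nat.card (Subgroup.centralizer ({(g : G ⧸ N)} : Set (G ⧸ N))) := by
  have hset : ((Subgroup.centralizer ({g} : Set G) : Subgroup G) : Set G) =
      (QuotientGroup.mk : G → G ⧸ N) ⁻¹'
        ((Subgroup.centralizer ({(g : G ⧸ N)} : Set (G ⧸ N)) : Subgroup (G ⧸ N)) : Set (G ⧸ N)) := by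
    ext x
    simp only [Set.mem_preimage, SetLike.mem_coe, Subgroup.mem_centralizer_iff,
      Set.mem_singleton_iff, forall_eq]
    constructor
    · intro hx
      rw [← QuotientGroup.mk_mul, hx, QuotientGroup.mk_mul]
    · intro hx
      have h1 : ((g * x : G) : G ⧸ N) = ((x * g : G) : G ⧸ N) := hx
      have h2 := QuotientGroup.eq.mp h1
      have h3 : x⁻¹ * g⁻¹ * x * g ∈ N := by
        have : x⁻¹ * g⁻¹ * x * g = (g * x)⁻¹ * (x * g) := by group
        rw [this]; exact h2
      exact (h x h3).symm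
  have h1 := QuotientGroup.card_preimage_mk N
    ((Subgroup.centralizer ({(g : G ⧸ N)} : Set (G ⧸ N)) : Subgroup (G ⧸ N)) : Set (G ⧸ N))
  rw [← hset] at h1
  exact h1

/-- Summing a function of the coset over the group. -/
theorem sum_comp_mk (F : G ⧸ N → ℂ) [Fintype (G ⧸ N)] :
    ∑ g : G, F (g : G ⧸ N) = (Nat.card N : ℂ) * ∑ q : G ⧸ N, F q := by
  rw [← Fintype.sum_equiv (Subgroup.groupEquivQuotientProdSubgroup (s := N)).symm
    (fun p : (G ⧸ N) × N => F p.1) (fun g : G => F (g : G ⧸ N))]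
  · rw [Fintype.sum_prod_type]
    simp only [Finset.sum_const, Finset.card_univ, nsmul_eq_mul]
    rw [← Finset.mul_sum, Nat.card_eq_fintype_card]
  · intro p
    have h1 : (Subgroup.groupEquivQuotientProdSubgroup (s := N)
        ((Subgroup.groupEquivQuotientProdSubgroup (s := N)).symm p)).1 =
        (((Subgroup.groupEquivQuotientProdSubgroup (s := N)).symm p : G) : G ⧸ N) := rfl
    rw [← h1, Equiv.apply_symm_apply]

theorem card_over_eq_card_special [N.Normal] (hN : N ≤ Subgroup.center G) (ψ : IrrCharacter N)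
    (hfaith : ∀ n : N, (ψ : N → ℂ) n = (ψ : N → ℂ) 1 → n = 1) :
    Nat.card {χ : IrrCharacter G //
        classInner (fun n : N => (χ : G → ℂ) n) (ψ : N → ℂ) ≠ 0} =
      Nat.card {C : ConjClasses (G ⧸ N) //
        ∃ g : G, ConjClasses.mk (g : G ⧸ N) = C ∧ IsSpecial N g} := by
  classical
  have := Fintype.ofFinite (IrrCharacter G)
  have hG0 : (Nat.card G : ℂ) ≠ 0 := by exact_mod_cast (Nat.card_pos (α := G)).ne'
  have hN0 : (Nat.card N : ℂ) ≠ 0 := by exact_mod_cast (Nat.card_pos (α := N)).ne'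
  have hQ0 : (Nat.card (G ⧸ N) : ℂ) ≠ 0 := by exact_mod_cast (Nat.card_pos (α := G ⧸ N)).ne'
  have hGQN : (Nat.card G : ℂ) = (Nat.card (G ⧸ N) : ℂ) * (Nat.card N : ℂ) := by
    exact_mod_cast Subgroup.card_eq_card_quotient_mul_card_subgroup N
  -- the left side
  have hL : (Nat.card {χ : IrrCharacter G //
        classInner (fun n : N => (χ : G → ℂ) n) (ψ : N → ℂ) ≠ 0} : ℂ) =
      (Nat.card G : ℂ)⁻¹ * ∑ g : G, (if IsSpecial N g then
        (Nat.card (Subgroup.centralizer ({g} : Set G)) : ℂ) / (Nat.card N : ℂ) else 0) := by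
    have h1 : (Nat.card {χ : IrrCharacter G //
        classInner (fun n : N => (χ : G → ℂ) n) (ψ : N → ℂ) ≠ 0} : ℂ) =
        ∑ χ : IrrCharacter G, overCoeff N χ ψ := by
      rw [Nat.card_eq_fintype_card, Fintype.card_subtype, Finset.card_filter]
      push_cast
      refine Finset.sum_congr rfl (fun χ _ => ?_)
      rcases overCoeff_eq hN χ ψ with ⟨h0, h1⟩ | ⟨h0, h1⟩
      · rw [if_neg (not_not.mpr h0), h1]
      · rw [if_pos h0, h1]
    rw [h1]
    have h2 : ∀ χ : IrrCharacter G, overCoeff N χ ψ =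
        (Nat.card G : ℂ)⁻¹ * ∑ g : G, overCoeff N χ ψ *
          ((χ : G → ℂ) g * conj ((χ : G → ℂ) g)) := by
      intro χ
      rw [← Finset.mul_sum, sum_mul_conj_eq_card χ.2]
      field_simp
    rw [Finset.sum_congr rfl (fun χ _ => h2 χ), ← Finset.mul_sum, Finset.sum_comm]
    congr 1
    exact Finset.sum_congr rfl (fun g _ => sum_overCoeff_mul hN ψ hfaith g)
  -- the right side
  have hR : (Nat.card {C : ConjClasses (G ⧸ N) //
        ∃ g : G, ConjClasses.mk (g : G ⧸ N) = C ∧ IsSpecial N g} : ℂ) =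
      (Nat.card G : ℂ)⁻¹ * ∑ g : G, (if IsSpecial N g then
        (Nat.card (Subgroup.centralizer ({g} : Set G)) : ℂ) / (Nat.card N : ℂ) else 0) := by
    rw [card_conjClasses_subtype]
    have h1 := sum_comp_mk (N := N) (fun q : G ⧸ N =>
      if (∃ g : G, ConjClasses.mk (g : G ⧸ N) = ConjClasses.mk q ∧ IsSpecial N g) then
        (Nat.card (Subgroup.centralizer ({q} : Set (G ⧸ N))) : ℂ) else 0)
    have h2 : ∑ q : G ⧸ N,
        (if (∃ g : G, ConjClasses.mk (g : G ⧸ N) = ConjClasses.mk q ∧ IsSpecial N g) then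
        (Nat.card (Subgroup.centralizer ({q} : Set (G ⧸ N))) : ℂ) else 0) =
        (Nat.card N : ℂ)⁻¹ * ∑ g : G,
        (if (∃ g' : G, ConjClasses.mk (g' : G ⧸ N) = ConjClasses.mk (g : G ⧸ N) ∧
            IsSpecial N g') then
          (Nat.card (Subgroup.centralizer ({(g : G ⧸ N)} : Set (G ⧸ N))) : ℂ) else 0) := by
      rw [h1, ← mul_assoc, inv_mul_cancel₀ hN0, one_mul]
    rw [h2, hGQN, Finset.mul_sum, Finset.mul_sum, Finset.mul_sum]
    refine Finset.sum_congr rfl (fun g _ => ?_)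
    by_cases hsp : IsSpecial N g
    · rw [if_pos hsp, if_pos ((special_class_iff hN g).mpr hsp), card_centralizer_special hsp]
      push_cast
      field_simp
    · rw [if_neg hsp, if_neg (fun h => hsp ((special_class_iff hN g).mp h))]
      simp
  exact_mod_cast hL.trans hR.symm

end count

end Cfsg.Agent.Lib.H24
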