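import Cfsg.Agent.Lib.L0.CharInner
import Mathlib.RepresentationTheory.Maschke
import Mathlib.RepresentationTheory.Irreducible
import Mathlib.Analysis.Complex.Polynomial.Basic
import Mathlib.LinearAlgebra.Matrix.ToLin

/-!
# Completeness of the irreducible characters (helper24's library, part P4 of the character core)

Main results (finite group `G`):
* `isIrreducible_of_equiv`, `isIrrCharacter_of_irreducible`
* `classOp_eq_zero` : a class function `a` with `∑ a g * χ g = 0` for all irreducible characters `χ`
  acts as zero on every finite-dimensional representation.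
* `eq_zero_of_forall_classInner_irr_eq_zero` : completeness.
-/

set_option autoImplicit false

namespace Cfsg.Agent.Lib.H24

open scoped ComplexConjugate
open Cfsg.Agent.Lib.L0

universe u

section transport

variable {G : Type*} [Group G] {V W : Type*} [AddCommGroup V] [Module ℂ V] [AddCommGroup W]
  [Module ℂ W]

/-- Irreducibility is invariant under equivalence of representations. -/
theorem isIrreducible_of_equiv {ρ : Representation ℂ G V} {σ : Representation ℂ G W}
    (e : ρ.Equiv σ) (h : ρ.IsIrreducible) : σ.IsIrreducible := by
  have hnt : Nontrivial (Subrepresentation ρ) := IsSimpleOrder.toNontrivial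
  -- pull back a subrepresentation of σ along e
  let pull : Subrepresentation σ → Subrepresentation ρ := fun τ =>
    { toSubmodule := τ.toSubmodule.comap e.toLinearMap
      apply_mem_toSubmodule := by
        intro g v hv
        simp only [Submodule.mem_comap] at hv ⊢
        have : e.toLinearMap (ρ g v) = σ g (e.toLinearMap v) :=
          Representation.IntertwiningMap.isIntertwining ρ σ e.toIntertwiningMap g v
        rw [this]
        exact τ.apply_mem_toSubmodule g hv }
  have hsurj : Function.Surjective e.toLinearMap := e.toLinearEquiv.surjective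
  have hinj : Function.Injective e.toLinearMap := e.toLinearEquiv.injective
  have hV : Nontrivial V := by
    by_contra hV
    rw [not_nontrivial_iff_subsingleton] at hV
    obtain ⟨a, b, hab⟩ := exists_pair_ne (Subrepresentation ρ)
    apply hab
    apply Subrepresentation.toSubmodule_injective
    ext v
    have : v = 0 := Subsingleton.elim _ _
    simp [this]
  have hW : Nontrivial W := e.toLinearEquiv.toEquiv.symm.nontrivial
  refine { exists_pair_ne := ⟨⊥, ⊤, ?_⟩, eq_bot_or_eq_top := ?_ }
  · intro hbt
    have : (⊥ : Submodule ℂ W) = ⊤ := congrArg Subrepresentation.toSubmodule hbt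
    exact bot_ne_top this
  · intro τ
    rcases eq_bot_or_eq_top (pull τ) with h1 | h1
    · left
      apply Subrepresentation.toSubmodule_injective
      have h2 : τ.toSubmodule.comap e.toLinearMap = ⊥ := congrArg Subrepresentation.toSubmodule h1
      show τ.toSubmodule = ⊥
      rw [eq_bot_iff]
      intro w hw
      obtain ⟨v, rfl⟩ := hsurj w
      have hv : v ∈ τ.toSubmodule.comap e.toLinearMap := hw
      rw [h2, Submodule.mem_bot] at hv
      rw [hv, map_zero]
      exact Submodule.zero_mem _
    · right
      apply Subrepresentation.toSubmodule_injective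
      have h2 : τ.toSubmodule.comap e.toLinearMap = ⊤ := congrArg Subrepresentation.toSubmodule h1
      show τ.toSubmodule = ⊤
      rw [eq_top_iff]
      intro w _
      obtain ⟨v, rfl⟩ := hsurj w
      have hv : v ∈ τ.toSubmodule.comap e.toLinearMap := by rw [h2]; trivial
      exact hv

/-- The character of an irreducible finite-dimensional complex representation is an irreducible
character in the sense of `Cfsg.IsIrrCharacter`. -/
theorem isIrrCharacter_of_irreducible [FiniteDimensional ℂ V] (ρ : Representation ℂ G V)
    (h : ρ.IsIrreducible) : IsIrrCharacter G ρ.character := by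
  classical
  let n := Module.finrank ℂ V
  let b : Module.Basis (Fin n) ℂ V := Module.finBasis ℂ V
  let e : V ≃ₗ[ℂ] (Fin n → ℂ) := b.equivFun
  let σ : Representation ℂ G (Fin n → ℂ) :=
    (e.conjRingEquiv : Module.End ℂ V →* Module.End ℂ (Fin n → ℂ)).comp ρ
  let E : ρ.Equiv σ := Representation.Equiv.mk e (fun g => by
    ext v : 1
    simp [σ])
  exact ⟨n, σ, isIrreducible_of_equiv E h, (Representation.char_iso E).symm⟩

end transport

section classOp

variable {G : Type*} [Group G] [Fintype G] {V : Type*} [AddCommGroup V] [Module ℂ V]

/-- The operator `∑ g, a g • ρ g` attached to a function `a` on `G`. -/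
noncomputable def classOp (a : G → ℂ) (ρ : Representation ℂ G V) : V →ₗ[ℂ] V :=
  ∑ g : G, a g • ρ g

theorem classOp_apply (a : G → ℂ) (ρ : Representation ℂ G V) (v : V) :
    classOp a ρ v = ∑ g : G, a g • ρ g v := by
  simp [classOp, LinearMap.sum_apply]

theorem classOp_comm (a : G → ℂ) (ha : IsClassFunction G a) (ρ : Representation ℂ G V) (h : G) :
    classOp a ρ ∘ₗ ρ h = ρ h ∘ₗ classOp a ρ := by
  ext v
  simp only [LinearMap.comp_apply, classOp_apply, map_sum, map_smul]
  refine Fintype.sum_equiv (MulAut.conj h⁻¹).toEquiv _ _ (fun g => ?_)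
  simp only [MulEquiv.toEquiv_eq_coe, MulEquiv.coe_toEquiv, MulAut.conj_apply, inv_inv]
  have h1 : a (h⁻¹ * g * h) = a g := by
    have := ha g h⁻¹
    rwa [inv_inv] at this
  rw [h1, ← Module.End.mul_apply, ← Module.End.mul_apply, ← map_mul, ← map_mul]
  congr 3
  group

theorem trace_classOp [FiniteDimensional ℂ V] (a : G → ℂ) (ρ : Representation ℂ G V) :
    LinearMap.trace ℂ V (classOp a ρ) = ∑ g : G, a g * ρ.character g := by
  simp [classOp, map_sum, Representation.character]

/-- Schur: on an irreducible representation, a class function with vanishing pairing acts as `0`. -/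
theorem classOp_eq_zero_of_irreducible [FiniteDimensional ℂ V] (a : G → ℂ)
    (ha : IsClassFunction G a) (ρ : Representation ℂ G V) (hρ : ρ.IsIrreducible)
    (h0 : ∑ g : G, a g * ρ.character g = 0) : classOp a ρ = 0 := by
  have := hρ
  let T : Representation.IntertwiningMap ρ ρ :=
    ⟨classOp a ρ, fun g => classOp_comm a ha ρ g⟩
  obtain ⟨c, hc⟩ :=
    (Representation.IsIrreducible.algebraMap_intertwiningMap_bijective_of_isAlgClosed
      (ρ := ρ)).2 T
  have hT : classOp a ρ = c • LinearMap.id := by
    have h1 := congrArg Representation.IntertwiningMap.toLinearMap hc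
    rw [Representation.IntertwiningMap.algebraMap_apply] at h1
    exact h1.symm
  have htr := trace_classOp a ρ
  rw [h0, hT, map_smul, LinearMap.trace_id, smul_eq_mul] at htr
  have hV : Nontrivial V := by
    by_contra hV
    rw [not_nontrivial_iff_subsingleton] at hV
    have hnt : Nontrivial (Subrepresentation ρ) := IsSimpleOrder.toNontrivial
    obtain ⟨x, y, hxy⟩ := exists_pair_ne (Subrepresentation ρ)
    apply hxy
    apply Subrepresentation.toSubmodule_injective
    ext v
    have : v = 0 := Subsingleton.elim _ _
    simp [this]
  have hfr : (Module.finrank ℂ V : ℂ) ≠ 0 := by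
    exact_mod_cast (Module.finrank_pos (R := ℂ) (M := V)).ne'
  have hc0 : c = 0 := (mul_eq_zero.mp htr).resolve_right hfr
  rw [hT, hc0, zero_smul]

end classOp

section induction

variable {G : Type u} [Group G] [Fintype G]

/-- On a subrepresentation, `classOp` of the restricted representation is the restriction. -/
theorem classOp_subrep (a : G → ℂ) {V : Type*} [AddCommGroup V] [Module ℂ V]
    (ρ : Representation ℂ G V) (σ : Subrepresentation ρ) (w : σ.toSubmodule) :
    ((classOp a σ.toRepresentation w : σ.toSubmodule) : V) = classOp a ρ (w : V) := by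
  rw [classOp_apply, classOp_apply, Submodule.coe_sum]
  refine Finset.sum_congr rfl (fun g _ => ?_)
  rw [Submodule.coe_smul]
  rfl

/-- A class function pairing to zero with all irreducible characters acts as zero on every
finite-dimensional representation (induction on the dimension, using Maschke and Schur). -/
theorem classOp_eq_zero (a : G → ℂ) (ha : IsClassFunction G a)
    (h : ∀ χ : IrrCharacter G, ∑ g : G, a g * (χ : G → ℂ) g = 0) :
    ∀ (n : ℕ) (V : Type u) [AddCommGroup V] [Module ℂ V] [FiniteDimensional ℂ V]
      (ρ : Representation ℂ G V), Module.finrank ℂ V = n → classOp a ρ = 0 := by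
  have hne : NeZero (Nat.card G : ℂ) := ⟨by exact_mod_cast (Nat.card_pos (α := G)).ne'⟩
  intro n
  induction n using Nat.strong_induction_on with
  | _ n ih =>
    intro V _ _ _ ρ hn
    by_cases hV : Subsingleton V
    · ext v
      exact Subsingleton.elim _ _
    rw [not_subsingleton_iff_nontrivial] at hV
    by_cases hirr : ρ.IsIrreducible
    · exact classOp_eq_zero_of_irreducible a ha ρ hirr
        (h ⟨ρ.character, isIrrCharacter_of_irreducible ρ hirr⟩)
    · -- there is a proper nonzero subrepresentation
      have hex : ∃ σ : Subrepresentation ρ, σ ≠ ⊥ ∧ σ ≠ ⊤ := by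
        by_contra hcon
        push Not at hcon
        apply hirr
        refine { exists_pair_ne := ⟨⊥, ⊤, ?_⟩, eq_bot_or_eq_top := ?_ }
        · intro hbt
          have : (⊥ : Submodule ℂ V) = ⊤ := congrArg Subrepresentation.toSubmodule hbt
          exact bot_ne_top this
        · intro σ
          by_cases h1 : σ = ⊥
          · exact Or.inl h1
          · exact Or.inr (hcon σ h1)
      obtain ⟨σ, hσb, hσt⟩ := hex
      obtain ⟨σ', hc⟩ := exists_isCompl σ
      have hσ't : σ' ≠ ⊤ := by
        intro h1
        apply hσb
        have := hc.inf_eq_bot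
        rwa [h1, inf_top_eq] at this
      have hlt : ∀ τ : Subrepresentation ρ, τ ≠ ⊤ → Module.finrank ℂ τ.toSubmodule < n := by
        intro τ hτ
        rw [← hn]
        apply Submodule.finrank_lt
        intro h1
        apply hτ
        exact Subrepresentation.toSubmodule_injective h1
      have hz : ∀ τ : Subrepresentation ρ, τ ≠ ⊤ → ∀ w ∈ τ.toSubmodule, classOp a ρ w = 0 := by
        intro τ hτ w hw
        have h1 := ih _ (hlt τ hτ) τ.toSubmodule τ.toRepresentation rfl
        have h2 := classOp_subrep a ρ τ ⟨w, hw⟩
        rw [h1] at h2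
        exact h2.symm
      ext v
      have hv : v ∈ (σ ⊔ σ').toSubmodule := by
        rw [hc.sup_eq_top]
        trivial
      rw [Subrepresentation.toSubmodule_sup] at hv
      obtain ⟨w, hw, w', hw', rfl⟩ := Submodule.mem_sup.mp hv
      rw [map_add, hz σ hσt w hw, hz σ' hσ't w' hw', add_zero, LinearMap.zero_apply]

end induction

section regular

variable {G : Type u} [Group G]

/-- The left regular representation on functions `G → ℂ`: `(g • f) x = f (g⁻¹ x)`. -/
noncomputable def regRep (G : Type u) [Group G] : Representation ℂ G (G → ℂ) where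
  toFun g := LinearMap.funLeft ℂ ℂ (fun x => g⁻¹ * x)
  map_one' := by
    ext f x
    simp [LinearMap.funLeft_apply]
  map_mul' g h := by
    ext f x
    simp [LinearMap.funLeft_apply, mul_assoc]

theorem regRep_apply (g : G) (f : G → ℂ) (x : G) : regRep G g f x = f (g⁻¹ * x) := rfl

variable [Fintype G]

/-- Completeness, pairing form: a class function `a` with `∑ a g * χ g = 0` for every
irreducible character `χ` vanishes. -/
theorem eq_zero_of_forall_sum_mul_irr_eq_zero (a : G → ℂ) (ha : IsClassFunction G a)
    (h : ∀ χ : IrrCharacter G, ∑ g : G, a g * (χ : G → ℂ) g = 0) : a = 0 := by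
  classical
  have h0 := classOp_eq_zero a ha h _ (G → ℂ) (regRep G) rfl
  funext x
  have h1 := congrFun (congrArg (fun T => T (Pi.single 1 1)) h0) x
  simp only [LinearMap.zero_apply, Pi.zero_apply] at h1
  rw [classOp_apply, Finset.sum_apply] at h1
  simp only [Pi.smul_apply, regRep_apply, smul_eq_mul] at h1
  rw [Finset.sum_eq_single x] at h1
  · simpa using h1
  · intro g _ hg
    have : g⁻¹ * x ≠ 1 := by
      intro h2
      apply hg
      rw [inv_mul_eq_one] at h2
      exact h2
    simp [this]
  · intro hx
    exact absurd (Finset.mem_univ x) hx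

/-- Completeness: a class function orthogonal to every irreducible character vanishes. -/
theorem eq_zero_of_forall_classInner_irr_eq_zero (f : G → ℂ) (hf : IsClassFunction G f)
    (h : ∀ χ : IrrCharacter G, classInner f (χ : G → ℂ) = 0) : f = 0 := by
  have ha : IsClassFunction G (fun g => f g⁻¹) := by
    intro g k
    show f (k * g * k⁻¹)⁻¹ = f g⁻¹
    have := hf g⁻¹ k
    rw [← this]
    congr 1
    group
  have h1 : (fun g => f g⁻¹) = 0 := by
    apply eq_zero_of_forall_sum_mul_irr_eq_zero _ ha
    intro χ
    have h2 := h χ
    rw [classInner] at h2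
    have hcard : (Nat.card G : ℂ)⁻¹ ≠ 0 := by
      apply inv_ne_zero
      exact_mod_cast (Nat.card_pos (α := G)).ne'
    have h3 := (mul_eq_zero.mp h2).resolve_left hcard
    rw [← h3]
    refine Fintype.sum_equiv (Equiv.inv G) _ _ (fun g => ?_)
    simp only [Equiv.inv_apply]
    rw [isCharacter_apply_inv (isCharacter_of_irr χ.2), Complex.conj_conj]
  funext g
  have := congrFun h1 g⁻¹
  simpa using this

end regular

end Cfsg.Agent.Lib.H24
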