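import Mathlib
import Cfsg.Prelude.Def_Characters
import Cfsg.Prelude.Def_Blocks
import Cfsg.Agent.Lib.L0.CharOps
import Cfsg.Agent.Lib.L0.CharInd
import Cfsg.Agent.Lib.L0.CharIndChar
import Cfsg.Agent.Lib.L0.CharLinear
import Cfsg.Agent.Lib.H23.DegreeDvd
import Cfsg.Agent.Lib.H24.CharOrth
import Cfsg.Agent.Lib.H24.CharAbelian

/-!
# Linear characters as homomorphisms (helper24's library)

* `hom_mul_conj` : `f g * conj (f g) = 1` for `f : G →* ℂˣ`, `G` finite.
* `isIrrCharacter_mul_hom` : irreducible times linear is irreducible.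
* `homIrr` : the irreducible character of a homomorphism `G →* ℂˣ`.
* `card_hom_trivial_on_le_index` : at most `|G : I|` homomorphisms `G →* ℂˣ` are trivial on `I`.
* `le_commutator_of_minimal_nonabelian`, `hom_apply_eq_one_of_mem_commutator`.
-/

set_option autoImplicit false

namespace Cfsg.Agent.Lib.H24

open Cfsg Cfsg.Agent.Lib.L0 Cfsg.Agent.Lib.H23
open scoped ComplexConjugate

section homs

variable {G : Type*} [Group G]

theorem norm_hom_apply [Finite G] (f : G →* ℂˣ) (g : G) : ‖(f g : ℂ)‖ = 1 := by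
  have h1 : (f g : ℂ) ^ Nat.card G = 1 := by
    rw [← Units.val_pow_eq_pow_val, ← map_pow, pow_card_eq_one', map_one, Units.val_one]
  exact Complex.norm_eq_one_of_pow_eq_one h1 Nat.card_pos.ne'

theorem hom_mul_conj [Finite G] (f : G →* ℂˣ) (g : G) : (f g : ℂ) * conj (f g : ℂ) = 1 := by
  rw [Complex.mul_conj, Complex.normSq_eq_norm_sq, norm_hom_apply]
  simp

/-- The irreducible character attached to a homomorphism to `ℂˣ`. -/
noncomputable def homIrr (f : G →* ℂˣ) : IrrCharacter G :=
  ⟨fun g => (f g : ℂ), isIrrCharacter_of_hom f⟩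

theorem homIrr_apply (f : G →* ℂˣ) (g : G) : (homIrr f : G → ℂ) g = (f g : ℂ) := rfl

theorem homIrr_injective : Function.Injective (homIrr (G := G)) := by
  intro f f' h
  ext g
  have := congrFun (congrArg Subtype.val h) g
  exact this

theorem charDegree_homIrr [Finite G] (f : G →* ℂˣ) : charDegree (homIrr f : G → ℂ) = 1 := by
  apply charDegree_eq_of_apply_one
  simp [homIrr_apply]

theorem isIrrCharacter_mul_hom [Finite G] (ψ : G → ℂ) (hψ : IsIrrCharacter G ψ) (f : G →* ℂˣ) :
    IsIrrCharacter G (fun g => ψ g * (f g : ℂ)) := by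
  classical
  have := Fintype.ofFinite G
  have hchar : IsCharacter G (fun g => ψ g * (f g : ℂ)) :=
    isCharacter_mul (isCharacter_of_irr hψ) (isCharacter_of_irr (isIrrCharacter_of_hom f))
  refine isIrrCharacter_of_classInner_self_eq_one hchar ?_
  have h1 := irr_classInner_self hψ
  unfold classInner at h1 ⊢
  rw [← h1]
  congr 1
  refine Finset.sum_congr rfl (fun g _ => ?_)
  rw [map_mul]
  have := hom_mul_conj f g
  calc ψ g * (f g : ℂ) * (conj (ψ g) * conj (f g : ℂ))
      = ψ g * conj (ψ g) * ((f g : ℂ) * conj (f g : ℂ)) := by ring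
    _ = ψ g * conj (ψ g) := by rw [this, mul_one]

theorem hom_apply_eq_one_of_mem_commutator (f : G →* ℂˣ) {g : G} (hg : g ∈ commutator G) :
    f g = 1 := by
  have := Abelianization.commutator_subset_ker f hg
  exact this

theorem le_commutator_of_minimal_nonabelian (N : Subgroup G) (hN : N.Normal)
    (hmin : ∀ M : Subgroup G, M.Normal → M ≤ N → M = ⊥ ∨ M = N)
    (hna : ¬ IsMulCommutative ↥N) : N ≤ commutator G := by
  have hnorm : (⁅N, N⁆ : Subgroup G).Normal := Subgroup.commutator_normal N N
  have hle : ⁅N, N⁆ ≤ N := Subgroup.commutator_le_left N N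
  rcases hmin _ hnorm hle with h | h
  · exfalso
    apply hna
    rw [Subgroup.commutator_eq_bot_iff_le_centralizer] at h
    refine ⟨⟨fun a b => ?_⟩⟩
    apply Subtype.ext
    have := h a.2 b b.2
    simp only [Subgroup.coe_mul]
    exact this.symm
  · rw [← h, commutator_def]
    exact Subgroup.commutator_mono le_top le_top

end homs

section bound

variable {G : Type*} [Group G] [Finite G]

/-- At most `|G : I|` homomorphisms `G →* ℂˣ` are trivial on `I`. -/
theorem card_hom_trivial_on_le_index (I : Subgroup G) (S : Finset (G →* ℂˣ))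
    (hS : ∀ ν ∈ S, ∀ i ∈ I, ν i = 1) : S.card ≤ I.index := by
  classical
  have := Fintype.ofFinite G
  have := Fintype.ofFinite I
  have := Fintype.ofFinite (IrrCharacter G)
  have hπchar : IsCharacter G (indFun I (1 : I → ℂ)) :=
    isCharacter_indFun I (isCharacter_of_irr Cfsg.Agent.Lib.L0.isIrrCharacter_one)
  have hm : ∀ χ : IrrCharacter G, ∃ m : ℕ, classInner (indFun I (1 : I → ℂ)) (χ : G → ℂ) = m :=
    fun χ => classInner_char_irr_nat hπchar χ.2
  choose m hm using hm
  have hexp : indFun I (1 : I → ℂ) = ∑ χ : IrrCharacter G, (m χ : ℂ) • (χ : G → ℂ) := by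
    have h1 := classFunction_expansion _ (indFun_isClassFunction I (1 : I → ℂ))
    simp only [hm] at h1
    exact h1
  have hsum : I.index = ∑ χ : IrrCharacter G, m χ * charDegree (χ : G → ℂ) := by
    have h1 := congrFun hexp 1
    rw [indFun_one] at h1
    simp only [Pi.one_apply, mul_one, Finset.sum_apply, Pi.smul_apply, smul_eq_mul] at h1
    have h2 : ((I.index : ℕ) : ℂ) =
        ((∑ χ : IrrCharacter G, m χ * charDegree (χ : G → ℂ) : ℕ) : ℂ) := by
      rw [h1]
      push_cast
      refine Finset.sum_congr rfl (fun χ _ => ?_)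
      rw [apply_one_eq_charDegree _ χ.2]
    exact_mod_cast h2
  have hone : ∀ ν ∈ S, m (homIrr ν) * charDegree (homIrr ν : G → ℂ) = 1 := by
    intro ν hν
    rw [charDegree_homIrr, mul_one]
    have h1 := hm (homIrr ν)
    rw [frobenius_reciprocity I _ _ (irr_isClassFunction (homIrr ν))] at h1
    have h2 : (fun h : I => (homIrr ν : G → ℂ) h) = (1 : I → ℂ) := by
      funext i
      rw [homIrr_apply, hS ν hν i i.2]
      rfl
    rw [h2, irr_classInner_self Cfsg.Agent.Lib.L0.isIrrCharacter_one] at h1
    exact_mod_cast h1.symm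
  calc S.card = (S.image homIrr).card := (Finset.card_image_of_injective S homIrr_injective).symm
    _ = ∑ χ ∈ S.image homIrr, 1 := by simp
    _ = ∑ χ ∈ S.image homIrr, m χ * charDegree (χ : G → ℂ) := by
        refine Finset.sum_congr rfl (fun χ hχ => ?_)
        obtain ⟨ν, hν, rfl⟩ := Finset.mem_image.mp hχ
        exact (hone ν hν).symm
    _ ≤ ∑ χ : IrrCharacter G, m χ * charDegree (χ : G → ℂ) :=
        Finset.sum_le_sum_of_subset (Finset.subset_univ _)
    _ = I.index := hsum.symm

end bound

end Cfsg.Agent.Lib.H24
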