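import Cfsg.Agent.S0174
import Cfsg.Agent.Lib.H23.CliffordCorr
import Cfsg.Agent.Lib.H23.FullyRamified
import Cfsg.Agent.Lib.H23.Ito
import Cfsg.Agent.Lib.H24.CharOrth
import Cfsg.Agent.Lib.H24.CharDefl
import Cfsg.Agent.Lib.H24.CharLinearMul
import Cfsg.Agent.Lib.H24.CharAbelian

/-!
# Invariant characters over an abelian chief factor (Isaacs 6.18), abstract form

`K` is a finite group, `L` a normal subgroup with `K/L` abelian, `𝒜` a set of automorphisms of `K`
stabilizing `L`, such that no `𝒜`-invariant subgroup lies strictly between `L` and `K`.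
For an `𝒜`-invariant `ϑ ∈ Irr(K)` the restriction `ϑ_L` is irreducible, or `e φ` with
`e² = |K:L|`, or a sum of `|K:L|` distinct irreducible characters.
-/

set_option autoImplicit false

namespace Cfsg.Agent.Lib.H24

open Cfsg Cfsg.Agent.Lib.L0 Cfsg.Agent.Lib.H23 Cfsg.Agent.Lib.H8
open scoped ComplexConjugate

section

variable {K : Type*} [Group K] [Fintype K] (L : Subgroup K) [hLn : L.Normal]

/-- The conjugate `φ^k` of a function on a normal subgroup. -/
def conjChar (φ : L → ℂ) (k : K) : L → ℂ :=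
  fun n => φ ⟨k * n * k⁻¹, hLn.conj_mem n n.2 k⟩

theorem conjChar_apply (φ : L → ℂ) (k : K) (n : L) :
    conjChar L φ k n = φ ⟨k * n * k⁻¹, hLn.conj_mem n n.2 k⟩ := rfl

/-- The inertia subgroup of a function on a normal subgroup. -/
def inertia (φ : L → ℂ) : Subgroup K where
  carrier := {k | ∀ n : L, φ ⟨k * n * k⁻¹, hLn.conj_mem n n.2 k⟩ = φ n}
  mul_mem' := by
    intro g h hg hh n
    have h1 := hh n
    have h2 := hg ⟨h * n * h⁻¹, hLn.conj_mem n n.2 h⟩
    rw [← h1, ← h2]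
    congr 1
    apply Subtype.ext
    show g * h * n * (g * h)⁻¹ = g * (h * n * h⁻¹) * g⁻¹
    group
  one_mem' := by
    intro n
    congr 1
    apply Subtype.ext
    show 1 * (n : K) * 1⁻¹ = n
    group
  inv_mem' := by
    intro g hg n
    have h2 := hg ⟨g⁻¹ * n * g⁻¹⁻¹, hLn.conj_mem n n.2 g⁻¹⟩
    rw [← h2]
    congr 1
    apply Subtype.ext
    show g * (g⁻¹ * n * g⁻¹⁻¹) * g⁻¹ = (n : K)
    group

omit [Fintype K] in
theorem mem_inertia (φ : L → ℂ) (k : K) :
    k ∈ inertia L φ ↔ ∀ n : L, φ ⟨k * n * k⁻¹, hLn.conj_mem n n.2 k⟩ = φ n := Iff.rfl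

/-- Clifford's theorem with the orbit as a `Finset`. -/
theorem clifford_finset [Fintype L] (ϑ : K → ℂ) (hϑ : IsIrrCharacter K ϑ) (φ : L → ℂ)
    (hφ : IsIrrCharacter L φ) (hc : classInner (fun n : L => ϑ n) φ ≠ 0) :
    ∃ F : Finset (L → ℂ), (∀ ψ ∈ F, ∃ k : K, ψ = conjChar L φ k) ∧ φ ∈ F ∧
      (fun n : L => ϑ n) = classInner (fun n : L => ϑ n) φ • ∑ ψ ∈ F, ψ := by
  classical
  have h := Cfsg.Agent.S0174.result L hLn ϑ hϑ φ hφ hc
  have hS : {ψ : L → ℂ | ∃ g : K, ψ = fun n : L => φ ⟨g * n * g⁻¹, hLn.conj_mem n n.2 g⟩}.Finite := by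
    have : {ψ : L → ℂ | ∃ g : K, ψ = fun n : L => φ ⟨g * n * g⁻¹, hLn.conj_mem n n.2 g⟩}
        = Set.range (fun g : K => conjChar L φ g) := by
      ext ψ
      constructor
      · rintro ⟨g, rfl⟩; exact ⟨g, rfl⟩
      · rintro ⟨g, rfl⟩; exact ⟨g, rfl⟩
    rw [this]
    exact Set.finite_range _
  rw [finsum_mem_eq_finite_toFinset_sum _ hS] at h
  refine ⟨hS.toFinset, ?_, ?_, h⟩
  · intro ψ hψ
    rw [Set.Finite.mem_toFinset] at hψ
    exact hψ
  · rw [Set.Finite.mem_toFinset]
    refine ⟨1, ?_⟩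
    funext n
    congr 1
    apply Subtype.ext
    show (n : K) = 1 * n * 1⁻¹
    group

/-- Two irreducible constituents of `ϑ_L` are conjugate. -/
theorem conj_of_constituent [Fintype L] (ϑ : K → ℂ) (hϑ : IsIrrCharacter K ϑ) (φ ξ : L → ℂ)
    (hφ : IsIrrCharacter L φ) (hξ : IsIrrCharacter L ξ)
    (hcφ : classInner (fun n : L => ϑ n) φ ≠ 0) (hcξ : classInner (fun n : L => ϑ n) ξ ≠ 0) :
    ∃ k : K, ξ = conjChar L φ k := by
  classical
  obtain ⟨F, hF, -, hsum⟩ := clifford_finset L ϑ hϑ φ hφ hcφ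
  by_contra hno
  push Not at hno
  apply hcξ
  rw [hsum, classInner_smul_left, classInner_sum_left]
  rw [Finset.sum_eq_zero, mul_zero]
  intro ψ hψ
  obtain ⟨k, rfl⟩ := hF ψ hψ
  apply irr_classInner_ne (isIrrCharacter_conjNormal L φ hφ k) hξ
  exact fun h => hno k h.symm

end

section twist

variable {K : Type*} [Group K] [Fintype K] (L : Subgroup K) [hLn : L.Normal]

omit [Fintype K] in
theorem quotient_comm_of_commutator_le (hab : commutator K ≤ L) (a b : K ⧸ L) : a * b = b * a := by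
  obtain ⟨x, rfl⟩ := QuotientGroup.mk_surjective a
  obtain ⟨y, rfl⟩ := QuotientGroup.mk_surjective b
  rw [← QuotientGroup.mk_mul, ← QuotientGroup.mk_mul, QuotientGroup.eq]
  apply hab
  rw [commutator_def]
  have : (x * y)⁻¹ * (y * x) = y⁻¹ * x⁻¹ * y⁻¹⁻¹ * x⁻¹⁻¹ := by group
  rw [this]
  exact Subgroup.commutator_mem_commutator (Subgroup.mem_top _) (Subgroup.mem_top _)

theorem irr_quotient_apply_one (hab : commutator K ≤ L) (ψ : IrrCharacter (K ⧸ L)) :
    (ψ : K ⧸ L → ℂ) 1 = 1 :=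
  irr_apply_one_of_comm (quotient_comm_of_commutator_le L hab) ψ

/-- The hom `K →* ℂˣ` attached to an irreducible character of the abelian quotient `K ⧸ L`. -/
noncomputable def quotHom (hab : commutator K ≤ L) (ψ : IrrCharacter (K ⧸ L)) : K →* ℂˣ :=
  linearCharHom (isCharacter_of_irr (inflIrr L ψ).2) (by
    rw [inflIrr_apply, QuotientGroup.mk_one]
    exact irr_quotient_apply_one L hab ψ)

theorem quotHom_apply (hab : commutator K ≤ L) (ψ : IrrCharacter (K ⧸ L)) (x : K) :
    (quotHom L hab ψ x : ℂ) = (ψ : K ⧸ L → ℂ) (x : K ⧸ L) := rfl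

theorem isIrrCharacter_twist (hab : commutator K ≤ L) (ψ : IrrCharacter (K ⧸ L)) (ϑ : K → ℂ)
    (hϑ : IsIrrCharacter K ϑ) :
    IsIrrCharacter K (fun x => ϑ x * (ψ : K ⧸ L → ℂ) (x : K ⧸ L)) :=
  isIrrCharacter_mul_hom ϑ hϑ (quotHom L hab ψ)

/-- `∑_ψ ψ(x̄) = |K:L|` or `0` according to whether `x ∈ L`. -/
theorem sum_irr_quotient_apply (hab : commutator K ≤ L) [Fintype (IrrCharacter (K ⧸ L))]
    [DecidablePred (fun x : K => x ∈ L)] (x : K) :
    ∑ ψ : IrrCharacter (K ⧸ L), (ψ : K ⧸ L → ℂ) (x : K ⧸ L) =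
      if x ∈ L then (L.index : ℂ) else 0 := by
  classical
  have h := second_orthogonality (G := K ⧸ L) (x : K ⧸ L) 1
  have h2 : ∑ ψ : IrrCharacter (K ⧸ L), (ψ : K ⧸ L → ℂ) (x : K ⧸ L) =
      ∑ ψ : IrrCharacter (K ⧸ L), (ψ : K ⧸ L → ℂ) (x : K ⧸ L) * conj ((ψ : K ⧸ L → ℂ) 1) := by
    refine Finset.sum_congr rfl (fun ψ _ => ?_)
    rw [irr_quotient_apply_one L hab ψ, map_one, mul_one]
  rw [h2, h]
  by_cases hx : x ∈ L
  · have hx1 : (x : K ⧸ L) = 1 := (QuotientGroup.eq_one_iff x).mpr hx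
    rw [if_pos hx, hx1, if_pos (IsConj.refl 1)]
    have : Subgroup.centralizer ({(1 : K ⧸ L)} : Set (K ⧸ L)) = ⊤ := by
      ext q
      simp [Subgroup.mem_centralizer_singleton_iff]
    rw [this, Subgroup.card_top, Subgroup.index_eq_card]
  · rw [if_neg hx, if_neg]
    intro hc
    apply hx
    have := isConj_one_left.mp hc
    exact (QuotientGroup.eq_one_iff x).mp this

/-- `∑_ψ ⟨ψϑ, ϑ⟩ = ⟨ϑ_L, ϑ_L⟩`. -/
theorem sum_classInner_twist [Fintype L] (hab : commutator K ≤ L)
    [Fintype (IrrCharacter (K ⧸ L))] (ϑ : K → ℂ) :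
    ∑ ψ : IrrCharacter (K ⧸ L),
        classInner (fun x => ϑ x * (ψ : K ⧸ L → ℂ) (x : K ⧸ L)) ϑ =
      classInner (fun n : L => ϑ n) (fun n : L => ϑ n) := by
  classical
  simp only [classInner]
  rw [← Finset.mul_sum, Finset.sum_comm]
  have h1 : ∀ x : K, ∑ ψ : IrrCharacter (K ⧸ L),
      ϑ x * (ψ : K ⧸ L → ℂ) (x : K ⧸ L) * conj (ϑ x) =
      if x ∈ L then (L.index : ℂ) * (ϑ x * conj (ϑ x)) else 0 := by
    intro x
    have : ∀ ψ : IrrCharacter (K ⧸ L), ϑ x * (ψ : K ⧸ L → ℂ) (x : K ⧸ L) * conj (ϑ x)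
        = (ψ : K ⧸ L → ℂ) (x : K ⧸ L) * (ϑ x * conj (ϑ x)) := fun ψ => by ring
    rw [Finset.sum_congr rfl (fun ψ _ => this ψ), ← Finset.sum_mul, sum_irr_quotient_apply L hab x]
    split_ifs <;> simp
  rw [Finset.sum_congr rfl (fun x _ => h1 x), ← Finset.sum_filter,
    Finset.sum_subtype (Finset.univ.filter (fun x : K => x ∈ L)) (p := fun x => x ∈ L)
      (by simp) (fun x => (L.index : ℂ) * (ϑ x * conj (ϑ x))), ← Finset.mul_sum]
  have hK : (Nat.card K : ℂ) = (Nat.card L : ℂ) * (L.index : ℂ) := by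
    exact_mod_cast (Subgroup.card_mul_index L).symm
  have hL0 : (Nat.card L : ℂ) ≠ 0 := by exact_mod_cast Nat.card_pos.ne'
  have hi0 : (L.index : ℂ) ≠ 0 := by
    exact_mod_cast (Subgroup.index_ne_zero_of_finite (H := L))
  rw [hK]
  field_simp

end twist

section core

variable {K : Type*} [Group K] [Fintype K] (L : Subgroup K) [hLn : L.Normal]

/-- **Isaacs 6.18**, abstract form. -/
theorem chief_factor_trichotomy (𝒜 : Set (MulAut K))
    (hL𝒜 : ∀ σ ∈ 𝒜, ∀ x ∈ L, σ x ∈ L)
    (hchief : ∀ M : Subgroup K, (∀ σ ∈ 𝒜, ∀ x ∈ M, σ x ∈ M) → L ≤ M → M = L ∨ M = ⊤)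
    (hab : commutator K ≤ L) (ϑ : K → ℂ) (hϑ : IsIrrCharacter K ϑ)
    (hinv : ∀ σ ∈ 𝒜, ∀ x, ϑ (σ x) = ϑ x) :
    IsIrrCharacter L (fun x : L => ϑ x) ∨
      (∃ (φ : L → ℂ) (e : ℕ), IsIrrCharacter L φ ∧ (fun x : L => ϑ x) = (e : ℂ) • φ ∧
        e ^ 2 = L.index) ∨
      (∃ F : Finset (L → ℂ), (∀ φ ∈ F, IsIrrCharacter L φ) ∧ F.card = L.index ∧
        (fun x : L => ϑ x) = ∑ φ ∈ F, φ) := by
  classical
  have : Fintype L := Fintype.ofFinite L
  have hϑc := isCharacter_of_irr hϑ
  have hresc : IsCharacter L (fun x : L => ϑ x) := isCharacter_restrict L hϑc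
  have hres1 : (fun x : L => ϑ x) 1 ≠ 0 := irr_one_ne_zero ⟨ϑ, hϑ⟩
  obtain ⟨φ, hφ, hcφ⟩ := exists_irr_constituent hresc hres1
  obtain ⟨F, hFconj, hφF, hFsum⟩ := clifford_finset L ϑ hϑ φ hφ hcφ
  have hφcl : IsClassFunction L φ := isClassFunction_of_isCharacter (isCharacter_of_irr hφ)
  -- restriction of an automorphism in 𝒜 to L
  have hσL : ∀ σ ∈ 𝒜, ∃ τ : L ≃* L, ∀ n : L, ((τ n : L) : K) = σ n := by
    intro σ hσ
    let f : L →* L := MonoidHom.mk' (fun n : L => (⟨σ n, hL𝒜 σ hσ n n.2⟩ : L)) (by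
      intro a b
      apply Subtype.ext
      show σ ((a * b : L) : K) = σ a * σ b
      rw [Subgroup.coe_mul, map_mul])
    have hf : ∀ n : L, ((f n : L) : K) = σ n := fun n => rfl
    have hinj : Function.Injective f := by
      intro a b hab'
      apply Subtype.ext
      have := congrArg Subtype.val hab'
      rw [hf, hf] at this
      exact σ.injective this
    have hbij : Function.Bijective f := ⟨hinj, Finite.injective_iff_surjective.mp hinj⟩
    exact ⟨MulEquiv.ofBijective f hbij, fun n => rfl⟩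
  set T := inertia L φ with hT
  have hLT : L ≤ T := by
    intro k hk
    rw [hT, mem_inertia]
    intro n
    have := hφcl n ⟨k, hk⟩
    rw [← this]
    congr 1
  have hKT : commutator K ≤ T := hab.trans hLT
  have hTn : ∀ k ∈ T, ∀ x : K, x * k * x⁻¹ ∈ T := by
    intro k hk x
    have h1 : x * k * x⁻¹ * k⁻¹ ∈ T := by
      apply hKT
      rw [commutator_def]
      exact Subgroup.commutator_mem_commutator (Subgroup.mem_top x) (Subgroup.mem_top k)
    have h2 : x * k * x⁻¹ = (x * k * x⁻¹ * k⁻¹) * k := by group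
    rw [h2]
    exact T.mul_mem h1 hk
  have hT𝒜 : ∀ σ ∈ 𝒜, ∀ x ∈ T, σ x ∈ T := by
    intro σ hσ x hx
    obtain ⟨τ, hτ⟩ := hσL σ hσ
    have hirrτ : IsIrrCharacter L (φ ∘ τ) :=
      isIrrCharacter_comp_of_surjective τ.toMonoidHom τ.surjective hφ
    have hresτ : (fun n : L => ϑ n) ∘ τ = fun n : L => ϑ n := by
      funext n
      show ϑ ((τ n : L) : K) = ϑ n
      rw [hτ, hinv σ hσ]
    have hcτ : classInner (fun n : L => ϑ n) (φ ∘ τ) ≠ 0 := by
      rw [← hresτ, classInner_comp_equiv]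
      exact hcφ
    obtain ⟨k₀, hk₀⟩ := conj_of_constituent L ϑ hϑ φ (φ ∘ τ) hφ hirrτ hcφ hcτ
    rw [hT, mem_inertia]
    intro n
    -- n = τ n'
    obtain ⟨n', rfl⟩ := τ.surjective n
    have hx' : k₀ * x * k₀⁻¹ ∈ T := hTn x hx k₀
    rw [hT, mem_inertia] at hx'
    have e1 : (⟨σ x * ((τ n' : L) : K) * (σ x)⁻¹, hLn.conj_mem _ (τ n').2 _⟩ : L)
        = τ ⟨x * n' * x⁻¹, hLn.conj_mem n' n'.2 x⟩ := by
      apply Subtype.ext
      show σ x * ((τ n' : L) : K) * (σ x)⁻¹
        = ((τ ⟨x * n' * x⁻¹, hLn.conj_mem n' n'.2 x⟩ : L) : K)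
      rw [hτ, hτ]
      show σ x * σ n' * (σ x)⁻¹ = σ (x * n' * x⁻¹)
      rw [map_mul, map_mul, map_inv]
    rw [e1]
    have e2 : φ (τ ⟨x * n' * x⁻¹, hLn.conj_mem n' n'.2 x⟩)
        = conjChar L φ k₀ ⟨x * n' * x⁻¹, hLn.conj_mem n' n'.2 x⟩ := by
      rw [← hk₀]; rfl
    have e3 : φ (τ n') = conjChar L φ k₀ n' := by
      rw [← hk₀]; rfl
    rw [e2, e3, conjChar_apply, conjChar_apply]
    have := hx' ⟨k₀ * n' * k₀⁻¹, hLn.conj_mem n' n'.2 k₀⟩
    rw [← this]
    congr 1
    apply Subtype.ext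
    show k₀ * (x * n' * x⁻¹) * k₀⁻¹ = k₀ * x * k₀⁻¹ * (k₀ * n' * k₀⁻¹) * (k₀ * x * k₀⁻¹)⁻¹
    group
  rcases hchief T hT𝒜 hLT with hTL | hTtop
  · -- inertia group is L: case (c)
    right; right
    have hTmem : ∀ g : K, g ∈ L ↔ ∀ n : L, φ ⟨g * n * g⁻¹, hLn.conj_mem (n : K) n.2 g⟩ = φ n := by
      intro g
      constructor
      · intro hg
        have hgT : g ∈ T := by rw [hTL]; exact hg
        exact (mem_inertia L φ g).mp hgT
      · intro h
        have hgT : g ∈ T := (mem_inertia L φ g).mpr h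
        rw [hTL] at hgT
        exact hgT
    obtain ⟨ψ, hψ, hind, hmult⟩ :=
      clifford_correspondence L L (le_refl L) φ hφ hTmem ϑ hϑ hcφ
    have hres : resTo L L (le_refl L) ψ = ψ := by
      funext n; rfl
    rw [hres] at hmult
    have hψφ : ψ = φ := by
      by_contra hne
      apply hcφ
      rw [← hmult]
      exact irr_classInner_ne hψ hφ hne
    rw [hψφ] at hmult hind
    have he1 : classInner (fun n : L => ϑ n) φ = 1 := by
      rw [← hmult]; exact irr_classInner_self hφ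
    rw [he1, one_smul] at hFsum
    refine ⟨F, ?_, ?_, hFsum⟩
    · intro ψ' hψ'
      obtain ⟨k, rfl⟩ := hFconj ψ' hψ'
      exact isIrrCharacter_conjNormal L φ hφ k
    · have h1 : ϑ 1 = (L.index : ℂ) * φ 1 := by
        rw [← hind, indFun_one]
      have h2 : ϑ 1 = (F.card : ℂ) * φ 1 := by
        have := congrFun hFsum 1
        simp only [Finset.sum_apply] at this
        have h3 : ∀ ψ' ∈ F, ψ' 1 = φ 1 := by
          intro ψ' hψ'
          obtain ⟨k, rfl⟩ := hFconj ψ' hψ'
          rw [conjChar_apply]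
          congr 1
          apply Subtype.ext
          show k * ((1 : L) : K) * k⁻¹ = ((1 : L) : K)
          simp
        rw [Finset.sum_congr rfl h3, Finset.sum_const, nsmul_eq_mul] at this
        exact this
      have hφ1 : φ 1 ≠ 0 := irr_one_ne_zero ⟨φ, hφ⟩
      have : (F.card : ℂ) = (L.index : ℂ) := by
        apply mul_right_cancel₀ hφ1
        rw [← h1, ← h2]
      exact_mod_cast this
  · -- φ is K-invariant
    have hinvφ : ∀ (g : K) (n : L), φ ⟨g * n * g⁻¹, hLn.conj_mem (n : K) n.2 g⟩ = φ n := by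
      intro g
      have : g ∈ T := by rw [hTtop]; exact Subgroup.mem_top g
      exact this
    have hsmul := restrict_eq_smul_of_invariant L ϑ hϑ φ hφ hcφ hinvφ
    obtain ⟨e, he⟩ := classInner_char_irr_nat hresc hφ
    rw [he] at hsmul
    have hee : classInner (fun n : L => ϑ n) (fun n : L => ϑ n) = ((e ^ 2 : ℕ) : ℂ) := by
      rw [hsmul, classInner_smul_left, classInner_smul_right, irr_classInner_self hφ]
      simp only [Complex.conj_natCast, mul_one]
      push_cast
      ring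
    -- the subgroup generated by L and the support of ϑ
    set V : Subgroup K := Subgroup.closure {x : K | ϑ x ≠ 0} ⊔ L with hV
    have hLV : L ≤ V := le_sup_right
    have hV𝒜 : ∀ σ ∈ 𝒜, ∀ x ∈ V, σ x ∈ V := by
      intro σ hσ x hx
      have hmap : V.map σ.toMonoidHom ≤ V := by
        rw [hV, Subgroup.map_sup, MonoidHom.map_closure]
        apply sup_le_sup
        · apply Subgroup.closure_mono
          rintro _ ⟨y, hy, rfl⟩
          show ϑ (σ y) ≠ 0
          rw [hinv σ hσ]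
          exact hy
        · rintro _ ⟨y, hy, rfl⟩
          exact hL𝒜 σ hσ y hy
      exact hmap ⟨x, hx, rfl⟩
    rcases hchief V hV𝒜 hLV with hVL | hVtop
    · -- ϑ vanishes off L: case (b)
      right; left
      refine ⟨φ, e, hφ, hsmul, ?_⟩
      have hvan : ∀ g : K, g ∉ L → ϑ g = 0 := by
        intro g hg
        by_contra hne
        apply hg
        rw [← hVL]
        exact (le_sup_left : Subgroup.closure {x : K | ϑ x ≠ 0} ≤ V) (Subgroup.subset_closure hne)
      have := (classInner_restrict_self_eq_index_iff L ϑ hϑ).mpr hvan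
      rw [hee] at this
      exact_mod_cast this
    · -- only the trivial twist fixes ϑ: case (a)
      left
      have := Fintype.ofFinite (IrrCharacter (K ⧸ L))
      have hsum := sum_classInner_twist L hab ϑ
      rw [hee] at hsum
      have hterm : ∀ ψ : IrrCharacter (K ⧸ L),
          classInner (fun x => ϑ x * (ψ : K ⧸ L → ℂ) (x : K ⧸ L)) ϑ =
            if ψ = trivialIrr (K ⧸ L) then 1 else 0 := by
        intro ψ
        have h := irr_orthonormal (⟨_, isIrrCharacter_twist L hab ψ ϑ hϑ⟩ : IrrCharacter K) ⟨ϑ, hϑ⟩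
        rw [show ((⟨_, isIrrCharacter_twist L hab ψ ϑ hϑ⟩ : IrrCharacter K) : K → ℂ)
          = fun x => ϑ x * (ψ : K ⧸ L → ℂ) (x : K ⧸ L) from rfl,
          show ((⟨ϑ, hϑ⟩ : IrrCharacter K) : K → ℂ) = ϑ from rfl] at h
        rw [h]
        by_cases hψ : ψ = trivialIrr (K ⧸ L)
        · rw [if_pos hψ, if_pos]
          apply Subtype.ext
          funext x
          show ϑ x * (ψ : K ⧸ L → ℂ) (x : K ⧸ L) = ϑ x
          rw [hψ, trivialIrr_apply, mul_one]
        · rw [if_neg hψ, if_neg]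
          intro heq
          apply hψ
          have heq' : ∀ x : K, ϑ x * (ψ : K ⧸ L → ℂ) (x : K ⧸ L) = ϑ x := by
            intro x
            exact congrFun (congrArg Subtype.val heq) x
          -- the kernel of the hom contains V = ⊤
          have hker : V ≤ (quotHom L hab ψ).ker := by
            rw [hV]
            apply sup_le
            · rw [Subgroup.closure_le]
              intro x hx
              have hx' : ϑ x ≠ 0 := hx
              show x ∈ (quotHom L hab ψ).ker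
              rw [MonoidHom.mem_ker]
              apply Units.ext
              rw [quotHom_apply, Units.val_one]
              have := heq' x
              exact mul_left_cancel₀ hx' (by rw [this, mul_one])
            · intro x hx
              rw [MonoidHom.mem_ker]
              apply Units.ext
              rw [quotHom_apply, Units.val_one, (QuotientGroup.eq_one_iff x).mpr hx]
              exact irr_quotient_apply_one L hab ψ
          apply Subtype.ext
          funext q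
          obtain ⟨x, rfl⟩ := QuotientGroup.mk_surjective q
          have hx : x ∈ (quotHom L hab ψ).ker := hker (by rw [hVtop]; exact Subgroup.mem_top x)
          rw [MonoidHom.mem_ker] at hx
          have := congrArg Units.val hx
          rw [quotHom_apply, Units.val_one] at this
          rw [trivialIrr_apply]
          exact this
      rw [Finset.sum_congr rfl (fun ψ _ => hterm ψ), Finset.sum_ite_eq' Finset.univ,
        if_pos (Finset.mem_univ _)] at hsum
      have he2 : e ^ 2 = 1 := by exact_mod_cast hsum.symm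
      have he1 : e = 1 := by
        rcases Nat.pow_eq_one.mp he2 with h | h
        · exact h
        · omega
      rw [he1, Nat.cast_one, one_smul] at hsmul
      rw [hsmul]
      exact hφ

end core

end Cfsg.Agent.Lib.H24
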