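import Mathlib
import Cfsg.Prelude.Def_Blocks

/-!
# S4719: shared definition `SR` (helper24, architect)

`SR r a N` is the statement of S4719 for a FIXED `r`, with the explicit bound `N`.  The universe `u`
is fixed: the frozen statement quantifies over `G : Type u`.
-/

set_option autoImplicit false
universe u

namespace Cfsg.Agent.Lib.H24.B4719

open Cfsg

/-- The statement of S4719 for a fixed `r`, with the explicit bound `N`. -/
def SR (r a N : ℕ) : Prop :=
  ∀ (G : Type u) [Group G] [Finite G] (M : Ideal AlgInt) (P : Sylow 2 G),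
    IsPModular 2 M → Nat.card P = 2 ^ a →
    (∀ B : Set (IrrCharacter G), IsPBlock M B → B ≠ principalBlock M G → blockDefect 2 B < r) →
    (∃ E : Subgroup G, E ≤ (P : Subgroup G) ∧ IsMulCommutative E ∧ (∀ x ∈ E, x * x = 1) ∧
      Nat.card E = 2 ^ (r + 1)) →
    Nat.card G ≤ N

theorem SR.mono {r a N N' : ℕ} (h : SR.{u} r a N) (hN : N ≤ N') : SR.{u} r a N' :=
  fun G _ _ M P hM hP hB hE => (h G M P hM hP hB hE).trans hN

end Cfsg.Agent.Lib.H24.B4719
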