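import Cfsg.Agent.Lib.H29.BtDefs

/-!
# S2154 piece CLOSED : `{x | M ∈ UW (ω x)}` is closed (helper24)

Exact signature of `tools/blueprints/S2154_sigs.lean`: `isClosed_UW`.
-/

set_option autoImplicit false
set_option linter.unusedSectionVars false

namespace Cfsg.Agent.Lib.H24.BT

open Cfsg.Agent.Lib.H29.BT

variable {ι : Type*} [Fintype ι] [DecidableEq ι] {F : Type*} [Field F]

theorem isClosed_UW (l : ℕ) (ω : (Fin l → ℝ) → ι → ℝ) (hω : ∀ a, Continuous fun x => ω x a)
    (M : Matrix ι ι F) :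
    IsClosed {x : Fin l → ℝ | M ∈ UW (ω x)} := by
  by_cases hd : ∀ a, M a a = 1
  · have : {x : Fin l → ℝ | M ∈ UW (ω x)} =
        ⋂ a, ⋂ b, ⋂ (_ : a ≠ b), ⋂ (_ : M a b ≠ 0), {x | ω x b + 1 ≤ ω x a} := by
      ext x
      simp only [Set.mem_ofPred_eq, Set.mem_iInter, UW]
      exact ⟨fun h => h.2, fun h => ⟨hd, h⟩⟩
    rw [this]
    refine isClosed_iInter fun a => isClosed_iInter fun b => isClosed_iInter fun _ =>
      isClosed_iInter fun _ => ?_
    exact isClosed_le ((hω b).add continuous_const) (hω a)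
  · have : {x : Fin l → ℝ | M ∈ UW (ω x)} = ∅ := by
      ext x
      simp only [Set.mem_ofPred_eq, Set.mem_empty_iff_false, iff_false, UW]
      exact fun h => hd h.1
    rw [this]
    exact isClosed_empty

end Cfsg.Agent.Lib.H24.BT
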