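import Cfsg.Agent.Lib.H29.BtDefs

/-!
# S2154 piece GRD1 : monoid facts on graded matrices (helper24)

Exact signatures of `tools/blueprints/S2154_sigs.lean`, piece GRD1.
-/

set_option autoImplicit false
set_option linter.unusedSectionVars false

namespace Cfsg.Agent.Lib.H24.BT

open Cfsg.Agent.Lib.H29.BT

variable {ι : Type*} [Fintype ι] [DecidableEq ι] {F : Type*} [Field F]

/-- a nonzero entry of a product comes from a nonzero pair. -/
theorem grd1_exists_of_mul_ne_zero (M N : Matrix ι ι F) (a b : ι) (h : (M * N) a b ≠ 0) :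
    ∃ c, M a c ≠ 0 ∧ N c b ≠ 0 := by
  rw [Matrix.mul_apply] at h
  obtain ⟨c, _, hc⟩ := Finset.exists_ne_zero_of_sum_ne_zero h
  exact ⟨c, left_ne_zero_of_mul hc, right_ne_zero_of_mul hc⟩

/-- diagonal entries of a product of two unitriangular-type matrices. -/
theorem grd1_diag (M N : Matrix ι ι F) (a : ι) (hM : M a a = 1) (hN : N a a = 1)
    (h : ∀ c, c ≠ a → M a c ≠ 0 → N c a ≠ 0 → False) : (M * N) a a = 1 := by
  rw [Matrix.mul_apply, Finset.sum_eq_single a]
  · rw [hM, hN, mul_one]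
  · intro c _ hca
    by_contra hne
    exact h c hca (left_ne_zero_of_mul hne) (right_ne_zero_of_mul hne)
  · intro ha
    exact absurd (Finset.mem_univ a) ha

theorem UW_one (ω : ι → ℝ) : (1 : Matrix ι ι F) ∈ UW ω := by
  refine ⟨fun a => Matrix.one_apply_eq a, fun a b hab h => ?_⟩
  exact absurd (Matrix.one_apply_ne hab) h

theorem UW_mul (ω : ι → ℝ) (M N : Matrix ι ι F) (hM : M ∈ UW ω) (hN : N ∈ UW ω) :
    M * N ∈ UW ω := by
  refine ⟨fun a => ?_, fun a b hab h => ?_⟩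
  · refine grd1_diag M N a (hM.1 a) (hN.1 a) fun c hca h1 h2 => ?_
    have e1 := hM.2 a c hca.symm h1
    have e2 := hN.2 c a hca h2
    linarith
  · obtain ⟨c, h1, h2⟩ := grd1_exists_of_mul_ne_zero M N a b h
    by_cases hca : c = a
    · subst hca
      exact hN.2 c b hab h2
    · by_cases hcb : c = b
      · subst hcb
        exact hM.2 a c hab h1
      · have e1 := hM.2 a c (Ne.symm hca) h1
        have e2 := hN.2 c b hcb h2
        linarith

theorem U0W_one (ω : ι → ℝ) : (1 : Matrix ι ι F) ∈ U0W ω := by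
  refine ⟨fun a => Matrix.one_apply_eq a, fun a b hab h => ?_⟩
  exact absurd (Matrix.one_apply_ne hab) h

theorem U0W_mul (ω : ι → ℝ) (M N : Matrix ι ι F) (hM : M ∈ U0W ω) (hN : N ∈ U0W ω) :
    M * N ∈ U0W ω := by
  refine ⟨fun a => ?_, fun a b hab h => ?_⟩
  · refine grd1_diag M N a (hM.1 a) (hN.1 a) fun c hca h1 h2 => ?_
    have e1 := hM.2 a c hca.symm h1
    have e2 := hN.2 c a hca h2
    linarith
  · obtain ⟨c, h1, h2⟩ := grd1_exists_of_mul_ne_zero M N a b h
    by_cases hca : c = a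
    · subst hca
      exact hN.2 c b hab h2
    · by_cases hcb : c = b
      · subst hcb
        exact hM.2 a c hab h1
      · have e1 := hM.2 a c (Ne.symm hca) h1
        have e2 := hN.2 c b hcb h2
        linarith

theorem PW_one (ω : ι → ℝ) : (1 : Matrix ι ι F) ∈ PW ω := by
  intro a b h
  by_cases hab : a = b
  · rw [hab]
  · exact absurd (Matrix.one_apply_ne hab) h

theorem PW_mul (ω : ι → ℝ) (M N : Matrix ι ι F) (hM : M ∈ PW ω) (hN : N ∈ PW ω) :
    M * N ∈ PW ω := by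
  intro a b h
  obtain ⟨c, h1, h2⟩ := grd1_exists_of_mul_ne_zero M N a b h
  exact le_trans (hN c b h2) (hM a c h1)

theorem TrW_one (ω : ι → ℝ) : (1 : Matrix ι ι F) ∈ TrW ω ω := by
  intro a b h
  by_cases hab : a = b
  · rw [hab]
  · exact absurd (Matrix.one_apply_ne hab) h

/-- `M` carries `ω` to `ω'`, `N` carries `ω'` to `ω''`: `N * M` carries `ω` to `ω''` -/
theorem TrW_mul (ω ω' ω'' : ι → ℝ) (M N : Matrix ι ι F) (hM : M ∈ TrW ω ω')
    (hN : N ∈ TrW ω' ω'') : N * M ∈ TrW ω ω'' := by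
  intro a b h
  obtain ⟨c, h1, h2⟩ := grd1_exists_of_mul_ne_zero N M a b h
  exact (hN a c h1).trans (hM c b h2)

theorem UW_sub_U0W (ω : ι → ℝ) : (UW ω : Set (Matrix ι ι F)) ⊆ U0W ω := by
  intro M hM
  refine ⟨hM.1, fun a b hab h => ?_⟩
  have := hM.2 a b hab h
  linarith

theorem U0W_sub_PW (ω : ι → ℝ) : (U0W ω : Set (Matrix ι ι F)) ⊆ PW ω := by
  intro M hM a b h
  by_cases hab : a = b
  · rw [hab]
  · exact (hM.2 a b hab h).le

theorem TrW_sub_PW (ω : ι → ℝ) : (TrW ω ω : Set (Matrix ι ι F)) ⊆ PW ω := by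
  intro M hM a b h
  exact (hM a b h).symm.le

end Cfsg.Agent.Lib.H24.BT
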