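import Cfsg.Agent.Lib.H15.DXDefs
import Cfsg.Agent.Lib.H24.CharDefl

/-!
# S4467 piece DEFL (helper24): an irreducible character deflates to a faithful irreducible
character of the quotient by its kernel.
-/

set_option autoImplicit false

namespace Cfsg.Agent.Lib.H24.DX

open Cfsg Cfsg.Agent.Lib.H15.DX Cfsg.Agent.Lib.L0 Cfsg.Agent.Lib.H24

universe u

/-- DEFL -/
theorem exists_faithful_quotient {M : Type u} [Group M] [Finite M] (ψ : M → ℂ)
    (hψ : IsIrrCharacter M ψ) :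
    ∃ (K : Subgroup M) (_ : K.Normal) (ψ' : M ⧸ K → ℂ), IsIrrCharacter (M ⧸ K) ψ' ∧
      Faithful ψ' ∧ ψ' 1 = ψ 1 ∧ ∀ x : M, x ∈ K ↔ ψ x = ψ 1 := by
  obtain ⟨φ, hφ⟩ := exists_deflation (⟨ψ, hψ⟩ : IrrCharacter M)
    (charKer ψ (isCharacter_of_irr hψ)) (fun _ hn => hn)
  have h1 : (φ : M ⧸ charKer ψ (isCharacter_of_irr hψ) → ℂ) 1 = ψ 1 := by
    have := hφ 1
    rwa [QuotientGroup.mk_one] at this
  refine ⟨charKer ψ (isCharacter_of_irr hψ), inferInstance, (φ : _ → ℂ), φ.2, ?_, h1,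
    fun x => Iff.rfl⟩
  intro q hq
  obtain ⟨g, rfl⟩ := QuotientGroup.mk_surjective q
  rw [h1, hφ g] at hq
  exact (QuotientGroup.eq_one_iff g).mpr hq

end Cfsg.Agent.Lib.H24.DX
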