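import Cfsg.Agent.Lib.H24.GlaubSolv5
import Cfsg.Agent.Lib.H12.CliffordHom

/-!
# Ambient Clifford tools and the action of a normalising subgroup on `Irr(N)` (helper24)

All groups are subgroups of one finite group `Γ`.
* `irrAct N Q hQN : MulAction Q (IrrCharacter N)` (non-instance), `(q • φ)(n) = φ(q⁻¹ n q)`;
  `irrAct_fixed_iff`: fixed points are the `Q`-invariant characters;
* `sum_irr_modEq`: orbit counting mod `p` for a `p`-group `Q`;
* `exists_irr_over_amb`, `exists_conj_of_constituents_amb` (Clifford), `resMult_dvd_charDegree`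
  (the ramification `[χ_N, θ]` divides `χ(1)` for `N ⊴ G`).
-/

set_option autoImplicit false

universe u

namespace Cfsg.Agent.Lib.H24.Glaub

open Cfsg Cfsg.Agent.Lib.L0 Cfsg.Agent.Lib.H23 Cfsg.Agent.Lib.H24

variable {Γ : Type u} [Group Γ] [Fintype Γ]

section act

variable (N Q : Subgroup Γ) (hQN : ∀ q ∈ Q, ∀ n ∈ N, q * n * q⁻¹ ∈ N)

/-- The action of a normalising subgroup `Q` on `Irr(N)`: `(q • φ)(n) = φ(q⁻¹ n q)`. -/
noncomputable def irrAct : MulAction Q (IrrCharacter N) where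
  smul q φ := irrPerm (conjN N ((q : Γ)⁻¹) (hQN _ (Q.inv_mem q.2))
    (inv_norm_of_norm (hQN _ (Q.inv_mem q.2)))) φ
  one_smul φ := by
    apply Subtype.ext
    funext n
    show (φ : N → ℂ) (conjN N (((1 : Q) : Γ)⁻¹) _ _ n) = (φ : N → ℂ) n
    apply congrArg
    apply Subtype.ext
    rw [conjN_apply]
    simp
  mul_smul q₁ q₂ φ := by
    apply Subtype.ext
    funext n
    show (φ : N → ℂ) (conjN N (((q₁ * q₂ : Q) : Γ)⁻¹) _ _ n) =
      (φ : N → ℂ) (conjN N ((q₂ : Γ)⁻¹) _ _ (conjN N ((q₁ : Γ)⁻¹) _ _ n))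
    apply congrArg
    apply Subtype.ext
    rw [conjN_apply, conjN_apply, conjN_apply, Subgroup.coe_mul]
    group

theorem irrAct_smul_apply (q : Q) (φ : IrrCharacter N) (n : N) :
    (((irrAct N Q hQN).smul q φ : IrrCharacter N) : N → ℂ) n =
      (φ : N → ℂ) ⟨(q : Γ)⁻¹ * n * ((q : Γ)⁻¹)⁻¹, hQN _ (Q.inv_mem q.2) n n.2⟩ := rfl

theorem irrAct_smul_coe (q : Q) (φ : IrrCharacter N) :
    (((irrAct N Q hQN).smul q φ : IrrCharacter N) : N → ℂ) =
      (φ : N → ℂ) ∘ conjN N ((q : Γ)⁻¹) (hQN _ (Q.inv_mem q.2))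
        (inv_norm_of_norm (hQN _ (Q.inv_mem q.2))) := rfl

theorem irrAct_fixed_iff (φ : IrrCharacter N) :
    (∀ q : Q, (irrAct N Q hQN).smul q φ = φ) ↔ ∀ q ∈ Q, InvUnder N q (φ : N → ℂ) := by
  constructor
  · intro h q hq g g' hgg'
    have h1 := h ⟨q, hq⟩
    have h2 := congrFun (congrArg Subtype.val h1) g'
    rw [irrAct_smul_apply] at h2
    rw [← h2]
    apply congrArg
    apply Subtype.ext
    show q⁻¹ * (g' : Γ) * (q⁻¹)⁻¹ = (g : Γ)
    rw [hgg']
    group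
  · intro h q
    apply Subtype.ext
    funext n
    rw [irrAct_smul_apply]
    exact h (q : Γ)⁻¹ (Q.inv_mem q.2) n _ rfl

theorem sum_irr_modEq {p : ℕ} (hp : p.Prime) (hQ : IsPGroup p Q) [Fintype (IrrCharacter N)]
    (f : IrrCharacter N → ℤ)
    (hf : ∀ (q : Q) (φ : IrrCharacter N), f ((irrAct N Q hQN).smul q φ) = f φ)
    [DecidablePred (fun φ : IrrCharacter N => ∀ q ∈ Q, InvUnder N q (φ : N → ℂ))] :
    (∑ φ : IrrCharacter N, f φ) ≡
      ∑ φ : IrrCharacter N, (if ∀ q ∈ Q, InvUnder N q (φ : N → ℂ) then f φ else 0) [ZMOD p] := by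
  classical
  haveI : Fact p.Prime := ⟨hp⟩
  letI : MulAction Q (IrrCharacter N) := irrAct N Q hQN
  have h1 := sum_modEq_sum_fixedPoints (P := Q) (X := IrrCharacter N) hQ f hf
  refine h1.trans ?_
  have hsum : (∑ φ : IrrCharacter N,
      (if φ ∈ MulAction.fixedPoints Q (IrrCharacter N) then f φ else 0)) =
      ∑ φ : IrrCharacter N, (if ∀ q ∈ Q, InvUnder N q (φ : N → ℂ) then f φ else 0) := ?_
  · rw [hsum]
  apply Finset.sum_congr rfl
  intro φ _
  have h2 : φ ∈ MulAction.fixedPoints Q (IrrCharacter N) ↔ ∀ q ∈ Q, InvUnder N q (φ : N → ℂ) := by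
    rw [MulAction.mem_fixedPoints]
    exact irrAct_fixed_iff N Q hQN φ
  by_cases h : ∀ q ∈ Q, InvUnder N q (φ : N → ℂ)
  · rw [if_pos h, if_pos (h2.mpr h)]
  · rw [if_neg h, if_neg (fun h' => h (h2.mp h'))]

end act

section clifford

variable {G N : Subgroup Γ} [Fintype G] [Fintype N]

theorem exists_irr_over_amb (hNG : N ≤ G) (θ : IrrCharacter N) :
    ∃ χ : IrrCharacter G, resMult hNG (χ : G → ℂ) (θ : N → ℂ) ≠ 0 := by
  obtain ⟨π, hπ, hc⟩ := Cfsg.Agent.Lib.H12.exists_irr_over (Subgroup.inclusion hNG)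
    (Subgroup.inclusion_injective hNG) θ.2
  refine ⟨⟨π, hπ⟩, ?_⟩
  intro h0
  apply hc
  have h1 := resMult_spec hNG (isCharacter_of_irr hπ) θ.2
  rw [h0, Nat.cast_zero] at h1
  exact h1.symm

theorem resMult_ne_zero_iff (hNG : N ≤ G) (χ : IrrCharacter G) (θ : IrrCharacter N) :
    resMult hNG (χ : G → ℂ) (θ : N → ℂ) ≠ 0 ↔
      classInner (res hNG (χ : G → ℂ)) (θ : N → ℂ) ≠ 0 := by
  have h1 := resMult_spec hNG (isCharacter_of_irr χ.2) θ.2
  rw [← h1]
  exact Nat.cast_ne_zero.symm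

theorem exists_conj_of_constituents_amb (hNG : N ≤ G)
    (hNn : ∀ g ∈ G, ∀ n ∈ N, g * n * g⁻¹ ∈ N) (χ : IrrCharacter G) (θ φ : IrrCharacter N)
    (hθ : resMult hNG (χ : G → ℂ) (θ : N → ℂ) ≠ 0)
    (hφ : resMult hNG (χ : G → ℂ) (φ : N → ℂ) ≠ 0) :
    ∃ c : Γ, ∃ hc : c ∈ G, (φ : N → ℂ) =
      (θ : N → ℂ) ∘ conjN N c (hNn c hc) (inv_norm_of_norm (hNn c hc)) := by
  have h1 := (resMult_ne_zero_iff hNG χ θ).mp hθ
  have h2 := (resMult_ne_zero_iff hNG χ φ).mp hφ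
  obtain ⟨x, hx⟩ := Cfsg.Agent.Lib.H12.exists_conj_of_constituents (Subgroup.inclusion hNG)
    (Subgroup.inclusion_injective hNG)
    (fun (x : G) (n : N) => (⟨(x : Γ) * n * (x : Γ)⁻¹, hNn x x.2 n n.2⟩ : N))
    (fun x n => Subtype.ext rfl) χ.2 φ.2 θ.2 h2 h1
  refine ⟨(x : Γ), x.2, ?_⟩
  funext n
  exact (hx n).symm

theorem resMult_dvd_charDegree (hNG : N ≤ G) (hNn : ∀ g ∈ G, ∀ n ∈ N, g * n * g⁻¹ ∈ N)
    (χ : IrrCharacter G) (θ : IrrCharacter N)
    (hθ : resMult hNG (χ : G → ℂ) (θ : N → ℂ) ≠ 0) :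
    resMult hNG (χ : G → ℂ) (θ : N → ℂ) ∣ charDegree (χ : G → ℂ) := by
  classical
  letI : Fintype (IrrCharacter N) := Fintype.ofFinite _
  set e := resMult hNG (χ : G → ℂ) (θ : N → ℂ) with he
  set d := charDegree (θ : N → ℂ) with hd
  have hχc := isCharacter_of_irr χ.2
  have hexp := classFunction_expansion (res hNG (χ : G → ℂ))
    (isClassFunction_of_isCharacter (isCharacter_res hNG hχc))
  have h1 := congrFun hexp 1
  rw [Finset.sum_apply] at h1
  have h2 : ∀ φ : IrrCharacter N,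
      (classInner (res hNG (χ : G → ℂ)) (φ : N → ℂ) • (φ : N → ℂ)) 1 =
        ((resMult hNG (χ : G → ℂ) (φ : N → ℂ) * charDegree (φ : N → ℂ) : ℕ) : ℂ) := by
    intro φ
    rw [Pi.smul_apply, smul_eq_mul, ← resMult_spec hNG hχc φ.2,
      apply_one_eq_charDegree _ φ.2]
    push_cast
    rfl
  rw [Finset.sum_congr rfl (fun φ _ => h2 φ)] at h1
  have h3 : res hNG (χ : G → ℂ) 1 = (charDegree (χ : G → ℂ) : ℂ) := by
    rw [← apply_one_eq_charDegree _ χ.2]
    rfl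
  rw [h3, ← Nat.cast_sum] at h1
  have h4 : charDegree (χ : G → ℂ) =
      ∑ φ : IrrCharacter N, resMult hNG (χ : G → ℂ) (φ : N → ℂ) * charDegree (φ : N → ℂ) := by
    exact_mod_cast h1
  have h5 : ∀ φ : IrrCharacter N,
      resMult hNG (χ : G → ℂ) (φ : N → ℂ) * charDegree (φ : N → ℂ) =
        if resMult hNG (χ : G → ℂ) (φ : N → ℂ) ≠ 0 then e * d else 0 := by
    intro φ
    by_cases hφ : resMult hNG (χ : G → ℂ) (φ : N → ℂ) ≠ 0
    · rw [if_pos hφ]
      obtain ⟨c, hc, hφc⟩ := exists_conj_of_constituents_amb hNG hNn χ θ φ hθ hφ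
      have hinv : InvUnder G c (χ : G → ℂ) :=
        invUnder_of_mem hc (isClassFunction_of_isCharacter hχc)
      have h6 : resMult hNG (χ : G → ℂ) (φ : N → ℂ) = e := by
        rw [hφc, resMult_conj_right hNG (hNn c hc) (inv_norm_of_norm (hNn c hc)) hinv]
      have h7 : charDegree (φ : N → ℂ) = d := by
        apply charDegree_eq_of_apply_one
        rw [hφc, Function.comp_apply, map_one]
        exact apply_one_eq_charDegree _ θ.2
      rw [h6, h7]
    · rw [if_neg hφ]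
      push Not at hφ
      rw [hφ, zero_mul]
  rw [Finset.sum_congr rfl (fun φ _ => h5 φ), ← Finset.sum_filter, Finset.sum_const,
    smul_eq_mul] at h4
  rw [h4]
  exact ⟨(Finset.univ.filter
    (fun φ : IrrCharacter N => resMult hNG (χ : G → ℂ) (φ : N → ℂ) ≠ 0)).card * d, by ring⟩

end clifford

end Cfsg.Agent.Lib.H24.Glaub
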