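import Mathlib
import Cfsg.Prelude.Def_Characters
import Cfsg.Agent.Lib.L0.CharOps
import Cfsg.Agent.Lib.L0.CharInd
import Cfsg.Agent.Lib.L0.CharIndChar
import Cfsg.Agent.Lib.H8.Clifford
import Cfsg.Agent.Lib.H24.CharOrth

/-!
# Gallagher-type theorems (helper24's library)

* `indFun_mul_restrict` : `(φ · χ_N)^G = φ^G · χ`.
* `indFun_coe_of_invariant` : `(φ^G)_N = |G:N| φ` for an invariant `φ`.
* `classInner_indFun_self_of_invariant` : `[φ^G, φ^G] = |G:N|` for invariant irreducible `φ`.
* `gallagher_orthonormal` : Isaacs 6.16: if `φ`, `ϑ`, `φϑ` are invariant irreducible characters of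
  `N ⊴ G` and `χ` extends `ϑ`, then the `βχ`, for `β` over `φ`, are orthonormal.
-/

set_option autoImplicit false

namespace Cfsg.Agent.Lib.H24

open Cfsg Cfsg.Agent.Lib.L0
open scoped ComplexConjugate

section gallagher

variable {G : Type*} [Group G] [Fintype G] (N : Subgroup G) [hN : N.Normal]

theorem indFun_mul_restrict (φ : N → ℂ) (χ : G → ℂ) (hχ : IsClassFunction G χ) :
    indFun N (φ * fun n : N => χ n) = indFun N φ * χ := by
  funext g
  rw [Pi.mul_apply, indFun_apply, indFun_apply, mul_assoc, Finset.sum_mul]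
  congr 1
  refine Finset.sum_congr rfl fun x _ => ?_
  by_cases hx : x⁻¹ * g * x ∈ N
  · rw [extendByZero_apply_of_mem N _ hx, extendByZero_apply_of_mem N _ hx]
    simp only [Pi.mul_apply]
    congr 1
    have := hχ g x⁻¹
    simpa using this
  · rw [extendByZero_apply_not_mem N _ hx, extendByZero_apply_not_mem N _ hx, zero_mul]

theorem indFun_coe_of_invariant (φ : N → ℂ)
    (hinv : ∀ (g : G) (n : N), φ ⟨g * n * g⁻¹, hN.conj_mem (n : G) n.2 g⟩ = φ n) (n : N) :
    indFun N φ (n : G) = (N.index : ℂ) * φ n := by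
  rw [Cfsg.Agent.Lib.H8.indFun_coe_of_normal]
  simp only [hinv, Finset.sum_const, Finset.card_univ, nsmul_eq_mul]
  have hNpos : (Nat.card N : ℂ) ≠ 0 := by exact_mod_cast (Nat.card_pos (α := N)).ne'
  rw [← Nat.card_eq_fintype_card, ← Subgroup.index_mul_card N]
  push_cast
  field_simp

theorem classInner_indFun_self_of_invariant [Fintype N] (φ : N → ℂ) (hφ : IsIrrCharacter N φ)
    (hinv : ∀ (g : G) (n : N), φ ⟨g * n * g⁻¹, hN.conj_mem (n : G) n.2 g⟩ = φ n) :
    classInner (indFun N φ) (indFun N φ) = (N.index : ℂ) := by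
  rw [frobenius_reciprocity N φ _ (indFun_isClassFunction N φ)]
  have h1 : (fun h : N => indFun N φ h) = (N.index : ℂ) • φ :=
    funext (fun n => indFun_coe_of_invariant N φ hinv n)
  rw [h1, classInner_smul_right, irr_classInner_self hφ]
  simp

/-- **Gallagher / Isaacs 6.16**, orthonormality form. -/
theorem gallagher_orthonormal (φ ϑ : N → ℂ) (hφ : IsIrrCharacter N φ)
    (hφinv : ∀ (g : G) (n : N), φ ⟨g * n * g⁻¹, hN.conj_mem (n : G) n.2 g⟩ = φ n)
    (hϑinv : ∀ (g : G) (n : N), ϑ ⟨g * n * g⁻¹, hN.conj_mem (n : G) n.2 g⟩ = ϑ n)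
    (hprod : IsIrrCharacter N (φ * ϑ)) (χ : G → ℂ) (hχ : IsIrrCharacter G χ)
    (hext : ∀ n : N, χ n = ϑ n) (β β' : IrrCharacter G)
    (hβ : classInner (indFun N φ) (β : G → ℂ) ≠ 0)
    (hβ' : classInner (indFun N φ) (β' : G → ℂ) ≠ 0) :
    classInner ((β : G → ℂ) * χ) ((β' : G → ℂ) * χ) = if β = β' then 1 else 0 := by
  classical
  have := Fintype.ofFinite N
  have := Fintype.ofFinite (IrrCharacter G)
  have hφchar : IsCharacter G (indFun N φ) := isCharacter_indFun N (isCharacter_of_irr hφ)
  have hχc := isCharacter_of_irr hχ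
  -- multiplicities
  have he : ∀ β : IrrCharacter G, ∃ e : ℕ, classInner (indFun N φ) (β : G → ℂ) = e :=
    fun β => classInner_char_irr_nat hφchar β.2
  choose e he using he
  have hm : ∀ β β' : IrrCharacter G, ∃ m : ℕ,
      classInner ((β : G → ℂ) * χ) ((β' : G → ℂ) * χ) = m :=
    fun β β' => classInner_char_char_nat (isCharacter_mul (isCharacter_of_irr β.2) hχc)
      (isCharacter_mul (isCharacter_of_irr β'.2) hχc)
  choose m hm using hm
  -- expansions
  have hexp : indFun N φ = ∑ β : IrrCharacter G, (e β : ℂ) • (β : G → ℂ) := by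
    have h1 := classFunction_expansion (indFun N φ) (indFun_isClassFunction N φ)
    simp only [he] at h1
    exact h1
  have hϑeq : ϑ = fun n : N => χ n := funext (fun n => (hext n).symm)
  have hexp2 : indFun N (φ * ϑ) = ∑ β : IrrCharacter G, (e β : ℂ) • ((β : G → ℂ) * χ) := by
    rw [hϑeq, indFun_mul_restrict N φ χ (isClassFunction_of_isCharacter hχc)]
    conv_lhs => rw [hexp]
    rw [Finset.sum_mul]
    refine Finset.sum_congr rfl fun β _ => ?_
    rw [smul_mul_assoc]
  -- norms
  have hprodinv : ∀ (g : G) (n : N),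
      (φ * ϑ) ⟨g * n * g⁻¹, hN.conj_mem (n : G) n.2 g⟩ = (φ * ϑ) n := by
    intro g n
    simp only [Pi.mul_apply, hφinv, hϑinv]
  have hnorm1 : (∑ β : IrrCharacter G, (e β) ^ 2 : ℕ) = N.index := by
    have h1 := classInner_indFun_self_of_invariant N φ hφ hφinv
    conv_lhs at h1 => rw [hexp]
    rw [classInner_sum_left] at h1
    have h2 : ∀ β : IrrCharacter G,
        classInner ((e β : ℂ) • (β : G → ℂ)) (∑ β : IrrCharacter G, (e β : ℂ) • (β : G → ℂ))
          = ((e β) ^ 2 : ℕ) := by
      intro β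
      rw [classInner_smul_left, ← hexp, ← classInner_conj_symm, he]
      simp [sq]
    simp only [h2] at h1
    exact_mod_cast h1
  have hnorm2 : (∑ β : IrrCharacter G, ∑ β' : IrrCharacter G, e β * e β' * m β β' : ℕ)
      = N.index := by
    have h1 := classInner_indFun_self_of_invariant N (φ * ϑ) hprod hprodinv
    rw [hexp2, classInner_sum_left] at h1
    have h2 : ∀ β : IrrCharacter G,
        classInner ((e β : ℂ) • ((β : G → ℂ) * χ))
          (∑ β : IrrCharacter G, (e β : ℂ) • ((β : G → ℂ) * χ))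
          = ((∑ β' : IrrCharacter G, e β * e β' * m β β' : ℕ) : ℂ) := by
      intro β
      rw [classInner_smul_left, classInner_sum_right]
      push_cast
      rw [Finset.mul_sum]
      refine Finset.sum_congr rfl fun β' _ => ?_
      rw [classInner_smul_right, hm]
      simp
      ring
    simp only [h2] at h1
    exact_mod_cast h1
  -- diagonal entries are at least one
  have hdiag : ∀ β : IrrCharacter G, 1 ≤ m β β := by
    intro β
    rw [Nat.one_le_iff_ne_zero]
    intro h0
    have h1 := hm β β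
    rw [h0, Nat.cast_zero] at h1
    have h2 := congrFun (classInner_self_eq_zero h1) 1
    simp only [Pi.mul_apply, Pi.zero_apply, mul_eq_zero] at h2
    rcases h2 with h2 | h2
    · exact irr_one_ne_zero β h2
    · exact irr_one_ne_zero ⟨χ, hχ⟩ h2
  -- row sums
  have hrow_le : ∀ β : IrrCharacter G, (e β) ^ 2 ≤ ∑ β' : IrrCharacter G, e β * e β' * m β β' := by
    intro β
    calc (e β) ^ 2 ≤ e β * e β * m β β := by
          rw [sq]; exact Nat.le_mul_of_pos_right _ (hdiag β)
      _ ≤ ∑ β' : IrrCharacter G, e β * e β' * m β β' :=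
          Finset.single_le_sum (f := fun β' => e β * e β' * m β β')
            (fun _ _ => Nat.zero_le _) (Finset.mem_univ β)
  have hrow_eq : ∀ β : IrrCharacter G,
      (e β) ^ 2 = ∑ β' : IrrCharacter G, e β * e β' * m β β' := by
    have h1 := (Finset.sum_eq_sum_iff_of_le (s := Finset.univ)
      (f := fun β : IrrCharacter G => (e β) ^ 2)
      (g := fun β : IrrCharacter G => ∑ β' : IrrCharacter G, e β * e β' * m β β')
      (fun β _ => hrow_le β)).mp (by rw [hnorm1, hnorm2])
    exact fun β => h1 β (Finset.mem_univ β)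
  have heβ : e β ≠ 0 := by
    intro h0; apply hβ; rw [he, h0, Nat.cast_zero]
  have heβ' : e β' ≠ 0 := by
    intro h0; apply hβ'; rw [he, h0, Nat.cast_zero]
  have hrow := hrow_eq β
  rw [← Finset.add_sum_erase Finset.univ _ (Finset.mem_univ β)] at hrow
  have hge : (e β) ^ 2 ≤ e β * e β * m β β := by
    rw [sq]; exact Nat.le_mul_of_pos_right _ (hdiag β)
  have hrest : ∑ x ∈ Finset.univ.erase β, e β * e x * m β x = 0 := by omega
  have hdiag1 : e β * e β * m β β = (e β) ^ 2 := by omega
  rw [hm]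
  by_cases hββ' : β = β'
  · subst hββ'
    rw [if_pos rfl]
    have hpos : 0 < e β * e β := Nat.mul_pos (Nat.pos_of_ne_zero heβ) (Nat.pos_of_ne_zero heβ)
    have : m β β = 1 := by
      rw [sq] at hdiag1
      exact Nat.eq_of_mul_eq_mul_left hpos (by rw [hdiag1, mul_one])
    rw [this, Nat.cast_one]
  · rw [if_neg hββ']
    have h1 := (Finset.sum_eq_zero_iff.mp hrest) β'
      (Finset.mem_erase.mpr ⟨fun h => hββ' h.symm, Finset.mem_univ _⟩)
    have : m β β' = 0 := by
      rcases Nat.mul_eq_zero.mp h1 with h2 | h2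
      · rcases Nat.mul_eq_zero.mp h2 with h3 | h3
        · exact absurd h3 heβ
        · exact absurd h3 heβ'
      · exact h2
    rw [this, Nat.cast_zero]

end gallagher

end Cfsg.Agent.Lib.H24
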