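import Mathlib
import Cfsg.Prelude.Def_Characters
import Cfsg.Agent.Lib.H23.ExtendCyclic
import Cfsg.Agent.Lib.H23.CenterIndex
import Cfsg.Agent.Lib.H23.FullyRamified
import Cfsg.Agent.Lib.H24.CharGallagher
import Cfsg.Agent.Lib.H24.CharBasic
import Cfsg.Agent.Lib.H24.CharComplete
import Cfsg.Agent.Lib.H24.CharOrth
import Cfsg.Agent.Lib.H23.CliffordCorr
import Cfsg.Agent.Lib.L0.CharOps
import Cfsg.Agent.Lib.L0.CharInd
import Cfsg.Agent.Lib.L0.CharBasic

/-!
# The finite central extension attached to an invariant irreducible representation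

`N ⊴ G`, `Y` an irreducible representation of `N` on `V` whose character is `G`-invariant.
`extGroup N Y M` is the group of pairs `(g, A)`, `A ∈ GL(V)` intertwining `Y` with its
`g`-conjugate and with `det A ^ M = 1`.  It is a finite group, it maps onto `G` with central
kernel, it contains a copy of `N`, and `(g, A) ↦ A` is a representation extending `Y`.

Main consequence: `ramification_dvd_index` (Isaacs 11.29 for invariant characters).
-/

set_option autoImplicit false

namespace Cfsg.Agent.Lib.H24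

open Cfsg Cfsg.Agent.Lib.L0 Cfsg.Agent.Lib.H23

section defs

variable {G : Type*} [Group G] (N : Subgroup G) [hN : N.Normal] {V : Type*} [AddCommGroup V]
  [Module ℂ V] (Y : Representation ℂ N V) (M : ℕ)

/-- The group of pairs `(g, A)` with `A` intertwining `Y` and its `g`-conjugate and
`det A ^ M = 1`. -/
def extGroup : Subgroup (G × (Module.End ℂ V)ˣ) where
  carrier := {x | (∀ n : N, (x.2 : Module.End ℂ V) * Y n =
      Y ⟨x.1 * n * x.1⁻¹, hN.conj_mem n n.2 x.1⟩ * (x.2 : Module.End ℂ V)) ∧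
    (LinearMap.det (x.2 : Module.End ℂ V)) ^ M = 1}
  mul_mem' := by
    rintro ⟨g, A⟩ ⟨h, B⟩ ⟨hA, hA'⟩ ⟨hB, hB'⟩
    refine ⟨fun n => ?_, ?_⟩
    · show ((A * B : (Module.End ℂ V)ˣ) : Module.End ℂ V) * Y n =
        Y ⟨g * h * n * (g * h)⁻¹, _⟩ * ((A * B : (Module.End ℂ V)ˣ) : Module.End ℂ V)
      have h1 := hB n
      have h2 := hA ⟨h * n * h⁻¹, hN.conj_mem n n.2 h⟩
      simp only at h1 h2
      rw [Units.val_mul, mul_assoc, h1, ← mul_assoc, h2, mul_assoc]
      congr 2
      apply Subtype.ext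
      show g * (h * n * h⁻¹) * g⁻¹ = g * h * n * (g * h)⁻¹
      group
    · show (LinearMap.det ((A * B : (Module.End ℂ V)ˣ) : Module.End ℂ V)) ^ M = 1
      simp only at hA' hB'
      rw [Units.val_mul, map_mul, mul_pow, hA', hB', one_mul]
  one_mem' := by
    refine ⟨fun n => ?_, ?_⟩
    · show ((1 : (Module.End ℂ V)ˣ) : Module.End ℂ V) * Y n =
        Y ⟨1 * n * 1⁻¹, _⟩ * ((1 : (Module.End ℂ V)ˣ) : Module.End ℂ V)
      rw [Units.val_one, one_mul, mul_one]
      congr 1
      apply Subtype.ext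
      show (n : G) = 1 * n * 1⁻¹
      group
    · show (LinearMap.det ((1 : (Module.End ℂ V)ˣ) : Module.End ℂ V)) ^ M = 1
      rw [Units.val_one, map_one, one_pow]
  inv_mem' := by
    rintro ⟨g, A⟩ ⟨hA, hA'⟩
    refine ⟨fun n => ?_, ?_⟩
    · show ((A⁻¹ : (Module.End ℂ V)ˣ) : Module.End ℂ V) * Y n =
        Y ⟨g⁻¹ * n * g⁻¹⁻¹, _⟩ * ((A⁻¹ : (Module.End ℂ V)ˣ) : Module.End ℂ V)
      have h2 := hA ⟨g⁻¹ * n * g⁻¹⁻¹, hN.conj_mem n n.2 g⁻¹⟩
      simp only at h2
      have h3 : (⟨g * ((⟨g⁻¹ * n * g⁻¹⁻¹, hN.conj_mem n n.2 g⁻¹⟩ : N) : G) * g⁻¹,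
          hN.conj_mem _ (hN.conj_mem n n.2 g⁻¹) g⟩ : N) = n := by
        apply Subtype.ext
        show g * (g⁻¹ * n * g⁻¹⁻¹) * g⁻¹ = n
        group
      rw [h3] at h2
      -- A * Y n' = Y n * A  ⇒  Y n' * A⁻¹ = A⁻¹ * Y n
      calc ((A⁻¹ : (Module.End ℂ V)ˣ) : Module.End ℂ V) * Y n
          = ((A⁻¹ : (Module.End ℂ V)ˣ) : Module.End ℂ V) * (Y n * (A : Module.End ℂ V)) *
              ((A⁻¹ : (Module.End ℂ V)ˣ) : Module.End ℂ V) := by
            rw [mul_assoc, mul_assoc, Units.mul_inv, mul_one]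
        _ = _ := by
            rw [← h2, ← mul_assoc, Units.inv_mul, one_mul]
    · show (LinearMap.det ((A⁻¹ : (Module.End ℂ V)ˣ) : Module.End ℂ V)) ^ M = 1
      simp only at hA'
      have h1 : LinearMap.det ((A⁻¹ : (Module.End ℂ V)ˣ) : Module.End ℂ V) *
          LinearMap.det ((A : (Module.End ℂ V)ˣ) : Module.End ℂ V) = 1 := by
        rw [← map_mul, Units.inv_mul, map_one]
      have h2 := congrArg (· ^ M) h1
      simp only [mul_pow, hA', mul_one, one_pow] at h2
      exact h2

theorem mem_extGroup_iff (x : G × (Module.End ℂ V)ˣ) :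
    x ∈ extGroup N Y M ↔ (∀ n : N, (x.2 : Module.End ℂ V) * Y n =
      Y ⟨x.1 * n * x.1⁻¹, hN.conj_mem n n.2 x.1⟩ * (x.2 : Module.End ℂ V)) ∧
    (LinearMap.det (x.2 : Module.End ℂ V)) ^ M = 1 := Iff.rfl

/-- The projection onto `G`. -/
def extFst : extGroup N Y M →* G :=
  (MonoidHom.fst G (Module.End ℂ V)ˣ).comp (extGroup N Y M).subtype

/-- The tautological representation `(g, A) ↦ A`. -/
def extRep : Representation ℂ (extGroup N Y M) V :=
  (Units.coeHom (Module.End ℂ V)).comp
    ((MonoidHom.snd G (Module.End ℂ V)ˣ).comp (extGroup N Y M).subtype)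

theorem extFst_apply (x : extGroup N Y M) : extFst N Y M x = x.1.1 := rfl

theorem extRep_apply (x : extGroup N Y M) : extRep N Y M x = (x.1.2 : Module.End ℂ V) := rfl

theorem extRep_intertwines (x : extGroup N Y M) (n : N) :
    extRep N Y M x * Y n =
      Y ⟨extFst N Y M x * n * (extFst N Y M x)⁻¹, hN.conj_mem n n.2 _⟩ * extRep N Y M x :=
  x.2.1 n

theorem extRep_det (x : extGroup N Y M) : (LinearMap.det (extRep N Y M x)) ^ M = 1 := x.2.2

end defs

section embed

variable {G : Type*} [Group G] (N : Subgroup G) [hN : N.Normal] {V : Type*} [AddCommGroup V]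
  [Module ℂ V] (Y : Representation ℂ N V) (M : ℕ)

/-- The copy of `N` inside the extension. -/
def extIncl (hM : ∀ n : N, (LinearMap.det (Y n)) ^ M = 1) : N →* extGroup N Y M :=
  MonoidHom.codRestrict (MonoidHom.prod N.subtype (MonoidHom.toHomUnits Y)) (extGroup N Y M)
    (fun n => by
      refine ⟨fun m => ?_, ?_⟩
      · show ((MonoidHom.toHomUnits Y n : (Module.End ℂ V)ˣ) : Module.End ℂ V) * Y m =
          Y ⟨(n : G) * m * (n : G)⁻¹, _⟩ * ((MonoidHom.toHomUnits Y n : (Module.End ℂ V)ˣ) :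
            Module.End ℂ V)
        rw [MonoidHom.coe_toHomUnits, ← map_mul, ← map_mul]
        congr 1
        apply Subtype.ext
        show (n : G) * m = (n : G) * m * (n : G)⁻¹ * n
        group
      · show (LinearMap.det ((MonoidHom.toHomUnits Y n : (Module.End ℂ V)ˣ) :
            Module.End ℂ V)) ^ M = 1
        rw [MonoidHom.coe_toHomUnits]
        exact hM n)

variable (hM : ∀ n : N, (LinearMap.det (Y n)) ^ M = 1)

theorem extFst_extIncl (n : N) : extFst N Y M (extIncl N Y M hM n) = n := rfl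

theorem extRep_extIncl (n : N) : extRep N Y M (extIncl N Y M hM n) = Y n := rfl

theorem extIncl_injective : Function.Injective (extIncl N Y M hM) := by
  intro a b hab
  have := congrArg (extFst N Y M) hab
  rw [extFst_extIncl, extFst_extIncl] at this
  exact Subtype.ext this

theorem ext_ext {x y : extGroup N Y M} (h1 : extFst N Y M x = extFst N Y M y)
    (h2 : extRep N Y M x = extRep N Y M y) : x = y := by
  apply Subtype.ext
  apply Prod.ext
  · exact h1
  · exact Units.ext h2

/-- Conjugation by the extension acts on the copy of `N` as conjugation by `G`. -/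
theorem conj_extIncl (x : extGroup N Y M) (n : N) :
    x * extIncl N Y M hM n * x⁻¹ =
      extIncl N Y M hM ⟨extFst N Y M x * n * (extFst N Y M x)⁻¹, hN.conj_mem n n.2 _⟩ := by
  apply ext_ext
  · rw [map_mul, map_mul, map_inv, extFst_extIncl, extFst_extIncl]
  · rw [map_mul, map_mul, extRep_extIncl, extRep_extIncl, extRep_intertwines, mul_assoc,
      ← map_mul, mul_inv_cancel, map_one, mul_one]

/-- The restriction of the tautological representation to the copy of `N` is `Y`. -/
theorem extRep_comp_extIncl :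
    (MonoidHom.comp (extRep N Y M) (extIncl N Y M hM) : Representation ℂ N V) = Y := by
  ext n : 1
  rfl

include hM in
theorem isIrreducible_extRep (hY : Y.IsIrreducible) : (extRep N Y M).IsIrreducible := by
  apply isIrreducible_of_comp (extIncl N Y M hM) (extRep N Y M)
  rw [extRep_comp_extIncl]
  exact hY

end embed

section schur

variable {G : Type*} [Group G] (N : Subgroup G) [hN : N.Normal] {V : Type*} [AddCommGroup V]
  [Module ℂ V] [FiniteDimensional ℂ V] (Y : Representation ℂ N V) (M : ℕ)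

/-- Elements of the extension lying over `N` are scalar multiples of `Y`. -/
theorem extRep_eq_smul_of_mem (hY : Y.IsIrreducible) (x : extGroup N Y M)
    (hx : extFst N Y M x ∈ N) : ∃ c : ℂ, extRep N Y M x = c • Y ⟨extFst N Y M x, hx⟩ := by
  have := hY
  set n : N := ⟨extFst N Y M x, hx⟩ with hn
  set A := extRep N Y M x with hA
  set T : Module.End ℂ V := Y n⁻¹ * A with hT
  have hcomm : ∀ m : N, T ∘ₗ Y m = Y m ∘ₗ T := by
    intro m
    rw [← Module.End.mul_eq_comp, ← Module.End.mul_eq_comp, hT, mul_assoc,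
      extRep_intertwines, ← mul_assoc, ← mul_assoc, ← map_mul, ← map_mul]
    congr 2
    apply Subtype.ext
    show (n : G)⁻¹ * (extFst N Y M x * m * (extFst N Y M x)⁻¹) = m * (n : G)⁻¹
    rw [hn]
    show (extFst N Y M x)⁻¹ * (extFst N Y M x * m * (extFst N Y M x)⁻¹) =
      m * (extFst N Y M x)⁻¹
    group
  obtain ⟨c, hc⟩ := exists_scalar_of_commute Y T hcomm
  refine ⟨c, ?_⟩
  have h1 : A = Y n * T := by
    rw [hT, ← mul_assoc, ← map_mul, mul_inv_cancel, map_one, one_mul]
  rw [h1, hc]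
  ext v
  simp

/-- Elements of the kernel of the projection are scalars. -/
theorem extRep_eq_smul_of_fst_eq_one (hY : Y.IsIrreducible) (x : extGroup N Y M)
    (hx : extFst N Y M x = 1) : ∃ c : ℂ, extRep N Y M x = c • 1 := by
  have hx' : extFst N Y M x ∈ N := by rw [hx]; exact N.one_mem
  obtain ⟨c, hc⟩ := extRep_eq_smul_of_mem N Y M hY x hx'
  refine ⟨c, ?_⟩
  rw [hc]
  have : (⟨extFst N Y M x, hx'⟩ : N) = 1 := Subtype.ext hx
  rw [this, map_one]

end schur

section surj

variable {G : Type*} [Group G] (N : Subgroup G) [hN : N.Normal] [Finite N] {V : Type*}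
  [AddCommGroup V] [Module ℂ V] [FiniteDimensional ℂ V] (Y : Representation ℂ N V) (M : ℕ)

/-- An invariant character gives intertwining operators. -/
theorem exists_intertwiner
    (hinv : ∀ (g : G) (n : N),
      Y.character ⟨g * n * g⁻¹, hN.conj_mem n n.2 g⟩ = Y.character n) (g : G) :
    ∃ A : (Module.End ℂ V)ˣ, ∀ n : N, (A : Module.End ℂ V) * Y n =
      Y ⟨g * n * g⁻¹, hN.conj_mem n n.2 g⟩ * (A : Module.End ℂ V) := by
  classical
  let cN : N →* N := (MulAut.conjNormal g : MulAut N).toMonoidHom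
  have hcN : ∀ n : N, cN n = ⟨g * n * g⁻¹, hN.conj_mem (n : G) n.2 g⟩ := by
    intro n
    apply Subtype.ext
    exact MulAut.conjNormal_apply g n
  let Yc : Representation ℂ N V := MonoidHom.comp Y cN
  have hchar : Y.character = Yc.character := by
    funext n
    show Y.character n = Y.character (cN n)
    rw [hcN, hinv]
  obtain ⟨e⟩ := equiv_of_char_eq Y Yc hchar
  refine ⟨⟨e.toLinearMap, e.symm.toLinearMap, ?_, ?_⟩, ?_⟩
  · ext v
    simp
  · ext v
    simp
  · intro n
    have := e.isIntertwining' n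
    rw [← hcN]
    exact this

/-- The projection of the extension onto `G` is surjective. -/
theorem extFst_surjective (hY : Y.IsIrreducible)
    (hinv : ∀ (g : G) (n : N),
      Y.character ⟨g * n * g⁻¹, hN.conj_mem n n.2 g⟩ = Y.character n) :
    Function.Surjective (extFst N Y M) := by
  intro g
  have := hY
  obtain ⟨A, hA⟩ := exists_intertwiner N Y hinv g
  have hd : 0 < Module.finrank ℂ V := finrank_pos_of_isIrreducible Y
  set δ := LinearMap.det (A : Module.End ℂ V) with hδ
  have hδ0 : δ ≠ 0 := by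
    have : IsUnit δ := (A.isUnit).map (LinearMap.det : Module.End ℂ V →* ℂ)
    exact this.ne_zero
  obtain ⟨μ, hμ⟩ := IsAlgClosed.exists_pow_nat_eq δ⁻¹ hd
  have hμ0 : μ ≠ 0 := by
    rintro rfl
    rw [zero_pow hd.ne'] at hμ
    exact inv_ne_zero hδ0 hμ.symm
  let z : (Module.End ℂ V)ˣ :=
    Units.map (algebraMap ℂ (Module.End ℂ V)).toMonoidHom (Units.mk0 μ hμ0)
  have hz : (z : Module.End ℂ V) = algebraMap ℂ (Module.End ℂ V) μ := rfl
  refine ⟨⟨(g, z * A), ?_, ?_⟩, rfl⟩
  · intro n
    show ((z * A : (Module.End ℂ V)ˣ) : Module.End ℂ V) * Y n =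
      Y ⟨g * n * g⁻¹, _⟩ * ((z * A : (Module.End ℂ V)ˣ) : Module.End ℂ V)
    rw [Units.val_mul, hz, mul_assoc, hA n, ← mul_assoc, ← mul_assoc, Algebra.commutes]
  · show (LinearMap.det ((z * A : (Module.End ℂ V)ˣ) : Module.End ℂ V)) ^ M = 1
    rw [Units.val_mul, hz, map_mul, Algebra.algebraMap_eq_smul_one, LinearMap.det_smul, map_one,
      mul_one, hμ, ← hδ, inv_mul_cancel₀ hδ0, one_pow]

/-- The extension is a finite group. -/
theorem finite_extGroup [Finite G] (hMpos : 0 < M) (hY : Y.IsIrreducible)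
    (hinv : ∀ (g : G) (n : N),
      Y.character ⟨g * n * g⁻¹, hN.conj_mem n n.2 g⟩ = Y.character n) :
    Finite (extGroup N Y M) := by
  classical
  have := hY
  have hd : 0 < Module.finrank ℂ V := finrank_pos_of_isIrreducible Y
  set k := Module.finrank ℂ V * M with hk
  have hkpos : 0 < k := Nat.mul_pos hd hMpos
  choose s hs using extFst_surjective N Y M hY hinv
  let φ : extGroup N Y M → G × Module.End ℂ V := fun x => (extFst N Y M x, extRep N Y M x)
  have hφinj : Function.Injective φ := by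
    intro x y hxy
    have h1 := congrArg Prod.fst hxy
    have h2 := congrArg Prod.snd hxy
    exact ext_ext N Y M h1 h2
  let R : Set ℂ := ↑(Polynomial.nthRootsFinset k (1 : ℂ))
  have hR : R.Finite := Finset.finite_toSet _
  let F : Set (G × Module.End ℂ V) :=
    (fun p : G × ℂ => (p.1, p.2 • extRep N Y M (s p.1))) '' (Set.univ ×ˢ R)
  have hF : F.Finite := Set.Finite.image _ (Set.finite_univ.prod hR)
  have hsub : Set.range φ ⊆ F := by
    rintro _ ⟨x, rfl⟩
    set g := extFst N Y M x with hg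
    set y := x * (s g)⁻¹ with hy
    have hy1 : extFst N Y M y = 1 := by
      rw [hy, map_mul, map_inv, hs g, mul_inv_cancel]
    obtain ⟨c, hc⟩ := extRep_eq_smul_of_fst_eq_one N Y M hY y hy1
    have hdet := extRep_det N Y M y
    rw [hc, LinearMap.det_smul, map_one, mul_one, ← pow_mul] at hdet
    refine ⟨(g, c), ⟨Set.mem_univ _, ?_⟩, ?_⟩
    · show c ∈ (↑(Polynomial.nthRootsFinset k (1 : ℂ)) : Set ℂ)
      rw [Finset.mem_coe, Polynomial.mem_nthRootsFinset hkpos]
      exact hdet
    · show (g, c • extRep N Y M (s g)) = (extFst N Y M x, extRep N Y M x)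
      congr 1
      have hx : x = y * s g := by rw [hy, inv_mul_cancel_right]
      rw [hx, map_mul, hc, smul_mul_assoc, one_mul]
  have hrange : (Set.range φ).Finite := hF.subset hsub
  have huniv : (Set.univ : Set (extGroup N Y M)).Finite := by
    apply Set.Finite.of_finite_image _ hφinj.injOn
    rw [Set.image_univ]
    exact hrange
  exact Set.finite_univ_iff.mp huniv

end surj

section gallagherExists

variable {Γ : Type*} [Group Γ] [Fintype Γ] (N₀ : Subgroup Γ) [hN₀ : N₀.Normal]

/-- **Gallagher's theorem**, existence part: if `π ∈ Irr(Γ)` restricts irreducibly to `N₀ ⊴ Γ`,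
then every irreducible character of `Γ` over `π_{N₀}` is `β π` with `β` an irreducible
constituent of `(1_{N₀})^Γ`. -/
theorem gallagher_exists [Fintype N₀] (π : Γ → ℂ) (hπ : IsIrrCharacter Γ π)
    (hπres : IsIrrCharacter N₀ (fun y : N₀ => π y))
    (χ : Γ → ℂ) (hχ : IsIrrCharacter Γ χ)
    (hcon : classInner (fun y : N₀ => χ y) (fun y : N₀ => π y) ≠ 0) :
    ∃ β : Γ → ℂ, IsIrrCharacter Γ β ∧
      classInner (indFun N₀ (fun _ => (1 : ℂ))) β ≠ 0 ∧ χ = β * π := by
  classical
  have := Fintype.ofFinite (IrrCharacter Γ)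
  set θ₀ : N₀ → ℂ := fun y => π y with hθ₀
  set one₀ : N₀ → ℂ := fun _ => (1 : ℂ) with hone₀
  have hπc : IsCharacter Γ π := isCharacter_of_irr hπ
  have hπcl : IsClassFunction Γ π := isClassFunction_of_isCharacter hπc
  have hχcl : IsClassFunction Γ χ := isClassFunction_of_isCharacter (isCharacter_of_irr hχ)
  -- θ₀^Γ = (1_{N₀})^Γ π
  have hind : indFun N₀ θ₀ = indFun N₀ one₀ * π := by
    rw [← indFun_mul_restrict N₀ one₀ π hπcl]
    congr 1
    funext y
    simp [hone₀, hθ₀]
  -- Frobenius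
  have hfrob : classInner (indFun N₀ θ₀) χ ≠ 0 := by
    rw [frobenius_reciprocity N₀ θ₀ χ hχcl]
    intro h0
    apply hcon
    rw [← classInner_conj_symm, h0, map_zero]
  -- expansion
  have hexp := classFunction_expansion (indFun N₀ one₀) (indFun_isClassFunction N₀ one₀)
  rw [hind] at hfrob
  rw [hexp, Finset.sum_mul, classInner_sum_left] at hfrob
  obtain ⟨β, -, hβ⟩ := Finset.exists_ne_zero_of_sum_ne_zero hfrob
  rw [smul_mul_assoc, classInner_smul_left] at hβ
  have hβ1 : classInner (indFun N₀ one₀) (β : Γ → ℂ) ≠ 0 := left_ne_zero_of_mul hβ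
  have hβ2 : classInner ((β : Γ → ℂ) * π) χ ≠ 0 := right_ne_zero_of_mul hβ
  -- β π is irreducible
  have hone_irr : IsIrrCharacter N₀ one₀ := (trivialIrr N₀).2
  have hprod : IsIrrCharacter N₀ (one₀ * θ₀) := by
    have : one₀ * θ₀ = θ₀ := by
      funext y
      simp [hone₀]
    rw [this]
    exact hπres
  have hθ₀inv : ∀ (g : Γ) (n : N₀),
      θ₀ ⟨g * n * g⁻¹, hN₀.conj_mem (n : Γ) n.2 g⟩ = θ₀ n := by
    intro g n
    exact hπcl n g
  have hnorm := gallagher_orthonormal N₀ one₀ θ₀ hone_irr (fun _ _ => rfl) hθ₀inv hprod π hπ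
    (fun _ => rfl) β β hβ1 hβ1
  rw [if_pos rfl] at hnorm
  have hβπ : IsIrrCharacter Γ ((β : Γ → ℂ) * π) :=
    isIrrCharacter_of_classInner_self_eq_one (isCharacter_mul (isCharacter_of_irr β.2) hπc) hnorm
  refine ⟨β, β.2, hβ1, ?_⟩
  by_contra hne
  exact hβ2 (irr_classInner_ne hβπ hχ (fun h => hne h.symm))

end gallagherExists

section main

variable {G : Type*} [Group G] [Fintype G] (N : Subgroup G) [hN : N.Normal] [Fintype N]

/-- **Isaacs 11.29, invariant case**: if `ϑ ∈ Irr(N)` is `G`-invariant and `χ ∈ Irr(G)` lies over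
`ϑ` with ramification `e = [χ_N, ϑ]`, then `e` divides `|G : N|`. -/
theorem ramification_dvd_index (χ : G → ℂ) (hχ : IsIrrCharacter G χ) (ϑ : N → ℂ)
    (hϑ : IsIrrCharacter N ϑ)
    (hinv : ∀ (g : G) (n : N), ϑ ⟨g * n * g⁻¹, hN.conj_mem (n : G) n.2 g⟩ = ϑ n)
    (e : ℕ) (he : classInner (fun n : N => χ n) ϑ = e) (he0 : e ≠ 0) : e ∣ N.index := by
  classical
  have hϑ' := hϑ
  obtain ⟨d, Y, hY, hYϑ⟩ := hϑ
  have hYirr := hY
  set M := Nat.card N with hMdef
  have hM : ∀ n : N, (LinearMap.det (Y n)) ^ M = 1 := by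
    intro n
    rw [← map_pow, ← map_pow, hMdef, pow_card_eq_one', map_one, map_one]
  have hinv' : ∀ (g : G) (n : N),
      Y.character ⟨g * n * g⁻¹, hN.conj_mem n n.2 g⟩ = Y.character n := by
    rw [hYϑ]; exact hinv
  have hfin : Finite (extGroup N Y M) := finite_extGroup N Y M Nat.card_pos hY hinv'
  have : Fintype (extGroup N Y M) := Fintype.ofFinite _
  have hpr : Function.Surjective (extFst N Y M) := extFst_surjective N Y M hY hinv'
  set N₀ : Subgroup (extGroup N Y M) := (extIncl N Y M hM).range with hN₀def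
  have hN₀ : N₀.Normal := by
    constructor
    rintro _ ⟨n, rfl⟩ x
    rw [conj_extIncl]
    exact ⟨_, rfl⟩
  have : Fintype N₀ := Fintype.ofFinite _
  -- the characters
  set π : extGroup N Y M → ℂ := (extRep N Y M).character with hπdef
  have hπ : IsIrrCharacter (extGroup N Y M) π :=
    isIrrCharacter_of_irreducible _ (isIrreducible_extRep N Y M hM hY)
  set χ' : extGroup N Y M → ℂ := χ ∘ (extFst N Y M) with hχ'def
  have hχ' : IsIrrCharacter (extGroup N Y M) χ' :=
    isIrrCharacter_comp_of_surjective (extFst N Y M) hpr hχ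
  let E : N ≃* N₀ := MonoidHom.ofInjective (extIncl_injective N Y M hM)
  have hE : ∀ n : N, ((E n : N₀) : extGroup N Y M) = extIncl N Y M hM n := fun n => rfl
  have hθ₀E : (fun y : N₀ => π y) ∘ E = ϑ := by
    funext n
    show π (E n : extGroup N Y M) = ϑ n
    rw [hE, hπdef, ← hYϑ]
    rfl
  have hθ₀ : IsIrrCharacter N₀ (fun y : N₀ => π y) := by
    have h1 : (fun y : N₀ => π y) = ϑ ∘ E.symm := by
      rw [← hθ₀E]
      funext y
      simp
    rw [h1]
    exact isIrrCharacter_comp_of_surjective E.symm.toMonoidHom E.symm.surjective hϑ'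
  have hχE : (fun y : N₀ => χ' y) ∘ E = fun n : N => χ n := by
    funext n
    rfl
  have hcon' : classInner (fun y : N₀ => χ' y) (fun y : N₀ => π y) = e := by
    rw [← classInner_comp_equiv E, hχE, hθ₀E]
    exact he
  have hcon'' : classInner (fun y : N₀ => χ' y) (fun y : N₀ => π y) ≠ 0 := by
    rw [hcon']
    exact Nat.cast_ne_zero.mpr he0
  obtain ⟨β, hβ, hβ1, hβχ⟩ := gallagher_exists N₀ π hπ hθ₀ χ' hχ' hcon''
  -- the degree of β is e
  have hres := restrict_eq_smul_of_invariant N χ hχ ϑ hϑ'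
    (by rw [he]; exact Nat.cast_ne_zero.mpr he0) hinv
  have hχ1 : χ 1 = (e : ℂ) * ϑ 1 := by
    have := congrFun hres 1
    rw [he] at this
    simpa using this
  have hπ1 : π 1 = ϑ 1 := by
    have := congrFun hθ₀E 1
    simpa using this
  have hϑ1 : ϑ 1 ≠ 0 := irr_one_ne_zero ⟨ϑ, hϑ'⟩
  have hβ1' : β 1 = e := by
    have h1 : χ' 1 = β 1 * π 1 := by rw [hβχ]; rfl
    have h2 : χ' 1 = χ 1 := by
      show χ (extFst N Y M 1) = χ 1
      rw [map_one]
    rw [h2, hχ1, hπ1] at h1
    exact (mul_right_cancel₀ hϑ1 h1).symm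
  -- the representation affording β
  obtain ⟨b, ρ, hρ, hρβ⟩ := hβ
  have hρirr := hρ
  have hb : (b : ℂ) = e := by
    rw [← hβ1', ← hρβ, Representation.char_one, Module.finrank_fin_fun]
  have hbe : b = e := by exact_mod_cast hb
  -- β is trivial on N₀
  have hβN₀ : ∀ y : N₀, ρ (y : extGroup N Y M) = 1 := by
    intro y
    have hone_irr : IsIrrCharacter N₀ (fun _ => (1 : ℂ)) := (trivialIrr N₀).2
    have hβirr : IsIrrCharacter (extGroup N Y M) ρ.character := ⟨b, ρ, hρ, rfl⟩
    have hβcl : IsClassFunction (extGroup N Y M) ρ.character :=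
      isClassFunction_of_isCharacter (isCharacter_of_irr hβirr)
    have hc1 : classInner (fun y : N₀ => ρ.character y) (fun _ => (1 : ℂ)) ≠ 0 := by
      rw [← hρβ, frobenius_reciprocity N₀ _ _ hβcl] at hβ1
      intro h0
      apply hβ1
      rw [← classInner_conj_symm, h0, map_zero]
    have hr := restrict_eq_smul_of_invariant N₀ ρ.character hβirr (fun _ => (1 : ℂ)) hone_irr hc1
      (fun _ _ => rfl)
    have h1 := congrFun hr y
    have h2 := congrFun hr 1
    simp only [Pi.smul_apply, smul_eq_mul, mul_one] at h1 h2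
    have h3 : ρ.character (y : extGroup N Y M) = ρ.character 1 := by
      rw [h1]
      exact h2.symm
    exact (char_eq_char_one_iff ρ _).mp h3
  -- elements over N act as scalars
  set H₀ : Subgroup (extGroup N Y M) := N.comap (extFst N Y M) with hH₀
  have hscal : ∀ h ∈ H₀, ∃ c : ℂ, ρ h = c • 1 := by
    intro h hh
    have hh' : extFst N Y M h ∈ N := hh
    set n : N := ⟨extFst N Y M h, hh'⟩ with hn
    obtain ⟨y, hy⟩ : ∃ y, y = (extIncl N Y M hM n)⁻¹ * h := ⟨_, rfl⟩
    have hy1 : extFst N Y M y = 1 := by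
      rw [hy, map_mul, map_inv, extFst_extIncl, hn]
      exact inv_mul_cancel _
    obtain ⟨c, hc⟩ := extRep_eq_smul_of_fst_eq_one N Y M hYirr y hy1
    have hycen : y ∈ Subgroup.center (extGroup N Y M) := by
      rw [Subgroup.mem_center_iff]
      intro x
      apply ext_ext
      · rw [map_mul, map_mul, hy1, mul_one, one_mul]
      · rw [map_mul, map_mul, hc, smul_mul_assoc, mul_smul_comm, one_mul, mul_one]
    have := hρirr
    obtain ⟨c', hc'⟩ := exists_smul_of_mem_center ρ hycen
    refine ⟨c', ?_⟩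
    have hh2 : h = extIncl N Y M hM n * y := by rw [hy, mul_inv_cancel_left]
    rw [hh2, map_mul, hβN₀ ⟨extIncl N Y M hM n, ⟨n, rfl⟩⟩, one_mul, hc']
  have := hρirr
  have hdvd := finrank_dvd_index_of_forall_smul ρ H₀ hscal
  rw [Module.finrank_fin_fun, hbe, hH₀, Subgroup.index_comap_of_surjective N hpr] at hdvd
  exact hdvd

end main

section relative

variable {G : Type*} [Group G] [Fintype G] (H T : Subgroup G) [hN : H.Normal] [Fintype H]
  [Fintype T] (hHT : H ≤ T)

/-- Relative form of `ramification_dvd_index`: for `H ≤ T ≤ G`, `H ⊴ G`, `ϑ ∈ Irr(H)` invariant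
in `T` and `ψ ∈ Irr(T)` over `ϑ`, the ramification divides `|T : H|`. -/
theorem ramification_dvd_relIndex (ϑ : H → ℂ) (hϑ : IsIrrCharacter H ϑ)
    (hT : ∀ g ∈ T, ∀ n : H, ϑ ⟨g * n * g⁻¹, hN.conj_mem (n : G) n.2 g⟩ = ϑ n)
    (ψ : T → ℂ) (hψ : IsIrrCharacter T ψ) (e : ℕ)
    (he : classInner (resTo H T hHT ψ) ϑ = e) (he0 : e ≠ 0) : e ∣ H.relIndex T := by
  classical
  have : Fintype (H.subgroupOf T) := Fintype.ofFinite _
  have hN' : (H.subgroupOf T).Normal := Subgroup.normal_subgroupOf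
  set ι : (H.subgroupOf T) ≃* H := Subgroup.subgroupOfEquivOfLe hHT with hι
  have hϑ' : IsIrrCharacter (H.subgroupOf T) (ϑ ∘ ι) :=
    isIrrCharacter_comp_of_surjective ι.toMonoidHom ι.surjective hϑ
  have hres : (fun n : H.subgroupOf T => ψ (n : T)) = (resTo H T hHT ψ) ∘ ι := by
    funext n
    simp only [Function.comp_apply, resTo]
    congr 1
  have hcon' : classInner (fun n : H.subgroupOf T => ψ (n : T)) (ϑ ∘ ι) = e := by
    rw [hres, classInner_comp_equiv]
    exact he
  have hinv' : ∀ (t : T) (n : H.subgroupOf T),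
      (ϑ ∘ ι) ⟨t * n * t⁻¹, hN'.conj_mem (n : T) n.2 t⟩ = (ϑ ∘ ι) n := by
    intro t n
    simp only [Function.comp_apply]
    have := hT (t : G) t.2 (ι n)
    rw [← this]
    congr 1
  exact ramification_dvd_index (G := T) (H.subgroupOf T) ψ hψ (ϑ ∘ ι) hϑ' hinv' e hcon' he0

end relative

end Cfsg.Agent.Lib.H24
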