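import Cfsg.Agent.Lib.H15.DXDefs
import Cfsg.Agent.Lib.H18.LeonardConfig
import Cfsg.Agent.S0887

/-!
# S4467 piece KERFAM (helper24): for a faithful irreducible character `χ` of `G`, a normal subgroup
`M` and `1 ≠ x ∈ M`, some irreducible constituent `ψ` of `χ_M` (so `ψ(1) ∣ χ(1)`) has `ψ x ≠ ψ 1`.
-/

set_option autoImplicit false

namespace Cfsg.Agent.Lib.H24.DX

open Cfsg Cfsg.Agent.Lib.H15.DX Cfsg.Agent.Lib.L0 Cfsg.Agent.Lib.H24

universe u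

/-- KERFAM -/
theorem exists_constituent_ne_of_faithful {G : Type u} [Group G] [Finite G] (χ : G → ℂ)
    (hχ : IsIrrCharacter G χ) (hf : Faithful χ) (n : ℕ) (hn : χ 1 = (n : ℂ))
    (M : Subgroup G) [M.Normal] (x : M) (hx : x ≠ 1) :
    ∃ ψ : M → ℂ, IsIrrCharacter M ψ ∧ (∃ m : ℕ, ψ 1 = (m : ℂ) ∧ m ∣ n) ∧ ψ x ≠ ψ 1 := by
  classical
  have := Fintype.ofFinite G
  have : Fintype M := Fintype.ofFinite M
  have hne : (fun g : M => χ g) x ≠ (fun g : M => χ g) 1 := by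
    intro h
    apply hx
    have h1 : ((x : M) : G) = 1 := hf _ h
    exact Subtype.ext h1
  obtain ⟨η, hη, hηx⟩ := Cfsg.Agent.Lib.H18.Leonard.exists_constituent_ne (fun g : M => χ g)
    (isCharacter_restrict M (isCharacter_of_irr hχ)) x hne
  obtain ⟨d, _, hd⟩ := irr_one_eq η
  refine ⟨(η : M → ℂ), η.2, ⟨d, hd, ?_⟩, hηx⟩
  exact (Cfsg.Agent.S0887.result M χ hχ (η : M → ℂ) η.2 hη n d hn hd).1

end Cfsg.Agent.Lib.H24.DX
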