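import Cfsg.Agent.Lib.H1.FG19.Defs
import Cfsg.Prelude.Def_Transfer
import Cfsg.Prelude.Def_CaseTheorems

set_option autoImplicit false

namespace Cfsg.Agent.Lib.H24.FG19

open Cfsg Cfsg.Agent.Lib.H1.FG19
open scoped IsMulCommutative commutatorElement

section grp

variable {S : Type*} [Group S]

variable (M : Subgroup S) [M.Normal]

/-- if `z` commutes with `x` modulo `C_S(M)` then `z` normalises `[⟨x⟩, M]` -/
theorem conj_mem_comm_of_comm_mod (x z : S)
    (hz : x * z * x⁻¹ * z⁻¹ ∈ Subgroup.centralizer (M : Set S)) :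
    ∀ v ∈ ⁅Subgroup.zpowers x, M⁆, z * v * z⁻¹ ∈ ⁅Subgroup.zpowers x, M⁆ := by
  classical
  set C := Subgroup.centralizer (M : Set S) with hC
  have : C.Normal := inferInstance
  set V := ⁅Subgroup.zpowers x, M⁆ with hVdef
  -- in `S ⧸ C` the images of `z` and `x` commute
  have hcomm : Commute (QuotientGroup.mk' C z) (QuotientGroup.mk' C x) := by
    have h1 : QuotientGroup.mk' C (x * z * x⁻¹ * z⁻¹) = 1 := by
      rw [QuotientGroup.mk'_apply, QuotientGroup.eq_one_iff]; exact hz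
    rw [map_mul, map_mul, map_mul, map_inv, map_inv] at h1
    have h2 : QuotientGroup.mk' C x * QuotientGroup.mk' C z =
        QuotientGroup.mk' C z * QuotientGroup.mk' C x := by
      have := congrArg (fun t => t * (QuotientGroup.mk' C z * QuotientGroup.mk' C x)) h1
      simpa [mul_assoc] using this
    exact h2.symm
  have h1 : ∀ g ∈ Subgroup.zpowers x, z * g * z⁻¹ * g⁻¹ ∈ C := by
    intro g hg
    obtain ⟨i, rfl⟩ := hg
    have h2 : Commute (QuotientGroup.mk' C z) (QuotientGroup.mk' C (x ^ i)) := by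
      rw [map_zpow]; exact hcomm.zpow_right i
    have h3 : QuotientGroup.mk' C (z * x ^ i * z⁻¹ * (x ^ i)⁻¹) = 1 := by
      rw [map_mul, map_mul, map_mul, map_inv, map_inv, h2.eq]
      simp
    rw [QuotientGroup.mk'_apply, QuotientGroup.eq_one_iff] at h3
    exact h3
  have hle : V ≤ V.comap (MulAut.conj z).toMonoidHom := by
    rw [hVdef, Subgroup.commutator_le]
    intro g hg m hm
    rw [Subgroup.mem_comap]
    change z * ⁅g, m⁆ * z⁻¹ ∈ ⁅Subgroup.zpowers x, M⁆
    set c := z * g * z⁻¹ * g⁻¹ with hc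
    have hcC : c ∈ C := h1 g hg
    set m' := z * m * z⁻¹ with hm'
    have hm'M : m' ∈ M := (inferInstance : M.Normal).conj_mem m hm z
    set n := g * m' * g⁻¹ with hn
    have hnM : n ∈ M := (inferInstance : M.Normal).conj_mem m' hm'M g
    have hcn : n * c = c * n := (Subgroup.mem_centralizer_iff.1 hcC) n hnM
    have e : z * ⁅g, m⁆ * z⁻¹ = ⁅g, m'⁆ := by
      rw [commutatorElement_def, commutatorElement_def]
      have e1 : z * (g * m * g⁻¹ * m⁻¹) * z⁻¹ = c * n * c⁻¹ * m'⁻¹ := by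
        rw [hc, hn, hm']; group
      rw [e1, ← hcn]
      rw [hn]; group
    rw [e]
    exact Subgroup.commutator_mem_commutator hg hm'M
  intro v hv
  exact hle hv

/-- CV (M): a `p`-element (`p ≥ 5`) commuting with `x` modulo `C_S(M)` centralises `V = [⟨x⟩, M]` when `|V| = 4`.
(`y x y⁻¹ = c x`, `(c x)^i = c_i x^i`, so `y V y⁻¹ = V`; a permutation of `p`-power order of 3 points is trivial.) -/
theorem mem_centralizer_of_comm_mod [Finite S] (x y : S) {p : ℕ} (hp : p.Prime) (hp5 : 5 ≤ p)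
    (hy : ∃ k : ℕ, y ^ p ^ k = 1) (hxy : x * y * x⁻¹ * y⁻¹ ∈ Subgroup.centralizer (M : Set S))
    (hV : Nat.card ↥⁅Subgroup.zpowers x, M⁆ = 4) :
    y ∈ Subgroup.centralizer ((⁅Subgroup.zpowers x, M⁆ : Subgroup S) : Set S) := by
  classical
  set C := Subgroup.centralizer (M : Set S) with hC
  have : C.Normal := inferInstance
  set V := ⁅Subgroup.zpowers x, M⁆ with hVdef
  have hxy' : x * y⁻¹ * x⁻¹ * (y⁻¹)⁻¹ ∈ C := by
    have h1 : (x * y * x⁻¹ * y⁻¹)⁻¹ ∈ C := inv_mem hxy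
    have h2 := (inferInstance : C.Normal).conj_mem _ h1 y⁻¹
    have e : y⁻¹ * (x * y * x⁻¹ * y⁻¹)⁻¹ * y⁻¹⁻¹ = x * y⁻¹ * x⁻¹ * (y⁻¹)⁻¹ := by group
    rw [e] at h2
    exact h2
  have k1 := conj_mem_comm_of_comm_mod M x y hxy
  have k2 := conj_mem_comm_of_comm_mod M x y⁻¹ hxy'
  let σ : Equiv.Perm V :=
    { toFun := fun v => ⟨y * v.1 * y⁻¹, k1 v.1 v.2⟩
      invFun := fun v => ⟨y⁻¹ * v.1 * y⁻¹⁻¹, k2 v.1 v.2⟩
      left_inv := fun v => by apply Subtype.ext; simp [mul_assoc]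
      right_inv := fun v => by apply Subtype.ext; simp [mul_assoc] }
  have hσ : ∀ (n : ℕ) (v : V), (((σ ^ n) v : V) : S) = y ^ n * v.1 * (y ^ n)⁻¹ := by
    intro n
    induction n with
    | zero => intro v; simp
    | succ n ih =>
      intro v
      rw [pow_succ, Equiv.Perm.mul_apply, ih]
      change y ^ n * (y * v.1 * y⁻¹) * (y ^ n)⁻¹ = _
      rw [pow_succ]; group
  obtain ⟨k, hk⟩ := hy
  have hσ1 : σ ^ p ^ k = 1 := by
    ext v
    rw [hσ, hk]; simp
  have hd1 : orderOf σ ∣ p ^ k := orderOf_dvd_of_pow_eq_one hσ1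
  have hd2 : orderOf σ ∣ 24 := by
    have h := orderOf_dvd_natCard σ
    rw [Nat.card_perm, hV] at h
    exact h
  have hcop : Nat.Coprime (p ^ k) 24 := by
    apply Nat.Coprime.pow_left
    rw [Nat.Prime.coprime_iff_not_dvd hp]
    intro hdvd
    have h24 : (24 : ℕ) = 2 ^ 3 * 3 := by norm_num
    rw [h24] at hdvd
    rcases (Nat.Prime.dvd_mul hp).1 hdvd with h | h
    · have := (Nat.prime_dvd_prime_iff_eq hp Nat.prime_two).1 (hp.dvd_of_dvd_pow h); omega
    · have := (Nat.prime_dvd_prime_iff_eq hp Nat.prime_three).1 h; omega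
  have hone : orderOf σ = 1 := Nat.eq_one_of_dvd_coprimes hcop hd1 hd2
  have hσe : σ = 1 := orderOf_eq_one_iff.1 hone
  rw [Subgroup.mem_centralizer_iff]
  intro v hv
  have h1 : σ ⟨v, hv⟩ = ⟨v, hv⟩ := by rw [hσe]; rfl
  have h2 : y * v * y⁻¹ = v := congrArg Subtype.val h1
  calc v * y = (y * v * y⁻¹) * y := by rw [h2]
    _ = y * v := by group

end grp

end Cfsg.Agent.Lib.H24.FG19
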