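import Cfsg.Agent.Lib.H1.FG19.Defs
import Cfsg.Prelude.Def_Transfer
import Cfsg.Prelude.Def_CaseTheorems

set_option autoImplicit false

namespace Cfsg.Agent.Lib.H24.FG19

open Cfsg Cfsg.Agent.Lib.H1.FG19
open scoped IsMulCommutative

section grp

variable {S : Type*} [Group S]

/-- SC1 (E): a subgroup of order `≥ r²` of an elementary abelian `r`-group is not cyclic. -/
theorem not_isCyclic_of_sq_le [Finite S] {r : ℕ} (hr : r.Prime) (F Z : Subgroup S)
    (hF : IsElementaryAbelian r F) (hK : r ^ 2 ≤ Nat.card ↥(F ⊓ Z)) : ¬ IsCyclic ↥(F ⊓ Z) := by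
  intro hcyc
  obtain ⟨g, hg⟩ := hcyc.exists_generator
  have h1 : orderOf g = Nat.card ↥(F ⊓ Z) := orderOf_eq_card_of_forall_mem_zpowers hg
  have h2 : g ^ r = 1 := by
    apply Subtype.ext
    have := hF.2 g.1 g.2.1
    simpa using this
  have h3 : orderOf g ∣ r := orderOf_dvd_of_pow_eq_one h2
  have h4 : orderOf g ≤ r := Nat.le_of_dvd hr.pos h3
  have h5 : r < r ^ 2 := by nlinarith [hr.two_le]
  omega

end grp

end Cfsg.Agent.Lib.H24.FG19
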