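import Cfsg.Agent.Lib.H1.FG19.Defs
import Cfsg.Prelude.Def_Transfer
import Cfsg.Prelude.Def_CaseTheorems

set_option autoImplicit false

namespace Cfsg.Agent.Lib.H24.FG19

open Cfsg Cfsg.Agent.Lib.H1.FG19
open scoped IsMulCommutative

section grp

variable {S : Type*} [Group S]

/-- SC2 (M): a group `F` of order `r³` normalising `W` with `r² ∤ (|W| - 1)!` has `|C_F(W)| ≥ r²`
(`F → Perm (W ∖ 1)`). -/
theorem sq_le_card_inf_centralizer [Finite S] {r : ℕ} (hr : r.Prime) (F W : Subgroup S)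
    (hFc : Nat.card F = r ^ 3) (hFW : ∀ f ∈ F, ∀ w ∈ W, f * w * f⁻¹ ∈ W)
    (hW : ¬ r ^ 2 ∣ (Nat.card W - 1).factorial) :
    r ^ 2 ≤ Nat.card ↥(F ⊓ Subgroup.centralizer (W : Set S)) := by
  classical
  let T : Set S := (W : Set S) \ {1}
  have hTcard : Nat.card T = Nat.card W - 1 := by
    rw [Nat.card_coe_set_eq, Set.ncard_sdiff_singleton_of_mem (show (1 : S) ∈ (W : Set S) from W.one_mem),
      ← Nat.card_coe_set_eq]
    rfl
  let act : F → T → T := fun f t => ⟨(f : S) * t.1 * (f : S)⁻¹, hFW f f.2 t.1 t.2.1, by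
    intro h
    apply t.2.2
    have h1 : (f : S) * t.1 * (f : S)⁻¹ = 1 := h
    have : t.1 = (f : S)⁻¹ * ((f : S) * t.1 * (f : S)⁻¹) * (f : S) := by group
    rw [this, h1]; simp⟩
  let _ : MulAction F T :=
    { smul := act
      one_smul := fun t => by
        apply Subtype.ext
        change ((1 : F) : S) * t.1 * ((1 : F) : S)⁻¹ = t.1
        simp
      mul_smul := fun f g t => by
        apply Subtype.ext
        change ((f * g : F) : S) * t.1 * ((f * g : F) : S)⁻¹ = (f : S) * ((g : S) * t.1 * (g : S)⁻¹) * (f : S)⁻¹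
        simp [mul_assoc] }
  have hsmul : ∀ (f : F) (t : T), ((f • t : T) : S) = (f : S) * t.1 * (f : S)⁻¹ := fun f t => rfl
  let φ : F →* Equiv.Perm T := MulAction.toPermHom F T
  -- the kernel injects into `F ⊓ C(W)`
  have hker : ∀ f : F, f ∈ φ.ker → (f : S) ∈ F ⊓ Subgroup.centralizer (W : Set S) := by
    intro f hf
    refine ⟨f.2, ?_⟩
    change (f : S) ∈ Subgroup.centralizer (W : Set S)
    rw [Subgroup.mem_centralizer_iff]
    intro w hw
    by_cases h1 : w = 1
    · subst h1; simp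
    · have hwT : w ∈ T := ⟨hw, h1⟩
      have h2 : φ f ⟨w, hwT⟩ = ⟨w, hwT⟩ := by
        rw [MonoidHom.mem_ker] at hf
        rw [hf]; rfl
      have h3 : (f : S) * w * (f : S)⁻¹ = w := congrArg Subtype.val h2
      calc w * (f : S) = ((f : S) * w * (f : S)⁻¹) * (f : S) := by rw [h3]
        _ = (f : S) * w := by group
  have hinj : Nat.card φ.ker ≤ Nat.card ↥(F ⊓ Subgroup.centralizer (W : Set S)) := by
    apply Nat.card_le_card_of_injective (fun k : φ.ker => (⟨((k : F) : S), hker k.1 k.2⟩ :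
      ↥(F ⊓ Subgroup.centralizer (W : Set S))))
    intro a b hab
    apply Subtype.ext; apply Subtype.ext
    exact congrArg (fun z : ↥(F ⊓ Subgroup.centralizer (W : Set S)) => (z : S)) hab
  -- the image has order `1` or `r`
  have hmul : Nat.card φ.ker * Nat.card φ.range = r ^ 3 := by
    rw [← hFc, mul_comm]
    have := Subgroup.card_eq_card_quotient_mul_card_subgroup φ.ker
    rw [this, Nat.card_congr (QuotientGroup.quotientKerEquivRange φ).toEquiv]
  have hrange_dvd : Nat.card φ.range ∣ (Nat.card W - 1).factorial := by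
    have h1 : Nat.card φ.range ∣ Nat.card (Equiv.Perm T) := Subgroup.card_subgroup_dvd_card _
    rwa [Nat.card_perm, hTcard] at h1
  have hrange_pow : Nat.card φ.range ∣ r ^ 3 := ⟨Nat.card φ.ker, by rw [← hmul, mul_comm]⟩
  obtain ⟨j, hj3, hj⟩ := (Nat.dvd_prime_pow hr).1 hrange_pow
  have hj1 : j ≤ 1 := by
    by_contra hcon
    rw [not_le] at hcon
    apply hW
    calc r ^ 2 ∣ r ^ j := pow_dvd_pow r hcon
      _ ∣ (Nat.card W - 1).factorial := by rw [← hj]; exact hrange_dvd
  have hrpos : 0 < r := hr.pos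
  have hkcard : r ^ 2 ≤ Nat.card φ.ker := by
    rw [hj] at hmul
    have h3 : r ^ 3 = r ^ (3 - j) * r ^ j := by rw [← pow_add]; congr 1; omega
    rw [h3] at hmul
    have h4 : Nat.card φ.ker = r ^ (3 - j) := Nat.eq_of_mul_eq_mul_right (pow_pos hrpos j) hmul
    rw [h4]
    exact Nat.pow_le_pow_right hrpos (by omega)
  exact hkcard.trans hinj

end grp

end Cfsg.Agent.Lib.H24.FG19
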