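import Cfsg.Agent.Lib.H24.GlaubCyclic4

/-!
# The cyclic Glauberman correspondence, part 5: subgroup form (helper24)

Bridging lemmas from the "`G`, `S` subgroups of `Γ` with `G ⊔ S = ⊤`" form to `CycSetup`.
-/

set_option autoImplicit false

universe u

namespace Cfsg.Agent.Lib.H24.Glaub

open Cfsg Cfsg.Agent.Lib.L0 Cfsg.Agent.Lib.H23 Cfsg.Agent.Lib.H8 Cfsg.Agent.Lib.H24
open scoped ComplexConjugate Pointwise

variable {Γ : Type u} [Group Γ]

theorem exists_pow_of_zpowers_eq [Finite Γ] {s s₀ : Γ}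
    (h : Subgroup.zpowers s = Subgroup.zpowers s₀) :
    ∃ k : ℕ, k.Coprime (orderOf s₀) ∧ s = s₀ ^ k := by
  have h1 : s ∈ Subgroup.zpowers s₀ := by
    rw [← h]; exact Subgroup.mem_zpowers s
  rw [← mem_powers_iff_mem_zpowers, Submonoid.mem_powers_iff] at h1
  obtain ⟨k, hk⟩ := h1
  refine ⟨k, ?_, hk.symm⟩
  have h2 : orderOf s = orderOf s₀ := by
    rw [← Nat.card_zpowers, ← Nat.card_zpowers, h]
  rw [← hk, orderOf_pow] at h2
  have h3 : 0 < orderOf s₀ := orderOf_pos s₀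
  have h4 := (Nat.div_eq_self.mp h2).resolve_left h3.ne'
  rw [Nat.Coprime, Nat.gcd_comm]
  exact h4

theorem normal_of_sup_eq_top (G S : Subgroup Γ) (hnorm : ∀ s ∈ S, ∀ g ∈ G, s * g * s⁻¹ ∈ G)
    (htop : G ⊔ S = ⊤) : G.Normal := by
  have h1 : G ⊔ S ≤ Subgroup.normalizer (G : Set Γ) := by
    apply sup_le
    · exact Subgroup.le_normalizer
    · intro s hs
      rw [Subgroup.mem_normalizer_iff]
      intro g
      constructor
      · intro hg
        exact hnorm s hs g hg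
      · intro hg
        have h2 := hnorm s⁻¹ (S.inv_mem hs) _ hg
        have h3 : s⁻¹ * (s * g * s⁻¹) * s⁻¹⁻¹ = g := by group
        rwa [h3] at h2
  rw [htop, top_le_iff] at h1
  exact Subgroup.normalizer_eq_top_iff.mp h1

theorem cycSetup_of_sup_eq_top [Finite Γ] (G : Subgroup Γ) [hG : G.Normal] (s₀ : Γ)
    (htop : G ⊔ Subgroup.zpowers s₀ = ⊤)
    (hcop : (Nat.card G).Coprime (orderOf s₀)) : CycSetup G s₀ := by
  refine ⟨fun x => ?_, hcop⟩
  have hx : x ∈ G ⊔ Subgroup.zpowers s₀ := by rw [htop]; trivial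
  have h1 : x ∈ ((G ⊔ Subgroup.zpowers s₀ : Subgroup Γ) : Set Γ) := hx
  rw [Subgroup.normal_mul] at h1
  obtain ⟨n, hn, t, ht, rfl⟩ := Set.mem_mul.mp h1
  have ht' : t ∈ Subgroup.zpowers s₀ := ht
  rw [← mem_powers_iff_mem_zpowers, Submonoid.mem_powers_iff] at ht'
  obtain ⟨k, rfl⟩ := ht'
  exact ⟨n, hn, k, rfl⟩

theorem inf_centralizer_zpowers (G : Subgroup Γ) (s₀ : Γ) :
    G ⊓ Subgroup.centralizer ((Subgroup.zpowers s₀ : Subgroup Γ) : Set Γ) = fixedSub G s₀ := by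
  ext x
  rw [mem_fixedSub, Subgroup.mem_inf, Subgroup.mem_centralizer_iff]
  constructor
  · rintro ⟨h1, h2⟩
    exact ⟨h1, (h2 s₀ (Subgroup.mem_zpowers s₀)).symm⟩
  · rintro ⟨h1, h2⟩
    refine ⟨h1, fun t ht => ?_⟩
    obtain ⟨k, rfl⟩ := Subgroup.mem_zpowers_iff.mp ht
    exact ((show Commute x s₀ from h2).zpow_right k).eq.symm

end Cfsg.Agent.Lib.H24.Glaub
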