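import Cfsg.Agent.Lib.H5.Glaub.Defs

/-!
# S4359 (Glauberman 1969, Thm 1), piece (UNI): the chain `J(i,n)` is uniserial
-/

set_option autoImplicit false
set_option linter.unusedSectionVars false
open scoped Pointwise
open Cfsg.Agent.Lib.H5.Glaub Cfsg.Agent.Lib.H5.Glaub.Setup

namespace Cfsg.Agent.Lib.H24.Glaub

variable {G : Type*} [Group G]

theorem uniCardConj (g : G) (X : Subgroup G) : Nat.card ↥(MulAut.conj g • X) = Nat.card X :=
  (Nat.card_congr (Subgroup.equivSMul (MulAut.conj g) X).toEquiv).symm

theorem uniCardJ (S : Setup G) (i : ℤ) (n : ℕ) : Nat.card (S.J i n) = Nat.card (S.J 0 n) := by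
  have := S.conj_J i 0 n
  rw [add_zero] at this
  rw [← this, uniCardConj]

theorem uniRelIndexMulCard {A C : Subgroup G} (hAC : A ≤ C) :
    A.relIndex C * Nat.card A = Nat.card C := by
  have h1 := (A.subgroupOf C).index_mul_card
  have h2 : Nat.card (A.subgroupOf C) = Nat.card A :=
    Nat.card_congr (Subgroup.subgroupOfEquivOfLe hAC).toEquiv
  rw [h2] at h1
  exact h1

variable [Finite G]

/-- a subgroup of index `p` in a `p`-group is normal -/
theorem uniLeNormalizer {p : ℕ} (hp : p.Prime) {A C : Subgroup G} (hAC : A ≤ C) {k : ℕ}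
    (hC : Nat.card C = p ^ (k + 1)) (hA : Nat.card A = p ^ k) :
    C ≤ Subgroup.normalizer (A : Set G) := by
  rw [← Subgroup.normal_subgroupOf_iff_le_normalizer hAC]
  apply Subgroup.normal_of_index_eq_minFac_card
  rw [hC, hp.pow_minFac (Nat.succ_ne_zero k)]
  have h1 := uniRelIndexMulCard hAC
  rw [hC, hA, pow_succ] at h1
  have hpos : 0 < p ^ k := pow_pos hp.pos k
  have : A.relIndex C = p := by
    have h2 : A.relIndex C * p ^ k = p * p ^ k := by rw [h1, mul_comm]
    exact Nat.eq_of_mul_eq_mul_right hpos h2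
  exact this

/-- two different subgroups of index `p` generate -/
theorem uniSupEq {p : ℕ} (hp : p.Prime) {A B C : Subgroup G} (hAC : A ≤ C) (hBC : B ≤ C)
    (hne : A ≠ B) (hC : Nat.card C = p * Nat.card A) (hB : Nat.card B = Nat.card A) :
    A ⊔ B = C := by
  have hD : A ⊔ B ≤ C := sup_le hAC hBC
  have hApos : 0 < Nat.card A := Nat.card_pos
  obtain ⟨e, he⟩ := Subgroup.card_dvd_of_le (le_sup_left : A ≤ A ⊔ B)
  have h2 : Nat.card ↥(A ⊔ B) ∣ Nat.card C := Subgroup.card_dvd_of_le hD
  rw [he, hC, mul_comm p] at h2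
  have h3 : e ∣ p := Nat.dvd_of_mul_dvd_mul_left hApos h2
  rcases (Nat.dvd_prime hp).1 h3 with h4 | h4
  · exfalso
    rw [h4, mul_one] at he
    have h5 : A = A ⊔ B := Subgroup.eq_of_le_of_card_ge le_sup_left he.le
    have h6 : B ≤ A := by rw [h5]; exact le_sup_right
    exact hne (Subgroup.eq_of_le_of_card_ge h6 hB.ge).symm
  · apply Subgroup.eq_of_le_of_card_ge hD
    rw [hC, he, h4, mul_comm]

theorem uniConjZpow (S : Setup G) {R : Subgroup G} (hR : MulAut.conj S.h • R = R) (k : ℤ) :
    MulAut.conj (S.h ^ k) • R = R := by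
  induction k using Int.induction_on with
  | zero => simp
  | succ k ih =>
    rw [zpow_add, zpow_one, map_mul, mul_smul, hR, ih]
  | pred k ih =>
    have hR' : MulAut.conj S.h⁻¹ • R = R := by
      rw [map_inv, inv_smul_eq_iff, hR]
    rw [sub_eq_add_neg, zpow_add, zpow_neg_one, map_mul, mul_smul, hR', ih]

/-- the inductive step in the degenerate case `A = B` -/
theorem uniStepEq (S : Setup G) (t m : ℕ) (hm : m + 2 ≤ t)
    (ih : ∀ k : ℕ, k ≤ m + 1 → ∀ j : ℤ, Nat.card (S.J j k) = S.p ^ (t - k))
    (i : ℤ) (hAB : S.J i (m + 1) = S.J (i + 1) (m + 1)) : False := by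
  have hp := S.hp
  set R := S.J i (m + 1) with hRdef
  have hRconj : MulAut.conj S.h • R = R := by
    have := S.conj_J 1 i (m + 1)
    rw [zpow_one, add_comm 1 i] at this
    rw [this, ← hAB]
  have hall : ∀ j : ℤ, S.J j (m + 1) = R := by
    intro j
    have h1 := S.conj_J (j - i) i (m + 1)
    rw [sub_add_cancel] at h1
    rw [← h1]
    exact uniConjZpow S hRconj _
  have hRcard : Nat.card R = S.p ^ (t - (m + 1)) := ih (m + 1) le_rfl i
  -- descent
  have hdesc : ∀ d : ℕ, d ≤ m → ∀ j : ℤ, S.J j (m - d) ≤ Subgroup.normalizer (R : Set G) := by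
    intro d
    induction d with
    | zero =>
      intro _ j
      rw [Nat.sub_zero]
      have hle : R ≤ S.J j m := by
        rw [← hall j]
        exact S.J_le_J le_rfl (by push_cast; omega)
      have hc1 : Nat.card (S.J j m) = S.p ^ ((t - (m + 1)) + 1) := by
        rw [ih m (by omega) j]; congr 1; omega
      exact uniLeNormalizer hp hle hc1 hRcard
    | succ d ihd =>
      intro hd j
      have hprev := ihd (by omega)
      obtain ⟨k, hk⟩ : ∃ k : ℕ, m - d = k + 1 := ⟨m - d - 1, by omega⟩
      have hk' : m - (d + 1) = k := by omega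
      rw [hk'] 
      rw [hk] at hprev
      -- A' = J (j-1) (k+1), B' = J j (k+1), C' = J j k
      have hA'C : S.J (j - 1) (k + 1) ≤ S.J j k := S.J_le_J (by omega) (by push_cast; omega)
      have hB'C : S.J j (k + 1) ≤ S.J j k := S.J_le_J le_rfl (by push_cast; omega)
      have hcA : Nat.card (S.J (j - 1) (k + 1)) = S.p ^ (t - (k + 1)) := ih (k + 1) (by omega) _
      have hcB : Nat.card (S.J j (k + 1)) = S.p ^ (t - (k + 1)) := ih (k + 1) (by omega) _
      have hcC : Nat.card (S.J j k) = S.p ^ (t - k) := ih k (by omega) _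
      have hne : S.J (j - 1) (k + 1) ≠ S.J j (k + 1) := by
        intro heq
        have hinf : S.J (j - 1) (k + 1) ⊓ S.J j (k + 1) = S.J (j - 1) (k + 2) := by
          rw [S.J_inf_J (by omega) (by push_cast; omega) (by push_cast; omega)]
          congr 1
          push_cast
          omega
        rw [← heq, inf_idem] at hinf
        have h1 := ih (k + 2) (by omega) (j - 1)
        rw [← hinf, hcA] at h1
        have := Nat.pow_right_injective hp.two_le h1
        omega
      have hsup := uniSupEq hp hA'C hB'C hne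
        (by rw [hcC, hcA, ← pow_succ']; congr 1; omega) (by rw [hcB, hcA])
      rw [← hsup]
      exact sup_le (hprev (j - 1)) (hprev j)
  have hP : S.P ≤ Subgroup.normalizer (R : Set G) := by
    have := hdesc m le_rfl 0
    rwa [Nat.sub_self, S.J_unfold_zero, S.Pj_zero] at this
  have hRP : R ≤ S.P := by
    rw [← hall 0, ← S.Pj_zero]
    exact S.J_le_Pj le_rfl (by push_cast; omega)
  have hnorm : (R.subgroupOf S.P).Normal := (Subgroup.normal_subgroupOf_iff_le_normalizer hRP).2 hP
  have hbot := S.core R hRP hnorm hRconj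
  rw [hbot, Subgroup.card_bot] at hRcard
  have : 1 < S.p ^ (t - (m + 1)) := Nat.one_lt_pow (by omega) hp.one_lt
  omega

/-- (UNI) Steps 2-3: `|P_i ∩ ... ∩ P_(i+n)| = p^(t-n)` for `n ≤ t`. -/
theorem uni (S : Setup G) (hP : IsPGroup S.p S.P) : ∃ t : ℕ, S.Uni t := by
  have hp := S.hp
  have : Fact S.p.Prime := ⟨hp⟩
  obtain ⟨t, ht⟩ := hP.exists_card_eq
  have hPj : ∀ j : ℤ, Nat.card (S.Pj j) = S.p ^ t := by
    intro j
    rw [Setup.Pj, uniCardConj, ht]
  have hidx := S.idx
  have hT : S.p * Nat.card ↥(S.P ⊓ MulAut.conj S.h • S.P) = S.p ^ t := by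
    have h1 := uniRelIndexMulCard (inf_le_right : S.P ⊓ MulAut.conj S.h • S.P ≤ MulAut.conj S.h • S.P)
    rw [hidx, uniCardConj, ht] at h1
    exact h1
  have ht1 : 1 ≤ t := by
    rcases Nat.eq_zero_or_pos t with h0 | h0
    · exfalso
      rw [h0, pow_zero] at hT
      have : S.p ∣ 1 := ⟨_, hT.symm⟩
      exact hp.one_lt.ne' (Nat.dvd_one.1 this)
    · exact h0
  refine ⟨t, ht1, ?_⟩
  -- strong induction
  have key : ∀ n : ℕ, n ≤ t → ∀ i : ℤ, Nat.card (S.J i n) = S.p ^ (t - n) := by
    intro n
    induction n using Nat.strong_induction_on with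
    | _ n ih =>
      intro hn i
      match n, ih, hn with
      | 0, _, _ =>
        rw [S.J_unfold_zero, Nat.sub_zero]; exact hPj i
      | 1, _, hn =>
        rw [uniCardJ, S.J_unfold_succ, S.J_unfold_zero, S.Pj_zero]
        have : S.Pj (0 + ((0 + 1 : ℕ) : ℤ)) = MulAut.conj S.h • S.P := by
          rw [← S.Pj_one]; congr 1
        rw [this]
        have h2 : S.p ^ t = S.p * S.p ^ (t - 1) := by
          rw [← pow_succ']; congr 1; omega
        rw [h2] at hT
        exact Nat.eq_of_mul_eq_mul_left hp.pos hT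
      | m + 2, ih, hn =>
        have ih' : ∀ k : ℕ, k ≤ m + 1 → ∀ j : ℤ, Nat.card (S.J j k) = S.p ^ (t - k) :=
          fun k hk j => ih k (by omega) (by omega) j
        by_cases hAB : S.J i (m + 1) = S.J (i + 1) (m + 1)
        · exact (uniStepEq S t m hn ih' i hAB).elim
        · -- counting
          have hAC : S.J i (m + 1) ≤ S.J (i + 1) m := S.J_le_J (by omega) (by push_cast; omega)
          have hBC : S.J (i + 1) (m + 1) ≤ S.J (i + 1) m := S.J_le_J le_rfl (by push_cast; omega)
          have hcA := ih' (m + 1) le_rfl i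
          have hcB := ih' (m + 1) le_rfl (i + 1)
          have hcC := ih' m (by omega) (i + 1)
          have hinf : S.J i (m + 1) ⊓ S.J (i + 1) (m + 1) = S.J i (m + 2) := by
            rw [S.J_inf_J (by omega) (by push_cast; omega) (by push_cast; omega)]
            congr 1
            push_cast
            omega
          rw [← hinf]
          set A := S.J i (m + 1)
          set B := S.J (i + 1) (m + 1)
          set C := S.J (i + 1) m
          -- lower bound
          have hiA : A.relIndex C = S.p := by
            have h1 := uniRelIndexMulCard hAC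
            rw [hcA, hcC] at h1
            have h2 : S.p ^ (t - m) = S.p * S.p ^ (t - (m + 1)) := by
              rw [← pow_succ']; congr 1; omega
            rw [h2] at h1
            exact Nat.eq_of_mul_eq_mul_right (pow_pos hp.pos _) h1
          have hiB : B.relIndex C = S.p := by
            have h1 := uniRelIndexMulCard hBC
            rw [hcB, hcC] at h1
            have h2 : S.p ^ (t - m) = S.p * S.p ^ (t - (m + 1)) := by
              rw [← pow_succ']; congr 1; omega
            rw [h2] at h1
            exact Nat.eq_of_mul_eq_mul_right (pow_pos hp.pos _) h1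
          have hle : (A ⊓ B).relIndex C ≤ S.p * S.p := by
            have := Subgroup.relIndex_inf_le (H := A) (K := B) (L := C)
            rwa [hiA, hiB] at this
          have hmul := uniRelIndexMulCard (inf_le_left.trans hAC : A ⊓ B ≤ C)
          rw [hcC] at hmul
          -- card of A ⊓ B is a power of p
          have hdvd : Nat.card ↥(A ⊓ B) ∣ S.p ^ (t - (m + 1)) := by
            rw [← hcA]; exact Subgroup.card_dvd_of_le inf_le_left
          obtain ⟨k, hk1, hk2⟩ := (Nat.dvd_prime_pow hp).1 hdvd
          have hkne : k ≠ t - (m + 1) := by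
            intro hk
            apply hAB
            have h5 : A ⊓ B = A := by
              apply Subgroup.eq_of_le_of_card_ge inf_le_left
              rw [hk2, hk, hcA]
            have h6 : A ≤ B := by rw [← h5]; exact inf_le_right
            exact Subgroup.eq_of_le_of_card_ge h6 (by rw [hcA, hcB])
          rw [hk2]
          congr 1
          -- p^(t-m) ≤ p*p*p^k
          have h7 : S.p ^ (t - m) ≤ S.p ^ (k + 2) := by
            calc S.p ^ (t - m) = (A ⊓ B).relIndex C * Nat.card ↥(A ⊓ B) := hmul.symm
              _ ≤ S.p * S.p * S.p ^ k := by rw [hk2]; exact Nat.mul_le_mul_right _ hle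
              _ = S.p ^ (k + 2) := by ring
          have h8 : t - m ≤ k + 2 := (Nat.pow_le_pow_iff_right hp.one_lt).1 h7
          omega
  exact fun i n hn => key n hn i

end Cfsg.Agent.Lib.H24.Glaub
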