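import Mathlib

/-!
# S4385, piece (NC): an odd normal complement to a central Sylow 2-subgroup of `C_K(Q)`
-/

set_option autoImplicit false

namespace Cfsg.Agent.Lib.H24.G85

theorem exists_odd_complement {K : Type*} [Group K] [Finite K] (Q : Subgroup K) [Q.Normal]
    (hQ : IsPGroup 2 Q) (hQc : ∀ a ∈ Q, ∀ b ∈ Q, a * b = b * a)
    (hodd : ¬ 2 ∣ Q.relIndex (Subgroup.centralizer (Q : Set K))) :
    ∃ O : Subgroup K, O.Normal ∧ (Nat.card O).Coprime 2 ∧
      O ≤ Subgroup.centralizer (Q : Set K) ∧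
      Subgroup.centralizer (Q : Set K) ≤ Q ⊔ O ∧
      O.index = (Subgroup.centralizer (Q : Set K)).index * Nat.card Q := by
  have hCn : (Subgroup.centralizer (Q : Set K)).Normal := Subgroup.normal_centralizer
  set C : Subgroup K := Subgroup.centralizer (Q : Set K) with hCdef
  have hQC : Q ≤ C := fun a ha => Subgroup.mem_centralizer_iff.2 (fun b hb => hQc b hb a ha)
  set Q' : Subgroup C := Q.subgroupOf C with hQ'def
  have hQ'n : Q'.Normal := Subgroup.Normal.subgroupOf inferInstance C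
  set k := Q.relIndex C with hk
  have hQ'card : Nat.card Q' = Nat.card Q :=
    Nat.card_congr (Subgroup.subgroupOfEquivOfLe hQC).toEquiv
  have hcop2 : Nat.Coprime 2 k := (Nat.Prime.coprime_iff_not_dvd Nat.prime_two).2 hodd
  obtain ⟨a, ha⟩ := IsPGroup.iff_card.1 hQ
  have hcop : Nat.Coprime (Nat.card Q') Q'.index := by
    rw [hQ'card, ha]
    exact Nat.Coprime.pow_left a hcop2
  obtain ⟨N, hN⟩ := Subgroup.exists_right_complement'_of_coprime hcop
  have hNcard : Nat.card N = k := by
    have h1 := hN.card_mul_card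
    have h2 := Q'.card_mul_index
    have h3 : Nat.card Q' * Nat.card N = Nat.card Q' * k := by rw [h1]; exact h2.symm
    exact Nat.eq_of_mul_eq_mul_left Nat.card_pos h3
  have hkpos : 0 < k := by rw [← hNcard]; exact Nat.card_pos
  -- `Q'` is central in `C`
  have hQ'c : ∀ q ∈ Q', ∀ c : C, q * c = c * q := by
    intro q hq c
    apply Subtype.ext
    have := Subgroup.mem_centralizer_iff.1 c.2 (q : K) (Subgroup.mem_subgroupOf.1 hq)
    simpa using this
  -- decomposition
  have hdec : ∀ c : C, ∃ q ∈ Q', ∃ n ∈ N, q * n = c := by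
    intro c
    obtain ⟨⟨q, n⟩, hqn⟩ := hN.2 c
    exact ⟨q.1, q.2, n.1, n.2, hqn⟩
  have hNpow : ∀ n ∈ N, n ^ k = 1 := by
    intro n hn
    have h1 : (⟨n, hn⟩ : N) ^ Nat.card N = 1 := pow_card_eq_one'
    rw [hNcard] at h1
    have h2 := congrArg Subtype.val h1
    simpa using h2
  have hQ'pow : ∀ q ∈ Q', q ^ k = 1 → q = 1 := by
    intro q hq hqk
    obtain ⟨j, hj⟩ := hQ ⟨(q : K), Subgroup.mem_subgroupOf.1 hq⟩
    have hj' : (q : K) ^ 2 ^ j = 1 := by
      have := congrArg Subtype.val hj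
      simpa using this
    have hqk' : (q : K) ^ k = 1 := by
      have := congrArg Subtype.val hqk
      simpa using this
    have h1 : orderOf (q : K) ∣ 2 ^ j := orderOf_dvd_of_pow_eq_one hj'
    have h2 : orderOf (q : K) ∣ k := orderOf_dvd_of_pow_eq_one hqk'
    have h3 : orderOf (q : K) = 1 :=
      Nat.eq_one_of_dvd_coprimes (Nat.Coprime.pow_left j hcop2) h1 h2
    apply Subtype.ext
    exact orderOf_eq_one_iff.1 h3
  have hmemN : ∀ c : C, c ∈ N ↔ c ^ k = 1 := by
    intro c
    refine ⟨hNpow c, fun hc => ?_⟩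
    obtain ⟨q, hq, n, hn, rfl⟩ := hdec c
    have hcomm : Commute q n := hQ'c q hq n
    rw [hcomm.mul_pow, hNpow n hn, mul_one] at hc
    rw [hQ'pow q hq hc, one_mul]
    exact hn
  refine ⟨N.map C.subtype, ?_, ?_, ?_, ?_, ?_⟩
  · -- normal
    refine ⟨fun x hx g => ?_⟩
    obtain ⟨c, hc, rfl⟩ := Subgroup.mem_map.1 hx
    have hgc : g * (c : K) * g⁻¹ ∈ C := hCn.conj_mem _ c.2 g
    refine Subgroup.mem_map.2 ⟨⟨g * (c : K) * g⁻¹, hgc⟩, ?_, rfl⟩
    rw [hmemN]
    apply Subtype.ext
    have h1 : (c : K) ^ k = 1 := by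
      have := congrArg Subtype.val ((hmemN c).1 hc)
      simpa using this
    show (g * (c : K) * g⁻¹) ^ k = 1
    rw [conj_pow, h1, mul_one, mul_inv_cancel]
  · -- odd order
    have h1 : Nat.card (N.map C.subtype) = Nat.card N :=
      (Nat.card_congr (N.equivMapOfInjective C.subtype (Subgroup.subtype_injective C)).toEquiv).symm
    rw [h1, hNcard]
    exact hcop2.symm
  · -- `O ≤ C`
    intro x hx
    obtain ⟨c, _, rfl⟩ := Subgroup.mem_map.1 hx
    exact c.2
  · -- `C ≤ Q ⊔ O`
    intro c hc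
    obtain ⟨q, hq, n, hn, hqn⟩ := hdec ⟨c, hc⟩
    have : c = (q : K) * (n : K) := by
      have := congrArg Subtype.val hqn
      simpa using this.symm
    rw [this]
    exact Subgroup.mul_mem_sup (Subgroup.mem_subgroupOf.1 hq) (Subgroup.mem_map.2 ⟨n, hn, rfl⟩)
  · -- index
    have h1 : Nat.card (N.map C.subtype) = k := by
      rw [← hNcard]
      exact (Nat.card_congr (N.equivMapOfInjective C.subtype (Subgroup.subtype_injective C)).toEquiv).symm
    have h2 := (N.map C.subtype).index_mul_card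
    have h3 := C.index_mul_card
    have h4 : Nat.card C = Nat.card Q * k := by
      rw [← hN.card_mul_card, hQ'card, hNcard]
    rw [h1] at h2
    rw [h4] at h3
    have h5 : (N.map C.subtype).index * k = (C.index * Nat.card Q) * k := by
      rw [h2, mul_assoc, h3]
    exact Nat.eq_of_mul_eq_mul_right hkpos h5

end Cfsg.Agent.Lib.H24.G85
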