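import Cfsg.Agent.Lib.H24.CharPermLemma
import Cfsg.Agent.Lib.L0.CharOps

/-!
# Complex conjugate characters; real characters and real classes (helper24's library)

* `isIrrCharacter_conj` : the complex conjugate of an irreducible character is irreducible.
* `irrConj χ` : the conjugate, as an element of `IrrCharacter G`.
* `card_real_irr_eq_card_real_classes`.
-/

set_option autoImplicit false

namespace Cfsg.Agent.Lib.H24

open scoped ComplexConjugate
open Cfsg Cfsg.Agent.Lib.L0

section conjchar

variable {G : Type*} [Group G]

theorem classInner_conj_conj [Fintype G] (φ ψ : G → ℂ) :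
    classInner (fun g => conj (φ g)) (fun g => conj (ψ g)) = conj (classInner φ ψ) := by
  simp only [classInner, map_mul, map_inv₀, Complex.conj_natCast, map_sum]

theorem isIrrCharacter_conj [Finite G] {χ : G → ℂ} (hχ : IsIrrCharacter G χ) :
    IsIrrCharacter G (fun g => conj (χ g)) := by
  classical
  have := Fintype.ofFinite G
  refine isIrrCharacter_of_classInner_self_eq_one (isCharacter_conj (isCharacter_of_irr hχ)) ?_
  rw [classInner_conj_conj, irr_classInner_self hχ, map_one]

/-- The complex conjugate of an irreducible character. -/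
noncomputable def irrConj [Finite G] (χ : IrrCharacter G) : IrrCharacter G :=
  ⟨fun g => conj ((χ : G → ℂ) g), isIrrCharacter_conj χ.2⟩

@[simp] theorem irrConj_apply [Finite G] (χ : IrrCharacter G) (g : G) :
    (irrConj χ : G → ℂ) g = conj ((χ : G → ℂ) g) := rfl

@[simp] theorem irrConj_irrConj [Finite G] (χ : IrrCharacter G) : irrConj (irrConj χ) = χ := by
  apply Subtype.ext
  funext g
  simp

theorem irr_comp_inv [Finite G] (χ : IrrCharacter G) :
    (χ : G → ℂ) ∘ (fun g => g⁻¹) = fun g => conj ((χ : G → ℂ) g) := by
  funext g
  exact irr_inv χ g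

/-- A finite group has as many real-valued irreducible characters as real conjugacy classes. -/
theorem card_real_irr_eq_card_real_classes [Finite G] :
    Nat.card {χ : IrrCharacter G // ∀ g : G, ((χ : G → ℂ) g).im = 0} =
      Nat.card {C : ConjClasses G // ∀ g : G, ConjClasses.mk g = C → IsConj g g⁻¹} := by
  have h := perm_lemma (G := G) (fun g => g⁻¹) (fun χ => by
    rw [irr_comp_inv]; exact isIrrCharacter_conj χ.2)
  have h1 : Nat.card {χ : IrrCharacter G // ∀ g : G, ((χ : G → ℂ) g).im = 0} =
      Nat.card {χ : IrrCharacter G // (χ : G → ℂ) ∘ (fun g => g⁻¹) = (χ : G → ℂ)} := by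
    refine Nat.card_congr (Equiv.subtypeEquivRight (fun χ => ?_))
    rw [irr_comp_inv]
    constructor
    · intro h
      funext g
      exact Complex.conj_eq_iff_im.mpr (h g)
    · intro h g
      exact Complex.conj_eq_iff_im.mp (congrFun h g)
  have h2 : Nat.card {C : ConjClasses G // ∀ g : G, ConjClasses.mk g = C → IsConj g g⁻¹} =
      Nat.card {C : ConjClasses G // ∀ g : G, ConjClasses.mk g = C → IsConj g⁻¹ g} := by
    refine Nat.card_congr (Equiv.subtypeEquivRight (fun C => ?_))
    simp only [isConj_comm]
  rw [h1, h2, h]

end conjchar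

end Cfsg.Agent.Lib.H24
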