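import Mathlib
import Cfsg.Agent.Lib.L0.FrobTI
import Cfsg.Agent.Lib.H5.SimpleTools

/-!
# Self-centralizing subgroups of prime order (helper24)

A subgroup `K` of prime order with `C_G(K) = K` is a T.I. subgroup with Frobenius normalizer
(`FrobTI K`); in a simple group whose order is `p * n₀ * e₀` (`e₀` prime, `n₀` the only divisor
`> 1` of `n₀ * e₀` congruent to `1` mod `p`) a Sylow `p`-subgroup is self-centralizing with
normalizer of order `p * e₀`.
-/

set_option autoImplicit false

namespace Cfsg.Agent.Lib.H24.BrP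

open Cfsg.Agent.Lib.L0 Cfsg.Agent.Lib.H5

variable {G : Type*} [Group G]

theorem exists_zpow_of_prime_card {K : Subgroup G} {p : ℕ} [Fact p.Prime] (hK : Nat.card K = p)
    {k : G} (hk : k ∈ K) (hk1 : k ≠ 1) {y : G} (hy : y ∈ K) : ∃ n : ℤ, k ^ n = y := by
  have h1 : (⟨k, hk⟩ : K) ≠ 1 := fun h => hk1 (congrArg Subtype.val h)
  have h2 : (⟨y, hy⟩ : K) ∈ Subgroup.zpowers (⟨k, hk⟩ : K) := mem_zpowers_of_prime_card hK h1
  obtain ⟨n, hn⟩ := Subgroup.mem_zpowers_iff.1 h2
  exact ⟨n, by simpa using congrArg Subtype.val hn⟩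

theorem comm_of_prime_card {K : Subgroup G} {p : ℕ} [Fact p.Prime] (hK : Nat.card K = p) :
    ∀ a ∈ K, ∀ b ∈ K, a * b = b * a := by
  intro a ha b hb
  by_cases ha1 : a = 1
  · rw [ha1, one_mul, mul_one]
  · obtain ⟨n, rfl⟩ := exists_zpow_of_prime_card hK ha ha1 hb
    exact ((Commute.refl a).zpow_right n).eq

theorem frobTI_of_prime_card {K : Subgroup G} {p : ℕ} [Fact p.Prime] (hK : Nat.card K = p)
    (hC : Subgroup.centralizer (K : Set G) = K) : FrobTI K := by
  have hp : p.Prime := Fact.out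
  have hfin : Finite K := Nat.finite_of_card_ne_zero (hK ▸ hp.ne_zero)
  constructor
  · intro g hg k hk hconj
    by_contra hk1
    apply hg
    have : Finite ((K : Set G)) := hfin
    apply Subgroup.mem_normalizer_fintype
    intro y hy
    obtain ⟨n, rfl⟩ := exists_zpow_of_prime_card hK hk hk1 hy
    rw [← conj_zpow]
    exact K.zpow_mem hconj n
  · intro k hk hk1 x hx
    rw [← hC, Subgroup.mem_centralizer_iff]
    intro y hy
    obtain ⟨n, rfl⟩ := exists_zpow_of_prime_card hK hk hk1 hy
    rw [Subgroup.mem_centralizer_singleton_iff] at hx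
    have hcomm : Commute k x := hx.symm
    exact (hcomm.zpow_left n).eq

/-- In a simple group of order `p * n₀ * e₀` as described, a Sylow `p`-subgroup is
self-centralizing, with normalizer of order `p * e₀`. -/
theorem exists_selfcentralizing [Finite G] [IsSimpleGroup G] {p m n₀ e₀ : ℕ} [Fact p.Prime]
    (hG : Nat.card G = p * m) (hpm : ¬ p ∣ m) (hm : m = n₀ * e₀) (he₀ : e₀.Prime)
    (hdiv : ∀ d, d ∣ m → d % p = 1 → d = 1 ∨ d = n₀) :
    ∃ K : Subgroup G, Nat.card K = p ∧ Subgroup.centralizer (K : Set G) = K ∧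
      Nat.card (Subgroup.normalizer (K : Set G)) = p * e₀ := by
  have hp : p.Prime := Fact.out
  have hm0 : m ≠ 0 := fun h => hpm (h ▸ dvd_zero p)
  have hn0 : n₀ ≠ 0 := by
    rintro rfl
    exact hm0 (by rw [hm, zero_mul])
  have hpd : p ∣ Nat.card G := ⟨m, hG⟩
  have he₀p : e₀ ≠ p := by
    rintro rfl
    exact hpm ⟨n₀, by rw [hm, mul_comm]⟩
  have hnp : ¬ IsPGroup p G :=
    not_isPGroup_of_prime_dvd he₀ he₀p ⟨p * n₀, by rw [hG, hm]; ring⟩
  let P : Sylow p G := default
  obtain ⟨hPcard, hPidx⟩ := sylow_card_and_index P (k := 1) (m := m) (by rw [hG, pow_one]) hpm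
  rw [pow_one] at hPcard
  -- the number of Sylow subgroups
  have hnp1 := card_sylow_ne_one_of_simple hpd hnp
  have hnpd : Nat.card (Sylow p G) ∣ m := hPidx ▸ Sylow.card_dvd_index P
  have hnpm : Nat.card (Sylow p G) % p = 1 := by
    have := card_sylow_modEq_one p G
    rw [Nat.ModEq, Nat.mod_eq_of_lt hp.one_lt] at this
    exact this
  have hnp_eq : Nat.card (Sylow p G) = n₀ := (hdiv _ hnpd hnpm).resolve_left hnp1
  have hN : Nat.card (Subgroup.normalizer ((P : Subgroup G) : Set G)) = p * e₀ := by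
    have := card_normalizer_mul_card_sylow P
    rw [hnp_eq, hG, hm] at this
    have h2 : Nat.card (Subgroup.normalizer ((P : Subgroup G) : Set G)) * n₀ = (p * e₀) * n₀ := by
      rw [this]; ring
    exact Nat.eq_of_mul_eq_mul_right (Nat.pos_of_ne_zero hn0) h2
  -- the centralizer
  have hPC : (P : Subgroup G) ≤ Subgroup.centralizer ((P : Subgroup G) : Set G) := by
    intro x hx
    rw [Subgroup.mem_centralizer_iff]
    intro y hy
    exact comm_of_prime_card hPcard y hy x hx
  have hCN : Subgroup.centralizer ((P : Subgroup G) : Set G) ≤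
      Subgroup.normalizer ((P : Subgroup G) : Set G) := Subgroup.centralizer_le_normalizer _
  have hd1 : p ∣ Nat.card (Subgroup.centralizer ((P : Subgroup G) : Set G)) := by
    have := Subgroup.card_dvd_of_le hPC
    rwa [hPcard] at this
  have hd2 : Nat.card (Subgroup.centralizer ((P : Subgroup G) : Set G)) ∣ p * e₀ := by
    have := Subgroup.card_dvd_of_le hCN
    rwa [hN] at this
  obtain ⟨j, hj⟩ := hd1
  have hj2 : j ∣ e₀ := by
    rw [hj] at hd2
    exact Nat.dvd_of_mul_dvd_mul_left hp.pos hd2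
  refine ⟨P, hPcard, ?_, hN⟩
  rcases (Nat.dvd_prime he₀).1 hj2 with h1 | h1
  · symm
    apply Subgroup.eq_of_le_of_card_ge hPC
    rw [hj, h1, hPcard, mul_one]
  · exfalso
    apply not_normalizer_le_centralizer_of_simple hpd hnp P
    have : Subgroup.centralizer ((P : Subgroup G) : Set G) =
        Subgroup.normalizer ((P : Subgroup G) : Set G) := by
      apply Subgroup.eq_of_le_of_card_ge hCN
      rw [hj, h1, hN]
    exact this.ge

end Cfsg.Agent.Lib.H24.BrP
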