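import Cfsg.Agent.Lib.H24.BrauerP2
import Cfsg.Agent.Lib.H24.BrauerP3
import Cfsg.Agent.Lib.L0.CharLinear

/-!
# Simple groups with a self-centralizing Sylow subgroup of prime order: the degree data
(helper24)
-/

set_option autoImplicit false
set_option linter.unusedSectionVars false

namespace Cfsg.Agent.Lib.H24.BrP

open Cfsg Cfsg.Agent.Lib.L0 Cfsg.Agent.Lib.L0.FrobTI Cfsg.Agent.Lib.H8 Cfsg.Agent.Lib.H4.Feit
  Cfsg.Agent.Lib.H5
open scoped ComplexConjugate Classical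

universe u

/-- A perfect group has no non-principal linear characters. -/
theorem linear_eq_one_of_perfect {G : Type*} [Group G] (hperf : commutator G = ⊤)
    (χ : G → ℂ) (hχ : IsIrrCharacter G χ) (h1 : χ 1 = 1) : χ = 1 := by
  funext g
  have hk : commutator G ≤ (linearCharHom (isCharacter_of_irr hχ) h1).ker :=
    Abelianization.commutator_subset_ker _
  have hg : g ∈ (linearCharHom (isCharacter_of_irr hχ) h1).ker := hk (by rw [hperf]; trivial)
  rw [MonoidHom.mem_ker] at hg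
  have := linearCharHom_apply (isCharacter_of_irr hχ) h1 g
  rw [hg] at this
  simpa using this.symm

theorem commutator_eq_top_of_simple {G : Type*} [Group G] [Finite G] [IsSimpleGroup G]
    (h : ¬ (Nat.card G).Prime) : commutator G = ⊤ := by
  rcases (inferInstance : (commutator G).Normal).eq_bot_or_eq_top with h1 | h1
  · exfalso
    apply not_isMulCommutative_of_card_not_prime h
    refine ⟨⟨fun a b => ?_⟩⟩
    have h2 : a * b * a⁻¹ * b⁻¹ ∈ commutator G :=
      Subgroup.commutator_mem_commutator (Subgroup.mem_top a) (Subgroup.mem_top b)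
    rw [h1, Subgroup.mem_bot] at h2
    have : a * b = (a * b * a⁻¹ * b⁻¹) * (b * a) := by group
    rw [this, h2, one_mul]
  · exact h1

/-- The degree data of a simple group of order `p * n₀ * e₀` whose Sylow `p`-subgroups are
self-centralizing with `|N : P| = e₀` and `t = (p - 1) / e₀ ≥ e₀ + 2`. -/
theorem simple_data {G : Type u} [Group G] [Finite G] [IsSimpleGroup G] {p m n₀ e₀ t : ℕ}
    [Fact p.Prime] (hG : Nat.card G = p * m) (hpm : ¬ p ∣ m) (hm : m = n₀ * e₀) (he₀ : e₀.Prime)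
    (hdiv : ∀ d, d ∣ m → d % p = 1 → d = 1 ∨ d = n₀) (ht : t * e₀ + 1 = p) (hte : e₀ + 2 ≤ t) :
    ∃ (ι : Type u) (S : Finset ι) (b : ι → ℤ) (d : ι → ℕ) (εz : ℤ) (x : ℕ),
      (εz = 1 ∨ εz = -1) ∧ x ∣ Nat.card G ∧
      (∀ i ∈ S, b i ≠ 0 ∧ d i ∣ Nat.card G ∧ d i ≠ 1 ∧
        ∃ m' : ℤ, (d i : ℤ) = b i + m' * (p : ℤ)) ∧
      (∑ i ∈ S, b i ^ 2 = (e₀ : ℤ) - 1) ∧
      (1 + ∑ i ∈ S, b i * (d i : ℤ) = εz * x) ∧
      (∃ m' : ℤ, (x : ℤ) = εz * (e₀ : ℤ) + m' * (p : ℤ)) ∧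
      (t * x ^ 2 + 1 + ∑ i ∈ S, d i ^ 2 ≤ Nat.card G) := by
  have hp : p.Prime := Fact.out
  obtain ⟨K, hK, hC, hN⟩ := exists_selfcentralizing hG hpm hm he₀ hdiv
  haveI : Fintype G := Fintype.ofFinite G
  haveI : Fintype (nz K) := Fintype.ofFinite _
  haveI : Fintype (IrrCharacter G) := Fintype.ofFinite _
  have hF := frobTI_of_prime_card hK hC
  have hab := comm_of_prime_card hK
  have he : (K.subgroupOf (nz K)).index = e₀ := by
    have h1 := card_nz_eq K
    rw [hK] at h1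
    have h2 : Nat.card (nz K) = p * e₀ := hN
    rw [h2, mul_comm] at h1
    exact (Nat.eq_of_mul_eq_mul_right hp.pos h1).symm
  have htc : Nat.card (RelT K) = t := by
    have h1 := card_K_eq hF hab
    rw [he, hK, ← ht] at h1
    have h2 : Nat.card (RelT K) * e₀ = t * e₀ := by omega
    exact Nat.eq_of_mul_eq_mul_right he₀.pos h2
  have hnotprime : ¬ (Nat.card G).Prime := by
    rw [hG]
    apply Nat.not_prime_mul hp.one_lt.ne'
    rw [hm]
    intro h1
    have := Nat.eq_one_of_mul_eq_one_left h1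
    exact he₀.one_lt.ne' this
  have hperf := commutator_eq_top_of_simple (G := G) hnotprime
  obtain ⟨εz, x, b, d, S, hεz, hd, ⟨ψx, hψx⟩, hS, hsq, hdeg, hcong, hx, hdsq⟩ :=
    exists_data_zero hF hab (by rw [he, htc]; exact hte)
  have hdvd : ∀ ψ : IrrCharacter G, d ψ ∣ Nat.card G := by
    intro ψ
    obtain ⟨n, -, hn1, hn2⟩ := Cfsg.Agent.Lib.H23.irr_apply_one_dvd_card (ψ : G → ℂ) ψ.2
    rw [hd] at hn1
    have : d ψ = n := by exact_mod_cast hn1
    rw [this]
    exact hn2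
  refine ⟨IrrCharacter G, S, b, d, εz, x, hεz, hψx ▸ hdvd ψx, ?_, ?_, hdeg, ?_, ?_⟩
  · intro ψ hψ
    obtain ⟨h1, h2⟩ := hS ψ hψ
    refine ⟨h2, hdvd ψ, ?_, ?_⟩
    · intro hd1
      apply h1
      apply linear_eq_one_of_perfect hperf _ ψ.2
      rw [hd, hd1]
      simp
    · obtain ⟨m', hm'⟩ := hcong ψ hψ
      exact ⟨m', by rw [hm', hK]⟩
  · rw [hsq, he]
  · obtain ⟨m', hm'⟩ := hx
    exact ⟨m', by rw [hm', he, hK]⟩
  · rw [← htc]
    exact hdsq

end Cfsg.Agent.Lib.H24.BrP
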