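import Mathlib
import Cfsg.Agent.Lib.H24.CharOrth
import Cfsg.Agent.Lib.H24.CharKer
import Cfsg.Agent.Lib.H24.CharDefl

/-!
# Codegrees and divisibility (helper24's library)

`codNat χ = |G| / (|ker χ| * χ(1))`; it divides `|G|`.  For a simple group `S` and a prime `p`
dividing `|S|` some nontrivial irreducible character has degree prime to `p`; consequently the
codegrees of `S` have least common multiple `|S|`.
-/

set_option autoImplicit false

namespace Cfsg.Agent.Lib.H24

open Cfsg Cfsg.Agent.Lib.L0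

variable {G : Type*} [Group G] [Finite G]

theorem card_ker_eq (χ : IrrCharacter G) :
    Nat.card {g : G // (χ : G → ℂ) g = (χ : G → ℂ) 1} =
      Nat.card (charKer (χ : G → ℂ) (isCharacter_of_irr χ.2)) := rfl

/-- `|ker χ| * χ(1)` divides `|G|`. -/
theorem card_ker_mul_degree_dvd (χ : IrrCharacter G) :
    Nat.card {g : G // (χ : G → ℂ) g = (χ : G → ℂ) 1} * charDegree (χ : G → ℂ) ∣ Nat.card G := by
  rw [card_ker_eq, ← Subgroup.card_mul_index (charKer (χ : G → ℂ) (isCharacter_of_irr χ.2))]
  exact Nat.mul_dvd_mul_left _ (charDegree_dvd_index_charKer χ)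

/-- The codegree divides the group order. -/
theorem codegree_dvd_card (χ : IrrCharacter G) :
    Nat.card G / (Nat.card {g : G // (χ : G → ℂ) g = (χ : G → ℂ) 1} * charDegree (χ : G → ℂ)) ∣
      Nat.card G :=
  Nat.div_dvd_of_dvd (card_ker_mul_degree_dvd χ)

/-- In a simple group, a nontrivial irreducible character is faithful. -/
theorem card_ker_eq_one_of_simple [IsSimpleGroup G] (χ : IrrCharacter G)
    (hne : (χ : G → ℂ) ≠ fun _ => 1) :
    Nat.card {g : G // (χ : G → ℂ) g = (χ : G → ℂ) 1} = 1 := by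
  rw [card_ker_eq]
  rcases (charKer_normal (χ : G → ℂ) (isCharacter_of_irr χ.2)).eq_bot_or_eq_top with h | h
  · rw [h]
    exact Subgroup.card_bot
  · exact absurd (irr_eq_trivial_of_charKer_eq_top χ.2 h) hne

/-- The sum of the squares of the degrees, in `ℕ`. -/
theorem sum_charDegree_sq [Fintype (IrrCharacter G)] :
    ∑ χ : IrrCharacter G, charDegree (χ : G → ℂ) ^ 2 = Nat.card G := by
  classical
  have := Fintype.ofFinite G
  have h := sum_irr_one_sq (G := G)
  have h2 : ((∑ χ : IrrCharacter G, charDegree (χ : G → ℂ) ^ 2 : ℕ) : ℂ) = (Nat.card G : ℂ) := by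
    rw [← h]
    push_cast
    refine Finset.sum_congr rfl (fun χ _ => ?_)
    rw [charDegree_irr]
  exact_mod_cast h2

/-- If `p` divides `|G|` then some nontrivial irreducible character has degree prime to `p`. -/
theorem exists_nontrivial_irr_not_dvd (p : ℕ) (hp : p.Prime) (hpG : p ∣ Nat.card G) :
    ∃ χ : IrrCharacter G, ((χ : G → ℂ) ≠ fun _ => 1) ∧ ¬ p ∣ charDegree (χ : G → ℂ) := by
  classical
  have : Fintype (IrrCharacter G) := Fintype.ofFinite _
  by_contra hcon
  push Not at hcon
  have h := sum_charDegree_sq (G := G)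
  rw [← Finset.add_sum_erase Finset.univ _ (Finset.mem_univ (trivialIrr G))] at h
  have h1 : charDegree (trivialIrr G : G → ℂ) = 1 := by
    apply Cfsg.Agent.Lib.H23.charDegree_eq_of_apply_one
    simp
  have h2 : p ∣ ∑ χ ∈ Finset.univ.erase (trivialIrr G), charDegree (χ : G → ℂ) ^ 2 := by
    refine Finset.dvd_sum (fun χ hχ => ?_)
    have hne : (χ : G → ℂ) ≠ fun _ => 1 := by
      intro h0
      exact (Finset.mem_erase.mp hχ).1 (Subtype.ext h0)
    exact dvd_pow (hcon χ hne) two_ne_zero
  rw [h1, one_pow] at h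
  have h3 : p ∣ 1 := by
    have h4 : p ∣ 1 + ∑ χ ∈ Finset.univ.erase (trivialIrr G), charDegree (χ : G → ℂ) ^ 2 := by
      rw [h]; exact hpG
    exact (Nat.dvd_add_left h2).mp h4
  exact hp.one_lt.ne' (Nat.dvd_one.mp h3)

end Cfsg.Agent.Lib.H24
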