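import Cfsg.Agent.Lib.H23.MGroup

/-!
# Anchors for on-demand lemmas (helper24)

`f.congr_simp` lemmas are written on demand in the first module that needs them.  This module
realizes the ones that several of helper24's modules need, so that only one copy exists.
-/

namespace Cfsg.Agent.Lib.H24

universe u

/-- Anchor: realizes `inertia.congr_simp` once, so that downstream modules share it. -/
theorem inertia_congr_anchor {G : Type u} [Group G] (H : Subgroup G) [H.Normal]
    (ϑ ϑ' : H → ℂ) (h : ϑ = ϑ') :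
    Cfsg.Agent.Lib.H23.inertia H ϑ = Cfsg.Agent.Lib.H23.inertia H ϑ' :=
  Cfsg.Agent.Lib.H23.inertia.congr_simp H ϑ ϑ' h

/-- Anchor: reuses `linearCharHom.congr_simp` of `H23.MGroup`. -/
theorem linearCharHom_congr_anchor {G : Type u} [Group G] {χ χ' : G → ℂ} (e : χ = χ')
    (hχ : Cfsg.IsCharacter G χ) (h1 : χ 1 = 1) :
    Cfsg.Agent.Lib.L0.linearCharHom hχ h1
      = Cfsg.Agent.Lib.L0.linearCharHom (e ▸ hχ) (e ▸ h1) :=
  Cfsg.Agent.Lib.L0.linearCharHom.congr_simp e hχ h1

end Cfsg.Agent.Lib.H24
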