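import Mathlib
import Cfsg.Prelude.Def_Transfer
import Cfsg.Prelude.Def_CharExt
import Cfsg.Prelude.Def_Blocks
import Cfsg.Agent.S0867
import Cfsg.Agent.S0887
import Cfsg.Agent.Lib.H6.PResidual
import Cfsg.Agent.Lib.L0.ResidualComplement
import Cfsg.Agent.Lib.H23.OrbitSum
import Cfsg.Agent.Lib.H23.DetChar
import Cfsg.Agent.Lib.H23.DadeLemma
import Cfsg.Agent.Lib.H23.DegreeDvd
import Cfsg.Agent.Lib.H23.Ito
import Cfsg.Agent.Lib.H24.ChiefFactor
import Cfsg.Agent.Lib.H24.CharOrth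

/-!
# Characters and the `p`-residual `O^p(G)` (Isaacs, Chapter 12, first pages)

* `coprime_detOrder`: if `O^p(K) = K` every character of `K` has determinantal order prime to `p`.
* `restrict_eq_of_degree_eq`: a constituent of the restriction with the full degree is the
  restriction.
* `isIrrCharacter_restrict_of_index_pow`: characters of `p'`-degree restrict irreducibly to normal
  subgroups of `p`-power index.
* `card_modEq_sum_invariant`: `|K|` is congruent mod `p` to the sum of the squares of the degrees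
  of the `G`-invariant irreducible characters of `K` of `p'`-degree, for `|G:K|` a power of `p`.
* `card_pResidual_modEq`: Isaacs' congruence for `|O^p(G)|`.
-/

set_option autoImplicit false

namespace Cfsg.Agent.Lib.H24

open Cfsg Cfsg.Agent.Lib.L0 Cfsg.Agent.Lib.H23

theorem coprime_orderOf_hom {K : Type*} [Group K] [Finite K] (p : ℕ) (hp : p.Prime)
    (htop : Cfsg.pResidual p K = ⊤) (f : K →* ℂˣ) : Nat.Coprime (orderOf f) p := by
  have hfin : f ^ Nat.card K = 1 := by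
    ext g
    rw [MonoidHom.pow_apply, ← map_pow, pow_card_eq_one', map_one, MonoidHom.one_apply]
  have hpos : 0 < orderOf f := by
    apply orderOf_pos_iff.mpr
    exact isOfFinOrder_iff_pow_eq_one.mpr ⟨Nat.card K, Nat.card_pos, hfin⟩
  rw [Nat.coprime_comm, Nat.Prime.coprime_iff_not_dvd hp]
  rintro ⟨m', hm'⟩
  have hm'pos : 0 < m' := by
    rcases Nat.eq_zero_or_pos m' with h | h
    · rw [h, mul_zero] at hm'; omega
    · exact h
  have hlt : m' < orderOf f := by
    rw [hm']; nlinarith [hp.two_le]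
  have hne : f ^ m' ≠ 1 := pow_ne_one_of_lt_orderOf hm'pos.ne' hlt
  apply hne
  have hker : (f ^ m').ker = ⊤ := by
    rw [eq_top_iff, ← htop]
    unfold Cfsg.pResidual
    rw [Subgroup.closure_le]
    intro g hg
    rw [SetLike.mem_coe, MonoidHom.mem_ker]
    have h1 : ((f ^ m') g) ^ p = 1 := by
      rw [MonoidHom.pow_apply, ← pow_mul, mul_comm, ← hm', ← MonoidHom.pow_apply,
        pow_orderOf_eq_one, MonoidHom.one_apply]
    have h2 : ((f ^ m') g) ^ orderOf g = 1 := by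
      rw [← map_pow, pow_orderOf_eq_one, map_one]
    have h3 : orderOf ((f ^ m') g) ∣ p := orderOf_dvd_of_pow_eq_one h1
    have h4 : orderOf ((f ^ m') g) ∣ orderOf g := orderOf_dvd_of_pow_eq_one h2
    have h5 : orderOf ((f ^ m') g) = 1 := Nat.eq_one_of_dvd_coprimes hg h4 h3
    exact orderOf_eq_one_iff.mp h5
  ext g
  have : g ∈ (f ^ m').ker := by rw [hker]; trivial
  rw [MonoidHom.mem_ker] at this
  rw [this, MonoidHom.one_apply]

/-- If `O^p(K) = K`, every character of `K` has determinantal order prime to `p`. -/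
theorem coprime_detOrder {K : Type*} [Group K] [Finite K] (p : ℕ) (hp : p.Prime)
    (htop : Cfsg.pResidual p K = ⊤) (ψ : K → ℂ) (hψ : IsCharacter K ψ) :
    Nat.Coprime (Cfsg.detOrder ψ) p := by
  obtain ⟨f, hf⟩ := exists_hom_detChar hψ
  unfold Cfsg.detOrder
  rw [hf, orderOf_homToFun]
  exact coprime_orderOf_hom p hp htop f

/-- A constituent of the restriction to a normal subgroup having the full degree is the
restriction. -/
theorem restrict_eq_of_degree_eq {G : Type*} [Group G] [Fintype G] (N : Subgroup G)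
    [hN : N.Normal] [Fintype N] (χ : G → ℂ) (hχ : IsIrrCharacter G χ) (ϑ : N → ℂ)
    (hϑ : IsIrrCharacter N ϑ) (hc : classInner (fun n : N => χ n) ϑ ≠ 0) (hdeg : χ 1 = ϑ 1) :
    (fun n : N => χ n) = ϑ := by
  classical
  obtain ⟨F, hF, hϑF, hsum⟩ := clifford_finset N χ hχ ϑ hϑ hc
  obtain ⟨c, hcn⟩ := classInner_char_irr_nat (isCharacter_restrict N (isCharacter_of_irr hχ)) hϑ
  obtain ⟨b, hb0, hb⟩ := irr_one_eq ⟨ϑ, hϑ⟩
  have hb : ϑ 1 = b := hb
  have h1 := congrFun hsum 1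
  simp only [Pi.smul_apply, Finset.sum_apply, smul_eq_mul] at h1
  have h2 : ∀ φ ∈ F, φ 1 = (b : ℂ) := by
    intro φ hφ
    obtain ⟨k, rfl⟩ := hF φ hφ
    rw [conjChar_apply, ← hb]
    congr 1
    apply Subtype.ext
    show k * ((1 : N) : G) * k⁻¹ = ((1 : N) : G)
    simp
  rw [Finset.sum_congr rfl h2, Finset.sum_const, nsmul_eq_mul, hcn] at h1
  have h3 : χ ((1 : N) : G) = χ 1 := rfl
  rw [h3, hdeg, hb] at h1
  have h4 : b = c * (F.card * b) := by exact_mod_cast h1
  have h5 : c * F.card = 1 := by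
    have : b * 1 = b * (c * F.card) := by
      rw [mul_one]
      calc b = c * (F.card * b) := h4
        _ = b * (c * F.card) := by ring
    exact (Nat.eq_of_mul_eq_mul_left hb0 this).symm
  have hc1 : c = 1 := Nat.eq_one_of_mul_eq_one_right h5
  have hF1 : F.card = 1 := Nat.eq_one_of_mul_eq_one_left h5
  obtain ⟨x, hx⟩ := Finset.card_eq_one.mp hF1
  rw [hx, Finset.mem_singleton] at hϑF
  rw [hsum, hcn, hc1, hx, Finset.sum_singleton, hϑF, Nat.cast_one, one_smul]

/-- Irreducible characters of `p'`-degree restrict irreducibly to normal subgroups of `p`-power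
index. -/
theorem isIrrCharacter_restrict_of_index_pow {G : Type*} [Group G] [Fintype G] (K : Subgroup G)
    [hK : K.Normal] [Fintype K] (p : ℕ) (hp : p.Prime) (j : ℕ) (hj : K.index = p ^ j)
    (χ : G → ℂ) (hχ : IsIrrCharacter G χ) (hdeg : ¬ p ∣ Cfsg.charDegree χ) :
    IsIrrCharacter K (fun n : K => χ n) := by
  classical
  have hχc := isCharacter_of_irr hχ
  have hres : IsCharacter K (fun n : K => χ n) := isCharacter_restrict K hχc
  have hc1 : χ 1 = (Cfsg.charDegree χ : ℂ) := apply_one_eq_charDegree χ hχ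
  have hcpos : 0 < Cfsg.charDegree χ := Cfsg.Agent.Lib.H23.charDegree_pos χ hχ
  have hres1 : (fun n : K => χ n) 1 ≠ 0 := by
    show χ ((1 : K) : G) ≠ 0
    rw [Subgroup.coe_one, hc1]
    exact Nat.cast_ne_zero.mpr hcpos.ne'
  obtain ⟨ϑ, hϑ, hcon⟩ := exists_irr_constituent hres hres1
  have hd1 : ϑ 1 = (Cfsg.charDegree ϑ : ℂ) := apply_one_eq_charDegree ϑ hϑ
  have hdpos : 0 < Cfsg.charDegree ϑ := Cfsg.Agent.Lib.H23.charDegree_pos ϑ hϑ
  obtain ⟨h1, h2⟩ := Cfsg.Agent.S0887.result K χ hχ ϑ hϑ hcon _ _ hc1 hd1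
  rw [hj] at h2
  obtain ⟨i, -, hi⟩ := (Nat.dvd_prime_pow hp).mp h2
  have h3 : Cfsg.charDegree χ = Cfsg.charDegree ϑ * (Cfsg.charDegree χ / Cfsg.charDegree ϑ) :=
    (Nat.mul_div_cancel' h1).symm
  have hi0 : i = 0 := by
    by_contra hne
    apply hdeg
    rw [h3, hi]
    exact Dvd.dvd.mul_left (dvd_pow_self p hne) _
  rw [hi0, pow_zero] at hi
  rw [hi, mul_one] at h3
  have h4 : χ 1 = ϑ 1 := by rw [hc1, hd1, h3]
  rw [restrict_eq_of_degree_eq K χ hχ ϑ hϑ hcon h4]
  exact hϑ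

/-- `|K|` is congruent mod `p` to the sum of the squares of the degrees of the `G`-invariant
irreducible characters of `K` of `p'`-degree when `|G:K|` is a power of `p`. -/
theorem card_modEq_sum_invariant {G : Type*} [Group G] [Fintype G] (K : Subgroup G)
    [hK : K.Normal] [Fintype K] (p : ℕ) (hp : p.Prime) (j : ℕ) (hj : K.index = p ^ j)
    [Fintype (IrrCharacter K)]
    [DecidablePred (fun ψ : IrrCharacter K =>
      (∀ (g : G) (n : K), ψ.1 ⟨g * n * g⁻¹, hK.conj_mem n n.2 g⟩ = ψ.1 n) ∧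
        ¬ p ∣ Cfsg.charDegree ψ.1)] :
    Nat.card K ≡ ∑ ψ ∈ Finset.univ.filter (fun ψ : IrrCharacter K =>
      (∀ (g : G) (n : K), ψ.1 ⟨g * n * g⁻¹, hK.conj_mem n n.2 g⟩ = ψ.1 n) ∧
        ¬ p ∣ Cfsg.charDegree ψ.1), Cfsg.charDegree ψ.1 ^ 2 [MOD p] := by
  classical
  -- the action
  let act : G → IrrCharacter K → IrrCharacter K := fun g ψ =>
    ⟨conjAct K g ψ.1, isIrrCharacter_conjAct K g ψ.2⟩
  have hact1 : ∀ ψ, act 1 ψ = ψ := fun ψ => Subtype.ext (conjAct_one K ψ.1)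
  have hactmul : ∀ g h ψ, act (g * h) ψ = act g (act h ψ) :=
    fun g h ψ => Subtype.ext (conjAct_mul K g h ψ.1)
  have hfix : ∀ ψ : IrrCharacter K, (∀ g, act g ψ = ψ) ↔
      ∀ (g : G) (n : K), ψ.1 ⟨g * n * g⁻¹, hK.conj_mem n n.2 g⟩ = ψ.1 n := by
    intro ψ
    rw [← conjAct_eq_self_iff K ψ.1]
    constructor
    · intro h g; exact congrArg Subtype.val (h g)
    · intro h g; exact Subtype.ext (h g)
  let F : IrrCharacter K → ℕ := fun ψ => Cfsg.charDegree ψ.1 ^ 2
  have h1 : Nat.card K = ∑ ψ : IrrCharacter K, F ψ := by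
    have h := sum_irr_one_sq (G := K)
    have : ((Nat.card K : ℕ) : ℂ) = ((∑ ψ : IrrCharacter K, F ψ : ℕ) : ℂ) := by
      rw [← h, Nat.cast_sum]
      refine Finset.sum_congr rfl (fun ψ _ => ?_)
      rw [apply_one_eq_charDegree ψ.1 ψ.2]
      show _ = ((Cfsg.charDegree ψ.1 ^ 2 : ℕ) : ℂ)
      push_cast
      rfl
    exact_mod_cast this
  have h2 := sum_modEq_sum_fixed p hp act hact1 hactmul K ⟨j, hj⟩ F Finset.univ
    (fun _ _ _ => Finset.mem_univ _)
    (fun d hd ψ _ => Subtype.ext (conjAct_of_mem K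
      (isClassFunction_of_isCharacter (isCharacter_of_irr ψ.2)) d hd))
    (fun g ψ _ => by
      show Cfsg.charDegree (conjAct K g ψ.1) ^ 2 = Cfsg.charDegree ψ.1 ^ 2
      congr 1
      unfold Cfsg.charDegree conjAct
      congr 3
      refine congrArg ψ.1 (Subtype.ext ?_)
      show g⁻¹ * ((1 : K) : G) * g⁻¹⁻¹ = ((1 : K) : G)
      simp)
  rw [h1]
  refine h2.trans ?_
  have h3 : Finset.univ.filter (fun ψ : IrrCharacter K =>
      (∀ (g : G) (n : K), ψ.1 ⟨g * n * g⁻¹, hK.conj_mem n n.2 g⟩ = ψ.1 n) ∧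
        ¬ p ∣ Cfsg.charDegree ψ.1) =
      (Finset.univ.filter (fun ψ : IrrCharacter K => ∀ g, act g ψ = ψ)).filter
        (fun ψ => ¬ p ∣ Cfsg.charDegree ψ.1) := by
    ext ψ
    simp only [Finset.mem_filter, Finset.mem_univ, true_and]
    rw [hfix ψ]
  rw [h3, ← Finset.sum_filter_add_sum_filter_not
    (Finset.univ.filter (fun ψ : IrrCharacter K => ∀ g, act g ψ = ψ))
    (fun ψ => ¬ p ∣ Cfsg.charDegree ψ.1) F]
  have h4 : p ∣ ∑ ψ ∈ (Finset.univ.filter (fun ψ : IrrCharacter K => ∀ g, act g ψ = ψ)).filter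
      (fun ψ => ¬ ¬ p ∣ Cfsg.charDegree ψ.1), F ψ := by
    apply Finset.dvd_sum
    intro ψ hψ
    have := (Finset.mem_filter.mp hψ).2
    rw [not_not] at this
    exact Dvd.dvd.pow this two_ne_zero
  have h5 := Nat.ModEq.add_left (∑ ψ ∈ (Finset.univ.filter
    (fun ψ : IrrCharacter K => ∀ g, act g ψ = ψ)).filter
      (fun ψ => ¬ p ∣ Cfsg.charDegree ψ.1), F ψ) (Nat.modEq_zero_iff_dvd.mpr h4)
  rw [add_zero] at h5
  exact h5

end Cfsg.Agent.Lib.H24
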