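import Mathlib
import Cfsg.Agent.Lib.H24.Anchors
import Cfsg.Agent.S4456
import Cfsg.Agent.S0855
import Cfsg.Agent.Lib.H1.CoprimeAction
import Cfsg.Agent.Lib.H1.CoprimeAbelian
import Cfsg.Agent.Lib.H23.ClassBound
import Cfsg.Agent.Lib.H23.LinearExt
import Cfsg.Agent.Lib.H23.CliffordCorr
import Cfsg.Agent.Lib.H23.Ito
import Cfsg.Agent.Lib.H24.CharAbelian
import Cfsg.Agent.Lib.H24.CharLinearMul
import Cfsg.Agent.Lib.H24.CharKer
import Cfsg.Agent.Lib.L0.CharIndChar
import Cfsg.Agent.Lib.L0.CharInd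
import Cfsg.Agent.Lib.H23.FullyRamified
import Cfsg.Agent.Lib.H23.DegreeDvd
import Cfsg.Agent.Lib.H6.PResidual

/-!
# Groups with two character degrees (Isaacs 12.5, 12.6)

Tools for the proof that a group with `cd(G) = {1, m}` has an abelian normal subgroup of index `m`
or is the direct product of a `p`-group and an abelian group.
-/

set_option autoImplicit false

namespace Cfsg.Agent.Lib.H24

open Cfsg Cfsg.Agent.Lib.L0 Cfsg.Agent.Lib.H23
open scoped commutatorElement

section GroupTheory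

/-- `[a^k, b] = [a, b]^k` when `[a, b]` is central. -/
theorem commutatorElement_pow_of_central {T : Type*} [Group T] (a b : T)
    (hc : ⁅a, b⁆ ∈ Subgroup.center T) (k : ℕ) : ⁅a ^ k, b⁆ = ⁅a, b⁆ ^ k := by
  induction k with
  | zero => simp [commutatorElement_def]
  | succ k ih =>
    have h1 : ⁅a ^ (k + 1), b⁆ = a ^ k * ⁅a, b⁆ * (a ^ k)⁻¹ * ⁅a ^ k, b⁆ := by
      simp only [commutatorElement_def, pow_succ]
      group
    have h2 : a ^ k * ⁅a, b⁆ = ⁅a, b⁆ * a ^ k := (Subgroup.mem_center_iff.mp hc (a ^ k))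
    rw [h1, h2, mul_assoc ⁅a, b⁆, mul_inv_cancel, mul_one, ih, pow_succ']

/-- A group with a central Hall subgroup containing the commutator subgroup is abelian. -/
theorem comm_of_central_hall {T : Type*} [Group T] [Finite T] (O : Subgroup T)
    (hOc : O ≤ Subgroup.center T) (hT' : commutator T ≤ O)
    (hcop : Nat.Coprime O.index (Nat.card O)) (a b : T) : a * b = b * a := by
  haveI hOn : O.Normal := by
    constructor
    intro n hn g
    have := Subgroup.mem_center_iff.mp (hOc hn) g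
    rw [this, mul_assoc, mul_inv_cancel, mul_one]
    exact hn
  have hcO : ⁅a, b⁆ ∈ O := hT' (Subgroup.commutator_mem_commutator (Subgroup.mem_top a)
    (Subgroup.mem_top b))
  have h1 : ⁅a, b⁆ ^ O.index = 1 := by
    rw [← commutatorElement_pow_of_central a b (hOc hcO)]
    have h2 : a ^ O.index ∈ Subgroup.center T := hOc (O.pow_index_mem a)
    rw [commutatorElement_def, ← Subgroup.mem_center_iff.mp h2 b]
    group
  have h2 : ⁅a, b⁆ ^ Nat.card O = 1 := by
    have : (⟨⁅a, b⁆, hcO⟩ : O) ^ Nat.card O = 1 := pow_card_eq_one'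
    exact congrArg Subtype.val this
  have h3 : orderOf ⁅a, b⁆ = 1 :=
    Nat.eq_one_of_dvd_coprimes hcop (orderOf_dvd_of_pow_eq_one h1) (orderOf_dvd_of_pow_eq_one h2)
  have h4 : ⁅a, b⁆ = 1 := orderOf_eq_one_iff.mp h3
  exact (commutatorElement_eq_one_iff_mul_comm.mp h4)

end GroupTheory

section Chars

variable {G : Type*} [Group G] [Finite G]

/-- If every irreducible character of `G/N` is linear, then `G' ≤ N`. -/
theorem commutator_le_of_quotient_linear (N : Subgroup G) [N.Normal]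
    (h : ∀ ψ : IrrCharacter (G ⧸ N), (ψ : G ⧸ N → ℂ) 1 = 1) : commutator G ≤ N := by
  rw [← Subgroup.Normal.quotient_commutative_iff_commutator_le]
  exact ⟨⟨fun a b => comm_of_forall_irr_one h a b⟩⟩

/-- Irreducible characters of an abelian group separate points. -/
theorem exists_irr_ne_of_ne (hA : ∀ a b : G, a * b = b * a) {a b : G} (hab : a ≠ b) :
    ∃ χ : IrrCharacter G, (χ : G → ℂ) a ≠ (χ : G → ℂ) b := by
  have := Fintype.ofFinite G
  by_contra hcon
  push Not at hcon
  have h1 : IsConj a b := (isConj_iff_forall_irr_eq a b).mpr hcon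
  obtain ⟨c, hc⟩ := isConj_iff.mp h1
  apply hab
  rw [← hc, hA c a, mul_assoc, mul_inv_cancel, mul_one]

omit [Finite G] in
/-- A subgroup containing the commutator subgroup is normal. -/
theorem normal_of_commutator_le' {H : Subgroup G} (h : commutator G ≤ H) : H.Normal := by
  constructor
  intro n hn g
  have h1 : ⁅g, n⁆ ∈ H := h (Subgroup.commutator_mem_commutator (Subgroup.mem_top g)
    (Subgroup.mem_top n))
  have h2 : g * n * g⁻¹ = ⁅g, n⁆ * n := by
    rw [commutatorElement_def]; group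
  rw [h2]
  exact H.mul_mem h1 hn

end Chars

section HallCore

variable {G : Type*} [Group G] [Finite G]

/-- The intersection of the `p`-residuals over the primes dividing `m`. -/
def hallCore (G : Type*) [Group G] (m : ℕ) : Subgroup G :=
  ⨅ p ∈ m.primeFactors, Cfsg.pResidual p G

omit [Finite G] in
theorem hallCore_normal (m : ℕ) : (hallCore G m).Normal := by
  unfold hallCore
  apply Subgroup.normal_iInf_normal
  intro p
  apply Subgroup.normal_iInf_normal
  intro _
  exact Cfsg.Agent.Lib.H6.pResidual_normal p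

/-- Thompson's theorem in the form: `O^p(G)` is a `p'`-group when `p` divides all nonlinear
degrees. -/
theorem coprime_card_pResidual (p : ℕ) (hp : p.Prime)
    (hdeg : ∀ χ : IrrCharacter G, charDegree (χ : G → ℂ) ≠ 1 → p ∣ charDegree (χ : G → ℂ)) :
    (Nat.card (Cfsg.pResidual p G)).Coprime p := by
  obtain ⟨N, hNn, hNcop, k, hk⟩ := Cfsg.Agent.S4456.result p hp hdeg
  have hle : Cfsg.pResidual p G ≤ N := by
    unfold Cfsg.pResidual
    rw [Subgroup.closure_le]
    intro x hx
    exact Cfsg.Agent.S0855.mem_of_coprime_of_index_pow N p k hp.ne_zero hk x hx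
  exact Nat.Coprime.coprime_dvd_left (Subgroup.card_dvd_of_le hle) hNcop

theorem coprime_card_hallCore (m : ℕ) (hm : m ≠ 0)
    (hcd : ∀ χ : IrrCharacter G, charDegree (χ : G → ℂ) = 1 ∨ charDegree (χ : G → ℂ) = m) :
    (Nat.card (hallCore G m)).Coprime m := by
  apply Nat.Coprime.symm
  apply Nat.coprime_of_dvd
  intro p hp hpm hpO
  have hle : hallCore G m ≤ Cfsg.pResidual p G :=
    iInf₂_le p (Nat.mem_primeFactors.mpr ⟨hp, hpm, hm⟩)
  have h1 := coprime_card_pResidual (G := G) p hp (fun χ hne => by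
    rcases hcd χ with h | h
    · exact absurd h hne
    · rw [h]; exact hpm)
  have h2 : p ∣ Nat.card (Cfsg.pResidual p G) := dvd_trans hpO (Subgroup.card_dvd_of_le hle)
  exact (Nat.Prime.coprime_iff_not_dvd hp).mp h1.symm h2

theorem prime_dvd_of_dvd_index_hallCore (m : ℕ) (r : ℕ) (hr : r.Prime)
    (hdvd : r ∣ (hallCore G m).index) : r ∣ m := by
  by_contra hrm
  haveI : Fact r.Prime := ⟨hr⟩
  obtain R : Sylow r G := default
  have hR : (R : Subgroup G) ≤ hallCore G m := by
    unfold hallCore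
    apply le_iInf₂
    intro p hp
    have hpp := (Nat.mem_primeFactors.mp hp)
    intro x hx
    apply Subgroup.subset_closure
    show Nat.Coprime (orderOf x) p
    obtain ⟨k, hk⟩ := (IsPGroup.iff_orderOf.mp R.2) ⟨x, hx⟩
    rw [Subgroup.orderOf_mk] at hk
    rw [hk]
    apply Nat.Coprime.pow_left
    rw [Nat.coprime_primes hr hpp.1]
    rintro rfl
    exact hrm hpp.2.1
  have h1 : (hallCore G m).index ∣ (R : Subgroup G).index := Subgroup.index_dvd_of_le hR
  exact R.not_dvd_index (dvd_trans hdvd h1)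

theorem coprime_card_index_hallCore (m : ℕ) (hm : m ≠ 0)
    (hcd : ∀ χ : IrrCharacter G, charDegree (χ : G → ℂ) = 1 ∨ charDegree (χ : G → ℂ) = m) :
    (Nat.card (hallCore G m)).Coprime (hallCore G m).index := by
  apply Nat.Coprime.symm
  apply Nat.coprime_of_dvd
  intro r hr hri hrO
  have h1 := prime_dvd_of_dvd_index_hallCore m r hr hri
  have h2 := coprime_card_hallCore (G := G) m hm hcd
  exact (Nat.Prime.coprime_iff_not_dvd hr).mp
    ((Nat.Coprime.coprime_dvd_right h1 h2).symm.coprime_dvd_right (dvd_refl _)) hrO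

theorem hallCore_comm (m : ℕ) (hm : m ≠ 0)
    (hcd : ∀ χ : IrrCharacter G, charDegree (χ : G → ℂ) = 1 ∨ charDegree (χ : G → ℂ) = m) :
    ∀ a b : hallCore G m, a * b = b * a := by
  classical
  have := Fintype.ofFinite G
  have := Fintype.ofFinite (hallCore G m)
  haveI := hallCore_normal (G := G) m
  apply comm_of_forall_irr_one
  intro ψ
  obtain ⟨χ, hχ, hc⟩ := Cfsg.Agent.S0855.exists_irr_over (hallCore G m) ψ.1 ψ.2
  have hd := Cfsg.Agent.S0855.degree_dvd_of_over (hallCore G m) χ hχ ψ.1 ψ.2 hc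
    (charDegree χ) (charDegree ψ.1) (apply_one_eq_charDegree χ hχ)
    (apply_one_eq_charDegree ψ.1 ψ.2)
  have h2 : charDegree ψ.1 ∣ Nat.card (hallCore G m) := charDegree_dvd_card ψ.1 ψ.2
  have h3 : charDegree ψ.1 ∣ m := by
    rcases hcd ⟨χ, hχ⟩ with h | h
    · rw [show charDegree χ = 1 from h] at hd
      exact dvd_trans hd (one_dvd m)
    · rw [show charDegree χ = m from h] at hd
      exact hd
  have h4 : charDegree ψ.1 = 1 :=
    Nat.eq_one_of_dvd_coprimes (coprime_card_hallCore m hm hcd) h2 h3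
  rw [apply_one_eq_charDegree ψ.1 ψ.2, h4, Nat.cast_one]

end HallCore

section Trick

variable {G : Type*} [Group G] [Fintype G]

/-- If `cd(G) = {1, m}` then every subgroup of index `m` contains the commutator subgroup. -/
theorem commutator_le_of_index_eq (m : ℕ) (hm1 : m ≠ 1)
    (hcd : ∀ χ : IrrCharacter G, charDegree (χ : G → ℂ) = 1 ∨ charDegree (χ : G → ℂ) = m)
    (H : Subgroup G) (hH : H.index = m) : commutator G ≤ H := by
  classical
  have := Fintype.ofFinite H
  set Φ : G → ℂ := Cfsg.indFun H (1 : H → ℂ) with hΦ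
  have hΦc : IsCharacter G Φ := isCharacter_indFun H (isCharacter_of_irr isIrrCharacter_one)
  have hΦ1 : Φ 1 = (m : ℂ) := by rw [hΦ, indFun_one', hH]; simp
  obtain ⟨l, hl, hsum⟩ := isCharacter_exists_irr_decomp hΦc
  have h1G : IsIrrCharacter G (1 : G → ℂ) := isIrrCharacter_one
  have h1H : IsIrrCharacter H (1 : H → ℂ) := isIrrCharacter_one
  have hcount : Cfsg.classInner Φ (1 : G → ℂ) = 1 := by
    rw [hΦ, frobenius_reciprocity H _ _ (isClassFunction_of_isCharacter (isCharacter_of_irr h1G))]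
    have := irr_orthonormal (⟨1, h1H⟩ : IrrCharacter H) ⟨1, h1H⟩
    rw [if_pos rfl] at this
    exact this
  have hmem : (1 : G → ℂ) ∈ l := by
    have h := classInner_irr_list_sum hl h1G
    rw [← hsum, hcount] at h
    have h2 : l.count (1 : G → ℂ) = 1 := by exact_mod_cast h.symm
    exact List.count_pos_iff.mp (by omega)
  -- all members of `l` are linear
  have hlin : ∀ ψ ∈ l, ψ 1 = 1 := by
    intro ψ hψ
    by_cases hψ1 : ψ = 1
    · rw [hψ1]; rfl
    · have hmem' : ψ ∈ l.erase 1 := (List.mem_erase_of_ne hψ1).mpr hψ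
      obtain ⟨d, hd, hle⟩ := list_degree_le (l.erase 1)
        (fun φ hφ => hl φ (List.mem_of_mem_erase hφ))
      have hs : (1 : G → ℂ) + (l.erase 1).sum = l.sum := List.sum_erase hmem
      have hs1 : (1 : ℂ) + (d : ℂ) = (m : ℂ) := by
        rw [← hΦ1, hsum, ← hs, Pi.add_apply, hd]
        rfl
      have hdm : 1 + d = m := by exact_mod_cast hs1
      obtain ⟨n, hn, hnd⟩ := hle ψ hmem'
      have hdeg : charDegree ψ = n := charDegree_eq_of_apply_one hn
      rcases hcd ⟨ψ, hl ψ hψ⟩ with h | h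
      · rw [hn, ← hdeg]
        have : charDegree ψ = 1 := h
        rw [this, Nat.cast_one]
      · exfalso
        have : charDegree ψ = m := h
        omega
  intro g hg
  -- `Φ g = Φ 1`
  have hΦg : Φ g = (m : ℂ) := by
    rw [← hΦ1, hsum, list_sum_apply, list_sum_apply]
    congr 1
    apply List.map_congr_left
    intro ψ hψ
    have hψc := isCharacter_of_irr (hl ψ hψ)
    have h1 := hlin ψ hψ
    have h2 := hom_apply_eq_one_of_mem_commutator (linearCharHom hψc h1) hg
    have h3 : ψ g = 1 := by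
      have := congrArg Units.val h2
      rw [linearCharHom_apply] at this
      exact this
    rw [h3, h1]
  -- count
  by_contra hgH
  have hval : ∀ x : G, Cfsg.extendByZero H (1 : H → ℂ) (x⁻¹ * g * x) =
      if x⁻¹ * g * x ∈ H then 1 else 0 := by
    intro x
    by_cases hx : x⁻¹ * g * x ∈ H
    · rw [if_pos hx, extendByZero_apply_of_mem H _ hx]; rfl
    · rw [if_neg hx, extendByZero_apply_not_mem H _ hx]
  rw [hΦ, indFun_apply, Finset.sum_congr rfl (fun x _ => hval x), Finset.sum_boole] at hΦg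
  have hHne : (Nat.card H : ℂ) ≠ 0 := by exact_mod_cast (Nat.card_pos (α := H)).ne'
  have h5 : ((Finset.univ.filter (fun x : G => x⁻¹ * g * x ∈ H)).card : ℂ) =
      (Nat.card H : ℂ) * (m : ℂ) := by
    rw [← hΦg, ← mul_assoc, mul_inv_cancel₀ hHne, one_mul]
  have h6 : (Finset.univ.filter (fun x : G => x⁻¹ * g * x ∈ H)).card = Nat.card G := by
    have : ((Finset.univ.filter (fun x : G => x⁻¹ * g * x ∈ H)).card : ℂ) =
        ((Nat.card G : ℕ) : ℂ) := by
      rw [h5, ← H.card_mul_index, hH]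
      push_cast
      rfl
    exact_mod_cast this
  rw [Nat.card_eq_fintype_card, ← Finset.card_univ] at h6
  have h7 := (Finset.card_eq_iff_eq_univ _).mp h6
  have h8 : (1 : G) ∈ Finset.univ.filter (fun x : G => x⁻¹ * g * x ∈ H) := by
    rw [h7]; exact Finset.mem_univ _
  have h9 := (Finset.mem_filter.mp h8).2
  simp only [inv_one, one_mul, mul_one] at h9
  exact hgH h9

end Trick

section InertiaIndex

variable {G : Type*} [Group G] [Fintype G]

/-- For `cd(G) = {1, m}` and a normal Hall subgroup `O`: the inertia group `T` of a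
non-invariant linear character of `O` has index `m` and `T/O` is abelian. -/
theorem inertia_index_eq (m : ℕ)
    (hcd : ∀ χ : IrrCharacter G, charDegree (χ : G → ℂ) = 1 ∨ charDegree (χ : G → ℂ) = m)
    (O : Subgroup G) [hO : O.Normal] [Fintype O]
    (hcop : (Nat.card O).Coprime O.index) (f : O →* ℂˣ)
    (hT : Cfsg.Agent.Lib.H23.inertia O (homToFun O f) ≠ ⊤) :
    (Cfsg.Agent.Lib.H23.inertia O (homToFun O f)).index = m ∧
      commutator ↥(Cfsg.Agent.Lib.H23.inertia O (homToFun O f)) ≤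
        O.subgroupOf (Cfsg.Agent.Lib.H23.inertia O (homToFun O f)) := by
  classical
  set lam : O → ℂ := homToFun O f with hlam
  have hlamirr : IsIrrCharacter O lam := isIrrCharacter_of_hom f
  set T : Subgroup G := Cfsg.Agent.Lib.H23.inertia O lam with hTdef
  have hOT : O ≤ T := le_inertia O (isClassFunction_of_isCharacter (isCharacter_of_irr hlamirr))
  have : Fintype T := Fintype.ofFinite _
  have hKn : (O.subgroupOf T).Normal := Subgroup.normal_subgroupOf
  set e : O.subgroupOf T ≃* O := Subgroup.subgroupOfEquivOfLe hOT with he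
  set f' : O.subgroupOf T →* ℂˣ := f.comp e.toMonoidHom with hf'
  -- order of `f'`
  have hord : orderOf f' ∣ Nat.card O := by
    apply orderOf_dvd_of_pow_eq_one
    ext k
    rw [MonoidHom.pow_apply, ← map_pow, ← Nat.card_congr e.toEquiv, pow_card_eq_one', map_one,
      MonoidHom.one_apply]
  have hidx : (O.subgroupOf T).index ∣ O.index := Subgroup.relIndex_dvd_index_of_normal O T
  have hcop' : Nat.Coprime (O.subgroupOf T).index (orderOf f') :=
    (Nat.Coprime.coprime_dvd_left hord (Nat.Coprime.coprime_dvd_right hidx hcop)).symm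
  have hinv' : ∀ (t : T) (k : O.subgroupOf T),
      f' ⟨t * k * t⁻¹, hKn.conj_mem (k : T) k.2 t⟩ = f' k := by
    intro t k
    have h1 := (Cfsg.Agent.Lib.H23.mem_inertia O lam (t : G)).mp t.2 (e k)
    apply Units.ext
    exact h1
  obtain ⟨M, hMK, -, -⟩ := exists_unique_hom_extension (O.subgroupOf T) f' hinv' hcop'
  have hMres : ∀ n : O, M ⟨(n : G), hOT n.2⟩ = f n := by
    intro n
    have h1 := hMK ⟨⟨(n : G), hOT n.2⟩, Subgroup.mem_subgroupOf.mpr n.2⟩
    rw [h1]
    rfl
  have hlamself : Cfsg.classInner lam lam = 1 := by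
    have := irr_orthonormal (⟨lam, hlamirr⟩ : IrrCharacter O) ⟨lam, hlamirr⟩
    rw [if_pos rfl] at this
    exact this
  -- general statement about characters over `lam`
  have key : ∀ (ψ : T → ℂ), IsIrrCharacter T ψ → (b : ℕ) → b ≠ 0 → ψ 1 = b →
      (∀ n : O, ψ ⟨(n : G), hOT n.2⟩ = (b : ℂ) * lam n) →
      T.index * b = 1 ∨ T.index * b = m := by
    intro ψ hψ b hb0 hψ1 hψres
    have hres : resTo O T hOT ψ = (b : ℂ) • lam := by
      funext n
      rw [Pi.smul_apply, smul_eq_mul]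
      exact hψres n
    have hf : Cfsg.classInner (resTo O T hOT ψ) lam ≠ 0 := by
      rw [hres, classInner_smul_left, hlamself, mul_one]
      exact Nat.cast_ne_zero.mpr hb0
    obtain ⟨hirr, -⟩ := isIrrCharacter_indFun_inertia O T hOT lam hlamirr (fun g => Iff.rfl) ψ hψ hf
    have hdeg : Cfsg.indFun T ψ 1 = ((T.index * b : ℕ) : ℂ) := by
      rw [indFun_one', hψ1]; push_cast; rfl
    have hcd' := hcd ⟨_, hirr⟩
    rw [show charDegree ((⟨_, hirr⟩ : IrrCharacter G) : G → ℂ) = T.index * b from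
      charDegree_eq_of_apply_one hdeg] at hcd'
    exact hcd'
  have hTidx1 : T.index ≠ 1 := fun h => hT (Subgroup.index_eq_one.mp h)
  -- the extension itself
  have hidxm : T.index = m := by
    have h := key (fun t => (M t : ℂ)) (isIrrCharacter_of_hom M) 1 one_ne_zero
      (by simp) (fun n => by rw [hMres n]; simp [hlam, homToFun_apply])
    rw [mul_one] at h
    rcases h with h | h
    · exact absurd h hTidx1
    · exact h
  refine ⟨hidxm, ?_⟩
  apply commutator_le_of_quotient_linear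
  intro β
  have hβirr : IsIrrCharacter T ((β : _ → ℂ) ∘ (QuotientGroup.mk' (O.subgroupOf T))) :=
    isIrrCharacter_comp_of_surjective _ (QuotientGroup.mk'_surjective _) β.2
  have hξ := isIrrCharacter_mul_hom _ hβirr M
  obtain ⟨b, hb0, hb⟩ := irr_one_eq β
  have h := key _ hξ b hb0.ne' (by
      simp only [Function.comp_apply, map_one, Units.val_one, mul_one]
      exact hb) (fun n => by
      simp only [Function.comp_apply]
      rw [hMres n]
      have h1 : (QuotientGroup.mk' (O.subgroupOf T)) ⟨(n : G), hOT n.2⟩ = 1 := by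
        rw [QuotientGroup.mk'_apply, QuotientGroup.eq_one_iff]
        exact Subgroup.mem_subgroupOf.mpr n.2
      rw [h1, hb]
      rfl)
  rw [hidxm] at h
  have hm0 : m ≠ 0 := by
    rw [← hidxm]; exact Subgroup.index_ne_zero_of_finite
  have hm1 : m ≠ 1 := by rw [← hidxm]; exact hTidx1
  have hb1 : b = 1 := by
    rcases h with h | h
    · exfalso
      exact hm1 (Nat.eq_one_of_mul_eq_one_right h)
    · have : m * b = m * 1 := by rw [h, mul_one]
      exact Nat.eq_of_mul_eq_mul_left (Nat.pos_of_ne_zero hm0) this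
  rw [hb, hb1, Nat.cast_one]

end InertiaIndex

section Fitting

variable {G : Type*} [Group G] [Finite G]

/-- Fitting decomposition for an abelian normal Hall subgroup `O` and `O ≤ T`:
`O = C_O(T) × [O, T]`. -/
theorem fitting_decomp (O T : Subgroup G) [hO : O.Normal] (hOT : O ≤ T)
    (hab : ∀ a ∈ O, ∀ b ∈ O, a * b = b * a)
    (hcop : (Nat.card O).Coprime O.index) :
    (O ⊓ Subgroup.centralizer (T : Set G)) ⊔ ⁅O, T⁆ = O ∧
    (O ⊓ Subgroup.centralizer (T : Set G)) ⊓ ⁅O, T⁆ = ⊥ := by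
  obtain ⟨H₀, hH₀⟩ := Subgroup.exists_right_complement'_of_coprime hcop
  set R : Subgroup G := H₀ ⊓ T with hR
  have hRT : R ≤ T := inf_le_right
  have hcardH₀ : O.index = Nat.card H₀ := hH₀.symm.index_eq_card
  have hRcop : (Nat.card R).Coprime (Nat.card O) := by
    have h1 : Nat.card R ∣ Nat.card H₀ := Subgroup.card_dvd_of_le inf_le_left
    rw [← hcardH₀] at h1
    exact (Nat.Coprime.coprime_dvd_right h1 hcop).symm
  have hfactor : ∀ t ∈ T, ∃ o ∈ O, ∃ r ∈ R, t = o * r := by
    intro t ht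
    obtain ⟨⟨o, h⟩, hoh⟩ := hH₀.2 t
    have hoh' : (o : G) * (h : G) = t := hoh
    refine ⟨o, o.2, h, ⟨h.2, ?_⟩, hoh'.symm⟩
    have : (h : G) = (o : G)⁻¹ * t := by rw [← hoh']; group
    rw [this]
    exact T.mul_mem (T.inv_mem (hOT o.2)) ht
  haveI : IsMulCommutative O := ⟨⟨fun a b => Subtype.ext (hab a a.2 b b.2)⟩⟩
  have hRnorm : R ≤ Subgroup.normalizer (O : Set G) := by
    rw [Subgroup.normalizer_eq_top]
    exact le_top
  have hca : Cfsg.Agent.Lib.H1.CoprimeAction R O :=
    ⟨hRnorm, hRcop, Or.inr (isSolvable_of_comm (fun a b : O => Subtype.ext (hab a a.2 b b.2)))⟩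
  have h1 := Cfsg.Agent.Lib.H1.coprime_commutator_sup_centralizer hca
  have h2 := Cfsg.Agent.Lib.H1.coprime_abelian_centralizer_inf_commutator hRnorm hRcop
  have hC : O ⊓ Subgroup.centralizer (R : Set G) = O ⊓ Subgroup.centralizer (T : Set G) := by
    apply le_antisymm
    · intro x hx
      refine ⟨hx.1, ?_⟩
      show x ∈ Subgroup.centralizer (T : Set G)
      rw [Subgroup.mem_centralizer_iff]
      intro t ht
      obtain ⟨o, ho, r, hr, rfl⟩ := hfactor t ht
      have h3 : r * x = x * r := (Subgroup.mem_centralizer_iff.mp hx.2) r hr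
      have h4 : o * x = x * o := hab o ho x hx.1
      rw [mul_assoc, h3, ← mul_assoc, h4, mul_assoc]
    · exact inf_le_inf_left _ (Subgroup.centralizer_le hRT)
  have hM : ⁅O, R⁆ = ⁅O, T⁆ := by
    apply le_antisymm
    · exact Subgroup.commutator_mono le_rfl hRT
    · rw [Subgroup.commutator_le]
      intro n hn t ht
      obtain ⟨o, ho, r, hr, rfl⟩ := hfactor t ht
      have hnr : ⁅n, r⁆ ∈ O := by
        rw [commutatorElement_def]
        have : n * r * n⁻¹ * r⁻¹ = n * (r * n⁻¹ * r⁻¹) := by group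
        rw [this]
        exact O.mul_mem hn (hO.conj_mem _ (O.inv_mem hn) r)
      have h5 : ⁅n, o * r⁆ = o * ⁅n, r⁆ * o⁻¹ := by
        rw [commutatorElement_def, commutatorElement_def]
        have h6 : n * o = o * n := hab n hn o ho
        calc n * (o * r) * n⁻¹ * (o * r)⁻¹ = (n * o) * r * n⁻¹ * r⁻¹ * o⁻¹ := by group
          _ = (o * n) * r * n⁻¹ * r⁻¹ * o⁻¹ := by rw [h6]
          _ = o * (n * r * n⁻¹ * r⁻¹) * o⁻¹ := by group
      have h7 : o * ⁅n, r⁆ * o⁻¹ = ⁅n, r⁆ := by
        rw [hab o ho _ hnr, mul_assoc, mul_inv_cancel, mul_one]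
      rw [h5, h7]
      exact Subgroup.commutator_mem_commutator hn hr
  rw [hC, hM] at h1 h2
  refine ⟨?_, h2⟩
  rw [sup_comm]
  exact h1

end Fitting

section Centralizes

variable {G : Type*} [Group G] [Fintype G]

omit [Fintype G] in
/-- A homomorphism of the normal subgroup `O` invariant under `S` is trivial on `[O, S]`. -/
theorem hom_eq_one_of_mem_commutator (O S : Subgroup G) [hO : O.Normal] (h : O →* ℂˣ)
    (hinv : ∀ t ∈ S, ∀ n : O, h ⟨t * n * t⁻¹, hO.conj_mem (n : G) n.2 t⟩ = h n) :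
    ∀ y ∈ ⁅O, S⁆, ∀ hy : y ∈ O, h ⟨y, hy⟩ = 1 := by
  have hle : ⁅O, S⁆ ≤ (h.ker).map O.subtype := by
    rw [Subgroup.commutator_le]
    intro n hn t ht
    have hmem : t * n⁻¹ * t⁻¹ ∈ O := hO.conj_mem _ (O.inv_mem hn) t
    refine ⟨⟨n, hn⟩ * ⟨t * n⁻¹ * t⁻¹, hmem⟩, ?_, ?_⟩
    · rw [SetLike.mem_coe, MonoidHom.mem_ker, map_mul]
      have h1 := hinv t ht ⟨n⁻¹, O.inv_mem hn⟩
      rw [h1, ← map_mul]
      have : (⟨n, hn⟩ : O) * ⟨n⁻¹, O.inv_mem hn⟩ = 1 := Subtype.ext (mul_inv_cancel n)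
      rw [this, map_one]
    · show n * (t * n⁻¹ * t⁻¹) = ⁅n, t⁆
      rw [commutatorElement_def]; group
  intro y hy hyO
  obtain ⟨z, hz, hzy⟩ := hle hy
  have : z = ⟨y, hyO⟩ := Subtype.ext hzy
  rw [← this]
  exact hz

/-- For `cd(G) = {1, m}` and an abelian normal Hall subgroup `O`, the inertia group of a
non-invariant linear character of `O` centralizes `O`. -/
theorem inertia_centralizes (m : ℕ) (hm1 : m ≠ 1)
    (hcd : ∀ χ : IrrCharacter G, charDegree (χ : G → ℂ) = 1 ∨ charDegree (χ : G → ℂ) = m)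
    (O : Subgroup G) [hO : O.Normal] [Fintype O]
    (hab : ∀ a ∈ O, ∀ b ∈ O, a * b = b * a)
    (hcop : (Nat.card O).Coprime O.index) (f : O →* ℂˣ)
    (hT : Cfsg.Agent.Lib.H23.inertia O (homToFun O f) ≠ ⊤) :
    ∀ t ∈ Cfsg.Agent.Lib.H23.inertia O (homToFun O f), ∀ n ∈ O, t * n = n * t := by
  classical
  set T : Subgroup G := Cfsg.Agent.Lib.H23.inertia O (homToFun O f) with hTdef
  obtain ⟨hidx, -⟩ := inertia_index_eq m hcd O hcop f hT
  have hOT : O ≤ T := le_inertia O (isClassFunction_of_isCharacter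
    (isCharacter_of_irr (isIrrCharacter_of_hom f)))
  have hG'T : commutator G ≤ T := commutator_le_of_index_eq m hm1 hcd T hidx
  haveI hTn : T.Normal := normal_of_commutator_le' hG'T
  obtain ⟨hCM1, hCM2⟩ := fitting_decomp O T hOT hab hcop
  set C : Subgroup G := O ⊓ Subgroup.centralizer (T : Set G) with hC
  set M : Subgroup G := ⁅O, T⁆ with hM
  have hCn : C.Normal := Subgroup.normal_inf_normal _ _
  have hMn : M.Normal := Subgroup.commutator_normal O T
  have hMO : M ≤ O := Subgroup.commutator_le_left O T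
  have hfT : ∀ t ∈ T, ∀ n : O, f ⟨t * n * t⁻¹, hO.conj_mem (n : G) n.2 t⟩ = f n := by
    intro t ht n
    apply Units.ext
    exact (Cfsg.Agent.Lib.H23.mem_inertia O (homToFun O f) t).mp ht n
  have hfM := hom_eq_one_of_mem_commutator O T f hfT
  suffices hMbot : M = ⊥ by
    intro t ht n hn
    have h1 : ⁅n, t⁆ ∈ M := Subgroup.commutator_mem_commutator hn ht
    rw [hMbot, Subgroup.mem_bot, commutatorElement_eq_one_iff_mul_comm] at h1
    exact h1.symm
  by_contra hMne
  obtain ⟨⟨x, hxM⟩, hx1⟩ := (Subgroup.ne_bot_iff_exists_ne_one).mp hMne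
  have hx1' : x ≠ 1 := fun h => hx1 (Subtype.ext h)
  have hxO : x ∈ O := hMO hxM
  have hxC : x ∉ C := by
    intro hxC
    have : x ∈ C ⊓ M := ⟨hxC, hxM⟩
    rw [hCM2, Subgroup.mem_bot] at this
    exact hx1' this
  -- a character trivial on `C` and non-trivial at `x`
  haveI hCsn : (C.subgroupOf O).Normal := Subgroup.normal_subgroupOf
  have hQab : ∀ a b : O ⧸ C.subgroupOf O, a * b = b * a := by
    intro a b
    obtain ⟨a, rfl⟩ := QuotientGroup.mk_surjective a
    obtain ⟨b, rfl⟩ := QuotientGroup.mk_surjective b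
    rw [← QuotientGroup.mk_mul, ← QuotientGroup.mk_mul]
    congr 1
    exact Subtype.ext (hab a a.2 b b.2)
  have hxbar : (QuotientGroup.mk (⟨x, hxO⟩ : O) : O ⧸ C.subgroupOf O) ≠ 1 := by
    intro h
    rw [QuotientGroup.eq_one_iff] at h
    exact hxC (Subgroup.mem_subgroupOf.mp h)
  obtain ⟨β, hβ⟩ := exists_irr_ne_of_ne hQab hxbar
  have hβ1 : (β : O ⧸ C.subgroupOf O → ℂ) 1 = 1 := irr_apply_one_of_comm hQab β
  set g₀ : O ⧸ C.subgroupOf O →* ℂˣ := linearCharHom (isCharacter_of_irr β.2) hβ1 with hg₀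
  set g : O →* ℂˣ := g₀.comp (QuotientGroup.mk' (C.subgroupOf O)) with hg
  have hgC : ∀ c : O, (c : G) ∈ C → g c = 1 := by
    intro c hc
    rw [hg, MonoidHom.comp_apply]
    have : (QuotientGroup.mk' (C.subgroupOf O)) c = 1 := by
      rw [QuotientGroup.mk'_apply, QuotientGroup.eq_one_iff]
      exact Subgroup.mem_subgroupOf.mpr hc
    rw [this, map_one]
  have hgx : g ⟨x, hxO⟩ ≠ 1 := by
    intro h
    apply hβ
    rw [hβ1]
    have h2 := congrArg Units.val h
    rw [hg, MonoidHom.comp_apply, hg₀, linearCharHom_apply] at h2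
    exact h2
  -- the inertia group of `f * g`
  set T' : Subgroup G := Cfsg.Agent.Lib.H23.inertia O (homToFun O (f * g)) with hT'def
  have hνinv : ∀ a ∈ T', ∀ n : O, (f * g) ⟨a * n * a⁻¹, hO.conj_mem (n : G) n.2 a⟩ = (f * g) n := by
    intro a ha n
    apply Units.ext
    exact (Cfsg.Agent.Lib.H23.mem_inertia O (homToFun O (f * g)) a).mp ha n
  have hT'T : T' ≤ T := by
    intro a ha
    rw [hTdef, Cfsg.Agent.Lib.H23.mem_inertia]
    intro n
    show ((f ⟨a * n * a⁻¹, _⟩ : ℂˣ) : ℂ) = ((f n : ℂˣ) : ℂ)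
    congr 1
    have hn : (n : G) ∈ C ⊔ M := by rw [hCM1]; exact n.2
    obtain ⟨c, hc, y, hy, hcy⟩ := Subgroup.mem_sup_of_normal_right.mp hn
    have hcO : c ∈ O := hc.1
    have hyO : y ∈ O := hMO hy
    have hacO : a * c * a⁻¹ ∈ O := hO.conj_mem c hcO a
    have hayO : a * y * a⁻¹ ∈ O := hO.conj_mem y hyO a
    have hacC : a * c * a⁻¹ ∈ C := hCn.conj_mem c hc a
    have hayM : a * y * a⁻¹ ∈ M := hMn.conj_mem y hy a
    have e1 : (⟨a * n * a⁻¹, hO.conj_mem (n : G) n.2 a⟩ : O) =
        ⟨a * c * a⁻¹, hacO⟩ * ⟨a * y * a⁻¹, hayO⟩ := by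
      apply Subtype.ext
      show a * (n : G) * a⁻¹ = a * c * a⁻¹ * (a * y * a⁻¹)
      rw [← hcy]; group
    have e2 : n = ⟨c, hcO⟩ * ⟨y, hyO⟩ := Subtype.ext hcy.symm
    rw [e1, e2, map_mul, map_mul, hfM _ hayM hayO, hfM _ hy hyO, mul_one, mul_one]
    have h3 := hνinv a ha ⟨c, hcO⟩
    rw [MonoidHom.mul_apply, MonoidHom.mul_apply, hgC ⟨c, hcO⟩ hc, mul_one] at h3
    have h4 : g ⟨a * c * a⁻¹, hacO⟩ = 1 := hgC _ hacC
    have h5 : (⟨a * (⟨c, hcO⟩ : O) * a⁻¹, hO.conj_mem _ (⟨c, hcO⟩ : O).2 a⟩ : O) =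
        ⟨a * c * a⁻¹, hacO⟩ := rfl
    rw [h5, h4, mul_one] at h3
    exact h3
  have hT'ne : T' ≠ ⊤ := fun h => hT (top_le_iff.mp (h ▸ hT'T))
  obtain ⟨hidx', -⟩ := inertia_index_eq m hcd O hcop (f * g) hT'ne
  have hTT' : T ≤ T' := by
    have h1 : Nat.card T' * m = Nat.card T * m := by
      rw [← hidx', Subgroup.card_mul_index]
      rw [hidx', ← hidx, Subgroup.card_mul_index]
    have hm0 : 0 < m := by
      rw [← hidx]; exact Nat.pos_of_ne_zero Subgroup.index_ne_zero_of_finite
    have h2 : Nat.card T' = Nat.card T := Nat.eq_of_mul_eq_mul_right hm0 h1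
    have h3 : T' = T := Subgroup.eq_of_le_of_card_ge hT'T (le_of_eq h2.symm)
    rw [h3]
  -- `T` fixes `g`
  have hgT : ∀ t ∈ T, ∀ n : O, g ⟨t * n * t⁻¹, hO.conj_mem (n : G) n.2 t⟩ = g n := by
    intro t ht n
    have h1 := hνinv t (hTT' ht) n
    rw [MonoidHom.mul_apply, MonoidHom.mul_apply, hfT t ht n] at h1
    exact mul_left_cancel h1
  exact hgx (hom_eq_one_of_mem_commutator O T g hgT x hxM hxO)

end Centralizes

end Cfsg.Agent.Lib.H24
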