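import Cfsg.Agent.Lib.H24.CharDefl

/-!
# Codegrees of irreducible characters (helper24's library)

* `codeg χ` : `|G : ker χ| / χ(1)`.
* `stmt_codeg_eq` : the expression `|G| / (|ker χ| * χ(1))` used in statements equals `codeg χ`.
* `codeg_dvd_card`, `exists_dvd_codeg` : a prime divides `|G|` iff it divides some codegree.
-/

set_option autoImplicit false

universe u

namespace Cfsg.Agent.Lib.H24

open scoped ComplexConjugate
open Cfsg Cfsg.Agent.Lib.L0 Cfsg.Agent.Lib.H23

section codeg

variable {G : Type u} [Group G] [Finite G]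

/-- The kernel of an irreducible character. -/
abbrev irrKer (χ : IrrCharacter G) : Subgroup G := charKer (χ : G → ℂ) (isCharacter_of_irr χ.2)

/-- The codegree of an irreducible character. -/
noncomputable def codeg (χ : IrrCharacter G) : ℕ := (irrKer χ).index / charDegree (χ : G → ℂ)

theorem codeg_mul (χ : IrrCharacter G) :
    codeg χ * charDegree (χ : G → ℂ) = (irrKer χ).index :=
  Nat.div_mul_cancel (charDegree_dvd_index_charKer χ)

theorem codeg_dvd_card (χ : IrrCharacter G) : codeg χ ∣ Nat.card G :=
  (Dvd.intro _ (codeg_mul χ)).trans (Subgroup.index_dvd_card _)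

theorem card_ker_eq (χ : IrrCharacter G) :
    Nat.card {g : G // (χ : G → ℂ) g = (χ : G → ℂ) 1} = Nat.card (irrKer χ) := rfl

theorem stmt_codeg_eq (χ : IrrCharacter G) :
    Nat.card G / (Nat.card {g : G // (χ : G → ℂ) g = (χ : G → ℂ) 1} * charDegree (χ : G → ℂ)) =
      codeg χ := by
  rw [card_ker_eq, ← Subgroup.index_mul_card (irrKer χ), mul_comm (Nat.card (irrKer χ)),
    Nat.mul_div_mul_right _ _ Nat.card_pos]
  rfl

theorem codeg_inflIrr (N : Subgroup G) [N.Normal] (ψ : IrrCharacter (G ⧸ N)) :
    codeg (inflIrr N ψ) = codeg ψ := by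
  unfold codeg
  rw [charDegree_inflIrr]
  congr 1
  exact index_charKer_inflIrr N ψ

end codeg

/-- If `p` divides `|G|` then `p` divides the codegree of some irreducible character. -/
theorem exists_dvd_codeg_aux : ∀ (n : ℕ) (G : Type u) [Group G] [Finite G], Nat.card G = n →
    ∀ p : ℕ, p.Prime → p ∣ n → ∃ χ : IrrCharacter G, p ∣ codeg χ := by
  intro n
  induction n using Nat.strong_induction_on with
  | _ n ih =>
  intro G _ _ hn p hp hpn
  classical
  have := Fintype.ofFinite G
  have := Fintype.ofFinite (IrrCharacter G)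
  by_cases hA : ∃ N : Subgroup G, N.Normal ∧ N ≠ ⊥ ∧ p ∣ N.index
  · obtain ⟨N, hN, hN1, hpN⟩ := hA
    haveI := hN
    have hlt : N.index < n := by
      rw [← hn, ← Subgroup.index_mul_card N]
      have h1 : 1 < Nat.card N := by
        rw [Finite.one_lt_card_iff_nontrivial]
        exact (Subgroup.nontrivial_iff_ne_bot N).mpr hN1
      have h2 : 0 < N.index := Nat.pos_of_ne_zero (Subgroup.index_ne_zero_of_finite)
      calc N.index = N.index * 1 := (mul_one _).symm
        _ < N.index * Nat.card N := Nat.mul_lt_mul_of_pos_left h1 h2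
    obtain ⟨ψ, hψ⟩ := ih N.index hlt (G ⧸ N) (Subgroup.index_eq_card N).symm p hp hpN
    exact ⟨inflIrr N ψ, by rw [codeg_inflIrr]; exact hψ⟩
  · push Not at hA
    by_contra hcon
    push Not at hcon
    -- a minimal normal subgroup
    have hG1 : Nat.card G ≠ 1 := by
      rw [hn]
      intro h1
      rw [h1] at hpn
      exact hp.one_lt.ne' (Nat.dvd_one.mp hpn)
    have htop : (⊤ : Subgroup G) ≠ ⊥ := by
      intro h
      apply hG1
      rw [← Subgroup.card_top (G := G), h, Subgroup.card_bot]
    obtain ⟨N, ⟨hN, hN1⟩, hNmin⟩ := exists_minimal_of_wellFoundedLT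
      (fun N : Subgroup G => N.Normal ∧ N ≠ ⊥) ⟨⊤, inferInstance, htop⟩
    haveI := hN
    have huniq : ∀ M : Subgroup G, M.Normal → M ≠ ⊥ → N ≤ M := by
      intro M hM hM1
      haveI := hM
      by_cases hMN : M ⊓ N = ⊥
      · exfalso
        let f : G →* (G ⧸ M) × (G ⧸ N) := (QuotientGroup.mk' M).prod (QuotientGroup.mk' N)
        have hker : f.ker = ⊥ := by
          rw [MonoidHom.ker_prod, QuotientGroup.ker_mk', QuotientGroup.ker_mk', hMN]
        have hinj : Function.Injective f := (MonoidHom.ker_eq_bot_iff f).mp hker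
        have hdvd := Subgroup.card_dvd_of_injective f hinj
        rw [Nat.card_prod, ← Subgroup.index_eq_card, ← Subgroup.index_eq_card, hn] at hdvd
        rcases (Nat.Prime.dvd_mul hp).mp (hpn.trans hdvd) with h | h
        · exact hA M hM hM1 h
        · exact hA N hN hN1 h
      · have hMNn : (M ⊓ N).Normal := inferInstance
        have := hNmin ⟨hMNn, hMN⟩ inf_le_right
        exact this.trans inf_le_left
    -- characters not containing N in the kernel are faithful and have degree divisible by p
    have hdeg : ∀ χ : IrrCharacter G, ¬ (∀ m ∈ N, (χ : G → ℂ) m = (χ : G → ℂ) 1) →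
        p ∣ (charDegree (χ : G → ℂ)) ^ 2 := by
      intro χ hχ
      have hker : irrKer χ = ⊥ := by
        by_contra hne
        apply hχ
        intro m hm
        exact huniq (irrKer χ) inferInstance hne hm
      have h1 := codeg_mul χ
      rw [hker, Subgroup.index_bot, hn] at h1
      rw [← h1] at hpn
      rcases (Nat.Prime.dvd_mul hp).mp hpn with h | h
      · exact absurd h (hcon χ)
      · exact Dvd.dvd.pow h (by norm_num)
    have hsum : ∑ χ : IrrCharacter G, (charDegree (χ : G → ℂ)) ^ 2 = Nat.card G := by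
      have h := sum_irr_one_sq (G := G)
      have h' : ((∑ χ : IrrCharacter G, (charDegree (χ : G → ℂ)) ^ 2 : ℕ) : ℂ) =
          (Nat.card G : ℂ) := by
        rw [← h]
        push_cast
        refine Finset.sum_congr rfl (fun χ _ => ?_)
        rw [apply_one_eq_charDegree _ χ.2]
      exact_mod_cast h'
    rw [← Finset.sum_filter_add_sum_filter_not Finset.univ
      (fun χ : IrrCharacter G => ∀ m ∈ N, (χ : G → ℂ) m = (χ : G → ℂ) 1), sum_sq_of_le_ker N, hn]
      at hsum
    have h2 : p ∣ ∑ χ ∈ Finset.univ.filter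
        (fun χ : IrrCharacter G => ¬ ∀ m ∈ N, (χ : G → ℂ) m = (χ : G → ℂ) 1),
        (charDegree (χ : G → ℂ)) ^ 2 := by
      apply Finset.dvd_sum
      intro χ hχ
      exact hdeg χ (Finset.mem_filter.mp hχ).2
    have h3 : p ∣ N.index := by
      have := (Nat.dvd_add_left h2).mp (hsum ▸ hpn)
      exact this
    exact hA N hN hN1 h3

theorem exists_dvd_codeg {G : Type u} [Group G] [Finite G] (p : ℕ) (hp : p.Prime)
    (hpG : p ∣ Nat.card G) : ∃ χ : IrrCharacter G, p ∣ codeg χ :=
  exists_dvd_codeg_aux (Nat.card G) G rfl p hp hpG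

end Cfsg.Agent.Lib.H24
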