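import Mathlib
import Cfsg.Agent.Lib.H24.CentralExt
import Cfsg.Agent.Lib.L0.CharLinear
import Cfsg.Agent.Lib.L0.CharEquiv

/-!
# Extensions of an invariant character and linear characters of the central extension

In the central extension `Γ = extGroup N Y M` of `G` (see `CentralExt`), let `K` be the preimage
of `N`.  `extLam` is the linear character of `K` recording the scalar by which `x ∈ K` differs
from `Y (pr x)`.  Then `ϑ = Y.character` extends to a subgroup `P ⊇ N` of `G` iff `extLam` extends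
to the preimage of `P`:

* `exists_linear_of_extension` : an extension of `ϑ` to `P` gives a linear character of `pr⁻¹ P`
  extending `extLam`;
* `exists_extension_of_linear` : a linear character of `Γ` extending `extLam` gives a
  representation of `G` extending `Y`.
-/

set_option autoImplicit false

namespace Cfsg.Agent.Lib.H24

open Cfsg Cfsg.Agent.Lib.L0 Cfsg.Agent.Lib.H23

section aux

variable {V : Type*} [AddCommGroup V] [Module ℂ V]

/-- Scalars are determined by their action on an invertible endomorphism. -/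
theorem smul_unit_cancel [Nontrivial V] {B : Module.End ℂ V} (hB : IsUnit B) {c c' : ℂ}
    (h : c • B = c' • B) : c = c' := by
  obtain ⟨u, rfl⟩ := hB
  have h1 : (c - c') • (1 : Module.End ℂ V) = 0 := by
    have h2 : (c - c') • (u : Module.End ℂ V) = 0 := by rw [sub_smul, h, sub_self]
    have h3 := congrArg (fun T => T * ((u⁻¹ : (Module.End ℂ V)ˣ) : Module.End ℂ V)) h2
    simp only [smul_mul_assoc, Units.mul_inv, zero_mul] at h3
    exact h3
  by_contra hne
  have h2 : (c - c') ≠ 0 := sub_ne_zero.mpr hne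
  have h3 : (1 : Module.End ℂ V) = 0 := by
    have := congrArg (fun T => (c - c')⁻¹ • T) h1
    simpa [smul_smul, inv_mul_cancel₀ h2] using this
  exact one_ne_zero h3

theorem isUnit_rep {H : Type*} [Group H] (ρ : Representation ℂ H V) (h : H) : IsUnit (ρ h) :=
  ⟨⟨ρ h, ρ h⁻¹, by rw [← map_mul, mul_inv_cancel, map_one],
    by rw [← map_mul, inv_mul_cancel, map_one]⟩, rfl⟩

end aux

section lam

variable {G : Type*} [Group G] (N : Subgroup G) [hN : N.Normal] {V : Type*} [AddCommGroup V]
  [Module ℂ V] [FiniteDimensional ℂ V] (Y : Representation ℂ N V) (M : ℕ)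
  (hY : Y.IsIrreducible)

/-- The scalar by which an element of the extension lying over `N` differs from `Y`. -/
noncomputable def extLam (x : N.comap (extFst N Y M)) : ℂ :=
  Classical.choose (extRep_eq_smul_of_mem N Y M hY x.1 x.2)

theorem extLam_spec (x : N.comap (extFst N Y M)) :
    extRep N Y M x.1 = extLam N Y M hY x • Y ⟨extFst N Y M x.1, x.2⟩ :=
  Classical.choose_spec (extRep_eq_smul_of_mem N Y M hY x.1 x.2)

theorem extLam_eq (x : N.comap (extFst N Y M)) (c : ℂ)
    (hc : extRep N Y M x.1 = c • Y ⟨extFst N Y M x.1, x.2⟩) : extLam N Y M hY x = c := by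
  have := hY
  have hnt : Nontrivial V := nontrivial_of_isIrreducible Y
  have h := extLam_spec N Y M hY x
  rw [hc] at h
  exact (smul_unit_cancel (isUnit_rep Y _) h).symm

theorem extLam_one : extLam N Y M hY 1 = 1 := by
  apply extLam_eq
  rw [one_smul]
  show extRep N Y M 1 = Y ⟨extFst N Y M 1, _⟩
  rw [map_one]
  have : (⟨extFst N Y M 1, (1 : N.comap (extFst N Y M)).2⟩ : N) = 1 := Subtype.ext (map_one _)
  rw [this, map_one]

theorem extLam_mul (x y : N.comap (extFst N Y M)) :
    extLam N Y M hY (x * y) = extLam N Y M hY x * extLam N Y M hY y := by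
  apply extLam_eq
  show extRep N Y M (x.1 * y.1) = _
  rw [map_mul, extLam_spec N Y M hY x, extLam_spec N Y M hY y, smul_mul_smul_comm, ← map_mul]
  rfl

/-- `extLam` as a homomorphism to `ℂˣ`. -/
noncomputable def extLamHom : (N.comap (extFst N Y M)) →* ℂˣ :=
  MonoidHom.toHomUnits
    { toFun := extLam N Y M hY
      map_one' := extLam_one N Y M hY
      map_mul' := extLam_mul N Y M hY }

theorem extLamHom_apply (x : N.comap (extFst N Y M)) :
    (extLamHom N Y M hY x : ℂ) = extLam N Y M hY x := rfl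

theorem isCharacter_extLam : IsCharacter (N.comap (extFst N Y M)) (extLam N Y M hY) :=
  isCharacter_of_irr (isIrrCharacter_of_hom (extLamHom N Y M hY))

/-- `extLam` is invariant under the whole extension. -/
theorem extLam_conj (g : extGroup N Y M) (x : N.comap (extFst N Y M))
    (hmem : g * x.1 * g⁻¹ ∈ N.comap (extFst N Y M)) :
    extLam N Y M hY ⟨g * x.1 * g⁻¹, hmem⟩ = extLam N Y M hY x := by
  apply extLam_eq
  have h1 : extRep N Y M (g * x.1 * g⁻¹) = extLam N Y M hY x •
      (extRep N Y M g * Y ⟨extFst N Y M x.1, x.2⟩ * extRep N Y M g⁻¹) := by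
    rw [map_mul, map_mul, extLam_spec N Y M hY x, mul_smul_comm, smul_mul_assoc]
  have h2 : extRep N Y M g * Y ⟨extFst N Y M x.1, x.2⟩ * extRep N Y M g⁻¹ =
      Y ⟨extFst N Y M g * extFst N Y M x.1 * (extFst N Y M g)⁻¹,
        hN.conj_mem _ x.2 _⟩ := by
    rw [extRep_intertwines, mul_assoc, ← map_mul (extRep N Y M), mul_inv_cancel, map_one, mul_one]
  show extRep N Y M (g * x.1 * g⁻¹) = _
  rw [h1, h2]
  rfl

end lam

section extendA

variable {G : Type*} [Group G] (N : Subgroup G) [hN : N.Normal] [Finite N] {V : Type*}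
  [AddCommGroup V] [Module ℂ V] [FiniteDimensional ℂ V] (Y : Representation ℂ N V) (M : ℕ)
  (hY : Y.IsIrreducible)

/-- A character of `P ⊇ N` extending `Y.character` is afforded by a representation on `V`
extending `Y`. -/
theorem exists_rep_extending (P : Subgroup G) (hNP : N ≤ P) (η : P → ℂ) (hη : IsCharacter P η)
    (hηN : ∀ n : N, η ⟨(n : G), hNP n.2⟩ = Y.character n) :
    ∃ X' : Representation ℂ P V, X'.character = η ∧ ∀ n : N, X' ⟨(n : G), hNP n.2⟩ = Y n := by
  classical
  obtain ⟨d', X₀, hX₀η⟩ := hη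
  let X₀N : Representation ℂ N (Fin d' → ℂ) := MonoidHom.comp X₀ (Subgroup.inclusion hNP)
  have hchar : Y.character = X₀N.character := by
    funext n
    rw [← hηN n, ← hX₀η]
    rfl
  obtain ⟨e⟩ := equiv_of_char_eq Y X₀N hchar
  let L : V ≃ₗ[ℂ] (Fin d' → ℂ) := e.toLinearEquiv
  have hL : ∀ (n : N) (v : V), L (Y n v) = X₀ ⟨(n : G), hNP n.2⟩ (L v) := by
    intro n v
    have := congrArg (fun f => f v) (e.isIntertwining' n)
    exact this
  let X' : Representation ℂ P V :=
    { toFun := fun g => (L.symm : (Fin d' → ℂ) →ₗ[ℂ] V) ∘ₗ X₀ g ∘ₗ (L : V →ₗ[ℂ] (Fin d' → ℂ))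
      map_one' := by
        ext v
        simp
      map_mul' := by
        intro a b
        ext v
        simp }
  refine ⟨X', ?_, ?_⟩
  · rw [← hX₀η]
    funext g
    show LinearMap.trace ℂ V ((L.symm : (Fin d' → ℂ) →ₗ[ℂ] V) ∘ₗ X₀ g ∘ₗ
      (L : V →ₗ[ℂ] (Fin d' → ℂ))) = LinearMap.trace ℂ _ (X₀ g)
    rw [LinearMap.trace_comp_comm', LinearMap.comp_assoc]
    congr 1
    ext v
    simp
  · intro n
    ext v
    show L.symm (X₀ ⟨(n : G), hNP n.2⟩ (L v)) = Y n v
    rw [← hL, LinearEquiv.symm_apply_apply]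

/-- An extension of `Y.character` to `P ⊇ N` yields a linear character of the preimage of `P` in
the central extension, extending `extLam`. -/
theorem exists_linear_of_extension (P : Subgroup G) (hNP : N ≤ P) (η : P → ℂ)
    (hη : IsCharacter P η) (hηN : ∀ n : N, η ⟨(n : G), hNP n.2⟩ = Y.character n) :
    ∃ ν : (P.comap (extFst N Y M)) → ℂ, IsCharacter (P.comap (extFst N Y M)) ν ∧ ν 1 = 1 ∧
      ∀ x : N.comap (extFst N Y M),
        ν ⟨x.1, Subgroup.comap_mono hNP x.2⟩ = extLam N Y M hY x := by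
  classical
  have := hY
  have hnt : Nontrivial V := nontrivial_of_isIrreducible Y
  obtain ⟨X', -, hX'N⟩ := exists_rep_extending N Y P hNP η hη hηN
  -- every element over `P` is a scalar multiple of `X'`
  have hscal : ∀ x : P.comap (extFst N Y M),
      ∃ c : ℂ, extRep N Y M x.1 = c • X' ⟨extFst N Y M x.1, x.2⟩ := by
    intro x
    set g : P := ⟨extFst N Y M x.1, x.2⟩ with hg
    set T : Module.End ℂ V := extRep N Y M x.1 * X' g⁻¹ with hT
    have hcomm : ∀ n : N, T ∘ₗ Y n = Y n ∘ₗ T := by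
      intro n
      rw [← Module.End.mul_eq_comp, ← Module.End.mul_eq_comp, hT]
      -- m = g⁻¹ n g
      have hm : (g : G)⁻¹ * n * (g : G)⁻¹⁻¹ ∈ N := hN.conj_mem n n.2 _
      set m : N := ⟨(g : G)⁻¹ * n * (g : G)⁻¹⁻¹, hm⟩ with hmdef
      have h1 : X' g⁻¹ * Y n = Y m * X' g⁻¹ := by
        rw [← hX'N n, ← hX'N m, ← map_mul, ← map_mul]
        congr 1
        apply Subtype.ext
        show (g : G)⁻¹ * n = (g : G)⁻¹ * n * (g : G)⁻¹⁻¹ * (g : G)⁻¹
        group
      have h2 : extRep N Y M x.1 * Y m = Y n * extRep N Y M x.1 := by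
        rw [extRep_intertwines]
        congr 2
        apply Subtype.ext
        show extFst N Y M x.1 * ((g : G)⁻¹ * n * (g : G)⁻¹⁻¹) * (extFst N Y M x.1)⁻¹ = n
        rw [hg]
        show extFst N Y M x.1 * ((extFst N Y M x.1)⁻¹ * n * (extFst N Y M x.1)⁻¹⁻¹) *
          (extFst N Y M x.1)⁻¹ = n
        group
      rw [mul_assoc, h1, ← mul_assoc, h2, mul_assoc]
    obtain ⟨c, hc⟩ := exists_scalar_of_commute Y T hcomm
    refine ⟨c, ?_⟩
    have h3 : extRep N Y M x.1 = T * X' g := by
      rw [hT, mul_assoc, ← map_mul, inv_mul_cancel, map_one, mul_one]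
    rw [h3, hc]
    ext v
    simp
  choose ν hν using hscal
  have hν_eq : ∀ (x : P.comap (extFst N Y M)) (c : ℂ),
      extRep N Y M x.1 = c • X' ⟨extFst N Y M x.1, x.2⟩ → ν x = c := by
    intro x c hc
    have h := hν x
    rw [hc] at h
    exact (smul_unit_cancel (isUnit_rep X' _) h).symm
  have hν1 : ν 1 = 1 := by
    apply hν_eq
    rw [one_smul]
    show extRep N Y M 1 = X' ⟨extFst N Y M 1, _⟩
    rw [map_one]
    have : (⟨extFst N Y M 1, (1 : P.comap (extFst N Y M)).2⟩ : P) = 1 :=
      Subtype.ext (map_one _)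
    rw [this, map_one]
  have hνmul : ∀ x y : P.comap (extFst N Y M), ν (x * y) = ν x * ν y := by
    intro x y
    apply hν_eq
    show extRep N Y M (x.1 * y.1) = _
    rw [map_mul, hν x, hν y, smul_mul_smul_comm, ← map_mul]
    rfl
  let f : (P.comap (extFst N Y M)) →* ℂˣ :=
    MonoidHom.toHomUnits { toFun := ν, map_one' := hν1, map_mul' := hνmul }
  refine ⟨ν, isCharacter_of_irr (isIrrCharacter_of_hom f), hν1, ?_⟩
  intro x
  apply hν_eq
  show extRep N Y M x.1 = extLam N Y M hY x • X' ⟨extFst N Y M x.1, _⟩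
  rw [extLam_spec N Y M hY x]
  congr 1
  exact (hX'N ⟨extFst N Y M x.1, x.2⟩).symm

end extendA

section extendB

variable {G : Type*} [Group G] (N : Subgroup G) [hN : N.Normal] [Finite N] {V : Type*}
  [AddCommGroup V] [Module ℂ V] [FiniteDimensional ℂ V] (Y : Representation ℂ N V) (M : ℕ)
  (hY : Y.IsIrreducible)

/-- A linear character of the central extension extending `extLam` yields a representation of `G`
extending `Y`. -/
theorem exists_extension_of_linear
    (hinv : ∀ (g : G) (n : N),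
      Y.character ⟨g * n * g⁻¹, hN.conj_mem n n.2 g⟩ = Y.character n)
    (μ : extGroup N Y M → ℂ) (hμ : IsCharacter (extGroup N Y M) μ) (hμ1 : μ 1 = 1)
    (hμK : ∀ x : N.comap (extFst N Y M), μ x.1 = extLam N Y M hY x) :
    ∃ X : Representation ℂ G V, ∀ n : N, X (n : G) = Y n := by
  classical
  have hmul : ∀ x y, μ (x * y) = μ x * μ y := linear_char_mul hμ hμ1
  have hne : ∀ x, μ x ≠ 0 := by
    intro x h0
    have h1 := hmul x x⁻¹
    rw [mul_inv_cancel, hμ1, h0, zero_mul] at h1
    exact one_ne_zero h1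
  choose s hs using extFst_surjective N Y M hY hinv
  let Xf : G → Module.End ℂ V := fun g => (μ (s g))⁻¹ • extRep N Y M (s g)
  have hkey : ∀ x : extGroup N Y M, Xf (extFst N Y M x) = (μ x)⁻¹ • extRep N Y M x := by
    intro x
    set g := extFst N Y M x with hg
    obtain ⟨z, hz⟩ : ∃ z, z = (s g)⁻¹ * x := ⟨_, rfl⟩
    have hz1 : extFst N Y M z = 1 := by
      rw [hz, map_mul, map_inv, hs g, hg, inv_mul_cancel]
    have hzK : z ∈ N.comap (extFst N Y M) := by
      show extFst N Y M z ∈ N
      rw [hz1]; exact N.one_mem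
    have hspec := extLam_spec N Y M hY ⟨z, hzK⟩
    have hone : (⟨extFst N Y M z, hzK⟩ : N) = 1 := Subtype.ext hz1
    simp only at hspec
    rw [hone, map_one] at hspec
    have hμz : μ z = extLam N Y M hY ⟨z, hzK⟩ := hμK ⟨z, hzK⟩
    have hx : x = s g * z := by rw [hz, mul_inv_cancel_left]
    have hlam0 : extLam N Y M hY ⟨z, hzK⟩ ≠ 0 := by rw [← hμz]; exact hne z
    show (μ (s g))⁻¹ • extRep N Y M (s g) = (μ x)⁻¹ • extRep N Y M x
    rw [hx, hmul, map_mul, hspec, hμz, mul_smul_comm, mul_one, smul_smul, mul_inv,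
      mul_assoc, inv_mul_cancel₀ hlam0, mul_one]
  have hone : Xf 1 = 1 := by
    have := hkey 1
    rw [map_one, hμ1, inv_one, one_smul, map_one] at this
    exact this
  have hXmul : ∀ g h : G, Xf (g * h) = Xf g * Xf h := by
    intro g h
    have h1 := hkey (s g * s h)
    rw [map_mul, hs g, hs h] at h1
    rw [h1, hmul, map_mul, mul_inv, ← smul_smul, smul_mul_smul_comm, smul_smul]
  refine ⟨{ toFun := Xf, map_one' := hone, map_mul' := hXmul }, ?_⟩
  intro n
  show Xf (n : G) = Y n
  set x := s (n : G) with hx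
  have hxK : x ∈ N.comap (extFst N Y M) := by
    show extFst N Y M x ∈ N
    rw [hs]; exact n.2
  have hspec := extLam_spec N Y M hY ⟨x, hxK⟩
  have hn : (⟨extFst N Y M x, hxK⟩ : N) = n := Subtype.ext (hs (n : G))
  simp only at hspec
  rw [hn] at hspec
  have hμx : μ x = extLam N Y M hY ⟨x, hxK⟩ := hμK ⟨x, hxK⟩
  show (μ x)⁻¹ • extRep N Y M x = Y n
  rw [hspec, ← hμx, smul_smul, inv_mul_cancel₀ (hne x), one_smul]

end extendB

end Cfsg.Agent.Lib.H24
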