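import Mathlib
import Cfsg.Agent.Lib.H23.LinearExt

/-!
# Preparations for invariant constituents over coprime layers (helper24)

* `nat_split`: `n = u v` with `u` coprime to `b` and `v` and every prime factor of `v` dividing `b`;
* `hom_split`: a hom `ν` from a group of order `u v` (`u`, `v` coprime) to `ℂˣ` is a product
  `ν ^ s * ν ^ t` with `(ν ^ s) ^ u = 1`, `(ν ^ t) ^ v = 1`;
* `exists_invariant_hom_extension`: an invariant hom of a normal subgroup of order prime to the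
  index has an extension that is fixed by every automorphism fixing the hom.
-/

set_option autoImplicit false

namespace Cfsg.Agent.Lib.H24.InvOver

open Cfsg.Agent.Lib.H23

theorem nat_split (b : ℕ) : ∀ n : ℕ, n ≠ 0 → ∃ u v : ℕ, n = u * v ∧ u.Coprime v ∧ u.Coprime b ∧
    ∀ p : ℕ, p.Prime → p ∣ v → p ∣ b := by
  intro n
  induction n using Nat.strong_induction_on with
  | _ n ih =>
    intro hn
    by_cases h : ∃ p, p.Prime ∧ p ∣ n ∧ p ∣ b
    · obtain ⟨p, hp, hpn, hpb⟩ := h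
      obtain ⟨n', rfl⟩ := hpn
      have hn' : n' ≠ 0 := by
        rintro rfl
        simp at hn
      have hlt : n' < p * n' := by
        have := hp.two_le
        have := Nat.pos_of_ne_zero hn'
        nlinarith
      obtain ⟨u, v, h1, h2, h3, h4⟩ := ih n' hlt hn'
      refine ⟨u, p * v, by rw [h1]; ring, ?_, h3, ?_⟩
      · exact Nat.Coprime.mul_right (Nat.Coprime.coprime_dvd_right hpb h3) h2
      · intro q hq hqv
        rcases (Nat.Prime.dvd_mul hq).mp hqv with h5 | h5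
        · rw [(Nat.prime_dvd_prime_iff_eq hq hp).mp h5]
          exact hpb
        · exact h4 q hq h5
    · push Not at h
      refine ⟨n, 1, by ring, Nat.coprime_one_right n, ?_, ?_⟩
      · exact Nat.coprime_of_dvd (fun k hk hkn => h k hk hkn)
      · intro p hp hp1
        exact absurd (Nat.dvd_one.mp hp1) hp.ne_one

theorem pow_split {Λ : Type*} [Group Λ] (ν : Λ) (u v : ℕ) (hν : ν ^ (u * v) = 1)
    (hcop : u.Coprime v) :
    ∃ s t : ℕ, (ν ^ s) ^ u = 1 ∧ (ν ^ t) ^ v = 1 ∧ ν ^ s * ν ^ t = ν := by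
  obtain ⟨s, hs1, hs2⟩ := Nat.chineseRemainder hcop 1 0
  obtain ⟨t, ht1, ht2⟩ := Nat.chineseRemainder hcop 0 1
  refine ⟨s, t, ?_, ?_, ?_⟩
  · obtain ⟨k, hk⟩ := (Nat.modEq_zero_iff_dvd.mp hs2)
    rw [← pow_mul, hk, mul_comm (v * k) u, ← mul_assoc, pow_mul, hν, one_pow]
  · obtain ⟨k, hk⟩ := (Nat.modEq_zero_iff_dvd.mp ht1)
    rw [← pow_mul, hk, mul_assoc, mul_comm k v, ← mul_assoc, pow_mul, hν, one_pow]
  · rw [← pow_add]
    have h1 : s + t ≡ 1 [MOD u * v] := by
      rw [← Nat.modEq_and_modEq_iff_modEq_mul hcop]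
      constructor
      · simpa using hs1.add ht1
      · simpa using hs2.add ht2
    have h2 : s + t ≡ 1 [MOD orderOf ν] := h1.of_dvd (orderOf_dvd_of_pow_eq_one hν)
    have h3 := pow_eq_pow_iff_modEq.mpr h2
    rw [pow_one] at h3
    exact h3

theorem exists_invariant_hom_extension {G : Type*} [Group G] [Finite G] (N : Subgroup G)
    [hN : N.Normal] (ϕ : N →* ℂˣ)
    (hinv : ∀ (g : G) (n : N), ϕ ⟨g * n * g⁻¹, hN.conj_mem (n : G) n.2 g⟩ = ϕ n)
    (v : ℕ) (hv : ϕ ^ v = 1) (hcop : Nat.Coprime N.index v) :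
    ∃ μ : G →* ℂˣ, (∀ n : N, μ n = ϕ n) ∧
      ∀ (c : G ≃* G) (hc : ∀ n ∈ N, c n ∈ N), (∀ n : N, ϕ ⟨c n, hc n n.2⟩ = ϕ n) →
        ∀ g, μ (c g) = μ g := by
  have hcop' : Nat.Coprime N.index (orderOf ϕ) :=
    Nat.Coprime.coprime_dvd_right (orderOf_dvd_of_pow_eq_one hv) hcop
  obtain ⟨M, hMN, hMo, hMuniq⟩ := exists_unique_hom_extension N ϕ hinv hcop'
  refine ⟨M, hMN, ?_⟩
  intro c hc hϕc g
  have h1 : M.comp c.toMonoidHom = M := by
    apply hMuniq
    · intro n
      show M (c n) = ϕ n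
      rw [← hϕc n]
      exact hMN ⟨c n, hc n n.2⟩
    · apply Nat.Coprime.coprime_dvd_right _ hcop'
      rw [← hMo]
      apply orderOf_dvd_of_pow_eq_one
      apply MonoidHom.ext
      intro g
      have h2 : M ^ orderOf M = 1 := pow_orderOf_eq_one M
      have h3 := DFunLike.congr_fun h2 (c g)
      exact h3
  exact DFunLike.congr_fun h1 g

end Cfsg.Agent.Lib.H24.InvOver
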