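import Mathlib
import Cfsg.Prelude.Def_Characters
import Cfsg.Agent.Lib.L0.CharOps
import Cfsg.Agent.Lib.H24.CharLinearMul
import Cfsg.Agent.Lib.H24.CharOrth

/-!
# Actions on `IrrCharacter G`: twisting by linear characters, and automorphisms

* `twist μ χ = χ · μ` for `μ : G →* ℂˣ`; `twistHom : (G →* ℂˣ) →* Perm (IrrCharacter G)`.
* `autIrr a χ = χ ∘ a⁻¹` for `a : MulAut G`; `autIrrHom : MulAut G →* Perm (IrrCharacter G)`.
-/

set_option autoImplicit false

namespace Cfsg.Agent.Lib.H24

open Cfsg Cfsg.Agent.Lib.L0
open scoped ComplexConjugate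

section Twist

variable {G : Type*} [Group G] [Finite G]

/-- Twisting an irreducible character by a linear character. -/
noncomputable def twist (μ : G →* ℂˣ) (χ : IrrCharacter G) : IrrCharacter G :=
  ⟨fun g => (χ : G → ℂ) g * (μ g : ℂ), isIrrCharacter_mul_hom χ.1 χ.2 μ⟩

theorem twist_apply (μ : G →* ℂˣ) (χ : IrrCharacter G) (g : G) :
    (twist μ χ : G → ℂ) g = (χ : G → ℂ) g * (μ g : ℂ) := rfl

/-- Anchor: realizes the on-demand lemma `twist.congr_simp` in the defining module, so that
downstream modules share one copy. -/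
theorem twist_congr_anchor (μ μ' : G →* ℂˣ) (hμ : μ = μ') (χ χ' : IrrCharacter G)
    (hχ : χ = χ') : twist μ χ = twist μ' χ' :=
  twist.congr_simp μ μ' hμ χ χ' hχ

theorem twist_one (χ : IrrCharacter G) : twist 1 χ = χ := by
  apply Subtype.ext
  funext g
  rw [twist_apply, MonoidHom.one_apply, Units.val_one, mul_one]

theorem twist_mul (μ ν : G →* ℂˣ) (χ : IrrCharacter G) :
    twist (μ * ν) χ = twist μ (twist ν χ) := by
  apply Subtype.ext
  funext g
  rw [twist_apply, twist_apply, twist_apply, MonoidHom.mul_apply, Units.val_mul]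
  ring

theorem charDegree_twist (μ : G →* ℂˣ) (χ : IrrCharacter G) :
    charDegree (twist μ χ : G → ℂ) = charDegree (χ : G → ℂ) := by
  unfold charDegree
  rw [twist_apply, map_one, Units.val_one, mul_one]

instance instFiniteHom : Finite (G →* ℂˣ) :=
  Finite.of_injective (homIrr (G := G)) homIrr_injective

/-- The twisting action as a `MulAction` structure (not an instance). -/
noncomputable def twistMulAction : MulAction (G →* ℂˣ) (IrrCharacter G) where
  smul := twist
  one_smul := twist_one
  mul_smul := twist_mul

/-- The twisting action as a permutation representation. -/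
noncomputable def twistHom : (G →* ℂˣ) →* Equiv.Perm (IrrCharacter G) :=
  @MulAction.toPermHom _ _ _ twistMulAction

theorem twistHom_apply (μ : G →* ℂˣ) (χ : IrrCharacter G) : twistHom μ χ = twist μ χ := rfl

end Twist

section Aut

variable {G : Type*} [Group G]

/-- The action of an automorphism on an irreducible character: `χ ∘ a⁻¹`. -/
noncomputable def autIrr (a : MulAut G) (χ : IrrCharacter G) : IrrCharacter G :=
  ⟨(χ : G → ℂ) ∘ (a⁻¹ : MulAut G),
    isIrrCharacter_comp_of_surjective (a⁻¹ : MulAut G).toMonoidHom (a⁻¹ : MulAut G).surjective χ.2⟩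

theorem autIrr_apply (a : MulAut G) (χ : IrrCharacter G) (g : G) :
    (autIrr a χ : G → ℂ) g = (χ : G → ℂ) ((a⁻¹ : MulAut G) g) := rfl

theorem autIrr_one (χ : IrrCharacter G) : autIrr 1 χ = χ := by
  apply Subtype.ext
  funext g
  rw [autIrr_apply, inv_one, MulAut.one_apply]

theorem autIrr_mul (a b : MulAut G) (χ : IrrCharacter G) :
    autIrr (a * b) χ = autIrr a (autIrr b χ) := by
  apply Subtype.ext
  funext g
  rw [autIrr_apply, autIrr_apply, autIrr_apply, mul_inv_rev, MulAut.mul_apply]

/-- The action of automorphisms as a `MulAction` structure (not an instance). -/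
noncomputable def autIrrMulAction : MulAction (MulAut G) (IrrCharacter G) where
  smul := autIrr
  one_smul := autIrr_one
  mul_smul := autIrr_mul

/-- The action of automorphisms as a permutation representation. -/
noncomputable def autIrrHom : MulAut G →* Equiv.Perm (IrrCharacter G) :=
  @MulAction.toPermHom _ _ _ autIrrMulAction

theorem autIrrHom_apply (a : MulAut G) (χ : IrrCharacter G) : autIrrHom a χ = autIrr a χ := rfl

end Aut

end Cfsg.Agent.Lib.H24
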