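import Mathlib
import Cfsg.Prelude.Def_Characters
import Cfsg.Agent.Lib.L0.CharOps
import Cfsg.Agent.Lib.L0.CharInner
import Cfsg.Agent.Lib.L0.CharDecomp
import Cfsg.Agent.Lib.H1.CoprimeAction
import Cfsg.Agent.Lib.H23.CliffordCorr
import Cfsg.Agent.Lib.H24.CharTwist
import Cfsg.Agent.Lib.H24.ChiefFactor
import Cfsg.Agent.S0855

/-!
# Coprime action: invariant characters above an invariant character (Isaacs 13.28)

A finite group `S₁` acts (via `σ : S₁ →* MulAut G`) on `G`, stabilizing `N ⊴ G`, with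
`(|G:N|, |S₁|) = 1` and `G/N` solvable. Every `S₁`-invariant `θ ∈ Irr(N)` lies under an
`S₁`-invariant `χ ∈ Irr(G)`.
-/

set_option autoImplicit false

namespace Cfsg.Agent.Lib.H24

open Cfsg Cfsg.Agent.Lib.L0 Cfsg.Agent.Lib.H23
open scoped ComplexConjugate

section common

/-- Two characters with a common irreducible constituent have nonzero inner product. -/
theorem classInner_ne_zero_of_common_constituent {L : Type*} [Group L] [Fintype L]
    (α β θ : L → ℂ) (hα : IsCharacter L α) (hβ : IsCharacter L β) (hθ : IsIrrCharacter L θ)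
    (h1 : classInner α θ ≠ 0) (h2 : classInner β θ ≠ 0) : classInner α β ≠ 0 := by
  classical
  haveI := Fintype.ofFinite (IrrCharacter L)
  have ha : ∀ ψ : IrrCharacter L, ∃ a : ℕ, classInner α (ψ : L → ℂ) = a :=
    fun ψ => classInner_char_irr_nat hα ψ.2
  have hb : ∀ ψ : IrrCharacter L, ∃ b : ℕ, classInner β (ψ : L → ℂ) = b :=
    fun ψ => classInner_char_irr_nat hβ ψ.2
  choose a ha using ha
  choose b hb using hb
  have hexp := classFunction_expansion α (isClassFunction_of_isCharacter hα)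
  have key : classInner α β = ((∑ ψ : IrrCharacter L, a ψ * b ψ : ℕ) : ℂ) := by
    conv_lhs => rw [hexp]
    rw [classInner_sum_left]
    push_cast
    refine Finset.sum_congr rfl fun ψ _ => ?_
    rw [classInner_smul_left, ha, ← classInner_conj_symm, hb, Complex.conj_natCast]
  rw [key]
  have hpa : 0 < a ⟨θ, hθ⟩ := by
    rcases Nat.eq_zero_or_pos (a ⟨θ, hθ⟩) with h | h
    · exfalso; apply h1; rw [ha ⟨θ, hθ⟩, h]; simp
    · exact h
  have hpb : 0 < b ⟨θ, hθ⟩ := by
    rcases Nat.eq_zero_or_pos (b ⟨θ, hθ⟩) with h | h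
    · exfalso; apply h2; rw [hb ⟨θ, hθ⟩, h]; simp
    · exact h
  have hpos : 0 < ∑ ψ : IrrCharacter L, a ψ * b ψ :=
    lt_of_lt_of_le (Nat.mul_pos hpa hpb)
      (Finset.single_le_sum (f := fun ψ => a ψ * b ψ) (fun _ _ => Nat.zero_le _)
        (Finset.mem_univ (⟨θ, hθ⟩ : IrrCharacter L)))
  exact_mod_cast hpos.ne'

/-- `[ND, ND] ≤ N` if `[D, D] ≤ N ⊴ G`. -/
theorem commutator_sup_le {G : Type*} [Group G] (N D : Subgroup G) [N.Normal] (h : ⁅D, D⁆ ≤ N) :
    ⁅N ⊔ D, N ⊔ D⁆ ≤ N := by
  have h1 : (N ⊔ D).map (QuotientGroup.mk' N) = D.map (QuotientGroup.mk' N) := by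
    rw [Subgroup.map_sup, QuotientGroup.map_mk'_self, bot_sup_eq]
  have h2 : (⁅N ⊔ D, N ⊔ D⁆).map (QuotientGroup.mk' N) = ⊥ := by
    rw [Subgroup.map_commutator, h1, ← Subgroup.map_commutator, eq_bot_iff]
    calc (⁅D, D⁆).map (QuotientGroup.mk' N) ≤ N.map (QuotientGroup.mk' N) := Subgroup.map_mono h
      _ = ⊥ := QuotientGroup.map_mk'_self N
  have h3 := (Subgroup.map_eq_bot_iff _).mp h2
  rwa [QuotientGroup.ker_mk'] at h3

theorem commutator_subtype_le {G : Type*} [Group G] (N M : Subgroup G) (h : ⁅M, M⁆ ≤ N) :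
    commutator M ≤ N.subgroupOf M := by
  intro x hx
  rw [Subgroup.mem_subgroupOf]
  apply h
  have : (commutator M).map M.subtype = ⁅M, M⁆ := by
    rw [commutator_def, Subgroup.map_commutator, ← MonoidHom.range_eq_map, Subgroup.range_subtype]
  rw [← this]
  exact Subgroup.mem_map_of_mem _ hx

/-- Restriction of a family of automorphisms to an invariant subgroup. -/
def resAutHom {S₁ G : Type*} [Group S₁] [Group G] (σ : S₁ →* MulAut G) (M : Subgroup G)
    (hM : ∀ s, ∀ m ∈ M, σ s m ∈ M) : S₁ →* MulAut M where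
  toFun s :=
    { toFun := fun m => ⟨σ s m, hM s m m.2⟩
      invFun := fun m => ⟨σ s⁻¹ m, hM s⁻¹ m m.2⟩
      left_inv := fun m => Subtype.ext (by simp [map_inv])
      right_inv := fun m => Subtype.ext (by simp [map_inv])
      map_mul' := fun x y => Subtype.ext (by simp) }
  map_one' := by ext m; simp
  map_mul' s t := by ext m; simp [MulAut.mul_apply]

theorem resAutHom_apply_coe {S₁ G : Type*} [Group S₁] [Group G] (σ : S₁ →* MulAut G)
    (M : Subgroup G) (hM : ∀ s, ∀ m ∈ M, σ s m ∈ M) (s : S₁) (m : M) :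
    ((resAutHom σ M hM s m : M) : G) = σ s m := rfl

/-- A linear character separating a given element from a normal subgroup with abelian quotient. -/
theorem exists_hom_ne_one_of_not_mem {M : Type*} [Group M] [Finite M] (L : Subgroup M) [L.Normal]
    (hab : commutator M ≤ L) {m : M} (hm : m ∉ L) : ∃ μ : M →* ℂˣ, L ≤ μ.ker ∧ μ m ≠ 1 := by
  letI : CommGroup (M ⧸ L) :=
    { (inferInstance : Group (M ⧸ L)) with mul_comm := quotient_comm_of_commutator_le L hab }
  have hne : (QuotientGroup.mk m : M ⧸ L) ≠ 1 := by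
    intro h; exact hm ((QuotientGroup.eq_one_iff m).mp h)
  obtain ⟨φ, hφ⟩ := CommGroup.exists_apply_ne_one_of_hasEnoughRootsOfUnity (M ⧸ L) ℂ hne
  refine ⟨φ.comp (QuotientGroup.mk' L), ?_, hφ⟩
  intro n hn
  rw [MonoidHom.mem_ker, MonoidHom.comp_apply]
  have : QuotientGroup.mk' L n = 1 := (QuotientGroup.eq_one_iff n).mpr hn
  rw [this, map_one]

end common

section trans

/-- The multiplicity of `θ` in the restriction of a sum of characters. -/
theorem classInner_restrict_list {M : Type*} [Group M] (N : Subgroup M) [Fintype N] (θ : N → ℂ)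
    (hθ : IsIrrCharacter N θ) :
    ∀ l : List (M → ℂ), (∀ ψ ∈ l, IsCharacter M ψ) →
      ∃ k : ℕ, classInner (fun n : N => l.sum n) θ = k ∧
        ((∃ ψ ∈ l, classInner (fun n : N => ψ n) θ ≠ 0) → k ≠ 0)
  | [], _ => by
    refine ⟨0, ?_, ?_⟩
    · have : (fun n : N => ([] : List (M → ℂ)).sum n) = (0 : N → ℂ) := by
        funext n; simp
      rw [this, classInner_zero_left]; simp
    · rintro ⟨ψ, hψ, _⟩
      simp at hψ
  | ψ :: l, h => by
    obtain ⟨k, hk, hk'⟩ := classInner_restrict_list N θ hθ l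
      (fun φ hφ => h φ (List.mem_cons_of_mem _ hφ))
    obtain ⟨a, ha⟩ := classInner_char_irr_nat
      (isCharacter_restrict N (h ψ List.mem_cons_self)) hθ
    refine ⟨a + k, ?_, ?_⟩
    · have : (fun n : N => (ψ :: l).sum n) = (fun n : N => ψ n) + (fun n : N => l.sum n) := by
        funext n; simp [List.sum_cons]
      rw [this, classInner_add_left, ha, hk]; push_cast; rfl
    · rintro ⟨φ, hφ, hne⟩
      rcases List.mem_cons.mp hφ with rfl | hφ'
      · have : a ≠ 0 := by
          rintro rfl; apply hne; rw [ha]; simp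
        omega
      · have := hk' ⟨φ, hφ', hne⟩
        omega

/-- Transitivity of "lies over". -/
theorem constituent_trans {G : Type*} [Group G] (N M : Subgroup G) [Fintype N]
    [Fintype M] (hNM : N ≤ M) [Fintype (N.subgroupOf M)]
    (χ : G → ℂ) (hχ : IsCharacter G χ) (φ : M → ℂ) (hφ : IsIrrCharacter M φ) (θ : N → ℂ)
    (hθ : IsIrrCharacter N θ)
    (h1 : classInner (fun m : M => χ m) φ ≠ 0)
    (h2 : classInner (fun n : N.subgroupOf M => φ n)
      (θ ∘ (Subgroup.subgroupOfEquivOfLe hNM)) ≠ 0) :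
    classInner (fun n : N => χ n) θ ≠ 0 := by
  classical
  obtain ⟨l, hl, hsum⟩ := isCharacter_exists_irr_decomp (isCharacter_restrict M hχ)
  have hmem : φ ∈ l := by
    have h := classInner_irr_list_sum hl hφ
    rw [← hsum] at h
    rw [h] at h1
    have : l.count φ ≠ 0 := by
      intro h0; apply h1; rw [h0]; simp
    exact List.count_pos_iff.mp (Nat.pos_of_ne_zero this)
  set e := Subgroup.subgroupOfEquivOfLe hNM with he
  obtain ⟨k, hk, hk'⟩ := classInner_restrict_list (N.subgroupOf M) (θ ∘ e)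
    (isIrrCharacter_comp_of_surjective e.toMonoidHom e.surjective hθ) l
    (fun ψ hψ => isCharacter_of_irr (hl ψ hψ))
  have hk0 : k ≠ 0 := hk' ⟨φ, hmem, h2⟩
  have hres : (fun n : N => χ n) ∘ e = fun n : N.subgroupOf M => l.sum n := by
    funext n
    rw [Function.comp_apply, ← hsum]
    rfl
  rw [← classInner_comp_equiv e, hres, hk]
  exact_mod_cast hk0

end trans

section abelian

variable {M : Type*} [Group M] [Fintype M] (L : Subgroup M) [hLn : L.Normal] [Fintype L]

/-- The group of linear characters trivial on `L`. -/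
def trivOn : Subgroup (M →* ℂˣ) where
  carrier := {μ | ∀ n ∈ L, μ n = 1}
  mul_mem' := by
    intro a b ha hb n hn
    rw [MonoidHom.mul_apply, ha n hn, hb n hn, one_mul]
  one_mem' := by intro n _; rfl
  inv_mem' := by
    intro a ha n hn
    rw [MonoidHom.inv_apply, ha n hn, inv_one]

omit [Fintype M] hLn [Fintype L] in
theorem mem_trivOn (μ : M →* ℂˣ) : μ ∈ trivOn L ↔ ∀ n ∈ L, μ n = 1 := Iff.rfl

omit [Fintype L] in
theorem trivOn_pow_index (μ : M →* ℂˣ) (hμ : μ ∈ trivOn L) : μ ^ L.index = 1 := by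
  ext m
  rw [MonoidHom.pow_apply, ← map_pow, hμ _ (Subgroup.pow_index_mem L m)]
  rfl

omit [Fintype L] in
theorem coprime_card_trivOn {k : ℕ} (hcop : (L.index).Coprime k) :
    (Nat.card (trivOn L)).Coprime k := by
  by_contra hnc
  obtain ⟨p, hp, hp1, hp2⟩ := Nat.Prime.not_coprime_iff_dvd.mp hnc
  haveI : Fact p.Prime := ⟨hp⟩
  obtain ⟨x, hx⟩ := exists_prime_orderOf_dvd_card' p hp1
  have h1 : x ^ L.index = 1 := by
    apply Subtype.ext
    rw [Subgroup.coe_pow]
    exact trivOn_pow_index L x x.2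
  have h2 : p ∣ L.index := by
    rw [← hx]; exact orderOf_dvd_of_pow_eq_one h1
  have h3 : p ∣ Nat.gcd L.index k := Nat.dvd_gcd h2 hp2
  rw [hcop] at h3
  exact hp.one_lt.ne' (Nat.dvd_one.mp h3)

omit [Fintype L] in
/-- The character sum over `trivOn L`. -/
theorem sum_trivOn_apply [Fintype (trivOn L)] (hab : commutator M ≤ L) (m : M)
    [Decidable (m ∈ L)] :
    (∑ μ : trivOn L, (((μ : M →* ℂˣ) m : ℂˣ) : ℂ)) =
      if m ∈ L then (Nat.card (trivOn L) : ℂ) else 0 := by
  by_cases hm : m ∈ L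
  · rw [if_pos hm]
    have : ∀ μ : trivOn L, (((μ : M →* ℂˣ) m : ℂˣ) : ℂ) = 1 := fun μ => by
      rw [μ.2 m hm]; rfl
    simp only [this, Finset.sum_const, Finset.card_univ, nsmul_eq_mul, mul_one]
    rw [Nat.card_eq_fintype_card]
  · rw [if_neg hm]
    let ev : trivOn L →* ℂ :=
      { toFun := fun μ => (((μ : M →* ℂˣ) m : ℂˣ) : ℂ)
        map_one' := by simp
        map_mul' := fun a b => by simp }
    apply sum_hom_units_eq_zero ev
    obtain ⟨μ₀, hμ₀L, hμ₀m⟩ := exists_hom_ne_one_of_not_mem L hab hm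
    intro h
    have h1 : ev ⟨μ₀, fun n hn => MonoidHom.mem_ker.mp (hμ₀L hn)⟩ = 1 := by
      rw [h]; rfl
    apply hμ₀m
    apply Units.ext
    exact h1

end abelian

section abelianStep

variable {M : Type*} [Group M] [Fintype M] (L : Subgroup M) [hLn : L.Normal] [Fintype L]

/-- Transitivity of the twisting action on the characters over `θ`, for `M/L` abelian. -/
theorem exists_twist_eq_of_over (hab : commutator M ≤ L) (θ : L → ℂ) (hθ : IsIrrCharacter L θ)
    (y y' : IrrCharacter M) (hy : classInner (fun n : L => (y : M → ℂ) n) θ ≠ 0)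
    (hy' : classInner (fun n : L => (y' : M → ℂ) n) θ ≠ 0) :
    ∃ μ ∈ trivOn L, twist μ y = y' := by
  classical
  haveI : Fintype (trivOn L) := Fintype.ofFinite _
  set F : M → ℂ := ∑ μ : trivOn L, (twist (μ : M →* ℂˣ) y : M → ℂ) with hF
  have hyc : IsCharacter L (fun n : L => (y : M → ℂ) n) :=
    isCharacter_restrict L (isCharacter_of_irr y.2)
  have hyc' : IsCharacter L (fun n : L => (y' : M → ℂ) n) :=
    isCharacter_restrict L (isCharacter_of_irr y'.2)
  have hne := classInner_ne_zero_of_common_constituent _ _ θ hyc hyc' hθ hy hy'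
  have hFy : classInner F (y' : M → ℂ) =
      ((Nat.card M : ℂ)⁻¹ * (Nat.card (trivOn L) : ℂ) * (Nat.card L : ℂ)) *
        classInner (fun n : L => (y : M → ℂ) n) (fun n : L => (y' : M → ℂ) n) := by
    unfold classInner
    have h1 : ∀ m : M, F m * conj ((y' : M → ℂ) m) =
        if m ∈ L then (Nat.card (trivOn L) : ℂ) * ((y : M → ℂ) m * conj ((y' : M → ℂ) m))
        else 0 := by
      intro m
      rw [hF, Finset.sum_apply]
      simp only [twist_apply]
      rw [← Finset.mul_sum, sum_trivOn_apply L hab m]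
      split_ifs <;> ring
    rw [Finset.sum_congr rfl (fun m _ => h1 m), ← Finset.sum_filter, ← Finset.mul_sum]
    have h2 : ∑ m ∈ Finset.univ.filter (fun m : M => m ∈ L),
        ((y : M → ℂ) m * conj ((y' : M → ℂ) m)) =
        ∑ n : L, (y : M → ℂ) n * conj ((y' : M → ℂ) n) :=
      Finset.sum_subtype _ (fun m => by simp) _
    rw [h2]
    have hLne : (Nat.card L : ℂ) ≠ 0 := by exact_mod_cast (Nat.card_pos (α := L)).ne'
    field_simp
  have hFne : classInner F (y' : M → ℂ) ≠ 0 := by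
    rw [hFy]
    refine mul_ne_zero (mul_ne_zero (mul_ne_zero ?_ ?_) ?_) hne
    · exact inv_ne_zero (by exact_mod_cast (Nat.card_pos (α := M)).ne')
    · exact_mod_cast (Nat.card_pos (α := trivOn L)).ne'
    · exact_mod_cast (Nat.card_pos (α := L)).ne'
  rw [hF, classInner_sum_left] at hFne
  obtain ⟨μ, -, hμ⟩ := Finset.exists_ne_zero_of_sum_ne_zero hFne
  refine ⟨μ, μ.2, ?_⟩
  by_contra hne'
  apply hμ
  rw [irr_orthonormal, if_neg hne']

end abelianStep

section abelianGlauberman

variable {M : Type*} [Group M] [Fintype M] (L : Subgroup M) [hLn : L.Normal] [Fintype L]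

/-- **Abelian step** of Isaacs 13.28: if `M/L` is abelian, a coprime group of automorphisms
fixing `θ ∈ Irr(L)` fixes some irreducible character of `M` over `θ`. -/
theorem exists_invariant_over_of_abelian (hab : commutator M ≤ L) {S₁ : Type*} [Group S₁]
    [Finite S₁] (σ : S₁ →* MulAut M) (hL : ∀ s, ∀ n ∈ L, σ s n ∈ L)
    (hcop : (L.index).Coprime (Nat.card S₁)) (θ : L → ℂ) (hθ : IsIrrCharacter L θ)
    (hinv : ∀ s (n : L), θ ⟨σ s n, hL s n n.2⟩ = θ n) :
    ∃ φ : IrrCharacter M, classInner (fun n : L => (φ : M → ℂ) n) θ ≠ 0 ∧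
      ∀ s m, (φ : M → ℂ) (σ s m) = (φ : M → ℂ) m := by
  classical
  haveI : Finite (IrrCharacter M) := instFiniteIrr
  set K : Subgroup (Equiv.Perm (IrrCharacter M)) := (trivOn L).map twistHom with hK
  set A : Subgroup (Equiv.Perm (IrrCharacter M)) := (autIrrHom.comp σ).range with hA
  have hkey : ∀ (t : S₁) (μ : M →* ℂˣ), μ ∈ trivOn L →
      autIrrHom (σ t) * twistHom μ * (autIrrHom (σ t))⁻¹ ∈ K := by
    intro t μ hμ
    refine ⟨μ.comp ((σ t)⁻¹ : MulAut M).toMonoidHom, ?_, ?_⟩
    · intro n hn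
      rw [MonoidHom.comp_apply]
      apply hμ
      have := hL t⁻¹ n hn
      rwa [map_inv] at this
    · apply Equiv.ext
      intro χ
      apply Subtype.ext
      funext g
      have e1 : (autIrrHom (σ t))⁻¹ = autIrrHom ((σ t)⁻¹) := (map_inv _ _).symm
      rw [Equiv.Perm.mul_apply, Equiv.Perm.mul_apply, e1, autIrrHom_apply, autIrrHom_apply,
        twistHom_apply, twistHom_apply, twist_apply, autIrr_apply, twist_apply, autIrr_apply,
        inv_inv]
      simp
  have hact : Cfsg.Agent.Lib.H1.CoprimeAction A K := by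
    refine ⟨?_, ?_, ?_⟩
    · rintro a ⟨s, rfl⟩
      rw [Subgroup.mem_normalizer_iff]
      intro h
      constructor
      · rintro ⟨μ, hμ, rfl⟩
        exact hkey s μ hμ
      · intro hh
        obtain ⟨μ, hμ, hμe⟩ := hh
        have h2 := hkey s⁻¹ μ hμ
        rw [hμe] at h2
        have h3 : autIrrHom (σ s⁻¹) * ((autIrrHom.comp σ) s * h * ((autIrrHom.comp σ) s)⁻¹) *
            (autIrrHom (σ s⁻¹))⁻¹ = h := by
          rw [MonoidHom.comp_apply, map_inv, map_inv]
          group
        rwa [h3] at h2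
    · have h1 : Nat.card A ∣ Nat.card S₁ := Subgroup.card_range_dvd _
      have h2 : Nat.card K ∣ Nat.card (trivOn L) := Subgroup.card_map_dvd _ _
      exact Nat.Coprime.coprime_dvd_left h1
        (Nat.Coprime.coprime_dvd_right h2 (coprime_card_trivOn L hcop).symm)
    · right
      exact Group.isSolvable_of_surjective (f := twistHom.subgroupMap (trivOn L))
        (MonoidHom.subgroupMap_surjective _ _)
  set Y : Set (IrrCharacter M) := {φ | classInner (fun n : L => (φ : M → ℂ) n) θ ≠ 0} with hY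
  have hYne : Y.Nonempty := by
    obtain ⟨χ, hχ, hc⟩ := Cfsg.Agent.S0855.exists_irr_over L θ hθ
    exact ⟨⟨χ, hχ⟩, hc⟩
  have hYK : ∀ k ∈ K, ∀ y ∈ Y, k • y ∈ Y := by
    rintro k ⟨μ, hμ, rfl⟩ y hy
    show classInner (fun n : L => (twist μ y : M → ℂ) n) θ ≠ 0
    have : (fun n : L => (twist μ y : M → ℂ) n) = fun n : L => (y : M → ℂ) n := by
      funext n
      rw [twist_apply, hμ n n.2, Units.val_one, mul_one]
    rw [this]
    exact hy
  have hYA : ∀ a ∈ A, ∀ y ∈ Y, a • y ∈ Y := by
    rintro a ⟨s, rfl⟩ y hy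
    show classInner (fun n : L => (autIrr (σ s) y : M → ℂ) n) θ ≠ 0
    set b : L ≃* L := resAutHom σ L hL s⁻¹ with hb
    have h1 : (fun n : L => (autIrr (σ s) y : M → ℂ) n) = (fun n : L => (y : M → ℂ) n) ∘ b := by
      funext n
      rw [autIrr_apply, Function.comp_apply, hb, resAutHom_apply_coe, map_inv]
    have h2 : θ ∘ b = θ := by
      funext n
      rw [Function.comp_apply]
      exact hinv s⁻¹ n
    have e1 : classInner ((fun n : L => (y : M → ℂ) n) ∘ b) (θ ∘ b) =
        classInner (fun n : L => (y : M → ℂ) n) θ := classInner_comp_equiv b _ _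
    rw [h2] at e1
    rw [h1, e1]
    exact hy
  have htrans : ∀ y ∈ Y, ∀ y' ∈ Y, ∃ k ∈ K, k • y = y' := by
    intro y hy y' hy'
    obtain ⟨μ, hμ, hμy⟩ := exists_twist_eq_of_over L hab θ hθ y y' hy hy'
    exact ⟨twistHom μ, ⟨μ, hμ, rfl⟩, hμy⟩
  obtain ⟨φ, hφY, hfix⟩ :=
    Cfsg.Agent.Lib.H1.glauberman_set_exists_fixed hact Y hYne hYK hYA htrans
  refine ⟨φ, hφY, ?_⟩
  intro s m
  have h1 : autIrr (σ s) φ = φ := hfix _ ⟨s, rfl⟩
  have h2 := congrFun (congrArg Subtype.val h1) (σ s m)
  rw [autIrr_apply] at h2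
  rw [← h2]
  simp

end abelianGlauberman

section main

variable {G : Type*} [Group G] [Fintype G] {S₁ : Type*} [Group S₁] [Finite S₁]
  (σ : S₁ →* MulAut G)

/-- **Isaacs 13.28** (type-level form): a group `S₁` acting coprimely on `G/N` (solvable) and
fixing `θ ∈ Irr(N)` fixes some irreducible character of `G` over `θ`. -/
theorem exists_invariant_over : ∀ (k : ℕ) (N : Subgroup G) [N.Normal] [Fintype N]
    (hN : ∀ s, ∀ n ∈ N, σ s n ∈ N) (_hcop : N.index.Coprime (Nat.card S₁))
    (_hder : derivedSeries G k ≤ N) (θ : N → ℂ) (_hθ : IsIrrCharacter N θ)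
    (_hinv : ∀ s (n : N), θ ⟨σ s n, hN s n n.2⟩ = θ n),
    ∃ χ : IrrCharacter G, classInner (fun n : N => (χ : G → ℂ) n) θ ≠ 0 ∧
      ∀ s g, (χ : G → ℂ) (σ s g) = (χ : G → ℂ) g := by
  intro k
  induction k with
  | zero =>
    intro N _ _ hN hcop hder θ hθ hinv
    have htop : N = ⊤ := by
      rw [derivedSeries_zero] at hder; exact top_le_iff.mp hder
    have hmem : ∀ g : G, g ∈ N := fun g => by rw [htop]; exact Subgroup.mem_top g
    let e : G ≃* N :=
      { toFun := fun g => ⟨g, hmem g⟩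
        invFun := fun n => n
        left_inv := fun _ => rfl
        right_inv := fun _ => rfl
        map_mul' := fun _ _ => rfl }
    refine ⟨⟨θ ∘ e, isIrrCharacter_comp_of_surjective e.toMonoidHom e.surjective hθ⟩, ?_, ?_⟩
    · have : (fun n : N => (θ ∘ e) (n : G)) = θ := by funext n; rfl
      show classInner (fun n : N => (θ ∘ e) (n : G)) θ ≠ 0
      rw [this, irr_classInner_self hθ]; exact one_ne_zero
    · intro s g
      show θ (e (σ s g)) = θ (e g)
      exact hinv s (e g)
  | succ k ih =>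
    intro N _ _ hN hcop hder θ hθ hinv
    classical
    set D := derivedSeries G k with hD
    set Mm : Subgroup G := N ⊔ D with hMm
    haveI hMn : Mm.Normal := by rw [hMm]; infer_instance
    have hDchar : ∀ s, ∀ d ∈ D, σ s d ∈ D := fun s d hd =>
      (Subgroup.characteristic_iff_le_comap.mp inferInstance (σ s)) hd
    have hM : ∀ s, ∀ m ∈ Mm, σ s m ∈ Mm := by
      intro s m hm
      have : Mm.map (σ s).toMonoidHom ≤ Mm := by
        rw [hMm, Subgroup.map_sup]
        apply sup_le_sup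
        · rintro _ ⟨n, hn, rfl⟩; exact hN s n hn
        · rintro _ ⟨d, hd, rfl⟩; exact hDchar s d hd
      exact this (Subgroup.mem_map_of_mem _ hm)
    have hNM : N ≤ Mm := le_sup_left
    haveI : Fintype Mm := Fintype.ofFinite _
    haveI : Fintype (N.subgroupOf Mm) := Fintype.ofFinite _
    set L := N.subgroupOf Mm with hL
    have hab : commutator Mm ≤ L := by
      apply commutator_subtype_le
      apply commutator_sup_le
      rw [hD, ← derivedSeries_succ]
      exact hder
    set σM := resAutHom σ Mm hM with hσM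
    have hLσ : ∀ s, ∀ n ∈ L, σM s n ∈ L := by
      intro s n hn
      rw [hL, Subgroup.mem_subgroupOf] at hn ⊢
      rw [hσM, resAutHom_apply_coe]
      exact hN s _ hn
    have hcopL : (L.index).Coprime (Nat.card S₁) :=
      Nat.Coprime.coprime_dvd_left (Subgroup.relIndex_dvd_index_of_le hNM) hcop
    set e := Subgroup.subgroupOfEquivOfLe hNM with he
    set θ' : L → ℂ := θ ∘ e with hθ'def
    have hθ' : IsIrrCharacter L θ' :=
      isIrrCharacter_comp_of_surjective e.toMonoidHom e.surjective hθ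
    have hinv' : ∀ s (n : L), θ' ⟨σM s n, hLσ s n n.2⟩ = θ' n := by
      intro s n
      show θ (e _) = θ (e n)
      rw [← hinv s (e n)]
      exact congrArg θ (Subtype.ext rfl)
    obtain ⟨φ, hφ1, hφ2⟩ := exists_invariant_over_of_abelian L hab σM hLσ hcopL θ' hθ' hinv'
    have hcopM : Mm.index.Coprime (Nat.card S₁) :=
      Nat.Coprime.coprime_dvd_left (Subgroup.index_dvd_of_le hNM) hcop
    obtain ⟨χ, hχ1, hχ2⟩ := ih Mm hM hcopM le_sup_right (φ : Mm → ℂ) φ.2 (fun s m => hφ2 s m)
    refine ⟨χ, ?_, hχ2⟩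
    exact constituent_trans N Mm hNM (χ : G → ℂ) (isCharacter_of_irr χ.2) (φ : Mm → ℂ) φ.2 θ hθ
      hχ1 hφ1

end main

end Cfsg.Agent.Lib.H24
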