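import Cfsg.Agent.Lib.H24.GlaubOver4

/-!
# Invariant characters above invariant characters, solvable coprime operators (helper24)

`exists_inv_over`: inside a finite group `Γ` let the solvable subgroup `S` normalise `G` and
`N ⊴ G`, `(|G|, |S|) = 1`.  Every `S`-invariant `θ ∈ Irr(N)` lies under some `S`-invariant
`χ ∈ Irr(G)` (Isaacs 13.31 with `S` solvable, coprime to `|G|`).
-/

set_option autoImplicit false

universe u

namespace Cfsg.Agent.Lib.H24.Glaub

open Cfsg Cfsg.Agent.Lib.L0 Cfsg.Agent.Lib.H23 Cfsg.Agent.Lib.H8 Cfsg.Agent.Lib.H24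

variable {Γ : Type u} [Group Γ] [Fintype Γ]

theorem exists_inv_over_aux (n : ℕ) :
    ∀ (G N S : Subgroup Γ) (hNG : N ≤ G), (∀ s ∈ S, ∀ g ∈ G, s * g * s⁻¹ ∈ G) →
      (∀ g ∈ G, ∀ m ∈ N, g * m * g⁻¹ ∈ N) → (∀ s ∈ S, ∀ m ∈ N, s * m * s⁻¹ ∈ N) →
      Group.IsSolvable S →
      (S ⊓ Subgroup.centralizer (G : Set Γ)).relIndex S = n → (Nat.card G).Coprime n →
      ∀ [Fintype N] (θ : IrrCharacter N), (∀ s ∈ S, InvUnder N s (θ : N → ℂ)) →
      ∃ χ : IrrCharacter G, resMult hNG (χ : G → ℂ) (θ : N → ℂ) ≠ 0 ∧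
        ∀ s ∈ S, InvUnder G s (χ : G → ℂ) := by
  induction n using Nat.strong_induction_on with
  | _ n ih =>
    intro G N S hNG hnorm hNn hNS hsolv hn hcop _ θ hθ
    classical
    letI : Fintype G := Fintype.ofFinite _
    set K := S ⊓ Subgroup.centralizer (G : Set Γ) with hK
    have hKS : K ≤ S := inf_le_left
    have hKc : ∀ k ∈ K, ∀ g ∈ G, k * g * k⁻¹ = g := by
      intro k hk g hg
      have h1 := (Subgroup.mem_centralizer_iff.mp hk.2) g hg
      rw [← h1]
      group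
    have hKcN : ∀ k ∈ K, ∀ g ∈ N, k * g * k⁻¹ = g := fun k hk g hg => hKc k hk g (hNG hg)
    by_cases hKeq : K = S
    · have hSc : ∀ s ∈ S, ∀ g ∈ G, s * g * s⁻¹ = g := by
        intro s hs
        rw [← hKeq] at hs
        exact hKc s hs
      obtain ⟨χ, hχ⟩ := exists_irr_over_amb hNG θ
      refine ⟨χ, hχ, ?_⟩
      intro s hs g g' hgg'
      have h2 : g' = g := Subtype.ext (by rw [hgg']; exact hSc s hs g g.2)
      rw [h2]
    · have hKn : ∀ x ∈ S, ∀ k ∈ K, x * k * x⁻¹ ∈ K := by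
        intro x hx k hk
        refine ⟨S.mul_mem (S.mul_mem hx hk.1) (S.inv_mem hx), ?_⟩
        show x * k * x⁻¹ ∈ Subgroup.centralizer (G : Set Γ)
        rw [Subgroup.mem_centralizer_iff]
        intro g hg
        have hg' : x⁻¹ * g * x ∈ G := by
          have := hnorm x⁻¹ (S.inv_mem hx) g hg
          rwa [inv_inv] at this
        have h1 := (Subgroup.mem_centralizer_iff.mp hk.2) _ hg'
        calc g * (x * k * x⁻¹) = x * ((x⁻¹ * g * x) * k) * x⁻¹ := by group
          _ = x * (k * (x⁻¹ * g * x)) * x⁻¹ := by rw [h1]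
          _ = x * k * x⁻¹ * g := by group
      obtain ⟨p, Q, hp, hQS, hQp, hQK, hpn, hP⟩ := exists_pgroup_step S K hsolv hKS hKn hKeq
      rw [hn] at hpn
      have hpG : ¬ p ∣ Nat.card G := by
        intro h
        have h1 : p ∣ Nat.gcd (Nat.card G) n := Nat.dvd_gcd h hpn
        rw [hcop] at h1
        exact hp.one_lt.ne' (Nat.dvd_one.mp h1)
      have hpN : ¬ p ∣ Nat.card N := fun h => hpG (h.trans (Subgroup.card_dvd_of_le hNG))
      set B : Subgroup Γ := G ⊓ Subgroup.centralizer (Q : Set Γ) with hB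
      set D : Subgroup Γ := N ⊓ Subgroup.centralizer (Q : Set Γ) with hD
      letI : Fintype B := Fintype.ofFinite _
      letI : Fintype D := Fintype.ofFinite _
      have hBG : B ≤ G := inf_le_left
      have hDN : D ≤ N := inf_le_left
      have hDB : D ≤ B := inf_le_inf_right _ hNG
      have hSB := step_norm hnorm hKc hP hB
      have hSD := step_norm hNS hKcN hP hD
      have hQG : ∀ q ∈ Q, ∀ g ∈ G, q * g * q⁻¹ ∈ G := fun q hq => hnorm q (hQS hq)
      have hQN : ∀ q ∈ Q, ∀ m ∈ N, q * m * q⁻¹ ∈ N := fun q hq => hNS q (hQS hq)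
      have hθQ : ∀ q ∈ Q, InvUnder N q (θ : N → ℂ) := fun q hq => hθ q (hQS hq)
      have corrN := pgroup_corr hp (Nat.card Q) N Q D rfl hQN hQp hpN hD hDN
      have corrG := pgroup_corr hp (Nat.card Q) G Q B rfl hQG hQp hpG hB hBG
      obtain ⟨ξ, ε, hε, hξ0⟩ := corrN.exists_corr θ hθQ
      have hξ : ¬ p ∣ resMult hDN (θ : N → ℂ) (ξ : D → ℂ) := by
        have h2 := hξ0 ξ
        rw [if_pos rfl] at h2
        exact not_dvd_of_dvd_sub_sign hp hε h2
      have hξS : ∀ s ∈ S, InvUnder D s (ξ : D → ℂ) :=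
        step_inv_down hp hNS hQS hQp hpN hKcN hP hD hDN θ hθ ξ hξ
      -- normality of `D` in `B`
      have hBc : ∀ b ∈ B, b ∈ Subgroup.centralizer (Q : Set Γ) := fun b hb => hb.2
      have hDn : ∀ b ∈ B, ∀ d ∈ D, b * d * b⁻¹ ∈ D := by
        intro b hb d hd
        refine Subgroup.mem_inf.mpr ⟨hNn b (hBG hb) d (hDN hd), ?_⟩
        have hdc : d ∈ Subgroup.centralizer (Q : Set Γ) := hd.2
        exact Subgroup.mul_mem _ (Subgroup.mul_mem _ (hBc b hb) hdc)
          (Subgroup.inv_mem _ (hBc b hb))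
      -- the induction hypothesis for `(B, D)`
      set K₂ := S ⊓ Subgroup.centralizer (B : Set Γ) with hK₂
      have hKK₂ : K ≤ K₂ := by
        intro k hk
        exact ⟨hk.1, Subgroup.centralizer_le (by exact_mod_cast hBG) hk.2⟩
      have hQK₂ : Q ≤ K₂ := by
        intro q hq
        refine ⟨hQS hq, ?_⟩
        show q ∈ Subgroup.centralizer (B : Set Γ)
        rw [Subgroup.mem_centralizer_iff]
        intro b hb
        have hb' : b ∈ Subgroup.centralizer (Q : Set Γ) := hb.2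
        exact ((Subgroup.mem_centralizer_iff.mp hb') q hq).symm
      have hmul : K.relIndex K₂ * K₂.relIndex S = n := by
        rw [Subgroup.relIndex_mul_relIndex K K₂ S hKK₂ inf_le_left, hn]
      have hn0 : n ≠ 0 := by
        rw [← hn]
        show (K.subgroupOf S).index ≠ 0
        exact Subgroup.index_ne_zero_of_finite
      have hne1 : K.relIndex K₂ ≠ 1 := by
        intro h
        rw [Subgroup.relIndex_eq_one] at h
        exact hQK (hQK₂.trans h)
      have hlt : K₂.relIndex S < n := by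
        have h0 : K.relIndex K₂ ≠ 0 := fun h => hn0 (by rw [← hmul, h, zero_mul])
        have h2 : 2 ≤ K.relIndex K₂ := by omega
        have h3 : K₂.relIndex S ≠ 0 := fun h => hn0 (by rw [← hmul, h, mul_zero])
        have h4 : 2 * K₂.relIndex S ≤ K.relIndex K₂ * K₂.relIndex S :=
          Nat.mul_le_mul_right _ h2
        rw [hmul] at h4
        omega
      have hcop₂ : (Nat.card B).Coprime (K₂.relIndex S) := by
        have h1 : Nat.card B ∣ Nat.card G := Subgroup.card_dvd_of_le hBG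
        have h2 : K₂.relIndex S ∣ n := Dvd.intro_left _ hmul
        exact Nat.Coprime.coprime_dvd_left h1 (Nat.Coprime.coprime_dvd_right h2 hcop)
      obtain ⟨β, hβξ, hβS⟩ := ih _ hlt B D S hDB hSB hDn hSD hsolv rfl hcop₂ ξ hξS
      -- lift `β` to `G`
      obtain ⟨χ, hχQ, hχβ⟩ := corrG.surj β
      have hχS : ∀ s ∈ S, InvUnder G s (χ : G → ℂ) :=
        step_inv_up hp hnorm hQS hQp hpG hKc hP hB hBG χ hχQ β hβS hχβ
      refine ⟨χ, ?_, hχS⟩
      exact over_backward hp hQG hQN hNG hNn hQp hpG hB hD hBG hDN hDB χ hχQ θ hθQ β hχβ ξ hξ hβξ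

theorem exists_inv_over (G N S : Subgroup Γ) [Fintype N] (hNG : N ≤ G)
    (hnorm : ∀ s ∈ S, ∀ g ∈ G, s * g * s⁻¹ ∈ G)
    (hNn : ∀ g ∈ G, ∀ m ∈ N, g * m * g⁻¹ ∈ N) (hNS : ∀ s ∈ S, ∀ m ∈ N, s * m * s⁻¹ ∈ N)
    (hcop : (Nat.card G).Coprime (Nat.card S)) (hsolv : Group.IsSolvable S)
    (θ : IrrCharacter N) (hθ : ∀ s ∈ S, InvUnder N s (θ : N → ℂ)) :
    ∃ χ : IrrCharacter G, resMult hNG (χ : G → ℂ) (θ : N → ℂ) ≠ 0 ∧
      ∀ s ∈ S, InvUnder G s (χ : G → ℂ) := by
  apply exists_inv_over_aux _ G N S hNG hnorm hNn hNS hsolv rfl _ θ hθ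
  exact Nat.Coprime.coprime_dvd_right (Subgroup.relIndex_dvd_card _ _) hcop

end Cfsg.Agent.Lib.H24.Glaub
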