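import Mathlib
import Cfsg.Agent.S4448
import Cfsg.Agent.S4449
import Cfsg.Agent.Lib.H24.InvOverA

/-!
# Invariant constituents over coprime layers: the case `(|G|, |Γ : G|) = 1` (helper24)

`N ≤ G` normal subgroups of `Γ`, `(|G|, |Γ : G|) = 1`, `Γ/G` or `G/N` solvable (in derived series
form), `θ ∈ Irr(N)` invariant in `Γ`.  By Schur–Zassenhaus `G` has a complement `K`, and
Isaacs 13.27/13.28 (S4448, S4449) give a `K`-invariant, hence `Γ`-invariant, `χ ∈ Irr(G | θ)`.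
-/

set_option autoImplicit false

universe u

namespace Cfsg.Agent.Lib.H24.InvOver

open Cfsg Cfsg.Agent.Lib.L0

variable {Γ : Type u} [Group Γ] [Fintype Γ]

theorem inv_over_of_coprime_card (G N : Subgroup Γ) [hG : G.Normal] [hN : N.Normal] [Fintype G]
    [Fintype N] (hNG : N ≤ G) (hcop : (Nat.card G).Coprime G.index)
    (hsolv : (∃ k, derivedSeries Γ k ≤ G) ∨ (∃ k, (derivedSeries G k).map G.subtype ≤ N))
    (θ : IrrCharacter N)
    (hinv : ∀ (x : Γ) (n : N),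
      (θ : N → ℂ) ⟨x * n * x⁻¹, hN.conj_mem n n.2 x⟩ = (θ : N → ℂ) n) :
    ∃ χ : IrrCharacter G, classInner (fun n : N => (χ : G → ℂ) ⟨n, hNG n.2⟩) (θ : N → ℂ) ≠ 0 ∧
      ∀ (x : Γ) (g : G), (χ : G → ℂ) ⟨x * g * x⁻¹, hG.conj_mem g g.2 x⟩ = (χ : G → ℂ) g := by
  classical
  obtain ⟨K, hK⟩ := Subgroup.exists_right_complement'_of_coprime hcop
  have hKcard : Nat.card K = G.index := (hK.symm.index_eq_card).symm
  have hcopK : (Nat.card G).Coprime (Nat.card K) := by rw [hKcard]; exact hcop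
  have hnorm : ∀ s ∈ K, ∀ g ∈ G, s * g * s⁻¹ ∈ G := fun s _ g hg => hG.conj_mem g hg s
  have hNS : ∀ s ∈ K, ∀ n ∈ N, s * n * s⁻¹ ∈ N := fun s _ n hn => hN.conj_mem n hn s
  have hinvK : ∀ s ∈ K, ∀ g g' : N, (g' : Γ) = s * g * s⁻¹ →
      (θ : N → ℂ) g' = (θ : N → ℂ) g := by
    intro s _ g g' hgg'
    rw [← hinv s g]
    apply congrArg
    exact Subtype.ext hgg'
  have hmain : ∃ χ : IrrCharacter G,
      classInner (fun n : N => (χ : G → ℂ) ⟨n, hNG n.2⟩) (θ : N → ℂ) ≠ 0 ∧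
      (∀ s ∈ K, ∀ g g' : G, (g' : Γ) = s * g * s⁻¹ → (χ : G → ℂ) g' = (χ : G → ℂ) g) := by
    rcases hsolv with ⟨k, hk⟩ | ⟨k, hk⟩
    · have hKsolv : Group.IsSolvable K := by
        rw [Group.isSolvable_def]
        refine ⟨k, ?_⟩
        rw [eq_bot_iff]
        intro y hy
        have h1 : (y : Γ) ∈ derivedSeries Γ k :=
          map_derivedSeries_le_derivedSeries K.subtype k ⟨y, hy, rfl⟩
        have h2 : (y : Γ) ∈ G ⊓ K := ⟨hk h1, y.2⟩
        rw [hK.disjoint.eq_bot, Subgroup.mem_bot] at h2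
        rw [Subgroup.mem_bot]
        exact Subtype.ext h2
      exact Cfsg.Agent.S4449.result G K N hnorm hNG (fun g _ n hn => hN.conj_mem n hn g) hNS hcopK
        hKsolv θ hinvK
    · have : (N.subgroupOf G).Normal := Subgroup.normal_subgroupOf
      have hsolv' : Group.IsSolvable (G ⧸ N.subgroupOf G) := by
        rw [Group.isSolvable_def]
        refine ⟨k, ?_⟩
        rw [← map_derivedSeries_eq (QuotientGroup.mk'_surjective (N.subgroupOf G)) k, eq_bot_iff,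
          Subgroup.map_le_iff_le_comap]
        intro y hy
        rw [Subgroup.mem_comap, Subgroup.mem_bot, QuotientGroup.mk'_apply,
          QuotientGroup.eq_one_iff, Subgroup.mem_subgroupOf]
        exact hk ⟨y, hy, rfl⟩
      have hcop' : (N.relIndex G).Coprime (Nat.card K) :=
        Nat.Coprime.coprime_dvd_left (Subgroup.relIndex_dvd_card N G) hcopK
      exact Cfsg.Agent.S4448.result G K N hnorm hNG hNS hcop' hsolv' θ hinvK
  obtain ⟨χ, hχ1, hχ2⟩ := hmain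
  refine ⟨χ, hχ1, ?_⟩
  intro x g
  obtain ⟨⟨g₀, k⟩, hgk⟩ := hK.2 x
  have hx : x = (g₀ : Γ) * (k : Γ) := hgk.symm
  obtain ⟨g1, hg1⟩ : ∃ g1 : G, (g1 : Γ) = (k : Γ) * g * (k : Γ)⁻¹ :=
    ⟨⟨(k : Γ) * g * (k : Γ)⁻¹, hG.conj_mem g g.2 k⟩, rfl⟩
  have h1 : (χ : G → ℂ) g1 = (χ : G → ℂ) g := hχ2 k k.2 g g1 hg1
  have h2 : (⟨x * g * x⁻¹, hG.conj_mem g g.2 x⟩ : G) = g₀ * g1 * g₀⁻¹ := by
    apply Subtype.ext
    show x * g * x⁻¹ = (g₀ : Γ) * (g1 : Γ) * (g₀ : Γ)⁻¹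
    rw [hx, hg1]
    group
  rw [h2, isClassFunction_of_isCharacter (isCharacter_of_irr χ.2) g1 g₀, h1]

end Cfsg.Agent.Lib.H24.InvOver
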