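import Mathlib
import Cfsg.Agent.Lib.H24.InvOverB
import Cfsg.Agent.Lib.H24.CharLinearMul
import Cfsg.Agent.Lib.H23.FullyRamified
import Cfsg.Agent.Lib.H23.CliffordCorr

/-!
# Invariant constituents over coprime layers: invariant linear characters (helper24)

`N ≤ G` normal subgroups of `Γ`, `(|Γ : G|, |G : N|) = 1`, `Γ/G` or `G/N` solvable, `ν` a
`Γ`-invariant hom `N →* ℂˣ`.  Then there is a `Γ`-invariant `β ∈ Irr(G)` with `β_N = β(1) ν`.
-/

set_option autoImplicit false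

universe u

namespace Cfsg.Agent.Lib.H24.InvOver

open Cfsg Cfsg.Agent.Lib.L0 Cfsg.Agent.Lib.H23 Cfsg.Agent.Lib.H24

theorem hom_split {A : Type*} [Group A] [Finite A] (ν : A →* ℂˣ) (u v : ℕ)
    (huv : Nat.card A = u * v) (hcop : u.Coprime v) :
    ∃ (νu νv : A →* ℂˣ) (s t : ℕ), (∀ a, νu a ^ u = 1) ∧ (∀ a, νv a ^ v = 1) ∧
      (∀ a, νu a * νv a = ν a) ∧ (∀ a, νu a = ν a ^ s) ∧ (∀ a, νv a = ν a ^ t) := by
  have hν : ν ^ (u * v) = 1 := by
    apply MonoidHom.ext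
    intro a
    show ν a ^ (u * v) = 1
    rw [← map_pow, ← huv, pow_card_eq_one', map_one]
  obtain ⟨s, t, hs, ht, hst⟩ := pow_split ν u v hν hcop
  refine ⟨ν ^ s, ν ^ t, s, t, fun a => ?_, fun a => ?_, fun a => ?_, fun a => rfl, fun a => rfl⟩
  · exact DFunLike.congr_fun hs a
  · exact DFunLike.congr_fun ht a
  · exact DFunLike.congr_fun hst a

variable {Γ : Type u} [Group Γ]

/-- An irreducible character lying over an invariant linear character restricts homogeneously. -/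
theorem apply_eq_of_over_linear (G N : Subgroup Γ) [Fintype G] [Fintype N] (hNG : N ≤ G)
    (hNn : ∀ g ∈ G, ∀ n ∈ N, g * n * g⁻¹ ∈ N) (ν : N →* ℂˣ)
    (hinv : ∀ g ∈ G, ∀ n n' : N, (n' : Γ) = g * n * g⁻¹ → ν n' = ν n) (χ : IrrCharacter G)
    (hover : classInner (fun n : N => (χ : G → ℂ) ⟨n, hNG n.2⟩) (fun n => (ν n : ℂ)) ≠ 0) :
    ∀ n : N, (χ : G → ℂ) ⟨n, hNG n.2⟩ = (ν n : ℂ) * (χ : G → ℂ) 1 := by
  classical
  set N' : Subgroup G := N.subgroupOf G with hN'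
  have : Fintype N' := Fintype.ofFinite _
  have hN'n : N'.Normal := by
    constructor
    intro n hn g
    rw [hN', Subgroup.mem_subgroupOf] at hn ⊢
    exact hNn g g.2 n hn
  set e : N' ≃* N := Subgroup.subgroupOfEquivOfLe hNG with he
  set ϑ : N → ℂ := fun n => (ν n : ℂ) with hϑ
  have hϑirr : IsIrrCharacter N ϑ := (homIrr ν).2
  have hϑ' : IsIrrCharacter N' (ϑ ∘ e) :=
    isIrrCharacter_comp_of_surjective e.toMonoidHom e.surjective hϑirr
  have hres : (fun n : N' => (χ : G → ℂ) n) = (fun n : N => (χ : G → ℂ) ⟨n, hNG n.2⟩) ∘ e := by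
    funext n
    rfl
  have hcon : classInner (fun n : N' => (χ : G → ℂ) n) (ϑ ∘ e) ≠ 0 := by
    rw [hres, classInner_comp_equiv]
    exact hover
  have hinv' : ∀ (g : G) (n : N'),
      (ϑ ∘ e) ⟨g * n * g⁻¹, hN'n.conj_mem (n : G) n.2 g⟩ = (ϑ ∘ e) n := by
    intro g n
    show ((ν (e _) : ℂˣ) : ℂ) = ((ν (e n) : ℂˣ) : ℂ)
    rw [hinv (g : Γ) g.2 (e n) (e ⟨g * n * g⁻¹, hN'n.conj_mem (n : G) n.2 g⟩) rfl]
  have hsm := restrict_eq_smul_of_invariant N' (χ : G → ℂ) χ.2 (ϑ ∘ e) hϑ' hcon hinv'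
  have h1 := congrFun hsm 1
  simp only [Pi.smul_apply, smul_eq_mul, Function.comp_apply, map_one, hϑ, Units.val_one,
    mul_one] at h1
  intro n
  have h2 := congrFun hsm (e.symm n)
  simp only [Pi.smul_apply, smul_eq_mul, Function.comp_apply, MulEquiv.apply_symm_apply] at h2
  have h3 : ((e.symm n : N') : G) = ⟨n, hNG n.2⟩ := by
    apply Subtype.ext
    have := congrArg (Subtype.val : N → Γ) (e.apply_symm_apply n)
    exact this
  rw [h3] at h2
  rw [h2, ← h1, mul_comm]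
  rfl


variable [Fintype Γ]

theorem inv_over_linear (G N : Subgroup Γ) [hG : G.Normal] [hN : N.Normal] [Fintype G] [Fintype N]
    (hNG : N ≤ G) (hcop : (G.index).Coprime (N.relIndex G))
    (hsolv : (∃ k, derivedSeries Γ k ≤ G) ∨ (∃ k, (derivedSeries G k).map G.subtype ≤ N))
    (ν : N →* ℂˣ)
    (hinv : ∀ (x : Γ) (n : N), ν ⟨x * n * x⁻¹, hN.conj_mem n n.2 x⟩ = ν n) :
    ∃ β : IrrCharacter G,
      (∀ n : N, (β : G → ℂ) ⟨n, hNG n.2⟩ = (ν n : ℂ) * (β : G → ℂ) 1) ∧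
      ∀ (x : Γ) (g : G), (β : G → ℂ) ⟨x * g * x⁻¹, hG.conj_mem g g.2 x⟩ = (β : G → ℂ) g := by
  classical
  -- Step 1: split `|N|`
  obtain ⟨u, v, huv, huvc, hub, hvb⟩ := nat_split G.index (Nat.card N) Nat.card_pos.ne'
  have hu0 : u ≠ 0 := by
    rintro rfl
    rw [zero_mul] at huv
    exact Nat.card_pos.ne' huv
  have hva : v.Coprime (N.relIndex G) := by
    apply Nat.coprime_of_dvd
    intro p hp hpv hpa
    have h1 : p ∣ Nat.gcd G.index (N.relIndex G) := Nat.dvd_gcd (hvb p hp hpv) hpa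
    rw [hcop] at h1
    exact hp.ne_one (Nat.dvd_one.mp h1)
  -- Step 2: split `ν`
  obtain ⟨νu, νv, s, t, hu, hv, hmul, hus, hvt⟩ := hom_split ν u v huv huvc
  have hinvu : ∀ (x : Γ) (n : N), νu ⟨x * n * x⁻¹, hN.conj_mem n n.2 x⟩ = νu n := by
    intro x n
    rw [hus, hus, hinv]
  have hinvv : ∀ (x : Γ) (n : N), νv ⟨x * n * x⁻¹, hN.conj_mem n n.2 x⟩ = νv n := by
    intro x n
    rw [hvt, hvt, hinv]
  -- Step 3: extend `νv` to `G`
  set N' : Subgroup G := N.subgroupOf G with hN'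
  have hN'n : N'.Normal := Subgroup.normal_subgroupOf
  set e : N' ≃* N := Subgroup.subgroupOfEquivOfLe hNG with he
  have hecoe : ∀ n : N', ((e n : N) : Γ) = ((n : G) : Γ) := fun n => rfl
  set ϕ : N' →* ℂˣ := νv.comp e.toMonoidHom with hϕ
  have hϕinv : ∀ (g : G) (n : N'), ϕ ⟨g * n * g⁻¹, hN'n.conj_mem (n : G) n.2 g⟩ = ϕ n := by
    intro g n
    show νv (e _) = νv (e n)
    rw [← hinvv (g : Γ) (e n)]
    apply congrArg
    exact Subtype.ext rfl
  have hϕv : ϕ ^ v = 1 := by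
    apply MonoidHom.ext
    intro n
    show νv (e n) ^ v = 1
    exact hv _
  obtain ⟨μ, hμN, hμinv⟩ := exists_invariant_hom_extension N' ϕ hϕinv v hϕv hva.symm
  have hμN' : ∀ n : N, μ ⟨n, hNG n.2⟩ = νv n := by
    intro n
    have h1 := hμN ⟨⟨n, hNG n.2⟩, by rw [hN', Subgroup.mem_subgroupOf]; exact n.2⟩
    rw [h1]
    show νv (e _) = νv n
    apply congrArg
    exact Subtype.ext rfl
  have hμΓ : ∀ (x : Γ) (g : G), μ ⟨x * g * x⁻¹, hG.conj_mem g g.2 x⟩ = μ g := by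
    intro x g
    set c : G ≃* G := MulAut.conjNormal x with hc
    have hcg : ∀ g : G, c g = ⟨x * g * x⁻¹, hG.conj_mem g g.2 x⟩ := by
      intro g
      apply Subtype.ext
      exact MulAut.conjNormal_apply x g
    have hcN : ∀ n ∈ N', c n ∈ N' := by
      intro n hn
      rw [hN', Subgroup.mem_subgroupOf] at hn ⊢
      rw [hcg]
      exact hN.conj_mem _ hn x
    have hcϕ : ∀ n : N', ϕ ⟨c n, hcN n n.2⟩ = ϕ n := by
      intro n
      show νv (e _) = νv (e n)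
      rw [← hinvv x (e n)]
      apply congrArg
      apply Subtype.ext
      show ((c n : G) : Γ) = x * ((e n : N) : Γ) * x⁻¹
      rw [hcg]
      rfl
    rw [← hcg]
    exact hμinv c hcN hcϕ g
  -- Step 4: the quotient by the kernel of `νu`
  set K : Subgroup Γ := (νu.ker).map N.subtype with hK
  have hmemK : ∀ k : Γ, k ∈ K ↔ ∃ n : N, νu n = 1 ∧ (n : Γ) = k := by
    intro k
    rw [hK, Subgroup.mem_map]
    constructor
    · rintro ⟨n, hn, rfl⟩
      exact ⟨n, MonoidHom.mem_ker.mp hn, rfl⟩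
    · rintro ⟨n, hn, rfl⟩
      exact ⟨n, MonoidHom.mem_ker.mpr hn, rfl⟩
  have hKN : K ≤ N := by
    intro k hk
    obtain ⟨n, _, rfl⟩ := (hmemK k).mp hk
    exact n.2
  haveI hKn : K.Normal := by
    constructor
    intro k hk x
    obtain ⟨n, hn, rfl⟩ := (hmemK k).mp hk
    rw [hmemK]
    exact ⟨⟨x * n * x⁻¹, hN.conj_mem n n.2 x⟩, by rw [hinvu, hn], rfl⟩
  set q : Γ →* Γ ⧸ K := QuotientGroup.mk' K with hq
  have hqs : Function.Surjective q := QuotientGroup.mk'_surjective K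
  have hqker : q.ker = K := QuotientGroup.ker_mk' K
  have : Fintype (Γ ⧸ K) := Fintype.ofFinite _
  set G₁ : Subgroup (Γ ⧸ K) := G.map q with hG₁
  set N₁ : Subgroup (Γ ⧸ K) := N.map q with hN₁
  haveI hG₁n : G₁.Normal := Subgroup.Normal.map hG q hqs
  haveI hN₁n : N₁.Normal := Subgroup.Normal.map hN q hqs
  have hN₁G₁ : N₁ ≤ G₁ := Subgroup.map_mono hNG
  have : Fintype G₁ := Fintype.ofFinite _
  have : Fintype N₁ := Fintype.ofFinite _
  -- the hom `ν₁`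
  set f : N →* N₁ := q.subgroupMap N with hf
  have hfs : Function.Surjective f := q.subgroupMap_surjective N
  have hfcoe : ∀ n : N, ((f n : N₁) : Γ ⧸ K) = q n := fun n => rfl
  have hfker : f.ker ≤ νu.ker := by
    intro n hn
    rw [MonoidHom.mem_ker] at hn ⊢
    have h1 : q (n : Γ) = 1 := by
      rw [← hfcoe, hn]
      rfl
    have h2 : (n : Γ) ∈ K := by
      rw [← hqker]
      exact MonoidHom.mem_ker.mpr h1
    obtain ⟨n', hn', hnn'⟩ := (hmemK _).mp h2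
    rw [← Subtype.ext hnn']
    exact hn'
  set ν₁ : N₁ →* ℂˣ := f.liftOfSurjective hfs ⟨νu, hfker⟩ with hν₁
  have hν₁f : ∀ n : N, ν₁ (f n) = νu n := by
    intro n
    exact MonoidHom.liftOfRightInverse_comp_apply f _ _ ⟨νu, hfker⟩ n
  have hν₁inv : ∀ (y : Γ ⧸ K) (m : N₁),
      ν₁ ⟨y * m * y⁻¹, hN₁n.conj_mem m m.2 y⟩ = ν₁ m := by
    intro y m
    obtain ⟨x, rfl⟩ := hqs y
    obtain ⟨n, rfl⟩ := hfs m
    have h1 : (⟨q x * (f n : N₁) * (q x)⁻¹, hN₁n.conj_mem (f n) (f n).2 (q x)⟩ : N₁) =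
        f ⟨x * n * x⁻¹, hN.conj_mem n n.2 x⟩ := by
      apply Subtype.ext
      show q x * q (n : Γ) * (q x)⁻¹ = q (x * (n : Γ) * x⁻¹)
      rw [map_mul, map_mul, map_inv]
    rw [h1, hν₁f, hν₁f, hinvu]
  -- cardinalities
  have hcardN₁ : Nat.card N₁ ∣ u := by
    have : NeZero u := ⟨hu0⟩
    have hroot : ∀ m : N₁, ν₁ m ∈ rootsOfUnity u ℂ := by
      intro m
      obtain ⟨n, rfl⟩ := hfs m
      rw [mem_rootsOfUnity, hν₁f]
      exact hu n
    set r : N₁ →* rootsOfUnity u ℂ := ν₁.codRestrict (rootsOfUnity u ℂ) hroot with hr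
    have hrinj : Function.Injective r := by
      rw [injective_iff_map_eq_one]
      intro m hm
      obtain ⟨n, rfl⟩ := hfs m
      have h1 : ν₁ (f n) = 1 := by
        have := congrArg (Subtype.val : rootsOfUnity u ℂ → ℂˣ) hm
        exact this
      rw [hν₁f] at h1
      have h2 : (n : Γ) ∈ K := (hmemK _).mpr ⟨n, h1, rfl⟩
      apply Subtype.ext
      rw [hfcoe]
      show q (n : Γ) = 1
      rw [← MonoidHom.mem_ker, hqker]
      exact h2
    have h3 := Subgroup.card_dvd_of_injective r hrinj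
    rw [Complex.card_rootsOfUnity] at h3
    exact h3
  have hidxG : G₁.index = G.index :=
    Subgroup.index_map_eq G hqs (by rw [hqker]; exact hKN.trans hNG)
  have hidxN : N₁.index = N.index := Subgroup.index_map_eq N hqs (by rw [hqker]; exact hKN)
  have hG0 : G.index ≠ 0 := Subgroup.index_ne_zero_of_finite
  have hrel : N₁.relIndex G₁ = N.relIndex G := by
    have h1 := Subgroup.relIndex_mul_index hN₁G₁
    have h2 := Subgroup.relIndex_mul_index hNG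
    rw [hidxG, hidxN, ← h2] at h1
    exact Nat.eq_of_mul_eq_mul_right (Nat.pos_of_ne_zero hG0) h1
  have hcardG₁ : Nat.card G₁ = Nat.card N₁ * N.relIndex G := by
    have h1 := Subgroup.card_mul_index G₁
    have h2 := Subgroup.card_mul_index N₁
    have h3 := Subgroup.relIndex_mul_index hN₁G₁
    rw [hrel] at h3
    rw [← h2, ← h3, hidxG, ← mul_assoc] at h1
    exact Nat.eq_of_mul_eq_mul_right (Nat.pos_of_ne_zero hG0) h1
  have hcop₁ : (Nat.card G₁).Coprime G₁.index := by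
    rw [hcardG₁, hidxG]
    apply Nat.Coprime.mul_left
    · exact Nat.Coprime.coprime_dvd_left hcardN₁ hub
    · exact hcop.symm
  -- Step 5: solvability in the quotient
  set q' : G →* G₁ := q.subgroupMap G with hq'
  have hq's : Function.Surjective q' := q.subgroupMap_surjective G
  have hq'coe : ∀ g : G, ((q' g : G₁) : Γ ⧸ K) = q g := fun g => rfl
  have hsolv₁ : (∃ k, derivedSeries (Γ ⧸ K) k ≤ G₁) ∨
      (∃ k, (derivedSeries G₁ k).map G₁.subtype ≤ N₁) := by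
    rcases hsolv with ⟨k, hk⟩ | ⟨k, hk⟩
    · left
      refine ⟨k, ?_⟩
      rw [← map_derivedSeries_eq hqs k]
      exact Subgroup.map_mono hk
    · right
      refine ⟨k, ?_⟩
      rw [← map_derivedSeries_eq hq's k]
      rintro _ ⟨_, ⟨g, hg, rfl⟩, rfl⟩
      show ((q' g : G₁) : Γ ⧸ K) ∈ N₁
      rw [hq'coe]
      exact Subgroup.mem_map_of_mem q (hk ⟨g, hg, rfl⟩)
  -- Step 6: the coprime case
  have hθ₁inv : ∀ (y : Γ ⧸ K) (m : N₁),
      (homIrr ν₁ : N₁ → ℂ) ⟨y * m * y⁻¹, hN₁n.conj_mem m m.2 y⟩ = (homIrr ν₁ : N₁ → ℂ) m := by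
    intro y m
    rw [homIrr_apply, homIrr_apply, hν₁inv]
  obtain ⟨χ₁, hχ₁over, hχ₁inv⟩ :=
    inv_over_of_coprime_card G₁ N₁ hN₁G₁ hcop₁ hsolv₁ (homIrr ν₁) hθ₁inv
  have hχ₁hom : ∀ m : N₁, (χ₁ : G₁ → ℂ) ⟨m, hN₁G₁ m.2⟩ = (ν₁ m : ℂ) * (χ₁ : G₁ → ℂ) 1 := by
    apply apply_eq_of_over_linear G₁ N₁ hN₁G₁ (fun g _ n hn => hN₁n.conj_mem n hn g) ν₁ _ χ₁
      hχ₁over
    intro g _ n n' hnn'
    rw [← hν₁inv g n]
    apply congrArg
    exact Subtype.ext hnn'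
  -- Step 7: pull back and twist
  have hβ₀ : IsIrrCharacter G ((χ₁ : G₁ → ℂ) ∘ q') :=
    isIrrCharacter_comp_of_surjective q' hq's χ₁.2
  have hβ : IsIrrCharacter G (fun g => ((χ₁ : G₁ → ℂ) ∘ q') g * (μ g : ℂ)) :=
    isIrrCharacter_mul_hom _ hβ₀ μ
  refine ⟨⟨_, hβ⟩, ?_, ?_⟩
  · intro n
    show (χ₁ : G₁ → ℂ) (q' ⟨n, hNG n.2⟩) * (μ ⟨n, hNG n.2⟩ : ℂ) =
      (ν n : ℂ) * ((χ₁ : G₁ → ℂ) (q' 1) * (μ 1 : ℂ))
    have h1 : q' ⟨n, hNG n.2⟩ = ⟨f n, hN₁G₁ (f n).2⟩ := Subtype.ext rfl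
    rw [h1, hχ₁hom, hν₁f, hμN', map_one, map_one, Units.val_one, mul_one, ← hmul n,
      Units.val_mul]
    ring
  · intro x g
    show (χ₁ : G₁ → ℂ) (q' ⟨x * g * x⁻¹, hG.conj_mem g g.2 x⟩) *
        (μ ⟨x * g * x⁻¹, hG.conj_mem g g.2 x⟩ : ℂ) = (χ₁ : G₁ → ℂ) (q' g) * (μ g : ℂ)
    have h1 : q' ⟨x * g * x⁻¹, hG.conj_mem g g.2 x⟩ =
        ⟨q x * (q' g : G₁) * (q x)⁻¹, hG₁n.conj_mem (q' g) (q' g).2 (q x)⟩ := by
      apply Subtype.ext
      show q (x * (g : Γ) * x⁻¹) = q x * q (g : Γ) * (q x)⁻¹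
      rw [map_mul, map_mul, map_inv]
    rw [h1, hχ₁inv, hμΓ]

end Cfsg.Agent.Lib.H24.InvOver
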