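import Mathlib
import Cfsg.Agent.Lib.H24.InvOverC
import Cfsg.Agent.Lib.H24.CentralExtLinear
import Cfsg.Agent.Lib.H24.CharDefl

/-!
# Invariant constituents over coprime layers: the general case (helper24)

Reduction of the general case (Isaacs 13.31) to the case of an invariant linear character by the
finite central extension `extGroup` attached to an invariant irreducible representation.
-/

set_option autoImplicit false

universe u

namespace Cfsg.Agent.Lib.H24.InvOver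

open Cfsg Cfsg.Agent.Lib.L0 Cfsg.Agent.Lib.H23 Cfsg.Agent.Lib.H24

/-- Deflation along a surjective homomorphism. -/
theorem exists_deflation_of_surjective {G₁ G₂ : Type*} [Group G₁] [Finite G₁] [Group G₂]
    (f : G₁ →* G₂) (hf : Function.Surjective f) (χ : IrrCharacter G₁)
    (h : ∀ z : G₁, f z = 1 → (χ : G₁ → ℂ) z = (χ : G₁ → ℂ) 1) :
    ∃ ψ : IrrCharacter G₂, ∀ g : G₁, (ψ : G₂ → ℂ) (f g) = (χ : G₁ → ℂ) g := by
  obtain ⟨ψ₀, hψ₀⟩ := exists_deflation χ f.ker (fun n hn => h n (MonoidHom.mem_ker.mp hn))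
  set e : G₁ ⧸ f.ker ≃* G₂ := QuotientGroup.quotientKerEquivOfSurjective f hf with he
  refine ⟨⟨(ψ₀ : G₁ ⧸ f.ker → ℂ) ∘ e.symm,
    isIrrCharacter_comp_of_surjective e.symm.toMonoidHom e.symm.surjective ψ₀.2⟩, ?_⟩
  intro g
  show (ψ₀ : G₁ ⧸ f.ker → ℂ) (e.symm (f g)) = _
  have h1 : e.symm (f g) = (g : G₁ ⧸ f.ker) := by
    rw [MulEquiv.symm_apply_eq]
    rfl
  rw [h1, hψ₀]

/-- Gallagher: if `π ∈ Irr(H)` restricts irreducibly to `N₀ ⊴ H` and `β ∈ Irr(H)` is trivial on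
`N₀` then `β π` is irreducible. -/
theorem isIrrCharacter_mul_of_trivial_on {H : Type*} [Group H] [Fintype H] (N₀ : Subgroup H)
    [hN₀ : N₀.Normal] [Fintype N₀] (π : H → ℂ) (hπ : IsIrrCharacter H π)
    (hπres : IsIrrCharacter N₀ (fun y : N₀ => π y)) (β : IrrCharacter H)
    (hβ : ∀ y : N₀, (β : H → ℂ) y = (β : H → ℂ) 1) :
    IsIrrCharacter H ((β : H → ℂ) * π) := by
  classical
  set one₀ : N₀ → ℂ := fun _ => (1 : ℂ) with hone₀
  set θ₀ : N₀ → ℂ := fun y => π y with hθ₀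
  have hπc : IsCharacter H π := isCharacter_of_irr hπ
  have hπcl : IsClassFunction H π := isClassFunction_of_isCharacter hπc
  have hβcl : IsClassFunction H (β : H → ℂ) :=
    isClassFunction_of_isCharacter (isCharacter_of_irr β.2)
  have hone_irr : IsIrrCharacter N₀ one₀ := (trivialIrr N₀).2
  have hprod : IsIrrCharacter N₀ (one₀ * θ₀) := by
    have : one₀ * θ₀ = θ₀ := by
      funext y
      simp [hone₀]
    rw [this]
    exact hπres
  have hθ₀inv : ∀ (g : H) (n : N₀),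
      θ₀ ⟨g * n * g⁻¹, hN₀.conj_mem (n : H) n.2 g⟩ = θ₀ n := by
    intro g n
    exact hπcl n g
  have hβ1 : classInner (indFun N₀ one₀) (β : H → ℂ) ≠ 0 := by
    rw [frobenius_reciprocity N₀ one₀ _ hβcl]
    have h1 : (fun y : N₀ => (β : H → ℂ) y) = ((β : H → ℂ) 1) • one₀ := by
      funext y
      rw [hβ y]
      simp [hone₀]
    rw [h1, classInner_smul_right, irr_classInner_self hone_irr, mul_one]
    intro h0
    have h2 := irr_one_ne_zero β
    apply h2
    have := congrArg (starRingEnd ℂ) h0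
    rw [Complex.conj_conj, map_zero] at this
    exact this
  have hnorm := gallagher_orthonormal N₀ one₀ θ₀ hone_irr (fun _ _ => rfl) hθ₀inv hprod π hπ
    (fun _ => rfl) β β hβ1 hβ1
  rw [if_pos rfl] at hnorm
  exact isIrrCharacter_of_classInner_self_eq_one
    (isCharacter_mul (isCharacter_of_irr β.2) hπc) hnorm


variable {Γ : Type u} [Group Γ] [Fintype Γ]

theorem inv_over_general (G N : Subgroup Γ) [hG : G.Normal] [hN : N.Normal] [Fintype G] [Fintype N]
    (hNG : N ≤ G) (hcop : (G.index).Coprime (N.relIndex G))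
    (hsolv : (∃ k, derivedSeries Γ k ≤ G) ∨ (∃ k, (derivedSeries G k).map G.subtype ≤ N))
    (θ : IrrCharacter N)
    (hinv : ∀ (x : Γ) (n : N),
      (θ : N → ℂ) ⟨x * n * x⁻¹, hN.conj_mem n n.2 x⟩ = (θ : N → ℂ) n) :
    ∃ χ : IrrCharacter G, classInner (fun n : N => (χ : G → ℂ) ⟨n, hNG n.2⟩) (θ : N → ℂ) ≠ 0 ∧
      ∀ (x : Γ) (g : G), (χ : G → ℂ) ⟨x * g * x⁻¹, hG.conj_mem g g.2 x⟩ = (χ : G → ℂ) g := by
  classical
  obtain ⟨d, Y, hY, hYθ⟩ := θ.2
  have hYirr := hY
  set M := Nat.card N with hMdef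
  have hM : ∀ n : N, (LinearMap.det (Y n)) ^ M = 1 := by
    intro n
    rw [← map_pow, ← map_pow, hMdef, pow_card_eq_one', map_one, map_one]
  have hinv' : ∀ (g : Γ) (n : N),
      Y.character ⟨g * n * g⁻¹, hN.conj_mem n n.2 g⟩ = Y.character n := by
    rw [hYθ]; exact hinv
  have hfin : Finite (extGroup N Y M) := finite_extGroup N Y M Nat.card_pos hY hinv'
  have : Fintype (extGroup N Y M) := Fintype.ofFinite _
  set pr : extGroup N Y M →* Γ := extFst N Y M with hprdef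
  have hpr : Function.Surjective pr := extFst_surjective N Y M hY hinv'
  -- the subgroups upstairs
  set Gt : Subgroup (extGroup N Y M) := G.comap pr with hGt
  set Nt : Subgroup (extGroup N Y M) := N.comap pr with hNt
  haveI hGtn : Gt.Normal := Subgroup.Normal.comap hG pr
  haveI hNtn : Nt.Normal := Subgroup.Normal.comap hN pr
  have hNtGt : Nt ≤ Gt := Subgroup.comap_mono hNG
  have : Fintype Gt := Fintype.ofFinite _
  have : Fintype Nt := Fintype.ofFinite _
  have hidx : Gt.index = G.index := Subgroup.index_comap_of_surjective G hpr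
  have hrel : Nt.relIndex Gt = N.relIndex G := by
    rw [hNt, Subgroup.relIndex_comap, hGt, Subgroup.map_comap_eq_self_of_surjective hpr]
  have hcopt : (Gt.index).Coprime (Nt.relIndex Gt) := by rw [hidx, hrel]; exact hcop
  set pr' : Gt →* G := pr.subgroupComap G with hpr'
  have hpr's : Function.Surjective pr' := pr.subgroupComap_surjective_of_surjective G hpr
  have hpr'coe : ∀ g : Gt, ((pr' g : G) : Γ) = pr g := fun g => rfl
  have hsolvt : (∃ k, derivedSeries (extGroup N Y M) k ≤ Gt) ∨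
      (∃ k, (derivedSeries Gt k).map Gt.subtype ≤ Nt) := by
    rcases hsolv with ⟨k, hk⟩ | ⟨k, hk⟩
    · left
      refine ⟨k, ?_⟩
      rw [hGt, ← Subgroup.map_le_iff_le_comap]
      exact (map_derivedSeries_le_derivedSeries pr k).trans hk
    · right
      refine ⟨k, ?_⟩
      rintro _ ⟨g, hg, rfl⟩
      show pr (g : extGroup N Y M) ∈ N
      have h1 : pr' g ∈ derivedSeries G k :=
        map_derivedSeries_le_derivedSeries pr' k ⟨g, hg, rfl⟩
      have h2 := hk ⟨pr' g, h1, rfl⟩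
      exact h2
  -- the invariant linear character
  set lam : Nt →* ℂˣ := extLamHom N Y M hYirr with hlam
  set ν : Nt →* ℂˣ := lam⁻¹ with hν
  have hνinv : ∀ (x : extGroup N Y M) (n : Nt),
      ν ⟨x * n * x⁻¹, hNtn.conj_mem n n.2 x⟩ = ν n := by
    intro x n
    rw [hν, MonoidHom.inv_apply, MonoidHom.inv_apply, inv_inj]
    apply Units.ext
    rw [hlam, extLamHom_apply, extLamHom_apply]
    exact extLam_conj N Y M hYirr x n (hNtn.conj_mem n n.2 x)
  obtain ⟨β, hβN, hβinv⟩ := inv_over_linear Gt Nt hNtGt hcopt hsolvt ν hνinv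
  -- the copy of `N` inside `Gt`
  have hinclG : ∀ n : N, extIncl N Y M hM n ∈ Gt := fun n => hNG n.2
  have hinclN : ∀ n : N, extIncl N Y M hM n ∈ Nt := fun n => n.2
  set ι : N →* Gt := (extIncl N Y M hM).codRestrict Gt hinclG with hι
  have hιcoe : ∀ n : N, ((ι n : Gt) : extGroup N Y M) = extIncl N Y M hM n := fun n => rfl
  have hιinj : Function.Injective ι := by
    intro a b hab
    apply extIncl_injective N Y M hM
    rw [← hιcoe, ← hιcoe, hab]
  set N₀ : Subgroup Gt := ι.range with hN₀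
  haveI hN₀n : N₀.Normal := by
    constructor
    rintro _ ⟨n, rfl⟩ g
    refine ⟨⟨pr g * n * (pr g)⁻¹, hN.conj_mem n n.2 _⟩, ?_⟩
    apply Subtype.ext
    show extIncl N Y M hM _ = (g : extGroup N Y M) * extIncl N Y M hM n * (g : extGroup N Y M)⁻¹
    rw [conj_extIncl]
  have : Fintype N₀ := Fintype.ofFinite _
  -- the character `π` on `Gt`
  set ρG : Representation ℂ Gt (Fin d → ℂ) := (extRep N Y M).comp Gt.subtype with hρG
  have hρGirr : ρG.IsIrreducible := by
    apply isIrreducible_of_comp ι ρG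
    have h1 : (MonoidHom.comp ρG ι : Representation ℂ N (Fin d → ℂ)) = Y := by
      ext n : 1
      rfl
    rw [h1]
    exact hY
  set πG : Gt → ℂ := ρG.character with hπGdef
  have hπG : IsIrrCharacter Gt πG := ⟨d, ρG, hρGirr, rfl⟩
  have hπGι : ∀ n : N, πG (ι n) = (θ : N → ℂ) n := by
    intro n
    rw [← hYθ]
    rfl
  set E₀ : N ≃* N₀ := MonoidHom.ofInjective hιinj with hE₀
  have hE₀coe : ∀ n : N, ((E₀ n : N₀) : Gt) = ι n := fun n => rfl
  have hπres : IsIrrCharacter N₀ (fun y : N₀ => πG y) := by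
    have h1 : (fun y : N₀ => πG y) = (θ : N → ℂ) ∘ E₀.symm := by
      funext y
      obtain ⟨n, rfl⟩ := E₀.surjective y
      rw [Function.comp_apply, MulEquiv.symm_apply_apply, hE₀coe, hπGι]
    rw [h1]
    exact isIrrCharacter_comp_of_surjective E₀.symm.toMonoidHom E₀.symm.surjective θ.2
  -- `lam` on the copy of `N` and on the kernel
  have hlamι : ∀ n : N, lam ⟨extIncl N Y M hM n, hinclN n⟩ = 1 := by
    intro n
    apply Units.ext
    rw [hlam, extLamHom_apply, Units.val_one]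
    apply extLam_eq
    rw [one_smul]
    rfl
  have hβι : ∀ n : N, (β : Gt → ℂ) (ι n) = (β : Gt → ℂ) 1 := by
    intro n
    have h1 := hβN ⟨extIncl N Y M hM n, hinclN n⟩
    have h2 : (⟨((⟨extIncl N Y M hM n, hinclN n⟩ : Nt) : extGroup N Y M),
        hNtGt (⟨extIncl N Y M hM n, hinclN n⟩ : Nt).2⟩ : Gt) = ι n := Subtype.ext rfl
    rw [h2] at h1
    rw [h1, hν, MonoidHom.inv_apply, hlamι, inv_one, Units.val_one, one_mul]
  have hβtriv : ∀ y : N₀, (β : Gt → ℂ) y = (β : Gt → ℂ) 1 := by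
    rintro ⟨_, n, rfl⟩
    exact hβι n
  have hχt : IsIrrCharacter Gt ((β : Gt → ℂ) * πG) :=
    isIrrCharacter_mul_of_trivial_on N₀ πG hπG hπres β hβtriv
  -- triviality on the kernel of the projection
  have hker : ∀ z : Gt, pr' z = 1 → ((β : Gt → ℂ) * πG) z = ((β : Gt → ℂ) * πG) 1 := by
    intro z hz
    have hz1 : pr (z : extGroup N Y M) = 1 := by
      rw [← hpr'coe, hz]
      rfl
    have hzN : (z : extGroup N Y M) ∈ Nt := by
      show pr (z : extGroup N Y M) ∈ N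
      rw [hz1]
      exact N.one_mem
    have h1 := hβN ⟨z, hzN⟩
    have h2 : (⟨((⟨z, hzN⟩ : Nt) : extGroup N Y M), hNtGt hzN⟩ : Gt) = z := Subtype.ext rfl
    rw [h2] at h1
    have h3 : πG z = (lam ⟨z, hzN⟩ : ℂ) * πG 1 := by
      show LinearMap.trace ℂ _ (extRep N Y M (z : extGroup N Y M)) =
        (lam ⟨z, hzN⟩ : ℂ) * LinearMap.trace ℂ _ (ρG 1)
      rw [extLam_spec N Y M hYirr ⟨z, hzN⟩, map_smul, smul_eq_mul, map_one]
      have h4 : (⟨extFst N Y M (z : extGroup N Y M), hzN⟩ : N) = 1 := Subtype.ext hz1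
      rw [h4, map_one]
      rfl
    rw [Pi.mul_apply, Pi.mul_apply, h1, h3]
    have h5 : (ν ⟨z, hzN⟩ : ℂ) * (lam ⟨z, hzN⟩ : ℂ) = 1 := by
      rw [hν, MonoidHom.inv_apply, ← Units.val_mul, inv_mul_cancel, Units.val_one]
    calc (ν ⟨z, hzN⟩ : ℂ) * (β : Gt → ℂ) 1 * ((lam ⟨z, hzN⟩ : ℂ) * πG 1)
        = ((ν ⟨z, hzN⟩ : ℂ) * (lam ⟨z, hzN⟩ : ℂ)) * ((β : Gt → ℂ) 1 * πG 1) := by ring
      _ = (β : Gt → ℂ) 1 * πG 1 := by rw [h5, one_mul]
  obtain ⟨χ, hχ⟩ := exists_deflation_of_surjective pr' hpr's ⟨_, hχt⟩ hker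
  refine ⟨χ, ?_, ?_⟩
  · have h1 : (fun n : N => (χ : G → ℂ) ⟨n, hNG n.2⟩) =
        ((β : Gt → ℂ) 1) • (θ : N → ℂ) := by
      funext n
      have h2 : (⟨n, hNG n.2⟩ : G) = pr' (ι n) := Subtype.ext rfl
      rw [h2, hχ]
      show (β : Gt → ℂ) (ι n) * πG (ι n) = _
      rw [hβι, hπGι]
      rfl
    rw [h1, classInner_smul_left, irr_classInner_self θ.2, mul_one]
    exact irr_one_ne_zero β
  · intro x g
    obtain ⟨xt, rfl⟩ := hpr x
    obtain ⟨gt, rfl⟩ := hpr's g
    have h1 : (⟨pr xt * ((pr' gt : G) : Γ) * (pr xt)⁻¹,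
        hG.conj_mem (pr' gt) (pr' gt).2 (pr xt)⟩ : G) =
        pr' ⟨xt * gt * xt⁻¹, hGtn.conj_mem gt gt.2 xt⟩ := by
      apply Subtype.ext
      show pr xt * pr (gt : extGroup N Y M) * (pr xt)⁻¹ = pr (xt * (gt : extGroup N Y M) * xt⁻¹)
      rw [map_mul, map_mul, map_inv]
    rw [h1, hχ, hχ]
    show (β : Gt → ℂ) ⟨xt * gt * xt⁻¹, hGtn.conj_mem gt gt.2 xt⟩ *
      πG ⟨xt * gt * xt⁻¹, hGtn.conj_mem gt gt.2 xt⟩ = (β : Gt → ℂ) gt * πG gt
    rw [hβinv]
    congr 1
    show (extRep N Y M).character (xt * (gt : extGroup N Y M) * xt⁻¹) =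
      (extRep N Y M).character (gt : extGroup N Y M)
    exact Representation.char_conj _ _ _

end Cfsg.Agent.Lib.H24.InvOver
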