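import Mathlib
import Cfsg.Agent.Lib.H24.CentralMod
import Cfsg.Agent.Lib.H24.CharDefl
import Cfsg.Agent.Lib.H24.CharLinearMul
import Cfsg.Agent.Lib.H24.CharAbelian
import Cfsg.Agent.Lib.H8.CharConstituent

/-!
# Same-degree characters Galois conjugate: general character lemmas (helper24, for S4845)

* `relCenter N` : the preimage of the centre of `G ⧸ N`; `Zc χ` the centre of a character.
* `exists_gen_Zc` : `Z(χ) / ker χ` is cyclic.
* `vanish_off_Zc`, `sq_mul_card_Zc` : fully ramified situation.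
* `charDegree_mul_card_le'` : `χ(1) |A| ≤ |G|` if `A' ≤ ker χ`.
* `exists_nonlinear`, `ker_eq_of_galois`, `ker_le_commutator`, `le_or_le_of_H`.
-/

set_option autoImplicit false

namespace Cfsg.Agent.Lib.H24.PGalConj

open scoped ComplexConjugate commutatorElement
open Cfsg Cfsg.Agent.Lib.L0 Cfsg.Agent.Lib.H24

section general

variable {G : Type*} [Group G] [Finite G]

/-- The kernel of an irreducible character. -/
noncomputable abbrev ker (χ : IrrCharacter G) : Subgroup G :=
  charKer (χ : G → ℂ) (isCharacter_of_irr χ.2)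

theorem mem_ker {χ : IrrCharacter G} {g : G} :
    g ∈ ker χ ↔ (χ : G → ℂ) g = (χ : G → ℂ) 1 := Iff.rfl

/-- The hypothesis of S4845. -/
def SameDegGalConj (G : Type*) [Group G] : Prop :=
  ∀ χ ψ : IrrCharacter G, charDegree (χ : G → ℂ) ≠ 1 →
    charDegree (χ : G → ℂ) = charDegree (ψ : G → ℂ) →
    ∃ k : ℕ, Nat.Coprime k (Nat.card G) ∧ ∀ g : G, (ψ : G → ℂ) g = (χ : G → ℂ) (g ^ k)

/-- The preimage of the centre of `G ⧸ N`. -/
def relCenter (N : Subgroup G) [N.Normal] : Subgroup G :=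
  (Subgroup.center (G ⧸ N)).comap (QuotientGroup.mk' N)

theorem mem_relCenter (N : Subgroup G) [N.Normal] (z : G) :
    z ∈ relCenter N ↔ ∀ g : G, z * g * z⁻¹ * g⁻¹ ∈ N := by
  unfold relCenter
  rw [Subgroup.mem_comap, Subgroup.mem_center_iff]
  constructor
  · intro h g
    have h1 := h (QuotientGroup.mk' N g)
    rw [← map_mul, ← map_mul] at h1
    have h2 : (QuotientGroup.mk' N) (z * g * z⁻¹ * g⁻¹) = 1 := by
      have e : z * g * z⁻¹ * g⁻¹ = (z * g) * (g * z)⁻¹ := by group
      rw [e, map_mul, map_inv, h1, mul_inv_cancel]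
    exact (QuotientGroup.eq_one_iff _).mp h2
  · intro h q
    obtain ⟨g, rfl⟩ := QuotientGroup.mk'_surjective N q
    have h2 : (QuotientGroup.mk' N) (z * g * z⁻¹ * g⁻¹) = 1 :=
      (QuotientGroup.eq_one_iff _).mpr (h g)
    have e : z * g = (z * g * z⁻¹ * g⁻¹) * (g * z) := by group
    have key : (QuotientGroup.mk' N) (z * g) = (QuotientGroup.mk' N) (g * z) := by
      conv_lhs => rw [e, map_mul, h2, one_mul]
    rw [← map_mul, ← map_mul, key]

instance relCenter_normal (N : Subgroup G) [N.Normal] : (relCenter N).Normal := by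
  unfold relCenter
  infer_instance

theorem le_relCenter (N : Subgroup G) [N.Normal] : N ≤ relCenter N := by
  intro n hn
  rw [mem_relCenter]
  intro g
  have h1 : g * n⁻¹ * g⁻¹ ∈ N := Subgroup.Normal.conj_mem inferInstance _ (N.inv_mem hn) g
  have e : n * g * n⁻¹ * g⁻¹ = n * (g * n⁻¹ * g⁻¹) := by group
  rw [e]
  exact N.mul_mem hn h1

theorem center_le_relCenter (N : Subgroup G) [N.Normal] : Subgroup.center G ≤ relCenter N := by
  intro z hz
  rw [mem_relCenter]
  intro g
  have h1 : g * z = z * g := Subgroup.mem_center_iff.mp hz g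
  have e : z * g * z⁻¹ * g⁻¹ = 1 := by
    rw [← h1]; group
  rw [e]
  exact N.one_mem

/-- The centre of an irreducible character. -/
noncomputable abbrev Zc (χ : IrrCharacter G) : Subgroup G := relCenter (ker χ)

theorem mem_Zc {χ : IrrCharacter G} {z : G} :
    z ∈ Zc χ ↔ ∀ g : G, (χ : G → ℂ) (z * g * z⁻¹ * g⁻¹) = (χ : G → ℂ) 1 :=
  mem_relCenter _ z

/-- The scalar by which an element of `Z(χ)` acts. -/
theorem apply_mul_of_mem_Zc {χ : IrrCharacter G} {z : G} (hz : z ∈ Zc χ) (g : G) :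
    (χ : G → ℂ) (z * g) = (χ : G → ℂ) z / (χ : G → ℂ) 1 * (χ : G → ℂ) g := by
  obtain ⟨ω, hω⟩ := exists_scalar_of_commutator_ker χ.2 z (mem_Zc.mp hz)
  have h1 := hω 1
  rw [mul_one] at h1
  have hne : (χ : G → ℂ) 1 ≠ 0 := irr_one_ne_zero χ
  have h2 : ω = (χ : G → ℂ) z / (χ : G → ℂ) 1 := by
    rw [h1]; field_simp
  rw [hω g, h2]

/-- The central character of `χ` on `Z(χ)`. -/
noncomputable def centralHom (χ : IrrCharacter G) : (Zc χ) →* ℂ where
  toFun z := (χ : G → ℂ) z / (χ : G → ℂ) 1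
  map_one' := by
    have hne : (χ : G → ℂ) 1 ≠ 0 := irr_one_ne_zero χ
    simp only [Subgroup.coe_one]
    exact div_self hne
  map_mul' := by
    intro z w
    have hne : (χ : G → ℂ) 1 ≠ 0 := irr_one_ne_zero χ
    simp only [Subgroup.coe_mul]
    rw [apply_mul_of_mem_Zc z.2]
    field_simp

theorem centralHom_apply (χ : IrrCharacter G) (z : Zc χ) :
    centralHom χ z = (χ : G → ℂ) z / (χ : G → ℂ) 1 := rfl

theorem centralHom_eq_one_iff (χ : IrrCharacter G) (z : Zc χ) :
    centralHom χ z = 1 ↔ (z : G) ∈ ker χ := by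
  have hne : (χ : G → ℂ) 1 ≠ 0 := irr_one_ne_zero χ
  rw [centralHom_apply, div_eq_one_iff_eq hne, mem_ker]

/-- `Z(χ) / ker χ` is cyclic. -/
theorem exists_gen_Zc (χ : IrrCharacter G) :
    ∃ a ∈ Zc χ, ∀ z ∈ Zc χ, ∃ k : ℤ, z⁻¹ * a ^ k ∈ ker χ := by
  classical
  let F : (Zc χ) →* ℂˣ := (centralHom χ).toHomUnits
  have hF : ∀ z : Zc χ, ((F z : ℂˣ) : ℂ) = centralHom χ z := fun z => rfl
  haveI : Finite F.range := by
    have : Finite (Zc χ) := inferInstance
    exact Set.finite_range F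
  obtain ⟨⟨w, hw⟩, hgen⟩ := IsCyclic.exists_generator (α := F.range)
  obtain ⟨a, ha⟩ := hw
  refine ⟨a, a.2, ?_⟩
  intro z hz
  have h1 := hgen ⟨F ⟨z, hz⟩, ⟨⟨z, hz⟩, rfl⟩⟩
  obtain ⟨k, hk⟩ := Subgroup.mem_zpowers_iff.mp h1
  refine ⟨k, ?_⟩
  have h2 : F (a ^ k) = F ⟨z, hz⟩ := by
    have := congrArg Subtype.val hk
    simp only [Subgroup.coe_zpow] at this
    rw [map_zpow, ha]
    exact this
  have h3 : F (⟨z, hz⟩⁻¹ * a ^ k) = 1 := by
    rw [map_mul, map_inv, h2, inv_mul_cancel]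
  have h4 : centralHom χ (⟨z, hz⟩⁻¹ * a ^ k) = 1 := by
    rw [← hF, h3]
    rfl
  have h5 := (centralHom_eq_one_iff χ _).mp h4
  simpa using h5

/-- If `G' ≤ Z(χ)` then `χ` vanishes off `Z(χ)`. -/
theorem vanish_off_Zc (χ : IrrCharacter G) (h : commutator G ≤ Zc χ) (g : G) (hg : g ∉ Zc χ) :
    (χ : G → ℂ) g = 0 := by
  rw [mem_Zc] at hg
  push Not at hg
  obtain ⟨x, hx⟩ := hg
  set z := g * x * g⁻¹ * x⁻¹ with hzdef
  have hzc : z ∈ commutator G := by
    have : z = ⁅g, x⁆ := rfl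
    rw [this]
    exact Subgroup.commutator_mem_commutator (Subgroup.mem_top g) (Subgroup.mem_top x)
  have hzZ : z ∈ Zc χ := h hzc
  have h1 := apply_mul_of_mem_Zc hzZ (x * g * x⁻¹)
  have e : z * (x * g * x⁻¹) = g := by
    rw [hzdef]; group
  rw [e] at h1
  have hcl : (χ : G → ℂ) (x * g * x⁻¹) = (χ : G → ℂ) g := by
    have := isClassFunction_irr χ
    exact this g x
  rw [hcl] at h1
  have hne : (χ : G → ℂ) 1 ≠ 0 := irr_one_ne_zero χ
  have hω : (χ : G → ℂ) z / (χ : G → ℂ) 1 ≠ 1 := by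
    intro h2
    rw [div_eq_one_iff_eq hne] at h2
    exact hx h2
  by_contra h0
  apply hω
  have h3 : (χ : G → ℂ) z / (χ : G → ℂ) 1 * (χ : G → ℂ) g = 1 * (χ : G → ℂ) g := by
    rw [one_mul]; exact h1.symm
  exact mul_right_cancel₀ h0 h3

/-- If `χ` vanishes off `Z(χ)` then `χ(1)² |Z(χ)| = |G|`. -/
theorem sq_mul_card_Zc (χ : IrrCharacter G) (h : ∀ g ∉ Zc χ, (χ : G → ℂ) g = 0) :
    charDegree (χ : G → ℂ) ^ 2 * Nat.card (Zc χ) = Nat.card G := by
  classical
  have := Fintype.ofFinite G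
  have h1 := sum_mul_conj_eq_card χ.2
  have h2 : ∀ g : G, (χ : G → ℂ) g * conj ((χ : G → ℂ) g) =
      if g ∈ Zc χ then (χ : G → ℂ) 1 ^ 2 else 0 := by
    intro g
    split_ifs with hg
    · exact mul_conj_of_commutator_ker χ.2 g (mem_Zc.mp hg)
    · rw [h g hg, zero_mul]
  rw [Finset.sum_congr rfl (fun g _ => h2 g), Finset.sum_ite, Finset.sum_const_zero, add_zero,
    Finset.sum_const, nsmul_eq_mul, Cfsg.Agent.Lib.H23.apply_one_eq_charDegree _ χ.2] at h1
  have h3 : (Finset.univ.filter (fun g : G => g ∈ Zc χ)).card = Nat.card (Zc χ) := by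
    rw [Nat.card_eq_fintype_card, Fintype.card_subtype]
  rw [h3] at h1
  have h4 : ((charDegree (χ : G → ℂ) ^ 2 * Nat.card (Zc χ) : ℕ) : ℂ) = (Nat.card G : ℂ) := by
    rw [← h1]; push_cast; ring
  exact_mod_cast h4

/-- Linear characters contain the commutator subgroup in their kernel. -/
theorem commutator_le_ker_of_linear (χ : IrrCharacter G) (h : charDegree (χ : G → ℂ) = 1) :
    commutator G ≤ ker χ := by
  have h1 : (χ : G → ℂ) 1 = 1 := by
    rw [Cfsg.Agent.Lib.H23.apply_one_eq_charDegree _ χ.2, h]; simp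
  rw [commutator_def, Subgroup.commutator_le]
  intro a _ b _
  rw [mem_ker, h1]
  exact linear_commutator (isCharacter_of_irr χ.2) h1 a b

/-- Characters whose kernel contains all commutators are linear. -/
theorem linear_of_commutator_le_ker (χ : IrrCharacter G) (h : commutator G ≤ ker χ) :
    charDegree (χ : G → ℂ) = 1 := by
  have h1 : (χ : G → ℂ) 1 = 1 := by
    apply linear_of_commutator_ker χ.2
    intro a b
    have : a * b * a⁻¹ * b⁻¹ ∈ commutator G := by
      have e : a * b * a⁻¹ * b⁻¹ = ⁅a, b⁆ := rfl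
      rw [e]
      exact Subgroup.commutator_mem_commutator (Subgroup.mem_top a) (Subgroup.mem_top b)
    exact h this
  exact Cfsg.Agent.Lib.H23.charDegree_eq_of_apply_one (by rw [h1]; simp)

/-- A nonlinear irreducible character with prescribed kernel behaviour. -/
theorem exists_nonlinear (N : Subgroup G) [N.Normal] {c : G} (hc : c ∈ commutator G)
    (hcN : c ∉ N) :
    ∃ χ : IrrCharacter G, N ≤ ker χ ∧ c ∉ ker χ ∧ charDegree (χ : G → ℂ) ≠ 1 := by
  obtain ⟨χ, h1, h2, -⟩ := exists_irr_two_not_ker_rel N hcN hcN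
  refine ⟨χ, fun n hn => h1 n hn, h2, ?_⟩
  intro hlin
  exact h2 (commutator_le_ker_of_linear χ hlin hc)

/-- Galois conjugate characters have the same kernel. -/
theorem ker_eq_of_galois (χ ψ : IrrCharacter G) (k : ℕ) (hk : Nat.Coprime k (Nat.card G))
    (h : ∀ g : G, (ψ : G → ℂ) g = (χ : G → ℂ) (g ^ k)) : ker ψ = ker χ := by
  ext g
  rw [mem_ker, mem_ker, h g, h 1, one_pow]
  constructor
  · intro h1
    have h2 : g ^ k ∈ ker χ := h1
    have hco : Nat.Coprime k (orderOf g) :=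
      Nat.Coprime.coprime_dvd_right (orderOf_dvd_natCard g) hk
    obtain ⟨m, hm⟩ := exists_pow_eq_self_of_coprime hco
    have h3 : (g ^ k) ^ m ∈ ker χ := (ker χ).pow_mem h2 m
    rw [hm] at h3
    exact h3
  · intro h1
    have h2 : g ∈ ker χ := h1
    exact (ker χ).pow_mem h2 k

/-- Under the hypothesis, nonlinear irreducible characters have kernel inside `G'`. -/
theorem ker_le_commutator (hH : SameDegGalConj G) (χ : IrrCharacter G)
    (hχ : charDegree (χ : G → ℂ) ≠ 1) : ker χ ≤ commutator G := by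
  intro g hg
  by_contra hgc
  -- a linear character not killing `g`
  have hne : (Abelianization.of g : Abelianization G) ≠ 1 := by
    intro h1
    apply hgc
    have : g ∈ (Abelianization.of : G →* Abelianization G).ker := h1
    rw [Abelianization.ker_of] at this
    exact this
  haveI : NeZero ((Monoid.exponent (Abelianization G) : ℕ) : ℂ) := by
    constructor
    have : Monoid.exponent (Abelianization G) ≠ 0 := Monoid.exponent_ne_zero_of_finite
    exact_mod_cast this
  obtain ⟨f₀, hf₀⟩ :=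
    CommGroup.exists_apply_ne_one_of_hasEnoughRootsOfUnity (Abelianization G) ℂ hne
  let f : G →* ℂˣ := f₀.comp Abelianization.of
  have hfg : f g ≠ 1 := hf₀
  let ψ : IrrCharacter G := ⟨fun h => (χ : G → ℂ) h * (f h : ℂ), isIrrCharacter_mul_hom _ χ.2 f⟩
  have hψ1 : (ψ : G → ℂ) 1 = (χ : G → ℂ) 1 := by
    show (χ : G → ℂ) 1 * (f 1 : ℂ) = (χ : G → ℂ) 1
    rw [map_one, Units.val_one, mul_one]
  have hdeg : charDegree (χ : G → ℂ) = charDegree (ψ : G → ℂ) := by
    unfold charDegree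
    rw [hψ1]
  obtain ⟨k, -, hk⟩ := hH χ ψ hχ hdeg
  have h1 := hk g
  have h2 : (ψ : G → ℂ) g = (χ : G → ℂ) g * (f g : ℂ) := rfl
  have h3 : (χ : G → ℂ) (g ^ k) = (χ : G → ℂ) 1 := (ker χ).pow_mem hg k
  rw [h2, h3, mem_ker.mp hg] at h1
  have hne1 : (χ : G → ℂ) 1 ≠ 0 := irr_one_ne_zero χ
  have h4 : (f g : ℂ) = 1 := by
    have : (χ : G → ℂ) 1 * (f g : ℂ) = (χ : G → ℂ) 1 * 1 := by rw [mul_one]; exact h1
    exact mul_left_cancel₀ hne1 this
  exact hfg (Units.ext h4)

/-- Under the hypothesis, every normal subgroup is comparable with `G'`. -/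
theorem le_or_le_of_H (hH : SameDegGalConj G) (M : Subgroup G) [M.Normal] :
    commutator G ≤ M ∨ M ≤ commutator G := by
  by_cases h : commutator G ≤ M
  · exact Or.inl h
  · right
    obtain ⟨c, hc, hcM⟩ := SetLike.not_le_iff_exists.mp h
    obtain ⟨χ, h1, -, h3⟩ := exists_nonlinear M hc hcM
    exact h1.trans (ker_le_commutator hH χ h3)

/-- `χ(1) |A| ≤ |G|` when `A' ≤ ker χ`. -/
theorem charDegree_mul_card_le' (χ : IrrCharacter G) (A : Subgroup G)
    (hA : ∀ a ∈ A, ∀ b ∈ A, a * b * a⁻¹ * b⁻¹ ∈ ker χ) :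
    charDegree (χ : G → ℂ) * Nat.card A ≤ Nat.card G := by
  classical
  have := Fintype.ofFinite G
  have := Fintype.ofFinite A
  have hχA : IsCharacter A (fun a : A => (χ : G → ℂ) a) :=
    isCharacter_restrict A (isCharacter_of_irr χ.2)
  obtain ⟨l, hl, hsum⟩ := isCharacter_exists_irr_decomp hχA
  have hne : l ≠ [] := by
    rintro rfl
    have := congrFun hsum 1
    simp only [List.sum_nil, Pi.zero_apply, OneMemClass.coe_one] at this
    exact irr_one_ne_zero χ this
  obtain ⟨lam, hlam⟩ := List.exists_mem_of_ne_nil l hne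
  have hlamirr := hl lam hlam
  have hinner : classInner (fun a : A => (χ : G → ℂ) a) lam ≠ 0 := by
    rw [hsum, classInner_irr_list_sum hl hlamirr]
    have : 0 < l.count lam := List.count_pos_iff.mpr hlam
    exact_mod_cast this.ne'
  have hlam1 : lam 1 = 1 := by
    apply linear_of_commutator_ker hlamirr
    intro a b
    apply Cfsg.Agent.Lib.H8.constituent_apply_eq_one hχA hlamirr hinner
    have := hA a a.2 b b.2
    rw [mem_ker] at this
    simpa using this
  have hfrob : classInner (indFun A lam) (χ : G → ℂ) ≠ 0 := by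
    rw [frobenius_reciprocity A lam _ (isClassFunction_irr χ), ← classInner_conj_symm]
    intro h
    exact hinner ((map_eq_zero _).mp h)
  have hind : IsCharacter G (indFun A lam) := isCharacter_indFun A (isCharacter_of_irr hlamirr)
  have hdeg := charDegree_le_of_constituent hind χ hfrob A.index (by
    rw [indFun_one, hlam1, mul_one])
  calc charDegree (χ : G → ℂ) * Nat.card A ≤ A.index * Nat.card A := Nat.mul_le_mul_right _ hdeg
    _ = Nat.card G := Subgroup.index_mul_card A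

end general

end Cfsg.Agent.Lib.H24.PGalConj
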