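import Cfsg.Agent.Lib.H24.CharFS
import Cfsg.Agent.Lib.H24.CharSchur
import Cfsg.Agent.Lib.H24.CharComplete

/-!
# Frobenius–Schur indicator: the trichotomy (helper24's library)

* `invariant_submodule_eq_bot_or_top` : invariant submodules of an irreducible representation.
* `IsInvForm ρ B` : `B` is a `ρ`-invariant bilinear form; `IsInvForm.ker_eq_bot`, `IsInvForm.eq_smul`
  (Schur: invariant forms on an irreducible representation form a space of dimension at most one).
* `avgForm ρ B` : the average of `B` over the group.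
* `fsInd_rep_cases` : for irreducible `ρ` with character `χ`, either `ν(χ) = 0` and `χ` is not
  real-valued, or `ν(χ) = ±1` and `χ` is real-valued.
-/

set_option autoImplicit false

namespace Cfsg.Agent.Lib.H24

open scoped ComplexConjugate
open Cfsg Cfsg.Agent.Lib.L0

section invsub

variable {G : Type*} [Group G] {V : Type*} [AddCommGroup V] [Module ℂ V]

theorem invariant_submodule_eq_bot_or_top (ρ : Representation ℂ G V) (hρ : ρ.IsIrreducible)
    (p : Submodule ℂ V) (hp : ∀ g : G, ∀ v ∈ p, ρ g v ∈ p) : p = ⊥ ∨ p = ⊤ := by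
  have := hρ
  let σ : Subrepresentation ρ := ⟨p, fun g v hv => hp g v hv⟩
  rcases IsSimpleOrder.eq_bot_or_eq_top σ with h | h
  · left; exact congrArg Subrepresentation.toSubmodule h
  · right; exact congrArg Subrepresentation.toSubmodule h

/-- `B` is a `ρ`-invariant bilinear form. -/
def IsInvForm (ρ : Representation ℂ G V) (B : V →ₗ[ℂ] V →ₗ[ℂ] ℂ) : Prop :=
  ∀ (g : G) (v w : V), B (ρ g v) (ρ g w) = B v w

theorem IsInvForm.apply_left {ρ : Representation ℂ G V} {B : V →ₗ[ℂ] V →ₗ[ℂ] ℂ}
    (hB : IsInvForm ρ B) (g : G) (v w : V) : B (ρ g v) w = B v (ρ g⁻¹ w) := by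
  have h := hB g v (ρ g⁻¹ w)
  rw [← h]
  congr 1
  rw [← Module.End.mul_apply, ← map_mul, mul_inv_cancel, map_one, Module.End.one_apply]

theorem IsInvForm.flip {ρ : Representation ℂ G V} {B : V →ₗ[ℂ] V →ₗ[ℂ] ℂ}
    (hB : IsInvForm ρ B) : IsInvForm ρ B.flip := by
  intro g v w
  simp only [LinearMap.flip_apply]
  exact hB g w v

theorem IsInvForm.ker_eq_bot {ρ : Representation ℂ G V} (hρ : ρ.IsIrreducible)
    {B : V →ₗ[ℂ] V →ₗ[ℂ] ℂ} (hB : IsInvForm ρ B) (hne : B ≠ 0) : LinearMap.ker B = ⊥ := by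
  have hinv : ∀ g : G, ∀ v ∈ LinearMap.ker B, ρ g v ∈ LinearMap.ker B := by
    intro g v hv
    rw [LinearMap.mem_ker] at hv ⊢
    ext w
    rw [hB.apply_left, hv]
    simp
  rcases invariant_submodule_eq_bot_or_top ρ hρ (LinearMap.ker B) hinv with h | h
  · exact h
  · exfalso
    exact hne (LinearMap.ker_eq_top.mp h)

theorem IsInvForm.eq_smul [FiniteDimensional ℂ V] {ρ : Representation ℂ G V}
    (hρ : ρ.IsIrreducible) {B B' : V →ₗ[ℂ] V →ₗ[ℂ] ℂ} (hB : IsInvForm ρ B)
    (hB' : IsInvForm ρ B') (hne : B ≠ 0) : ∃ c : ℂ, B' = c • B := by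
  have hker := hB.ker_eq_bot hρ hne
  have hinj : Function.Injective B := LinearMap.ker_eq_bot.mp hker
  have hbij : Function.Bijective B := by
    refine ⟨hinj, ?_⟩
    have hfr : Module.finrank ℂ V = Module.finrank ℂ (V →ₗ[ℂ] ℂ) :=
      (Subspace.dual_finrank_eq (K := ℂ) (V := V)).symm
    exact (LinearMap.injective_iff_surjective_of_finrank_eq_finrank hfr).mp hinj
  let e : V ≃ₗ[ℂ] (V →ₗ[ℂ] ℂ) := LinearEquiv.ofBijective B hbij
  let T : V →ₗ[ℂ] V := e.symm.toLinearMap ∘ₗ B'
  have h1 : ∀ x, B (T x) = B' x := fun x => e.apply_symm_apply (B' x)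
  have hT : ∀ g, T ∘ₗ ρ g = ρ g ∘ₗ T := by
    intro g
    ext v
    apply hinj
    ext w
    simp only [LinearMap.comp_apply]
    rw [h1, hB'.apply_left, hB.apply_left, h1]
  have hsc := schur_scalar ρ hρ T hT
  refine ⟨LinearMap.trace ℂ V T / (Module.finrank ℂ V : ℂ), ?_⟩
  ext v w
  rw [← h1 v]
  conv_lhs => rw [hsc]
  simp

end invsub

section avg

variable {G : Type*} [Group G] [Fintype G] {V : Type*} [AddCommGroup V] [Module ℂ V]

/-- The average of a bilinear form over the group. -/
noncomputable def avgForm (ρ : Representation ℂ G V) (B : V →ₗ[ℂ] V →ₗ[ℂ] ℂ) :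
    V →ₗ[ℂ] V →ₗ[ℂ] ℂ :=
  (Nat.card G : ℂ)⁻¹ • ∑ g : G, B.compl₁₂ (ρ g) (ρ g)

theorem avgForm_apply (ρ : Representation ℂ G V) (B : V →ₗ[ℂ] V →ₗ[ℂ] ℂ) (v w : V) :
    avgForm ρ B v w = (Nat.card G : ℂ)⁻¹ * ∑ g : G, B (ρ g v) (ρ g w) := by
  simp [avgForm, LinearMap.sum_apply, LinearMap.compl₁₂_apply]

theorem isInvForm_avgForm (ρ : Representation ℂ G V) (B : V →ₗ[ℂ] V →ₗ[ℂ] ℂ) :
    IsInvForm ρ (avgForm ρ B) := by
  intro h v w
  rw [avgForm_apply, avgForm_apply]
  congr 1
  refine Fintype.sum_equiv (Equiv.mulRight h) _ _ (fun g => ?_)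
  simp [map_mul]

variable [FiniteDimensional ℂ V] {ι : Type*} [Fintype ι] [DecidableEq ι]

/-- The elementary bilinear form `(v, w) ↦ bᵢ*(v) bⱼ*(w)`. -/
noncomputable def elemForm (b : Module.Basis ι ℂ V) (i j : ι) : V →ₗ[ℂ] V →ₗ[ℂ] ℂ :=
  (b.coord i).smulRight (b.coord j)

theorem elemForm_apply (b : Module.Basis ι ℂ V) (i j : ι) (v w : V) :
    elemForm b i j v w = b.repr v i * b.repr w j := by
  simp [elemForm]

theorem character_eq_sum_repr (ρ : Representation ℂ G V) (b : Module.Basis ι ℂ V) (g : G) :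
    ρ.character g = ∑ i, b.repr (ρ g (b i)) i := by
  rw [Representation.character, LinearMap.trace_eq_matrix_trace ℂ b, Matrix.trace]
  simp [LinearMap.toMatrix_apply]

theorem character_mul_self_eq_sum_repr (ρ : Representation ℂ G V) (b : Module.Basis ι ℂ V)
    (g : G) :
    ρ.character (g * g) = ∑ i, ∑ j, b.repr (ρ g (b j)) i * b.repr (ρ g (b i)) j := by
  rw [Representation.character, map_mul, LinearMap.trace_eq_matrix_trace ℂ b,
    LinearMap.toMatrix_mul, Matrix.trace]
  simp [Matrix.mul_apply, LinearMap.toMatrix_apply]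

theorem fsInd_eq_sum_avgForm (ρ : Representation ℂ G V) (b : Module.Basis ι ℂ V) :
    fsInd ρ.character = ∑ i, ∑ j, avgForm ρ (elemForm b i j) (b j) (b i) := by
  simp only [fsInd, avgForm_apply, elemForm_apply, character_mul_self_eq_sum_repr ρ b]
  rw [Finset.mul_sum]
  simp only [Finset.mul_sum]
  rw [Finset.sum_comm]
  refine Finset.sum_congr rfl (fun i _ => ?_)
  rw [Finset.sum_comm]

theorem sum_sq_eq_sum_avgForm (ρ : Representation ℂ G V) (b : Module.Basis ι ℂ V) :
    (Nat.card G : ℂ)⁻¹ * ∑ g : G, ρ.character g * ρ.character g =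
      ∑ i, ∑ j, avgForm ρ (elemForm b i j) (b i) (b j) := by
  have h : ∀ g : G, ρ.character g * ρ.character g =
      ∑ i, ∑ j, b.repr (ρ g (b i)) i * b.repr (ρ g (b j)) j := by
    intro g
    rw [character_eq_sum_repr ρ b g, Finset.sum_mul_sum]
  simp only [h, avgForm_apply, elemForm_apply, Finset.mul_sum]
  rw [Finset.sum_comm]
  refine Finset.sum_congr rfl (fun i _ => ?_)
  rw [Finset.sum_comm]

end avg

section main

variable {G : Type*} [Group G] [Fintype G] {V : Type*} [AddCommGroup V] [Module ℂ V]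
  [FiniteDimensional ℂ V]

theorem sum_sq_eq_of_irreducible (ρ : Representation ℂ G V) (hρ : ρ.IsIrreducible)
    [Decidable (∀ s : G, (ρ.character s).im = 0)] :
    (Nat.card G : ℂ)⁻¹ * ∑ g : G, ρ.character g * ρ.character g =
      if ∀ s : G, (ρ.character s).im = 0 then 1 else 0 := by
  classical
  have hχ : IsIrrCharacter G ρ.character := isIrrCharacter_of_irreducible ρ hρ
  have hχc := isIrrCharacter_conj hχ
  have h1 : (Nat.card G : ℂ)⁻¹ * ∑ g : G, ρ.character g * ρ.character g =
      classInner ρ.character (fun g => conj (ρ.character g)) := by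
    simp only [classInner, Complex.conj_conj]
  rw [h1, irr_classInner_eq hχ hχc]
  have hiff : (ρ.character = fun g => conj (ρ.character g)) ↔ ∀ s : G, (ρ.character s).im = 0 := by
    constructor
    · intro h s
      exact Complex.conj_eq_iff_im.mp (congrFun h s).symm
    · intro h
      funext s
      exact (Complex.conj_eq_iff_im.mpr (h s)).symm
  simp only [hiff]

/-- The Frobenius–Schur trichotomy for an irreducible representation. -/
theorem fsInd_rep_cases (ρ : Representation ℂ G V) (hρ : ρ.IsIrreducible) :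
    (fsInd ρ.character = 0 ∧ ∃ s : G, (ρ.character s).im ≠ 0) ∨
    ((fsInd ρ.character = 1 ∨ fsInd ρ.character = -1) ∧ ∀ s : G, (ρ.character s).im = 0) := by
  classical
  let b := Module.finBasis ℂ V
  have hν := fsInd_eq_sum_avgForm ρ b
  have hsq := sum_sq_eq_sum_avgForm ρ b
  rw [sum_sq_eq_of_irreducible ρ hρ] at hsq
  by_cases hall : ∀ i j, avgForm ρ (elemForm b i j) = 0
  · left
    simp only [hall, LinearMap.zero_apply, Finset.sum_const_zero] at hν hsq
    refine ⟨hν, ?_⟩
    by_contra hcon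
    push Not at hcon
    rw [if_pos hcon] at hsq
    exact one_ne_zero hsq
  · push Not at hall
    obtain ⟨i₀, j₀, hne⟩ := hall
    set B := avgForm ρ (elemForm b i₀ j₀) with hBdef
    have hB : IsInvForm ρ B := isInvForm_avgForm ρ _
    have hc : ∀ i j, ∃ c : ℂ, avgForm ρ (elemForm b i j) = c • B :=
      fun i j => hB.eq_smul hρ (isInvForm_avgForm ρ _) hne
    choose c hc using hc
    obtain ⟨ε, hε⟩ := hB.eq_smul hρ hB.flip hne
    have hflip : ∀ v w, B w v = ε * B v w := by
      intro v w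
      have h3 := congrArg (fun F : V →ₗ[ℂ] V →ₗ[ℂ] ℂ => F v w) hε
      simpa only [LinearMap.flip_apply, LinearMap.smul_apply, smul_eq_mul] using h3
    have hε2 : ε * ε = 1 := by
      by_contra hcon
      apply hne
      ext v w
      have h1 : B v w = ε * (ε * B v w) := by
        conv_lhs => rw [hflip w v, hflip v w]
      have h2 : (1 - ε * ε) * B v w = 0 := by linear_combination h1
      rcases mul_eq_zero.mp h2 with h4 | h4
      · exfalso; apply hcon; linear_combination -h4
      · simpa using h4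
    have hνε : fsInd ρ.character = ε * (if ∀ s : G, (ρ.character s).im = 0 then 1 else 0) := by
      rw [hν, hsq, Finset.mul_sum]
      refine Finset.sum_congr rfl (fun i _ => ?_)
      rw [Finset.mul_sum]
      refine Finset.sum_congr rfl (fun j _ => ?_)
      rw [hc i j]
      simp only [LinearMap.smul_apply, smul_eq_mul]
      rw [hflip (b i) (b j)]
      ring
    by_cases hreal : ∀ s : G, (ρ.character s).im = 0
    · right
      rw [if_pos hreal, mul_one] at hνε
      refine ⟨?_, hreal⟩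
      rw [hνε]
      have : (ε - 1) * (ε + 1) = 0 := by linear_combination hε2
      rcases mul_eq_zero.mp this with h | h
      · left; linear_combination h
      · right; linear_combination h
    · left
      rw [if_neg hreal, mul_zero] at hνε
      push Not at hreal
      exact ⟨hνε, hreal⟩

/-- For an irreducible representation with real-valued character there is a nonzero invariant
bilinear form `B` with `B.flip = ν • B`, where `ν` is the Frobenius–Schur indicator. -/
theorem exists_invForm_of_real (ρ : Representation ℂ G V) (hρ : ρ.IsIrreducible)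
    (hreal : ∀ s : G, (ρ.character s).im = 0) :
    ∃ B : V →ₗ[ℂ] V →ₗ[ℂ] ℂ, B ≠ 0 ∧ IsInvForm ρ B ∧ B.flip = fsInd ρ.character • B := by
  classical
  let b := Module.finBasis ℂ V
  have hν := fsInd_eq_sum_avgForm ρ b
  have hsq := sum_sq_eq_sum_avgForm ρ b
  rw [sum_sq_eq_of_irreducible ρ hρ, if_pos hreal] at hsq
  by_cases hall : ∀ i j, avgForm ρ (elemForm b i j) = 0
  · exfalso
    simp only [hall, LinearMap.zero_apply, Finset.sum_const_zero] at hsq
    exact one_ne_zero hsq
  · push Not at hall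
    obtain ⟨i₀, j₀, hne⟩ := hall
    set B := avgForm ρ (elemForm b i₀ j₀) with hBdef
    have hB : IsInvForm ρ B := isInvForm_avgForm ρ _
    have hc : ∀ i j, ∃ c : ℂ, avgForm ρ (elemForm b i j) = c • B :=
      fun i j => hB.eq_smul hρ (isInvForm_avgForm ρ _) hne
    choose c hc using hc
    obtain ⟨ε, hε⟩ := hB.eq_smul hρ hB.flip hne
    have hflip : ∀ v w, B w v = ε * B v w := by
      intro v w
      have h3 := congrArg (fun F : V →ₗ[ℂ] V →ₗ[ℂ] ℂ => F v w) hε
      simpa only [LinearMap.flip_apply, LinearMap.smul_apply, smul_eq_mul] using h3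
    have hνε : fsInd ρ.character = ε := by
      have h1 : fsInd ρ.character = ε * 1 := by
        rw [hν, hsq, Finset.mul_sum]
        refine Finset.sum_congr rfl (fun i _ => ?_)
        rw [Finset.mul_sum]
        refine Finset.sum_congr rfl (fun j _ => ?_)
        rw [hc i j]
        simp only [LinearMap.smul_apply, smul_eq_mul]
        rw [hflip (b i) (b j)]
        ring
      rw [h1, mul_one]
    exact ⟨B, hne, hB, by rw [hνε]; exact hε⟩

/-- The Frobenius–Schur trichotomy for an irreducible character. -/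
theorem fsInd_irr_cases (χ : IrrCharacter G) :
    (fsInd (χ : G → ℂ) = 0 ∧ ∃ s : G, ((χ : G → ℂ) s).im ≠ 0) ∨
    ((fsInd (χ : G → ℂ) = 1 ∨ fsInd (χ : G → ℂ) = -1) ∧ ∀ s : G, ((χ : G → ℂ) s).im = 0) := by
  obtain ⟨n, ρ, hρ, hχ⟩ := irr_exists_rep χ
  rw [← hχ]
  exact fsInd_rep_cases ρ hρ

theorem fsInd_eq_zero_of_not_real (χ : IrrCharacter G) (h : ∃ s : G, ((χ : G → ℂ) s).im ≠ 0) :
    fsInd (χ : G → ℂ) = 0 := by
  rcases fsInd_irr_cases χ with ⟨h0, _⟩ | ⟨_, hreal⟩
  · exact h0
  · obtain ⟨s, hs⟩ := h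
    exact absurd (hreal s) hs

theorem real_of_fsInd_ne_zero (χ : IrrCharacter G) (h : fsInd (χ : G → ℂ) ≠ 0) (s : G) :
    ((χ : G → ℂ) s).im = 0 := by
  rcases fsInd_irr_cases χ with ⟨h0, _⟩ | ⟨_, hreal⟩
  · exact absurd h0 h
  · exact hreal s

theorem fsInd_trivialIrr : fsInd (trivialIrr G : G → ℂ) = 1 := by
  have hG : (Nat.card G : ℂ) ≠ 0 := by exact_mod_cast (Nat.card_pos (α := G)).ne'
  simp only [fsInd, trivialIrr_apply, Finset.sum_const, Finset.card_univ, nsmul_eq_mul, mul_one,
    ← Nat.card_eq_fintype_card]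
  exact inv_mul_cancel₀ hG

end main

end Cfsg.Agent.Lib.H24
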