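import Cfsg.Agent.Lib.H24.CharConj

/-!
# Characters of groups of odd order (helper24's library)

* `eq_one_of_isConj_inv_of_odd` : in a group of odd order only `1` is conjugate to its inverse.
* `real_irr_eq_trivial_of_odd` : a real-valued irreducible character of an odd-order group is trivial.
-/

set_option autoImplicit false

namespace Cfsg.Agent.Lib.H24

open scoped ComplexConjugate
open Cfsg Cfsg.Agent.Lib.L0

section odd

variable {G : Type*} [Group G] [Finite G]

theorem eq_one_of_isConj_inv_of_odd (hodd : Odd (Nat.card G)) {g : G} (h : IsConj g g⁻¹) :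
    g = 1 := by
  obtain ⟨x, hx⟩ := isConj_iff.mp h
  -- x² commutes with g
  have hx2 : x ^ 2 * g = g * x ^ 2 := by
    have h1 : x * g = g⁻¹ * x := by
      rw [← hx]; group
    have h2 : x * g⁻¹ = g * x := by
      have := congrArg (fun z => g * z * g⁻¹) h1
      simp only [mul_assoc] at this
      have h3 : g * (x * (g * g⁻¹)) = g * (g⁻¹ * (x * g⁻¹)) := this
      rw [mul_inv_cancel, mul_one, mul_inv_cancel_left] at h3
      exact h3.symm
    calc x ^ 2 * g = x * (x * g) := by rw [pow_two, mul_assoc]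
      _ = x * (g⁻¹ * x) := by rw [h1]
      _ = (x * g⁻¹) * x := by rw [mul_assoc]
      _ = g * x * x := by rw [h2]
      _ = g * x ^ 2 := by rw [pow_two, mul_assoc]
  -- x is a power of x²
  have hox : Odd (orderOf x) := by
    have hdvd : orderOf x ∣ Nat.card G := orderOf_dvd_natCard x
    exact Odd.of_dvd_nat hodd hdvd
  obtain ⟨k, hk⟩ := hox
  have hxpow : (x ^ 2) ^ (k + 1) = x := by
    rw [← pow_mul, show 2 * (k + 1) = orderOf x + 1 by omega, pow_succ, pow_orderOf_eq_one, one_mul]
  have hcomm : x * g = g * x := by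
    have : Commute (x ^ 2) g := hx2
    have h2 := this.pow_left (k + 1)
    rw [hxpow] at h2
    exact h2
  have hgg : g = g⁻¹ := by
    rw [← hx, hcomm, mul_assoc, mul_inv_cancel, mul_one]
  have hg2 : g ^ 2 = 1 := by
    rw [pow_two]
    nth_rewrite 2 [hgg]
    exact mul_inv_cancel g
  have hog : orderOf g ∣ 2 := orderOf_dvd_of_pow_eq_one hg2
  have hog' : Odd (orderOf g) := Odd.of_dvd_nat hodd (orderOf_dvd_natCard g)
  have : orderOf g = 1 := by
    rcases (Nat.dvd_prime Nat.prime_two).mp hog with h1 | h2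
    · exact h1
    · rw [h2] at hog'; exact absurd hog' (by decide)
  exact orderOf_eq_one_iff.mp this

theorem card_real_classes_of_odd (hodd : Odd (Nat.card G)) :
    Nat.card {C : ConjClasses G // ∀ g : G, ConjClasses.mk g = C → IsConj g g⁻¹} = 1 := by
  rw [Nat.card_eq_one_iff_unique]
  refine ⟨⟨?_⟩, ⟨⟨ConjClasses.mk 1, ?_⟩⟩⟩
  · rintro ⟨C, hC⟩ ⟨D, hD⟩
    apply Subtype.ext
    obtain ⟨g, rfl⟩ := ConjClasses.mk_surjective C
    obtain ⟨h, rfl⟩ := ConjClasses.mk_surjective D
    change ConjClasses.mk g = ConjClasses.mk h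
    rw [eq_one_of_isConj_inv_of_odd hodd (hC g rfl), eq_one_of_isConj_inv_of_odd hodd (hD h rfl)]
  · intro g hg
    have : IsConj g 1 := ConjClasses.mk_eq_mk_iff_isConj.mp hg
    have hg1 : g = 1 := by
      obtain ⟨c, hc⟩ := isConj_iff.mp this.symm
      rw [← hc]; group
    rw [hg1, inv_one]

/-- In a group of odd order, the only real-valued irreducible character is the trivial one. -/
theorem real_irr_eq_trivial_of_odd (hodd : Odd (Nat.card G)) (χ : IrrCharacter G)
    (hreal : ∀ g : G, ((χ : G → ℂ) g).im = 0) : χ = trivialIrr G := by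
  have h := card_real_irr_eq_card_real_classes (G := G)
  rw [card_real_classes_of_odd hodd, Nat.card_eq_one_iff_unique] at h
  obtain ⟨hs, _⟩ := h
  have := @Subsingleton.elim _ hs ⟨χ, hreal⟩ ⟨trivialIrr G, fun g => by simp⟩
  exact congrArg Subtype.val this

end odd

end Cfsg.Agent.Lib.H24
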