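import Mathlib
import Cfsg.Prelude.Def_Characters
import Cfsg.Agent.Lib.L0.CharOps
import Cfsg.Agent.Lib.L0.CharInd
import Cfsg.Agent.Lib.L0.CharBasic
import Cfsg.Agent.Lib.L0.CharDecomp
import Cfsg.Agent.Lib.L0.CharIndChar
import Cfsg.Agent.Lib.L0.CharInner
import Cfsg.Agent.Lib.H23.CliffordCorr
import Cfsg.Agent.Lib.H23.Ito
import Cfsg.Agent.Lib.H23.FullyRamified
import Cfsg.Agent.Lib.H24.CharBasic

/-!
# General character lemmas used in the proof of Berger's theorem (helper24)

* `sum_comp_surj`, `indFun_comp_surjective`: induction commutes with inflation;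
* `not_irr_add`: a sum of two nonzero characters is not irreducible;
* `irr_of_indFun_irr`, `irr_of_mul_irr`;
* `exists_proper_induced_of_not_homogeneous`: Clifford;
* `isCoatom_comap_of_surjective`, `homogeneous_comap`.
-/

set_option autoImplicit false

namespace Cfsg.Agent.Lib.H24.Berger

open Cfsg Cfsg.Agent.Lib.L0 Cfsg.Agent.Lib.H23
open scoped ComplexConjugate

universe u

/-- `χ` restricted to `M` is a multiple of a single irreducible character. -/
def Homog {G : Type*} [Group G] (M : Subgroup G) (χ : G → ℂ) : Prop :=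
  ∃ (φ : M → ℂ) (e : ℕ), IsIrrCharacter M φ ∧ (fun m : M => χ m) = (e : ℂ) • φ

section Surj

variable {A B : Type*} [Group A] [Group B] [Fintype A] [Fintype B]

theorem sum_comp_surj (π : A →* B) (hπ : Function.Surjective π) (F : B → ℂ) :
    ∑ a : A, F (π a) = (Nat.card π.ker : ℂ) * ∑ b : B, F b := by
  classical
  rw [← Finset.sum_fiberwise (s := Finset.univ) (g := π) (f := fun a => F (π a)), Finset.mul_sum]
  refine Finset.sum_congr rfl (fun b _ => ?_)
  have h1 : ∀ a ∈ Finset.univ.filter (fun a => π a = b), F (π a) = F b := by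
    intro a ha; rw [(Finset.mem_filter.1 ha).2]
  rw [Finset.sum_congr rfl h1, Finset.sum_const, nsmul_eq_mul]
  congr 1
  have h2 := MonoidHom.card_fiber_eq_of_mem_range π (x := b) (y := 1) (hπ b) ⟨1, map_one _⟩
  rw [h2]
  have h3 : Nat.card π.ker = (Finset.univ.filter (fun a => π a = 1)).card := by
    rw [Nat.card_eq_fintype_card]
    exact Fintype.card_of_subtype _ (fun x => by simp [MonoidHom.mem_ker])
  rw [h3]

theorem card_eq_ker_mul (π : A →* B) (hπ : Function.Surjective π) :
    Nat.card A = Nat.card π.ker * Nat.card B := by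
  have h2 := Subgroup.index_ker π
  have h3 : Nat.card π.range = Nat.card B := by
    rw [MonoidHom.range_eq_top.2 hπ]
    exact Nat.card_congr Subgroup.topEquiv.toEquiv
  rw [← h3, ← h2, mul_comm]
  exact (Subgroup.index_mul_card π.ker).symm

theorem card_comap_eq (π : A →* B) (hπ : Function.Surjective π) (U : Subgroup B) :
    Nat.card (U.comap π) = Nat.card π.ker * Nat.card U := by
  have h1 := Subgroup.index_mul_card (U.comap π)
  have h2 := Subgroup.index_mul_card U
  have h3 := card_eq_ker_mul π hπ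
  rw [Subgroup.index_comap_of_surjective U hπ] at h1
  have hpos : 0 < U.index := Nat.pos_of_ne_zero (Subgroup.index_ne_zero_of_finite)
  have h4 : U.index * Nat.card (U.comap π) = U.index * (Nat.card π.ker * Nat.card U) := by
    rw [h1, h3, ← h2]
    ring
  exact Nat.eq_of_mul_eq_mul_left hpos h4

/-- Induction commutes with inflation along a surjective homomorphism. -/
theorem indFun_comp_surjective (π : A →* B) (hπ : Function.Surjective π) (U : Subgroup B)
    (ψ : U → ℂ) (x : A) :
    indFun U ψ (π x) = indFun (U.comap π) (fun u => ψ ⟨π (u : A), u.2⟩) x := by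
  classical
  rw [indFun_apply, indFun_apply]
  have hext : ∀ z : A, extendByZero (U.comap π) (fun u => ψ ⟨π (u : A), u.2⟩) z =
      extendByZero U ψ (π z) := by
    intro z
    by_cases hz : π z ∈ U
    · rw [extendByZero_apply_of_mem U ψ hz,
        extendByZero_apply_of_mem (U.comap π) _ (show z ∈ U.comap π from hz)]
    · rw [extendByZero_apply_not_mem U ψ hz,
        extendByZero_apply_not_mem (U.comap π) _ (fun h => hz h)]
  simp only [hext, map_mul, map_inv]
  have h := sum_comp_surj π hπ (fun y => extendByZero U ψ (y⁻¹ * π x * y))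
  rw [h, card_comap_eq π hπ U]
  have h4 : (Nat.card π.ker : ℂ) ≠ 0 := Nat.cast_ne_zero.2 Nat.card_pos.ne'
  have h5 : (Nat.card U : ℂ) ≠ 0 := Nat.cast_ne_zero.2 Nat.card_pos.ne'
  push_cast
  field_simp

end Surj

section Irr

variable {G : Type*} [Group G] [Fintype G]

/-- A sum of two characters of nonzero degree is not irreducible. -/
theorem not_irr_add {c₁ c₂ : G → ℂ} (h₁ : IsCharacter G c₁) (h₂ : IsCharacter G c₂)
    (h₁1 : c₁ 1 ≠ 0) (h₂1 : c₂ 1 ≠ 0) : ¬ IsIrrCharacter G (c₁ + c₂) := by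
  intro hirr
  obtain ⟨ξ₁, hξ₁, hc₁⟩ := exists_irr_constituent h₁ h₁1
  obtain ⟨ξ₂, hξ₂, hc₂⟩ := exists_irr_constituent h₂ h₂1
  obtain ⟨a₁, ha₁⟩ := classInner_char_irr_nat h₁ hξ₁
  obtain ⟨b₁, hb₁⟩ := classInner_char_irr_nat h₂ hξ₁
  obtain ⟨a₂, ha₂⟩ := classInner_char_irr_nat h₁ hξ₂
  obtain ⟨b₂, hb₂⟩ := classInner_char_irr_nat h₂ hξ₂
  have e1 : ξ₁ = c₁ + c₂ := by
    by_contra hne
    have h := irr_classInner_ne hirr hξ₁ (fun h => hne h.symm)
    rw [classInner_add_left, ha₁, hb₁] at h
    have h' : a₁ + b₁ = 0 := by exact_mod_cast h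
    apply hc₁
    rw [ha₁]
    have : a₁ = 0 := by omega
    rw [this]; simp
  have e2 : ξ₂ = c₁ + c₂ := by
    by_contra hne
    have h := irr_classInner_ne hirr hξ₂ (fun h => hne h.symm)
    rw [classInner_add_left, ha₂, hb₂] at h
    have h' : a₂ + b₂ = 0 := by exact_mod_cast h
    apply hc₂
    rw [hb₂]
    have : b₂ = 0 := by omega
    rw [this]; simp
  have h := irr_classInner_self hirr
  have h3 : classInner (c₁ + c₂) (c₁ + c₂) = classInner c₁ ξ₁ + classInner c₂ ξ₂ := by
    rw [classInner_add_left]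
    congr 1
    · rw [e1]
    · rw [e2]
  rw [h3, ha₁, hb₂] at h
  have h' : a₁ + b₂ = 1 := by exact_mod_cast h
  have ha₁0 : a₁ ≠ 0 := by
    rintro rfl
    apply hc₁
    rw [ha₁]; simp
  have hb₂0 : b₂ ≠ 0 := by
    rintro rfl
    apply hc₂
    rw [hb₂]; simp
  omega

theorem list_sum_one_ne_zero {a : G → ℂ} {r : List (G → ℂ)} (ha : IsIrrCharacter G a)
    (hr : ∀ ξ ∈ r, IsIrrCharacter G ξ) : (a :: r).sum 1 ≠ 0 := by
  have hrc : IsCharacter G r.sum := isCharacter_list_sum (fun ξ hξ => isCharacter_of_irr (hr ξ hξ))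
  obtain ⟨n, hn⟩ := isCharacter_apply_one (isCharacter_of_irr ha)
  obtain ⟨m, hm⟩ := isCharacter_apply_one hrc
  have ha1 : a 1 ≠ 0 := irr_one_ne_zero ⟨a, ha⟩
  rw [List.sum_cons, Pi.add_apply, hn, hm]
  rw [hn] at ha1
  have : n ≠ 0 := by
    rintro rfl
    exact ha1 (by simp)
  have h2 : n + m ≠ 0 := by omega
  exact_mod_cast h2

/-- If a character induces to an irreducible character, it is irreducible. -/
theorem irr_of_indFun_irr (H : Subgroup G) {ψ : H → ℂ} (hψ : IsCharacter H ψ)
    (hind : IsIrrCharacter G (indFun H ψ)) : IsIrrCharacter H ψ := by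
  classical
  have : Fintype H := Fintype.ofFinite H
  obtain ⟨l, hl, hsum⟩ := isCharacter_exists_irr_decomp hψ
  have hidx : (H.index : ℂ) ≠ 0 := Nat.cast_ne_zero.2 Subgroup.index_ne_zero_of_finite
  match l, hl, hsum with
  | [], _, hsum =>
    exfalso
    have h1 : indFun H ψ 1 ≠ 0 := irr_one_ne_zero ⟨_, hind⟩
    apply h1
    rw [indFun_one', hsum]
    simp
  | [a], hl, hsum =>
    rw [hsum, List.sum_singleton]
    exact hl a (by simp)
  | a :: b :: r, hl, hsum =>
    exfalso
    have ha := hl a (by simp)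
    have hb := hl b (by simp)
    have hr : ∀ ξ ∈ r, IsIrrCharacter H ξ := fun ξ hξ => hl ξ (by simp [hξ])
    have hρ : IsCharacter H (b :: r).sum :=
      isCharacter_list_sum (fun ξ hξ => isCharacter_of_irr (hl ξ (by simp at hξ ⊢; tauto)))
    have hsum' : ψ = a + (b :: r).sum := by rw [hsum, List.sum_cons]
    rw [hsum', indFun_add] at hind
    refine not_irr_add (isCharacter_indFun H (isCharacter_of_irr ha)) (isCharacter_indFun H hρ)
      ?_ ?_ hind
    · rw [indFun_one']
      exact mul_ne_zero hidx (irr_one_ne_zero ⟨a, ha⟩)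
    · rw [indFun_one']
      exact mul_ne_zero hidx (list_sum_one_ne_zero hb hr)

/-- If a product of two characters is irreducible, so is each factor. -/
theorem irr_of_mul_irr {χ₁ χ₂ : G → ℂ} (h₁ : IsCharacter G χ₁) (h₂ : IsCharacter G χ₂)
    (h₂1 : χ₂ 1 ≠ 0) (hirr : IsIrrCharacter G (χ₁ * χ₂)) : IsIrrCharacter G χ₁ := by
  classical
  obtain ⟨l, hl, hsum⟩ := isCharacter_exists_irr_decomp h₁
  match l, hl, hsum with
  | [], _, hsum =>
    exfalso
    have h1 : (χ₁ * χ₂) 1 ≠ 0 := irr_one_ne_zero ⟨_, hirr⟩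
    apply h1
    rw [hsum]
    simp
  | [a], hl, hsum =>
    rw [hsum, List.sum_singleton]
    exact hl a (by simp)
  | a :: b :: r, hl, hsum =>
    exfalso
    have ha := hl a (by simp)
    have hb := hl b (by simp)
    have hr : ∀ ξ ∈ r, IsIrrCharacter G ξ := fun ξ hξ => hl ξ (by simp [hξ])
    have hρ : IsCharacter G (b :: r).sum :=
      isCharacter_list_sum (fun ξ hξ => isCharacter_of_irr (hl ξ (by simp at hξ ⊢; tauto)))
    have hsum' : χ₁ * χ₂ = a * χ₂ + (b :: r).sum * χ₂ := by
      rw [hsum, List.sum_cons, add_mul]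
    rw [hsum'] at hirr
    refine not_irr_add (isCharacter_mul (isCharacter_of_irr ha) h₂) (isCharacter_mul hρ h₂)
      ?_ ?_ hirr
    · rw [Pi.mul_apply]
      exact mul_ne_zero (irr_one_ne_zero ⟨a, ha⟩) h₂1
    · rw [Pi.mul_apply]
      exact mul_ne_zero (list_sum_one_ne_zero hb hr) h₂1

/-- Clifford: an irreducible character that is not homogeneous on a normal subgroup `N` is induced
from a proper subgroup containing `N`. -/
theorem exists_proper_induced_of_not_homogeneous (N : Subgroup G) [hN : N.Normal] {χ : G → ℂ}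
    (hχ : IsIrrCharacter G χ) (hnh : ¬ Homog N χ) :
    ∃ T : Subgroup G, N ≤ T ∧ T ≠ ⊤ ∧ ∃ ψ : T → ℂ, IsIrrCharacter T ψ ∧ indFun T ψ = χ := by
  classical
  have : Fintype N := Fintype.ofFinite N
  have hχN : IsCharacter N (fun n : N => χ n) := isCharacter_restrict N (isCharacter_of_irr hχ)
  have hχ1 : χ 1 ≠ 0 := irr_one_ne_zero ⟨χ, hχ⟩
  obtain ⟨ϑ, hϑ, hcon⟩ := exists_irr_constituent hχN (by simpa using hχ1)
  set T : Subgroup G := inertia N ϑ with hTdef
  have : Fintype T := Fintype.ofFinite T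
  have hNT : N ≤ T := le_inertia N (isClassFunction_of_isCharacter (isCharacter_of_irr hϑ))
  obtain ⟨ψ, hψ, hind, -⟩ := clifford_correspondence N T hNT ϑ hϑ
    (fun g => mem_inertia N ϑ g) χ hχ hcon
  refine ⟨T, hNT, ?_, ψ, hψ, hind⟩
  intro htop
  apply hnh
  have hinv : ∀ (g : G) (n : N), ϑ ⟨g * n * g⁻¹, hN.conj_mem (n : G) n.2 g⟩ = ϑ n := by
    intro g n
    have hg : g ∈ T := by rw [htop]; trivial
    exact (mem_inertia N ϑ g).mp hg n
  have hres := restrict_eq_smul_of_invariant N χ hχ ϑ hϑ hcon hinv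
  obtain ⟨e, he⟩ := classInner_char_irr_nat hχN hϑ
  refine ⟨ϑ, e, hϑ, ?_⟩
  rw [hres, he]

end Irr

section Comap

variable {X Y : Type*} [Group X] [Group Y]

theorem isCoatom_comap_of_surjective (f : Y →* X) (hf : Function.Surjective f) {U : Subgroup X}
    (hU : IsCoatom U) : IsCoatom (U.comap f) := by
  constructor
  · intro h
    apply hU.1
    have := Subgroup.map_comap_eq_self_of_surjective hf U
    rw [h, Subgroup.map_top_of_surjective f hf] at this
    exact this.symm
  · intro Z hZ
    have hker : f.ker ≤ Z := by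
      refine le_trans ?_ hZ.le
      exact Subgroup.ker_le_comap f U
    have h1 : U ≤ Z.map f := by
      rw [← Subgroup.map_comap_eq_self_of_surjective hf U]
      exact Subgroup.map_mono hZ.le
    have h2 : U ≠ Z.map f := by
      intro h
      apply hZ.ne
      apply le_antisymm hZ.le
      rw [h, Subgroup.comap_map_eq_self hker]
    have h3 := hU.2 (Z.map f) (lt_of_le_of_ne h1 h2)
    rw [← Subgroup.comap_map_eq_self hker, h3, Subgroup.comap_top]

theorem homog_comap (f : Y →* X) (hf : Function.Surjective f) (M : Subgroup X) (χ : X → ℂ)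
    (h : Homog M χ) : Homog (M.comap f) (χ ∘ f) := by
  obtain ⟨φ, e, hφ, he⟩ := h
  refine ⟨φ ∘ (f.subgroupComap M), e,
    isIrrCharacter_comp_of_surjective (f.subgroupComap M)
      (f.subgroupComap_surjective_of_surjective M hf) hφ, ?_⟩
  funext m
  exact congrFun he (f.subgroupComap M m)

end Comap

end Cfsg.Agent.Lib.H24.Berger
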