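import Mathlib
import Cfsg.Agent.Lib.H11.RK2Defs
import Cfsg.Agent.Lib.H11.R2LIFT

/-!
# S5289 piece T3AUT (helper24): automorphisms of Blackburn's groups `G(p,n;ε)` act as `±1` on `G/⟨y,z⟩`
-/

set_option autoImplicit false

namespace Cfsg.Agent.Lib.H24.RK2

open Cfsg.Agent.Lib.H11.RK2

section general

variable {G : Type*} [Group G]

/-- `D g e = e⁻¹ (g⁻¹ e g)`: the commutator-type map. -/
def dmap (g e : G) : G := e⁻¹ * (g⁻¹ * e * g)

theorem dmap_one (g : G) : dmap g 1 = 1 := by simp [dmap]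

theorem dmap_of_central (g : G) {e : G} (he : ∀ k : G, k * e = e * k) : dmap g e = 1 := by
  unfold dmap
  rw [mul_assoc, ← he g, ← mul_assoc g⁻¹, inv_mul_cancel, one_mul, inv_mul_cancel]

variable {A : Subgroup G}

theorem dmap_mem (hAn : ∀ g : G, ∀ e ∈ A, g⁻¹ * e * g ∈ A) (g : G) {e : G} (he : e ∈ A) :
    dmap g e ∈ A :=
  A.mul_mem (A.inv_mem he) (hAn g e he)

theorem dmap_mul (hAc : ∀ e ∈ A, ∀ e' ∈ A, e * e' = e' * e)
    (hAn : ∀ g : G, ∀ e ∈ A, g⁻¹ * e * g ∈ A) (g : G) {e e' : G} (he : e ∈ A) (he' : e' ∈ A) :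
    dmap g (e * e') = dmap g e * dmap g e' := by
  have hu : g⁻¹ * e * g ∈ A := hAn g e he
  have h1 : e'⁻¹ * (e⁻¹ * (g⁻¹ * e * g)) = (e⁻¹ * (g⁻¹ * e * g)) * e'⁻¹ :=
    hAc _ (A.inv_mem he') _ (A.mul_mem (A.inv_mem he) hu)
  calc dmap g (e * e') = e'⁻¹ * (e⁻¹ * (g⁻¹ * e * g)) * (g⁻¹ * e' * g) := by
        unfold dmap; group
    _ = (e⁻¹ * (g⁻¹ * e * g)) * e'⁻¹ * (g⁻¹ * e' * g) := by rw [h1]
    _ = dmap g e * dmap g e' := by unfold dmap; group

theorem dmap_pow (hAc : ∀ e ∈ A, ∀ e' ∈ A, e * e' = e' * e)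
    (hAn : ∀ g : G, ∀ e ∈ A, g⁻¹ * e * g ∈ A) (g : G) {e : G} (he : e ∈ A) (k : ℕ) :
    dmap g (e ^ k) = dmap g e ^ k := by
  induction k with
  | zero => simp [dmap_one]
  | succ k ih =>
    rw [pow_succ, dmap_mul hAc hAn g (A.pow_mem he k) he, ih, pow_succ]

/-- `dmap` only depends on `g` modulo `A` (on `A`). -/
theorem dmap_mul_right (hAc : ∀ e ∈ A, ∀ e' ∈ A, e * e' = e' * e)
    (hAn : ∀ g : G, ∀ e ∈ A, g⁻¹ * e * g ∈ A) (g : G) {e₀ e : G} (he₀ : e₀ ∈ A) (he : e ∈ A) :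
    dmap (g * e₀) e = dmap g e := by
  have hu : g⁻¹ * e * g ∈ A := hAn g e he
  have h1 : (g⁻¹ * e * g) * e₀ = e₀ * (g⁻¹ * e * g) := hAc _ hu _ he₀
  unfold dmap
  have : (g * e₀)⁻¹ * e * (g * e₀) = e₀⁻¹ * ((g⁻¹ * e * g) * e₀) := by group
  rw [this, h1, inv_mul_cancel_left]

/-- Homomorphisms commute with `dmap`. -/
theorem map_dmap {H F : Type*} [Group H] [FunLike F G H] [MonoidHomClass F G H] (b : F) (g e : G) :
    b (dmap g e) = dmap (b g) (b e) := by
  simp [dmap, map_mul, map_inv]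

theorem comm_aux {M : Type*} [CommGroup M] (u v : M) : u⁻¹ * (v⁻¹ * u * v) = 1 := by
  rw [mul_comm v⁻¹ u, mul_assoc, inv_mul_cancel, mul_one, inv_mul_cancel]

end general

section T3

variable {G : Type*} [Group G] {p n s : ℕ} {x y z : G}

theorem t3_y_pow_eq_one (h : T3 p n s x y z) : y ^ p ^ (n - 3) = 1 := by
  have hn := h.hn
  have : p ^ (n - 3) = p * p ^ (n - 4) := by
    rw [← pow_succ']; congr 1; omega
  rw [this, pow_mul, h.hy, one_pow]

/-- `w = z^(p^(n-3))` is central. -/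
theorem t3_w_central (h : T3 p n s x y z) :
    ∀ g : G, g * z ^ p ^ (n - 3) = z ^ p ^ (n - 3) * g := by
  have hcz : Commute y z := h.hyz
  have hxw : x⁻¹ * z ^ p ^ (n - 3) * x = z ^ p ^ (n - 3) := by
    have h1 : x⁻¹ * z ^ p ^ (n - 3) * x = (x⁻¹ * z * x) ^ p ^ (n - 3) := by
      have := conj_pow (a := x⁻¹) (b := z) (i := p ^ (n - 3))
      rw [inv_inv] at this
      exact this.symm
    rw [h1, h.hxz, hcz.mul_pow, t3_y_pow_eq_one h, one_mul]
  have hle : Subgroup.closure ({x, y, z} : Set G) ≤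
      Subgroup.centralizer ({z ^ p ^ (n - 3)} : Set G) := by
    rw [Subgroup.closure_le]
    intro g hg
    rw [SetLike.mem_coe, Subgroup.mem_centralizer_iff]
    intro k hk
    rw [Set.mem_singleton_iff] at hk
    subst hk
    rcases hg with rfl | rfl | rfl
    · calc z ^ p ^ (n - 3) * g = g * (g⁻¹ * z ^ p ^ (n - 3) * g) := by group
        _ = g * z ^ p ^ (n - 3) := by rw [hxw]
    · exact (hcz.pow_right _).eq.symm
    · exact (Commute.pow_self g _).eq
  intro g
  have hg : g ∈ Subgroup.centralizer ({z ^ p ^ (n - 3)} : Set G) := by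
    apply hle
    rw [h.gen]
    exact Subgroup.mem_top g
  exact ((Subgroup.mem_centralizer_iff.mp hg) _ rfl).symm

/-- `w^s = z^(s p^(n-3))` is central. -/
theorem t3_ws_central (h : T3 p n s x y z) :
    ∀ g : G, g * z ^ (s * p ^ (n - 3)) = z ^ (s * p ^ (n - 3)) * g := by
  intro g
  rw [pow_mul']
  exact ((show Commute g (z ^ p ^ (n - 3)) from t3_w_central h g).pow_right s).eq

theorem t3_conj_y_pow (h : T3 p n s x y z) (a : ℕ) :
    (x ^ a)⁻¹ * y * x ^ a = y * (z ^ (s * p ^ (n - 3))) ^ a := by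
  induction a with
  | zero => simp
  | succ a ih =>
    have hc : ∀ g : G, g * (z ^ (s * p ^ (n - 3))) ^ a = (z ^ (s * p ^ (n - 3))) ^ a * g := fun g =>
      ((show Commute g (z ^ (s * p ^ (n - 3))) from t3_ws_central h g).pow_right a).eq
    calc (x ^ (a + 1))⁻¹ * y * x ^ (a + 1) = x⁻¹ * ((x ^ a)⁻¹ * y * x ^ a) * x := by
          rw [pow_succ]; group
      _ = x⁻¹ * (y * (z ^ (s * p ^ (n - 3))) ^ a) * x := by rw [ih]
      _ = x⁻¹ * y * ((z ^ (s * p ^ (n - 3))) ^ a * x) := by group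
      _ = x⁻¹ * y * (x * (z ^ (s * p ^ (n - 3))) ^ a) := by rw [hc x]
      _ = (x⁻¹ * y * x) * (z ^ (s * p ^ (n - 3))) ^ a := by group
      _ = y * (z ^ (s * p ^ (n - 3))) ^ (a + 1) := by
          rw [h.hxy, pow_succ', mul_assoc]

theorem t3_conj_z_pow (h : T3 p n s x y z) (a : ℕ) :
    ∃ c : ℕ, (x ^ a)⁻¹ * z * x ^ a = z * y ^ a * (z ^ p ^ (n - 3)) ^ c := by
  induction a with
  | zero => exact ⟨0, by simp⟩
  | succ a ih =>
    obtain ⟨c, hc⟩ := ih
    refine ⟨s * a + c, ?_⟩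
    have hcz : Commute y z := h.hyz
    have hw : ∀ (g : G) (k : ℕ), g * (z ^ p ^ (n - 3)) ^ k = (z ^ p ^ (n - 3)) ^ k * g := fun g k =>
      ((show Commute g (z ^ p ^ (n - 3)) from t3_w_central h g).pow_right k).eq
    have hxya : x⁻¹ * y ^ a * x = y ^ a * (z ^ p ^ (n - 3)) ^ (s * a) := by
      have h1 : x⁻¹ * y ^ a * x = (x⁻¹ * y * x) ^ a := by
        have := conj_pow (a := x⁻¹) (b := y) (i := a)
        rw [inv_inv] at this
        exact this.symm
      have hws : z ^ (s * p ^ (n - 3)) = (z ^ p ^ (n - 3)) ^ s := pow_mul' z s _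
      have hcy : Commute y ((z ^ p ^ (n - 3)) ^ s) :=
        (show Commute y (z ^ p ^ (n - 3)) from t3_w_central h y).pow_right s
      rw [h1, h.hxy, hws, hcy.mul_pow, ← pow_mul]
    calc (x ^ (a + 1))⁻¹ * z * x ^ (a + 1) = x⁻¹ * ((x ^ a)⁻¹ * z * x ^ a) * x := by
          rw [pow_succ]; group
      _ = x⁻¹ * (z * y ^ a * (z ^ p ^ (n - 3)) ^ c) * x := by rw [hc]
      _ = x⁻¹ * z * y ^ a * ((z ^ p ^ (n - 3)) ^ c * x) := by group
      _ = x⁻¹ * z * y ^ a * (x * (z ^ p ^ (n - 3)) ^ c) := by rw [hw x c]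
      _ = (x⁻¹ * z * x) * (x⁻¹ * y ^ a * x) * (z ^ p ^ (n - 3)) ^ c := by group
      _ = y * z * (y ^ a * (z ^ p ^ (n - 3)) ^ (s * a)) * (z ^ p ^ (n - 3)) ^ c := by
          rw [h.hxz, hxya]
      _ = z * (y * y ^ a) * ((z ^ p ^ (n - 3)) ^ (s * a) * (z ^ p ^ (n - 3)) ^ c) := by
          rw [h.hyz]; group
      _ = z * y ^ (a + 1) * (z ^ p ^ (n - 3)) ^ (s * a + c) := by
          rw [← pow_succ', ← pow_add]

theorem t3_A_comm (hyz : y * z = z * y) :
    ∀ e ∈ Subgroup.closure ({y, z} : Set G), ∀ e' ∈ Subgroup.closure ({y, z} : Set G),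
      e * e' = e' * e := by
  have h1 : Subgroup.closure ({y, z} : Set G) ≤ Subgroup.centralizer ({y, z} : Set G) := by
    rw [Subgroup.closure_le]
    intro g hg
    rw [SetLike.mem_coe, Subgroup.mem_centralizer_iff]
    intro k hk
    rcases hg with rfl | rfl <;> rcases hk with rfl | rfl
    · rfl
    · exact hyz.symm
    · exact hyz
    · rfl
  intro e he e' he'
  have h2 : e ∈ Subgroup.centralizer
      ((Subgroup.closure ({y, z} : Set G) : Subgroup G) : Set G) := by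
    rw [Subgroup.centralizer_closure]; exact h1 he
  exact ((Subgroup.mem_centralizer_iff.mp h2) e' he').symm

theorem t3_A_nf (hyz : y * z = z * y) {N M : ℕ} (hy : y ^ N = 1) (hz : z ^ M = 1)
    (hN : 0 < N) (hM : 0 < M) :
    ∀ e ∈ Subgroup.closure ({y, z} : Set G), ∃ i j : ℕ, e = y ^ i * z ^ j := by
  have hc : Commute y z := hyz
  have hyinv : y⁻¹ = y ^ (N - 1) := by
    apply inv_eq_of_mul_eq_one_left
    rw [← pow_succ]
    have : N - 1 + 1 = N := by omega
    rw [this, hy]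
  have hzinv : z⁻¹ = z ^ (M - 1) := by
    apply inv_eq_of_mul_eq_one_left
    rw [← pow_succ]
    have : M - 1 + 1 = M := by omega
    rw [this, hz]
  intro e he
  induction he using Subgroup.closure_induction with
  | mem g hg =>
    rcases hg with rfl | rfl
    · exact ⟨1, 0, by simp⟩
    · exact ⟨0, 1, by simp⟩
  | one => exact ⟨0, 0, by simp⟩
  | mul a b _ _ iha ihb =>
    obtain ⟨i, j, rfl⟩ := iha
    obtain ⟨i', j', rfl⟩ := ihb
    refine ⟨i + i', j + j', ?_⟩
    have h1 : z ^ j * y ^ i' = y ^ i' * z ^ j := ((hc.pow_pow i' j).eq).symm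
    calc y ^ i * z ^ j * (y ^ i' * z ^ j') = y ^ i * (z ^ j * y ^ i') * z ^ j' := by group
      _ = y ^ i * (y ^ i' * z ^ j) * z ^ j' := by rw [h1]
      _ = y ^ (i + i') * z ^ (j + j') := by rw [pow_add, pow_add]; group
  | inv a _ iha =>
    obtain ⟨i, j, rfl⟩ := iha
    refine ⟨(N - 1) * i, (M - 1) * j, ?_⟩
    rw [mul_inv_rev, ← inv_pow, ← inv_pow, hyinv, hzinv, ← pow_mul, ← pow_mul]
    exact ((hc.pow_pow ((N - 1) * i) ((M - 1) * j)).eq).symm

theorem t3_A_conj (h : T3 p n s x y z) [Finite G] :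
    ∀ g : G, ∀ e ∈ Subgroup.closure ({y, z} : Set G), g⁻¹ * e * g ∈ Subgroup.closure ({y, z} : Set G) := by
  have hyA : y ∈ Subgroup.closure ({y, z} : Set G) := Subgroup.subset_closure (by simp)
  have hzA : z ∈ Subgroup.closure ({y, z} : Set G) := Subgroup.subset_closure (by simp)
  have hmap : (Subgroup.closure ({y, z} : Set G)).map (MulAut.conj x⁻¹).toMonoidHom ≤
      Subgroup.closure ({y, z} : Set G) := by
    rw [MonoidHom.map_closure, Subgroup.closure_le]
    rintro _ ⟨g, hg, rfl⟩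
    rcases hg with rfl | rfl
    · show (MulAut.conj x⁻¹) g ∈ _
      rw [MulAut.conj_apply, inv_inv, h.hxy]
      exact Subgroup.mul_mem _ hyA (Subgroup.pow_mem _ hzA _)
    · show (MulAut.conj x⁻¹) g ∈ _
      rw [MulAut.conj_apply, inv_inv, h.hxz]
      exact Subgroup.mul_mem _ hyA hzA
  have hxinv : x⁻¹ ∈ Subgroup.normalizer ((Subgroup.closure ({y, z} : Set G) : Subgroup G) : Set G) := by
    apply Subgroup.mem_normalizer_fintype
    intro e he
    have : (MulAut.conj x⁻¹) e ∈ Subgroup.closure ({y, z} : Set G) :=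
      hmap (Subgroup.mem_map_of_mem _ he)
    rwa [MulAut.conj_apply] at this
  have htop : Subgroup.normalizer ((Subgroup.closure ({y, z} : Set G) : Subgroup G) : Set G) = ⊤ := by
    rw [eq_top_iff, ← h.gen, Subgroup.closure_le]
    intro g hg
    rcases hg with rfl | rfl | rfl
    · have := Subgroup.inv_mem _ hxinv
      rwa [inv_inv] at this
    · exact Subgroup.le_normalizer hyA
    · exact Subgroup.le_normalizer hzA
  have hN : (Subgroup.closure ({y, z} : Set G)).Normal := Subgroup.normalizer_eq_top_iff.mp htop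
  intro g e he
  have := hN.conj_mem e he g⁻¹
  rwa [inv_inv] at this

theorem t3_count (h : T3 p n s x y z) [Finite G] [Fact p.Prime] :
    orderOf z = p ^ (n - 2) ∧ Nat.card ↥(Subgroup.closure ({y, z} : Set G)) = p ^ (n - 1) := by
  have hp : p.Prime := Fact.out
  have hn := h.hn
  have hyA : y ∈ Subgroup.closure ({y, z} : Set G) := Subgroup.subset_closure (by simp)
  have hzA : z ∈ Subgroup.closure ({y, z} : Set G) := Subgroup.subset_closure (by simp)
  have hox : orderOf x ∣ p := orderOf_dvd_of_pow_eq_one h.hx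
  have hoy : orderOf y ∣ p := orderOf_dvd_of_pow_eq_one h.hy
  have hoz : orderOf z ∣ p ^ (n - 2) := orderOf_dvd_of_pow_eq_one h.hz
  -- `A = ⟨y⟩ ⊔ ⟨z⟩`
  have hA : Subgroup.closure ({y, z} : Set G) = Subgroup.zpowers y ⊔ Subgroup.zpowers z := by
    rw [Subgroup.zpowers_eq_closure, Subgroup.zpowers_eq_closure, ← Subgroup.closure_union]
    rfl
  have h1 : Nat.card ↥(Subgroup.closure ({y, z} : Set G)) ∣ orderOf y * orderOf z := by
    have hnz : Subgroup.zpowers y ≤ Subgroup.normalizer (Subgroup.zpowers z : Set G) := by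
      rw [Subgroup.zpowers_le]
      apply Subgroup.mem_normalizer_fintype
      intro k hk
      obtain ⟨i, rfl⟩ := Subgroup.mem_zpowers_iff.mp hk
      have hc : Commute y (z ^ i) := (show Commute y z from h.hyz).zpow_right i
      have : y * z ^ i * y⁻¹ = z ^ i := by rw [hc.eq, mul_inv_cancel_right]
      rw [this]; exact hk
    have := Cfsg.Agent.Lib.H11.R2.card_sup_dvd_nrm hnz
    rwa [Nat.card_zpowers, Nat.card_zpowers, ← hA] at this
  have h2 : Nat.card G ∣ orderOf x * Nat.card ↥(Subgroup.closure ({y, z} : Set G)) := by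
    have hnx : Subgroup.zpowers x ≤
        Subgroup.normalizer ((Subgroup.closure ({y, z} : Set G) : Subgroup G) : Set G) := by
      rw [Subgroup.zpowers_le]
      have hxinv : x⁻¹ ∈ Subgroup.normalizer
          ((Subgroup.closure ({y, z} : Set G) : Subgroup G) : Set G) := by
        apply Subgroup.mem_normalizer_fintype
        intro e he
        have := t3_A_conj h x e he
        rwa [inv_inv]
      have := Subgroup.inv_mem _ hxinv
      rwa [inv_inv] at this
    have h4 := Cfsg.Agent.Lib.H11.R2.card_sup_dvd_nrm hnx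
    rw [Nat.card_zpowers] at h4
    have h5 : Subgroup.zpowers x ⊔ Subgroup.closure ({y, z} : Set G) = ⊤ := by
      rw [eq_top_iff, ← h.gen, Subgroup.closure_le]
      intro g hg
      rcases hg with rfl | rfl | rfl
      · exact (le_sup_left : Subgroup.zpowers g ≤ _) (Subgroup.mem_zpowers g)
      · exact (le_sup_right : Subgroup.closure ({g, z} : Set G) ≤ _) hyA
      · exact (le_sup_right : Subgroup.closure ({y, g} : Set G) ≤ _) hzA
    rwa [h5, Subgroup.card_top] at h4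
  -- `|A| ∣ p^(n-1)`
  have h3 : Nat.card ↥(Subgroup.closure ({y, z} : Set G)) ∣ p ^ (n - 1) := by
    have : p ^ (n - 1) = p * p ^ (n - 2) := by
      rw [← pow_succ']; congr 1; omega
    rw [this]
    exact h1.trans (Nat.mul_dvd_mul hoy hoz)
  -- `p^n ∣ p |A|`
  have h6 : p ^ n ∣ p * Nat.card ↥(Subgroup.closure ({y, z} : Set G)) := by
    rw [← h.card]
    exact h2.trans (Nat.mul_dvd_mul_right hox _)
  have h7 : p ^ (n - 1) ∣ Nat.card ↥(Subgroup.closure ({y, z} : Set G)) := by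
    have : p ^ n = p * p ^ (n - 1) := by
      rw [← pow_succ']; congr 1; omega
    rw [this] at h6
    exact Nat.dvd_of_mul_dvd_mul_left hp.pos h6
  have hcardA : Nat.card ↥(Subgroup.closure ({y, z} : Set G)) = p ^ (n - 1) :=
    Nat.dvd_antisymm h3 h7
  refine ⟨?_, hcardA⟩
  -- the order of `z`
  obtain ⟨k, hk, hzk⟩ := (Nat.dvd_prime_pow hp).mp hoz
  have h8 : p ^ (n - 1) ∣ p * p ^ k := by
    rw [← hcardA, ← hzk]
    exact h1.trans (Nat.mul_dvd_mul_right hoy _)
  rw [← pow_succ'] at h8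
  have h9 : n - 1 ≤ k + 1 := (Nat.pow_dvd_pow_iff_le_right hp.one_lt).mp h8
  have : k = n - 2 := by omega
  rw [hzk, this]

end T3

/-- **T3AUT**.  `A = ⟨y,z⟩` is characteristic of index `p`, and every automorphism of `G` acts on `G/A`
as `±1`. -/
theorem T3.aut {G : Type*} [Group G] [Finite G] {p n s : ℕ} [Fact p.Prime] {x y z : G}
    (h : T3 p n s x y z) :
    ∃ χ : G →* Multiplicative (ZMod p), χ x ≠ 1 ∧ χ y = 1 ∧ χ z = 1 ∧
      (∀ g, χ g = 1 → g ∈ Subgroup.closure ({y, z} : Set G)) ∧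
      ∀ b : G ≃* G, (∀ g, χ (b g) = χ g) ∨ (∀ g, χ (b g) = (χ g)⁻¹) := by
  classical
  have hp : p.Prime := Fact.out
  have hn := h.hn
  obtain ⟨A, hAdef⟩ : ∃ A : Subgroup G, A = Subgroup.closure ({y, z} : Set G) := ⟨_, rfl⟩
  have hyA : y ∈ A := by rw [hAdef]; exact Subgroup.subset_closure (by simp)
  have hzA : z ∈ A := by rw [hAdef]; exact Subgroup.subset_closure (by simp)
  have hAc : ∀ e ∈ A, ∀ e' ∈ A, e * e' = e' * e := by rw [hAdef]; exact t3_A_comm h.hyz
  have hAn : ∀ g : G, ∀ e ∈ A, g⁻¹ * e * g ∈ A := by rw [hAdef]; exact t3_A_conj h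
  obtain ⟨hoz, hcardA⟩ := t3_count h
  rw [← hAdef] at hcardA
  have hN : A.Normal := ⟨fun e he g => by have := hAn g⁻¹ e he; rwa [inv_inv] at this⟩
  have hidx : A.index = p := by
    have h1 := A.card_mul_index
    rw [hcardA, h.card] at h1
    have h2 : p ^ n = p ^ (n - 1) * p := by rw [← pow_succ]; congr 1; omega
    rw [h2] at h1
    exact Nat.eq_of_mul_eq_mul_left (pow_pos hp.pos _) h1
  have hcardQ : Nat.card (G ⧸ A) = p := by rw [← Subgroup.index_eq_card]; exact hidx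
  have hcardZ : Nat.card (Multiplicative (ZMod p)) = p := by
    rw [Nat.card_eq_fintype_card, Fintype.card_multiplicative, ZMod.card]
  obtain ⟨χ, hχ⟩ : ∃ χ : G →* Multiplicative (ZMod p), ∀ g, χ g = 1 ↔ g ∈ A := by
    refine ⟨(mulEquivOfPrimeCardEq hcardQ hcardZ).toMonoidHom.comp (QuotientGroup.mk' A), ?_⟩
    intro g
    show (mulEquivOfPrimeCardEq hcardQ hcardZ) (QuotientGroup.mk' A g) = 1 ↔ _
    rw [MulEquiv.map_eq_one_iff, QuotientGroup.mk'_apply, QuotientGroup.eq_one_iff]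
  have hpowp : ∀ u : Multiplicative (ZMod p), u ^ p = 1 := by
    intro u
    have := pow_card_eq_one' (G := Multiplicative (ZMod p)) (x := u)
    rwa [hcardZ] at this
  -- `x ∉ A`
  have hxA : x ∉ A := by
    intro hx
    have htop : A = ⊤ := by
      rw [eq_top_iff, ← h.gen, Subgroup.closure_le]
      intro g hg
      rcases hg with rfl | rfl | rfl
      · exact hx
      · exact hyA
      · exact hzA
    rw [htop, Subgroup.card_top, h.card] at hcardA
    have := Nat.pow_right_injective hp.two_le hcardA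
    omega
  have hχx : χ x ≠ 1 := fun hx => hxA ((hχ x).mp hx)
  -- the central elements `W = w^s`, `w = z^(p^(n-3))`
  obtain ⟨W, hW⟩ : ∃ W : G, W = z ^ (s * p ^ (n - 3)) := ⟨_, rfl⟩
  obtain ⟨w, hw⟩ : ∃ w : G, w = z ^ p ^ (n - 3) := ⟨_, rfl⟩
  have hWc : ∀ g : G, g * W = W * g := by rw [hW]; exact t3_ws_central h
  have hwc : ∀ g : G, g * w = w * g := by rw [hw]; exact t3_w_central h
  have hWA : W ∈ A := by rw [hW]; exact A.pow_mem hzA _
  have hwA : w ∈ A := by rw [hw]; exact A.pow_mem hzA _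
  have hxyW : x⁻¹ * y * x = y * W := by rw [hW]; exact h.hxy
  have hpn : p ^ (n - 2) = p ^ (n - 3) * p := by rw [← pow_succ]; congr 1; omega
  have hWp : W ^ p = 1 := by
    rw [hW, ← pow_mul]
    have : s * p ^ (n - 3) * p = p ^ (n - 2) * s := by rw [hpn]; ring
    rw [this, pow_mul, h.hz, one_pow]
  have hW1 : W ≠ 1 := by
    intro hW1
    rw [hW] at hW1
    have h1 := orderOf_dvd_of_pow_eq_one hW1
    rw [hoz, hpn, mul_comm s] at h1
    exact h.hs (Nat.dvd_of_mul_dvd_mul_left (pow_pos hp.pos _) h1)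
  have hoW : orderOf W = p := orderOf_eq_prime hWp hW1
  have hy_eq : y = dmap x z := by unfold dmap; rw [h.hxz, h.hyz]; group
  have hW_eq : W = dmap x y := by unfold dmap; rw [hxyW]; group
  -- kernels are preserved
  have key : ∀ (b : G ≃* G) (g : G), χ (b g) = 1 → χ g = 1 := by
    intro b g hbg
    by_contra hg
    have hby : χ (b y) = 1 := by
      conv_lhs => rw [hy_eq]
      unfold dmap
      simp only [map_mul, map_inv]
      exact comm_aux _ _
    have hbyA : b y ∈ A := (hχ _).mp hby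
    have hbgA : b g ∈ A := (hχ _).mp hbg
    have hyg : y * g = g * y := by
      apply b.injective
      rw [map_mul, map_mul]
      exact hAc _ hbyA _ hbgA
    have hgen : ∀ k : G, ∃ i : ℤ, ∃ e ∈ A, k = g ^ i * e := by
      intro k
      have htop : Subgroup.zpowers (χ g) = ⊤ := zpowers_eq_top_of_prime_card hcardZ hg
      have hm : χ k ∈ Subgroup.zpowers (χ g) := by rw [htop]; exact Subgroup.mem_top _
      obtain ⟨i, hi⟩ := Subgroup.mem_zpowers_iff.mp hm
      refine ⟨i, (g ^ i)⁻¹ * k, ?_, by group⟩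
      rw [← hχ, map_mul, map_inv, map_zpow, hi, inv_mul_cancel]
    obtain ⟨i, e, he, hxe⟩ := hgen x
    have hyx : y * x = x * y := by
      rw [hxe]
      have h1 : y * g ^ i = g ^ i * y := ((show Commute y g from hyg).zpow_right i).eq
      have h2 : y * e = e * y := hAc _ hyA _ he
      calc y * (g ^ i * e) = (y * g ^ i) * e := by group
        _ = g ^ i * (y * e) := by rw [h1]; group
        _ = g ^ i * e * y := by rw [h2]; group
    have h3 : x⁻¹ * y * x = y := by rw [mul_assoc, hyx, ← mul_assoc, inv_mul_cancel, one_mul]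
    rw [h3] at hxyW
    exact hW1 (left_eq_mul.mp hxyW)
  have hbA : ∀ (b : G ≃* G) (e : G), e ∈ A → b e ∈ A := by
    intro b e he
    rw [← hχ]
    apply key b.symm
    rw [MulEquiv.symm_apply_apply]
    exact (hχ e).mpr he
  refine ⟨χ, hχx, (hχ y).mpr hyA, (hχ z).mpr hzA, fun g hg => by rw [← hAdef]; exact (hχ g).mp hg, ?_⟩
  intro b
  -- the exponent `a`
  obtain ⟨a, ha⟩ : ∃ a : ℕ, (χ x) ^ a = χ (b x) := by
    have htop : Subgroup.zpowers (χ x) = ⊤ := zpowers_eq_top_of_prime_card hcardZ hχx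
    have hm : χ (b x) ∈ Subgroup.zpowers (χ x) := by rw [htop]; exact Subgroup.mem_top _
    exact (Submonoid.mem_powers_iff _ _).mp (mem_powers_iff_mem_zpowers.mpr hm)
  obtain ⟨e₀, he₀⟩ : ∃ e₀ : G, e₀ = (x ^ a)⁻¹ * b x := ⟨_, rfl⟩
  have he₀A : e₀ ∈ A := by rw [← hχ, he₀, map_mul, map_inv, map_pow, ha, inv_mul_cancel]
  have hbx : b x = x ^ a * e₀ := by rw [he₀]; group
  have hD : ∀ e ∈ A, dmap (b x) e = dmap (x ^ a) e := fun e he => by
    rw [hbx]; exact dmap_mul_right hAc hAn _ he₀A he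
  have hDy : dmap (x ^ a) y = W ^ a := by
    rw [hW]; unfold dmap; rw [t3_conj_y_pow h a]; group
  obtain ⟨c, hc⟩ := t3_conj_z_pow h a
  have hDz : dmap (x ^ a) z = y ^ a * w ^ c := by
    rw [hw]; unfold dmap; rw [hc]; group
  have hDw : ∀ g : G, dmap g w = 1 := fun g => dmap_of_central g hwc
  have hDWa : ∀ g : G, dmap g (W ^ a) = 1 := fun g => dmap_of_central g
    (fun k => ((show Commute k W from hWc k).pow_right a).eq)
  -- normal form of `b z`
  obtain ⟨β, μ, hbz⟩ : ∃ β μ : ℕ, b z = y ^ β * z ^ μ := by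
    have := hbA b z hzA
    rw [hAdef] at this
    exact t3_A_nf h.hyz h.hy h.hz hp.pos (pow_pos hp.pos _) (b z) this
  have hby : b y = (W ^ a) ^ β * (y ^ a * w ^ c) ^ μ := by
    conv_lhs => rw [hy_eq]
    rw [map_dmap, hD _ (hbA b z hzA), hbz,
      dmap_mul hAc hAn _ (A.pow_mem hyA _) (A.pow_mem hzA _),
      dmap_pow hAc hAn _ hyA, dmap_pow hAc hAn _ hzA, hDy, hDz]
  have hbW : b W = ((W ^ a) ^ a) ^ μ := by
    conv_lhs => rw [hW_eq]
    rw [map_dmap, hD _ (hbA b y hyA), hby,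
      dmap_mul hAc hAn _ (A.pow_mem (A.pow_mem hWA _) _)
        (A.pow_mem (A.mul_mem (A.pow_mem hyA _) (A.pow_mem hwA _)) _),
      dmap_pow hAc hAn _ (A.pow_mem hWA _), hDWa, one_pow, one_mul,
      dmap_pow hAc hAn _ (A.mul_mem (A.pow_mem hyA _) (A.pow_mem hwA _)),
      dmap_mul hAc hAn _ (A.pow_mem hyA _) (A.pow_mem hwA _),
      dmap_pow hAc hAn _ hyA, dmap_pow hAc hAn _ hwA, hDy, hDw, one_pow, mul_one]
  have hbW' : b W = W ^ μ := by
    have hcyz : Commute (y ^ β) (z ^ μ) := (show Commute y z from h.hyz).pow_pow β μ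
    rw [hW, map_pow, hbz, hcyz.mul_pow, ← pow_mul, ← pow_mul, ← pow_mul]
    have h1 : y ^ (β * (s * p ^ (n - 3))) = 1 := by
      have : β * (s * p ^ (n - 3)) = p ^ (n - 3) * (β * s) := by ring
      rw [this, pow_mul, t3_y_pow_eq_one h, one_pow]
    rw [h1, one_mul, mul_comm]
  -- compare exponents
  have hμ : ¬ p ∣ μ := by
    intro hdvd
    have h1 : W ^ μ = 1 := by
      obtain ⟨t, rfl⟩ := hdvd
      rw [pow_mul, hWp, one_pow]
    rw [← hbW'] at h1
    exact hW1 (b.map_eq_one_iff.mp h1)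
  have hmod : a * a * μ ≡ 1 * μ [MOD p] := by
    rw [one_mul, ← hoW, ← pow_eq_pow_iff_modEq, pow_mul, pow_mul, ← hbW, hbW']
  have hcop : Nat.gcd p μ = 1 := (Nat.Prime.coprime_iff_not_dvd hp).mpr hμ
  have haa : a * a ≡ 1 [MOD p] := Nat.ModEq.cancel_right_of_coprime hcop hmod
  have ha0 : 1 ≤ a := by
    rcases Nat.eq_zero_or_pos a with h0 | h0
    · exfalso
      rw [h0] at haa
      have : p ∣ 1 - 0 * 0 := (Nat.modEq_iff_dvd' (by omega)).mp haa
      simp at this
      exact hp.one_lt.ne' this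
    · exact h0
  have hdvd : p ∣ (a - 1) * (a + 1) := by
    have h1 : p ∣ a * a - 1 := (Nat.modEq_iff_dvd' (Nat.one_le_iff_ne_zero.mpr (by positivity))).mp haa.symm
    have h2 : (a - 1) * (a + 1) = a * a - 1 := by
      obtain ⟨t, rfl⟩ : ∃ t, a = t + 1 := ⟨a - 1, by omega⟩
      simp only [Nat.add_sub_cancel]
      have : (t + 1) * (t + 1) = t * (t + 1 + 1) + 1 := by ring
      rw [this, Nat.add_sub_cancel]
    rw [h2]; exact h1
  -- `χ ∘ b = χ ^ a`
  have hχb : ∀ g : G, χ (b g) = (χ g) ^ a := by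
    have heq : χ.comp b.toMonoidHom = (powMonoidHom a).comp χ := by
      apply MonoidHom.eq_of_eqOn_dense h.gen
      intro g hg
      rcases hg with rfl | rfl | rfl
      · show χ (b g) = (χ g) ^ a
        exact ha.symm
      · show χ (b g) = (χ g) ^ a
        rw [(hχ _).mpr (hbA b g hyA), (hχ g).mpr hyA, one_pow]
      · show χ (b g) = (χ g) ^ a
        rw [(hχ _).mpr (hbA b g hzA), (hχ g).mpr hzA, one_pow]
    intro g
    exact DFunLike.congr_fun heq g
  rcases (Nat.Prime.dvd_mul hp).mp hdvd with h1 | h1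
  · left
    intro g
    rw [hχb]
    obtain ⟨t, ht⟩ := h1
    have : a = p * t + 1 := by omega
    rw [this, pow_succ, pow_mul, hpowp, one_pow, one_mul]
  · right
    intro g
    rw [hχb]
    obtain ⟨t, ht⟩ := h1
    apply eq_inv_of_mul_eq_one_left
    rw [← pow_succ, ht, pow_mul, hpowp, one_pow]

end Cfsg.Agent.Lib.H24.RK2
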