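import Cfsg.Agent.Lib.H24.GlaubSolv2
import Cfsg.Agent.Lib.H24.CharConj

/-!
# Real characters and real classes under a coprime `p`-group of operators (helper24)

`P ≤ Γ` a `p`-group normalising `K ≤ Γ`, `p ∤ |K|`, `C = C_K(P)`:
* `real_card_irr`: the `P`-invariant real-valued irreducible characters of `K` are as many as the
  real-valued irreducible characters of `C` (Glauberman correspondence commutes with complex
  conjugation);
* `real_card_cls`: the `P`-invariant real classes of `K` are as many as the real classes of `C`;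
* `real_count`: hence `#(P-invariant real Irr K) = #(P-invariant real classes of K)`.
-/

set_option autoImplicit false

universe u

namespace Cfsg.Agent.Lib.H24.Glaub

open Cfsg Cfsg.Agent.Lib.L0 Cfsg.Agent.Lib.H24
open scoped ComplexConjugate

variable {Γ : Type u} [Group Γ] [Fintype Γ]

theorem resMult_conj_conj {G C : Subgroup Γ} [Fintype C] (hCG : C ≤ G) (χ : G → ℂ) (β : C → ℂ) :
    resMult hCG (fun g => conj (χ g)) (fun c => conj (β c)) = resMult hCG χ β := by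
  unfold resMult
  have h : res hCG (fun g => conj (χ g)) = fun c => conj (res hCG χ c) := rfl
  rw [h, classInner_conj_conj, Complex.conj_re]

theorem real_iff_irrConj {H : Type u} [Group H] [Finite H] (θ : IrrCharacter H) :
    (∀ h : H, ((θ : H → ℂ) h).im = 0) ↔ irrConj θ = θ := by
  constructor
  · intro h
    apply Subtype.ext
    funext k
    exact Complex.conj_eq_iff_im.mpr (h k)
  · intro h k
    exact Complex.conj_eq_iff_im.mp (congrFun (congrArg Subtype.val h) k)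

theorem real_card_irr {p : ℕ} (hp : p.Prime) {K P C : Subgroup Γ} [Fintype C]
    (hnorm : ∀ x ∈ P, ∀ k ∈ K, x * k * x⁻¹ ∈ K) (hP : IsPGroup p P) (hpK : ¬ p ∣ Nat.card K)
    (hC : C = K ⊓ Subgroup.centralizer (P : Set Γ)) (hCK : C ≤ K) :
    Nat.card {θ : IrrCharacter K // (∀ k : K, ((θ : K → ℂ) k).im = 0) ∧
        ∀ x ∈ P, InvUnder K x (θ : K → ℂ)} =
      Nat.card {β : IrrCharacter C // ∀ c : C, ((β : C → ℂ) c).im = 0} := by
  classical
  have corr := pgroup_corr hp (Nat.card P) K P C rfl hnorm hP hpK hC hCK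
  have hconjInv : ∀ (θ : IrrCharacter K), (∀ x ∈ P, InvUnder K x (θ : K → ℂ)) →
      ∀ x ∈ P, InvUnder K x (irrConj θ : K → ℂ) := by
    intro θ h x hx g g' hgg'
    show conj ((θ : K → ℂ) g') = conj ((θ : K → ℂ) g)
    rw [h x hx g g' hgg']
  have hmult : ∀ (θ : IrrCharacter K) (β : IrrCharacter C),
      resMult hCK (irrConj θ : K → ℂ) (irrConj β : C → ℂ) =
        resMult hCK (θ : K → ℂ) (β : C → ℂ) := fun θ β => resMult_conj_conj hCK _ _
  have uniq : ∀ (χ : IrrCharacter K), (∀ x ∈ P, InvUnder K x (χ : K → ℂ)) →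
      ∀ β β' : IrrCharacter C, ¬ p ∣ resMult hCK (χ : K → ℂ) (β : C → ℂ) →
        ¬ p ∣ resMult hCK (χ : K → ℂ) (β' : C → ℂ) → β = β' := by
    intro χ hχ β β' h1 h2
    obtain ⟨β₀, ε, hε, h⟩ := corr.exists_corr χ hχ
    rw [GCorr.eq_of_not_dvd h h1, GCorr.eq_of_not_dvd h h2]
  have hex : ∀ θ : {θ : IrrCharacter K // (∀ k : K, ((θ : K → ℂ) k).im = 0) ∧
        ∀ x ∈ P, InvUnder K x (θ : K → ℂ)},
      ∃ β : {β : IrrCharacter C // ∀ c : C, ((β : C → ℂ) c).im = 0},
        ¬ p ∣ resMult hCK (θ.1 : K → ℂ) (β.1 : C → ℂ) := by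
    intro θ
    obtain ⟨β₀, ε, hε, h⟩ := corr.exists_corr θ.1 θ.2.2
    have h1 : ¬ p ∣ resMult hCK (θ.1 : K → ℂ) (β₀ : C → ℂ) := by
      have h2 := h β₀
      rw [if_pos rfl] at h2
      exact not_dvd_of_dvd_sub_sign hp hε h2
    refine ⟨⟨β₀, (real_iff_irrConj β₀).mpr ?_⟩, h1⟩
    apply uniq θ.1 θ.2.2 _ _ ?_ h1
    have h3 := hmult θ.1 β₀
    rw [(real_iff_irrConj θ.1).mp θ.2.1] at h3
    rw [h3]
    exact h1
  choose F hF using hex
  apply Nat.card_eq_of_bijective F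
  constructor
  · intro θ θ' hθθ'
    apply Subtype.ext
    have h1 := hF θ'
    rw [← hθθ'] at h1
    exact corr.inj θ.1 θ'.1 θ.2.2 θ'.2.2 (F θ).1 (hF θ) h1
  · intro β
    obtain ⟨χ, hχinv, hχβ⟩ := corr.surj β.1
    have hreal : irrConj χ = χ := by
      apply corr.inj (irrConj χ) χ (hconjInv χ hχinv) hχinv β.1 ?_ hχβ
      have h3 := hmult χ β.1
      rw [(real_iff_irrConj β.1).mp β.2] at h3
      rw [h3]
      exact hχβ
    refine ⟨⟨χ, (real_iff_irrConj χ).mpr hreal, hχinv⟩, ?_⟩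
    apply Subtype.ext
    exact uniq χ hχinv _ _ (hF ⟨χ, (real_iff_irrConj χ).mpr hreal, hχinv⟩) hχβ

theorem isConj_inv_of_isConj {H : Type*} [Group H] {a b : H} (hab : IsConj a b)
    (hb : IsConj b b⁻¹) : IsConj a a⁻¹ := by
  obtain ⟨y, hy⟩ := isConj_iff.mp hab
  have h1 : IsConj a⁻¹ b⁻¹ := by
    rw [isConj_iff]
    refine ⟨y, ?_⟩
    rw [← hy]
    group
  exact hab.trans (hb.trans h1.symm)

theorem real_card_cls {p : ℕ} (hp : p.Prime) {K P C : Subgroup Γ}
    (hnorm : ∀ x ∈ P, ∀ k ∈ K, x * k * x⁻¹ ∈ K) (hP : IsPGroup p P) (hpK : ¬ p ∣ Nat.card K)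
    (hC : C = K ⊓ Subgroup.centralizer (P : Set Γ)) (hCK : C ≤ K) :
    Nat.card {cl : ConjClasses K // (∀ k : K, ConjClasses.mk k = cl → IsConj k k⁻¹) ∧
        ClsInv K P cl} =
      Nat.card {cl : ConjClasses C // ∀ c : C, ConjClasses.mk c = cl → IsConj c c⁻¹} := by
  classical
  haveI : Fact p.Prime := ⟨hp⟩
  have hCmem : ∀ x : Γ, x ∈ C ↔ x ∈ K ∧ ∀ q ∈ P, q * x * q⁻¹ = x := by
    intro x
    rw [hC, Subgroup.mem_inf, Subgroup.mem_centralizer_iff]
    refine and_congr Iff.rfl ?_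
    constructor
    · intro h q hq
      rw [h q hq]; group
    · intro h q hq
      calc q * x = q * x * q⁻¹ * q := by group
        _ = x * q := by rw [h q hq]
  set ι : C →* K := Subgroup.inclusion hCK with hι
  have hdesc : ∀ b b' : C, IsConj (ι b) (ι b') → IsConj b b' := by
    intro b b' h
    obtain ⟨x, hx⟩ := isConj_iff.mp h
    have hx' : (x : Γ) * (b : Γ) * (x : Γ)⁻¹ = (b' : Γ) := congrArg Subtype.val hx
    obtain ⟨y, hyG, hyQ, hyb⟩ := exists_conj_of_conj hP hnorm hpK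
      ((hCmem b).mp b.2).2 ((hCmem b').mp b'.2).2 x.2 hx'
    rw [isConj_iff]
    exact ⟨⟨y, (hCmem y).mpr ⟨hyG, hyQ⟩⟩, Subtype.ext hyb⟩
  symm
  have hwd : ∀ (cl : ConjClasses C), (∀ c : C, ConjClasses.mk c = cl → IsConj c c⁻¹) →
      (∀ k : K, ConjClasses.mk k = ConjClasses.map ι cl → IsConj k k⁻¹) ∧
        ClsInv K P (ConjClasses.map ι cl) := by
    intro cl
    induction cl using Quotient.inductionOn with | _ b => ?_
    intro hcl
    constructor
    · intro k hk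
      have hk' : IsConj k (ι b) := ConjClasses.mk_eq_mk_iff_isConj.mp hk
      have hb : IsConj b b⁻¹ := hcl b rfl
      have hb' : IsConj (ι b) (ι b)⁻¹ := by
        rw [← map_inv]
        exact ι.map_isConj hb
      exact isConj_inv_of_isConj hk' hb'
    · intro s hs g g' hgg' hg
      show ConjClasses.mk g' = ConjClasses.mk (ι b)
      have hg' : IsConj g (ι b) := ConjClasses.mk_eq_mk_iff_isConj.mp hg
      obtain ⟨y, hy⟩ := isConj_iff.mp hg'
      have hy' : (y : Γ) * (g : Γ) * (y : Γ)⁻¹ = (b : Γ) := congrArg Subtype.val hy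
      have hsb : s * (b : Γ) * s⁻¹ = (b : Γ) := ((hCmem b).mp b.2).2 s hs
      rw [ConjClasses.mk_eq_mk_iff_isConj, isConj_iff]
      refine ⟨⟨s * y * s⁻¹, hnorm s hs y y.2⟩, ?_⟩
      apply Subtype.ext
      show s * (y : Γ) * s⁻¹ * (g' : Γ) * (s * (y : Γ) * s⁻¹)⁻¹ = (b : Γ)
      rw [hgg']
      calc s * (y : Γ) * s⁻¹ * (s * (g : Γ) * s⁻¹) * (s * (y : Γ) * s⁻¹)⁻¹
          = s * ((y : Γ) * (g : Γ) * (y : Γ)⁻¹) * s⁻¹ := by group
        _ = (b : Γ) := by rw [hy', hsb]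
  refine Nat.card_eq_of_bijective
    (fun cl : {cl : ConjClasses C // ∀ c : C, ConjClasses.mk c = cl → IsConj c c⁻¹} =>
      (⟨ConjClasses.map ι cl.1, hwd cl.1 cl.2⟩ :
        {cl : ConjClasses K // (∀ k : K, ConjClasses.mk k = cl → IsConj k k⁻¹) ∧
          ClsInv K P cl})) ⟨?_, ?_⟩
  · rintro ⟨cl, hcl⟩ ⟨cl', hcl'⟩ h
    apply Subtype.ext
    have h1 : ConjClasses.map ι cl = ConjClasses.map ι cl' := congrArg Subtype.val h
    induction cl using Quotient.inductionOn with | _ b => ?_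
    induction cl' using Quotient.inductionOn with | _ b' => ?_
    have h2 : ConjClasses.mk (ι b) = ConjClasses.mk (ι b') := h1
    exact ConjClasses.mk_eq_mk_iff_isConj.mpr
      (hdesc b b' (ConjClasses.mk_eq_mk_iff_isConj.mp h2))
  · rintro ⟨cl, hclreal, hcl⟩
    induction cl using Quotient.inductionOn with | _ g => ?_
    have hstab : ∀ q ∈ P, ∀ g' : K, (g' : Γ) = q * g * q⁻¹ → IsConj g' g := by
      intro q hq g' hgg'
      exact ConjClasses.mk_eq_mk_iff_isConj.mp (hcl q hq g g' hgg' rfl)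
    obtain ⟨x, hx⟩ := exists_conj_mem_centralizer hP hnorm hpK g hstab
    set b : C := ⟨((x * g * x⁻¹ : K) : Γ), (hCmem _).mpr ⟨(x * g * x⁻¹ : K).2, hx⟩⟩ with hb
    have hιb : ι b = x * g * x⁻¹ := Subtype.ext rfl
    have hbg : IsConj (ι b) g := by
      rw [hιb]
      exact (isConj_iff.mpr ⟨x, rfl⟩).symm
    have hgreal : IsConj g g⁻¹ := hclreal g rfl
    have hclb : ∀ c : C, ConjClasses.mk c = ConjClasses.mk b → IsConj c c⁻¹ := by
      intro c hc
      have h1 : IsConj (ι c) (ι b) := ι.map_isConj (ConjClasses.mk_eq_mk_iff_isConj.mp hc)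
      have h2 : IsConj (ι c) (ι c)⁻¹ := isConj_inv_of_isConj (h1.trans hbg) hgreal
      rw [← map_inv] at h2
      exact hdesc c c⁻¹ h2
    refine ⟨⟨ConjClasses.mk b, hclb⟩, ?_⟩
    apply Subtype.ext
    show ConjClasses.mk (ι b) = (Quotient.mk _ g : ConjClasses K)
    exact ConjClasses.mk_eq_mk_iff_isConj.mpr hbg

theorem real_count {p : ℕ} (hp : p.Prime) {K P : Subgroup Γ}
    (hnorm : ∀ x ∈ P, ∀ k ∈ K, x * k * x⁻¹ ∈ K) (hP : IsPGroup p P) (hpK : ¬ p ∣ Nat.card K) :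
    Nat.card {θ : IrrCharacter K // (∀ k : K, ((θ : K → ℂ) k).im = 0) ∧
        ∀ x ∈ P, InvUnder K x (θ : K → ℂ)} =
      Nat.card {cl : ConjClasses K // (∀ k : K, ConjClasses.mk k = cl → IsConj k k⁻¹) ∧
        ClsInv K P cl} := by
  classical
  set C : Subgroup Γ := K ⊓ Subgroup.centralizer (P : Set Γ) with hC
  letI : Fintype C := Fintype.ofFinite _
  have hCK : C ≤ K := inf_le_left
  rw [real_card_irr hp hnorm hP hpK hC hCK, real_card_cls hp hnorm hP hpK hC hCK]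
  exact card_real_irr_eq_card_real_classes

end Cfsg.Agent.Lib.H24.Glaub
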