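import Mathlib
import Cfsg.Agent.Lib.H24.CharFSInd
import Cfsg.Agent.Lib.H24.CharOdd
import Cfsg.Agent.Lib.H24.CharConj
import Cfsg.Agent.Lib.H24.CharSchur
import Cfsg.Agent.Lib.H24.CharOrth
import Cfsg.Agent.Lib.L0.CharInd
import Cfsg.Agent.Lib.L0.CharIndChar
import Cfsg.Agent.Lib.L0.CharOps
import Cfsg.Agent.S0174

/-!
# Real characters and normal subgroups of odd index (helper24's library)

* `indFun_one_eq_sum` : `(1_N)^G = ∑ λ ∈ Irr(G/N), λ(1) λ`.
* `parity_restrict_of_odd_index` : for a real-valued character `Θ` of `G` and `N ⊴ G` of odd index,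
  `[Θ, 1_G] ≡ [Θ_N, 1_N] (mod 2)`.
* `fsInd_indFun_of_odd_index` : `ν(φ^G) = ν(φ)` for `N ⊴ G` of odd index.
-/

set_option autoImplicit false

namespace Cfsg.Agent.Lib.H24

open scoped ComplexConjugate
open Cfsg Cfsg.Agent.Lib.L0

section

variable {G : Type*} [Group G] [Fintype G] (N : Subgroup G) [hN : N.Normal] [Fintype N]

omit [Fintype N] in
/-- The permutation character on the cosets of a normal subgroup. -/
theorem indFun_one_normal (g : G) [Decidable (g ∈ N)] :
    indFun N (fun _ => (1 : ℂ)) g = if g ∈ N then (N.index : ℂ) else 0 := by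
  classical
  rw [indFun_apply]
  have h1 : ∀ x : G, extendByZero N (fun _ => (1 : ℂ)) (x⁻¹ * g * x) = if g ∈ N then 1 else 0 := by
    intro x
    split_ifs with hg
    · have : x⁻¹ * g * x ∈ N := by
        have := hN.conj_mem g hg x⁻¹
        simpa using this
      rw [extendByZero_apply_of_mem N _ this]
    · have : x⁻¹ * g * x ∉ N := by
        intro h
        apply hg
        have := hN.conj_mem _ h x
        simpa [mul_assoc] using this
      rw [extendByZero_apply_not_mem N _ this]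
  rw [Finset.sum_congr rfl (fun x _ => h1 x)]
  have hNc : (Nat.card N : ℂ) ≠ 0 := by exact_mod_cast (Nat.card_pos (α := N)).ne'
  split_ifs with hg
  · rw [Finset.sum_const, Finset.card_univ, nsmul_eq_mul, mul_one, ← Nat.card_eq_fintype_card,
      ← N.card_mul_index]
    push_cast
    field_simp
  · simp

omit [Fintype N] in
/-- `(1_N)^G = ∑ λ ∈ Irr(G/N), λ(1) λ`. -/
theorem indFun_one_eq_sum [Fintype (IrrCharacter (G ⧸ N))] :
    indFun N (fun _ => (1 : ℂ)) = ∑ μ : IrrCharacter (G ⧸ N),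
      (μ : G ⧸ N → ℂ) 1 • ((μ : G ⧸ N → ℂ) ∘ (QuotientGroup.mk' N)) := by
  classical
  have := Fintype.ofFinite (G ⧸ N)
  funext g
  rw [indFun_one_normal, Finset.sum_apply]
  simp only [Pi.smul_apply, Function.comp_apply, smul_eq_mul]
  rw [sum_irr_one_mul]
  have : (QuotientGroup.mk' N g = 1) ↔ g ∈ N := QuotientGroup.eq_one_iff g
  simp only [this]
  split_ifs with hg
  · rw [Subgroup.index_eq_card]
  · rfl

/-- Parity of the multiplicity of the trivial character under restriction to a normal subgroup of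
odd index, for real-valued characters. -/
theorem parity_restrict_of_odd_index (hodd : Odd N.index) {Θ : G → ℂ} (hΘ : IsCharacter G Θ)
    (hreal : ∀ g, (Θ g).im = 0) (a d : ℕ) (ha : classInner Θ (fun _ => (1 : ℂ)) = a)
    (hd : classInner (fun n : N => Θ n) (fun _ => (1 : ℂ)) = d) : a % 2 = d % 2 := by
  classical
  have := Fintype.ofFinite (G ⧸ N)
  have := Fintype.ofFinite (IrrCharacter (G ⧸ N))
  have hoddQ : Odd (Nat.card (G ⧸ N)) := by rwa [← Subgroup.index_eq_card]
  have hΘconj : (fun g => conj (Θ g)) = Θ := by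
    funext g; exact Complex.conj_eq_iff_im.mpr (hreal g)
  -- multiplicities
  have hirr : ∀ μ : IrrCharacter (G ⧸ N),
      IsIrrCharacter G ((μ : G ⧸ N → ℂ) ∘ (QuotientGroup.mk' N)) := fun μ =>
    isIrrCharacter_comp_of_surjective (QuotientGroup.mk' N) (QuotientGroup.mk'_surjective N) μ.2
  choose c hc using fun μ : IrrCharacter (G ⧸ N) => classInner_irr_char_nat hΘ (hirr μ)
  choose deg hdeg0 hdeg using fun μ : IrrCharacter (G ⧸ N) => irr_one_eq μ
  -- d = Σ deg μ * c μ
  have hdsum : (d : ℂ) = ∑ μ : IrrCharacter (G ⧸ N), ((deg μ * c μ : ℕ) : ℂ) := by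
    have h1 : classInner (indFun N (fun _ => (1 : ℂ))) Θ = (d : ℂ) := by
      rw [frobenius_reciprocity N _ Θ (isClassFunction_of_isCharacter hΘ), ← classInner_conj_symm,
        hd, Complex.conj_natCast]
    rw [← h1, indFun_one_eq_sum, classInner_sum_left]
    refine Finset.sum_congr rfl (fun μ _ => ?_)
    rw [classInner_smul_left, hc μ, hdeg μ]
    push_cast; ring
  have hdsum' : d = ∑ μ : IrrCharacter (G ⧸ N), deg μ * c μ := by
    have : (d : ℂ) = ((∑ μ : IrrCharacter (G ⧸ N), deg μ * c μ : ℕ) : ℂ) := by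
      rw [hdsum]; push_cast; rfl
    exact_mod_cast this
  -- symmetry under conjugation
  have hcconj : ∀ μ : IrrCharacter (G ⧸ N), c (irrConj μ) = c μ := by
    intro μ
    have h1 : ((irrConj μ : IrrCharacter (G ⧸ N)) : G ⧸ N → ℂ) ∘ (QuotientGroup.mk' N) =
        fun g => conj (((μ : G ⧸ N → ℂ) ∘ (QuotientGroup.mk' N)) g) := by
      funext g; simp
    have h2 := hc (irrConj μ)
    rw [h1] at h2
    nth_rewrite 1 [← hΘconj] at h2
    rw [classInner_conj_conj, hc μ, Complex.conj_natCast] at h2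
    exact_mod_cast h2.symm
  have hdegconj : ∀ μ : IrrCharacter (G ⧸ N), deg (irrConj μ) = deg μ := by
    intro μ
    have h1 := hdeg (irrConj μ)
    rw [irrConj_apply, hdeg μ, Complex.conj_natCast] at h1
    exact_mod_cast h1.symm
  -- the trivial term
  have htriv : deg (trivialIrr (G ⧸ N)) * c (trivialIrr (G ⧸ N)) = a := by
    have h1 : deg (trivialIrr (G ⧸ N)) = 1 := by
      have := hdeg (trivialIrr (G ⧸ N))
      rw [trivialIrr_apply] at this
      exact_mod_cast this.symm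
    have h2 : c (trivialIrr (G ⧸ N)) = a := by
      have h3 := hc (trivialIrr (G ⧸ N))
      have h4 : ((trivialIrr (G ⧸ N) : IrrCharacter (G ⧸ N)) : G ⧸ N → ℂ) ∘
          (QuotientGroup.mk' N) = fun _ => (1 : ℂ) := by
        funext g; simp
      rw [h4, ← classInner_conj_symm, ha, Complex.conj_natCast] at h3
      exact_mod_cast h3.symm
    rw [h1, h2, one_mul]
  -- parity
  have hz : ((d : ℕ) : ZMod 2) = (a : ZMod 2) := by
    rw [hdsum', ← Finset.add_sum_erase Finset.univ _ (Finset.mem_univ (trivialIrr (G ⧸ N))), htriv]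
    push_cast
    have : ∑ μ ∈ Finset.univ.erase (trivialIrr (G ⧸ N)), ((deg μ : ZMod 2) * (c μ : ZMod 2)) = 0 := by
      refine Finset.sum_involution (fun μ _ => irrConj μ) ?_ ?_ ?_ ?_
      · intro μ _
        rw [hdegconj, hcconj]
        have : (2 : ZMod 2) = 0 := rfl
        linear_combination ((deg μ : ZMod 2) * (c μ : ZMod 2)) * this
      · intro μ hμ _ heq
        have hreal' : ∀ g : G ⧸ N, ((μ : G ⧸ N → ℂ) g).im = 0 := by
          intro g
          have := congrArg (fun ψ : IrrCharacter (G ⧸ N) => (ψ : G ⧸ N → ℂ) g) heq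
          simp only [irrConj_apply] at this
          exact Complex.conj_eq_iff_im.mp this
        exact (Finset.mem_erase.mp hμ).1 (real_irr_eq_trivial_of_odd hoddQ μ hreal')
      · intro μ hμ
        rw [Finset.mem_erase]
        refine ⟨?_, Finset.mem_univ _⟩
        intro h
        apply (Finset.mem_erase.mp hμ).1
        have := congrArg irrConj h
        rw [irrConj_irrConj] at this
        rw [this]
        apply Subtype.ext
        funext g
        simp
      · intro μ _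
        exact irrConj_irrConj μ
    rw [this, add_zero]
  have := (ZMod.natCast_eq_natCast_iff' d a 2).mp hz
  exact this.symm

end

section FS

variable {G : Type*} [Group G] [Fintype G] (N : Subgroup G) [hN : N.Normal] [Fintype N]

omit [Fintype G] [Fintype N] in
/-- `g * g ∈ N ↔ g ∈ N` when the index of the normal subgroup `N` is odd. -/
theorem mul_self_mem_iff_of_odd_index [Finite G] (hodd : Odd N.index) (g : G) :
    g * g ∈ N ↔ g ∈ N := by
  constructor
  · intro h
    rw [← QuotientGroup.eq_one_iff] at h ⊢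
    have h1 : ((g : G ⧸ N)) ^ 2 = 1 := by
      rw [pow_two]; exact h
    have h2 : orderOf (g : G ⧸ N) ∣ 2 := orderOf_dvd_of_pow_eq_one h1
    have h3 : orderOf (g : G ⧸ N) ∣ N.index := by
      rw [Subgroup.index_eq_card]; exact orderOf_dvd_natCard _
    have h4 : Nat.Coprime 2 N.index := (Nat.coprime_two_left).mpr hodd
    have h5 : orderOf (g : G ⧸ N) = 1 := Nat.eq_one_of_dvd_coprimes h4 h2 h3
    exact orderOf_eq_one_iff.mp h5
  · intro h
    exact N.mul_mem h h

/-- `ν(φ^G) = ν(φ)` for a normal subgroup of odd index. -/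
theorem fsInd_indFun_of_odd_index (hodd : Odd N.index) (φ : N → ℂ) :
    fsInd (indFun N φ) = fsInd φ := by
  classical
  unfold fsInd
  simp only [indFun_apply]
  rw [← Finset.mul_sum, Finset.sum_comm]
  have h1 : ∀ x : G, ∑ s : G, extendByZero N φ (x⁻¹ * (s * s) * x) =
      ∑ h : G, extendByZero N φ (h * h) := by
    intro x
    refine Fintype.sum_equiv (MulAut.conj x⁻¹).toEquiv _ _ (fun s => ?_)
    congr 1
    simp only [MulEquiv.toEquiv_eq_coe, EquivLike.coe_coe, MulAut.conj_apply, inv_inv]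
    group
  rw [Finset.sum_congr rfl (fun x _ => h1 x), Finset.sum_const, Finset.card_univ, nsmul_eq_mul]
  have h2 : ∑ h : G, extendByZero N φ (h * h) = ∑ n : N, φ (n * n) := by
    have h3 : ∑ h : G, extendByZero N φ (h * h) =
        ∑ h ∈ Finset.univ.filter (· ∈ N), extendByZero N φ (h * h) := by
      rw [Finset.sum_filter]
      refine Finset.sum_congr rfl fun g _ => ?_
      split_ifs with hg
      · rfl
      · rw [extendByZero_apply_not_mem N φ
          (fun h => hg ((mul_self_mem_iff_of_odd_index N hodd g).mp h))]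
    rw [h3, Finset.sum_subtype (p := (· ∈ N)) _ (by simp)]
    refine Finset.sum_congr rfl fun n _ => ?_
    exact extendByZero_apply_mem N φ (n * n)
  rw [h2, ← Nat.card_eq_fintype_card]
  have hG : (Nat.card G : ℂ) ≠ 0 := by exact_mod_cast (Nat.card_pos (α := G)).ne'
  field_simp

omit hN [Fintype N] in
theorem fsInd_sum_smul {ι : Type*} (s : Finset ι) (c : ι → ℂ) (f : ι → G → ℂ) :
    fsInd (∑ i ∈ s, c i • f i) = ∑ i ∈ s, c i * fsInd (f i) := by
  unfold fsInd
  simp only [Finset.sum_apply, Pi.smul_apply, smul_eq_mul]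
  rw [Finset.sum_comm, Finset.mul_sum]
  refine Finset.sum_congr rfl (fun i _ => ?_)
  rw [← Finset.mul_sum]; ring

end FS

section Main

variable {G : Type*} [Group G] [Fintype G] (N : Subgroup G) [hN : N.Normal] [Fintype N]

/-- For real-valued irreducible `χ₁, χ₂`, the parity of `[(χ₁)_N, (χ₂)_N]` is that of
`[χ₁, χ₂]`, when `|G : N|` is odd. -/
theorem parity_restrict_pair (hodd : Odd N.index) (χ₁ χ₂ : IrrCharacter G)
    (h₁ : ∀ g, ((χ₁ : G → ℂ) g).im = 0) (h₂ : ∀ g, ((χ₂ : G → ℂ) g).im = 0) :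
    ∃ d : ℕ, classInner (fun n : N => (χ₁ : G → ℂ) n) (fun n : N => (χ₂ : G → ℂ) n) = d ∧
      d % 2 = if χ₁ = χ₂ then 1 else 0 := by
  classical
  have hΘ : IsCharacter G ((χ₁ : G → ℂ) * (χ₂ : G → ℂ)) :=
    isCharacter_mul (isCharacter_of_irr χ₁.2) (isCharacter_of_irr χ₂.2)
  have hΘreal : ∀ g, (((χ₁ : G → ℂ) * (χ₂ : G → ℂ)) g).im = 0 := by
    intro g
    simp only [Pi.mul_apply, Complex.mul_im, h₁ g, h₂ g, mul_zero, zero_mul, add_zero]
  have hconj₂ : ∀ g, conj ((χ₂ : G → ℂ) g) = (χ₂ : G → ℂ) g := fun g =>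
    Complex.conj_eq_iff_im.mpr (h₂ g)
  have hone : IsIrrCharacter N (fun _ => (1 : ℂ)) := by
    have := isIrrCharacter_one (G := N)
    simpa [Pi.one_def] using this
  obtain ⟨d, hd⟩ := classInner_char_irr_nat (isCharacter_restrict N hΘ) hone
  have ha : classInner ((χ₁ : G → ℂ) * (χ₂ : G → ℂ)) (fun _ => (1 : ℂ)) =
      ((if χ₁ = χ₂ then 1 else 0 : ℕ) : ℂ) := by
    have h3 : classInner ((χ₁ : G → ℂ) * (χ₂ : G → ℂ)) (fun _ => (1 : ℂ)) =
        classInner (χ₁ : G → ℂ) (χ₂ : G → ℂ) := by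
      unfold classInner
      congr 1
      refine Finset.sum_congr rfl (fun g _ => ?_)
      simp only [Pi.mul_apply, map_one, mul_one, hconj₂ g]
    rw [h3, irr_classInner_eq χ₁.2 χ₂.2]
    have : ((χ₁ : G → ℂ) = (χ₂ : G → ℂ)) ↔ χ₁ = χ₂ := Subtype.ext_iff.symm
    simp only [this]
    split_ifs <;> simp
  refine ⟨d, ?_, ?_⟩
  · rw [← hd]
    unfold classInner
    congr 1
    refine Finset.sum_congr rfl (fun n _ => ?_)
    simp only [Pi.mul_apply, map_one, mul_one, hconj₂ (n : G)]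
  · have h4 := (parity_restrict_of_odd_index N hodd hΘ hΘreal _ d ha hd).symm
    rw [h4]
    split_ifs <;> rfl

/-- Uniqueness of the real character over a given character when the index is odd. -/
theorem real_over_unique (hodd : Odd N.index) (φ : IrrCharacter N) (χ₁ χ₂ : IrrCharacter G)
    (h₁ : ∀ g, ((χ₁ : G → ℂ) g).im = 0) (h₂ : ∀ g, ((χ₂ : G → ℂ) g).im = 0)
    (ho₁ : classInner (fun n : N => (χ₁ : G → ℂ) n) (φ : N → ℂ) ≠ 0)
    (ho₂ : classInner (fun n : N => (χ₂ : G → ℂ) n) (φ : N → ℂ) ≠ 0) : χ₁ = χ₂ := by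
  classical
  by_contra hne
  have hc₁ := Cfsg.Agent.S0174.result N hN (χ₁ : G → ℂ) χ₁.2 (φ : N → ℂ) φ.2 ho₁
  have hc₂ := Cfsg.Agent.S0174.result N hN (χ₂ : G → ℂ) χ₂.2 (φ : N → ℂ) φ.2 ho₂
  set Ω : N → ℂ := ∑ᶠ ψ ∈ {ψ : N → ℂ | ∃ g : G, ψ = fun n : N =>
    (φ : N → ℂ) ⟨g * n * g⁻¹, hN.conj_mem n n.2 g⟩}, ψ with hΩ
  obtain ⟨n₁, hn₁⟩ := classInner_char_irr_nat
    (isCharacter_restrict N (isCharacter_of_irr χ₁.2)) φ.2
  obtain ⟨n₂, hn₂⟩ := classInner_char_irr_nat
    (isCharacter_restrict N (isCharacter_of_irr χ₂.2)) φ.2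
  rw [hn₁] at hc₁
  rw [hn₂] at hc₂
  obtain ⟨d₁₁, hd₁₁, hp₁₁⟩ := parity_restrict_pair N hodd χ₁ χ₁ h₁ h₁
  obtain ⟨d₂₂, hd₂₂, hp₂₂⟩ := parity_restrict_pair N hodd χ₂ χ₂ h₂ h₂
  obtain ⟨d₁₂, hd₁₂, hp₁₂⟩ := parity_restrict_pair N hodd χ₁ χ₂ h₁ h₂
  rw [if_pos rfl] at hp₁₁ hp₂₂
  rw [if_neg hne] at hp₁₂
  rw [hc₁, classInner_smul_left, classInner_smul_right, Complex.conj_natCast] at hd₁₁
  rw [hc₂, classInner_smul_left, classInner_smul_right, Complex.conj_natCast] at hd₂₂
  rw [hc₁, hc₂, classInner_smul_left, classInner_smul_right, Complex.conj_natCast] at hd₁₂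
  have hprod : ((d₁₂ * d₁₂ : ℕ) : ℂ) = ((d₁₁ * d₂₂ : ℕ) : ℂ) := by
    push_cast
    rw [← hd₁₂, ← hd₁₁, ← hd₂₂]; ring
  have hprod' : d₁₂ * d₁₂ = d₁₁ * d₂₂ := by exact_mod_cast hprod
  have h1 : (d₁₂ * d₁₂) % 2 = 0 := by
    rw [Nat.mul_mod, hp₁₂]
  have h2 : (d₁₁ * d₂₂) % 2 = 1 := by
    rw [Nat.mul_mod, hp₁₁, hp₂₂]
  omega

/-- **Real characters over a normal subgroup of odd index**: a character `φ` of `N` with
Frobenius–Schur indicator `+1` lies under a unique character of `G` with indicator `+1`. -/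
theorem existsUnique_fsInd_one_over (hodd : Odd N.index) (φ : IrrCharacter N)
    (hφ : fsInd (φ : N → ℂ) = 1) :
    ∃! χ : IrrCharacter G, fsInd (χ : G → ℂ) = 1 ∧
      classInner (fun n : N => (χ : G → ℂ) n) (φ : N → ℂ) ≠ 0 := by
  classical
  have := Fintype.ofFinite (IrrCharacter G)
  have hφreal : ∀ n : N, ((φ : N → ℂ) n).im = 0 :=
    real_of_fsInd_ne_zero φ (by rw [hφ]; exact one_ne_zero)
  -- multiplicities
  have hind : IsCharacter G (indFun N (φ : N → ℂ)) := isCharacter_indFun N (isCharacter_of_irr φ.2)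
  choose m hm using fun χ : IrrCharacter G => classInner_char_irr_nat hind χ.2
  have hm0 : ∀ χ : IrrCharacter G, m χ ≠ 0 ↔
      classInner (fun n : N => (χ : G → ℂ) n) (φ : N → ℂ) ≠ 0 := by
    intro χ
    have h1 : classInner (indFun N (φ : N → ℂ)) (χ : G → ℂ) =
        conj (classInner (fun n : N => (χ : G → ℂ) n) (φ : N → ℂ)) := by
      rw [frobenius_reciprocity N _ _ (isClassFunction_of_isCharacter (isCharacter_of_irr χ.2)),
        classInner_conj_symm]
    rw [hm χ] at h1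
    constructor
    · intro h h0
      rw [h0, map_zero] at h1
      exact h (by exact_mod_cast h1)
    · intro h h0
      rw [h0] at h1
      apply h
      have : conj (classInner (fun n : N => (χ : G → ℂ) n) (φ : N → ℂ)) = 0 := by
        rw [← h1]; simp
      simpa using this
  -- the indicator of the induced character
  have hsum : (1 : ℂ) = ∑ χ : IrrCharacter G, (m χ : ℂ) * fsInd (χ : G → ℂ) := by
    rw [← hφ, ← fsInd_indFun_of_odd_index N hodd (φ : N → ℂ)]
    conv_lhs => rw [classFunction_expansion (indFun N (φ : N → ℂ)) (indFun_isClassFunction N _)]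
    rw [fsInd_sum_smul]
    refine Finset.sum_congr rfl (fun χ _ => ?_)
    rw [hm χ]
  -- a real character over φ exists
  have hex : ∃ χ₀ : IrrCharacter G, (∀ g, ((χ₀ : G → ℂ) g).im = 0) ∧ m χ₀ ≠ 0 := by
    by_contra hno
    push Not at hno
    have : ∑ χ : IrrCharacter G, (m χ : ℂ) * fsInd (χ : G → ℂ) = 0 := by
      refine Finset.sum_eq_zero (fun χ _ => ?_)
      by_cases hr : ∀ g, ((χ : G → ℂ) g).im = 0
      · rw [hno χ hr]; simp
      · push Not at hr
        rw [fsInd_eq_zero_of_not_real χ hr, mul_zero]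
    rw [this] at hsum
    exact one_ne_zero hsum
  obtain ⟨χ₀, hreal₀, hm₀⟩ := hex
  have hsingle : ∑ χ : IrrCharacter G, (m χ : ℂ) * fsInd (χ : G → ℂ) =
      (m χ₀ : ℂ) * fsInd (χ₀ : G → ℂ) := by
    refine Finset.sum_eq_single χ₀ (fun χ _ hne => ?_) (fun h => absurd (Finset.mem_univ _) h)
    by_cases hr : ∀ g, ((χ : G → ℂ) g).im = 0
    · by_cases hmχ : m χ = 0
      · rw [hmχ]; simp
      · exact absurd (real_over_unique N hodd φ χ χ₀ hr hreal₀ ((hm0 χ).mp hmχ)
          ((hm0 χ₀).mp hm₀)) hne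
    · push Not at hr
      rw [fsInd_eq_zero_of_not_real χ hr, mul_zero]
  rw [hsingle] at hsum
  have hν : fsInd (χ₀ : G → ℂ) = 1 := by
    rcases fsInd_irr_cases χ₀ with ⟨h0, _⟩ | ⟨h1 | h1, _⟩
    · rw [h0, mul_zero] at hsum
      exact absurd hsum one_ne_zero
    · exact h1
    · exfalso
      rw [h1] at hsum
      have h2 : ((m χ₀ : ℝ) : ℂ) = ((-1 : ℝ) : ℂ) := by
        push_cast
        linear_combination hsum
      have h3 : (m χ₀ : ℝ) = -1 := Complex.ofReal_injective h2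
      have h4 : (0 : ℝ) ≤ (m χ₀ : ℝ) := Nat.cast_nonneg _
      linarith
  refine ⟨χ₀, ⟨hν, (hm0 χ₀).mp hm₀⟩, ?_⟩
  rintro χ ⟨hχν, hχo⟩
  exact real_over_unique N hodd φ χ χ₀
    (real_of_fsInd_ne_zero χ (by rw [hχν]; exact one_ne_zero)) hreal₀ hχo ((hm0 χ₀).mp hm₀)

end Main

end Cfsg.Agent.Lib.H24
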