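import Cfsg.Agent.Lib.H24.CharDefl

/-!
# The bijection between `Irr(G/N)` and the irreducible characters of `G` with `N` in the kernel
-/

set_option autoImplicit false

namespace Cfsg.Agent.Lib.H24

open Cfsg

/-- Inflation as an equivalence from `Irr(G ⧸ N)` onto the irreducible characters of `G` that are
trivial on `N`. -/
noncomputable def inflEquiv {G : Type*} [Group G] [Finite G] (N : Subgroup G) [N.Normal] :
    IrrCharacter (G ⧸ N) ≃ {χ : IrrCharacter G // ∀ n ∈ N, (χ : G → ℂ) n = (χ : G → ℂ) 1} :=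
  Equiv.ofBijective
    (fun ψ : IrrCharacter (G ⧸ N) =>
      (⟨inflIrr N ψ, fun n hn => by
        rw [inflIrr_apply, inflIrr_apply, (QuotientGroup.eq_one_iff n).mpr hn,
          QuotientGroup.mk_one]⟩ :
        {χ : IrrCharacter G // ∀ n ∈ N, (χ : G → ℂ) n = (χ : G → ℂ) 1}))
    ⟨by
      intro ψ ψ' h
      apply Subtype.ext
      funext q
      obtain ⟨g, rfl⟩ := QuotientGroup.mk_surjective q
      have h1 := congrArg
        (fun z : {χ : IrrCharacter G // ∀ n ∈ N, (χ : G → ℂ) n = (χ : G → ℂ) 1} =>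
          (z.1 : G → ℂ) g) h
      exact h1, by
      intro χ
      obtain ⟨ψ, hψ⟩ := exists_deflation χ.1 N χ.2
      refine ⟨ψ, ?_⟩
      apply Subtype.ext
      apply Subtype.ext
      funext g
      exact hψ g⟩

theorem inflEquiv_apply {G : Type*} [Group G] [Finite G] (N : Subgroup G) [N.Normal]
    (ψ : IrrCharacter (G ⧸ N)) (g : G) :
    ((inflEquiv N ψ).1 : G → ℂ) g = (ψ : G ⧸ N → ℂ) (g : G ⧸ N) := rfl

end Cfsg.Agent.Lib.H24
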