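import Cfsg.Agent.Lib.H24.RelGlaubK

/-!
# The relative Glauberman correspondence (helper24)

In the setting `RG p P K Q C` (`P` a `p`-group normalising `K`, `Q` the normal Sylow `p`-subgroup
of `K`, `C / Q = C_{K/Q}(P)`):
* `corr_exists`: for `χ ∈ Irr_P(K)` there are `ξ₀ ∈ Irr_P(C)` and a sign `ε` with
  `[χ_C, ξ] ≡ ε δ_{ξ ξ₀} mod p` for all `ξ ∈ Irr_P(C)`;
* `corr_inj`, `corr_surj`: the map `χ ↦ ξ₀` is a bijection `Irr_P(K) → Irr_P(C)`.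
-/

set_option autoImplicit false

universe u

namespace Cfsg.Agent.Lib.H24.RelGlaub

open Cfsg Cfsg.Agent.Lib.L0 Cfsg.Agent.Lib.H23 Cfsg.Agent.Lib.H8 Cfsg.Agent.Lib.H24
open Cfsg.Agent.Lib.H24.Glaub
open scoped ComplexConjugate

variable {Γ : Type u} [Group Γ] [Fintype Γ]

variable {p : ℕ} {P K Q C : Subgroup Γ} [Fintype Q] [Fintype K] [Fintype C]

omit [Fintype Γ] in
theorem resMult_ne_zero_trans (hCK : C ≤ K) (hQC : Q ≤ C) (χ : IrrCharacter K)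
    (ξ : IrrCharacter C) (θ : IrrCharacter Q) (h1 : resMult hCK (χ : K → ℂ) (ξ : C → ℂ) ≠ 0)
    (h2 : resMult hQC (ξ : C → ℂ) (θ : Q → ℂ) ≠ 0) :
    resMult (hQC.trans hCK) (χ : K → ℂ) (θ : Q → ℂ) ≠ 0 := by
  classical
  letI : Fintype (IrrCharacter C) := Fintype.ofFinite _
  have h3 := resMult_trans hCK hQC (isCharacter_of_irr χ.2) θ.2
  intro h0
  rw [h0, Nat.cast_zero] at h3
  have h4 : (0 : ℤ) < (resMult hCK (χ : K → ℂ) (ξ : C → ℂ) : ℤ) *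
      (resMult hQC (ξ : C → ℂ) (θ : Q → ℂ) : ℤ) := by
    have h5 : 0 < resMult hCK (χ : K → ℂ) (ξ : C → ℂ) := Nat.pos_of_ne_zero h1
    have h6 : 0 < resMult hQC (ξ : C → ℂ) (θ : Q → ℂ) := Nat.pos_of_ne_zero h2
    positivity
  have h7 : (resMult hCK (χ : K → ℂ) (ξ : C → ℂ) : ℤ) *
      (resMult hQC (ξ : C → ℂ) (θ : Q → ℂ) : ℤ) ≤
      ∑ ψ : IrrCharacter C, (resMult hCK (χ : K → ℂ) (ψ : C → ℂ) : ℤ) *
        (resMult hQC (ψ : C → ℂ) (θ : Q → ℂ) : ℤ) :=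
    Finset.single_le_sum (f := fun ψ : IrrCharacter C =>
      (resMult hCK (χ : K → ℂ) (ψ : C → ℂ) : ℤ) * (resMult hQC (ψ : C → ℂ) (θ : Q → ℂ) : ℤ))
      (fun ψ _ => by positivity) (Finset.mem_univ ξ)
  linarith

theorem resMult_conj_invariant (hQC : Q ≤ C) (hCQ : ∀ c ∈ C, ∀ q ∈ Q, c * q * c⁻¹ ∈ Q)
    (ξ : IrrCharacter C) {c : Γ} (hc : c ∈ C) (θ θ' : IrrCharacter Q)
    (hrel : ∀ q q' : Q, (q' : Γ) = c * q * c⁻¹ → (θ' : Q → ℂ) q = (θ : Q → ℂ) q') :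
    resMult hQC (ξ : C → ℂ) (θ' : Q → ℂ) = resMult hQC (ξ : C → ℂ) (θ : Q → ℂ) := by
  have h1 : (θ' : Q → ℂ) = (θ : Q → ℂ) ∘ conjN Q c (hCQ c hc) (inv_norm_of_norm (hCQ c hc)) := by
    funext q
    exact hrel q _ rfl
  rw [h1, resMult_conj_right hQC (hCQ c hc) (inv_norm_of_norm (hCQ c hc))
    (invUnder_of_mem hc (isClassFunction_of_isCharacter (isCharacter_of_irr ξ.2)))]

namespace RG

theorem corr_exists (h : RG p P K Q C) (χ : IrrCharacter K)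
    (hχ : ∀ x ∈ P, InvUnder K x (χ : K → ℂ)) :
    ∃ ξ₀ : IrrCharacter C, (∀ x ∈ P, InvUnder C x (ξ₀ : C → ℂ)) ∧ ∃ ε : ℤ, (ε = 1 ∨ ε = -1) ∧
      ∀ ξ : IrrCharacter C, (∀ x ∈ P, InvUnder C x (ξ : C → ℂ)) →
        (p : ℤ) ∣ (resMult h.hCK (χ : K → ℂ) (ξ : C → ℂ) : ℤ) - ε * (if ξ = ξ₀ then 1 else 0) := by
  classical
  obtain ⟨θ, hθ, hχθ⟩ := exists_inv_constituent_rel h.hp h.hQK h.hKQ h.hPQ h.hP h.hidx χ hχ
  obtain ⟨T, D, hDT, hpk⟩ := h.exists_package θ hθ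
  letI : Fintype (img Q D) := Fintype.ofFinite _
  obtain ⟨ΦK, ΦC, Inv', corr, hΦCinj, hsurjK, hsurjC, hinvK, hinvC, hmult⟩ := hpk
  obtain ⟨β', rfl⟩ := hsurjK χ hχθ
  have hβ'inv : Inv' (β' : img Q T → ℂ) := (hinvK β').mpr hχ
  obtain ⟨γ₀, ε, hε, hall⟩ := corr.exists_corr β' hβ'inv
  refine ⟨ΦC γ₀, hinvC γ₀, ε, hε, ?_⟩
  intro ξ hξ
  by_cases h0 : resMult h.hCK ((ΦK β' : IrrCharacter K) : K → ℂ) (ξ : C → ℂ) = 0
  · have hne : ξ ≠ ΦC γ₀ := by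
      intro heq
      rw [heq, hmult] at h0
      have h1 := hall γ₀
      rw [if_pos rfl, h0] at h1
      exact not_dvd_of_dvd_sub_sign h.hp hε h1 (dvd_zero _)
    rw [if_neg hne, h0]
    simp
  · obtain ⟨θ', hθ', hξθ'⟩ := exists_inv_constituent_rel h.hp h.hQC h.hCQ h.hPQ h.hP h.hidxC ξ hξ
    have hχθ' := resMult_ne_zero_trans h.hCK h.hQC (ΦK β') ξ θ' h0 hξθ'
    obtain ⟨c, hc, hrel⟩ := exists_conj_in_C h.hp h.hQK h.hKQ h.hPQ h.hPK h.hP h.hidx h.hC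
      (ΦK β') θ θ' hθ hθ' hχθ hχθ'
    have hξθ : resMult h.hQC (ξ : C → ℂ) (θ : Q → ℂ) ≠ 0 := by
      rw [← resMult_conj_invariant h.hQC h.hCQ ξ hc θ θ' hrel]
      exact hξθ'
    obtain ⟨γ', rfl⟩ := hsurjC ξ hξθ
    rw [hmult]
    have h1 := hall γ'
    by_cases hγ : γ' = γ₀
    · rw [if_pos hγ] at h1
      rw [if_pos (congrArg ΦC hγ)]
      exact h1
    · rw [if_neg hγ] at h1
      rw [if_neg (fun heq => hγ (hΦCinj heq))]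
      exact h1

theorem corr_inj (h : RG p P K Q C) (χ χ' : IrrCharacter K)
    (hχ : ∀ x ∈ P, InvUnder K x (χ : K → ℂ)) (hχ' : ∀ x ∈ P, InvUnder K x (χ' : K → ℂ))
    (ξ : IrrCharacter C) (hξ : ∀ x ∈ P, InvUnder C x (ξ : C → ℂ))
    (h1 : ¬ p ∣ resMult h.hCK (χ : K → ℂ) (ξ : C → ℂ))
    (h2 : ¬ p ∣ resMult h.hCK (χ' : K → ℂ) (ξ : C → ℂ)) : χ = χ' := by
  classical
  obtain ⟨θ, hθ, hξθ⟩ := exists_inv_constituent_rel h.hp h.hQC h.hCQ h.hPQ h.hP h.hidxC ξ hξ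
  have h1' : resMult h.hCK (χ : K → ℂ) (ξ : C → ℂ) ≠ 0 := fun h0 => h1 (by rw [h0]; exact dvd_zero _)
  have h2' : resMult h.hCK (χ' : K → ℂ) (ξ : C → ℂ) ≠ 0 :=
    fun h0 => h2 (by rw [h0]; exact dvd_zero _)
  have hχθ := resMult_ne_zero_trans h.hCK h.hQC χ ξ θ h1' hξθ
  have hχ'θ := resMult_ne_zero_trans h.hCK h.hQC χ' ξ θ h2' hξθ
  obtain ⟨T, D, hDT, hpk⟩ := h.exists_package θ hθ
  letI : Fintype (img Q D) := Fintype.ofFinite _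
  obtain ⟨ΦK, ΦC, Inv', corr, hΦCinj, hsurjK, hsurjC, hinvK, hinvC, hmult⟩ := hpk
  obtain ⟨β₁, rfl⟩ := hsurjK χ hχθ
  obtain ⟨β₂, rfl⟩ := hsurjK χ' hχ'θ
  obtain ⟨γ', rfl⟩ := hsurjC ξ hξθ
  rw [hmult] at h1 h2
  have h3 := corr.inj β₁ β₂ ((hinvK β₁).mpr hχ) ((hinvK β₂).mpr hχ') γ' h1 h2
  rw [h3]

theorem corr_surj (h : RG p P K Q C) (ξ : IrrCharacter C)
    (hξ : ∀ x ∈ P, InvUnder C x (ξ : C → ℂ)) :
    ∃ χ : IrrCharacter K, (∀ x ∈ P, InvUnder K x (χ : K → ℂ)) ∧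
      ¬ p ∣ resMult h.hCK (χ : K → ℂ) (ξ : C → ℂ) := by
  classical
  obtain ⟨θ, hθ, hξθ⟩ := exists_inv_constituent_rel h.hp h.hQC h.hCQ h.hPQ h.hP h.hidxC ξ hξ
  obtain ⟨T, D, hDT, hpk⟩ := h.exists_package θ hθ
  letI : Fintype (img Q D) := Fintype.ofFinite _
  obtain ⟨ΦK, ΦC, Inv', corr, hΦCinj, hsurjK, hsurjC, hinvK, hinvC, hmult⟩ := hpk
  obtain ⟨γ', rfl⟩ := hsurjC ξ hξθ
  obtain ⟨β', hβ'inv, hβ'⟩ := corr.surj γ'
  refine ⟨ΦK β', (hinvK β').mp hβ'inv, ?_⟩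
  rw [hmult]
  exact hβ'

/-- The degrees of corresponding characters are congruent modulo `p` up to the sign `ε`. -/
theorem corr_degree (h : RG p P K Q C) (χ : IrrCharacter K)
    (hχ : ∀ x ∈ P, InvUnder K x (χ : K → ℂ)) (ξ₀ : IrrCharacter C)
    (hξ₀ : ∀ x ∈ P, InvUnder C x (ξ₀ : C → ℂ)) (ε : ℤ)
    (hall : ∀ ξ : IrrCharacter C, (∀ x ∈ P, InvUnder C x (ξ : C → ℂ)) →
      (p : ℤ) ∣ (resMult h.hCK (χ : K → ℂ) (ξ : C → ℂ) : ℤ) - ε * (if ξ = ξ₀ then 1 else 0)) :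
    (p : ℤ) ∣ (charDegree (χ : K → ℂ) : ℤ) - ε * (charDegree (ξ₀ : C → ℂ) : ℤ) := by
  classical
  letI : Fintype (IrrCharacter C) := Fintype.ofFinite _
  set g : IrrCharacter C → ℤ := fun φ =>
    (resMult h.hCK (χ : K → ℂ) (φ : C → ℂ) : ℤ) * (charDegree (φ : C → ℂ) : ℤ) with hg
  have hginv : ∀ (x : P) (φ : IrrCharacter C), g ((irrAct C P h.hPC).smul x φ) = g φ := by
    intro x φ
    have hx' : (x : Γ)⁻¹ ∈ P := P.inv_mem x.2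
    show (resMult h.hCK (χ : K → ℂ) (((irrAct C P h.hPC).smul x φ : IrrCharacter C) : C → ℂ) : ℤ) *
      (charDegree (((irrAct C P h.hPC).smul x φ : IrrCharacter C) : C → ℂ) : ℤ) = _
    have h1 : charDegree (((irrAct C P h.hPC).smul x φ : IrrCharacter C) : C → ℂ) =
        charDegree (φ : C → ℂ) := by
      apply charDegree_eq_of_apply_one
      rw [irrAct_smul_coe, Function.comp_apply, map_one]
      exact apply_one_eq_charDegree _ φ.2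
    rw [h1, irrAct_smul_coe,
      resMult_conj_right h.hCK (h.hPC _ hx') (inv_norm_of_norm (h.hPC _ hx')) (hχ _ hx')]
  have h1 := sum_irr_modEq C P h.hPC h.hp h.hP g hginv
  have h2 : (∑ φ : IrrCharacter C, g φ) = (charDegree (χ : K → ℂ) : ℤ) := by
    rw [charDegree_eq_sum_resMult h.hCK χ]
    push_cast
    rfl
  rw [h2] at h1
  have h3 : (∑ φ : IrrCharacter C,
      (if ∀ q ∈ P, InvUnder C q (φ : C → ℂ) then g φ else 0)) ≡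
      ε * (charDegree (ξ₀ : C → ℂ) : ℤ) [ZMOD p] := by
    have h4 : ε * (charDegree (ξ₀ : C → ℂ) : ℤ) = ∑ φ : IrrCharacter C,
        (if φ = ξ₀ then ε * (charDegree (ξ₀ : C → ℂ) : ℤ) else 0) := by
      rw [Finset.sum_ite_eq' Finset.univ ξ₀, if_pos (Finset.mem_univ _)]
    rw [h4]
    apply Int.ModEq.sum
    intro φ _
    by_cases hinv : ∀ q ∈ P, InvUnder C q (φ : C → ℂ)
    · rw [if_pos hinv]
      have h5 := hall φ hinv
      by_cases hφ : φ = ξ₀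
      · rw [if_pos hφ] at h5 ⊢
        rw [hφ]
        have h6 : (resMult h.hCK (χ : K → ℂ) (ξ₀ : C → ℂ) : ℤ) ≡ ε [ZMOD p] := by
          rw [hφ, mul_one] at h5
          exact (Int.modEq_of_dvd (by
            have := dvd_neg.mpr h5
            rwa [neg_sub] at this))
        exact h6.mul_right _
      · rw [if_neg hφ] at h5 ⊢
        rw [mul_zero, sub_zero] at h5
        exact (Int.modEq_zero_iff_dvd.mpr (Dvd.dvd.mul_right h5 _))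
    · rw [if_neg hinv]
      by_cases hφ : φ = ξ₀
      · exact absurd (hφ ▸ hξ₀) hinv
      · rw [if_neg hφ]
  have h7 := h1.trans h3
  exact (Int.modEq_iff_dvd.mp h7.symm)

end RG

end Cfsg.Agent.Lib.H24.RelGlaub
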