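import Mathlib

/-!
# Orbit counting with `Quot` (helper24's library)

* `card_quot_mul_card` : Burnside's lemma for the quotient of a `G`-set by a relation equivalent
  to the orbit relation.
* `card_quot_eq_of_card_fixedBy_eq` : two `G`-sets with equal fixed point numbers have equally many
  orbits.
* `mem_of_sq_mem_of_odd_index`.
* `conjClassesAction` : the action of `G` on the conjugacy classes of a normal subgroup.
-/

set_option autoImplicit false

namespace Cfsg.Agent.Lib.H24

open MulAction

section orbit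

variable {G : Type*} [Group G] [Finite G]

theorem card_quot_mul_card {X : Type*} [MulAction G X] [Finite X]
    (r : X → X → Prop) (hr : ∀ x y, r x y ↔ ∃ g : G, g • x = y) :
    Nat.card (Quot r) * Nat.card G = ∑ᶠ g : G, Nat.card (fixedBy X g) := by
  classical
  have := Fintype.ofFinite G
  have := Fintype.ofFinite X
  have h1 : Nat.card (Quot r) = Nat.card (Quotient (orbitRel G X)) := by
    refine Nat.card_congr (Quot.congrRight (fun a b => ?_))
    rw [hr]
    show _ ↔ (orbitRel G X) a b
    rw [orbitRel_apply]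
    constructor
    · rintro ⟨g, hg⟩
      rw [← hg]
      exact (orbitRel G X).symm (mem_orbit a g)
    · intro h
      have h2 : b ∈ orbit G a := (orbitRel G X).symm h
      obtain ⟨g, hg⟩ := h2
      exact ⟨g, hg⟩
  rw [h1, finsum_eq_sum_of_fintype]
  have h2 := sum_card_fixedBy_eq_card_orbits_mul_card_group G X
  simp only [Nat.card_eq_fintype_card]
  rw [← h2]

theorem card_quot_eq_of_card_fixedBy_eq {X Y : Type*} [MulAction G X] [Finite X]
    [MulAction G Y] [Finite Y] (r : X → X → Prop) (hr : ∀ x y, r x y ↔ ∃ g : G, g • x = y)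
    (s : Y → Y → Prop) (hs : ∀ x y, s x y ↔ ∃ g : G, g • x = y)
    (h : ∀ g : G, Nat.card (fixedBy X g) = Nat.card (fixedBy Y g)) :
    Nat.card (Quot r) = Nat.card (Quot s) := by
  have h1 := card_quot_mul_card (G := G) r hr
  have h2 := card_quot_mul_card (G := G) s hs
  simp only [h] at h1
  rw [← h2] at h1
  exact Nat.eq_of_mul_eq_mul_right Nat.card_pos h1

end orbit

theorem quot_eq_iff_of_orbit {G X : Type*} [Group G] [MulAction G X] (r : X → X → Prop)
    (hr : ∀ x y, r x y ↔ ∃ g : G, g • x = y) (x y : X) :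
    Quot.mk r x = Quot.mk r y ↔ r x y := by
  constructor
  · intro h
    have h1 := Quot.eqvGen_exact h
    clear h
    induction h1 with
    | rel a b hab => exact hab
    | refl a => exact (hr a a).mpr ⟨1, one_smul G a⟩
    | symm a b _ ih =>
      obtain ⟨g, hg⟩ := (hr a b).mp ih
      exact (hr b a).mpr ⟨g⁻¹, by rw [← hg, inv_smul_smul]⟩
    | trans a b c _ _ ih1 ih2 =>
      obtain ⟨g, hg⟩ := (hr a b).mp ih1
      obtain ⟨h, hh⟩ := (hr b c).mp ih2
      exact (hr a c).mpr ⟨h * g, by rw [mul_smul, hg, hh]⟩
  · exact fun h => Quot.sound h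

theorem mem_of_sq_mem_of_odd_index {G : Type*} [Group G] (K S : Subgroup G) [K.Normal]
    (hodd : Odd K.index) (hKS : K ≤ S) (g : G) (hg2 : g ^ 2 ∈ S) : g ∈ S := by
  obtain ⟨t, ht⟩ := hodd
  have h1 : g ^ K.index ∈ S := hKS (Subgroup.pow_index_mem K g)
  have h2 : g ^ (2 * t) ∈ S := by rw [pow_mul]; exact S.pow_mem hg2 t
  have : g = g ^ K.index * (g ^ (2 * t))⁻¹ := by rw [ht, pow_succ]; group
  rw [this]; exact S.mul_mem h1 (S.inv_mem h2)

theorem isConj_inv_inv {α : Type*} [Group α] {a b : α} (h : IsConj a b) : IsConj a⁻¹ b⁻¹ := by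
  obtain ⟨c, hc⟩ := isConj_iff.mp h
  exact isConj_iff.mpr ⟨c, by rw [← hc]; group⟩

section classaction

variable {G : Type*} [Group G] (K : Subgroup G) [hK : K.Normal]

/-- The action of `G` on the conjugacy classes of a normal subgroup. -/
@[instance_reducible]
def conjClassesAction : MulAction G (ConjClasses K) where
  smul g C := ConjClasses.map (MulAut.conjNormal g : MulAut K).toMonoidHom C
  one_smul C := by
    obtain ⟨k, rfl⟩ := ConjClasses.mk_surjective C
    show ConjClasses.mk ((MulAut.conjNormal (1 : G) : MulAut K) k) = ConjClasses.mk k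
    rw [map_one]; rfl
  mul_smul g h C := by
    obtain ⟨k, rfl⟩ := ConjClasses.mk_surjective C
    show ConjClasses.mk ((MulAut.conjNormal (g * h) : MulAut K) k) =
      ConjClasses.mk ((MulAut.conjNormal g : MulAut K) ((MulAut.conjNormal h : MulAut K) k))
    rw [map_mul]; rfl

theorem conjClassesAction_mk (g : G) (k : K) :
    (conjClassesAction K).smul g (ConjClasses.mk k) =
      ConjClasses.mk ((MulAut.conjNormal g : MulAut K) k) := rfl

end classaction

end Cfsg.Agent.Lib.H24
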