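import Mathlib
import Cfsg.Agent.Lib.H12.Lucido

/-!
# S3814, tool (F2): every Sylow subgroup contains `C_t × C_t` (helper24)

Let `G` be a finite solvable group, `t, a, b, c` four different primes such that `G` has elements of
orders `t * a`, `t * b`, `t * c` but no element of order `t * (a * b)`, `t * (a * c)`, `t * (b * c)`.
Then `G` has two commuting elements `x, z` of order `t` with `x ∉ ⟨z⟩`.

Proof: `z` of order `t` in the centre of a Sylow `t`-subgroup `P`.  If every element of order `t`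
commuting with `z` lay in `⟨z⟩`, the `t`-parts of the three elements of orders `ta, tb, tc` would be
conjugate into `⟨z⟩`, so `a, b, c` would all divide `|C_G(z)|`, and helper12's landed
`Lucido.centralizer_three_primes` would give an element of order `t * (two of them)`.
-/

set_option autoImplicit false

namespace Cfsg.Agent.Lib.H24.S3814F2

universe u

open scoped Pointwise

/-- the two prime parts of an element of order `t * s` -/
theorem parts {G : Type*} [Group G] {t s : ℕ} (ht : t.Prime) (hs : s.Prime) (g : G)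
    (hg : orderOf g = t * s) :
    orderOf (g ^ s) = t ∧ orderOf (g ^ t) = s ∧ Commute (g ^ s) (g ^ t) := by
  refine ⟨?_, ?_, (Commute.refl g).pow_pow s t⟩
  · rw [orderOf_pow_of_dvd hs.ne_zero (by rw [hg]; exact dvd_mul_left s t), hg,
      Nat.mul_div_cancel _ hs.pos]
  · rw [orderOf_pow_of_dvd ht.ne_zero (by rw [hg]; exact dvd_mul_right t s), hg,
      Nat.mul_div_cancel_left _ ht.pos]

/-- **(F2), four-prime form.** -/
theorem rank_two_of {G : Type u} [Group G] [Finite G] [Group.IsSolvable G] {t a b c : ℕ}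
    (ht : t.Prime) (ha : a.Prime) (hb : b.Prime) (hc : c.Prime)
    (hta : t ≠ a) (htb : t ≠ b) (htc : t ≠ c) (hab : a ≠ b) (hac : a ≠ c) (hbc : b ≠ c)
    (h_ta : ∃ g : G, orderOf g = t * a) (h_tb : ∃ g : G, orderOf g = t * b)
    (h_tc : ∃ g : G, orderOf g = t * c)
    (hN : ∀ g : G, orderOf g ≠ t * (a * b) ∧ orderOf g ≠ t * (a * c) ∧ orderOf g ≠ t * (b * c)) :
    ∃ x z : G, orderOf x = t ∧ orderOf z = t ∧ Commute x z ∧ x ∉ Subgroup.zpowers z := by
  classical
  have : Fact t.Prime := ⟨ht⟩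
  by_contra hcon
  push Not at hcon
  obtain ⟨P⟩ := (inferInstance : Nonempty (Sylow t G))
  -- `t` divides `|G|`
  have htG : t ∣ Nat.card G := by
    obtain ⟨g, hg⟩ := h_ta
    exact (Dvd.intro _ hg.symm).trans (orderOf_dvd_natCard g)
  have htP : t ∣ Nat.card P := P.dvd_card_of_dvd_card htG
  have : Nontrivial P := by
    rw [← Finite.one_lt_card_iff_nontrivial]
    exact lt_of_lt_of_le ht.one_lt (Nat.le_of_dvd Nat.card_pos htP)
  have hZ : Nontrivial (Subgroup.center P) := P.isPGroup'.center_nontrivial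
  have hZp : IsPGroup t (Subgroup.center P) := P.isPGroup'.to_subgroup _
  obtain ⟨k, hk⟩ := IsPGroup.iff_card.mp hZp
  have hk0 : k ≠ 0 := by
    intro h0
    rw [h0, pow_zero] at hk
    have := Finite.one_lt_card_iff_nontrivial.mpr hZ
    omega
  have htZ : t ∣ Nat.card (Subgroup.center P) := by
    rw [hk]; exact dvd_pow_self t hk0
  obtain ⟨z0, hz0⟩ := exists_prime_orderOf_dvd_card' t htZ
  set z : G := ((z0 : P) : G) with hzdef
  have hz : orderOf z = t := by
    rw [hzdef, Subgroup.orderOf_coe, Subgroup.orderOf_coe]; exact hz0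
  have hzc : ∀ y : G, y ∈ (P : Subgroup G) → Commute y z := by
    intro y hy
    have h1 := Subgroup.mem_center_iff.mp z0.2 ⟨y, hy⟩
    have h2 := congrArg (Subtype.val : P → G) h1
    simpa [Commute, SemiconjBy] using h2
  -- every prime `s` with an element of order `t * s` divides `|C_G(z)|`
  have key : ∀ s : ℕ, s.Prime → (∃ g : G, orderOf g = t * s) →
      s ∣ Nat.card (Subgroup.centralizer ({z} : Set G)) := by
    intro s hs ⟨g, hg⟩
    obtain ⟨hx, hy, hxy⟩ := parts ht hs g hg
    set x := g ^ s with hxdef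
    set y := g ^ t with hydef
    have hxP : IsPGroup t (Subgroup.zpowers x) := by
      apply IsPGroup.of_card (n := 1)
      rw [Nat.card_zpowers, hx, pow_one]
    obtain ⟨Q, hQ⟩ := hxP.exists_le_sylow
    obtain ⟨k, hkQ⟩ := MulAction.exists_smul_eq G Q P
    have hx' : k * x * k⁻¹ ∈ (P : Subgroup G) := by
      have h1 : MulAut.conj k • x ∈ MulAut.conj k • (Q : Subgroup G) :=
        Subgroup.smul_mem_pointwise_smul _ _ _ (hQ (Subgroup.mem_zpowers x))
      have h2 : ((k • Q : Sylow t G) : Subgroup G) = MulAut.conj k • (Q : Subgroup G) := rfl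
      rw [← h2, hkQ] at h1
      simpa [MulAut.smul_def] using h1
    have hox' : orderOf (k * x * k⁻¹) = t := by
      have := (MulAut.conj k).orderOf_eq x
      rw [MulAut.conj_apply] at this
      rw [this, hx]
    have hoy' : orderOf (k * y * k⁻¹) = s := by
      have := (MulAut.conj k).orderOf_eq y
      rw [MulAut.conj_apply] at this
      rw [this, hy]
    have hcz : Commute (k * x * k⁻¹) z := hzc _ hx'
    -- `z` is a power of `x'`
    have hzx : z ∈ Subgroup.zpowers (k * x * k⁻¹) := hcon z (k * x * k⁻¹) hz hox' hcz.symm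
    have hxy' : Commute (k * y * k⁻¹) (k * x * k⁻¹) := by
      have : Commute y x := hxy.symm
      have h3 : k * y * k⁻¹ * (k * x * k⁻¹) = k * (y * x) * k⁻¹ := by group
      have h4 : k * x * k⁻¹ * (k * y * k⁻¹) = k * (x * y) * k⁻¹ := by group
      show k * y * k⁻¹ * (k * x * k⁻¹) = k * x * k⁻¹ * (k * y * k⁻¹)
      rw [h3, h4, this.eq]
    obtain ⟨n, hn⟩ := Subgroup.mem_zpowers_iff.mp hzx
    have hyz : Commute (k * y * k⁻¹) z := by
      rw [← hn]; exact hxy'.zpow_right n
    have hmem : k * y * k⁻¹ ∈ Subgroup.centralizer ({z} : Set G) := by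
      rw [Subgroup.mem_centralizer_iff]
      intro w hw
      rw [Set.mem_singleton_iff] at hw
      rw [hw]; exact hyz.eq.symm
    have := orderOf_dvd_natCard (⟨k * y * k⁻¹, hmem⟩ : Subgroup.centralizer ({z} : Set G))
    rwa [Subgroup.orderOf_mk, hoy'] at this
  obtain ⟨g, hg⟩ := Cfsg.Agent.Lib.H12.Lucido.centralizer_three_primes ht ha hb hc hta htb htc
    hab hac hbc z hz (key a ha h_ta) (key b hb h_tb) (key c hc h_tc)
  obtain ⟨n1, n2, n3⟩ := hN g
  rcases hg with h | h | h
  · exact n1 h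
  · exact n2 h
  · exact n3 h

/-- **(F2), with the frozen hypotheses of S3814.** -/
theorem rank_two {G : Type u} [Group G] [Finite G] [Group.IsSolvable G]
    (σ : Finset ℕ) (hσ : 4 ≤ σ.card) (hprime : ∀ p ∈ σ, p.Prime)
    (h2 : ∀ p ∈ σ, ∀ q ∈ σ, p ≠ q → ∃ g : G, orderOf g = p * q)
    (h3 : ∀ p ∈ σ, ∀ q ∈ σ, ∀ r ∈ σ, p ≠ q → q ≠ r → p ≠ r → ∀ g : G, orderOf g ≠ p * q * r) :
    ∀ t ∈ σ, ∃ x z : G, orderOf x = t ∧ orderOf z = t ∧ Commute x z ∧
      x ∉ Subgroup.zpowers z := by
  classical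
  intro t htσ
  have hcard : 2 < (σ.erase t).card := by
    rw [Finset.card_erase_of_mem htσ]; omega
  obtain ⟨a, b, c, ha, hb, hc, hab, hac, hbc⟩ := Finset.two_lt_card_iff.mp hcard
  obtain ⟨hat, haσ⟩ := Finset.mem_erase.mp ha
  obtain ⟨hbt, hbσ⟩ := Finset.mem_erase.mp hb
  obtain ⟨hct, hcσ⟩ := Finset.mem_erase.mp hc
  refine rank_two_of (hprime t htσ) (hprime a haσ) (hprime b hbσ) (hprime c hcσ)
    (Ne.symm hat) (Ne.symm hbt) (Ne.symm hct) hab hac hbc
    (h2 t htσ a haσ (Ne.symm hat)) (h2 t htσ b hbσ (Ne.symm hbt)) (h2 t htσ c hcσ (Ne.symm hct)) ?_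
  intro g
  refine ⟨?_, ?_, ?_⟩
  · rw [← mul_assoc]; exact h3 t htσ a haσ b hbσ (Ne.symm hat) hab (Ne.symm hbt) g
  · rw [← mul_assoc]; exact h3 t htσ a haσ c hcσ (Ne.symm hat) hac (Ne.symm hct) g
  · rw [← mul_assoc]; exact h3 t htσ b hbσ c hcσ (Ne.symm hbt) hbc (Ne.symm hct) g

end Cfsg.Agent.Lib.H24.S3814F2
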