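import Mathlib
import Cfsg.Prelude.Def_Transfer
import Cfsg.Agent.Lib.H24.S3814F2

/-!
# S3814, tool (F2), subgroup form (helper24)

Two commuting elements `x, z` of prime order `t` with `x ∉ ⟨z⟩` span a subgroup `E ≅ C_t × C_t`:
`E` is elementary abelian, of order `t ^ 2`, not cyclic, and every element is `x ^ i * z ^ j`.
Combined with `S3814F2.rank_two` this gives the subgroup form of (F2).
-/

set_option autoImplicit false

namespace Cfsg.Agent.Lib.H24.S3814F2E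

universe u

/-- the subgroup `{x ^ i * z ^ j}` spanned by two commuting elements of order `t` -/
def span2 {G : Type*} [Group G] {t : ℕ} (hpos : 0 < t) (x z : G) (hx : x ^ t = 1)
    (hz : z ^ t = 1) (hc : Commute x z) : Subgroup G where
  carrier := {g | ∃ i j : ℕ, g = x ^ i * z ^ j}
  one_mem' := ⟨0, 0, by simp⟩
  mul_mem' := by
    rintro _ _ ⟨i, j, rfl⟩ ⟨k, l, rfl⟩
    refine ⟨i + k, j + l, ?_⟩
    have h1 : Commute (z ^ j) (x ^ k) := (hc.pow_pow k j).symm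
    calc x ^ i * z ^ j * (x ^ k * z ^ l) = x ^ i * (z ^ j * x ^ k) * z ^ l := by group
      _ = x ^ i * (x ^ k * z ^ j) * z ^ l := by rw [h1.eq]
      _ = x ^ (i + k) * z ^ (j + l) := by rw [pow_add, pow_add]; group
  inv_mem' := by
    rintro _ ⟨i, j, rfl⟩
    refine ⟨i * (t - 1), j * (t - 1), ?_⟩
    have hcp : Commute (x ^ i) (z ^ j) := hc.pow_pow i j
    have h1 : (x ^ i * z ^ j) ^ t = 1 := by
      rw [hcp.mul_pow, ← pow_mul, ← pow_mul, mul_comm i t, mul_comm j t, pow_mul, pow_mul, hx, hz,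
        one_pow, one_pow, one_mul]
    have h2 : (x ^ i * z ^ j) ^ (t - 1) * (x ^ i * z ^ j) = 1 := by
      rw [← pow_succ, Nat.sub_add_cancel hpos, h1]
    rw [inv_eq_of_mul_eq_one_left h2, hcp.mul_pow, ← pow_mul, ← pow_mul]

theorem mem_span2 {G : Type*} [Group G] {t : ℕ} {hpos : 0 < t} {x z : G} {hx : x ^ t = 1}
    {hz : z ^ t = 1} {hc : Commute x z} {g : G} :
    g ∈ span2 hpos x z hx hz hc ↔ ∃ i j : ℕ, g = x ^ i * z ^ j :=
  Iff.rfl

/-- **the subgroup `C_t × C_t`** spanned by `x, z` -/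
theorem exists_subgroup {G : Type u} [Group G] [Finite G] {t : ℕ} (ht : t.Prime) (x z : G)
    (hx : orderOf x = t) (hz : orderOf z = t) (hc : Commute x z)
    (hxz : x ∉ Subgroup.zpowers z) :
    ∃ E : Subgroup G, Cfsg.IsElementaryAbelian t E ∧ Nat.card E = t ^ 2 ∧ ¬ IsCyclic E ∧
      x ∈ E ∧ z ∈ E ∧ ∀ e ∈ E, ∃ i j : ℕ, e = x ^ i * z ^ j := by
  classical
  have hxt : x ^ t = 1 := by rw [← hx]; exact pow_orderOf_eq_one x
  have hzt : z ^ t = 1 := by rw [← hz]; exact pow_orderOf_eq_one z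
  set E : Subgroup G := span2 ht.pos x z hxt hzt hc with hE
  have hxE : x ∈ E := ⟨1, 0, by simp⟩
  have hzE : z ∈ E := ⟨0, 1, by simp⟩
  have hexp : ∀ e ∈ E, e ^ t = 1 := by
    rintro _ ⟨i, j, rfl⟩
    have hcp : Commute (x ^ i) (z ^ j) := hc.pow_pow i j
    rw [hcp.mul_pow, ← pow_mul, ← pow_mul, mul_comm i t, mul_comm j t, pow_mul, pow_mul, hxt, hzt,
      one_pow, one_pow, one_mul]
  have hcomm : ∀ a ∈ E, ∀ b ∈ E, a * b = b * a := by
    rintro _ ⟨i, j, rfl⟩ _ ⟨k, l, rfl⟩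
    have h1 : Commute (x ^ i * z ^ j) (x ^ k * z ^ l) :=
      Commute.mul_left (Commute.mul_right ((Commute.refl x).pow_pow i k) (hc.pow_pow i l))
        (Commute.mul_right ((hc.pow_pow k j).symm) ((Commute.refl z).pow_pow j l))
    exact h1.eq
  have hEA : Cfsg.IsElementaryAbelian t E :=
    ⟨⟨⟨fun a b => Subtype.ext (hcomm a a.2 b b.2)⟩⟩, hexp⟩
  -- `E` is a `t`-group
  have : Fact t.Prime := ⟨ht⟩
  have hEp : IsPGroup t E := by
    intro e
    refine ⟨1, ?_⟩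
    rw [pow_one]
    exact Subtype.ext (by rw [Subgroup.coe_pow, hexp e e.2]; rfl)
  obtain ⟨k, hk⟩ := IsPGroup.iff_card.mp hEp
  -- lower bound: `⟨z⟩ < E`
  have hlt : Subgroup.zpowers z < E := by
    refine lt_of_le_of_ne ((Subgroup.zpowers_le).mpr hzE) ?_
    intro h
    exact hxz (h ▸ hxE)
  have hcard_lt : t < Nat.card E := by
    have h1 : Nat.card (Subgroup.zpowers z) = t := by rw [Nat.card_zpowers, hz]
    have h2 : Nat.card (Subgroup.zpowers z) < Nat.card E := by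
      have hfin : Finite E := inferInstance
      exact Set.ncard_lt_ncard (s := (Subgroup.zpowers z : Set G)) (t := (E : Set G))
        (SetLike.coe_ssubset_coe.mpr hlt) (Set.toFinite _)
    rwa [h1] at h2
  -- upper bound: the surjection `Fin t × Fin t → E`
  have hcard_le : Nat.card E ≤ t ^ 2 := by
    have hsurj : Function.Surjective (fun ij : Fin t × Fin t =>
        (⟨x ^ (ij.1 : ℕ) * z ^ (ij.2 : ℕ), ⟨ij.1, ij.2, rfl⟩⟩ : E)) := by
      rintro ⟨_, i, j, rfl⟩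
      refine ⟨(⟨i % t, Nat.mod_lt _ ht.pos⟩, ⟨j % t, Nat.mod_lt _ ht.pos⟩), ?_⟩
      apply Subtype.ext
      show x ^ (i % t) * z ^ (j % t) = x ^ i * z ^ j
      conv_rhs => rw [← pow_mod_orderOf x i, ← pow_mod_orderOf z j, hx, hz]
    have := Nat.card_le_card_of_surjective _ hsurj
    simpa [Nat.card_prod, pow_two] using this
  have hk2 : k = 2 := by
    rw [hk] at hcard_lt hcard_le
    have h1 : 1 < k := by
      by_contra hle
      have : k ≤ 1 := not_lt.mp hle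
      have := Nat.pow_le_pow_right ht.pos this
      rw [pow_one] at this
      omega
    have h2 : k ≤ 2 := (Nat.pow_le_pow_iff_right ht.one_lt).mp hcard_le
    omega
  have hcardE : Nat.card E = t ^ 2 := by rw [hk, hk2]
  refine ⟨E, hEA, hcardE, ?_, hxE, hzE, fun e he => he⟩
  intro hcyc
  obtain ⟨g, hg⟩ := hcyc.exists_generator
  have hog : orderOf g = Nat.card E := orderOf_eq_card_of_forall_mem_zpowers hg
  have hgt : g ^ t = 1 := Subtype.ext (by rw [Subgroup.coe_pow, hexp g g.2]; rfl)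
  have hdvd : orderOf g ∣ t := orderOf_dvd_of_pow_eq_one hgt
  rw [hog, hcardE] at hdvd
  have := Nat.le_of_dvd ht.pos hdvd
  have h2 : t < t ^ 2 := by
    rw [pow_two]; exact lt_mul_of_one_lt_left ht.pos ht.one_lt
  omega

/-- **(F2), subgroup form, with the frozen hypotheses of S3814.** -/
theorem rank_two_subgroup {G : Type u} [Group G] [Finite G] [Group.IsSolvable G]
    (σ : Finset ℕ) (hσ : 4 ≤ σ.card) (hprime : ∀ p ∈ σ, p.Prime)
    (h2 : ∀ p ∈ σ, ∀ q ∈ σ, p ≠ q → ∃ g : G, orderOf g = p * q)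
    (h3 : ∀ p ∈ σ, ∀ q ∈ σ, ∀ r ∈ σ, p ≠ q → q ≠ r → p ≠ r → ∀ g : G, orderOf g ≠ p * q * r) :
    ∀ t ∈ σ, ∃ E : Subgroup G, Cfsg.IsElementaryAbelian t E ∧ Nat.card E = t ^ 2 ∧
      ¬ IsCyclic E := by
  intro t htσ
  obtain ⟨x, z, hx, hz, hc, hxz⟩ :=
    Cfsg.Agent.Lib.H24.S3814F2.rank_two σ hσ hprime h2 h3 t htσ
  obtain ⟨E, h1, h2', h3', -⟩ := exists_subgroup (hprime t htσ) x z hx hz hc hxz
  exact ⟨E, h1, h2', h3'⟩

end Cfsg.Agent.Lib.H24.S3814F2E
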