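import Mathlib

/-!
# S3016, conclusion (I): definitions and the exact statements of the pieces (helper24)

`EC H Y` : the pair version of extreme closure (`H` acting on the `p'`-group `Y`).
`KeyStmt H Y` : the pure group theory step (piece I-KEY).
-/

set_option autoImplicit false

universe u

namespace Cfsg.Agent.Lib.H24.ShI

variable {G : Type u} [Group G]

/-- (EC) for the pair `(H, Y)`: for every `y ∈ Y` the fixed points of `H` in `⟨H, yHy⁻¹⟩ ∩ Y` are trivial. -/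
def EC (H Y : Subgroup G) : Prop :=
  ∀ y ∈ Y, ∀ z ∈ H ⊔ H.map (MulAut.conj y).toMonoidHom, z ∈ Y → (∀ h ∈ H, h * z = z * h) → z = 1

/-- Statement of the piece I-KEY: `x · yxy⁻¹` is `Y`-conjugate to `w x²` with `w ∈ [C_Y(x), H]`. -/
def KeyStmt (H Y : Subgroup G) : Prop :=
  ∀ x ∈ H, ∀ y ∈ Y, ∃ u ∈ Y, ∃ w ∈ ⁅Y ⊓ Subgroup.centralizer ({x} : Set G), H⁆,
    u * (x * (y * x * y⁻¹)) * u⁻¹ = w * x ^ 2

end Cfsg.Agent.Lib.H24.ShI
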