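import Cfsg.Agent.Lib.H24.GlaubAmb6
import Cfsg.Agent.Lib.H1.PGroupBasic

/-!
# The Glauberman correspondence for a `p`-group of operators (helper24)

`pgroup_corr`: `G, S ≤ Γ`, `S` a `p`-group normalising `G`, `p ∤ |G|`, `C = C_G(S)`; then there is a
correspondence `GCorr p hCG (S-invariance)` between `Irr_S(G)` and `Irr(C)`
(Isaacs 13.1 for `p`-groups, with 13.14).
-/

set_option autoImplicit false

universe u

namespace Cfsg.Agent.Lib.H24.Glaub

open Cfsg Cfsg.Agent.Lib.L0 Cfsg.Agent.Lib.H23 Cfsg.Agent.Lib.H8 Cfsg.Agent.Lib.H24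
open scoped ComplexConjugate

variable {Γ : Type u} [Group Γ] [Fintype Γ]

omit [Fintype Γ] in
theorem mem_normalizer_of_norm [Finite Γ] {G : Subgroup Γ} {x : Γ}
    (hx : ∀ g ∈ G, x * g * x⁻¹ ∈ G) : x ∈ Subgroup.normalizer (G : Set Γ) := by
  rw [Subgroup.mem_normalizer_iff]
  intro g
  constructor
  · exact hx g
  · intro hg
    have h1 := inv_norm_of_norm hx _ hg
    have h2 : x⁻¹ * (x * g * x⁻¹) * x = g := by group
    rwa [h2] at h1

theorem gcorr_of_eq {p : ℕ} (hp : p.Prime) {G C : Subgroup Γ} [Fintype C] (hCG : C ≤ G)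
    (hCeq : C = G) (Inv : (G → ℂ) → Prop) (hInv : ∀ χ : IrrCharacter G, Inv (χ : G → ℂ)) :
    GCorr p hCG Inv := by
  subst hCeq
  exact gcorr_base hp hCG Inv hInv

theorem pgroup_corr {p : ℕ} (hp : p.Prime) : ∀ (n : ℕ) (G S C : Subgroup Γ) [Fintype C],
    Nat.card S = n → (∀ s ∈ S, ∀ g ∈ G, s * g * s⁻¹ ∈ G) → IsPGroup p S → ¬ p ∣ Nat.card G →
    C = G ⊓ Subgroup.centralizer (S : Set Γ) → ∀ hCG : C ≤ G,
    GCorr p hCG (fun χ => ∀ x ∈ S, InvUnder G x χ) := by
  classical
  haveI : Fact p.Prime := ⟨hp⟩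
  intro n
  induction n using Nat.strong_induction_on with
  | _ n ih =>
  intro G S C _ hn hnorm hS hpG hC hCG
  by_cases hS1 : S = ⊥
  · have hC' : C = G := by
      rw [hC, hS1]
      ext x
      simp [Subgroup.mem_centralizer_iff]
    subst hC'
    apply gcorr_base hp
    intro χ x hx
    rw [hS1, Subgroup.mem_bot] at hx
    rw [hx]
    exact invUnder_one
  · -- a maximal subgroup of `S`
    haveI : Nontrivial S := (Subgroup.nontrivial_iff_ne_bot S).mpr hS1
    obtain ⟨M, hM⟩ : ∃ M : Subgroup S, IsCoatom M := by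
      rcases IsCoatomic.eq_top_or_exists_le_coatom (⊥ : Subgroup S) with h | ⟨M, hM, -⟩
      · exact absurd h bot_ne_top
      · exact ⟨M, hM⟩
    haveI hMn : M.Normal := Cfsg.Agent.Lib.H1.isPGroup_coatom_normal hS hM
    have hidx : M.index = p := Cfsg.Agent.Lib.H1.isPGroup_coatom_index hS hM
    set T : Subgroup Γ := M.map S.subtype with hT
    have hTS : T ≤ S := Subgroup.map_subtype_le M
    have hTcard : Nat.card T < n := by
      have h1 : Nat.card T = Nat.card M :=
        Subgroup.card_map_of_injective S.subtype_injective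
      have h2 := M.card_mul_index
      rw [hidx, hn] at h2
      rw [h1, ← h2]
      have h3 : 0 < Nat.card M := Nat.card_pos
      nlinarith [hp.one_lt]
    obtain ⟨s₁, hs₁⟩ : ∃ s₁ : S, s₁ ∉ M := by
      by_contra hno
      push Not at hno
      exact hM.1 (Subgroup.eq_top_iff' M |>.mpr hno)
    obtain ⟨s, hsdef⟩ : ∃ s : Γ, s = (s₁ : Γ) := ⟨_, rfl⟩
    have hsS : s ∈ S := by rw [hsdef]; exact s₁.2
    have hTmem : ∀ t : Γ, t ∈ T ↔ ∃ m : S, m ∈ M ∧ (m : Γ) = t := by
      intro t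
      rw [hT, Subgroup.mem_map]
      rfl
    have hsT : ∀ t ∈ T, s * t * s⁻¹ ∈ T := by
      intro t ht
      obtain ⟨m, hm, rfl⟩ := (hTmem t).mp ht
      refine (hTmem _).mpr ⟨s₁ * m * s₁⁻¹, hMn.conj_mem m hm s₁, ?_⟩
      rw [hsdef]
      rfl
    have hsT' : ∀ t ∈ T, s⁻¹ * t * s ∈ T := by
      intro t ht
      obtain ⟨m, hm, rfl⟩ := (hTmem t).mp ht
      refine (hTmem _).mpr ⟨s₁⁻¹ * m * s₁⁻¹⁻¹, hMn.conj_mem m hm s₁⁻¹, ?_⟩
      rw [hsdef]
      simp
    have hsup : S = T ⊔ Subgroup.zpowers s := by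
      have h1 : M ⊔ Subgroup.zpowers s₁ = ⊤ := by
        apply hM.2
        apply lt_of_le_of_ne le_sup_left
        intro h2
        apply hs₁
        rw [h2]
        exact le_sup_right (a := M) (Subgroup.mem_zpowers s₁)
      have h3 : (M ⊔ Subgroup.zpowers s₁).map S.subtype = S := by
        rw [h1, ← MonoidHom.range_eq_map, Subgroup.range_subtype]
      rw [Subgroup.map_sup, MonoidHom.map_zpowers] at h3
      rw [hT, hsdef]
      exact h3.symm
    have hsG : ∀ g ∈ G, s * g * s⁻¹ ∈ G := hnorm s hsS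
    have hTG : ∀ t ∈ T, ∀ g ∈ G, t * g * t⁻¹ ∈ G := fun t ht => hnorm t (hTS ht)
    have hgen : ∀ χ : G → ℂ, (∀ t ∈ T, InvUnder G t χ) → InvUnder G s χ →
        ∀ x ∈ S, InvUnder G x χ := by
      intro χ h1 h2 x hx
      have h3 : T ⊔ Subgroup.zpowers s ≤ invStab G χ := by
        apply sup_le
        · intro t ht
          exact ⟨mem_normalizer_of_norm (hTG t ht), h1 t ht⟩
        · rw [Subgroup.zpowers_le]
          exact ⟨mem_normalizer_of_norm hsG, h2⟩
      rw [hsup] at hx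
      exact (h3 hx).2
    -- the intermediate subgroup
    set B : Subgroup Γ := G ⊓ Subgroup.centralizer (T : Set Γ) with hB
    have hBG : B ≤ G := inf_le_left
    haveI : Fintype B := Fintype.ofFinite B
    have corrT := ih (Nat.card T) hTcard G T B rfl (fun t ht => hnorm t (hTS ht))
      (hS.to_le hTS) hpG rfl hBG
    have hBmem : ∀ x : Γ, x ∈ B ↔ x ∈ G ∧ ∀ t ∈ T, t * x = x * t := by
      intro x
      rw [hB, Subgroup.mem_inf, Subgroup.mem_centralizer_iff]
      rfl
    have hCmem : ∀ x : Γ, x ∈ C ↔ x ∈ G ∧ ∀ t ∈ S, t * x = x * t := by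
      intro x
      rw [hC, Subgroup.mem_inf, Subgroup.mem_centralizer_iff]
      rfl
    have hsB : ∀ b ∈ B, s * b * s⁻¹ ∈ B := by
      intro b hb
      rw [hBmem] at hb ⊢
      refine ⟨hsG b hb.1, fun t ht => ?_⟩
      have h1 := hb.2 (s⁻¹ * t * s) (hsT' t ht)
      calc t * (s * b * s⁻¹) = s * (s⁻¹ * t * s * b) * s⁻¹ := by group
        _ = s * (b * (s⁻¹ * t * s)) * s⁻¹ := by rw [h1]
        _ = s * b * s⁻¹ * t := by group
    have hCB : C ≤ B := by
      intro x hx
      rw [hCmem] at hx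
      rw [hBmem]
      exact ⟨hx.1, fun t ht => hx.2 t (hTS ht)⟩
    have hCfix : C = fixedSub B s := by
      ext x
      rw [mem_fixedSub, hCmem, hBmem]
      constructor
      · rintro ⟨h1, h2⟩
        exact ⟨⟨h1, fun t ht => h2 t (hTS ht)⟩, (h2 s hsS).symm⟩
      · rintro ⟨⟨h1, h2⟩, h3⟩
        refine ⟨h1, ?_⟩
        have h4 : T ⊔ Subgroup.zpowers s ≤ Subgroup.centralizer ({x} : Set Γ) := by
          apply sup_le
          · intro t ht
            rw [Subgroup.mem_centralizer_singleton_iff]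
            exact h2 t ht
          · rw [Subgroup.zpowers_le, Subgroup.mem_centralizer_singleton_iff]
            exact h3.symm
        intro t ht
        rw [hsup] at ht
        have h5 := h4 ht
        rw [Subgroup.mem_centralizer_singleton_iff] at h5
        exact h5
    have hsC : ∀ c ∈ C, s * c * s⁻¹ = c := by
      intro c hc
      rw [hCmem] at hc
      rw [hc.2 s hsS]
      group
    obtain ⟨a, hsa⟩ : ∃ a : ℕ, s ^ (p ^ a) = 1 := by
      obtain ⟨a, ha⟩ := hS ⟨s, hsS⟩
      refine ⟨a, ?_⟩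
      have := congrArg (Subtype.val : S → Γ) ha
      rwa [Subgroup.coe_pow] at this
    have hord : ∃ a : ℕ, orderOf s = p ^ a := by
      have h1 : orderOf s ∣ p ^ a := orderOf_dvd_of_pow_eq_one hsa
      obtain ⟨b, _, hb⟩ := (Nat.dvd_prime_pow hp).mp h1
      exact ⟨b, hb⟩
    have hpB : ¬ p ∣ Nat.card B := fun h => hpG (h.trans (Subgroup.card_dvd_of_le hBG))
    have corrS := pcyc_ambient hp hsB hord hpB hCfix hCB
    exact gcorr_step hp hBG hCB hsG hsB hsC hsT hTG a hsa hTS hsS hgen corrT corrS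

end Cfsg.Agent.Lib.H24.Glaub
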