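import Mathlib
import Cfsg.Agent.Lib.H24.CharDefl

/-!
# Counting the irreducible characters of a quotient (helper24's library)

* `card_conjClasses_congr` : isomorphic groups have equally many conjugacy classes.
* `card_irr_le_ker` : the number of irreducible characters of `G` with `N` in the kernel is the
  class number of `G ⧸ N`.
-/

set_option autoImplicit false

namespace Cfsg.Agent.Lib.H24

open Cfsg Cfsg.Agent.Lib.L0 Cfsg.Agent.Lib.H23

theorem card_conjClasses_congr {A B : Type*} [Group A] [Group B] (e : A ≃* B) :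
    Nat.card (ConjClasses A) = Nat.card (ConjClasses B) := by
  refine Nat.card_congr
    { toFun := ConjClasses.map e.toMonoidHom
      invFun := ConjClasses.map e.symm.toMonoidHom
      left_inv := ?_
      right_inv := ?_ }
  · intro c
    obtain ⟨a, rfl⟩ := ConjClasses.mk_surjective c
    show ConjClasses.mk (e.symm (e a)) = ConjClasses.mk a
    rw [MulEquiv.symm_apply_apply]
  · intro c
    obtain ⟨a, rfl⟩ := ConjClasses.mk_surjective c
    show ConjClasses.mk (e (e.symm a)) = ConjClasses.mk a
    rw [MulEquiv.apply_symm_apply]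

theorem card_irr_le_ker {G : Type*} [Group G] [Finite G] (N : Subgroup G) [N.Normal] :
    Nat.card {χ : IrrCharacter G // ∀ n ∈ N, (χ : G → ℂ) n = (χ : G → ℂ) 1} =
      Nat.card (ConjClasses (G ⧸ N)) := by
  rw [← card_irr_eq_card_conjClasses]
  symm
  refine Nat.card_congr (Equiv.ofBijective
    (fun ψ : IrrCharacter (G ⧸ N) =>
      (⟨inflIrr N ψ, fun n hn => by
        rw [inflIrr_apply, inflIrr_apply, (QuotientGroup.eq_one_iff n).mpr hn,
          QuotientGroup.mk_one]⟩ :
        {χ : IrrCharacter G // ∀ n ∈ N, (χ : G → ℂ) n = (χ : G → ℂ) 1})) ⟨?_, ?_⟩)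
  · intro ψ ψ' h
    apply Subtype.ext
    funext q
    obtain ⟨g, rfl⟩ := QuotientGroup.mk_surjective q
    have h1 := congrArg (fun z : {χ : IrrCharacter G // ∀ n ∈ N, (χ : G → ℂ) n = (χ : G → ℂ) 1} =>
      (z.1 : G → ℂ) g) h
    exact h1
  · intro χ
    obtain ⟨ψ, hψ⟩ := exists_deflation χ.1 N χ.2
    refine ⟨ψ, ?_⟩
    apply Subtype.ext
    apply Subtype.ext
    funext g
    exact hψ g

end Cfsg.Agent.Lib.H24
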