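import Cfsg.Agent.Lib.H24.ShIDefs
import Cfsg.Agent.Lib.H24.GlaubAmb7
import Cfsg.Agent.Lib.H24.GlaubSolv5
import Cfsg.Agent.Lib.H24.GlaubOver5
import Cfsg.Agent.Lib.H24.CharKer
import Cfsg.Agent.Lib.H24.CharSchur

/-!
# S3016, conclusion (I): the character core (helper24)

`H` an abelian `p`-group (`p` odd) normalising the `p'`-group `Y`, with (EC).  Then every `H`-invariant
irreducible character of `Y` has `[Y,H]` in its kernel (`inv_ker`), and `C_{[Y,H]}(H) = 1` (`lemma_I`).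
Proof of helper19 / helper26 / helper1 (board #9033, #9035, #9040) on the Glauberman library `Lib/H24/Glaub*`.
-/

set_option autoImplicit false

universe u

namespace Cfsg.Agent.Lib.H24.ShI

open Cfsg Cfsg.Agent.Lib.L0 Cfsg.Agent.Lib.H23 Cfsg.Agent.Lib.H8 Cfsg.Agent.Lib.H24
open Cfsg.Agent.Lib.H24.Glaub
open scoped ComplexConjugate

variable {G : Type u} [Group G] [Fintype G]

/-- `[D,H] ≤ D` when `H` normalises `D`. -/
theorem comm_le_of_norm {D H : Subgroup G} (hn : ∀ h ∈ H, ∀ d ∈ D, h * d * h⁻¹ ∈ D) : ⁅D, H⁆ ≤ D := by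
  rw [Subgroup.commutator_le]
  intro d hd h hh
  rw [commutatorElement_def]
  have h1 : d * h * d⁻¹ * h⁻¹ = d * (h * d⁻¹ * h⁻¹) := by group
  rw [h1]
  exact D.mul_mem hd (hn h hh _ (D.inv_mem hd))

/-- One step: `θ([y,x]) = θ(1)` given the statement for `C_Y(x)`. -/
theorem step {p : ℕ} (hp : p.Prime) (hp2 : p ≠ 2) (H Y : Subgroup G)
    (hHab : ∀ a ∈ H, ∀ b ∈ H, a * b = b * a)
    (hYp : ¬ p ∣ Nat.card Y) (hnorm : ∀ h ∈ H, ∀ y ∈ Y, h * y * h⁻¹ ∈ Y)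
    (hkey : KeyStmt H Y)
    (x : G) (hx : x ∈ H) (hxp : ∃ a : ℕ, orderOf x = p ^ a)
    (hIH : ∀ β : IrrCharacter (fixedSub Y x), (∀ h ∈ H, InvUnder (fixedSub Y x) h (β : fixedSub Y x → ℂ)) →
        ∀ w (_ : w ∈ ⁅fixedSub Y x, H⁆) (hwD : w ∈ fixedSub Y x),
          (β : fixedSub Y x → ℂ) ⟨w, hwD⟩ = (β : fixedSub Y x → ℂ) 1)
    (θ : IrrCharacter Y) (hθ : ∀ h ∈ H, InvUnder Y h (θ : Y → ℂ))
    (y : G) (hy : y ∈ Y) (hyx : y * x * y⁻¹ * x⁻¹ ∈ Y) :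
    (θ : Y → ℂ) ⟨y * x * y⁻¹ * x⁻¹, hyx⟩ = (θ : Y → ℂ) 1 := by
  classical
  have hsY : ∀ b ∈ Y, x * b * x⁻¹ ∈ Y := hnorm x hx
  haveI : Fintype (LL Y x) := Fintype.ofFinite _
  haveI hNn : (NN Y x).Normal := normal_NN hsY
  haveI : Fintype (NN Y x) := Fintype.ofFinite _
  haveI : Fintype (fixedSub (NN Y x) (ss Y x)) := Fintype.ofFinite _
  haveI : Fintype (fixedSub Y x) := Fintype.ofFinite _
  haveI : Fintype Y := Fintype.ofFinite _
  have hcop : (Nat.card Y).Coprime (orderOf x) := by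
    obtain ⟨a, ha⟩ := hxp
    rw [ha]
    exact (Nat.Coprime.pow_left a ((Nat.Prime.coprime_iff_not_dvd hp).mpr hYp)).symm
  have hset : CycSetup (NN Y x) (ss Y x) := cycSetup_NN hsY hcop
  have hirr₀ : IsIrrCharacter (NN Y x) ((θ : Y → ℂ) ∘ (eB Y x)) :=
    isIrrCharacter_comp_of_surjective (eB Y x).toMonoidHom (eB Y x).surjective θ.2
  have hinv₀ : SInv (NN Y x) (ss Y x) ((θ : Y → ℂ) ∘ (eB Y x)) := by
    intro n
    exact hθ x hx (eB Y x n) _ rfl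
  obtain ⟨χh, h1, h2, h3⟩ := hset.exists_canonical hirr₀ hinv₀
  have hirr : IsIrrCharacter (NN Y x) (fun n : NN Y x => χh n) := by
    have : (fun n : NN Y x => χh n) = (θ : Y → ℂ) ∘ (eB Y x) := funext h2
    rw [this]
    exact hirr₀
  obtain ⟨β₀, ε, hε, hβ₀⟩ := hset.exists_sign_irr h1 hirr h3
  have hDY : fixedSub Y x ≤ Y := fixedSub_le Y x
  have hinvD : ∀ h ∈ H, ∀ c ∈ fixedSub Y x, h * c * h⁻¹ ∈ fixedSub Y x := by
    intro h hh c hc
    rw [mem_fixedSub] at hc ⊢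
    refine ⟨hnorm h hh c hc.1, ?_⟩
    have ch : Commute h x := hHab h hh x hx
    have cc : Commute c x := hc.2
    exact ((ch.mul_left cc).mul_left ch.inv_left)
  -- the correspondent `β` on `C_Y(x)`
  obtain ⟨β, hβdef⟩ : ∃ β : IrrCharacter (fixedSub Y x),
      β = pushIrr (rfl : fixedSub Y x = fixedSub Y x) β₀ := ⟨_, rfl⟩
  have hβpull : pullIrr (rfl : fixedSub Y x = fixedSub Y x) β = β₀ :=
    (pull_eq_iff rfl β β₀).mpr hβdef
  have hkβ : ∀ ξ : IrrCharacter (fixedSub Y x),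
      (p : ℤ) ∣ (resMult hDY (θ : Y → ℂ) (ξ : fixedSub Y x → ℂ) : ℤ) -
        ε * (if pullIrr (rfl : fixedSub Y x = fixedSub Y x) ξ = β₀ then 1 else 0) :=
    fun ξ => pcyc_key2 hp hxp hYp rfl hDY θ χh β₀ ε (isCharacter_of_irr h1) h2 hβ₀ ξ
  have hβinv : ∀ h ∈ H, InvUnder (fixedSub Y x) h (β : fixedSub Y x → ℂ) := by
    intro h hh
    have hhD : ∀ c ∈ fixedSub Y x, h * c * h⁻¹ ∈ fixedSub Y x := hinvD h hh
    have hhD' : ∀ c ∈ fixedSub Y x, h⁻¹ * c * h ∈ fixedSub Y x := by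
      intro c hc
      have := hinvD h⁻¹ (H.inv_mem hh) c hc
      rwa [inv_inv] at this
    obtain ⟨ξ, hξdef⟩ : ∃ ξ : IrrCharacter (fixedSub Y x),
        ξ = irrPerm (conjN (fixedSub Y x) h hhD hhD') β := ⟨_, rfl⟩
    have e : resMult hDY (θ : Y → ℂ) (ξ : fixedSub Y x → ℂ) =
        resMult hDY (θ : Y → ℂ) (β : fixedSub Y x → ℂ) := by
      rw [hξdef]
      exact resMult_conj_right hDY hhD hhD' (hθ h hh) (β : fixedSub Y x → ℂ)
    have hk1 := hkβ ξ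
    have hk2 := hkβ β
    rw [if_pos hβpull] at hk2
    by_cases hpe : pullIrr (rfl : fixedSub Y x = fixedSub Y x) ξ = β₀
    · have hξβ : ξ = β := by
        rw [hβdef]
        exact (pull_eq_iff rfl ξ β₀).mp hpe
      intro g g' hg'
      have h5 : (ξ : fixedSub Y x → ℂ) g = (β : fixedSub Y x → ℂ) g' := by
        rw [hξdef]
        show (β : fixedSub Y x → ℂ) (conjN _ h hhD hhD' g) = _
        apply congrArg (β : fixedSub Y x → ℂ)
        apply Subtype.ext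
        rw [conjN_apply]
        exact hg'.symm
      rw [← h5, hξβ]
    · exfalso
      rw [if_neg hpe] at hk1
      have d1 : p ∣ resMult hDY (θ : Y → ℂ) (ξ : fixedSub Y x → ℂ) := dvd_of_dvd_sub_zero hk1
      have d2 : ¬ p ∣ resMult hDY (θ : Y → ℂ) (β : fixedSub Y x → ℂ) :=
        not_dvd_of_dvd_sub_sign hp hε hk2
      rw [e] at d1
      exact d2 d1
  have hβw := hIH β hβinv
  have hcf : IsClassFunction (LL Y x) χh := isClassFunction_of_isCharacter (isCharacter_of_irr h1)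
  have hβ1 : (β : fixedSub Y x → ℂ) 1 = (β₀ : fixedSub (NN Y x) (ss Y x) → ℂ) 1 := by
    rw [hβdef]
    show (β₀ : fixedSub (NN Y x) (ss Y x) → ℂ) ((eC Y x rfl).symm 1) = _
    rw [map_one]
  have hss : χh (ss Y x) = (ε : ℂ) * (β₀ : fixedSub (NN Y x) (ss Y x) → ℂ) 1 := by
    have := hβ₀ 1
    rwa [Subgroup.coe_one, one_mul] at this
  have h2cop : Nat.Coprime 2 (orderOf (ss Y x)) := by
    rw [orderOf_ss]
    obtain ⟨a, ha⟩ := hxp
    rw [ha]
    apply Nat.Coprime.pow_right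
    rw [Nat.coprime_primes Nat.prime_two hp]
    exact fun h => hp2 h.symm
  -- every term of the class sum equals `χh(s)`
  have hterm : ∀ g : LL Y x, χh (g * ss Y x * g⁻¹ * ss Y x) = χh (ss Y x) := by
    intro g
    obtain ⟨n, hn, k, rfl⟩ := hset.gen g
    have hnY : (n : G) ∈ Y := (mem_NN Y x).mp hn
    obtain ⟨u, hu, w, hw, huw⟩ := hkey x hx (n : G) hnY
    have hwD : w ∈ fixedSub Y x := comm_le_of_norm hinvD hw
    have hwfix : (⟨w, le_LL Y x (hDY hwD)⟩ : LL Y x) ∈ fixedSub (NN Y x) (ss Y x) :=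
      (mem_fixedSub_NN Y x).mpr hwD
    have e1 : n * ss Y x ^ k * ss Y x * (n * ss Y x ^ k)⁻¹ * ss Y x =
        n * ss Y x * n⁻¹ * ss Y x := by
      have : ss Y x ^ k * ss Y x * (ss Y x ^ k)⁻¹ = ss Y x := by
        rw [← pow_succ, pow_succ', mul_assoc, mul_inv_cancel, mul_one]
      calc n * ss Y x ^ k * ss Y x * (n * ss Y x ^ k)⁻¹ * ss Y x
          = n * (ss Y x ^ k * ss Y x * (ss Y x ^ k)⁻¹) * n⁻¹ * ss Y x := by group
        _ = n * ss Y x * n⁻¹ * ss Y x := by rw [this]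
    have e2 : χh (n * ss Y x * n⁻¹ * ss Y x) = χh (ss Y x * (n * ss Y x * n⁻¹)) := by
      have := hcf (n * ss Y x * n⁻¹ * ss Y x) (ss Y x)
      rw [← this]
      congr 1
      group
    have e3 : (⟨u, le_LL Y x hu⟩ : LL Y x) * (ss Y x * (n * ss Y x * n⁻¹)) *
        (⟨u, le_LL Y x hu⟩ : LL Y x)⁻¹ = (⟨w, le_LL Y x (hDY hwD)⟩ : LL Y x) * ss Y x ^ 2 := by
      apply Subtype.ext
      exact huw
    have e4 : χh (ss Y x * (n * ss Y x * n⁻¹)) =
        χh ((⟨w, le_LL Y x (hDY hwD)⟩ : LL Y x) * ss Y x ^ 2) := by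
      rw [← e3]
      exact (hcf _ _).symm
    have e5 : χh ((⟨w, le_LL Y x (hDY hwD)⟩ : LL Y x) * ss Y x ^ 2) =
        χh ((⟨w, le_LL Y x (hDY hwD)⟩ : LL Y x) * ss Y x) :=
      hset.canonical_gen h1 hirr h3 h2cop hwfix
    have e6 := hβ₀ ⟨_, hwfix⟩
    have e7 : (β₀ : fixedSub (NN Y x) (ss Y x) → ℂ) ⟨_, hwfix⟩ =
        (β : fixedSub Y x → ℂ) ⟨w, hwD⟩ := by
      rw [hβdef]
      show _ = (β₀ : fixedSub (NN Y x) (ss Y x) → ℂ) ((eC Y x rfl).symm ⟨w, hwD⟩)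
      apply congrArg (β₀ : fixedSub (NN Y x) (ss Y x) → ℂ)
      rw [MulEquiv.eq_symm_apply]
      apply Subtype.ext
      rfl
    rw [e1, e2, e4, e5, e6, e7, hβw w hw hwD, hβ1, hss]
  -- the class sum
  have hsum := irr_sum_conj_mul (⟨χh, h1⟩ : IrrCharacter (LL Y x)) (ss Y x) (ss Y x)
  have hsum' : (Nat.card (LL Y x) : ℂ) * χh (ss Y x) =
      (Nat.card (LL Y x) : ℂ) * χh (ss Y x) * χh (ss Y x) / χh 1 := by
    rw [← hsum]
    show _ = ∑ g : LL Y x, χh (g * ss Y x * g⁻¹ * ss Y x)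
    rw [Finset.sum_congr rfl (fun g _ => hterm g), Finset.sum_const, Finset.card_univ,
      nsmul_eq_mul, Nat.card_eq_fintype_card]
  obtain ⟨d, hd0, hd1, _⟩ := irr_apply_one_dvd_card χh h1
  obtain ⟨d₀, hd₀0, hd₀1, _⟩ := irr_apply_one_dvd_card _ β₀.2
  have hχ1 : χh 1 ≠ 0 := by
    rw [hd1]
    exact_mod_cast hd0.ne'
  have hχs : χh (ss Y x) ≠ 0 := by
    rw [hss, hd₀1]
    have h4 : (d₀ : ℂ) ≠ 0 := by exact_mod_cast hd₀0.ne'
    rcases hε with rfl | rfl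
    · simpa using h4
    · simpa using h4
  have hcard : (Nat.card (LL Y x) : ℂ) ≠ 0 := by
    exact_mod_cast Nat.card_pos.ne'
  have hker1 : χh (ss Y x) = χh 1 := by
    rw [eq_div_iff hχ1] at hsum'
    have h5 : ((Nat.card (LL Y x) : ℂ) * χh (ss Y x)) * (χh 1 - χh (ss Y x)) = 0 := by
      linear_combination hsum'
    rcases mul_eq_zero.mp h5 with h6 | h6
    · exact absurd h6 (mul_ne_zero hcard hχs)
    · exact (sub_eq_zero.mp h6).symm
  have hker : ss Y x ∈ charKer χh (isCharacter_of_irr h1) := mem_charKer.mpr hker1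
  have hker2 : (⟨y, le_LL Y x hy⟩ : LL Y x) * ss Y x * (⟨y, le_LL Y x hy⟩ : LL Y x)⁻¹ *
      (ss Y x)⁻¹ ∈ charKer χh (isCharacter_of_irr h1) :=
    Subgroup.mul_mem _ ((charKer_normal χh (isCharacter_of_irr h1)).conj_mem _ hker _)
      (Subgroup.inv_mem _ hker)
  rw [mem_charKer] at hker2
  have hmemNN : (⟨y, le_LL Y x hy⟩ : LL Y x) * ss Y x * (⟨y, le_LL Y x hy⟩ : LL Y x)⁻¹ *
      (ss Y x)⁻¹ ∈ NN Y x := (mem_NN Y x).mpr hyx
  have h2' : ∀ n : NN Y x, χh n = (θ : Y → ℂ) (eB Y x n) := h2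
  have h7 := h2' ⟨_, hmemNN⟩
  have h8 := h2' 1
  rw [Subgroup.coe_one, map_one] at h8
  have h9 : eB Y x ⟨_, hmemNN⟩ = (⟨y * x * y⁻¹ * x⁻¹, hyx⟩ : Y) := by
    apply Subtype.ext
    rfl
  rw [h9] at h7
  rw [← h7, ← h8]
  exact hker2

/-- (EC) passes to subgroups of `Y`. -/
theorem EC.mono {H Y D : Subgroup G} (h : EC H Y) (hDY : D ≤ Y) : EC H D :=
  fun y hy z hz hzD hc => h y (hDY hy) z hz (hDY hzD) hc

/-- `C_Y(x)` is `H`-invariant for `x` in the abelian group `H`. -/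
theorem fixedSub_norm {H Y : Subgroup G} (hHab : ∀ a ∈ H, ∀ b ∈ H, a * b = b * a)
    (hnorm : ∀ h ∈ H, ∀ y ∈ Y, h * y * h⁻¹ ∈ Y) {x : G} (hx : x ∈ H) :
    ∀ h ∈ H, ∀ c ∈ fixedSub Y x, h * c * h⁻¹ ∈ fixedSub Y x := by
  intro h hh c hc
  rw [mem_fixedSub] at hc ⊢
  refine ⟨hnorm h hh c hc.1, ?_⟩
  have ch : Commute h x := hHab h hh x hx
  have cc : Commute c x := hc.2
  exact ((ch.mul_left cc).mul_left ch.inv_left)

/-- `P(Y)`: every `H`-invariant irreducible character of `Y` has `[Y,H]` in its kernel. -/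
theorem inv_ker {p : ℕ} (hp : p.Prime) (hp2 : p ≠ 2) (H : Subgroup G) (hHp : IsPGroup p H)
    (hHab : ∀ a ∈ H, ∀ b ∈ H, a * b = b * a)
    (hkey : ∀ Y : Subgroup G, ¬ p ∣ Nat.card Y → (∀ h ∈ H, ∀ y ∈ Y, h * y * h⁻¹ ∈ Y) →
      EC H Y → KeyStmt H Y) :
    ∀ (n : ℕ) (Y : Subgroup G), Nat.card Y = n → ¬ p ∣ Nat.card Y →
      (∀ h ∈ H, ∀ y ∈ Y, h * y * h⁻¹ ∈ Y) → EC H Y →
      ∀ θ : IrrCharacter Y, (∀ h ∈ H, InvUnder Y h (θ : Y → ℂ)) →
      ∀ w (_ : w ∈ ⁅Y, H⁆) (hwY : w ∈ Y), (θ : Y → ℂ) ⟨w, hwY⟩ = (θ : Y → ℂ) 1 := by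
  intro n
  induction n using Nat.strong_induction_on with
  | _ n ih =>
    intro Y hn hYp hnorm hEC θ hθ
    have hθc : IsCharacter Y (θ : Y → ℂ) := isCharacter_of_irr θ.2
    have hle : ⁅Y, H⁆ ≤ (charKer (θ : Y → ℂ) hθc).map Y.subtype := by
      rw [Subgroup.commutator_le]
      intro y hy x hx
      rw [commutatorElement_def]
      have hyx : y * x * y⁻¹ * x⁻¹ ∈ Y := by
        have : y * x * y⁻¹ * x⁻¹ = y * (x * y⁻¹ * x⁻¹) := by group
        rw [this]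
        exact Y.mul_mem hy (hnorm x hx _ (Y.inv_mem hy))
      refine ⟨⟨_, hyx⟩, ?_, rfl⟩
      show (⟨_, hyx⟩ : Y) ∈ charKer (θ : Y → ℂ) hθc
      rw [mem_charKer]
      by_cases hc : ∀ y' ∈ Y, y' * x = x * y'
      · have : (⟨y * x * y⁻¹ * x⁻¹, hyx⟩ : Y) = 1 := by
          apply Subtype.ext
          show y * x * y⁻¹ * x⁻¹ = 1
          rw [hc y hy]
          group
        rw [this]
      · have hxp : ∃ a : ℕ, orderOf x = p ^ a := by
          obtain ⟨k, hk⟩ := hHp ⟨x, hx⟩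
          have hk' : x ^ p ^ k = 1 := by
            have := congrArg (Subtype.val : H → G) hk
            simpa using this
          obtain ⟨a, _, ha⟩ := (Nat.dvd_prime_pow hp).mp (orderOf_dvd_of_pow_eq_one hk')
          exact ⟨a, ha⟩
        have hDY : fixedSub Y x ≤ Y := fixedSub_le Y x
        apply step hp hp2 H Y hHab hYp hnorm (hkey Y hYp hnorm hEC) x hx hxp _ θ hθ y hy hyx
        intro β hβ w hw hwD
        have hlt : Nat.card (fixedSub Y x) < n := by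
          rw [← hn]
          by_contra hge
          have heq : fixedSub Y x = Y := Subgroup.eq_of_le_of_card_ge hDY (not_lt.mp hge)
          apply hc
          intro y' hy'
          rw [← heq] at hy'
          exact (mem_fixedSub.mp hy').2
        have hDp : ¬ p ∣ Nat.card (fixedSub Y x) :=
          fun h => hYp (dvd_trans h (Subgroup.card_dvd_of_le hDY))
        exact ih _ hlt (fixedSub Y x) rfl hDp (fixedSub_norm hHab hnorm hx) (hEC.mono hDY)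
          β hβ w hw hwD
    intro w hw hwY
    obtain ⟨a, ha, haw⟩ := hle hw
    have ha' : (θ : Y → ℂ) a = (θ : Y → ℂ) 1 := mem_charKer.mp ha
    have : a = ⟨w, hwY⟩ := Subtype.ext haw
    rw [← this]
    exact ha'

end Cfsg.Agent.Lib.H24.ShI
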