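import Cfsg.Agent.Lib.H24.CharOrth
import Cfsg.Agent.Lib.L0.CharOps

/-!
# Irreducible characters of a direct product (helper24's library)

* `prodChar φ ψ` : `(g, h) ↦ φ g * ψ h`.
* `classInner_prodChar` : `[φ×ψ, φ'×ψ'] = [φ,φ'] [ψ,ψ']`.
* `isIrrCharacter_prodChar` : product of irreducible characters is irreducible.
* `exists_prodChar_of_isIrrCharacter` : every irreducible character of `G × H` is such a product.
-/

set_option autoImplicit false

namespace Cfsg.Agent.Lib.H24

open scoped ComplexConjugate
open Cfsg Cfsg.Agent.Lib.L0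

section prod

variable {G : Type*} [Group G] {H : Type*} [Group H]

/-- The (outer) product of two functions. -/
def prodChar (φ : G → ℂ) (ψ : H → ℂ) : G × H → ℂ := fun x => φ x.1 * ψ x.2

theorem prodChar_apply (φ : G → ℂ) (ψ : H → ℂ) (x : G × H) : prodChar φ ψ x = φ x.1 * ψ x.2 := rfl

theorem isCharacter_prodChar {φ : G → ℂ} {ψ : H → ℂ} (hφ : IsCharacter G φ)
    (hψ : IsCharacter H ψ) : IsCharacter (G × H) (prodChar φ ψ) := by
  have h1 := isCharacter_comp (MonoidHom.fst G H) hφ
  have h2 := isCharacter_comp (MonoidHom.snd G H) hψ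
  exact isCharacter_mul h1 h2

theorem classInner_prodChar [Fintype G] [Fintype H] (φ φ' : G → ℂ) (ψ ψ' : H → ℂ) :
    classInner (prodChar φ ψ) (prodChar φ' ψ') = classInner φ φ' * classInner ψ ψ' := by
  simp only [classInner, prodChar, Fintype.sum_prod_type, Nat.card_prod, map_mul, Nat.cast_mul,
    mul_inv]
  have : ∀ g : G, ∀ h : H, φ g * ψ h * (conj (φ' g) * conj (ψ' h)) =
      (φ g * conj (φ' g)) * (ψ h * conj (ψ' h)) := fun g h => by ring
  simp only [this]
  rw [← Finset.sum_mul_sum]
  ring

theorem classInner_partial [Fintype G] [Fintype H] (θ : G × H → ℂ) (φ : G → ℂ) (ψ : H → ℂ) :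
    classInner θ (prodChar φ ψ) =
      classInner (fun h : H => classInner (fun g => θ (g, h)) φ) ψ := by
  simp only [classInner, prodChar, Fintype.sum_prod_type, Nat.card_prod, Nat.cast_mul, mul_inv,
    map_mul]
  rw [Finset.sum_comm, Finset.mul_sum, Finset.mul_sum]
  refine Finset.sum_congr rfl (fun h _ => ?_)
  rw [Finset.mul_sum, Finset.mul_sum, Finset.sum_mul, Finset.mul_sum]
  refine Finset.sum_congr rfl (fun g _ => ?_)
  ring

theorem isIrrCharacter_prodChar [Finite G] [Finite H] {φ : G → ℂ} {ψ : H → ℂ}
    (hφ : IsIrrCharacter G φ) (hψ : IsIrrCharacter H ψ) :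
    IsIrrCharacter (G × H) (prodChar φ ψ) := by
  classical
  have := Fintype.ofFinite G
  have := Fintype.ofFinite H
  refine isIrrCharacter_of_classInner_self_eq_one
    (isCharacter_prodChar (isCharacter_of_irr hφ) (isCharacter_of_irr hψ)) ?_
  have h := classInner_prodChar φ φ ψ ψ
  rw [irr_classInner_self hφ, irr_classInner_self hψ, mul_one] at h
  convert h

theorem exists_prodChar_of_isIrrCharacter [Finite G] [Finite H] {θ : G × H → ℂ}
    (hθ : IsIrrCharacter (G × H) θ) :
    ∃ (φ : G → ℂ) (ψ : H → ℂ), IsIrrCharacter G φ ∧ IsIrrCharacter H ψ ∧ θ = prodChar φ ψ := by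
  classical
  have := Fintype.ofFinite G
  have := Fintype.ofFinite H
  by_contra hcon
  push Not at hcon
  have hcf : IsClassFunction (G × H) θ := isClassFunction_of_isCharacter (isCharacter_of_irr hθ)
  -- all inner products with product characters vanish
  have hzero : ∀ (φ : IrrCharacter G) (ψ : IrrCharacter H),
      classInner θ (prodChar (φ : G → ℂ) (ψ : H → ℂ)) = 0 := by
    intro φ ψ
    apply irr_classInner_ne hθ (isIrrCharacter_prodChar φ.2 ψ.2)
    exact hcon _ _ φ.2 ψ.2
  -- partial inner products
  have hpart : ∀ (φ : IrrCharacter G), (fun h : H => classInner (fun g => θ (g, h)) (φ : G → ℂ)) = 0 := by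
    intro φ
    apply eq_zero_of_forall_classInner_irr_eq_zero
    · intro h k
      simp only [classInner]
      congr 1
      refine Finset.sum_congr rfl (fun g _ => ?_)
      have := hcf (g, h) (1, k)
      simp only [Prod.mk_mul_mk, Prod.inv_mk, inv_one, one_mul, mul_one] at this
      rw [this]
    · intro ψ
      rw [← classInner_partial θ (φ : G → ℂ) (ψ : H → ℂ)]
      exact hzero φ ψ
  have hθ0 : θ = 0 := by
    funext x
    obtain ⟨g, h⟩ := x
    have h1 : (fun g => θ (g, h)) = 0 := by
      apply eq_zero_of_forall_classInner_irr_eq_zero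
      · intro g k
        have := hcf (g, h) (k, 1)
        simp only [Prod.mk_mul_mk, Prod.inv_mk, inv_one, one_mul, mul_one] at this
        exact this
      · intro φ
        exact congrFun (hpart φ) h
    exact congrFun h1 g
  have h1 := irr_classInner_self hθ
  rw [hθ0, classInner_zero_left] at h1
  exact zero_ne_one h1

end prod

end Cfsg.Agent.Lib.H24
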