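import Mathlib
import Cfsg.Prelude.Def_Characters
import Cfsg.Prelude.Def_Solvable
import Cfsg.Agent.Lib.L0.CharOps
import Cfsg.Agent.Lib.L0.CharInner
import Cfsg.Agent.Lib.L0.CharDecomp
import Cfsg.Agent.Lib.L0.CharInd
import Cfsg.Agent.Lib.L0.CharIndChar
import Cfsg.Agent.Lib.H23.DegreeDvd
import Cfsg.Agent.Lib.H23.FullyRamified
import Cfsg.Agent.Lib.H24.CharBasic
import Cfsg.Agent.Lib.H24.CharKer
import Cfsg.Agent.Lib.H24.CharDefl
import Cfsg.Agent.Lib.H1.FrattiniArg
import Cfsg.Agent.Lib.H1.QuotientBasic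
import Cfsg.Agent.Lib.H1.Fitting
import Cfsg.Agent.Lib.H3.Wielandt
import Cfsg.Agent.Lib.H3.PrimSolv

/-!
# The Broline–Garrison theorem (Isaacs 12.19): character-theoretic part
-/

set_option autoImplicit false

namespace Cfsg.Agent.Lib.H24

open Cfsg Cfsg.Agent.Lib.L0 Cfsg.Agent.Lib.H23
open scoped ComplexConjugate

section kernels

variable {G : Type*} [Group G] [Finite G]

/-- For a character `a`: `Re a(g) ≤ Re a(1)`, with equality only if `a g = a 1`. -/
theorem char_re_le {a : G → ℂ} (ha : IsCharacter G a) (g : G) :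
    (a g).re ≤ (a 1).re ∧ ((a g).re = (a 1).re → a g = a 1) := by
  obtain ⟨n, hn⟩ := isCharacter_apply_one ha
  have h1 : ‖a g‖ ≤ (n : ℝ) := by
    have := isCharacter_norm_le ha g
    rw [hn] at this
    simpa using this
  have h2 : (a g).re ≤ ‖a g‖ := Complex.re_le_norm _
  have h3 : (a 1).re = (n : ℝ) := by rw [hn]; simp
  refine ⟨by rw [h3]; linarith, ?_⟩
  intro heq
  rw [h3] at heq
  have h4 : ‖a g‖ ^ 2 = (a g).re * (a g).re + (a g).im * (a g).im := by
    rw [Complex.sq_norm, Complex.normSq_apply]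
  have h5 : ‖a g‖ ^ 2 ≤ (n : ℝ) ^ 2 := by
    apply pow_le_pow_left₀ (norm_nonneg _) h1
  have h6 : (a g).im * (a g).im ≤ 0 := by
    rw [heq] at h4
    nlinarith
  have h7 : (a g).im = 0 := by
    have := mul_self_nonneg (a g).im
    have h8 : (a g).im * (a g).im = 0 := le_antisymm h6 this
    exact mul_self_eq_zero.mp h8
  rw [hn]
  apply Complex.ext
  · rw [heq]; simp
  · rw [h7]; simp

theorem list_re_le (l : List (G → ℂ)) (hl : ∀ ψ ∈ l, IsCharacter G ψ) (g : G) :
    (l.sum g).re ≤ (l.sum 1).re ∧ ((l.sum g).re = (l.sum 1).re → ∀ ψ ∈ l, ψ g = ψ 1) := by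
  induction l with
  | nil => exact ⟨by simp, by simp⟩
  | cons a l ih =>
    obtain ⟨h1, h2⟩ := ih (fun ψ hψ => hl ψ (List.mem_cons_of_mem _ hψ))
    obtain ⟨h3, h4⟩ := char_re_le (hl a List.mem_cons_self) g
    simp only [List.sum_cons, Pi.add_apply, Complex.add_re]
    refine ⟨by linarith, ?_⟩
    intro heq ψ hψ
    rcases List.mem_cons.mp hψ with rfl | hψ'
    · exact h4 (by linarith)
    · exact h2 (by linarith) ψ hψ'

/-- The kernel of a character is contained in the kernel of each irreducible constituent. -/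
theorem constituent_apply_eq_one [Fintype G] {α θ : G → ℂ} (hα : IsCharacter G α)
    (hθ : IsIrrCharacter G θ) (hc : classInner α θ ≠ 0) {g : G} (hg : α g = α 1) :
    θ g = θ 1 := by
  classical
  obtain ⟨l, hl, rfl⟩ := isCharacter_exists_irr_decomp hα
  have hmem : θ ∈ l := by
    rw [classInner_irr_list_sum hl hθ] at hc
    have : l.count θ ≠ 0 := by
      intro h0; apply hc; rw [h0]; simp
    exact List.count_pos_iff.mp (Nat.pos_of_ne_zero this)
  exact (list_re_le l (fun ψ hψ => isCharacter_of_irr (hl ψ hψ)) g).2 (by rw [hg]) θ hmem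

/-- A character containing the irreducible `θ` and of degree at most `θ(1)` equals `θ`. -/
theorem eq_of_constituent_of_degree_le [Fintype G] {α θ : G → ℂ} (hα : IsCharacter G α)
    (hθ : IsIrrCharacter G θ) (hc : classInner α θ ≠ 0) (hdeg : charDegree α ≤ charDegree θ) :
    α = θ := by
  classical
  obtain ⟨l, hl, rfl⟩ := isCharacter_exists_irr_decomp hα
  have hmem : θ ∈ l := by
    rw [classInner_irr_list_sum hl hθ] at hc
    have : l.count θ ≠ 0 := by
      intro h0; apply hc; rw [h0]; simp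
    exact List.count_pos_iff.mp (Nat.pos_of_ne_zero this)
  have hs : θ + (l.erase θ).sum = l.sum := List.sum_erase hmem
  obtain ⟨d, hd, hle⟩ := list_degree_le (l.erase θ)
    (fun φ hφ => hl φ (List.mem_of_mem_erase hφ))
  have hθ1 := apply_one_eq_charDegree θ hθ
  have hsum1 : l.sum 1 = ((charDegree θ + d : ℕ) : ℂ) := by
    rw [← hs, Pi.add_apply, hd, hθ1]; push_cast; rfl
  have hdegα : charDegree l.sum = charDegree θ + d := charDegree_eq_of_apply_one hsum1
  have hd0 : d = 0 := by omega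
  have hnil : l.erase θ = [] := by
    by_contra hne
    obtain ⟨ψ, hψ⟩ := List.exists_mem_of_ne_nil _ hne
    obtain ⟨n, hn, hnd⟩ := hle ψ hψ
    obtain ⟨m, hm0, hm⟩ := irr_one_eq ⟨ψ, hl ψ (List.mem_of_mem_erase hψ)⟩
    have : (n : ℂ) = (m : ℂ) := by rw [← hn, ← hm]
    have hnm : n = m := by exact_mod_cast this
    omega
  rw [← hs, hnil]
  simp

end kernels

section restrict

variable {G : Type*} [Group G] [Fintype G]

/-- Restriction of an irreducible character to a supplement of a normal subgroup of its kernel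
stays irreducible. -/
theorem isIrrCharacter_restrict_of_sup_eq_top (M L : Subgroup G) [L.Normal] (χ : IrrCharacter G)
    (hL : ∀ n ∈ L, (χ : G → ℂ) n = (χ : G → ℂ) 1) (hML : M ⊔ L = ⊤) :
    IsIrrCharacter M (fun m : M => (χ : G → ℂ) m) := by
  obtain ⟨ψ, hψ⟩ := exists_deflation χ L hL
  set f : M →* G ⧸ L := (QuotientGroup.mk' L).comp M.subtype with hf
  have hsurj : Function.Surjective f := by
    intro q
    obtain ⟨g, rfl⟩ := QuotientGroup.mk_surjective q
    have hg : g ∈ M ⊔ L := by rw [hML]; exact Subgroup.mem_top g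
    obtain ⟨m, hm, l, hl, rfl⟩ := Subgroup.mem_sup_of_normal_right.mp hg
    refine ⟨⟨m, hm⟩, ?_⟩
    show (QuotientGroup.mk m : G ⧸ L) = QuotientGroup.mk (m * l)
    rw [QuotientGroup.eq]
    simpa using hl
  have : (fun m : M => (χ : G → ℂ) m) = (ψ : G ⧸ L → ℂ) ∘ f := by
    funext m
    exact (hψ m).symm
  rw [this]
  exact isIrrCharacter_comp_of_surjective f hsurj ψ.2

/-- **Induction dichotomy.** If `χ_M` is irreducible, then either some irreducible character over
`χ_M` has larger degree, or `χ` vanishes on the elements of `M` outside the core of `M`. -/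
theorem induced_dichotomy (M : Subgroup G) [Fintype M] (χ : IrrCharacter G)
    (hθ : IsIrrCharacter M (fun m : M => (χ : G → ℂ) m)) :
    (∃ ψ : IrrCharacter G, classInner (fun m : M => (ψ : G → ℂ) m)
        (fun m : M => (χ : G → ℂ) m) ≠ 0 ∧ charDegree (χ : G → ℂ) < charDegree (ψ : G → ℂ)) ∨
      (∀ m ∈ M, (χ : G → ℂ) m ≠ 0 → ∀ x : G, x⁻¹ * m * x ∈ M) := by
  classical
  by_cases hex : ∃ ψ : IrrCharacter G, classInner (fun m : M => (ψ : G → ℂ) m)
      (fun m : M => (χ : G → ℂ) m) ≠ 0 ∧ charDegree (χ : G → ℂ) < charDegree (ψ : G → ℂ)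
  · exact Or.inl hex
  right
  push Not at hex
  set θ : M → ℂ := fun m : M => (χ : G → ℂ) m with hθdef
  set Φ : G → ℂ := Cfsg.indFun M θ with hΦ
  have hΦc : IsCharacter G Φ := isCharacter_indFun M (isCharacter_of_irr hθ)
  obtain ⟨l, hl, hsum⟩ := isCharacter_exists_irr_decomp hΦc
  have hχ1 := apply_one_eq_charDegree (χ : G → ℂ) χ.2
  have hχpos := Cfsg.Agent.Lib.H23.charDegree_pos (χ : G → ℂ) χ.2
  have hdegθ : charDegree θ = charDegree (χ : G → ℂ) := by
    apply charDegree_eq_of_apply_one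
    show (χ : G → ℂ) ((1 : M) : G) = _
    rw [Subgroup.coe_one, hχ1]
  -- every member of `l` restricts to `θ`
  have hres : ∀ ψ ∈ l, (fun m : M => ψ m) = θ := by
    intro ψ hψ
    have hψirr := hl ψ hψ
    have hcount : classInner Φ ψ ≠ 0 := by
      rw [hsum, classInner_irr_list_sum hl hψirr]
      have : 0 < l.count ψ := List.count_pos_iff.mpr hψ
      exact_mod_cast this.ne'
    rw [hΦ, frobenius_reciprocity M θ ψ
      (isClassFunction_of_isCharacter (isCharacter_of_irr hψirr))] at hcount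
    have hc2 : classInner (fun m : M => ψ m) θ ≠ 0 := by
      rw [← classInner_conj_symm]
      intro h0
      apply hcount
      have := congrArg conj h0
      rwa [Complex.conj_conj, map_zero] at this
    have hle := hex ⟨ψ, hψirr⟩ hc2
    have hdegψ : charDegree (fun m : M => ψ m) = charDegree ψ := by
      unfold charDegree
      show ⌊(ψ ((1 : M) : G)).re⌋₊ = ⌊(ψ 1).re⌋₊
      rw [Subgroup.coe_one]
    apply eq_of_constituent_of_degree_le (isCharacter_restrict M (isCharacter_of_irr hψirr)) hθ hc2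
    rw [hdegψ, hdegθ]
    exact hle
  -- values of `Φ` on `M`
  have hΦM : ∀ m ∈ M, Φ m = (l.length : ℂ) * (χ : G → ℂ) m := by
    intro m hm
    rw [hsum, list_sum_apply]
    have : l.map (fun ψ => ψ m) = l.map (fun _ => (χ : G → ℂ) m) := by
      apply List.map_congr_left
      intro ψ hψ
      exact congrFun (hres ψ hψ) ⟨m, hm⟩
    rw [this, List.map_const', List.sum_replicate, nsmul_eq_mul]
  have hlen : l.length = M.index := by
    have h1 := hΦM 1 M.one_mem
    rw [hΦ, indFun_one'] at h1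
    have h2 : θ 1 = (χ : G → ℂ) 1 := by
      show (χ : G → ℂ) ((1 : M) : G) = _
      rw [Subgroup.coe_one]
    rw [h2] at h1
    have hne : (χ : G → ℂ) 1 ≠ 0 := by
      rw [hχ1]; exact_mod_cast hχpos.ne'
    have := mul_right_cancel₀ hne h1
    exact_mod_cast this.symm
  intro m hm hχm
  have hcf := isClassFunction_irr χ
  have hval : ∀ x : G, Cfsg.extendByZero M θ (x⁻¹ * m * x) =
      if x⁻¹ * m * x ∈ M then (χ : G → ℂ) m else 0 := by
    intro x
    by_cases hx : x⁻¹ * m * x ∈ M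
    · rw [if_pos hx, extendByZero_apply_of_mem M _ hx]
      show (χ : G → ℂ) (x⁻¹ * m * x) = _
      have := hcf m x⁻¹
      rwa [inv_inv] at this
    · rw [if_neg hx, extendByZero_apply_not_mem M _ hx]
  have h3 := hΦM m hm
  rw [hΦ, indFun_apply, Finset.sum_congr rfl (fun x _ => hval x), Finset.sum_ite,
    Finset.sum_const_zero, add_zero, Finset.sum_const, nsmul_eq_mul, hlen] at h3
  have hMne : (Nat.card M : ℂ) ≠ 0 := by exact_mod_cast (Nat.card_pos (α := M)).ne'
  have h4 : ((Finset.univ.filter (fun x : G => x⁻¹ * m * x ∈ M)).card : ℂ) =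
      (Nat.card M : ℂ) * (M.index : ℂ) := by
    have h5 : (Nat.card M : ℂ)⁻¹ * ((Finset.univ.filter (fun x : G => x⁻¹ * m * x ∈ M)).card : ℂ)
        = (M.index : ℂ) := by
      apply mul_right_cancel₀ hχm
      rw [← h3]; ring
    rw [← h5, ← mul_assoc, mul_inv_cancel₀ hMne, one_mul]
  have h6 : (Finset.univ.filter (fun x : G => x⁻¹ * m * x ∈ M)).card = Nat.card G := by
    have : ((Finset.univ.filter (fun x : G => x⁻¹ * m * x ∈ M)).card : ℂ) =
        ((Nat.card G : ℕ) : ℂ) := by
      rw [h4, ← M.card_mul_index]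
      push_cast
      rfl
    exact_mod_cast this
  rw [Nat.card_eq_fintype_card, ← Finset.card_univ] at h6
  have h7 := (Finset.card_eq_iff_eq_univ _).mp h6
  intro x
  have h8 : x ∈ Finset.univ.filter (fun x : G => x⁻¹ * m * x ∈ M) := by
    rw [h7]; exact Finset.mem_univ _
  exact (Finset.mem_filter.mp h8).2

/-- **Kernel lemma.** For a maximal subgroup `M` with `χ_M` irreducible, an irreducible character
over `χ_M` of larger degree has its kernel inside `M ∩ ker χ`. -/
theorem ker_le_of_degree_lt (M : Subgroup G) [Fintype M] (hM : IsCoatom M) (χ ψ : IrrCharacter G)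
    (hθ : IsIrrCharacter M (fun m : M => (χ : G → ℂ) m))
    (hc : classInner (fun m : M => (ψ : G → ℂ) m) (fun m : M => (χ : G → ℂ) m) ≠ 0)
    (hdeg : charDegree (χ : G → ℂ) < charDegree (ψ : G → ℂ)) (g : G)
    (hg : (ψ : G → ℂ) g = (ψ : G → ℂ) 1) : g ∈ M ∧ (χ : G → ℂ) g = (χ : G → ℂ) 1 := by
  classical
  set L := charKer (ψ : G → ℂ) (isCharacter_of_irr ψ.2) with hL
  have hLM : L ≤ M := by
    by_contra hnot
    have htop : M ⊔ L = ⊤ := hM.2 _ (lt_of_le_of_ne le_sup_left (fun h => hnot (h ▸ le_sup_right)))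
    have hirr := isIrrCharacter_restrict_of_sup_eq_top M L ψ (fun n hn => hn) htop
    have heq : (fun m : M => (ψ : G → ℂ) m) = fun m : M => (χ : G → ℂ) m := by
      by_contra hne
      exact hc (irr_classInner_ne hirr hθ hne)
    have h1 := congrFun heq 1
    simp only [Subgroup.coe_one] at h1
    have h2 := apply_one_eq_charDegree (ψ : G → ℂ) ψ.2
    have h3 := apply_one_eq_charDegree (χ : G → ℂ) χ.2
    rw [h2, h3] at h1
    have : charDegree (ψ : G → ℂ) = charDegree (χ : G → ℂ) := by exact_mod_cast h1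
    omega
  have hgM : g ∈ M := hLM hg
  refine ⟨hgM, ?_⟩
  have h1 : (fun m : M => (ψ : G → ℂ) m) ⟨g, hgM⟩ = (fun m : M => (ψ : G → ℂ) m) 1 := by
    show (ψ : G → ℂ) g = (ψ : G → ℂ) ((1 : M) : G)
    rw [Subgroup.coe_one]; exact hg
  have h2 := constituent_apply_eq_one (isCharacter_restrict M (isCharacter_of_irr ψ.2)) hθ hc h1
  have h3 : (χ : G → ℂ) g = (χ : G → ℂ) ((1 : M) : G) := h2
  rwa [Subgroup.coe_one] at h3

end restrict

section sylow

open Cfsg.Agent.Lib.H1

variable {G : Type*} [Group G] [Finite G] {p : ℕ} [hp : Fact p.Prime]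

theorem isSylowOf_of_le {K B P : Subgroup G} (h : IsSylowOf p K P) (hPB : P ≤ B) (hBK : B ≤ K) :
    IsSylowOf p B P := by
  refine ⟨hPB, ?_⟩
  rw [h.card_eq]
  congr 1
  apply le_antisymm
  · have h1 : Nat.card P ∣ Nat.card B := Subgroup.card_dvd_of_le hPB
    rw [h.card_eq] at h1
    exact (Nat.Prime.pow_dvd_iff_le_factorization hp.out Nat.card_pos.ne').mp h1
  · have h2 : Nat.card B ∣ Nat.card K := Subgroup.card_dvd_of_le hBK
    exact (Nat.factorization_le_iff_dvd Nat.card_pos.ne' Nat.card_pos.ne').mpr h2 p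

theorem le_of_normal_isPGroup_of_isSylowOf {A Q O : Subgroup G} (hQ : IsSylowOf p A Q) [O.Normal]
    (hO : IsPGroup p O) (hOA : O ≤ A) : O ≤ Q := by
  have hpg : IsPGroup p (O ⊔ Q : Subgroup G) := IsPGroup.to_sup_of_normal_left hO hQ.isPGroup
  have hle : O ⊔ Q ≤ A := sup_le hOA hQ.le
  obtain ⟨k, hk⟩ := IsPGroup.iff_card.mp hpg
  have h1 : Nat.card (O ⊔ Q : Subgroup G) ∣ Nat.card A := Subgroup.card_dvd_of_le hle
  rw [hk] at h1
  have h2 : k ≤ (Nat.card A).factorization p :=
    (Nat.Prime.pow_dvd_iff_le_factorization hp.out Nat.card_pos.ne').mp h1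
  have h3 : Nat.card (O ⊔ Q : Subgroup G) ≤ Nat.card Q := by
    rw [hk, hQ.card_eq]; exact Nat.pow_le_pow_right hp.out.pos h2
  have h4 : Q = O ⊔ Q := Subgroup.eq_of_le_of_card_ge le_sup_right h3
  rw [h4]; exact le_sup_left

theorem sup_eq_of_relIndex_pow {K A Q : Subgroup G} (hKA : K ≤ A) (hQ : IsSylowOf p A Q)
    (hidx : ∃ j, K.relIndex A = p ^ j) : K ⊔ Q = A := by
  have hle : K ⊔ Q ≤ A := sup_le hKA hQ.le
  apply le_antisymm hle
  rw [← Subgroup.relIndex_eq_one]
  have h1 : (K ⊔ Q).relIndex A ∣ K.relIndex A := Subgroup.relIndex_dvd_of_le_left A le_sup_left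
  have h2 : (K ⊔ Q).relIndex A ∣ Q.relIndex A := Subgroup.relIndex_dvd_of_le_left A le_sup_right
  obtain ⟨j, hj⟩ := hidx
  rw [hj] at h1
  obtain ⟨i, -, hi⟩ := (Nat.dvd_prime_pow hp.out).mp h1
  rcases Nat.eq_zero_or_pos i with h0 | hpos
  · rw [hi, h0, pow_zero]
  · exfalso
    apply hQ.not_dvd_relIndex
    exact dvd_trans (hi ▸ dvd_pow_self p hpos.ne') h2

theorem normal_of_isSylowOf_nilpotent {K O : Subgroup G} [K.Normal] (hnil : Group.IsNilpotent K)
    (hO : IsSylowOf p K O) : O.Normal := by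
  have htfae : Group.IsNilpotent K ↔
      ∀ (p : ℕ), Fact (Nat.Prime p) → ∀ (P : Sylow p K), (P : Subgroup K).Normal :=
    (Group.isNilpotent_of_finite_tfae (G := K)).out 0 3
  have h1 : ((hO.toSylow : Sylow p K) : Subgroup K).Normal := htfae.mp hnil p hp hO.toSylow
  haveI := Sylow.characteristic_of_normal hO.toSylow h1
  have h2 := ConjAct.normal_of_characteristic_of_normal (H := K)
    (K := ((hO.toSylow : Sylow p K) : Subgroup K))
  rwa [hO.map_toSylow] at h2

end sylow

section grouptheory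

open Cfsg.Agent.Lib.H1 Cfsg.Agent.Lib.H3

variable {G : Type*} [Group G] [Finite G]

/-- The key group-theoretic step for `K = F(G)`. -/
theorem exists_coatom_not_le_sup_core (K A : Subgroup G) [K.Normal] [A.Normal]
    (hnil : Group.IsNilpotent K)
    (hcore : ∀ (q : ℕ), q.Prime → ∀ O : Subgroup G, O.Normal → IsPGroup q O → O ≤ K)
    (hKA : K ≤ A) (hne : A ≠ K) (q : ℕ) [hq : Fact q.Prime] (hidx : ∃ j, K.relIndex A = q ^ j) :
    ∃ M : Subgroup G, IsCoatom M ∧ ¬ K ≤ M ∧ ¬ A ≤ K ⊔ M.normalCore := by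
  obtain ⟨Q, hQ⟩ := exists_isSylowOf q A
  have hKQ : K ⊔ Q = A := sup_eq_of_relIndex_pow hKA hQ hidx
  have hQn : ¬ Q.Normal := by
    intro h
    have : Q ≤ K := hcore q hq.out Q h hQ.isPGroup
    apply hne
    rw [← hKQ]
    exact sup_eq_left.mpr this
  have hNtop : Subgroup.normalizer (Q : Set G) ≠ ⊤ := fun h =>
    hQn (Subgroup.normalizer_eq_top_iff.mp h)
  have hfrat : Subgroup.normalizer (Q : Set G) ⊔ A = ⊤ := hQ.normalizer_sup_eq_top
  obtain ⟨M, hM, hNM⟩ := (eq_top_or_exists_le_coatom (Subgroup.normalizer (Q : Set G))).resolve_left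
    hNtop
  have hQM : Q ≤ M := le_trans Subgroup.le_normalizer hNM
  have hKM : ¬ K ≤ M := by
    intro h
    have : A ≤ M := by rw [← hKQ]; exact sup_le h hQM
    have : (⊤ : Subgroup G) ≤ M := by rw [← hfrat]; exact sup_le hNM this
    exact hM.1 (top_le_iff.mp this)
  refine ⟨M, hM, hKM, ?_⟩
  intro hA
  set C := M.normalCore with hC
  haveI : C.Normal := Subgroup.normalCore_normal M
  obtain ⟨O, hO⟩ := exists_isSylowOf q K
  haveI hOn : O.Normal := normal_of_isSylowOf_nilpotent hnil hO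
  have hOQ : O ≤ Q := le_of_normal_isPGroup_of_isSylowOf hQ hO.isPGroup (le_trans hO.le hKA)
  have hOC : O ≤ C := Subgroup.normal_le_normalCore.mpr (le_trans hOQ hQM)
  -- `Q ≤ C`
  have hQC : Q ≤ C := by
    have hr1 : C.relIndex (Q ⊔ C) ∣ Nat.card Q := by
      rw [Subgroup.relIndex_sup_right, ← Subgroup.inf_relIndex_right]
      exact Subgroup.relIndex_dvd_card _ _
    have hle : Q ⊔ C ≤ K ⊔ C := sup_le (le_trans hQ.le hA) le_sup_right
    have hr2 : C.relIndex (Q ⊔ C) ∣ O.relIndex K := by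
      have h1 := Subgroup.relIndex_mul_relIndex C (Q ⊔ C) (K ⊔ C) le_sup_right hle
      have h2 : C.relIndex (K ⊔ C) = (C ⊓ K).relIndex K := by
        rw [Subgroup.relIndex_sup_right, Subgroup.inf_relIndex_right]
      have h3 : (C ⊓ K).relIndex K ∣ O.relIndex K :=
        Subgroup.relIndex_dvd_of_le_left K (le_inf hOC hO.le)
      exact dvd_trans (Dvd.intro _ h1) (h2 ▸ h3)
    obtain ⟨k, hk⟩ := IsPGroup.iff_card.mp hQ.isPGroup
    rw [hk] at hr1
    obtain ⟨i, -, hi⟩ := (Nat.dvd_prime_pow hq.out).mp hr1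
    have hone : C.relIndex (Q ⊔ C) = 1 := by
      rcases Nat.eq_zero_or_pos i with h0 | hpos
      · rw [hi, h0, pow_zero]
      · exfalso
        apply hO.not_dvd_relIndex
        exact dvd_trans (hi ▸ dvd_pow_self q hpos.ne') hr2
    exact le_trans le_sup_left (Subgroup.relIndex_eq_one.mp hone)
  set B := A ⊓ C with hB
  haveI : B.Normal := Subgroup.normal_inf_normal A C
  have hQB : IsSylowOf q B Q := isSylowOf_of_le hQ (le_inf hQ.le hQC) inf_le_left
  have hfrat2 : Subgroup.normalizer (Q : Set G) ⊔ B = ⊤ := hQB.normalizer_sup_eq_top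
  have hBM : B ≤ M := le_trans inf_le_right (Subgroup.normalCore_le M)
  have : (⊤ : Subgroup G) ≤ M := by rw [← hfrat2]; exact sup_le hNM hBM
  exact hM.1 (top_le_iff.mp this)

/-- Above a normal subgroup with solvable quotient there is a normal subgroup of prime-power
relative index inside any bigger normal subgroup. -/
theorem exists_normal_prime_pow_above (K X : Subgroup G) [K.Normal] [hX : X.Normal]
    (hsolv : Group.IsSolvable (G ⧸ K)) (hKX : K ≤ X) (hne : X ≠ K) :
    ∃ (A : Subgroup G) (q : ℕ), A.Normal ∧ q.Prime ∧ K ≤ A ∧ A ≤ X ∧ A ≠ K ∧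
      ∃ j, K.relIndex A = q ^ j := by
  set Xb : Subgroup (G ⧸ K) := X.map (QuotientGroup.mk' K) with hXb
  have hXbn : Xb.Normal := hX.map _ (QuotientGroup.mk'_surjective K)
  have hXb1 : Xb ≠ ⊥ := by
    intro h
    have h1 := (Subgroup.map_eq_bot_iff _).mp h
    rw [QuotientGroup.ker_mk'] at h1
    exact hne (le_antisymm h1 hKX)
  obtain ⟨Ab, ⟨hAbn, hAb1, hAbmin⟩, hAbX⟩ := exists_isMinNormal_le Xb hXbn hXb1
  haveI := hAbn
  have hcomm := minNormal_comm_of_isSolvable Ab hAb1 hAbmin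
  obtain ⟨q, d, hq, hd, hcard, -⟩ := minNormal_exists_prime_pow Ab hAb1 hAbmin hcomm
  set A := Ab.comap (QuotientGroup.mk' K) with hA
  have hcardA : Nat.card A = Nat.card Ab * Nat.card K := card_comap_mk' K Ab
  have hKA : K ≤ A := le_comap_mk' K Ab
  refine ⟨A, q, hAbn.comap _, hq, hKA, ?_, ?_, d, ?_⟩
  · have h1 : A ≤ Xb.comap (QuotientGroup.mk' K) := Subgroup.comap_mono hAbX
    rw [hXb, comap_map_mk', sup_eq_left.mpr hKX] at h1
    exact h1
  · intro h
    rw [h, hcard] at hcardA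
    have hKpos : 0 < Nat.card K := Nat.card_pos
    have : q ^ d = 1 := by
      have h2 : q ^ d * Nat.card K = 1 * Nat.card K := by rw [one_mul]; exact hcardA.symm
      exact Nat.eq_of_mul_eq_mul_right hKpos h2
    have h3 : 1 < q ^ d := Nat.one_lt_pow hd.ne' hq.one_lt
    omega
  · have h1 := card_mul_relIndex_of_le hKA
    rw [hcardA, hcard, mul_comm] at h1
    exact Nat.eq_of_mul_eq_mul_right (Nat.card_pos (α := K)) h1

end grouptheory

section main

open Cfsg.Agent.Lib.H1

variable {G : Type*} [Group G] [Fintype G]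

/-- The conclusion of Broline–Garrison from a maximal subgroup not containing `K = ker χ` and a
character over `χ_M` of bigger degree. -/
theorem conclusion_of_degree_lt (χ : IrrCharacter G) (K : Subgroup G)
    (hK : ∀ g : G, g ∈ K ↔ (χ : G → ℂ) g = (χ : G → ℂ) 1)
    (M : Subgroup G) [Fintype M] (hM : IsCoatom M) (hKM : ¬ K ≤ M)
    (hθ : IsIrrCharacter M (fun m : M => (χ : G → ℂ) m)) (ψ : IrrCharacter G)
    (hc : classInner (fun m : M => (ψ : G → ℂ) m) (fun m : M => (χ : G → ℂ) m) ≠ 0)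
    (hdeg : charDegree (χ : G → ℂ) < charDegree (ψ : G → ℂ)) :
    ∃ ψ : IrrCharacter G, charDegree (χ : G → ℂ) < charDegree (ψ : G → ℂ) ∧
      ∃ L : Subgroup G, (∀ g : G, g ∈ L ↔ (ψ : G → ℂ) g = (ψ : G → ℂ) 1) ∧ L < K := by
  refine ⟨ψ, hdeg, charKer (ψ : G → ℂ) (isCharacter_of_irr ψ.2), fun g => mem_charKer, ?_⟩
  have hsub : ∀ g ∈ charKer (ψ : G → ℂ) (isCharacter_of_irr ψ.2),
      g ∈ M ∧ (χ : G → ℂ) g = (χ : G → ℂ) 1 :=
    fun g hg => ker_le_of_degree_lt M hM χ ψ hθ hc hdeg g hg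
  refine lt_of_le_of_ne (fun g hg => (hK g).mpr (hsub g hg).2) ?_
  intro heq
  apply hKM
  intro k hk
  rw [← heq] at hk
  exact (hsub k hk).1

/-- **Broline–Garrison** (Isaacs 12.19). -/
theorem broline_garrison (χ : IrrCharacter G) (K : Subgroup G) [K.Normal]
    (hK : ∀ g : G, g ∈ K ↔ (χ : G → ℂ) g = (χ : G → ℂ) 1)
    (h : ¬ K ≤ Cfsg.fittingSubgroup G ∨
      (K = Cfsg.fittingSubgroup G ∧ Group.IsSolvable (G ⧸ K) ∧ K ≠ ⊤)) :
    ∃ ψ : IrrCharacter G, charDegree (χ : G → ℂ) < charDegree (ψ : G → ℂ) ∧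
      ∃ L : Subgroup G, (∀ g : G, g ∈ L ↔ (ψ : G → ℂ) g = (ψ : G → ℂ) 1) ∧ L < K := by
  classical
  have hχ1ne : (χ : G → ℂ) 1 ≠ 0 := irr_one_ne_zero χ
  have hcommon : ∀ M : Subgroup G, IsCoatom M → ¬ K ≤ M →
      (∃ ψ : IrrCharacter G, charDegree (χ : G → ℂ) < charDegree (ψ : G → ℂ) ∧
        ∃ L : Subgroup G, (∀ g : G, g ∈ L ↔ (ψ : G → ℂ) g = (ψ : G → ℂ) 1) ∧ L < K) ∨
      (∀ m ∈ M, (χ : G → ℂ) m ≠ 0 → m ∈ M.normalCore) := by
    intro M hM hKM
    haveI : Fintype M := Fintype.ofFinite _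
    have htop : M ⊔ K = ⊤ :=
      hM.2 _ (lt_of_le_of_ne le_sup_left (fun h => hKM (h ▸ le_sup_right)))
    have hθ := isIrrCharacter_restrict_of_sup_eq_top M K χ (fun n hn => (hK n).mp hn) htop
    rcases induced_dichotomy M χ hθ with ⟨ψ, hc, hdeg⟩ | hvan
    · left; exact conclusion_of_degree_lt χ K hK M hM hKM hθ ψ hc hdeg
    · right
      intro m hm hne
      show ∀ b : G, b * m * b⁻¹ ∈ M
      intro b
      have := hvan m hm hne b⁻¹
      simpa using this
  rcases h with hA | ⟨hF, hsolv, hKtop⟩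
  · -- `K` not nilpotent
    have hnotnil : ¬ Group.IsNilpotent K := fun hnil => hA (le_fittingSubgroup inferInstance hnil)
    have hex : ∃ (p : ℕ) (_ : Fact p.Prime) (P : Subgroup G), IsSylowOf p K P ∧ ¬ P.Normal := by
      by_contra hall
      push Not at hall
      apply hnotnil
      have htfae : Group.IsNilpotent K ↔
          ∀ (p : ℕ), Fact (Nat.Prime p) → ∀ (P : Sylow p K), (P : Subgroup K).Normal :=
        (Group.isNilpotent_of_finite_tfae (G := K)).out 0 3
      rw [htfae]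
      intro p hp P
      have hn : ((P : Subgroup K).map K.subtype).Normal := hall p hp _ (isSylowOf_map_sylow P)
      have : (P : Subgroup K) = ((P : Subgroup K).map K.subtype).comap K.subtype :=
        (Subgroup.comap_map_eq_self_of_injective K.subtype_injective _).symm
      rw [this]
      exact hn.comap _
    obtain ⟨p, hp, P, hP, hPn⟩ := hex
    have hNtop : Subgroup.normalizer (P : Set G) ≠ ⊤ := fun h =>
      hPn (Subgroup.normalizer_eq_top_iff.mp h)
    have hfrat : Subgroup.normalizer (P : Set G) ⊔ K = ⊤ := hP.normalizer_sup_eq_top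
    obtain ⟨M, hM, hNM⟩ :=
      (eq_top_or_exists_le_coatom (Subgroup.normalizer (P : Set G))).resolve_left hNtop
    have hKM : ¬ K ≤ M := by
      intro h
      have : (⊤ : Subgroup G) ≤ M := by rw [← hfrat]; exact sup_le hNM h
      exact hM.1 (top_le_iff.mp this)
    rcases hcommon M hM hKM with hdone | hvan
    · exact hdone
    · exfalso
      haveI : (M.normalCore).Normal := Subgroup.normalCore_normal M
      set B := K ⊓ M.normalCore with hB
      haveI : B.Normal := Subgroup.normal_inf_normal K M.normalCore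
      have hPB : P ≤ B := by
        intro x hx
        refine ⟨hP.le hx, ?_⟩
        apply hvan x (hNM (Subgroup.le_normalizer hx))
        rw [(hK x).mp (hP.le hx)]; exact hχ1ne
      have hPB' := isSylowOf_of_le hP hPB inf_le_left
      have hfrat2 : Subgroup.normalizer (P : Set G) ⊔ B = ⊤ := hPB'.normalizer_sup_eq_top
      have : (⊤ : Subgroup G) ≤ M := by
        rw [← hfrat2]
        exact sup_le hNM (le_trans inf_le_right (Subgroup.normalCore_le M))
      exact hM.1 (top_le_iff.mp this)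
  · -- `K = F(G)`
    by_contra hno
    have hvanM : ∀ M : Subgroup G, IsCoatom M → ¬ K ≤ M →
        ∀ m ∈ M, (χ : G → ℂ) m ≠ 0 → m ∈ M.normalCore :=
      fun M hM hKM => (hcommon M hM hKM).resolve_left hno
    obtain ⟨ψ', hψ'⟩ := exists_deflation χ K (fun n hn => (hK n).mp hn)
    have hmulK : ∀ (m k : G), k ∈ K → (χ : G → ℂ) (m * k) = (χ : G → ℂ) m := by
      intro m k hk
      rw [← hψ' (m * k), ← hψ' m]
      refine congrArg (ψ' : G ⧸ K → ℂ) ?_
      rw [QuotientGroup.eq]
      simpa using K.inv_mem hk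
    have hclaim1 : ∀ M : Subgroup G, IsCoatom M → ¬ K ≤ M →
        ∀ g : G, (χ : G → ℂ) g ≠ 0 → g ∈ K ⊔ M.normalCore := by
      intro M hM hKM g hg
      have htop : M ⊔ K = ⊤ :=
        hM.2 _ (lt_of_le_of_ne le_sup_left (fun h => hKM (h ▸ le_sup_right)))
      have hgm : g ∈ M ⊔ K := by rw [htop]; exact Subgroup.mem_top g
      obtain ⟨m, hm, k, hk, rfl⟩ := Subgroup.mem_sup_of_normal_right.mp hgm
      rw [hmulK m k hk] at hg
      have := hvanM M hM hKM m hm hg
      exact Subgroup.mul_mem _ (Subgroup.mem_sup_right this) (Subgroup.mem_sup_left hk)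
    set X : Subgroup G := K ⊔ Subgroup.normalClosure {g : G | (χ : G → ℂ) g ≠ 0} with hX
    haveI hXn : X.Normal := by rw [hX]; infer_instance
    have hKX : K ≤ X := le_sup_left
    have hXle : ∀ M : Subgroup G, IsCoatom M → ¬ K ≤ M → X ≤ K ⊔ M.normalCore := by
      intro M hM hKM
      haveI : ((M : Subgroup G).normalCore).Normal := Subgroup.normalCore_normal _
      haveI : (K ⊔ M.normalCore).Normal := inferInstance
      apply sup_le le_sup_left
      apply Subgroup.normalClosure_le_normal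
      intro g hg
      exact hclaim1 M hM hKM g hg
    have hXK : X = K := by
      by_contra hne
      obtain ⟨A, q, hAn, hq, hKA, hAX, hAK, hidx⟩ :=
        exists_normal_prime_pow_above K X hsolv hKX hne
      haveI := hAn
      haveI : Fact q.Prime := ⟨hq⟩
      have hnil : Group.IsNilpotent K := by rw [hF]; exact fittingSubgroup_isNilpotent
      have hcore : ∀ q : ℕ, q.Prime → ∀ O : Subgroup G, O.Normal → IsPGroup q O → O ≤ K := by
        intro q hq O hOn hO
        rw [hF]
        haveI : Fact q.Prime := ⟨hq⟩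
        exact le_fittingSubgroup hOn hO.isNilpotent
      obtain ⟨M, hM, hKM, hAM⟩ := exists_coatom_not_le_sup_core K A hnil hcore hKA hAK q hidx
      exact hAM (le_trans hAX (hXle M hM hKM))
    have hvan : ∀ g : G, (χ : G → ℂ) g ≠ 0 → g ∈ K := by
      intro g hg
      have h1 : g ∈ X := Subgroup.mem_sup_right (Subgroup.subset_normalClosure hg)
      rwa [hXK] at h1
    have hinner : classInner (χ : G → ℂ) (1 : G → ℂ) ≠ 0 := by
      unfold classInner
      have hval : ∀ g : G, (χ : G → ℂ) g * conj ((1 : G → ℂ) g) =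
          if g ∈ K then (χ : G → ℂ) 1 else 0 := by
        intro g
        by_cases hg : g ∈ K
        · rw [if_pos hg, (hK g).mp hg]; simp
        · rw [if_neg hg]
          have : (χ : G → ℂ) g = 0 := by
            by_contra h; exact hg (hvan g h)
          rw [this, zero_mul]
      rw [Finset.sum_congr rfl (fun g _ => hval g), Finset.sum_ite, Finset.sum_const_zero,
        add_zero, Finset.sum_const, nsmul_eq_mul]
      refine mul_ne_zero (inv_ne_zero ?_) (mul_ne_zero ?_ hχ1ne)
      · exact_mod_cast (Nat.card_pos (α := G)).ne'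
      · have : (1 : G) ∈ Finset.univ.filter (fun g : G => g ∈ K) :=
          Finset.mem_filter.mpr ⟨Finset.mem_univ _, K.one_mem⟩
        exact_mod_cast (Finset.card_pos.mpr ⟨1, this⟩).ne'
    have heq : (χ : G → ℂ) = 1 := by
      by_contra hne
      exact hinner (irr_classInner_ne χ.2 isIrrCharacter_one hne)
    apply hKtop
    rw [eq_top_iff]
    intro g _
    rw [hK g, heq]; rfl

end main

end Cfsg.Agent.Lib.H24
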