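import Mathlib
import Cfsg.Agent.Lib.H24.BrolineGarrison

/-!
# Garrison's theorem (Isaacs 12.21): the nilpotent length of a solvable group is at most the
number of its irreducible character degrees
-/

set_option autoImplicit false

namespace Cfsg.Agent.Lib.H24

open Cfsg Cfsg.Agent.Lib.L0 Cfsg.Agent.Lib.H23 Cfsg.Agent.Lib.H1 Cfsg.Agent.Lib.H3

section fitAbove

variable {G : Type*} [Group G]

/-- The preimage in `G` of the Fitting subgroup of `G ⧸ N`. -/
def fitAbove (N : Subgroup G) [N.Normal] : Subgroup G :=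
  (Cfsg.fittingSubgroup (G ⧸ N)).comap (QuotientGroup.mk' N)

instance fitAbove_normal (N : Subgroup G) [N.Normal] : (fitAbove N).Normal :=
  (fittingSubgroup_normal (G ⧸ N)).comap _

theorem le_fitAbove (N : Subgroup G) [N.Normal] : N ≤ fitAbove N := by
  intro g hg
  show QuotientGroup.mk' N g ∈ Cfsg.fittingSubgroup (G ⧸ N)
  have : QuotientGroup.mk' N g = 1 := (QuotientGroup.eq_one_iff g).mpr hg
  rw [this]
  exact Subgroup.one_mem _

theorem mem_fitAbove (N : Subgroup G) [N.Normal] (g : G) :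
    g ∈ fitAbove N ↔ (g : G ⧸ N) ∈ Cfsg.fittingSubgroup (G ⧸ N) := Iff.rfl

/-- `fitAbove N / N` is nilpotent. -/
theorem isNilpotent_quot_fitAbove [Finite G] (N : Subgroup G) [N.Normal]
    [h : (N.subgroupOf (fitAbove N)).Normal] :
    Group.IsNilpotent (↥(fitAbove N) ⧸ N.subgroupOf (fitAbove N)) := by
  set A := fitAbove N with hA
  set F := Cfsg.fittingSubgroup (G ⧸ N) with hF
  haveI : Group.IsNilpotent F := fittingSubgroup_isNilpotent
  let f : A →* F :=
    ((QuotientGroup.mk' N).comp A.subtype).codRestrict F (fun a => a.2)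
  have hsurj : Function.Surjective f := by
    rintro ⟨q, hq⟩
    obtain ⟨g, rfl⟩ := QuotientGroup.mk_surjective q
    exact ⟨⟨g, hq⟩, rfl⟩
  have hker : f.ker = N.subgroupOf A := by
    ext a
    rw [MonoidHom.mem_ker, Subgroup.mem_subgroupOf]
    constructor
    · intro h1
      have h2 : ((a : G) : G ⧸ N) = 1 := congrArg Subtype.val h1
      exact (QuotientGroup.eq_one_iff (a : G)).mp h2
    · intro h1
      apply Subtype.ext
      exact (QuotientGroup.eq_one_iff (a : G)).mpr h1
  have e1 : A ⧸ f.ker ≃* F := QuotientGroup.quotientKerEquivOfSurjective f hsurj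
  have e2 : A ⧸ f.ker ≃* A ⧸ N.subgroupOf A := QuotientGroup.quotientMulEquivOfEq hker
  exact nilpotent_of_mulEquiv (e1.symm.trans e2)

/-- The Fitting subgroup of a nontrivial finite solvable group is nontrivial. -/
theorem fittingSubgroup_ne_bot {Q : Type*} [Group Q] [Finite Q] [Group.IsSolvable Q]
    [Nontrivial Q] : Cfsg.fittingSubgroup Q ≠ ⊥ := by
  have htop : (⊤ : Subgroup Q) ≠ ⊥ := by
    intro h
    obtain ⟨x, hx⟩ := exists_ne (1 : Q)
    have : x ∈ (⊥ : Subgroup Q) := by rw [← h]; exact Subgroup.mem_top x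
    exact hx (Subgroup.mem_bot.mp this)
  obtain ⟨M, ⟨hMn, hM1, hMmin⟩, -⟩ := exists_isMinNormal_le (⊤ : Subgroup Q) inferInstance htop
  haveI := hMn
  have hcomm := minNormal_comm_of_isSolvable M hM1 hMmin
  obtain ⟨q, d, hq, -, hcard, -⟩ := minNormal_exists_prime_pow M hM1 hMmin hcomm
  haveI : Fact q.Prime := ⟨hq⟩
  have hpg : IsPGroup q M := IsPGroup.of_card hcard
  have hle : M ≤ Cfsg.fittingSubgroup Q := le_fittingSubgroup hMn hpg.isNilpotent
  intro h
  rw [h, le_bot_iff] at hle
  exact hM1 hle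

/-- In a finite solvable group, `fitAbove N` is strictly bigger than `N ≠ ⊤`. -/
theorem fitAbove_ne [Finite G] [hsolv : Group.IsSolvable G] (N : Subgroup G) [N.Normal]
    (hN : N ≠ ⊤) : fitAbove N ≠ N := by
  intro heq
  haveI : Nontrivial (G ⧸ N) := QuotientGroup.nontrivial_iff.mpr hN
  apply fittingSubgroup_ne_bot (Q := G ⧸ N)
  have h1 : (fitAbove N).map (QuotientGroup.mk' N) = Cfsg.fittingSubgroup (G ⧸ N) :=
    Subgroup.map_comap_eq_self_of_surjective (QuotientGroup.mk'_surjective N) _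
  rw [← h1, heq]
  exact QuotientGroup.map_mk'_self N

/-- One step of Garrison's argument: a character with `fitAbove N ≠ ⊤` in its kernel yields a
character of bigger degree with `N` in its kernel. -/
theorem exists_bigger_degree [Finite G] [Group.IsSolvable G] (N : Subgroup G) [N.Normal]
    (hA : fitAbove N ≠ ⊤) (χ : IrrCharacter G)
    (hχ : ∀ g ∈ fitAbove N, (χ : G → ℂ) g = (χ : G → ℂ) 1) :
    ∃ ψ : IrrCharacter G, (∀ g ∈ N, (ψ : G → ℂ) g = (ψ : G → ℂ) 1) ∧
      charDegree (χ : G → ℂ) < charDegree (ψ : G → ℂ) := by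
  classical
  haveI := Fintype.ofFinite (G ⧸ N)
  obtain ⟨χb, hχb⟩ := exists_deflation χ N (fun n hn => hχ n (le_fitAbove N hn))
  set Kb := charKer (χb : G ⧸ N → ℂ) (isCharacter_of_irr χb.2) with hKb
  have hFK : Cfsg.fittingSubgroup (G ⧸ N) ≤ Kb := by
    intro q hq
    obtain ⟨g, rfl⟩ := QuotientGroup.mk_surjective q
    rw [hKb, mem_charKer, hχb, ← QuotientGroup.mk_one, hχb]
    exact hχ g hq
  have hFtop : Cfsg.fittingSubgroup (G ⧸ N) ≠ ⊤ := by
    intro h
    apply hA
    rw [fitAbove, h, Subgroup.comap_top]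
  have hhyp : ¬ Kb ≤ Cfsg.fittingSubgroup (G ⧸ N) ∨
      (Kb = Cfsg.fittingSubgroup (G ⧸ N) ∧ Group.IsSolvable ((G ⧸ N) ⧸ Kb) ∧ Kb ≠ ⊤) := by
    by_cases hle : Kb ≤ Cfsg.fittingSubgroup (G ⧸ N)
    · right
      have heq := le_antisymm hle hFK
      exact ⟨heq, inferInstance, heq ▸ hFtop⟩
    · left; exact hle
  obtain ⟨ψb, hdeg, -⟩ := broline_garrison χb Kb (fun g => mem_charKer) hhyp
  refine ⟨inflIrr N ψb, ?_, ?_⟩
  · intro g hg
    rw [inflIrr_apply, inflIrr_apply]
    refine congrArg (ψb : G ⧸ N → ℂ) ?_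
    rw [QuotientGroup.mk_one]
    exact (QuotientGroup.eq_one_iff g).mpr hg
  · rw [charDegree_inflIrr]
    have : charDegree (χb : G ⧸ N → ℂ) = charDegree (χ : G → ℂ) := by
      apply charDegree_eq_of_apply_one
      have := hχb 1
      rw [QuotientGroup.mk_one] at this
      rw [this]; exact apply_one_eq_charDegree _ χ.2
    rw [← this]; exact hdeg

end fitAbove

section series

variable (G : Type*) [Group G]

/-- The upper Fitting series, with normality proofs. -/
noncomputable def fitSer : ℕ → {N : Subgroup G // N.Normal}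
  | 0 => ⟨⊥, inferInstance⟩
  | (i + 1) => ⟨@fitAbove G _ (fitSer i).1 (fitSer i).2, @fitAbove_normal G _ (fitSer i).1 (fitSer i).2⟩

instance fitSer_normal (i : ℕ) : ((fitSer G i).1).Normal := (fitSer G i).2

theorem fitSer_zero : (fitSer G 0).1 = ⊥ := rfl

theorem fitSer_succ (i : ℕ) : (fitSer G (i + 1)).1 = fitAbove (fitSer G i).1 := rfl

theorem fitSer_mono : Monotone (fun i => (fitSer G i).1) :=
  monotone_nat_of_le_succ (fun i => le_fitAbove (fitSer G i).1)

variable [Finite G] [Group.IsSolvable G]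

theorem fitSer_card (i : ℕ) : (fitSer G i).1 = ⊤ ∨ i + 1 ≤ Nat.card (fitSer G i).1 := by
  induction i with
  | zero =>
    right
    rw [fitSer_zero]
    simp
  | succ i ih =>
    by_cases htop : (fitSer G i).1 = ⊤
    · left
      have := fitSer_mono G (Nat.le_succ i)
      simp only at this
      rw [htop] at this
      exact top_le_iff.mp this
    · right
      have h1 : i + 1 ≤ Nat.card (fitSer G i).1 := ih.resolve_left htop
      have hle : (fitSer G i).1 ≤ (fitSer G (i + 1)).1 := le_fitAbove _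
      have hne : (fitSer G i).1 ≠ (fitSer G (i + 1)).1 := by
        rw [fitSer_succ]
        exact (fitAbove_ne _ htop).symm
      have hlt : Nat.card (fitSer G i).1 < Nat.card (fitSer G (i + 1)).1 := by
        by_contra hnot
        push Not at hnot
        exact hne (Subgroup.eq_of_le_of_card_ge hle hnot)
      omega

theorem exists_fitSer_eq_top : ∃ m : ℕ, (fitSer G m).1 = ⊤ := by
  refine ⟨Nat.card G, ?_⟩
  rcases fitSer_card G (Nat.card G) with h | h
  · exact h
  · exfalso
    have := Subgroup.card_le_card_group (fitSer G (Nat.card G)).1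
    omega

/-- **Garrison**: the Fitting length is at most the number of character degrees. -/
theorem fitSer_eq_top_of_card_degrees (n : ℕ)
    (hcd : Nat.card {d : ℕ // ∃ χ : IrrCharacter G, charDegree (χ : G → ℂ) = d} = n) :
    (fitSer G n).1 = ⊤ := by
  classical
  set m := Nat.find (exists_fitSer_eq_top G) with hm
  have hmtop : (fitSer G m).1 = ⊤ := Nat.find_spec (exists_fitSer_eq_top G)
  have hmmin : ∀ i < m, (fitSer G i).1 ≠ ⊤ := fun i hi => Nat.find_min (exists_fitSer_eq_top G) hi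
  suffices hmn : m ≤ n by
    have := fitSer_mono G hmn
    simp only at this
    rw [hmtop] at this
    exact top_le_iff.mp this
  rcases Nat.eq_zero_or_pos m with h0 | hpos
  · omega
  -- the inductive claim
  have key : ∀ t : ℕ, t ≤ m - 1 → ∃ χ : IrrCharacter G,
      (∀ g ∈ (fitSer G (m - 1 - t)).1, (χ : G → ℂ) g = (χ : G → ℂ) 1) ∧
      ∃ S : Finset ℕ, S.card = t + 1 ∧ ∀ d ∈ S,
        (∃ ψ : IrrCharacter G, charDegree (ψ : G → ℂ) = d) ∧ d ≤ charDegree (χ : G → ℂ) := by
    intro t
    induction t with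
    | zero =>
      intro _
      refine ⟨⟨1, isIrrCharacter_one⟩, fun g _ => rfl, {1}, by simp, ?_⟩
      intro d hd
      rw [Finset.mem_singleton] at hd
      subst hd
      have h1 : charDegree (1 : G → ℂ) = 1 := charDegree_eq_of_apply_one (by simp)
      exact ⟨⟨⟨1, isIrrCharacter_one⟩, h1⟩, h1.symm.le⟩
    | succ t ih =>
      intro ht
      obtain ⟨χ, hχ, S, hS, hSd⟩ := ih (by omega)
      have hidx : m - 1 - t = (m - 1 - (t + 1)) + 1 := by omega
      rw [hidx, fitSer_succ] at hχ
      have hne : fitAbove (fitSer G (m - 1 - (t + 1))).1 ≠ ⊤ := by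
        rw [← fitSer_succ, ← hidx]
        exact hmmin _ (by omega)
      obtain ⟨ψ, hψ, hdeg⟩ := exists_bigger_degree (fitSer G (m - 1 - (t + 1))).1 hne χ hχ
      refine ⟨ψ, hψ, insert (charDegree (ψ : G → ℂ)) S, ?_, ?_⟩
      · rw [Finset.card_insert_of_notMem, hS]
        intro hmem
        have := (hSd _ hmem).2
        omega
      · intro d hd
        rcases Finset.mem_insert.mp hd with rfl | hd'
        · exact ⟨⟨ψ, rfl⟩, le_rfl⟩
        · exact ⟨(hSd d hd').1, le_trans (hSd d hd').2 hdeg.le⟩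
  obtain ⟨χ, -, S, hS, hSd⟩ := key (m - 1) le_rfl
  haveI : Finite (IrrCharacter G) := instFiniteIrr
  haveI : Finite {d : ℕ // ∃ χ : IrrCharacter G, charDegree (χ : G → ℂ) = d} :=
    Finite.of_surjective
      (fun χ : IrrCharacter G =>
        (⟨charDegree (χ : G → ℂ), χ, rfl⟩ : {d : ℕ // ∃ χ : IrrCharacter G, charDegree (χ : G → ℂ) = d}))
      (by rintro ⟨d, χ, rfl⟩; exact ⟨χ, rfl⟩)
  have hinj : Function.Injective
      (fun d : S => (⟨d.1, (hSd d.1 d.2).1⟩ :
        {d : ℕ // ∃ χ : IrrCharacter G, charDegree (χ : G → ℂ) = d})) := by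
    intro a b hab
    apply Subtype.ext
    have h1 := congrArg (fun x : {d : ℕ // ∃ χ : IrrCharacter G, charDegree (χ : G → ℂ) = d} =>
      (x : ℕ)) hab
    exact h1
  have hle := Nat.card_le_card_of_injective _ hinj
  rw [hcd, Nat.card_eq_fintype_card, Fintype.card_coe, hS] at hle
  omega

end series

end Cfsg.Agent.Lib.H24
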