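import Cfsg.Prelude.Def_FusionComponents

/-!
S5159 (solvable fusion systems, normal subsystem and factor system): the two definitions shared by
the pieces.  `autImage α U = α(U ∩ T)` for an automorphism `α` of `T`, written exactly as in
`Cfsg.FusionSystem.IsInvariantIn`, and `autCore F U`, the intersection of the `α(U)` over
`α ∈ Aut_F(T)`.
-/

set_option autoImplicit false

namespace Cfsg.Agent.Lib.H24.F59

open Cfsg Cfsg.FusionSystem

variable {Ω : Type*} [Group Ω] {S : Subgroup Ω}

/-- The image `α(U ∩ T)` of a subgroup `U` under an automorphism `α` of `T`, as a subgroup of the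
ambient group (the same expression as in `Cfsg.FusionSystem.IsInvariantIn`). -/
def autImage {T : Subgroup Ω} (α : MulAut T) (U : Subgroup Ω) : Subgroup Ω :=
  (U.subgroupOf T).map (T.subtype.comp α.toMonoidHom)

/-- `⋂_{α ∈ Aut_F(T)} α(U)`. -/
def autCore {T : Subgroup Ω} (F : FusionSystem S) (U : Subgroup Ω) : Subgroup Ω :=
  ⨅ α : F.autGroup T, autImage (α : MulAut T) U

end Cfsg.Agent.Lib.H24.F59
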