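import Mathlib
import Cfsg.Agent.Lib.H11.OmTs3
import Cfsg.Agent.Lib.H10.SfD
import Cfsg.Agent.Lib.H10.SfC
import Cfsg.Agent.Lib.H13.Witt

/-!
# Subfield subgroups of `Ω(Q)` (part A): rational vectors and the form over the subfield

`Q` is a quadratic form on `F^n` taking values in the subfield `F₀` on the vectors with entries in
`F₀` ("rational" vectors).  We construct the restricted form `Q0` over `F₀` and transfer existence
results (hyperbolic pairs orthogonal to finitely many vectors, singular vectors with prescribed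
pairings) to rational vectors.
-/

set_option autoImplicit false
set_option linter.unusedSimpArgs false
set_option linter.unusedSectionVars false
set_option linter.unusedVariables false

namespace Cfsg.Agent.Lib.H24.OSf

open Matrix Module
open Cfsg.Agent.Lib.H10.Sf
open Cfsg.Agent.Lib.H28 Cfsg.Agent.Lib.H11.SubspMax
open Cfsg.Agent.Lib.H11.CD Cfsg.Agent.Lib.H11.SiegelGen Cfsg.Agent.Lib.H11.OrMax
open Cfsg.Agent.Lib.H11.OmTs

variable {F : Type*} [Field F] {n : ℕ} (Q : QuadraticForm F (Fin n → F)) (F₀ : Subfield F)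

set_option quotPrecheck false in
local notation "P" => QuadraticMap.polar (⇑Q)

/-- the quadratic form takes values in `F₀` on rational vectors -/
def RatForm : Prop := ∀ v : Fin n → F, IsRat F₀ v → Q v ∈ F₀

variable {Q F₀}

theorem RatForm.polar (h : RatForm Q F₀) {a b : Fin n → F} (ha : IsRat F₀ a) (hb : IsRat F₀ b) :
    P a b ∈ F₀ := by
  unfold QuadraticMap.polar
  exact F₀.sub_mem (F₀.sub_mem (h _ (ha.add hb)) (h _ ha)) (h _ hb)

theorem co_add (v w : Fin n → F₀) : co (v + w) = co v + co w := by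
  ext i; simp [co]

theorem co_smul (c : F₀) (v : Fin n → F₀) : co (c • v) = (c : F) • co v := by
  ext i; simp [co]

theorem co_zero : co (0 : Fin n → F₀) = (0 : Fin n → F) := by
  ext i; simp [co]

theorem co_injective : Function.Injective (co : (Fin n → F₀) → Fin n → F) := by
  intro v w h
  ext i
  have := congrFun h i
  exact this

theorem co_sub (v w : Fin n → F₀) : co (v - w) = co v - co w := by
  ext i; simp [co]

theorem co_neg (v : Fin n → F₀) : co (-v) = -co v := by
  ext i; simp [co]

/-- the underlying function of the restricted form -/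
def q0 (h : RatForm Q F₀) (v : Fin n → F₀) : F₀ := ⟨Q (co v), h _ (co_rat v)⟩

theorem coe_q0 (h : RatForm Q F₀) (v : Fin n → F₀) : ((q0 h v : F₀) : F) = Q (co v) := rfl

theorem coe_polar_q0 (h : RatForm Q F₀) (v w : Fin n → F₀) :
    ((QuadraticMap.polar (q0 h) v w : F₀) : F) = P (co v) (co w) := by
  unfold QuadraticMap.polar
  push_cast
  rw [coe_q0, coe_q0, coe_q0, co_add]

/-- the restricted quadratic form over `F₀` -/
noncomputable def Q0 (h : RatForm Q F₀) : QuadraticForm F₀ (Fin n → F₀) :=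
  QuadraticMap.ofPolar (q0 h)
    (by
      intro a x
      apply Subtype.ext
      rw [smul_eq_mul]
      push_cast
      rw [coe_q0, coe_q0, co_smul, QuadraticMap.map_smul, smul_eq_mul])
    (by
      intro x x' y
      apply Subtype.ext
      push_cast
      rw [coe_polar_q0, coe_polar_q0, coe_polar_q0, co_add, QuadraticMap.polar_add_left])
    (by
      intro a x y
      apply Subtype.ext
      rw [smul_eq_mul]
      push_cast
      rw [coe_polar_q0, coe_polar_q0, co_smul, QuadraticMap.polar_smul_left, smul_eq_mul])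

theorem coe_Q0 (h : RatForm Q F₀) (v : Fin n → F₀) : ((Q0 h v : F₀) : F) = Q (co v) := rfl

theorem coe_polar_Q0 (h : RatForm Q F₀) (v w : Fin n → F₀) :
    ((QuadraticMap.polar (⇑(Q0 h)) v w : F₀) : F) = P (co v) (co w) :=
  coe_polar_q0 h v w

/-- a vector orthogonal to all standard basis vectors is zero -/
theorem eq_zero_of_polar_ee (hQ : (QuadraticMap.polarBilin Q).Nondegenerate) (v : Fin n → F)
    (hv : ∀ i, P v (ee i) = 0) : v = 0 := by
  apply hQ.1 v
  intro w
  show P v w = 0
  have hw : w = ∑ i, w i • (ee i : Fin n → F) := by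
    ext j
    simp [ee, Finset.sum_apply, Pi.single_apply]
  rw [hw]
  have : ∀ (s : Finset (Fin n)), P v (∑ i ∈ s, w i • (ee i : Fin n → F)) = 0 := by
    intro s
    induction s using Finset.induction_on with
    | empty => simp
    | insert a s ha ih =>
      rw [Finset.sum_insert ha, QuadraticMap.polar_add_right, QuadraticMap.polar_smul_right, hv, ih]
      simp
  exact this _

theorem Q0_nondegenerate (h : RatForm Q F₀) (hQ : (QuadraticMap.polarBilin Q).Nondegenerate) :
    (QuadraticMap.polarBilin (Q0 h)).Nondegenerate := by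
  have key : ∀ v : Fin n → F₀, (∀ w, QuadraticMap.polar (⇑(Q0 h)) v w = 0) → v = 0 := by
    intro v hv
    apply co_injective
    rw [co_zero]
    apply eq_zero_of_polar_ee hQ
    intro i
    have := hv (ee i)
    have h2 := coe_polar_Q0 h v (ee i)
    rw [this, co_ee] at h2
    rw [← h2]; rfl
  refine ⟨fun v hv => key v hv, fun v hv => key v (fun w => ?_)⟩
  have := hv w
  rw [QuadraticMap.polarBilin_apply_apply] at this
  rw [QuadraticMap.polar_comm]; exact this

/-- a singular vector with prescribed pairings against an independent family -/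
theorem exists_sing_pairing [Fintype F] (hQ : (QuadraticMap.polarBilin Q).Nondegenerate) {k : ℕ}
    (x : Fin k → Fin n → F) (hx : LinearIndependent F x) (t : Fin k → F)
    (hk : 2 * (k + 1) + 3 ≤ n) : ∃ v, Q v = 0 ∧ ∀ j, P v (x j) = t j := by
  have hinj : Function.Injective (Fintype.linearCombination F x) :=
    linearIndependent_iff_injective_fintypeLinearCombination.1 hx
  obtain ⟨g, hg⟩ := (Fintype.linearCombination F x).exists_leftInverse_of_injective
    (LinearMap.ker_eq_bot.2 hinj)
  obtain ⟨p₀, hp₀⟩ := exists_fr Q hQ ((Fintype.linearCombination F t) ∘ₗ g)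
  have hp : ∀ j, P p₀ (x j) = t j := by
    intro j
    have h1 : x j = Fintype.linearCombination F x (Pi.single j 1) := by
      rw [Fintype.linearCombination_apply_single, one_smul]
    have h2 : g (x j) = Pi.single j 1 := by
      rw [h1]
      exact LinearMap.congr_fun hg (Pi.single j 1)
    rw [← fr_apply, ← hp₀, LinearMap.comp_apply, h2, Fintype.linearCombination_apply_single,
      one_smul]
  obtain ⟨e, f, hQe, hQf, hef, hve, hvf⟩ := exists_hyp_perp Q hQ
    (Fin.cons p₀ x : Fin (k + 1) → Fin n → F) hk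
  have hpe : P p₀ e = 0 := by simpa using hve 0
  have hpf : P p₀ f = 0 := by simpa using hvf 0
  have hxe : ∀ j, P (x j) e = 0 := fun j => by simpa using hve (Fin.succ j)
  have hxf : ∀ j, P (x j) f = 0 := fun j => by simpa using hvf (Fin.succ j)
  refine ⟨p₀ + e - Q p₀ • f, ?_, fun j => ?_⟩
  · rw [Q_sub', Q_add, QuadraticMap.map_smul, hQe, hQf, QuadraticMap.polar_smul_right,
      QuadraticMap.polar_add_left, hpe, hpf, hef]
    simp
  · rw [QuadraticMap.polar_sub_left, QuadraticMap.polar_add_left, QuadraticMap.polar_smul_left,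
      hp j, P_comm Q e, hxe j, P_comm Q f, hxf j]
    simp

/-- the coercion as an `F₀`-linear map -/
def coL : (Fin n → F₀) →ₗ[F₀] (Fin n → F) where
  toFun := co
  map_add' := co_add
  map_smul' := by
    intro c v
    rw [co_smul]
    rfl

theorem coL_apply (v : Fin n → F₀) : coL v = co v := rfl

theorem li_lift {k : ℕ} (x : Fin k → Fin n → F) (hx : ∀ i, IsRat F₀ (x i))
    (hli : LinearIndependent F x) : LinearIndependent F₀ (fun i => lift (x i) (hx i)) := by
  rw [Fintype.linearIndependent_iff]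
  intro g hg
  have h1 := congrArg (coL (F₀ := F₀) (n := n)) hg
  rw [map_sum, map_zero] at h1
  have h2 : ∑ i, ((g i : F₀) : F) • x i = 0 := by
    rw [← h1]
    apply Finset.sum_congr rfl
    intro i _
    rw [map_smul, coL_apply, co_lift]
    rfl
  have h3 := Fintype.linearIndependent_iff.1 hli (fun i => ((g i : F₀) : F)) h2
  intro i
  have := h3 i
  exact_mod_cast this

section exist

variable [Fintype F] (h : RatForm Q F₀) (hQ : (QuadraticMap.polarBilin Q).Nondegenerate)
include h hQ

/-- a rational hyperbolic pair orthogonal to finitely many rational vectors -/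
theorem exists_rat_hyp_perp {k : ℕ} (vs : Fin k → Fin n → F) (hvs : ∀ i, IsRat F₀ (vs i))
    (hk : 2 * k + 3 ≤ n) :
    ∃ e f, IsRat F₀ e ∧ IsRat F₀ f ∧ Q e = 0 ∧ Q f = 0 ∧ P e f = 1 ∧
      (∀ i, P (vs i) e = 0) ∧ ∀ i, P (vs i) f = 0 := by
  haveI : Fintype ↥F₀ := Fintype.ofFinite _
  obtain ⟨e, f, hQe, hQf, hef, hve, hvf⟩ :=
    exists_hyp_perp (Q0 h) (Q0_nondegenerate h hQ) (fun i => lift (vs i) (hvs i)) hk
  refine ⟨co e, co f, co_rat e, co_rat f, ?_, ?_, ?_, fun i => ?_, fun i => ?_⟩
  · rw [← coe_Q0 h, hQe]; rfl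
  · rw [← coe_Q0 h, hQf]; rfl
  · rw [← coe_polar_Q0 h, hef]; rfl
  · have := coe_polar_Q0 h (lift (vs i) (hvs i)) e
    rw [hve i, co_lift] at this
    rw [← this]; rfl
  · have := coe_polar_Q0 h (lift (vs i) (hvs i)) f
    rw [hvf i, co_lift] at this
    rw [← this]; rfl

/-- two orthogonal rational hyperbolic pairs orthogonal to finitely many rational vectors -/
theorem exists_rat_two_hyp_perp {k : ℕ} (vs : Fin k → Fin n → F) (hvs : ∀ i, IsRat F₀ (vs i))
    (hk : 2 * k + 7 ≤ n) :
    ∃ e f e' f', IsRat F₀ e ∧ IsRat F₀ f ∧ IsRat F₀ e' ∧ IsRat F₀ f' ∧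
      Q e = 0 ∧ Q f = 0 ∧ P e f = 1 ∧ Q e' = 0 ∧ Q f' = 0 ∧ P e' f' = 1 ∧
      P e e' = 0 ∧ P e f' = 0 ∧ P f e' = 0 ∧ P f f' = 0 ∧
      (∀ i, P (vs i) e = 0) ∧ (∀ i, P (vs i) f = 0) ∧
      (∀ i, P (vs i) e' = 0) ∧ ∀ i, P (vs i) f' = 0 := by
  obtain ⟨e, f, he, hf, hQe, hQf, hef, hve, hvf⟩ :=
    exists_rat_hyp_perp h hQ vs hvs (by omega)
  obtain ⟨e', f', he', hf', hQe', hQf', hef', hve', hvf'⟩ := exists_rat_hyp_perp h hQ
    (Fin.cons e (Fin.cons f vs) : Fin (k + 2) → Fin n → F)
    (by
      intro i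
      refine Fin.cases ?_ (fun j => ?_) i
      · simpa using he
      · refine Fin.cases ?_ (fun l => ?_) j
        · simpa using hf
        · simpa using hvs l)
    (by omega)
  have a1 := hve' 0
  have a2 := hve' 1
  have b1 := hvf' 0
  have b2 := hvf' 1
  simp only [Fin.cons_zero] at a1 b1
  have a2' : P f e' = 0 := by simpa using a2
  have b2' : P f f' = 0 := by simpa using b2
  refine ⟨e, f, e', f', he, hf, he', hf', hQe, hQf, hef, hQe', hQf', hef', a1, b1, a2', b2',
    hve, hvf, fun i => ?_, fun i => ?_⟩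
  · have := hve' (Fin.succ (Fin.succ i))
    simpa using this
  · have := hvf' (Fin.succ (Fin.succ i))
    simpa using this

/-- a rational hyperbolic partner of a rational singular vector -/
theorem exists_rat_partner (u : Fin n → F) (hu : IsRat F₀ u) (hu0 : u ≠ 0) (hQu : Q u = 0) :
    ∃ f, IsRat F₀ f ∧ Q f = 0 ∧ P u f = 1 := by
  have hl0 : lift u hu ≠ 0 := lift_ne_zero hu hu0
  have hQl : Q0 h (lift u hu) = 0 := by
    apply Subtype.ext
    rw [coe_Q0, co_lift, hQu]; rfl
  obtain ⟨w, hQw, huw⟩ := Cfsg.Agent.Lib.H13.exists_hyperbolic_pair (Q0 h) (Q0_nondegenerate h hQ)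
    (lift u hu) hl0 hQl
  refine ⟨co w, co_rat w, ?_, ?_⟩
  · rw [← coe_Q0 h, hQw]; rfl
  · have := coe_polar_Q0 h (lift u hu) w
    rw [huw, co_lift] at this
    rw [← this]; rfl

/-- a rational singular vector with prescribed rational pairings against an independent
rational family -/
theorem exists_rat_sing_pairing {k : ℕ} (x : Fin k → Fin n → F) (hx : ∀ i, IsRat F₀ (x i))
    (hli : LinearIndependent F x) (t : Fin k → F) (ht : ∀ j, t j ∈ F₀)
    (hk : 2 * (k + 1) + 3 ≤ n) :
    ∃ v, IsRat F₀ v ∧ Q v = 0 ∧ ∀ j, P v (x j) = t j := by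
  haveI : Fintype ↥F₀ := Fintype.ofFinite _
  obtain ⟨v, hQv, hv⟩ := exists_sing_pairing (Q := Q0 h) (Q0_nondegenerate h hQ)
    (fun i => lift (x i) (hx i)) (li_lift x hx hli) (fun j => ⟨t j, ht j⟩) hk
  refine ⟨co v, co_rat v, ?_, fun j => ?_⟩
  · rw [← coe_Q0 h, hQv]; rfl
  · have := coe_polar_Q0 h v (lift (x j) (hx j))
    rw [hv j, co_lift] at this
    rw [← this]

end exist

end Cfsg.Agent.Lib.H24.OSf
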