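import Mathlib
import Cfsg.Agent.Lib.H24.OSfA

/-!
# Subfield subgroups of `Ω(Q)` (part B): rational Siegel elements, position independence
-/

set_option autoImplicit false
set_option linter.unusedSimpArgs false
set_option linter.unusedSectionVars false
set_option linter.unusedVariables false

namespace Cfsg.Agent.Lib.H24.OSf

open Matrix Module
open Cfsg.Agent.Lib.H10.Sf
open Cfsg.Agent.Lib.H28 Cfsg.Agent.Lib.H11.SubspMax
open Cfsg.Agent.Lib.H11.CD Cfsg.Agent.Lib.H11.SiegelGen Cfsg.Agent.Lib.H11.OrMax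
open Cfsg.Agent.Lib.H11.OmTs

variable {F : Type*} [Field F] {n : ℕ} (Q : QuadraticForm F (Fin n → F)) (F₀ : Subfield F)

set_option quotPrecheck false in
local notation "P" => QuadraticMap.polar (⇑Q)

/-- the subfield subgroup of `Ω(Q)` -/
def KKO : Subgroup (GL (Fin n) F) :=
  Cfsg.Geo.subfieldSubgroup F₀ (1 : GL (Fin n) F) ⊓ Cfsg.Geo.omegaGL (⇑Q)

/-- the Siegel transformation `sg u y` lies in `H` -/
def InH (H : Subgroup (GL (Fin n) F)) (u y : Fin n → F) : Prop :=
  ((sg Q u y : ↥(Cfsg.isometryGroup F ⇑Q)) : GL (Fin n) F) ∈ H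

/-- rational totally singular pairs -/
def TSP (a b : Fin n → F) : Prop :=
  IsRat F₀ a ∧ IsRat F₀ b ∧ Q a = 0 ∧ Q b = 0 ∧ P a b = 0 ∧ LinearIndependent F ![a, b]

variable {Q F₀}

theorem act_smul (g : ↥(Cfsg.isometryGroup F ⇑Q)) (c : F) (x : Fin n → F) :
    act Q g (c • x) = c • act Q g x := Matrix.mulVec_smul _ _ _

theorem act_sub (g : ↥(Cfsg.isometryGroup F ⇑Q)) (x y : Fin n → F) :
    act Q g (x - y) = act Q g x - act Q g y := Matrix.mulVec_sub _ _ _

theorem act_neg (g : ↥(Cfsg.isometryGroup F ⇑Q)) (x : Fin n → F) :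
    act Q g (-x) = -act Q g x := Matrix.mulVec_neg _ _

theorem act_zero (g : ↥(Cfsg.isometryGroup F ⇑Q)) : act Q g 0 = 0 := Matrix.mulVec_zero _

/-- a matrix preserving rational vectors lies in the subfield subgroup -/
theorem mem_subfield_of_rat (g : GL (Fin n) F)
    (h : ∀ v, IsRat F₀ v → IsRat F₀ ((g : Matrix (Fin n) (Fin n) F) *ᵥ v)) :
    g ∈ Cfsg.Geo.subfieldSubgroup F₀ (1 : GL (Fin n) F) := by
  rw [Cfsg.Agent.Lib.H11.Subf.mem_subfield_one_iff]
  refine ⟨1, one_ne_zero, fun i j => ?_⟩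
  rw [one_mul]
  have := h (ee j) (ee_rat j) i
  unfold ee at this
  rw [Matrix.mulVec_single_one, Matrix.col_apply] at this
  exact this

theorem sg_act_rat (hr : RatForm Q F₀) {u y v : Fin n → F} (hu : IsRat F₀ u) (hy : IsRat F₀ y)
    (hv : IsRat F₀ v) (hQu : Q u = 0) (huy : P u y = 0) : IsRat F₀ (act Q (sg Q u y) v) := by
  rw [sg_act Q u y hQu huy]
  exact ((hv.add (hy.smul (hr.polar hu hv))).sub (hu.smul (hr.polar hy hv))).sub
    (hu.smul (F₀.mul_mem (hr _ hy) (hr.polar hu hv)))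

/-- rational Siegel transformations lie in the subfield subgroup of `Ω` -/
theorem sg_rat_mem [Fintype F] (hr : RatForm Q F₀) (hQ : (QuadraticMap.polarBilin Q).Nondegenerate)
    (hn : 7 ≤ n) {u y : Fin n → F} (hu : IsRat F₀ u) (hy : IsRat F₀ y) (hQu : Q u = 0)
    (huy : P u y = 0) :
    ((sg Q u y : ↥(Cfsg.isometryGroup F ⇑Q)) : GL (Fin n) F) ∈ KKO Q F₀ := by
  refine ⟨?_, coe_mem_omegaGL Q _ (sg_mem_comm Q hQ hn u y hQu huy)⟩
  apply mem_subfield_of_rat
  intro v hv
  rw [act_def]
  exact sg_act_rat hr hu hy hv hQu huy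

variable {H : Subgroup (GL (Fin n) F)}

theorem inH_rat [Fintype F] (hr : RatForm Q F₀) (hQ : (QuadraticMap.polarBilin Q).Nondegenerate)
    (hn : 7 ≤ n) (hKH : KKO Q F₀ ≤ H) {u y : Fin n → F} (hu : IsRat F₀ u) (hy : IsRat F₀ y)
    (hQu : Q u = 0) (huy : P u y = 0) : InH Q H u y :=
  hKH (sg_rat_mem hr hQ hn hu hy hQu huy)

theorem inH_add {u y y' : Fin n → F} (hQu : Q u = 0) (huy : P u y = 0) (huy' : P u y' = 0)
    (h : InH Q H u y) (h' : InH Q H u y') : InH Q H u (y + y') := by
  unfold InH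
  rw [← sg_mul Q u y y' hQu huy huy']
  exact H.mul_mem h h'

theorem sg_zero' (u : Fin n → F) : sg Q u 0 = 1 := by
  by_cases hu : Q u = 0
  · apply el_ext
    intro x
    rw [sg_act Q u 0 hu (by simp), act_one]
    simp
  · unfold sg
    rw [dif_neg (fun h => hu h.1)]

theorem sg_inv (u y : Fin n → F) (hQu : Q u = 0) (huy : P u y = 0) :
    (sg Q u y)⁻¹ = sg Q u (-y) := by
  rw [inv_eq_iff_mul_eq_one, sg_mul Q u y (-y) hQu huy (by simp [huy]), add_neg_cancel, sg_zero']

theorem inH_neg {u y : Fin n → F} (hQu : Q u = 0) (huy : P u y = 0) (h : InH Q H u y) :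
    InH Q H u (-y) := by
  unfold InH
  rw [← sg_inv u y hQu huy]
  exact H.inv_mem h

theorem inH_conj (g : ↥(Cfsg.isometryGroup F ⇑Q)) (hg : (g : GL (Fin n) F) ∈ H)
    {u y : Fin n → F} (hQu : Q u = 0) (huy : P u y = 0) (h : InH Q H u y) :
    InH Q H (act Q g u) (act Q g y) := by
  unfold InH
  rw [← sg_conj Q g u y hQu huy]
  have : ((g * sg Q u y * g⁻¹ : ↥(Cfsg.isometryGroup F ⇑Q)) : GL (Fin n) F) =
      (g : GL (Fin n) F) * (sg Q u y : ↥(Cfsg.isometryGroup F ⇑Q)) * (g : GL (Fin n) F)⁻¹ := by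
    simp
  rw [this]
  exact H.mul_mem (H.mul_mem hg h) (H.inv_mem hg)

/-- the long root element only depends on the bivector -/
theorem sg_swap {a b : Fin n → F} (hQa : Q a = 0) (hQb : Q b = 0) (hab : P a b = 0) (c : F) :
    sg Q a (c • b) = sg Q b ((-c) • a) := by
  have hba : P b a = 0 := by rw [P_comm]; exact hab
  apply el_ext
  intro x
  rw [sg_act Q a (c • b) hQa (by rw [QuadraticMap.polar_smul_right, hab, smul_zero]),
    sg_act Q b ((-c) • a) hQb (by rw [QuadraticMap.polar_smul_right, hba, smul_zero])]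
  simp only [QuadraticMap.map_smul, hQa, hQb, QuadraticMap.polar_smul_left, smul_eq_mul, mul_zero,
    zero_mul, zero_smul, sub_zero]
  module

theorem inH_swap {a b : Fin n → F} (hQa : Q a = 0) (hQb : Q b = 0) (hab : P a b = 0) {c : F}
    (h : InH Q H a (c • b)) : InH Q H b ((-c) • a) := by
  unfold InH
  rw [← sg_swap hQa hQb hab c]
  exact h

/-- linear independence of a pair from pairings -/
theorem li_pair {a b f : Fin n → F} (ha : a ≠ 0) (hbf : P b f ≠ 0) (haf : P a f = 0) :
    LinearIndependent F ![a, b] := by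
  rw [LinearIndependent.pair_iff]
  intro s t hst
  have h1 := congrArg (fun x => P x f) hst
  simp only [QuadraticMap.polar_add_left, QuadraticMap.polar_smul_left, haf, smul_eq_mul, mul_zero,
    zero_add, QuadraticMap.polar_zero_left] at h1
  have ht : t = 0 := (mul_eq_zero.1 h1).resolve_right hbf
  rw [ht, zero_smul, add_zero] at hst
  exact ⟨(smul_eq_zero.1 hst).resolve_right ha, ht⟩

/-- linear independence of a triple from pairings -/
theorem li_three {a b e f : Fin n → F} (hab : LinearIndependent F ![a, b]) (hef : P e f ≠ 0)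
    (haf : P a f = 0) (hbf : P b f = 0) : LinearIndependent F ![a, b, e] := by
  rw [Fintype.linearIndependent_iff]
  intro g hg
  rw [Fin.sum_univ_three] at hg
  simp only [Matrix.cons_val_zero, Matrix.cons_val_one, Matrix.cons_val_two, Matrix.head_cons,
    Matrix.tail_cons] at hg
  have h1 := congrArg (fun x => P x f) hg
  simp only [QuadraticMap.polar_add_left, QuadraticMap.polar_smul_left, haf, hbf, smul_eq_mul,
    mul_zero, zero_add, QuadraticMap.polar_zero_left] at h1
  have h2 : g 2 = 0 := (mul_eq_zero.1 h1).resolve_right hef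
  rw [h2, zero_smul, add_zero] at hg
  obtain ⟨h0, h1'⟩ := LinearIndependent.pair_iff.1 hab (g 0) (g 1) hg
  intro i
  fin_cases i
  · exact h0
  · exact h1'
  · exact h2

theorem li_three_mid {a b e f : Fin n → F} (hab : LinearIndependent F ![a, b]) (hef : P e f ≠ 0)
    (haf : P a f = 0) (hbf : P b f = 0) : LinearIndependent F ![a, e, b] := by
  rw [Fintype.linearIndependent_iff]
  intro g hg
  rw [Fin.sum_univ_three] at hg
  simp only [Matrix.cons_val_zero, Matrix.cons_val_one, Matrix.cons_val_two, Matrix.head_cons,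
    Matrix.tail_cons] at hg
  have h1 := congrArg (fun x => P x f) hg
  simp only [QuadraticMap.polar_add_left, QuadraticMap.polar_smul_left, haf, hbf, smul_eq_mul,
    mul_zero, zero_add, add_zero, QuadraticMap.polar_zero_left] at h1
  have h2 : g 1 = 0 := (mul_eq_zero.1 h1).resolve_right hef
  rw [h2, zero_smul, add_zero] at hg
  obtain ⟨h0, h1'⟩ := LinearIndependent.pair_iff.1 hab (g 0) (g 2) hg
  intro i
  fin_cases i
  · exact h0
  · exact h2
  · exact h1'

theorem TSP.ne_zero_left {a b : Fin n → F} (h : TSP Q F₀ a b) : a ≠ 0 := by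
  have := h.2.2.2.2.2.ne_zero 0
  simpa using this

theorem TSP.ne_zero_right {a b : Fin n → F} (h : TSP Q F₀ a b) : b ≠ 0 := by
  have := h.2.2.2.2.2.ne_zero 1
  simpa using this

theorem TSP.symm {a b : Fin n → F} (h : TSP Q F₀ a b) : TSP Q F₀ b a := by
  obtain ⟨ha, hb, hQa, hQb, hab, hli⟩ := h
  refine ⟨hb, ha, hQb, hQa, by rw [P_comm]; exact hab, ?_⟩
  rw [LinearIndependent.pair_iff] at hli ⊢
  intro s t hst
  have := hli t s (by rw [add_comm]; exact hst)
  exact ⟨this.2, this.1⟩

section move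

variable [Fintype F] (hr : RatForm Q F₀) (hQ : (QuadraticMap.polarBilin Q).Nondegenerate)
  (hn : 11 ≤ n) (hKH : KKO Q F₀ ≤ H)
include hr hQ hn hKH

/-- changing the second vector, independent case -/
theorem inH_move {a b b' : Fin n → F} {c : F} (ha : IsRat F₀ a) (hb : IsRat F₀ b)
    (hb' : IsRat F₀ b') (hQa : Q a = 0) (hQb : Q b = 0) (hQb' : Q b' = 0) (hab : P a b = 0)
    (hab' : P a b' = 0) (hli : LinearIndependent F ![a, b, b']) (hc : InH Q H a (c • b)) :
    InH Q H a (c • b') := by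
  obtain ⟨u, hu, hQu, hup⟩ := exists_rat_sing_pairing hr hQ ![a, b, b']
    (by
      intro i
      fin_cases i
      · exact ha
      · exact hb
      · exact hb')
    hli ![0, 1, 1]
    (by
      intro j
      fin_cases j
      · exact F₀.zero_mem
      · exact F₀.one_mem
      · exact F₀.one_mem)
    (by omega)
  have hua : P u a = 0 := hup 0
  have hub : P u b = 1 := hup 1
  have hub' : P u b' = 1 := hup 2
  have huw : P u (b' - b) = 0 := by
    rw [QuadraticMap.polar_sub_right, hub, hub', sub_self]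
  have hgH : ((sg Q u (b' - b) : ↥(Cfsg.isometryGroup F ⇑Q)) : GL (Fin n) F) ∈ H :=
    inH_rat hr hQ (by omega) hKH hu (hb'.sub hb) hQu huw
  have hga : act Q (sg Q u (b' - b)) a = a := by
    rw [sg_act Q u (b' - b) hQu huw, hua, QuadraticMap.polar_sub_left, P_comm Q b' a, hab',
      P_comm Q b a, hab]
    simp
  have hgb : act Q (sg Q u (b' - b)) b = b' := by
    rw [sg_act Q u (b' - b) hQu huw, hub, QuadraticMap.polar_sub_left, P_self, hQb, Q_sub', hQb,
      hQb']
    simp only [mul_zero, sub_zero, zero_add, one_smul, mul_one, neg_smul]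
    module
  have h1 := inH_conj (sg Q u (b' - b)) hgH hQa
    (by rw [QuadraticMap.polar_smul_right, hab, smul_zero]) hc
  rw [hga, act_smul, hgb] at h1
  exact h1

/-- changing the second vector -/
theorem inH_move' {a b b' : Fin n → F} {c : F} (h1 : TSP Q F₀ a b) (h2 : TSP Q F₀ a b')
    (hc : InH Q H a (c • b)) : InH Q H a (c • b') := by
  obtain ⟨ha, hb, hQa, hQb, hab, hli⟩ := h1
  obtain ⟨-, hb', -, hQb', hab', hli'⟩ := h2
  obtain ⟨e, f, he, hf, hQe, hQf, hef, hve, hvf⟩ := exists_rat_hyp_perp hr hQ ![a, b, b']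
    (by
      intro i
      fin_cases i
      · exact ha
      · exact hb
      · exact hb')
    (by omega)
  have hae : P a e = 0 := hve 0
  have hbe : P b e = 0 := hve 1
  have hb'e : P b' e = 0 := hve 2
  have haf : P a f = 0 := hvf 0
  have hbf : P b f = 0 := hvf 1
  have hb'f : P b' f = 0 := hvf 2
  have hef' : P e f ≠ 0 := by rw [hef]; exact one_ne_zero
  have s1 : InH Q H a (c • e) :=
    inH_move hr hQ hn hKH ha hb he hQa hQb hQe hab hae (li_three hli hef' haf hbf) hc
  exact inH_move hr hQ hn hKH ha he hb' hQa hQe hQb' hae hab' (li_three_mid hli' hef' haf hb'f) s1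

/-- **position independence** -/
theorem inH_trans {a b a' b' : Fin n → F} {c : F} (h1 : TSP Q F₀ a b) (h2 : TSP Q F₀ a' b')
    (hc : InH Q H a (c • b)) : InH Q H a' (c • b') := by
  obtain ⟨e, f, he, hf, hQe, hQf, hef, hve, hvf⟩ := exists_rat_hyp_perp hr hQ ![a, b, a', b']
    (by
      intro i
      fin_cases i
      · exact h1.1
      · exact h1.2.1
      · exact h2.1
      · exact h2.2.1)
    (by omega)
  have hae : P a e = 0 := hve 0
  have ha'e : P a' e = 0 := hve 2
  have haf : P a f = 0 := hvf 0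
  have ha'f : P a' f = 0 := hvf 2
  have hef' : P e f ≠ 0 := by rw [hef]; exact one_ne_zero
  have tae : TSP Q F₀ a e :=
    ⟨h1.1, he, h1.2.2.1, hQe, hae, li_pair h1.ne_zero_left hef' haf⟩
  have ta'e : TSP Q F₀ a' e :=
    ⟨h2.1, he, h2.2.2.1, hQe, ha'e, li_pair h2.ne_zero_left hef' ha'f⟩
  have s1 : InH Q H a (c • e) := inH_move' hr hQ hn hKH h1 tae hc
  have s2 : InH Q H e ((-c) • a) := inH_swap h1.2.2.1 hQe hae s1
  have s3 : InH Q H e ((-c) • a') := inH_move' hr hQ hn hKH tae.symm ta'e.symm s2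
  have s4 : InH Q H a' ((- -c) • e) := inH_swap hQe h2.2.2.1 (by rw [P_comm]; exact ha'e) s3
  rw [neg_neg] at s4
  exact inH_move' hr hQ hn hKH ta'e h2 s4

end move

end Cfsg.Agent.Lib.H24.OSf
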