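import Mathlib
import Cfsg.Agent.Lib.H24.OSfB

/-!
# Subfield subgroups of `Ω(Q)` (part C): the coefficient subalgebra, and the case `Λ = F`
-/

set_option autoImplicit false
set_option linter.unusedSimpArgs false
set_option linter.unusedSectionVars false
set_option linter.unusedVariables false

namespace Cfsg.Agent.Lib.H24.OSf

open Matrix Module
open Cfsg.Agent.Lib.H10.Sf
open Cfsg.Agent.Lib.H28 Cfsg.Agent.Lib.H11.SubspMax
open Cfsg.Agent.Lib.H11.CD Cfsg.Agent.Lib.H11.SiegelGen Cfsg.Agent.Lib.H11.OrMax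
open Cfsg.Agent.Lib.H11.OmTs

variable {F : Type*} [Field F] {n : ℕ} (Q : QuadraticForm F (Fin n → F)) (F₀ : Subfield F)

set_option quotPrecheck false in
local notation "P" => QuadraticMap.polar (⇑Q)

/-- the coefficients of long root elements of `H` at rational positions -/
def LamSet (H : Subgroup (GL (Fin n) F)) : Set F :=
  {c | ∀ a b, TSP Q F₀ a b → InH Q H a (c • b)}

variable {Q F₀} {H : Subgroup (GL (Fin n) F)}

/-- the commutator of two long root elements -/
theorem inH_comm {a b e f : Fin n → F} {c d : F} (hQa : Q a = 0) (hQb : Q b = 0) (hQe : Q e = 0)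
    (hQf : Q f = 0) (hab : P a b = 0) (hae : P a e = 0) (haf : P a f = 0) (hbe : P b e = 0)
    (hbf : P b f = 0) (hef : P e f = 1) (hc : InH Q H a (c • e)) (hd : InH Q H b (d • f)) :
    InH Q H a ((c * d) • b) := by
  have hae' : P a (c • e) = 0 := by rw [QuadraticMap.polar_smul_right, hae, smul_zero]
  have hbf' : P b (d • f) = 0 := by rw [QuadraticMap.polar_smul_right, hbf, smul_zero]
  have hba : P b a = 0 := by rw [P_comm]; exact hab
  have h1 := inH_conj (sg Q a (c • e)) hc hQb hbf' hd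
  have hgb : act Q (sg Q a (c • e)) b = b := by
    rw [sg_act Q a (c • e) hQa hae', hab, QuadraticMap.polar_smul_left, P_comm Q e b, hbe]
    simp
  have hgf : act Q (sg Q a (c • e)) f = f - c • a := by
    rw [sg_act Q a (c • e) hQa hae', haf, QuadraticMap.polar_smul_left, hef]
    simp
  rw [hgb, act_smul, hgf] at h1
  have h2 : P b (d • (f - c • a)) = 0 := by
    rw [QuadraticMap.polar_smul_right, QuadraticMap.polar_sub_right, hbf,
      QuadraticMap.polar_smul_right, hba]
    simp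
  have h3 := inH_add hQb h2 (by rw [QuadraticMap.polar_neg_right, hbf', neg_zero]) h1
    (inH_neg hQb hbf' hd)
  have e1 : d • (f - c • a) + -(d • f) = (-(c * d)) • a := by module
  rw [e1] at h3
  have h4 := inH_swap hQb hQa hba h3
  rw [neg_neg] at h4
  exact h4

section alg

variable [Fintype F] (hr : RatForm Q F₀) (hQ : (QuadraticMap.polarBilin Q).Nondegenerate)
  (hn : 11 ≤ n) (hKH : KKO Q F₀ ≤ H)
include hr hQ hn hKH

theorem mem_LamSet_of {a b : Fin n → F} {c : F} (h1 : TSP Q F₀ a b) (hc : InH Q H a (c • b)) :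
    c ∈ LamSet Q F₀ H := fun _ _ h2 => inH_trans hr hQ hn hKH h1 h2 hc

omit hKH in
/-- a rational configuration: a totally singular pair and a hyperbolic pair orthogonal to it -/
theorem exists_config : ∃ a b e f : Fin n → F, TSP Q F₀ a b ∧ TSP Q F₀ a e ∧ TSP Q F₀ b f ∧
    P a f = 0 ∧ P b e = 0 ∧ P e f = 1 := by
  obtain ⟨e₁, f₁, e₂, f₂, he₁, hf₁, he₂, hf₂, hQe₁, hQf₁, h11, hQe₂, hQf₂, h22, hee, hef, hfe, hff,
    -, -, -, -⟩ := exists_rat_two_hyp_perp hr hQ (Fin.elim0 : Fin 0 → Fin n → F)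
      (fun i => Fin.elim0 i) (by omega)
  obtain ⟨e, f, he, hf, hQe, hQf, hef', hve, hvf⟩ := exists_rat_hyp_perp hr hQ ![e₁, e₂, f₁, f₂]
    (by
      intro i
      fin_cases i
      · exact he₁
      · exact he₂
      · exact hf₁
      · exact hf₂)
    (by omega)
  have h1e : P e₁ e = 0 := hve 0
  have h2e : P e₂ e = 0 := hve 1
  have h1f : P e₁ f = 0 := hvf 0
  have h2f : P e₂ f = 0 := hvf 1
  have hf1e : P f₁ e = 0 := hve 2
  have hf2e : P f₂ e = 0 := hve 3
  have hf1f : P f₁ f = 0 := hvf 2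
  have hf2f : P f₂ f = 0 := hvf 3
  have h11' : P e₁ f₁ ≠ 0 := by rw [h11]; exact one_ne_zero
  have h22' : P e₂ f₂ ≠ 0 := by rw [h22]; exact one_ne_zero
  have hef'' : P e f ≠ 0 := by rw [hef']; exact one_ne_zero
  have hfe'' : P f e ≠ 0 := by rw [P_comm]; exact hef''
  have he₁0 : e₁ ≠ 0 := by
    rintro rfl
    apply h11'
    simp
  have he₂0 : e₂ ≠ 0 := by
    rintro rfl
    apply h22'
    simp
  refine ⟨e₁, e₂, e, f, ⟨he₁, he₂, hQe₁, hQe₂, hee, li_pair he₁0 h22' hef⟩,
    ⟨he₁, he, hQe₁, hQe, h1e, li_pair he₁0 hef'' h1f⟩,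
    ⟨he₂, hf, hQe₂, hQf, h2f, li_pair he₂0 hfe'' h2e⟩, h1f, h2e, hef'⟩

variable (H)

/-- the coefficient subalgebra -/
def LamAlg : Subalgebra F₀ F where
  carrier := LamSet Q F₀ H
  mul_mem' := by
    intro c d hc hd
    obtain ⟨a, b, e, f, tab, tae, tbf, haf, hbe, hef⟩ := exists_config hr hQ hn
    exact mem_LamSet_of hr hQ hn hKH tab
      (inH_comm tab.2.2.1 tab.2.2.2.1 tae.2.2.2.1 tbf.2.2.2.1 tab.2.2.2.2.1 tae.2.2.2.2.1 haf hbe
        tbf.2.2.2.2.1 hef (hc a e tae) (hd b f tbf))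
  add_mem' := by
    intro c d hc hd a b tab
    rw [add_smul]
    exact inH_add tab.2.2.1
      (by rw [QuadraticMap.polar_smul_right, tab.2.2.2.2.1, smul_zero])
      (by rw [QuadraticMap.polar_smul_right, tab.2.2.2.2.1, smul_zero]) (hc a b tab) (hd a b tab)
  algebraMap_mem' := by
    intro c a b tab
    exact inH_rat hr hQ (by omega) hKH tab.1 (tab.2.1.smul c.2) tab.2.2.1
      (by
        show P a (((c : F₀) : F) • b) = 0
        rw [QuadraticMap.polar_smul_right, tab.2.2.2.2.1, smul_zero])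

theorem mem_LamAlg (c : F) : c ∈ LamAlg H hr hQ hn hKH ↔ c ∈ LamSet Q F₀ H := Iff.rfl

/-- **the dichotomy** -/
theorem Lam_dichotomy {r : ℕ} (hrp : r.Prime) (hcard : Fintype.card F = Nat.card F₀ ^ r) :
    (∀ c, c ∈ LamSet Q F₀ H → c ∈ F₀) ∨ (∀ c, c ∈ LamSet Q F₀ H) := by
  have hp : (Module.finrank F₀ F).Prime := by rw [finrank_eq hcard]; exact hrp
  have := Subalgebra.isSimpleOrder_of_finrank_prime F₀ F hp
  rcases this.eq_bot_or_eq_top (LamAlg H hr hQ hn hKH) with h | h
  · left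
    intro c hc
    have : c ∈ LamAlg H hr hQ hn hKH := hc
    rw [h, Algebra.mem_bot] at this
    obtain ⟨x, rfl⟩ := this
    exact x.2
  · right
    intro c
    have : c ∈ LamAlg H hr hQ hn hKH := by rw [h]; exact Algebra.mem_top
    exact this

variable {H}

/-- if `Λ = F`, all multiples of rational vectors give Siegel elements of `H` -/
theorem inH_smul_rat (hall : ∀ c, c ∈ LamSet Q F₀ H) {u w : Fin n → F} (hu : IsRat F₀ u)
    (hw : IsRat F₀ w) (hu0 : u ≠ 0) (hQu : Q u = 0) (huw : P u w = 0) (c : F) :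
    InH Q H u (c • w) := by
  obtain ⟨e, f, he, hf, hQe, hQf, hef, hve, hvf⟩ := exists_rat_hyp_perp hr hQ ![u, w]
    (by
      intro i
      fin_cases i
      · exact hu
      · exact hw)
    (by omega)
  have hue : P u e = 0 := hve 0
  have hwe : P w e = 0 := hve 1
  have huf : P u f = 0 := hvf 0
  have hwf : P w f = 0 := hvf 1
  have hef' : P e f ≠ 0 := by rw [hef]; exact one_ne_zero
  have hfe' : P f e ≠ 0 := by rw [P_comm]; exact hef'
  obtain ⟨w₁, hw₁⟩ : ∃ w₁, w₁ = w + e - Q w • f := ⟨_, rfl⟩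
  have hw₁r : IsRat F₀ w₁ := by
    rw [hw₁]; exact (hw.add he).sub (hf.smul (hr _ hw))
  have hQw₁ : Q w₁ = 0 := by
    rw [hw₁, Q_sub', Q_add, QuadraticMap.map_smul, hQe, hQf, QuadraticMap.polar_smul_right,
      QuadraticMap.polar_add_left, hwe, hwf, hef]
    simp
  have huw₁ : P u w₁ = 0 := by
    rw [hw₁, QuadraticMap.polar_sub_right, QuadraticMap.polar_add_right,
      QuadraticMap.polar_smul_right, huw, hue, huf]
    simp
  have hw₁f : P w₁ f ≠ 0 := by
    rw [hw₁, QuadraticMap.polar_sub_left, QuadraticMap.polar_add_left,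
      QuadraticMap.polar_smul_left, hwf, hef, P_self, hQf]
    simp
  have t1 : TSP Q F₀ u w₁ := ⟨hu, hw₁r, hQu, hQw₁, huw₁, li_pair hu0 hw₁f huf⟩
  have t2 : TSP Q F₀ u e := ⟨hu, he, hQu, hQe, hue, li_pair hu0 hef' huf⟩
  have t3 : TSP Q F₀ u f := ⟨hu, hf, hQu, hQf, huf, li_pair hu0 hfe' hue⟩
  have e1 : c • w = c • w₁ + ((-c) • e + (c * Q w) • f) := by
    rw [hw₁]; module
  rw [e1]
  have p1 : P u (c • w₁) = 0 := by rw [QuadraticMap.polar_smul_right, huw₁, smul_zero]
  have p2 : P u ((-c) • e) = 0 := by rw [QuadraticMap.polar_smul_right, hue, smul_zero]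
  have p3 : P u ((c * Q w) • f) = 0 := by rw [QuadraticMap.polar_smul_right, huf, smul_zero]
  exact inH_add hQu p1 (by rw [QuadraticMap.polar_add_right, p2, p3, add_zero])
    (hall c u w₁ t1) (inH_add hQu p2 p3 (hall (-c) u e t2) (hall (c * Q w) u f t3))

/-- if `Λ = F`, rational singular vectors are centres -/
theorem rat_mem_Cen (hall : ∀ c, c ∈ LamSet Q F₀ H) {u : Fin n → F} (hu : IsRat F₀ u)
    (hu0 : u ≠ 0) (hQu : Q u = 0) : u ∈ Cen Q H := by
  refine ⟨hQu, fun y hy => ?_⟩
  obtain ⟨f, hf, hQf, huf⟩ := exists_rat_partner hr hQ u hu hu0 hQu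
  -- the rational projections of the standard basis vectors into `u^⊥`
  obtain ⟨w, hw⟩ : ∃ w : Fin n → Fin n → F, ∀ i, w i = ee i - P (ee i) u • f := ⟨_, fun _ => rfl⟩
  have hwr : ∀ i, IsRat F₀ (w i) := by
    intro i
    rw [hw]
    exact (ee_rat i).sub (hf.smul (hr.polar (ee_rat i) hu))
  have huw : ∀ i, P u (w i) = 0 := by
    intro i
    rw [hw, QuadraticMap.polar_sub_right, QuadraticMap.polar_smul_right, huf, P_comm Q u]
    simp
  have hy' : y = ∑ i, y i • w i := by
    have h1 : y = ∑ i, y i • (ee i : Fin n → F) := by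
      ext j
      simp [ee, Finset.sum_apply, Pi.single_apply]
    have h2 : ∑ i, y i • w i = (∑ i, y i • (ee i : Fin n → F)) - (∑ i, y i • P (ee i) u) • f := by
      rw [Finset.sum_smul, ← Finset.sum_sub_distrib]
      apply Finset.sum_congr rfl
      intro i _
      rw [hw, smul_sub, smul_smul]
      rfl
    have h3 : ∑ i, y i • P (ee i) u = P y u := by
      conv_rhs => rw [h1]
      have : ∀ (s : Finset (Fin n)), P (∑ i ∈ s, y i • (ee i : Fin n → F)) u =
          ∑ i ∈ s, y i • P (ee i) u := by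
        intro s
        induction s using Finset.induction_on with
        | empty => simp
        | insert a s ha ih =>
          rw [Finset.sum_insert ha, Finset.sum_insert ha, QuadraticMap.polar_add_left,
            QuadraticMap.polar_smul_left, ih]
      exact (this _).symm
    rw [h2, ← h1, h3, P_comm Q y u, hy, zero_smul, sub_zero]
  rw [hy']
  have key : ∀ s : Finset (Fin n), P u (∑ i ∈ s, y i • w i) = 0 ∧
      InH Q H u (∑ i ∈ s, y i • w i) := by
    intro s
    induction s using Finset.induction_on with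
    | empty =>
      refine ⟨by simp, ?_⟩
      rw [Finset.sum_empty]
      show ((sg Q u 0 : ↥(Cfsg.isometryGroup F ⇑Q)) : GL (Fin n) F) ∈ H
      rw [sg_zero']
      exact H.one_mem
    | insert a s ha ih =>
      have p1 : P u (y a • w a) = 0 := by rw [QuadraticMap.polar_smul_right, huw, smul_zero]
      rw [Finset.sum_insert ha]
      refine ⟨by rw [QuadraticMap.polar_add_right, p1, ih.1, add_zero], ?_⟩
      exact inH_add hQu p1 ih.1
        (inH_smul_rat hr hQ hn hKH hall hu (hwr a) hu0 hQu (huw a) (y a)) ih.2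
  exact (key _).2

/-- **the case `Λ = F`**: `H` contains `Ω` -/
theorem omega_le_of_Lam_top (hall : ∀ c, c ∈ LamSet Q F₀ H) : Cfsg.Geo.omegaGL (⇑Q) ≤ H := by
  obtain ⟨e, f, he, hf, hQe, hQf, hef, -, -⟩ := exists_rat_hyp_perp hr hQ
    (Fin.elim0 : Fin 0 → Fin n → F) (fun i => Fin.elim0 i) (by omega)
  have hef' : P e f ≠ 0 := by rw [hef]; exact one_ne_zero
  have he0 : e ≠ 0 := by
    rintro rfl
    apply hef'
    simp
  have hf0 : f ≠ 0 := by
    rintro rfl
    apply hef'
    simp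
  have hCe := rat_mem_Cen hr hQ hn hKH hall he he0 hQe
  have hCf := rat_mem_Cen hr hQ hn hKH hall hf hf0 hQf
  apply omega_le_of_Cen Q H hQ (by omega)
  intro z hz
  exact Cen_all Q H hQ hCf hCe hef' z hz

end alg

end Cfsg.Agent.Lib.H24.OSf
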