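import Mathlib

set_option autoImplicit false

/-!
# Coordinates of a direct-sum decomposition (helper24)

For a finite family `E : ι → Submodule F V`:

* `sumMap E : (Π j, E j) →ₗ V`, injective when `E` is independent, with range `⨆ E`;
* `finrank_iSup_eq_sum`: the dimension of an independent supremum;
* for an independent family with supremum `⊤`, the coordinate projections `cproj`
  (`cproj_mem`, `sum_cproj`, `cproj_unique`, `cproj_equivariant`).
-/

namespace Cfsg.Agent.Lib.H24.Elus

open Module

section coord

variable {F : Type*} [Field F] {V : Type*} [AddCommGroup V] [Module F V]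
variable {ι : Type*} [Fintype ι] [DecidableEq ι]

/-- the sum map of a family of subspaces -/
noncomputable def sumMap (E : ι → Submodule F V) : ((j : ι) → E j) →ₗ[F] V :=
  ∑ j, (E j).subtype ∘ₗ LinearMap.proj j

theorem sumMap_apply (E : ι → Submodule F V) (w : (j : ι) → E j) :
    sumMap E w = ∑ j, (w j : V) := by
  simp only [sumMap, LinearMap.sum_apply, LinearMap.comp_apply, LinearMap.proj_apply,
    Submodule.subtype_apply]

theorem sumMap_injective (E : ι → Submodule F V) (h : iSupIndep E) :
    Function.Injective (sumMap E) := by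
  rw [← LinearMap.ker_eq_bot, LinearMap.ker_eq_bot']
  intro w hw
  rw [sumMap_apply] at hw
  have := (iSupIndep_iff_finsetSum_eq_zero_imp_eq_zero E).mp h Finset.univ
    (fun j => (w j : V)) (fun j _ => (w j).2) hw
  funext j
  exact Subtype.ext (this j (Finset.mem_univ j))

theorem sumMap_single (E : ι → Submodule F V) (j : ι) (x : E j) :
    sumMap E (Pi.single j x) = x := by
  rw [sumMap_apply, Finset.sum_eq_single j]
  · rw [Pi.single_eq_same]
  · intro i _ hi
    rw [Pi.single_eq_of_ne hi]
    rfl
  · intro h
    exact absurd (Finset.mem_univ j) h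

theorem range_sumMap (E : ι → Submodule F V) : LinearMap.range (sumMap E) = ⨆ j, E j := by
  apply le_antisymm
  · rintro _ ⟨w, rfl⟩
    rw [sumMap_apply]
    exact Submodule.sum_mem _ (fun j _ => Submodule.mem_iSup_of_mem j (w j).2)
  · apply iSup_le
    intro j x hx
    exact ⟨Pi.single j ⟨x, hx⟩, sumMap_single E j ⟨x, hx⟩⟩

theorem finrank_iSup_eq_sum [Module.Finite F V] (E : ι → Submodule F V) (h : iSupIndep E) :
    finrank F ↥(⨆ j, E j) = ∑ j, finrank F (E j) := by
  rw [← range_sumMap, LinearMap.finrank_range_of_inj (sumMap_injective E h),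
    Module.finrank_pi_fintype]

variable (D : ι → Submodule F V) (hind : iSupIndep D) (htop : iSup D = ⊤)

/-- the coordinate isomorphism of a direct-sum decomposition -/
noncomputable def coordEquiv : ((j : ι) → D j) ≃ₗ[F] V :=
  LinearEquiv.ofBijective (sumMap D) ⟨sumMap_injective D hind, by
    rw [← LinearMap.range_eq_top, range_sumMap, htop]⟩

theorem coordEquiv_apply (w : (j : ι) → D j) : coordEquiv D hind htop w = ∑ j, (w j : V) :=
  sumMap_apply D w

/-- the coordinate projections of a direct-sum decomposition -/
noncomputable def cproj (j : ι) : V →ₗ[F] V :=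
  (D j).subtype ∘ₗ LinearMap.proj j ∘ₗ (coordEquiv D hind htop).symm.toLinearMap

theorem cproj_apply (j : ι) (v : V) :
    cproj D hind htop j v = (((coordEquiv D hind htop).symm v) j : V) := rfl

theorem cproj_mem (j : ι) (v : V) : cproj D hind htop j v ∈ D j :=
  Subtype.property _

theorem sum_cproj (v : V) : ∑ j, cproj D hind htop j v = v := by
  have := (coordEquiv D hind htop).apply_symm_apply v
  rw [coordEquiv_apply] at this
  exact this

theorem cproj_unique (v : V) (w : ι → V) (hw : ∀ j, w j ∈ D j) (hsum : ∑ j, w j = v) (j : ι) :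
    cproj D hind htop j v = w j := by
  have h1 : coordEquiv D hind htop (fun j => ⟨w j, hw j⟩) = v := by
    rw [coordEquiv_apply]
    exact hsum
  rw [cproj_apply, ← h1, LinearEquiv.symm_apply_apply]

theorem cproj_of_mem_same (j : ι) (v : V) (hv : v ∈ D j) : cproj D hind htop j v = v := by
  have := cproj_unique D hind htop v (fun i => if i = j then v else 0) (by
    intro i
    by_cases h : i = j
    · subst h; simpa using hv
    · simp [h]) (by simp) j
  simpa using this

theorem cproj_of_mem_ne (i j : ι) (hij : i ≠ j) (v : V) (hv : v ∈ D j) :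
    cproj D hind htop i v = 0 := by
  have := cproj_unique D hind htop v (fun i => if i = j then v else 0) (by
    intro i
    by_cases h : i = j
    · subst h; simpa using hv
    · simp [h]) (by simp) i
  simpa [hij] using this

/-- a linear map permuting the summands permutes the coordinates -/
theorem cproj_equivariant (y : V →ₗ[F] V) (σ : Equiv.Perm ι)
    (hy : ∀ j, ∀ v ∈ D j, y v ∈ D (σ j)) (v : V) (j : ι) :
    cproj D hind htop (σ j) (y v) = y (cproj D hind htop j v) := by
  have h := cproj_unique D hind htop (y v) (fun j' => y (cproj D hind htop (σ.symm j') v)) (by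
    intro j'
    have := hy (σ.symm j') _ (cproj_mem D hind htop (σ.symm j') v)
    rwa [σ.apply_symm_apply] at this) (by
    rw [Equiv.sum_comp σ.symm (fun j => y (cproj D hind htop j v)), ← map_sum, sum_cproj]) (σ j)
  rw [h, σ.symm_apply_apply]

theorem eq_zero_of_cproj_eq_zero (v : V) (h : ∀ j, cproj D hind htop j v = 0) : v = 0 := by
  rw [← sum_cproj D hind htop v]
  exact Finset.sum_eq_zero (fun j _ => h j)

/-- the coordinates indexed by a subset, as a linear map -/
noncomputable def cprojOn (P : Finset ι) : V →ₗ[F] ((j : {j // j ∈ P}) → D j.1) :=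
  LinearMap.pi (fun j => (LinearMap.proj j.1) ∘ₗ (coordEquiv D hind htop).symm.toLinearMap)

theorem cprojOn_apply (P : Finset ι) (v : V) (j : {j // j ∈ P}) :
    ((cprojOn D hind htop P v j : D j.1) : V) = cproj D hind htop j.1 v := rfl

theorem finrank_cprojOn_target [Module.Finite F V] (P : Finset ι) (a : ℕ)
    (ha : ∀ j, finrank F (D j) = a) :
    finrank F ((j : {j // j ∈ P}) → D j.1) = P.card * a := by
  rw [Module.finrank_pi_fintype]
  simp only [ha, Finset.sum_const, Finset.card_univ, Fintype.card_coe, smul_eq_mul]

end coord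

end Cfsg.Agent.Lib.H24.Elus
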