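import Mathlib
import Cfsg.Agent.Lib.H24.ElusImpCoord

set_option autoImplicit false

/-!
# Alternating forms on subspaces (helper24)

Elementary geometry of an alternating bilinear form `B` relative to subspaces:
* `NDon B U`: the restriction of `B` to `U` is nondegenerate;
* orthogonal complements inside a subspace, orthogonal sums, hyperbolic planes;
* `PeelClass`: an abstract class of nondegenerate subspaces closed under relative orthogonal
  complements and orthogonal sums, every nonzero member of which contains a member of dimension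
  `c₀`; its members have dimension divisible by `c₀` and contain members of all admissible
  dimensions (`peel_dvd`, `peel_exists`, `multi_peel`).
-/

namespace Cfsg.Agent.Lib.H24.Elus

open Module

section form

variable {F : Type*} [Field F] {V : Type*} [AddCommGroup V] [Module F V]

/-- the restriction of `B` to `U` is nondegenerate -/
def NDon (B : LinearMap.BilinForm F V) (U : Submodule F V) : Prop :=
  ∀ u ∈ U, (∀ v ∈ U, B u v = 0) → u = 0

variable (B : LinearMap.BilinForm F V)

theorem NDon_bot : NDon B ⊥ := by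
  intro u hu _
  exact (Submodule.mem_bot F).mp hu

theorem alt_swap (halt : ∀ v, B v v = 0) (v w : V) : B v w = - B w v := by
  have h := halt (v + w)
  simp only [map_add, LinearMap.add_apply, halt] at h
  linear_combination h

theorem alt_swap_zero (halt : ∀ v, B v v = 0) {v w : V} (h : B v w = 0) : B w v = 0 := by
  rw [alt_swap B halt, h, neg_zero]

theorem isRefl_of_alt (halt : ∀ v, B v v = 0) : B.IsRefl :=
  fun _ _ h => alt_swap_zero B halt h

theorem mem_orth_iff (D : Submodule F V) (v : V) :
    v ∈ B.orthogonal D ↔ ∀ d ∈ D, B d v = 0 := Iff.rfl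

/-- vanishing against a supremum -/
theorem orth_iSup {κ : Sort*} (E : κ → Submodule F V) (v : V)
    (h : ∀ k, ∀ u ∈ E k, B u v = 0) : ∀ u ∈ ⨆ k, E k, B u v = 0 := by
  have hle : (⨆ k, E k) ≤ LinearMap.ker (B.flip v) := by
    apply iSup_le
    intro k u hu
    rw [LinearMap.mem_ker]
    exact h k u hu
  intro u hu
  have := hle hu
  rw [LinearMap.mem_ker] at this
  exact this

theorem orth_sup (A A' : Submodule F V) (v : V) (h : ∀ u ∈ A, B u v = 0)
    (h' : ∀ u ∈ A', B u v = 0) : ∀ u ∈ A ⊔ A', B u v = 0 := by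
  intro u hu
  obtain ⟨a, ha, a', ha', rfl⟩ := Submodule.mem_sup.mp hu
  rw [map_add, LinearMap.add_apply, h a ha, h' a' ha', add_zero]

theorem disjoint_orth_of_NDon (halt : ∀ v, B v v = 0) (D : Submodule F V) (hD : NDon B D) :
    Disjoint D (B.orthogonal D) := by
  rw [Submodule.disjoint_def]
  intro x hx hx'
  apply hD x hx
  intro v hv
  exact alt_swap_zero B halt (hx' v hv)

theorem inf_eq_bot_of_orth (halt : ∀ v, B v v = 0) (A A' : Submodule F V) (hA : NDon B A)
    (horth : ∀ u ∈ A, ∀ v ∈ A', B u v = 0) : A ⊓ A' = ⊥ := by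
  rw [eq_bot_iff]
  intro x hx
  rw [Submodule.mem_inf] at hx
  rw [Submodule.mem_bot]
  apply hA x hx.1
  intro v hv
  exact alt_swap_zero B halt (horth v hv x hx.2)

/-- the orthogonal sum of nondegenerate subspaces is nondegenerate -/
theorem NDon_sup (halt : ∀ v, B v v = 0) (A A' : Submodule F V) (hA : NDon B A)
    (hA' : NDon B A') (horth : ∀ u ∈ A, ∀ v ∈ A', B u v = 0) : NDon B (A ⊔ A') := by
  intro u hu h
  obtain ⟨a, ha, a', ha', rfl⟩ := Submodule.mem_sup.mp hu
  have h1 : a = 0 := by
    apply hA a ha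
    intro v hv
    have := h v (Submodule.mem_sup_left hv)
    rw [map_add, LinearMap.add_apply, alt_swap_zero B halt (horth v hv a' ha'), add_zero] at this
    exact this
  have h2 : a' = 0 := by
    apply hA' a' ha'
    intro v hv
    have := h v (Submodule.mem_sup_right hv)
    rw [map_add, LinearMap.add_apply, horth a ha v hv, zero_add] at this
    exact this
  rw [h1, h2, add_zero]

/-- a nondegenerate subspace which is an orthogonal sum has nondegenerate summands -/
theorem NDon_of_sup_orth (U A A' : Submodule F V) (hU : NDon B U) (hAU : A ≤ U)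
    (hsup : U ≤ A ⊔ A') (horth : ∀ u ∈ A, ∀ v ∈ A', B u v = 0) : NDon B A := by
  intro u hu h
  apply hU u (hAU hu)
  intro v hv
  obtain ⟨a, ha, a', ha', rfl⟩ := Submodule.mem_sup.mp (hsup hv)
  rw [map_add, h a ha, horth u hu a' ha', add_zero]

section fd

variable [FiniteDimensional F V]

theorem isCompl_orth_of_NDon (halt : ∀ v, B v v = 0) (D : Submodule F V) (hD : NDon B D) :
    IsCompl D (B.orthogonal D) :=
  (LinearMap.BilinForm.isCompl_orthogonal_iff_disjoint (isRefl_of_alt B halt)).mpr
    (disjoint_orth_of_NDon B halt D hD)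

theorem sup_perp_in (halt : ∀ v, B v v = 0) (U D : Submodule F V) (hD : NDon B D)
    (hDU : D ≤ U) : D ⊔ (U ⊓ B.orthogonal D) = U := by
  have h1 := (isCompl_orth_of_NDon B halt D hD).sup_eq_top
  have h2 := sup_inf_assoc_of_le (B.orthogonal D) hDU
  rw [h1, top_inf_eq, inf_comm] at h2
  exact h2.symm

theorem inf_perp_in (halt : ∀ v, B v v = 0) (U D : Submodule F V) (hD : NDon B D) :
    D ⊓ (U ⊓ B.orthogonal D) = ⊥ := by
  have h1 := (isCompl_orth_of_NDon B halt D hD).inf_eq_bot
  rw [eq_bot_iff, ← h1]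
  exact inf_le_inf_left D inf_le_right

theorem finrank_perp_in (halt : ∀ v, B v v = 0) (U D : Submodule F V) (hD : NDon B D)
    (hDU : D ≤ U) : finrank F D + finrank F ↥(U ⊓ B.orthogonal D) = finrank F U := by
  have h := Submodule.finrank_sup_add_finrank_inf_eq D (U ⊓ B.orthogonal D)
  rw [sup_perp_in B halt U D hD hDU, inf_perp_in B halt U D hD, finrank_bot, add_zero] at h
  exact h.symm

theorem NDon_perp_in (halt : ∀ v, B v v = 0) (U D : Submodule F V) (hU : NDon B U)
    (hD : NDon B D) (hDU : D ≤ U) : NDon B (U ⊓ B.orthogonal D) := by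
  apply NDon_of_sup_orth B U (U ⊓ B.orthogonal D) D hU inf_le_left
  · rw [sup_comm, sup_perp_in B halt U D hD hDU]
  · intro u hu v hv
    exact alt_swap_zero B halt ((Submodule.mem_inf.mp hu).2 v hv)

end fd

/-- pairwise orthogonal nondegenerate subspaces are independent -/
theorem iSupIndep_of_orth (halt : ∀ v, B v v = 0) {κ : Type*} (E : κ → Submodule F V)
    (hnd : ∀ k, NDon B (E k))
    (horth : ∀ k k', k ≠ k' → ∀ u ∈ E k, ∀ v ∈ E k', B u v = 0) : iSupIndep E := by
  rw [iSupIndep_def]
  intro k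
  rw [Submodule.disjoint_def]
  intro x hx hx'
  apply hnd k x hx
  intro v hv
  apply alt_swap_zero B halt
  have h2 : ∀ u ∈ ⨆ j, ⨆ (_ : j ≠ k), E j, B v u = 0 := by
    intro u hu
    apply alt_swap_zero B halt
    revert u
    apply orth_iSup B (fun j => ⨆ (_ : j ≠ k), E j) v
    intro j
    apply orth_iSup B (fun _ : j ≠ k => E j) v
    intro hjk u hu
    exact horth j k hjk u hu v hv
  exact h2 x hx'

/-- the supremum of a finite family of pairwise orthogonal nondegenerate subspaces -/
theorem NDon_iSup (halt : ∀ v, B v v = 0) {κ : Type*} [Fintype κ] [DecidableEq κ]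
    (E : κ → Submodule F V) (hnd : ∀ k, NDon B (E k))
    (horth : ∀ k k', k ≠ k' → ∀ u ∈ E k, ∀ v ∈ E k', B u v = 0) : NDon B (⨆ k, E k) := by
  intro u hu h
  rw [← range_sumMap] at hu
  obtain ⟨w, rfl⟩ := hu
  have hw : ∀ k, (w k : V) = 0 := by
    intro k
    apply hnd k _ (w k).2
    intro v hv
    have h1 := h v (Submodule.mem_iSup_of_mem k hv)
    rw [sumMap_apply, map_sum, LinearMap.sum_apply, Finset.sum_eq_single k] at h1
    · exact h1
    · intro j _ hjk
      exact horth j k hjk _ (w j).2 v hv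
    · intro hk
      exact absurd (Finset.mem_univ k) hk
  rw [sumMap_apply]
  exact Finset.sum_eq_zero (fun k _ => hw k)

/-- a hyperbolic plane inside a nonzero nondegenerate subspace -/
theorem exists_plane (halt : ∀ v, B v v = 0) (U : Submodule F V) (hU : NDon B U) (hne : U ≠ ⊥) :
    ∃ P : Submodule F V, P ≤ U ∧ NDon B P ∧ finrank F P = 2 := by
  obtain ⟨u, hu, hu0⟩ := (Submodule.ne_bot_iff U).mp hne
  obtain ⟨v, hv, huv⟩ : ∃ v ∈ U, B u v ≠ 0 := by
    by_contra hcon
    push Not at hcon
    exact hu0 (hU u hu hcon)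
  have hvu : B v u ≠ 0 := by
    rw [alt_swap B halt]
    exact neg_ne_zero.mpr huv
  refine ⟨Submodule.span F {u, v}, ?_, ?_, ?_⟩
  · rw [Submodule.span_le]
    intro x hx
    rcases hx with rfl | rfl
    · exact hu
    · exact hv
  · intro w hw h
    obtain ⟨α, β, rfl⟩ := Submodule.mem_span_pair.mp hw
    have h1 := h u (Submodule.subset_span (by simp))
    have h2 := h v (Submodule.subset_span (by simp))
    simp only [map_add, map_smul, LinearMap.add_apply, LinearMap.smul_apply, halt, smul_eq_mul,
      mul_zero, zero_add, add_zero] at h1 h2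
    have hβ : β = 0 := by
      rcases mul_eq_zero.mp h1 with h | h
      · exact h
      · exact absurd h hvu
    have hα : α = 0 := by
      rcases mul_eq_zero.mp h2 with h | h
      · exact h
      · exact absurd h huv
    rw [hα, hβ, zero_smul, zero_smul, add_zero]
  · have hli : LinearIndependent F ![u, v] := by
      rw [LinearIndependent.pair_iff]
      intro s t hst
      have h1 := congrArg (fun x => B x u) hst
      have h2 := congrArg (fun x => B x v) hst
      simp only [map_add, map_smul, LinearMap.add_apply, LinearMap.smul_apply, halt, smul_eq_mul,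
        mul_zero, zero_add, add_zero, map_zero, LinearMap.zero_apply] at h1 h2
      constructor
      · rcases mul_eq_zero.mp h2 with h | h
        · exact h
        · exact absurd h huv
      · rcases mul_eq_zero.mp h1 with h | h
        · exact h
        · exact absurd h hvu
    have h := finrank_span_eq_card hli
    have hr : Set.range ![u, v] = {u, v} := by
      ext x
      simp only [Matrix.range_cons, Matrix.range_empty, Set.union_empty, Set.mem_union,
        Set.mem_singleton_iff, Set.mem_insert_iff]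
    rw [hr, Fintype.card_fin] at h
    exact h

section fd2

variable [FiniteDimensional F V]

/-- a perfect pairing between subspaces of equal dimension -/
theorem pairing_perfect (W W' : Submodule F V) (hdim : finrank F W = finrank F W')
    (hinj : ∀ w' ∈ W', (∀ w ∈ W, B w w' = 0) → w' = 0) :
    ∀ w ∈ W, (∀ w' ∈ W', B w w' = 0) → w = 0 := by
  let ψ : W' →ₗ[F] Module.Dual F W :=
    { toFun := fun w' => (B.flip (w' : V)).domRestrict W
      map_add' := fun x y => by
        ext w
        simp
      map_smul' := fun c x => by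
        ext w
        simp }
  have hψ : ∀ (w' : W') (w : W), ψ w' w = B (w : V) (w' : V) := fun _ _ => rfl
  have hψinj : Function.Injective ψ := by
    rw [← LinearMap.ker_eq_bot, LinearMap.ker_eq_bot']
    intro w' hw'
    apply Subtype.ext
    apply hinj w'.1 w'.2
    intro w hw
    have := LinearMap.congr_fun hw' ⟨w, hw⟩
    rw [hψ] at this
    exact this
  have hψsurj : Function.Surjective ψ := by
    apply (LinearMap.injective_iff_surjective_of_finrank_eq_finrank ?_).mp hψinj
    rw [Subspace.dual_finrank_eq, hdim]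
  intro w hw h
  have h0 : (⟨w, hw⟩ : W) = 0 := by
    rw [← Module.forall_dual_apply_eq_zero_iff F]
    intro φ
    obtain ⟨w', rfl⟩ := hψsurj φ
    rw [hψ]
    exact h w'.1 w'.2
  exact congrArg Subtype.val h0

/-- an abstract class of nondegenerate subspaces with atoms of dimension `c₀` -/
structure PeelClass (Q : Submodule F V → Prop) (c₀ : ℕ) : Prop where
  pos : 0 < c₀
  bot : Q ⊥
  nd : ∀ U, Q U → NDon B U
  perp : ∀ U A, Q U → Q A → A ≤ U → Q (U ⊓ B.orthogonal A)
  sup : ∀ A A', Q A → Q A' → (∀ u ∈ A, ∀ v ∈ A', B u v = 0) → Q (A ⊔ A')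
  atom : ∀ U, Q U → U ≠ ⊥ → ∃ A, A ≤ U ∧ Q A ∧ finrank F A = c₀

variable {B}

theorem peel_dvd (halt : ∀ v, B v v = 0) {Q : Submodule F V → Prop} {c₀ : ℕ}
    (hQ : PeelClass B Q c₀) : ∀ U, Q U → c₀ ∣ finrank F U := by
  intro U
  induction h : finrank F U using Nat.strong_induction_on generalizing U with
  | _ n ih =>
    intro hU
    by_cases hne : U = ⊥
    · rw [← h, hne, finrank_bot]
      exact dvd_zero _
    · obtain ⟨A, hAU, hA, hAc⟩ := hQ.atom U hU hne
      have h1 := finrank_perp_in B halt U A (hQ.nd A hA) hAU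
      have h2 := ih (finrank F ↥(U ⊓ B.orthogonal A)) (by have := hQ.pos; omega)
        (U ⊓ B.orthogonal A) rfl (hQ.perp U A hU hA hAU)
      rw [← h, ← h1, hAc]
      exact Dvd.dvd.add (dvd_refl _) h2

theorem peel_exists (halt : ∀ v, B v v = 0) {Q : Submodule F V → Prop} {c₀ : ℕ}
    (hQ : PeelClass B Q c₀) : ∀ (k : ℕ) (U : Submodule F V), Q U → k * c₀ ≤ finrank F U →
      ∃ A, A ≤ U ∧ Q A ∧ finrank F A = k * c₀ := by
  intro k
  induction k with
  | zero =>
    intro U _ _
    exact ⟨⊥, bot_le, hQ.bot, by rw [finrank_bot, zero_mul]⟩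
  | succ k ih =>
    intro U hU hk
    have hpos := hQ.pos
    have hne : U ≠ ⊥ := by
      rintro rfl
      rw [finrank_bot] at hk
      have : 0 < (k + 1) * c₀ := Nat.mul_pos (Nat.succ_pos k) hpos
      omega
    obtain ⟨A₀, hA₀U, hA₀, hA₀c⟩ := hQ.atom U hU hne
    have h1 := finrank_perp_in B halt U A₀ (hQ.nd A₀ hA₀) hA₀U
    have hk' : k * c₀ ≤ finrank F ↥(U ⊓ B.orthogonal A₀) := by
      have : (k + 1) * c₀ = k * c₀ + c₀ := by ring
      omega
    obtain ⟨A', hA'U, hA', hA'c⟩ := ih (U ⊓ B.orthogonal A₀) (hQ.perp U A₀ hU hA₀ hA₀U) hk'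
    have horth : ∀ u ∈ A₀, ∀ v ∈ A', B u v = 0 := fun u hu v hv =>
      (Submodule.mem_inf.mp (hA'U hv)).2 u hu
    refine ⟨A₀ ⊔ A', sup_le hA₀U (hA'U.trans inf_le_left), hQ.sup A₀ A' hA₀ hA' horth, ?_⟩
    have h2 := Submodule.finrank_sup_add_finrank_inf_eq A₀ A'
    rw [inf_eq_bot_of_orth B halt A₀ A' (hQ.nd A₀ hA₀) horth, finrank_bot, add_zero] at h2
    rw [h2, hA₀c, hA'c]
    ring

theorem multi_peel (halt : ∀ v, B v v = 0) {Q : Submodule F V → Prop} {c₀ : ℕ}
    (hQ : PeelClass B Q c₀) : ∀ (t : ℕ) (k : Fin t → ℕ) (U : Submodule F V), Q U →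
      ∑ j, k j * c₀ ≤ finrank F U →
      ∃ D : Fin t → Submodule F V, (∀ j, D j ≤ U ∧ Q (D j) ∧ finrank F (D j) = k j * c₀) ∧
        ∀ j j', j ≠ j' → ∀ u ∈ D j, ∀ v ∈ D j', B u v = 0 := by
  intro t
  induction t with
  | zero =>
    intro k U _ _
    exact ⟨fun j => j.elim0, fun j => j.elim0, fun j => j.elim0⟩
  | succ t ih =>
    intro k U hU hk
    rw [Fin.sum_univ_succ] at hk
    obtain ⟨A₀, hA₀U, hA₀, hA₀c⟩ := peel_exists halt hQ (k 0) U hU (by omega)
    have h1 := finrank_perp_in B halt U A₀ (hQ.nd A₀ hA₀) hA₀U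
    obtain ⟨D', hD', horth'⟩ := ih (fun j => k j.succ) (U ⊓ B.orthogonal A₀)
      (hQ.perp U A₀ hU hA₀ hA₀U) (by omega)
    refine ⟨Fin.cons (α := fun _ => Submodule F V) A₀ D', ?_, ?_⟩
    · intro j
      refine Fin.cases ?_ (fun j' => ?_) j
      · rw [Fin.cons_zero]
        exact ⟨hA₀U, hA₀, hA₀c⟩
      · rw [Fin.cons_succ]
        exact ⟨(hD' j').1.trans inf_le_left, (hD' j').2.1, (hD' j').2.2⟩
    · intro j j'
      refine Fin.cases ?_ (fun j₁ => ?_) j <;> refine Fin.cases ?_ (fun j₂ => ?_) j'
      · intro h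
        exact absurd rfl h
      · intro _ u hu v hv
        rw [Fin.cons_zero] at hu
        rw [Fin.cons_succ] at hv
        exact (Submodule.mem_inf.mp ((hD' j₂).1 hv)).2 u hu
      · intro _ u hu v hv
        rw [Fin.cons_zero] at hv
        rw [Fin.cons_succ] at hu
        exact alt_swap_zero B halt ((Submodule.mem_inf.mp ((hD' j₁).1 hu)).2 v hv)
      · intro h u hu v hv
        rw [Fin.cons_succ] at hu hv
        exact horth' j₁ j₂ (fun h' => h (by rw [h'])) u hu v hv

/-- nondegenerate subspaces of a given subspace form a class with atoms of dimension 2 -/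
theorem peelClass_planes (halt : ∀ v, B v v = 0) (X : Submodule F V) :
    PeelClass B (fun A => A ≤ X ∧ NDon B A) 2 where
  pos := by norm_num
  bot := ⟨bot_le, NDon_bot B⟩
  nd := fun _ h => h.2
  perp := fun U A hU hA hAU => ⟨inf_le_left.trans hU.1, NDon_perp_in B halt U A hU.2 hA.2 hAU⟩
  sup := fun A A' hA hA' horth => ⟨sup_le hA.1 hA'.1, NDon_sup B halt A A' hA.2 hA'.2 horth⟩
  atom := fun U hU hne => by
    obtain ⟨P, hPU, hP, hP2⟩ := exists_plane B halt U hU.2 hne
    exact ⟨P, hPU, ⟨hPU.trans hU.1, hP⟩, hP2⟩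

theorem even_finrank_of_NDon (halt : ∀ v, B v v = 0) (U : Submodule F V) (hU : NDon B U) :
    Even (finrank F U) := by
  have := peel_dvd halt (peelClass_planes halt (⊤ : Submodule F V)) U ⟨le_top, hU⟩
  exact (even_iff_two_dvd).mpr this

end fd2

end form

end Cfsg.Agent.Lib.H24.Elus
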