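import Cfsg.Agent.Lib.H24.ElusComb

set_option autoImplicit false

/-!
# Combinatorics for the imprimitive-subgroup statement (helper24)

* `exists_transport`: a nonnegative integer matrix with prescribed row and column sums.
* `second_arith`: the arithmetic of the splitting of the fixed space.
-/

namespace Cfsg.Agent.Lib.H24.Elus

/-- a nonnegative integer matrix with prescribed row sums `R` and column sums `C` -/
theorem exists_transport {S : Type*} [Fintype S] [DecidableEq S] :
    ∀ (t : ℕ) (R : Fin t → ℕ) (C : S → ℕ), ∑ i, R i = ∑ s, C s →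
      ∃ M : Fin t → S → ℕ, (∀ i, ∑ s, M i s = R i) ∧ ∀ s, ∑ i, M i s = C s := by
  intro t
  induction t with
  | zero =>
    intro R C h
    refine ⟨fun i => i.elim0, fun i => i.elim0, fun s => ?_⟩
    rw [Finset.univ_eq_empty, Finset.sum_empty] at h ⊢
    exact ((Finset.sum_eq_zero_iff.mp h.symm) s (Finset.mem_univ s)).symm
  | succ t ih =>
    intro R C h
    rw [Fin.sum_univ_succ] at h
    obtain ⟨c, hc, hcsum⟩ := exists_distrib C (R 0) (by omega)
    have hC' : ∑ s, (C s - c s) + ∑ s, c s = ∑ s, C s := by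
      rw [← Finset.sum_add_distrib]
      exact Finset.sum_congr rfl (fun s _ => Nat.sub_add_cancel (hc s))
    obtain ⟨M', hM'1, hM'2⟩ := ih (fun i => R i.succ) (fun s => C s - c s) (by omega)
    refine ⟨Fin.cons c M', fun i => ?_, fun s => ?_⟩
    · refine Fin.cases ?_ (fun i => ?_) i
      · simpa using hcsum
      · simpa using hM'1 i
    · rw [Fin.sum_univ_succ]
      simp only [Fin.cons_zero, Fin.cons_succ]
      rw [hM'2 s]
      have := hc s
      omega

/-- the fixed space splits as `t * (a % c) + c * e` -/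
theorem second_arith (c a t a₁ m : ℕ) (hc : 0 < c) (hn : a * t = a₁ + c * m)
    (hmod : (a * t) % c = t * (a % c)) :
    ∃ e, a₁ = t * (a % c) + c * e ∧ t * (a / c) = e + m := by
  have h1 : a₁ % c = t * (a % c) := by
    rw [← hmod, hn, Nat.add_mul_mod_self_left]
  refine ⟨a₁ / c, ?_, ?_⟩
  · have := Nat.div_add_mod a₁ c
    omega
  · have h2 := Nat.div_add_mod a₁ c
    have h3 := Nat.div_add_mod a c
    have h4 : a * t = c * (t * (a / c)) + t * (a % c) := by
      conv_lhs => rw [← h3]
      ring
    have h5 : c * (t * (a / c)) = c * (a₁ / c + m) := by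
      rw [mul_add]
      omega
    exact Nat.eq_of_mul_eq_mul_left hc h5

theorem sum_sub_of_le {ι : Type*} [Fintype ι] (A : ℕ) (ε : ι → ℕ) (h : ∀ i, ε i ≤ A) :
    ∑ i, (A - ε i) + ∑ i, ε i = Fintype.card ι * A := by
  rw [← Finset.sum_add_distrib]
  rw [Finset.sum_congr rfl (fun i _ => Nat.sub_add_cancel (h i)), Finset.sum_const,
    Finset.card_univ, smul_eq_mul]

end Cfsg.Agent.Lib.H24.Elus
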