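import Mathlib

set_option autoImplicit false

/-!
# Small combinatorial lemmas for the elusive-action statements (helper24)
-/

namespace Cfsg.Agent.Lib.H24.Elus

/-- distribute `b ≤ ∑ t` as `∑ c` with `c ≤ t` -/
theorem exists_distrib {S : Type*} [Fintype S] [DecidableEq S] (t : S → ℕ) (b : ℕ)
    (hb : b ≤ ∑ s, t s) : ∃ c : S → ℕ, (∀ s, c s ≤ t s) ∧ ∑ s, c s = b := by
  induction b with
  | zero => exact ⟨fun _ => 0, fun s => Nat.zero_le _, by simp⟩
  | succ b ih =>
    obtain ⟨c, hc, hsum⟩ := ih (by omega)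
    have hex : ∃ s, c s < t s := by
      by_contra hcon
      push_neg at hcon
      have : ∑ s, t s ≤ ∑ s, c s := Finset.sum_le_sum (fun s _ => hcon s)
      omega
    obtain ⟨s₀, hs₀⟩ := hex
    refine ⟨c + Pi.single s₀ 1, fun s => ?_, ?_⟩
    · by_cases h : s = s₀
      · subst h
        simp only [Pi.add_apply, Pi.single_eq_same]
        omega
      · simp only [Pi.add_apply, Pi.single_eq_of_ne h, add_zero]
        exact hc s
    · simp only [Pi.add_apply, Finset.sum_add_distrib, hsum, Finset.sum_pi_single',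
        Finset.mem_univ, if_true]

/-- choice of the parts of an invariant subspace of dimension `m` -/
theorem exists_parts (n m a₁ i t : ℕ) (hi : 0 < i) (hn : n = a₁ + i * t) (hm : m ≤ n)
    (hmod : m % i ≤ n % i) : ∃ a b, a ≤ a₁ ∧ b ≤ t ∧ a + i * b = m := by
  have h1 : n % i = a₁ % i := by rw [hn, Nat.add_mul_mod_self_left]
  have h2 : a₁ % i ≤ a₁ := Nat.mod_le _ _
  have h3 := Nat.div_add_mod m i
  by_cases h : m / i ≤ t
  · exact ⟨m % i, m / i, by omega, h, by omega⟩
  · push_neg at h
    have h4 : i * (t + 1) ≤ i * (m / i) := Nat.mul_le_mul_left i h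
    have h5 : i * (t + 1) = i * t + i := by ring
    exact ⟨m - i * t, t, by omega, le_rfl, by omega⟩

theorem mod_le_of_flag (n m i : ℕ) (hmn : m ≤ n) (h1 : m % i ≤ (n - m) % i)
    (h2 : (n - m) % i ≤ n % i) : 2 * (m % i) ≤ n % i := by
  rcases Nat.eq_zero_or_pos i with rfl | hi
  · simp only [Nat.mod_zero] at *
    omega
  have h3 : n % i = (m % i + (n - m) % i) % i := by
    rw [← Nat.add_mod, Nat.add_sub_cancel' hmn]
  have h4 : m % i < i := Nat.mod_lt _ hi
  have h5 : (n - m) % i < i := Nat.mod_lt _ hi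
  by_cases h : m % i + (n - m) % i < i
  · rw [Nat.mod_eq_of_lt h] at h3
    omega
  · push_neg at h
    have h6 : (m % i + (n - m) % i) % i = m % i + (n - m) % i - i := by
      rw [Nat.mod_eq_sub_mod h, Nat.mod_eq_of_lt (by omega)]
    omega

theorem flag_mod (n m i : ℕ) (hmn : 2 * m ≤ n) (h : 2 * (m % i) ≤ n % i) :
    m % i ≤ (n - m) % i := by
  rcases Nat.eq_zero_or_pos i with rfl | hi
  · simp only [Nat.mod_zero] at *
    omega
  have h4 : n % i < i := Nat.mod_lt _ hi
  have h1 : (n - m) % i = (n % i - m % i) % i := by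
    have hm := Nat.div_add_mod m i
    have hn := Nat.div_add_mod n i
    have hle : i * (m / i) ≤ i * (n / i) := by
      by_contra hcon
      push_neg at hcon
      have : n / i < m / i := lt_of_mul_lt_mul_left hcon (Nat.zero_le i)
      have h5 : i * (n / i + 1) ≤ i * (m / i) := Nat.mul_le_mul_left i this
      have h6 : i * (n / i + 1) = i * (n / i) + i := by ring
      omega
    have h7 : n - m = (n % i - m % i) + i * (n / i - m / i) := by
      rw [Nat.mul_sub]
      omega
    rw [h7, Nat.add_mul_mod_self_left]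
  have h8 : (n % i - m % i) % i = n % i - m % i := Nat.mod_eq_of_lt (by omega)
  rw [h1, h8]
  omega

end Cfsg.Agent.Lib.H24.Elus
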