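import Cfsg.Agent.Lib.H24.ElusSS
import Cfsg.Agent.Lib.H24.ElusComb
import Cfsg.Agent.Lib.H13.CycFactor

set_option autoImplicit false

/-!
# Invariant subspaces of elements of prime order `r ≠ p` (helper24)

* `exists_compl_pow_one`: `φ ^ r = 1`, `m % i ≤ n % i` (`i = ord_r q`) gives complementary
  invariant subspaces `U`, `W` with `dim U = m`.
* `mod_le_of_invariant`: for `φ ^ r = 1`, an invariant `W` has
  `dim W = w₁ + i * w₂` with `w₁ = dim (W ⊓ ker (φ - 1))`.
* `exists_compl_irred`: `f(φ) = 0`, `f` irreducible, `deg f ∣ m ≤ n`.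
-/

namespace Cfsg.Agent.Lib.H24.Elus

open Polynomial Module
open Cfsg.Agent.Lib.H13

section irred

variable {F : Type*} [Field F] {V : Type*} [AddCommGroup V] [Module F V] [Module.Finite F V]

theorem exists_compl_irred (f : F[X]) (hf : Irreducible f) (φ : End F V) (hφ : aeval φ f = 0)
    (m : ℕ) (hm : m ≤ finrank F V) (hd : f.natDegree ∣ m) :
    ∃ (U W : Submodule F V) (_ : ∀ v ∈ U, φ v ∈ U) (_ : ∀ v ∈ W, φ v ∈ W), IsCompl U W ∧
      finrank F U = m := by
  obtain ⟨k, hk⟩ := SSClass.natDegree_dvd_finrank f hf φ hφ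
  obtain ⟨a, rfl⟩ := hd
  have hdpos : 0 < f.natDegree := hf.natDegree_pos
  have hak : a ≤ k := by
    rw [hk] at hm
    exact Nat.le_of_mul_le_mul_left hm hdpos
  have hprod : ∏ _j : Unit, f = f := by
    rw [Finset.prod_const, Finset.card_univ, Fintype.card_unit, pow_one]
  have hker : LinearMap.ker (aeval φ f) = ⊤ := by rw [hφ, LinearMap.ker_zero]
  obtain ⟨U, W, hU, hW, hc, h1, -⟩ := exists_compl_of_mult (fun _ : Unit => f) (fun _ => hf)
    (fun i j h => absurd (Subsingleton.elim i j) h) φ (by rw [hprod]; exact hφ)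
    (fun _ => a) (fun _ => k - a) (by
      intro _
      rw [hker, finrank_top, hk, Nat.add_sub_cancel' hak, mul_comm])
  refine ⟨U, W, hU, hW, hc, ?_⟩
  rw [finrank_of_mults (fun _ : Unit => f) (fun i j h => absurd (Subsingleton.elim i j) h) φ
    (by rw [hprod]; exact hφ) U hU, Finset.sum_const, Finset.card_univ, Fintype.card_unit,
    one_smul, h1 (), mul_comm]

end irred

section cyc

variable {F : Type*} [Field F] [Fintype F] [DecidableEq F] {p q : ℕ} [Fact p.Prime] [CharP F p]
  {V : Type*} [AddCommGroup V] [Module F V] [Module.Finite F V]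

theorem exists_compl_pow_one (hF : Fintype.card F = q) {r : ℕ} (hr : r.Prime) (hrp : r ≠ p)
    (φ : End F V) (hφ : aeval φ (X ^ r - 1 : F[X]) = 0) (m : ℕ) (hm : m ≤ finrank F V)
    (hmod : m % orderOf (q : ZMod r) ≤ finrank F V % orderOf (q : ZMod r)) :
    ∃ (U W : Submodule F V) (_ : ∀ v ∈ U, φ v ∈ U) (_ : ∀ v ∈ W, φ v ∈ W), IsCompl U W ∧
      finrank F U = m := by
  classical
  set i := orderOf (q : ZMod r) with hi_def
  have hi : 0 < i := CycFactor.orderOf_pos hF hr hrp
  have hirr := CycFactor.irreducible_fJ (F := F) (r := r)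
  have hcop := CycFactor.coprime_fJ (F := F) hr hrp
  have hφ' : aeval φ (∏ j, CycFactor.fJ (F := F) r j) = 0 := by
    rw [CycFactor.prod_fJ hr hrp]; exact hφ
  have hdvd := dvd_finrank_ker (CycFactor.fJ (F := F) r) hirr φ
  have hsum := finrank_eq_sum_ker (CycFactor.fJ (F := F) r) hcop φ hφ'
  have hts : ∀ s : CycFactor.S r F, ∃ t, finrank F (LinearMap.ker (aeval φ
      (CycFactor.fJ (F := F) r (some s)))) = i * t := by
    intro s
    have := hdvd (some s)
    rwa [CycFactor.natDegree_fJ_some hF hr hrp] at this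
  choose t ht using hts
  set a₁ := finrank F (LinearMap.ker (aeval φ (CycFactor.fJ (F := F) r none))) with ha₁
  have hn : finrank F V = a₁ + i * ∑ s, t s := by
    rw [hsum, Fintype.sum_option, Finset.mul_sum]
    congr 1
    exact Finset.sum_congr rfl (fun s _ => ht s)
  obtain ⟨a, b, haa, hbt, hab⟩ := exists_parts _ m a₁ i _ hi hn hm hmod
  obtain ⟨c, hc, hcsum⟩ := exists_distrib t b hbt
  obtain ⟨U, W, hU, hW, hcompl, h1, -⟩ := exists_compl_of_mult (CycFactor.fJ (F := F) r) hirr hcop
    φ hφ' (fun j => j.elim a c) (fun j => j.elim (a₁ - a) (fun s => t s - c s)) (by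
      intro j
      cases j with
      | none =>
        rw [CycFactor.natDegree_fJ_none, mul_one]
        show a₁ = a + (a₁ - a)
        omega
      | some s =>
        rw [CycFactor.natDegree_fJ_some hF hr hrp, ht s]
        show i * t s = (c s + (t s - c s)) * i
        rw [Nat.add_sub_cancel' (hc s), mul_comm])
  refine ⟨U, W, hU, hW, hcompl, ?_⟩
  rw [finrank_of_mults (CycFactor.fJ (F := F) r) hcop φ hφ' U hU, Fintype.sum_option, h1 none,
    CycFactor.natDegree_fJ_none, mul_one]
  have : ∑ s : CycFactor.S r F, finrank F (LinearMap.ker (aeval (φ.restrict hU)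
      (CycFactor.fJ (F := F) r (some s)))) = i * b := by
    rw [← hcsum, Finset.mul_sum]
    apply Finset.sum_congr rfl
    intro s _
    rw [h1 (some s), CycFactor.natDegree_fJ_some hF hr hrp, mul_comm]
    rfl
  rw [this]
  exact hab

/-- the dimension of an invariant subspace of an element of order `r` modulo `i = ord_r q` -/
theorem mod_of_invariant (hF : Fintype.card F = q) {r : ℕ} (hr : r.Prime) (hrp : r ≠ p)
    (φ : End F V) (hφ : aeval φ (X ^ r - 1 : F[X]) = 0) (W : Submodule F V)
    (hW : ∀ v ∈ W, φ v ∈ W) :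
    finrank F W % orderOf (q : ZMod r) =
      finrank F ↥(W ⊓ LinearMap.ker (aeval φ (X - 1 : F[X]))) % orderOf (q : ZMod r) := by
  classical
  set i := orderOf (q : ZMod r) with hi_def
  have hirr := CycFactor.irreducible_fJ (F := F) (r := r)
  have hcop := CycFactor.coprime_fJ (F := F) hr hrp
  have hφ' : aeval φ (∏ j, CycFactor.fJ (F := F) r j) = 0 := by
    rw [CycFactor.prod_fJ hr hrp]; exact hφ
  obtain ⟨h1, h2⟩ := invariant_mults (CycFactor.fJ (F := F) r) hirr hcop φ hφ' W hW
  rw [Fintype.sum_option] at h1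
  have h3 : i ∣ ∑ s : CycFactor.S r F, finrank F ↥(W ⊓ LinearMap.ker (aeval φ
      (CycFactor.fJ (F := F) r (some s)))) := by
    apply Finset.dvd_sum
    intro s _
    have := h2 (some s)
    rwa [CycFactor.natDegree_fJ_some hF hr hrp] at this
  obtain ⟨e, he⟩ := h3
  rw [← h1, he, Nat.add_mul_mod_self_left]
  rfl

end cyc

end Cfsg.Agent.Lib.H24.Elus
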