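import Cfsg.Agent.Lib.H13.SSClass

set_option autoImplicit false

/-!
# Invariant subspaces of semisimple endomorphisms (helper24)

Setting: `f : J → F[X]` irreducible and pairwise coprime, `φ` an endomorphism of a
finite-dimensional `F`-space `V` with `(∏ f j)(φ) = 0`.

* `finrank_eq_sum_ker`: `dim V = ∑ dim ker f_j(φ)`.
* `invariant_mults`: a `φ`-invariant subspace `W` has `dim W = ∑ w_j`, `deg f_j ∣ w_j`,
  `w_j = dim (W ⊓ ker f_j(φ))`.
* `exists_compl_of_mult`: if `dim ker f_j(φ) = (a_j + b_j) deg f_j` there are complementary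
  invariant subspaces `U`, `W` on which `φ` has multiplicities `a`, `b`.
-/

namespace Cfsg.Agent.Lib.H24.Elus

open Polynomial Module
open Cfsg.Agent.Lib.H13

universe u v

variable {F : Type u} [Field F] {V : Type v} [AddCommGroup V] [Module F V]

theorem aeval_restrict_apply (φ : End F V) (W : Submodule F V) (hW : ∀ v ∈ W, φ v ∈ W)
    (p : F[X]) (w : W) :
    ((aeval (φ.restrict hW) p w : W) : V) = aeval φ p (w : V) :=
  SSClass.aeval_intertwine (φ.restrict hW) φ W.subtype (fun _ => rfl) p w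

theorem aeval_restrict_eq_zero_of (φ : End F V) (W : Submodule F V) (hW : ∀ v ∈ W, φ v ∈ W)
    (p : F[X]) (hp : aeval φ p = 0) : aeval (φ.restrict hW) p = 0 := by
  apply LinearMap.ext
  intro w
  apply Subtype.ext
  rw [aeval_restrict_apply, hp]
  rfl

theorem map_ker_restrict (φ : End F V) (W : Submodule F V) (hW : ∀ v ∈ W, φ v ∈ W)
    (p : F[X]) :
    (LinearMap.ker (aeval (φ.restrict hW) p)).map W.subtype = W ⊓ LinearMap.ker (aeval φ p) := by
  ext v
  rw [Submodule.mem_map, Submodule.mem_inf, LinearMap.mem_ker]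
  constructor
  · rintro ⟨w, hw, rfl⟩
    refine ⟨w.2, ?_⟩
    rw [LinearMap.mem_ker] at hw
    have := aeval_restrict_apply φ W hW p w
    rw [hw] at this
    exact this.symm
  · rintro ⟨hv, h0⟩
    refine ⟨⟨v, hv⟩, ?_, rfl⟩
    rw [LinearMap.mem_ker]
    apply Subtype.ext
    rw [aeval_restrict_apply]
    exact h0

theorem finrank_ker_restrict (φ : End F V) (W : Submodule F V) (hW : ∀ v ∈ W, φ v ∈ W)
    (p : F[X]) :
    finrank F (LinearMap.ker (aeval (φ.restrict hW) p)) =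
      finrank F ↥(W ⊓ LinearMap.ker (aeval φ p)) := by
  rw [← map_ker_restrict φ W hW p]
  exact (LinearEquiv.finrank_eq (Submodule.equivMapOfInjective W.subtype
    (Submodule.injective_subtype W) _))

variable {J : Type*} [Fintype J] [DecidableEq J]

theorem finrank_eq_sum_ker [Module.Finite F V] (f : J → F[X])
    (hcop : ∀ i j, i ≠ j → IsCoprime (f i) (f j)) (φ : End F V)
    (hφ : aeval φ (∏ j, f j) = 0) :
    finrank F V = ∑ j, finrank F (LinearMap.ker (aeval φ (f j))) :=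
  SSClass.finrank_eq_sum (SSClass.isInternal f hcop φ hφ)

theorem dvd_finrank_ker [Module.Finite F V] (f : J → F[X]) (hirr : ∀ j, Irreducible (f j))
    (φ : End F V) (j : J) : (f j).natDegree ∣ finrank F (LinearMap.ker (aeval φ (f j))) :=
  SSClass.natDegree_dvd_finrank (f j) (hirr j) _ (SSClass.aeval_restrict_eq_zero φ (f j))

/-- the dimension data of an invariant subspace -/
theorem invariant_mults [Module.Finite F V] (f : J → F[X]) (hirr : ∀ j, Irreducible (f j))
    (hcop : ∀ i j, i ≠ j → IsCoprime (f i) (f j)) (φ : End F V)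
    (hφ : aeval φ (∏ j, f j) = 0) (W : Submodule F V) (hW : ∀ v ∈ W, φ v ∈ W) :
    (∑ j, finrank F ↥(W ⊓ LinearMap.ker (aeval φ (f j))) = finrank F W) ∧
      ∀ j, (f j).natDegree ∣ finrank F ↥(W ⊓ LinearMap.ker (aeval φ (f j))) := by
  constructor
  · rw [finrank_eq_sum_ker f hcop (φ.restrict hW) (aeval_restrict_eq_zero_of φ W hW _ hφ)]
    exact Finset.sum_congr rfl (fun j _ => (finrank_ker_restrict φ W hW (f j)).symm)
  · intro j
    rw [← finrank_ker_restrict φ W hW (f j)]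
    exact dvd_finrank_ker f hirr (φ.restrict hW) j

section prodmodel

variable {V₁ : Type*} [AddCommGroup V₁] [Module F V₁] {V₂ : Type*} [AddCommGroup V₂]
  [Module F V₂]

theorem aeval_prodMap_apply (ψ₁ : End F V₁) (ψ₂ : End F V₂) (p : F[X]) (v : V₁ × V₂) :
    aeval (ψ₁.prodMap ψ₂) p v = (aeval ψ₁ p v.1, aeval ψ₂ p v.2) := by
  have h1 := SSClass.aeval_intertwine (ψ₁.prodMap ψ₂) ψ₁ (LinearMap.fst F V₁ V₂)
    (fun _ => rfl) p v
  have h2 := SSClass.aeval_intertwine (ψ₁.prodMap ψ₂) ψ₂ (LinearMap.snd F V₁ V₂)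
    (fun _ => rfl) p v
  exact Prod.ext h1 h2

theorem aeval_prodMap (ψ₁ : End F V₁) (ψ₂ : End F V₂) (p : F[X]) :
    aeval (ψ₁.prodMap ψ₂) p = (aeval ψ₁ p).prodMap (aeval ψ₂ p) :=
  LinearMap.ext (aeval_prodMap_apply ψ₁ ψ₂ p)

theorem finrank_submodule_prod [Module.Finite F V₁] [Module.Finite F V₂] (p : Submodule F V₁)
    (q : Submodule F V₂) : finrank F ↥(p.prod q) = finrank F p + finrank F q := by
  let φ : (p × q) ≃ₗ[F] ↥(p.prod q) :=
    { toFun := fun z => ⟨(z.1.1, z.2.1), ⟨z.1.2, z.2.2⟩⟩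
      map_add' := fun _ _ => rfl
      map_smul' := fun _ _ => rfl
      invFun := fun z => (⟨z.1.1, z.2.1⟩, ⟨z.1.2, z.2.2⟩)
      left_inv := fun _ => rfl
      right_inv := fun _ => rfl }
  rw [← φ.finrank_eq, Module.finrank_prod]

theorem finrank_ker_aeval_prodMap [Module.Finite F V₁] [Module.Finite F V₂] (ψ₁ : End F V₁)
    (ψ₂ : End F V₂) (p : F[X]) :
    finrank F (LinearMap.ker (aeval (ψ₁.prodMap ψ₂) p)) =
      finrank F (LinearMap.ker (aeval ψ₁ p)) + finrank F (LinearMap.ker (aeval ψ₂ p)) := by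
  rw [aeval_prodMap, LinearMap.ker_prodMap, finrank_submodule_prod]

end prodmodel

/-- transport of the multiplicities along an injective intertwiner onto an invariant subspace -/
theorem finrank_ker_restrict_of_range {V₁ : Type*} [AddCommGroup V₁] [Module F V₁]
    (φ : End F V) (ψ : End F V₁) (ι : V₁ →ₗ[F] V) (hι : Function.Injective ι)
    (hint : ∀ v, ι (ψ v) = φ (ι v)) (hW : ∀ v ∈ LinearMap.range ι, φ v ∈ LinearMap.range ι)
    (p : F[X]) :
    finrank F (LinearMap.ker (aeval (φ.restrict hW) p)) =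
      finrank F (LinearMap.ker (aeval ψ p)) := by
  let e : V₁ ≃ₗ[F] LinearMap.range ι := LinearEquiv.ofInjective ι hι
  symm
  apply SSClass.finrank_ker_eq_of_equiv ψ (φ.restrict hW) e
  intro v
  apply Subtype.ext
  show ι (ψ v) = φ (ι v)
  exact hint v

theorem range_invariant_of_intertwine {V₁ : Type*} [AddCommGroup V₁] [Module F V₁]
    (φ : End F V) (ψ : End F V₁) (ι : V₁ →ₗ[F] V) (hint : ∀ v, ι (ψ v) = φ (ι v)) :
    ∀ v ∈ LinearMap.range ι, φ v ∈ LinearMap.range ι := by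
  rintro _ ⟨w, rfl⟩
  exact ⟨ψ w, hint w⟩

/-- complementary invariant subspaces from a product decomposition -/
theorem exists_compl_of_equiv {V₁ : Type*} [AddCommGroup V₁] [Module F V₁] {V₂ : Type*}
    [AddCommGroup V₂] [Module F V₂] (φ : End F V) (ψ₁ : End F V₁) (ψ₂ : End F V₂)
    (g : V ≃ₗ[F] V₁ × V₂) (hg : ∀ v, g (φ v) = (ψ₁.prodMap ψ₂) (g v)) :
    ∃ (U W : Submodule F V) (hU : ∀ v ∈ U, φ v ∈ U) (hW : ∀ v ∈ W, φ v ∈ W), IsCompl U W ∧
      (∀ p : F[X], finrank F (LinearMap.ker (aeval (φ.restrict hU) p)) =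
        finrank F (LinearMap.ker (aeval ψ₁ p))) ∧
      (∀ p : F[X], finrank F (LinearMap.ker (aeval (φ.restrict hW) p)) =
        finrank F (LinearMap.ker (aeval ψ₂ p))) := by
  let gs : V₁ × V₂ →ₗ[F] V := g.symm.toLinearMap
  let ι₁ : V₁ →ₗ[F] V := gs ∘ₗ LinearMap.inl F V₁ V₂
  let ι₂ : V₂ →ₗ[F] V := gs ∘ₗ LinearMap.inr F V₁ V₂
  have hgs : ∀ w, g.symm ((ψ₁.prodMap ψ₂) w) = φ (g.symm w) := by
    intro w
    apply g.injective
    rw [hg, g.apply_symm_apply, g.apply_symm_apply]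
  have hι₁ : Function.Injective ι₁ := g.symm.injective.comp LinearMap.inl_injective
  have hι₂ : Function.Injective ι₂ := g.symm.injective.comp LinearMap.inr_injective
  have hint₁ : ∀ v, ι₁ (ψ₁ v) = φ (ι₁ v) := by
    intro v
    show g.symm (ψ₁ v, 0) = φ (g.symm (v, 0))
    rw [← hgs]
    simp
  have hint₂ : ∀ v, ι₂ (ψ₂ v) = φ (ι₂ v) := by
    intro v
    show g.symm (0, ψ₂ v) = φ (g.symm (0, v))
    rw [← hgs]
    simp
  have hU := range_invariant_of_intertwine φ ψ₁ ι₁ hint₁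
  have hW := range_invariant_of_intertwine φ ψ₂ ι₂ hint₂
  refine ⟨LinearMap.range ι₁, LinearMap.range ι₂, hU, hW, ?_, ?_, ?_⟩
  · have h1 : LinearMap.range ι₁ = (LinearMap.range (LinearMap.inl F V₁ V₂)).map gs :=
      LinearMap.range_comp _ _
    have h2 : LinearMap.range ι₂ = (LinearMap.range (LinearMap.inr F V₁ V₂)).map gs :=
      LinearMap.range_comp _ _
    rw [h1, h2]
    exact (LinearMap.isCompl_range_inl_inr).map (Submodule.orderIsoMapComap g.symm)
  · intro p
    exact finrank_ker_restrict_of_range φ ψ₁ ι₁ hι₁ hint₁ hU p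
  · intro p
    exact finrank_ker_restrict_of_range φ ψ₂ ι₂ hι₂ hint₂ hW p

/-- complementary invariant subspaces with prescribed multiplicities -/
theorem exists_compl_of_mult [Module.Finite F V] (f : J → F[X]) (hirr : ∀ j, Irreducible (f j))
    (hcop : ∀ i j, i ≠ j → IsCoprime (f i) (f j)) (φ : End F V)
    (hφ : aeval φ (∏ j, f j) = 0) (a b : J → ℕ)
    (hab : ∀ j, finrank F (LinearMap.ker (aeval φ (f j))) = (a j + b j) * (f j).natDegree) :
    ∃ (U W : Submodule F V) (hU : ∀ v ∈ U, φ v ∈ U) (hW : ∀ v ∈ W, φ v ∈ W), IsCompl U W ∧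
      (∀ j, finrank F (LinearMap.ker (aeval (φ.restrict hU) (f j))) = a j * (f j).natDegree) ∧
      (∀ j, finrank F (LinearMap.ker (aeval (φ.restrict hW) (f j))) = b j * (f j).natDegree) := by
  obtain ⟨ψ₁, hψ₁, hm₁⟩ := SSClass.exists_end (V := Fin (∑ j, a j * (f j).natDegree) → F) f hirr
    hcop a (by rw [Module.finrank_fintype_fun_eq_card, Fintype.card_fin])
  obtain ⟨ψ₂, hψ₂, hm₂⟩ := SSClass.exists_end (V := Fin (∑ j, b j * (f j).natDegree) → F) f hirr
    hcop b (by rw [Module.finrank_fintype_fun_eq_card, Fintype.card_fin])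
  have hΨ : aeval (ψ₁.prodMap ψ₂) (∏ j, f j) = 0 := by
    rw [aeval_prodMap, hψ₁, hψ₂]
    exact LinearMap.prodMap_zero
  obtain ⟨g, hg⟩ := SSClass.exists_equiv f hirr hcop φ (ψ₁.prodMap ψ₂) hφ hΨ (by
    intro j
    rw [finrank_ker_aeval_prodMap, hm₁, hm₂, hab, add_mul])
  obtain ⟨U, W, hU, hW, hc, h1, h2⟩ := exists_compl_of_equiv φ ψ₁ ψ₂ g hg
  refine ⟨U, W, hU, hW, hc, fun j => ?_, fun j => ?_⟩
  · rw [h1, hm₁]
  · rw [h2, hm₂]

/-- the dimension of an invariant subspace from its multiplicities -/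
theorem finrank_of_mults [Module.Finite F V] (f : J → F[X])
    (hcop : ∀ i j, i ≠ j → IsCoprime (f i) (f j)) (φ : End F V)
    (hφ : aeval φ (∏ j, f j) = 0) (W : Submodule F V) (hW : ∀ v ∈ W, φ v ∈ W) :
    finrank F W = ∑ j, finrank F (LinearMap.ker (aeval (φ.restrict hW) (f j))) :=
  finrank_eq_sum_ker f hcop (φ.restrict hW) (aeval_restrict_eq_zero_of φ W hW _ hφ)

end Cfsg.Agent.Lib.H24.Elus
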