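import Mathlib
import Cfsg.Agent.Lib.H24.ElusSpForm
import Cfsg.Agent.Lib.H24.ElusSS

set_option autoImplicit false

/-!
# Isometries of finite order of an alternating form (helper24)

For an isometry `y` of an alternating form `B` with `y ^ r = 1`:
* the adjoint of a polynomial in `y` (`adj_aeval`);
* invariance of orthogonal complements (`orth_invariant`);
* the splitting of an invariant subspace along coprime factors of a polynomial killing `y`
  (`split_coprime`) and the orthogonality of the pieces (`ker_orth`);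
* the orthogonal splitting `U = (U ⊓ Fix) ⊥ (U ⊓ ker Φ_r(y))` for `r` prime, `r ≠ char`.
-/

namespace Cfsg.Agent.Lib.H24.Elus

open Polynomial Module

section iso

variable {F : Type*} [Field F] {V : Type*} [AddCommGroup V] [Module F V]
variable (B : LinearMap.BilinForm F V) (y : End F V)

theorem aeval_mem_of_invariant (U : Submodule F V) (hU : ∀ v ∈ U, y v ∈ U) (p : F[X]) (u : V)
    (hu : u ∈ U) : aeval y p u ∈ U := by
  have := aeval_restrict_apply y U hU p ⟨u, hu⟩
  rw [← this]
  exact Subtype.property _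

theorem pow_mem_of_invariant (U : Submodule F V) (hU : ∀ v ∈ U, y v ∈ U) (k : ℕ) (u : V)
    (hu : u ∈ U) : (y ^ k) u ∈ U := by
  induction k with
  | zero => simpa using hu
  | succ k ih =>
    rw [pow_succ', Module.End.mul_apply]
    exact hU _ ih

/-- the adjoint of a polynomial -/
theorem adj_aeval (y' : End F V) (hadj : ∀ u w, B (y u) w = B u (y' w)) (p : F[X]) (u w : V) :
    B (aeval y p u) w = B u (aeval y' p w) := by
  have hpow : ∀ (n : ℕ) (u w : V), B ((y ^ n) u) w = B u ((y' ^ n) w) := by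
    intro n
    induction n with
    | zero => intro u w; rfl
    | succ n ih =>
      intro u w
      rw [pow_succ', Module.End.mul_apply, hadj, ih, pow_succ, Module.End.mul_apply]
  induction p using Polynomial.induction_on' with
  | add a b ha hb =>
    simp only [map_add, LinearMap.add_apply, ha, hb]
  | monomial n c =>
    rw [← C_mul_X_pow_eq_monomial, map_mul, map_mul, aeval_C, aeval_C, map_pow, map_pow, aeval_X,
      aeval_X]
    simp only [Module.End.mul_apply, Module.algebraMap_end_apply, map_smul, LinearMap.smul_apply]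
    rw [hpow]

variable {B y}

theorem pow_iso (hiso : ∀ u v, B (y u) (y v) = B u v) (k : ℕ) (u v : V) :
    B ((y ^ k) u) ((y ^ k) v) = B u v := by
  induction k with
  | zero => rfl
  | succ k ih => rw [pow_succ', Module.End.mul_apply, Module.End.mul_apply, hiso, ih]

theorem pow_pred_mul {r : ℕ} (hr : 0 < r) (hy : y ^ r = 1) (v : V) : y ((y ^ (r - 1)) v) = v := by
  rw [← Module.End.mul_apply, ← pow_succ', Nat.sub_add_cancel hr, hy, Module.End.one_apply]

theorem mul_pow_pred {r : ℕ} (hr : 0 < r) (hy : y ^ r = 1) (v : V) : (y ^ (r - 1)) (y v) = v := by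
  rw [← Module.End.mul_apply, ← pow_succ, Nat.sub_add_cancel hr, hy, Module.End.one_apply]

theorem injective_of_pow {r : ℕ} (hr : 0 < r) (hy : y ^ r = 1) : Function.Injective y :=
  Function.LeftInverse.injective (g := (y ^ (r - 1))) (mul_pow_pred hr hy)

theorem adj_pow_pred (hiso : ∀ u v, B (y u) (y v) = B u v) {r : ℕ} (hr : 0 < r) (hy : y ^ r = 1)
    (u w : V) : B (y u) w = B u ((y ^ (r - 1)) w) := by
  conv_lhs => rw [← pow_pred_mul hr hy w]
  rw [hiso]

theorem adj_pow_pred' (hiso : ∀ u v, B (y u) (y v) = B u v) {r : ℕ} (hr : 0 < r) (hy : y ^ r = 1)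
    (u w : V) : B ((y ^ (r - 1)) u) w = B u (y w) := by
  conv_rhs => rw [← pow_pred_mul hr hy u]
  rw [hiso]

/-- the orthogonal complement of an invariant subspace is invariant -/
theorem orth_invariant (hiso : ∀ u v, B (y u) (y v) = B u v) {r : ℕ} (hr : 0 < r)
    (hy : y ^ r = 1) (U : Submodule F V) (hU : ∀ v ∈ U, y v ∈ U) :
    ∀ v ∈ B.orthogonal U, y v ∈ B.orthogonal U := by
  intro v hv u hu
  show B u (y v) = 0
  rw [← adj_pow_pred' hiso hr hy]
  exact hv _ (pow_mem_of_invariant y U hU (r - 1) u hu)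

theorem inf_orth_invariant (hiso : ∀ u v, B (y u) (y v) = B u v) {r : ℕ} (hr : 0 < r)
    (hy : y ^ r = 1) (U A : Submodule F V) (hU : ∀ v ∈ U, y v ∈ U) (hA : ∀ v ∈ A, y v ∈ A) :
    ∀ v ∈ U ⊓ B.orthogonal A, y v ∈ U ⊓ B.orthogonal A := by
  intro v hv
  rw [Submodule.mem_inf] at hv ⊢
  exact ⟨hU v hv.1, orth_invariant hiso hr hy A hA v hv.2⟩

theorem sup_invariant (U A : Submodule F V) (hU : ∀ v ∈ U, y v ∈ U) (hA : ∀ v ∈ A, y v ∈ A) :
    ∀ v ∈ U ⊔ A, y v ∈ U ⊔ A := by
  intro v hv
  obtain ⟨u, hu, a, ha, rfl⟩ := Submodule.mem_sup.mp hv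
  rw [map_add]
  exact Submodule.add_mem _ (Submodule.mem_sup_left (hU u hu)) (Submodule.mem_sup_right (hA a ha))

theorem inf_ker_invariant (U : Submodule F V) (hU : ∀ v ∈ U, y v ∈ U) (p : F[X]) :
    ∀ v ∈ U ⊓ LinearMap.ker (aeval y p), y v ∈ U ⊓ LinearMap.ker (aeval y p) := by
  intro v hv
  rw [Submodule.mem_inf] at hv ⊢
  exact ⟨hU v hv.1, Cfsg.Agent.Lib.H13.SSClass.ker_aeval_invariant y p v hv.2⟩

/-- splitting an invariant subspace along coprime factors -/
theorem split_coprime (p₁ p₂ : F[X]) (hcop : IsCoprime p₁ p₂) (hprod : aeval y (p₁ * p₂) = 0)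
    (U : Submodule F V) (hU : ∀ v ∈ U, y v ∈ U) :
    U ≤ (U ⊓ LinearMap.ker (aeval y p₁)) ⊔ (U ⊓ LinearMap.ker (aeval y p₂)) := by
  obtain ⟨a, b, hab⟩ := hcop
  intro u hu
  have h1 : u = aeval y (b * p₂) u + aeval y (a * p₁) u := by
    rw [← LinearMap.add_apply, ← map_add, add_comm, hab, map_one, Module.End.one_apply]
  rw [h1]
  apply Submodule.add_mem
  · apply Submodule.mem_sup_left
    rw [Submodule.mem_inf, LinearMap.mem_ker]
    refine ⟨aeval_mem_of_invariant y U hU _ u hu, ?_⟩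
    rw [← Module.End.mul_apply, ← map_mul]
    have : p₁ * (b * p₂) = b * (p₁ * p₂) := by ring
    rw [this, map_mul, hprod, mul_zero, LinearMap.zero_apply]
  · apply Submodule.mem_sup_right
    rw [Submodule.mem_inf, LinearMap.mem_ker]
    refine ⟨aeval_mem_of_invariant y U hU _ u hu, ?_⟩
    rw [← Module.End.mul_apply, ← map_mul]
    have : p₂ * (a * p₁) = a * (p₁ * p₂) := by ring
    rw [this, map_mul, hprod, mul_zero, LinearMap.zero_apply]

/-- orthogonality of the kernels of coprime polynomials, the first of which is self-dual -/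
theorem ker_orth (halt : ∀ v, B v v = 0) (y' : End F V) (hadj : ∀ u w, B (y u) w = B u (y' w))
    (p₁ p₂ : F[X]) (hcop : IsCoprime p₁ p₂)
    (hself : ∀ u, aeval y p₁ u = 0 → aeval y' p₁ u = 0) (u w : V)
    (hu : aeval y p₁ u = 0) (hw : aeval y p₂ w = 0) : B u w = 0 := by
  obtain ⟨a, b, hab⟩ := hcop
  have h1 : w = aeval y p₁ (aeval y a w) := by
    have h2 : w = aeval y (a * p₁) w + aeval y (b * p₂) w := by
      rw [← LinearMap.add_apply, ← map_add, hab, map_one, Module.End.one_apply]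
    have h3 : aeval y (b * p₂) w = 0 := by
      rw [map_mul (aeval y), Module.End.mul_apply, hw, map_zero]
    have h4 : aeval y (a * p₁) w = aeval y p₁ (aeval y a w) := by
      rw [mul_comm a p₁, map_mul (aeval y), Module.End.mul_apply]
    rw [h3, h4, add_zero] at h2
    exact h2
  have hadj' : ∀ u w, B (y' u) w = B u (y w) := by
    intro u w
    rw [alt_swap B halt, ← hadj, alt_swap B halt, neg_neg]
  rw [h1, ← adj_aeval B y' y hadj', hself u hu, map_zero, LinearMap.zero_apply]

end iso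

section cyc

variable {F : Type*} [Field F] {V : Type*} [AddCommGroup V] [Module F V]
variable {B : LinearMap.BilinForm F V} {y : End F V}

theorem aeval_pow_sub_one_of_pow {r : ℕ} (hy : y ^ r = 1) : aeval y (X ^ r - 1 : F[X]) = 0 := by
  rw [map_sub, map_pow, aeval_X, map_one, hy, sub_self]

theorem isCoprime_sub_one_cyclotomic {r : ℕ} [Fact r.Prime] (hr0 : (r : F) ≠ 0) :
    IsCoprime (X - 1 : F[X]) (cyclotomic r F) := by
  apply Separable.isCoprime
  rw [mul_comm, cyclotomic_prime_mul_X_sub_one]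
  have := separable_X_pow_sub_C (1 : F) hr0 one_ne_zero
  rwa [map_one] at this

theorem aeval_sub_one_mul_cyclotomic {r : ℕ} [Fact r.Prime] (hy : y ^ r = 1) :
    aeval y ((X - 1 : F[X]) * cyclotomic r F) = 0 := by
  rw [mul_comm, cyclotomic_prime_mul_X_sub_one]
  exact aeval_pow_sub_one_of_pow hy

theorem mem_fix_iff (v : V) : v ∈ LinearMap.ker (aeval y (X - 1 : F[X])) ↔ y v = v := by
  rw [LinearMap.mem_ker, map_sub, aeval_X, map_one, LinearMap.sub_apply, Module.End.one_apply,
    sub_eq_zero]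

theorem pow_apply_of_fix (v : V) (hv : y v = v) (k : ℕ) : (y ^ k) v = v := by
  induction k with
  | zero => rfl
  | succ k ih => rw [pow_succ, Module.End.mul_apply, hv, ih]

/-- the fixed space is orthogonal to the kernel of the cyclotomic polynomial -/
theorem fix_orth_cyc (halt : ∀ v, B v v = 0) (hiso : ∀ u v, B (y u) (y v) = B u v) {r : ℕ}
    [Fact r.Prime] (hr0 : (r : F) ≠ 0) (hy : y ^ r = 1) (u w : V)
    (hu : u ∈ LinearMap.ker (aeval y (X - 1 : F[X])))
    (hw : w ∈ LinearMap.ker (aeval y (cyclotomic r F))) : B u w = 0 := by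
  have hr : 0 < r := (Fact.out : r.Prime).pos
  apply ker_orth halt (y ^ (r - 1)) (adj_pow_pred hiso hr hy) (X - 1) (cyclotomic r F)
    (isCoprime_sub_one_cyclotomic hr0) ?_ u w hu hw
  intro v hv
  have hv' : y v = v := (mem_fix_iff v).mp hv
  rw [map_sub, aeval_X, map_one, LinearMap.sub_apply, Module.End.one_apply,
    pow_apply_of_fix v hv', sub_self]

theorem fix_inf_cyc {r : ℕ} [Fact r.Prime] (hr0 : (r : F) ≠ 0) :
    LinearMap.ker (aeval y (X - 1 : F[X])) ⊓ LinearMap.ker (aeval y (cyclotomic r F)) = ⊥ :=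
  (disjoint_ker_aeval_of_isCoprime y (isCoprime_sub_one_cyclotomic hr0)).eq_bot

variable [FiniteDimensional F V]

/-- an invariant nondegenerate subspace splits orthogonally into its fixed part and the rest -/
theorem split_fix {r : ℕ} [Fact r.Prime] (hr0 : (r : F) ≠ 0) (hy : y ^ r = 1)
    (U : Submodule F V) (hU : ∀ v ∈ U, y v ∈ U) :
    U ≤ (U ⊓ LinearMap.ker (aeval y (X - 1 : F[X]))) ⊔
      (U ⊓ LinearMap.ker (aeval y (cyclotomic r F))) :=
  split_coprime (X - 1) (cyclotomic r F) (isCoprime_sub_one_cyclotomic hr0)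
    (aeval_sub_one_mul_cyclotomic hy) U hU

theorem NDon_fix_part (halt : ∀ v, B v v = 0) (hiso : ∀ u v, B (y u) (y v) = B u v) {r : ℕ}
    [Fact r.Prime] (hr0 : (r : F) ≠ 0) (hy : y ^ r = 1) (U : Submodule F V)
    (hU : ∀ v ∈ U, y v ∈ U) (hnd : NDon B U) :
    NDon B (U ⊓ LinearMap.ker (aeval y (X - 1 : F[X]))) := by
  apply NDon_of_sup_orth B U _ (U ⊓ LinearMap.ker (aeval y (cyclotomic r F))) hnd inf_le_left
    (split_fix hr0 hy U hU)
  intro u hu w hw
  exact fix_orth_cyc halt hiso hr0 hy u w (Submodule.mem_inf.mp hu).2 (Submodule.mem_inf.mp hw).2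

theorem NDon_cyc_part (halt : ∀ v, B v v = 0) (hiso : ∀ u v, B (y u) (y v) = B u v) {r : ℕ}
    [Fact r.Prime] (hr0 : (r : F) ≠ 0) (hy : y ^ r = 1) (U : Submodule F V)
    (hU : ∀ v ∈ U, y v ∈ U) (hnd : NDon B U) :
    NDon B (U ⊓ LinearMap.ker (aeval y (cyclotomic r F))) := by
  apply NDon_of_sup_orth B U _ (U ⊓ LinearMap.ker (aeval y (X - 1 : F[X]))) hnd inf_le_left
  · rw [sup_comm]
    exact split_fix hr0 hy U hU
  · intro u hu w hw
    exact alt_swap_zero B halt (fix_orth_cyc halt hiso hr0 hy w u (Submodule.mem_inf.mp hw).2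
      (Submodule.mem_inf.mp hu).2)

theorem finrank_split_fix {r : ℕ} [Fact r.Prime] (hr0 : (r : F) ≠ 0) (hy : y ^ r = 1)
    (U : Submodule F V) (hU : ∀ v ∈ U, y v ∈ U) :
    finrank F ↥(U ⊓ LinearMap.ker (aeval y (X - 1 : F[X]))) +
      finrank F ↥(U ⊓ LinearMap.ker (aeval y (cyclotomic r F))) = finrank F U := by
  have h := Submodule.finrank_sup_add_finrank_inf_eq
    (U ⊓ LinearMap.ker (aeval y (X - 1 : F[X]))) (U ⊓ LinearMap.ker (aeval y (cyclotomic r F)))
  have h1 : (U ⊓ LinearMap.ker (aeval y (X - 1 : F[X]))) ⊔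
      (U ⊓ LinearMap.ker (aeval y (cyclotomic r F))) = U :=
    le_antisymm (sup_le inf_le_left inf_le_left) (split_fix hr0 hy U hU)
  have h2 : (U ⊓ LinearMap.ker (aeval y (X - 1 : F[X]))) ⊓
      (U ⊓ LinearMap.ker (aeval y (cyclotomic r F))) = ⊥ := by
    rw [eq_bot_iff, ← fix_inf_cyc (y := y) hr0]
    exact inf_le_inf inf_le_right inf_le_right
  rw [h1, h2, finrank_bot, add_zero] at h
  exact h.symm

end cyc

end Cfsg.Agent.Lib.H24.Elus
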