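import Mathlib
import Cfsg.Agent.Lib.H24.ElusSpIso
import Cfsg.Agent.Lib.H24.ElusInv

set_option autoImplicit false

/-!
# Minimal nondegenerate invariant subspaces (helper24)

For an isometry `y` of order `r` (an odd prime different from the characteristic) of an
alternating form over the field with `q` elements, every nonzero nondegenerate invariant subspace
without fixed vectors contains a nondegenerate invariant subspace of dimension `c`, where
`c = i` if `i = ord_r q` is even and `c = 2 i` otherwise (`exists_atom`).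
-/

namespace Cfsg.Agent.Lib.H24.Elus

open Polynomial Module
open Cfsg.Agent.Lib.H13

section cycsub

variable {F : Type*} [Field F] {V : Type*} [AddCommGroup V] [Module F V]

/-- evaluation of polynomials in `y` at the vector `u` -/
noncomputable def evalAt (y : End F V) (u : V) : F[X] →ₗ[F] V :=
  (LinearMap.applyₗ u : End F V →ₗ[F] V) ∘ₗ (aeval y : F[X] →ₐ[F] End F V).toLinearMap

theorem evalAt_apply (y : End F V) (u : V) (p : F[X]) : evalAt y u p = aeval y p u := rfl

/-- the cyclic subspace generated by `u` -/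
noncomputable def cycSub (y : End F V) (u : V) : Submodule F V := LinearMap.range (evalAt y u)

theorem mem_cycSub (y : End F V) (u v : V) : v ∈ cycSub y u ↔ ∃ p : F[X], aeval y p u = v :=
  Iff.rfl

theorem self_mem_cycSub (y : End F V) (u : V) : u ∈ cycSub y u :=
  ⟨1, by rw [evalAt_apply, map_one, Module.End.one_apply]⟩

theorem cycSub_invariant (y : End F V) (u : V) : ∀ v ∈ cycSub y u, y v ∈ cycSub y u := by
  rintro _ ⟨p, rfl⟩
  refine ⟨X * p, ?_⟩
  rw [evalAt_apply, evalAt_apply, map_mul, aeval_X, Module.End.mul_apply]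

theorem cycSub_le (y : End F V) (u : V) (U : Submodule F V) (hU : ∀ v ∈ U, y v ∈ U)
    (hu : u ∈ U) : cycSub y u ≤ U := by
  rintro _ ⟨p, rfl⟩
  exact aeval_mem_of_invariant y U hU p u hu

theorem cycSub_le_ker (y : End F V) (u : V) (g : F[X]) (hg : aeval y g u = 0) :
    cycSub y u ≤ LinearMap.ker (aeval y g) := by
  rintro _ ⟨p, rfl⟩
  rw [LinearMap.mem_ker, evalAt_apply, ← Module.End.mul_apply, ← map_mul, mul_comm, map_mul,
    Module.End.mul_apply, hg, map_zero]

theorem finrank_cycSub_le [Module.Finite F V] (y : End F V) (u : V) (g : F[X]) (hg : g.Monic)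
    (hgu : aeval y g u = 0) : finrank F (cycSub y u) ≤ g.natDegree := by
  have h1 : cycSub y u ≤ (degreeLT F g.natDegree).map (evalAt y u) := by
    rintro _ ⟨p, rfl⟩
    refine ⟨p %ₘ g, ?_, ?_⟩
    · rw [SetLike.mem_coe, mem_degreeLT]
      by_cases h1 : g = 1
      · rw [h1, modByMonic_one, degree_zero]
        exact WithBot.bot_lt_coe _
      · exact (degree_modByMonic_lt p hg).trans_le degree_le_natDegree
    · have h2 := modByMonic_add_div p g
      conv_rhs => rw [← h2]
      rw [evalAt_apply, evalAt_apply, map_add, LinearMap.add_apply, mul_comm, map_mul,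
        Module.End.mul_apply, hgu, map_zero, add_zero]
  refine (Submodule.finrank_mono h1).trans ((Submodule.finrank_map_le _ _).trans ?_)
  rw [LinearEquiv.finrank_eq (degreeLTEquiv F g.natDegree), Module.finrank_fin_fun]

end cycsub

section zmod

theorem dvd_pow_half_add_one (q r : ℕ) [Fact r.Prime] (hi : Even (orderOf (q : ZMod r)))
    (hi0 : 0 < orderOf (q : ZMod r)) : r ∣ q ^ (orderOf (q : ZMod r) / 2) + 1 := by
  obtain ⟨m, hm⟩ := hi
  have hm0 : 0 < m := by omega
  have hdiv : orderOf (q : ZMod r) / 2 = m := by omega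
  rw [hdiv]
  have h1 : ((q : ZMod r) ^ m) * ((q : ZMod r) ^ m) = 1 := by
    rw [← pow_add, ← hm, pow_orderOf_eq_one]
  have h2 : (q : ZMod r) ^ m ≠ 1 := pow_ne_one_of_lt_orderOf hm0.ne' (by omega)
  have h3 : (q : ZMod r) ^ m = -1 := by
    rcases mul_self_eq_one_iff.mp h1 with h | h
    · exact absurd h h2
    · exact h
  rw [← ZMod.natCast_eq_zero_iff, Nat.cast_add, Nat.cast_pow, h3, Nat.cast_one, neg_add_cancel]

end zmod

section frob

variable {F : Type*} [Field F] [Fintype F] {V : Type*} [AddCommGroup V] [Module F V]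

theorem expand_card_pow (m : ℕ) (g : F[X]) :
    expand F (Fintype.card F ^ m) g = g ^ (Fintype.card F ^ m) := by
  induction m with
  | zero => rw [pow_zero, expand_one, pow_one]
  | succ m ih =>
    rw [pow_succ, mul_comm, ← expand_expand, ih, map_pow, FiniteField.expand_card, ← pow_mul,
      mul_comm]

theorem aeval_pow_card_pow (y : End F V) (m : ℕ) (g : F[X]) :
    aeval (y ^ (Fintype.card F ^ m)) g = (aeval y g) ^ (Fintype.card F ^ m) := by
  rw [← expand_aeval, expand_card_pow, map_pow]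

end frob

section atom

variable {F : Type*} [Field F] [Fintype F] {p q : ℕ} [Fact p.Prime] [CharP F p]
  {V : Type*} [AddCommGroup V] [Module F V] [Module.Finite F V]
  {B : LinearMap.BilinForm F V} {y : End F V}

/-- invariant subspaces without fixed vectors have dimension divisible by `ord_r q` -/
theorem dvd_finrank_of_le_cyc (hF : Fintype.card F = q) {r : ℕ} [Fact r.Prime] (hrp : r ≠ p)
    (hy : y ^ r = 1) (W : Submodule F V) (hW : ∀ v ∈ W, y v ∈ W)
    (hWc : W ≤ LinearMap.ker (aeval y (cyclotomic r F))) :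
    orderOf (q : ZMod r) ∣ finrank F W := by
  classical
  have hr : r.Prime := Fact.out
  have h := mod_of_invariant hF hr hrp y (aeval_pow_sub_one_of_pow hy) W hW
  have h0 : W ⊓ LinearMap.ker (aeval y (X - 1 : F[X])) = ⊥ := by
    rw [eq_bot_iff, ← fix_inf_cyc (y := y) (r := r) (CycFactor.natCast_ne_zero hr hrp), inf_comm]
    exact inf_le_inf_left _ hWc
  rw [h0, finrank_bot, Nat.zero_mod] at h
  exact Nat.dvd_of_mod_eq_zero h

/-- a nonzero invariant subspace without fixed vectors meets the kernel of an irreducible factor -/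
theorem exists_factor [DecidableEq F] (hF : Fintype.card F = q) {r : ℕ} [Fact r.Prime]
    (hrp : r ≠ p) (hy : y ^ r = 1) (U : Submodule F V) (hU : ∀ v ∈ U, y v ∈ U)
    (hUc : U ≤ LinearMap.ker (aeval y (cyclotomic r F))) (hne : U ≠ ⊥) :
    ∃ s : CycFactor.S r F, U ⊓ LinearMap.ker (aeval y s.1) ≠ ⊥ := by
  have hr : r.Prime := Fact.out
  have hirr := CycFactor.irreducible_fJ (F := F) (r := r)
  have hcop := CycFactor.coprime_fJ (F := F) hr hrp
  have hφ' : aeval y (∏ j, CycFactor.fJ (F := F) r j) = 0 := by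
    rw [CycFactor.prod_fJ hr hrp]; exact aeval_pow_sub_one_of_pow hy
  obtain ⟨h1, -⟩ := invariant_mults (CycFactor.fJ (F := F) r) hirr hcop y hφ' U hU
  rw [Fintype.sum_option] at h1
  have h0 : U ⊓ LinearMap.ker (aeval y (CycFactor.fJ (F := F) r none)) = ⊥ := by
    show U ⊓ LinearMap.ker (aeval y (X - 1 : F[X])) = ⊥
    rw [eq_bot_iff, ← fix_inf_cyc (y := y) (r := r) (CycFactor.natCast_ne_zero hr hrp), inf_comm]
    exact inf_le_inf_left _ hUc
  rw [h0, finrank_bot, zero_add] at h1
  by_contra hcon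
  push Not at hcon
  apply hne
  rw [← Submodule.finrank_eq_zero, ← h1]
  apply Finset.sum_eq_zero
  intro s _
  show finrank F ↥(U ⊓ LinearMap.ker (aeval y s.1)) = 0
  rw [hcon s, finrank_bot]

/-- the cyclic subspace of a nonzero vector killed by an irreducible factor is irreducible -/
theorem finrank_cycSub [DecidableEq F] (hF : Fintype.card F = q) {r : ℕ} [Fact r.Prime]
    (hrp : r ≠ p) (hy : y ^ r = 1) (s : CycFactor.S r F) (u : V) (hu0 : u ≠ 0)
    (hu : aeval y s.1 u = 0) : finrank F (cycSub y u) = orderOf (q : ZMod r) := by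
  have hr : r.Prime := Fact.out
  have h1 := finrank_cycSub_le y u s.1 (CycFactor.monic_S s) hu
  rw [CycFactor.natDegree_S hF hr hrp s] at h1
  have hle : cycSub y u ≤ LinearMap.ker (aeval y (cyclotomic r F)) := by
    refine (cycSub_le_ker y u s.1 hu).trans ?_
    obtain ⟨g', hg'⟩ := CycFactor.dvd_S s
    intro v hv
    rw [LinearMap.mem_ker] at hv ⊢
    rw [hg', mul_comm, map_mul, Module.End.mul_apply, hv, map_zero]
  have h2 := dvd_finrank_of_le_cyc hF hrp hy (cycSub y u) (cycSub_invariant y u) hle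
  have h3 : 0 < finrank F (cycSub y u) := by
    rw [Module.finrank_pos_iff_exists_ne_zero]
    exact ⟨⟨u, self_mem_cycSub y u⟩, fun h => hu0 (congrArg Subtype.val h)⟩
  exact le_antisymm h1 (Nat.le_of_dvd h3 h2)

theorem cyc_ker_le [DecidableEq F] {r : ℕ} (s : CycFactor.S r F) :
    LinearMap.ker (aeval y s.1) ≤ LinearMap.ker (aeval y (cyclotomic r F)) := by
  obtain ⟨g', hg'⟩ := CycFactor.dvd_S s
  intro v hv
  rw [LinearMap.mem_ker] at hv ⊢
  rw [hg', mul_comm, map_mul, Module.End.mul_apply, hv, map_zero]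

/-- an invariant subspace of an irreducible one is trivial -/
theorem eq_bot_or_eq_of_irred (hF : Fintype.card F = q) {r : ℕ} [Fact r.Prime] (hrp : r ≠ p)
    (hy : y ^ r = 1) (W R : Submodule F V) (hWc : W ≤ LinearMap.ker (aeval y (cyclotomic r F)))
    (hWi : finrank F W = orderOf (q : ZMod r)) (hR : ∀ v ∈ R, y v ∈ R) (hRW : R ≤ W) :
    R = ⊥ ∨ R = W := by
  have h1 := dvd_finrank_of_le_cyc hF hrp hy R hR (hRW.trans hWc)
  have h2 := Submodule.finrank_mono hRW
  rw [hWi] at h2
  by_cases h0 : finrank F R = 0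
  · left
    exact Submodule.finrank_eq_zero.mp h0
  · right
    have h3 := Nat.le_of_dvd (Nat.pos_of_ne_zero h0) h1
    exact Submodule.eq_of_le_of_finrank_eq hRW (by rw [hWi]; omega)

/-- an irreducible invariant subspace is nondegenerate or totally isotropic -/
theorem NDon_or_isotropic (hF : Fintype.card F = q) {r : ℕ} [Fact r.Prime] (hrp : r ≠ p)
    (halt : ∀ v, B v v = 0) (hiso : ∀ u v, B (y u) (y v) = B u v) (hy : y ^ r = 1)
    (W : Submodule F V) (hW : ∀ v ∈ W, y v ∈ W)
    (hWc : W ≤ LinearMap.ker (aeval y (cyclotomic r F)))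
    (hWi : finrank F W = orderOf (q : ZMod r)) :
    NDon B W ∨ ∀ u ∈ W, ∀ v ∈ W, B u v = 0 := by
  have hr : r.Prime := Fact.out
  have hR : ∀ v ∈ W ⊓ B.orthogonal W, y v ∈ W ⊓ B.orthogonal W :=
    inf_orth_invariant hiso hr.pos hy W W hW hW
  rcases eq_bot_or_eq_of_irred hF hrp hy W (W ⊓ B.orthogonal W) hWc hWi hR inf_le_left with h | h
  · left
    intro u hu hu'
    have : u ∈ W ⊓ B.orthogonal W :=
      Submodule.mem_inf.mpr ⟨hu, fun v hv => alt_swap_zero B halt (hu' v hv)⟩
    rw [h] at this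
    exact (Submodule.mem_bot F).mp this
  · right
    intro u hu v hv
    have hv' : v ∈ W ⊓ B.orthogonal W := by rw [h]; exact hv
    exact (Submodule.mem_inf.mp hv').2 u hu

theorem isSemisimple_of_pow {r : ℕ} (hrF : (r : F) ≠ 0)
    (hy : y ^ r = 1) : y.IsSemisimple := by
  apply Module.End.isSemisimple_of_squarefree_aeval_eq_zero (p := (X ^ r - 1 : F[X]))
  · have := separable_X_pow_sub_C (1 : F) hrF one_ne_zero
    rw [map_one] at this
    exact this.squarefree
  · exact aeval_pow_sub_one_of_pow hy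

/-- an invariant complement inside an invariant subspace -/
theorem exists_invariant_compl_in {r : ℕ} (hrF : (r : F) ≠ 0) (hy : y ^ r = 1)
    (U N : Submodule F V) (hU : ∀ v ∈ U, y v ∈ U) (hN : ∀ v ∈ N, y v ∈ N) (hNU : N ≤ U) :
    ∃ C : Submodule F V, C ≤ U ∧ (∀ v ∈ C, y v ∈ C) ∧ N ⊓ C = ⊥ ∧ N ⊔ C = U := by
  have hss : y.IsSemisimple := isSemisimple_of_pow hrF hy
  rw [Module.End.isSemisimple_iff] at hss
  obtain ⟨C, hC, hNC⟩ := hss N (fun v hv => hN v hv)
  refine ⟨C ⊓ U, inf_le_right, ?_, ?_, ?_⟩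
  · intro v hv
    rw [Submodule.mem_inf] at hv ⊢
    exact ⟨hC hv.1, hU v hv.2⟩
  · rw [eq_bot_iff, ← hNC.inf_eq_bot]
    exact inf_le_inf_left N inf_le_left
  · have := sup_inf_assoc_of_le C hNU
    rw [hNC.sup_eq_top, top_inf_eq] at this
    exact this.symm

/-- the case of odd `ord_r q`: a hyperbolic pair of irreducible subspaces -/
theorem exists_atom_odd (hF : Fintype.card F = q) {r : ℕ} [Fact r.Prime] (hrp : r ≠ p)
    (halt : ∀ v, B v v = 0) (hiso : ∀ u v, B (y u) (y v) = B u v) (hy : y ^ r = 1)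
    (hodd : ¬ Even (orderOf (q : ZMod r)))
    (U : Submodule F V) (hU : ∀ v ∈ U, y v ∈ U) (hnd : NDon B U)
    (hUc : U ≤ LinearMap.ker (aeval y (cyclotomic r F))) (hne : U ≠ ⊥) :
    ∃ A : Submodule F V, A ≤ U ∧ (∀ v ∈ A, y v ∈ A) ∧ NDon B A ∧
      finrank F A = 2 * orderOf (q : ZMod r) := by
  classical
  have hr : r.Prime := Fact.out
  have hrF : (r : F) ≠ 0 := CycFactor.natCast_ne_zero hr hrp
  -- the first irreducible subspace
  obtain ⟨s, hs⟩ := exists_factor hF hrp hy U hU hUc hne
  obtain ⟨u, hu, hu0⟩ := (Submodule.ne_bot_iff _).mp hs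
  rw [Submodule.mem_inf, LinearMap.mem_ker] at hu
  set W := cycSub y u with hWdef
  have hWU : W ≤ U := cycSub_le y u U hU hu.1
  have hWinv : ∀ v ∈ W, y v ∈ W := cycSub_invariant y u
  have hWi : finrank F W = orderOf (q : ZMod r) := finrank_cycSub hF hrp hy s u hu0 hu.2
  have hWti : ∀ a ∈ W, ∀ b ∈ W, B a b = 0 := by
    rcases NDon_or_isotropic hF hrp halt hiso hy W hWinv (hWU.trans hUc) hWi with h | h
    · exact absurd (hWi ▸ even_finrank_of_NDon halt W h) hodd
    · exact h
  -- the orthogonal complement of `W` in `U` and an invariant complement of it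
  set N := U ⊓ B.orthogonal W with hNdef
  have hNinv : ∀ v ∈ N, y v ∈ N := inf_orth_invariant hiso hr.pos hy U W hU hWinv
  have hNne : N ≠ U := by
    intro h
    apply hu0
    apply hnd u hu.1
    intro v hv
    rw [← h] at hv
    exact (Submodule.mem_inf.mp hv).2 u (self_mem_cycSub y u)
  obtain ⟨C, hCU, hCinv, hNC, hNCU⟩ := exists_invariant_compl_in hrF hy U N hU hNinv inf_le_left
  have hCne : C ≠ ⊥ := by
    rintro rfl
    rw [sup_bot_eq] at hNCU
    exact hNne hNCU
  -- the second irreducible subspace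
  obtain ⟨s', hs'⟩ := exists_factor hF hrp hy C hCinv (hCU.trans hUc) hCne
  obtain ⟨u', hu', hu'0⟩ := (Submodule.ne_bot_iff _).mp hs'
  rw [Submodule.mem_inf, LinearMap.mem_ker] at hu'
  set W' := cycSub y u' with hW'def
  have hW'C : W' ≤ C := cycSub_le y u' C hCinv hu'.1
  have hW'inv : ∀ v ∈ W', y v ∈ W' := cycSub_invariant y u'
  have hW'i : finrank F W' = orderOf (q : ZMod r) := finrank_cycSub hF hrp hy s' u' hu'0 hu'.2
  have hinj : ∀ w' ∈ W', (∀ w ∈ W, B w w' = 0) → w' = 0 := by
    intro w' hw' h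
    have h1 : w' ∈ N ⊓ C :=
      Submodule.mem_inf.mpr ⟨Submodule.mem_inf.mpr ⟨hCU (hW'C hw'), h⟩, hW'C hw'⟩
    rw [hNC] at h1
    exact (Submodule.mem_bot F).mp h1
  have hperf := pairing_perfect B W W' (by rw [hWi, hW'i]) hinj
  refine ⟨W ⊔ W', sup_le hWU (hW'C.trans hCU), sup_invariant W W' hWinv hW'inv, ?_, ?_⟩
  · intro a ha h
    obtain ⟨w, hw, w', hw', rfl⟩ := Submodule.mem_sup.mp ha
    have h1 : w' = 0 := by
      apply hinj w' hw'
      intro w₁ hw₁
      have := h w₁ (Submodule.mem_sup_left hw₁)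
      rw [map_add, LinearMap.add_apply, hWti w hw w₁ hw₁, zero_add] at this
      exact alt_swap_zero B halt this
    have h2 : w = 0 := by
      apply hperf w hw
      intro w₁ hw₁
      have := h w₁ (Submodule.mem_sup_right hw₁)
      rw [h1, add_zero] at this
      exact this
    rw [h1, h2, add_zero]
  · have h := Submodule.finrank_sup_add_finrank_inf_eq W W'
    have h0 : W ⊓ W' = ⊥ := by
      rw [eq_bot_iff]
      intro x hx
      rw [Submodule.mem_inf] at hx
      rw [Submodule.mem_bot]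
      exact hinj x hx.2 (fun w hw => hWti w hw x hx.1)
    rw [h0, finrank_bot, add_zero, hWi, hW'i] at h
    rw [h]
    ring

/-- the case of even `ord_r q`: a nondegenerate irreducible subspace -/
theorem exists_atom_even (hF : Fintype.card F = q) {r : ℕ} [Fact r.Prime] (hrp : r ≠ p)
    (hr2 : r ≠ 2)
    (halt : ∀ v, B v v = 0) (hiso : ∀ u v, B (y u) (y v) = B u v) (hy : y ^ r = 1)
    (heven : Even (orderOf (q : ZMod r)))
    (U : Submodule F V) (hU : ∀ v ∈ U, y v ∈ U) (hnd : NDon B U)
    (hUc : U ≤ LinearMap.ker (aeval y (cyclotomic r F))) (hne : U ≠ ⊥) :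
    ∃ A : Submodule F V, A ≤ U ∧ (∀ v ∈ A, y v ∈ A) ∧ NDon B A ∧
      finrank F A = orderOf (q : ZMod r) := by
  classical
  have hr : r.Prime := Fact.out
  have hrF : (r : F) ≠ 0 := CycFactor.natCast_ne_zero hr hrp
  have hi0 : 0 < orderOf (q : ZMod r) := CycFactor.orderOf_pos hF hr hrp
  obtain ⟨s, hs⟩ := exists_factor hF hrp hy U hU hUc hne
  set g := s.1 with hg
  -- the complementary factor
  obtain ⟨g', hg'⟩ : g ∣ (X ^ r - 1 : F[X]) :=
    (CycFactor.dvd_S s).trans ⟨X - 1, (cyclotomic_prime_mul_X_sub_one F r).symm⟩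
  have hcop : IsCoprime g g' := by
    apply Separable.isCoprime
    rw [← hg']
    have := separable_X_pow_sub_C (1 : F) hrF one_ne_zero
    rwa [map_one] at this
  have hprod : aeval y (g * g') = 0 := by
    rw [← hg']; exact aeval_pow_sub_one_of_pow hy
  -- the adjoint of `y` is a Frobenius power of `y`
  set Q := Fintype.card F ^ (orderOf (q : ZMod r) / 2) with hQ
  have hQr : r ∣ Q + 1 := by
    rw [hQ, hF]
    exact dvd_pow_half_add_one q r heven hi0
  have hQ0 : 0 < Q := Nat.pow_pos Fintype.card_pos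
  have hyQ : ∀ w, y ((y ^ Q) w) = w := by
    intro w
    obtain ⟨k, hk⟩ := hQr
    rw [← Module.End.mul_apply, ← pow_succ', hk, pow_mul, hy, one_pow, Module.End.one_apply]
  have hadj : ∀ a w, B (y a) w = B a ((y ^ Q) w) := by
    intro a w
    conv_lhs => rw [← hyQ w]
    rw [hiso]
  have hself : ∀ a, aeval y g a = 0 → aeval (y ^ Q) g a = 0 := by
    intro a ha
    rw [hQ, aeval_pow_card_pow, ← hQ]
    obtain ⟨Q', hQ'⟩ : ∃ Q', Q = Q' + 1 := ⟨Q - 1, by omega⟩
    rw [hQ', pow_succ, Module.End.mul_apply, ha, map_zero]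
  -- the homogeneous component is nondegenerate
  set Ug := U ⊓ LinearMap.ker (aeval y g) with hUg
  have hUginv : ∀ v ∈ Ug, y v ∈ Ug := inf_ker_invariant U hU g
  have hUgnd : NDon B Ug := by
    apply NDon_of_sup_orth B U Ug (U ⊓ LinearMap.ker (aeval y g')) hnd inf_le_left
      (split_coprime g g' hcop hprod U hU)
    intro a ha w hw
    exact ker_orth halt (y ^ Q) hadj g g' hcop hself a w
      (LinearMap.mem_ker.mp (Submodule.mem_inf.mp ha).2)
      (LinearMap.mem_ker.mp (Submodule.mem_inf.mp hw).2)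
  -- polarization
  obtain ⟨u, hu, huy⟩ : ∃ u ∈ Ug, B u (y u) ≠ 0 := by
    by_contra hcon
    push Not at hcon
    apply hs
    rw [eq_bot_iff]
    intro v hv
    rw [Submodule.mem_bot]
    have hpol : ∀ a ∈ Ug, B a (y v - (y ^ (r - 1)) v) = 0 := by
      intro a ha
      have h1 := hcon (a + v) (Submodule.add_mem _ ha hv)
      simp only [map_add, LinearMap.add_apply, hcon a ha, hcon v hv, zero_add, add_zero] at h1
      rw [map_sub, ← adj_pow_pred hiso hr.pos hy, alt_swap B halt (y a) v]
      linear_combination h1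
    have hmem : y v - (y ^ (r - 1)) v ∈ Ug :=
      Submodule.sub_mem _ (hUginv v hv) (pow_mem_of_invariant y Ug hUginv (r - 1) v hv)
    have h2 : y v - (y ^ (r - 1)) v = 0 := by
      apply hUgnd _ hmem
      intro a ha
      exact alt_swap_zero B halt (hpol a ha)
    have h3 : y (y v) = v := by
      have := congrArg y h2
      rw [map_sub, pow_pred_mul hr.pos hy, map_zero, sub_eq_zero] at this
      exact this
    have h4 : ∀ m : ℕ, (y ^ (2 * m)) v = v := by
      intro m
      induction m with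
      | zero => rfl
      | succ m ih =>
        rw [Nat.mul_succ, pow_add, Module.End.mul_apply, pow_two, Module.End.mul_apply, h3, ih]
    have h5 : y v = v := by
      have hodd : r % 2 = 1 := by
        rcases hr.eq_two_or_odd with h | h
        · exact absurd h hr2
        · exact h
      have hrm : r = 2 * (r / 2) + 1 := by omega
      have h6 : (y ^ r) v = v := by rw [hy, Module.End.one_apply]
      rw [hrm, pow_succ', Module.End.mul_apply, h4] at h6
      exact h6
    have h7 : v ∈ LinearMap.ker (aeval y (X - 1 : F[X])) ⊓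
        LinearMap.ker (aeval y (cyclotomic r F)) :=
      Submodule.mem_inf.mpr ⟨(mem_fix_iff v).mpr h5, hUc (Submodule.mem_inf.mp hv).1⟩
    rw [fix_inf_cyc hrF] at h7
    exact (Submodule.mem_bot F).mp h7
  -- the cyclic subspace of `u` is nondegenerate
  have hu0 : u ≠ 0 := by
    rintro rfl
    apply huy
    rw [map_zero, LinearMap.zero_apply]
  have hu' := Submodule.mem_inf.mp hu
  set W := cycSub y u with hWdef
  have hWU : W ≤ U := cycSub_le y u U hU hu'.1
  have hWinv : ∀ v ∈ W, y v ∈ W := cycSub_invariant y u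
  have hWi : finrank F W = orderOf (q : ZMod r) :=
    finrank_cycSub hF hrp hy s u hu0 (LinearMap.mem_ker.mp hu'.2)
  refine ⟨W, hWU, hWinv, ?_, hWi⟩
  rcases NDon_or_isotropic hF hrp halt hiso hy W hWinv (hWU.trans hUc) hWi with h | h
  · exact h
  · exact absurd (h u (self_mem_cycSub y u) (y u) (hWinv u (self_mem_cycSub y u))) huy

/-- the constant `c` attached to `i = ord_r q` -/
def cOf (i : ℕ) : ℕ := if Even i then i else 2 * i

/-- every nonzero nondegenerate invariant subspace without fixed vectors contains a nondegenerate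
invariant subspace of dimension `c` -/
theorem exists_atom (hF : Fintype.card F = q) {r : ℕ} [Fact r.Prime] (hrp : r ≠ p)
    (hr2 : r ≠ 2)
    (halt : ∀ v, B v v = 0) (hiso : ∀ u v, B (y u) (y v) = B u v) (hy : y ^ r = 1)
    (U : Submodule F V) (hU : ∀ v ∈ U, y v ∈ U) (hnd : NDon B U)
    (hUc : U ≤ LinearMap.ker (aeval y (cyclotomic r F))) (hne : U ≠ ⊥) :
    ∃ A : Submodule F V, A ≤ U ∧ (∀ v ∈ A, y v ∈ A) ∧ NDon B A ∧
      finrank F A = cOf (orderOf (q : ZMod r)) := by
  unfold cOf
  by_cases heven : Even (orderOf (q : ZMod r))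
  · rw [if_pos heven]
    exact exists_atom_even hF hrp hr2 halt hiso hy heven U hU hnd hUc hne
  · rw [if_neg heven]
    exact exists_atom_odd hF hrp halt hiso hy heven U hU hnd hUc hne

end atom

end Cfsg.Agent.Lib.H24.Elus
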