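import Mathlib
import Cfsg.Agent.Lib.H24.ElusSpAtom
import Cfsg.Agent.Lib.H24.ElusImpComb

set_option autoImplicit false

/-!
# Structure of isometries of odd prime order (helper24)

* `cdvd_finrank_cyc_part`, `finrank_fix_mod`: for a nondegenerate invariant subspace `U` of an
  isometry `y` of odd prime order `r ≠ p`, `dim U ≡ dim (U ⊓ Fix y)` modulo `c`.
* `exists_sp_decomp`: if `c ≤ a` and `(a t) mod c = t (a mod c)` then the space is an orthogonal
  sum of `t` nondegenerate `y`-invariant subspaces of dimension `a`.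
-/

namespace Cfsg.Agent.Lib.H24.Elus

open Polynomial Module
open Cfsg.Agent.Lib.H13

section arith

theorem cOf_pos {i : ℕ} (hi : 0 < i) : 0 < cOf i := by
  unfold cOf
  split_ifs <;> omega

theorem cOf_even (i : ℕ) : Even (cOf i) := by
  unfold cOf
  split_ifs with h
  · exact h
  · exact even_two_mul i

theorem dvd_cOf (i : ℕ) : i ∣ cOf i := by
  unfold cOf
  split_ifs
  · exact dvd_refl i
  · exact Dvd.intro_left 2 rfl

theorem cOf_dvd_of_even {i m : ℕ} (hm : Even m) (him : i ∣ m) : cOf i ∣ m := by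
  unfold cOf
  split_ifs with h
  · exact him
  · have hodd : Odd i := Nat.not_even_iff_odd.mp h
    exact Nat.Coprime.mul_dvd_of_dvd_of_dvd (Nat.coprime_two_left.mpr hodd)
      (even_iff_two_dvd.mp hm) him

theorem cOf_dvd_iff_dvd_two_mul (i j : ℕ) : i ∣ 2 * j → cOf i ∣ 2 * j :=
  fun h => cOf_dvd_of_even (even_two_mul j) h

theorem cOf_le_pred (q r : ℕ) [Fact r.Prime] (hr2 : r ≠ 2) (hi : 0 < orderOf (q : ZMod r)) :
    cOf (orderOf (q : ZMod r)) ≤ r - 1 := by
  have hr : r.Prime := Fact.out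
  have hq0 : (q : ZMod r) ≠ 0 := by
    intro h
    rw [h] at hi
    have := pow_orderOf_eq_one (0 : ZMod r)
    rw [zero_pow hi.ne'] at this
    exact zero_ne_one this
  have h1 : orderOf (q : ZMod r) ∣ r - 1 := ZMod.orderOf_dvd_card_sub_one hq0
  have h2 : Even (r - 1) := by
    rcases hr.eq_two_or_odd with h | h
    · exact absurd h hr2
    · rw [Nat.even_iff]; omega
  have h3 : 0 < r - 1 := by have := hr.two_le; omega
  exact Nat.le_of_dvd h3 (cOf_dvd_of_even h2 h1)

end arith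

section struct

variable {F : Type*} [Field F] [Fintype F] {p q : ℕ} [Fact p.Prime] [CharP F p]
  {V : Type*} [AddCommGroup V] [Module F V] [Module.Finite F V]
  {B : LinearMap.BilinForm F V} {y : End F V}

/-- the class of nondegenerate invariant subspaces without fixed vectors -/
theorem peelClass_cyc (hF : Fintype.card F = q) {r : ℕ} [Fact r.Prime] (hrp : r ≠ p)
    (hr2 : r ≠ 2) (halt : ∀ v, B v v = 0) (hiso : ∀ u v, B (y u) (y v) = B u v)
    (hy : y ^ r = 1) :
    PeelClass B (fun A => A ≤ LinearMap.ker (aeval y (cyclotomic r F)) ∧ (∀ v ∈ A, y v ∈ A) ∧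
      NDon B A) (cOf (orderOf (q : ZMod r))) where
  pos := by
    classical
    exact cOf_pos (CycFactor.orderOf_pos hF Fact.out hrp)
  bot := ⟨bot_le, fun v hv => by
    rw [Submodule.mem_bot] at hv ⊢
    rw [hv, map_zero], NDon_bot B⟩
  nd := fun _ h => h.2.2
  perp := fun U A hU hA hAU => ⟨inf_le_left.trans hU.1,
    inf_orth_invariant hiso (Fact.out : r.Prime).pos hy U A hU.2.1 hA.2.1,
    NDon_perp_in B halt U A hU.2.2 hA.2.2 hAU⟩
  sup := fun A A' hA hA' horth => ⟨sup_le hA.1 hA'.1, sup_invariant A A' hA.2.1 hA'.2.1,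
    NDon_sup B halt A A' hA.2.2 hA'.2.2 horth⟩
  atom := fun U hU hne => by
    obtain ⟨A, hAU, hAinv, hAnd, hAc⟩ :=
      exists_atom hF hrp hr2 halt hiso hy U hU.2.1 hU.2.2 hU.1 hne
    exact ⟨A, hAU, ⟨hAU.trans hU.1, hAinv, hAnd⟩, hAc⟩

theorem cdvd_finrank_cyc_part (hF : Fintype.card F = q) {r : ℕ} [Fact r.Prime] (hrp : r ≠ p)
    (hr2 : r ≠ 2) (halt : ∀ v, B v v = 0) (hiso : ∀ u v, B (y u) (y v) = B u v)
    (hy : y ^ r = 1) (U : Submodule F V) (hU : ∀ v ∈ U, y v ∈ U) (hnd : NDon B U) :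
    cOf (orderOf (q : ZMod r)) ∣
      finrank F ↥(U ⊓ LinearMap.ker (aeval y (cyclotomic r F))) := by
  classical
  have hr : r.Prime := Fact.out
  exact peel_dvd halt (peelClass_cyc hF hrp hr2 halt hiso hy) _
    ⟨inf_le_right, inf_ker_invariant U hU _,
      NDon_cyc_part halt hiso (CycFactor.natCast_ne_zero hr hrp) hy U hU hnd⟩

/-- the dimension of a nondegenerate invariant subspace modulo `c` -/
theorem finrank_fix_mod (hF : Fintype.card F = q) {r : ℕ} [Fact r.Prime] (hrp : r ≠ p)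
    (hr2 : r ≠ 2) (halt : ∀ v, B v v = 0) (hiso : ∀ u v, B (y u) (y v) = B u v)
    (hy : y ^ r = 1) (U : Submodule F V) (hU : ∀ v ∈ U, y v ∈ U) (hnd : NDon B U) :
    finrank F U % cOf (orderOf (q : ZMod r)) =
      finrank F ↥(U ⊓ LinearMap.ker (aeval y (X - 1 : F[X]))) % cOf (orderOf (q : ZMod r)) := by
  classical
  have hr : r.Prime := Fact.out
  obtain ⟨m, hm⟩ := cdvd_finrank_cyc_part hF hrp hr2 halt hiso hy U hU hnd
  rw [← finrank_split_fix (CycFactor.natCast_ne_zero hr hrp) hy U hU, hm,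
    Nat.add_mul_mod_self_left]

/-- pairwise orthogonal nondegenerate subspaces of the right total dimension decompose the space -/
theorem indep_top_of_orth (halt : ∀ v, B v v = 0) (t a : ℕ) (D : Fin t → Submodule F V)
    (hfr : ∀ j, finrank F (D j) = a) (hnd : ∀ j, NDon B (D j))
    (horth : ∀ j j', j ≠ j' → ∀ u ∈ D j, ∀ v ∈ D j', B u v = 0)
    (hV : finrank F V = a * t) : iSupIndep D ∧ iSup D = ⊤ := by
  have hind := iSupIndep_of_orth B halt D hnd horth
  refine ⟨hind, ?_⟩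
  apply Submodule.eq_top_of_finrank_eq
  rw [finrank_iSup_eq_sum D hind, hV, Finset.sum_congr rfl (fun j _ => hfr j), Finset.sum_const,
    Finset.card_univ, Fintype.card_fin, smul_eq_mul, mul_comm]

/-- the orthogonal decomposition stabilized by `y` -/
theorem exists_sp_decomp (hF : Fintype.card F = q) {r : ℕ} [Fact r.Prime] (hrp : r ≠ p)
    (hr2 : r ≠ 2) (halt : ∀ v, B v v = 0) (hiso : ∀ u v, B (y u) (y v) = B u v)
    (hy : y ^ r = 1) (hndV : NDon B ⊤) (a t : ℕ) (hV : finrank F V = a * t) (hae : Even a)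
    (c : ℕ) (hc : c = cOf (orderOf (q : ZMod r)))
    (hmod : (a * t) % c = t * (a % c)) :
    ∃ D : Fin t → Submodule F V, (∀ j, finrank F (D j) = a) ∧ (∀ j, NDon B (D j)) ∧
      (∀ j j', j ≠ j' → ∀ u ∈ D j, ∀ v ∈ D j', B u v = 0) ∧ ∀ j, ∀ v ∈ D j, y v ∈ D j := by
  classical
  have hr : r.Prime := Fact.out
  have hrF : (r : F) ≠ 0 := CycFactor.natCast_ne_zero hr hrp
  have hc0 : 0 < c := by rw [hc]; exact cOf_pos (CycFactor.orderOf_pos hF hr hrp)
  have hceven : Even c := by rw [hc]; exact cOf_even _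
  set Fx := LinearMap.ker (aeval y (X - 1 : F[X])) with hFx
  set V' := LinearMap.ker (aeval y (cyclotomic r F)) with hV'
  have htopinv : ∀ v ∈ (⊤ : Submodule F V), y v ∈ (⊤ : Submodule F V) := fun _ _ =>
    Submodule.mem_top
  have hsplit := finrank_split_fix hrF hy ⊤ htopinv
  rw [top_inf_eq, top_inf_eq, finrank_top, hV] at hsplit
  have hFxnd : NDon B Fx := by
    have := NDon_fix_part halt hiso hrF hy ⊤ htopinv hndV
    rwa [top_inf_eq] at this
  have hV'nd : NDon B V' := by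
    have := NDon_cyc_part halt hiso hrF hy ⊤ htopinv hndV
    rwa [top_inf_eq] at this
  obtain ⟨m, hm⟩ : c ∣ finrank F V' := by
    have := cdvd_finrank_cyc_part hF hrp hr2 halt hiso hy ⊤ htopinv hndV
    rwa [top_inf_eq, ← hc] at this
  obtain ⟨e, he1, he2⟩ := second_arith c a t (finrank F Fx) m hc0 (by rw [← hsplit, hm]) hmod
  obtain ⟨ε, hε, hεsum⟩ := exists_distrib (fun _ : Fin t => a / c) e (by
    rw [Finset.sum_const, Finset.card_univ, Fintype.card_fin, smul_eq_mul]
    omega)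
  have hℓ : Even (a % c) := by
    rw [Nat.even_iff, Nat.mod_mod_of_dvd a (even_iff_two_dvd.mp hceven)]
    exact Nat.even_iff.mp hae
  have hk : ∀ j, ∃ k, a % c + c * ε j = k * 2 := by
    intro j
    have : Even (a % c + c * ε j) := Even.add hℓ (Even.mul_right hceven _)
    obtain ⟨k, hk⟩ := this
    exact ⟨k, by omega⟩
  choose k hk using hk
  -- the pieces in the fixed space
  obtain ⟨P, hP, hPorth⟩ := multi_peel halt (peelClass_planes halt Fx) t k Fx ⟨le_rfl, hFxnd⟩ (by
    rw [Finset.sum_congr rfl (fun j _ => (hk j).symm), Finset.sum_add_distrib, Finset.sum_const,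
      Finset.card_univ, Fintype.card_fin, smul_eq_mul, ← Finset.mul_sum, hεsum, he1])
  -- the pieces without fixed vectors
  obtain ⟨R, hR, hRorth⟩ := multi_peel halt (peelClass_cyc hF hrp hr2 halt hiso hy) t
    (fun j => a / c - ε j) V' ⟨le_rfl, Cfsg.Agent.Lib.H13.SSClass.ker_aeval_invariant y _, hV'nd⟩
    (by
      rw [← hc, ← Finset.sum_mul, hm]
      have h1 := sum_sub_of_le (a / c) ε hε
      rw [Fintype.card_fin, hεsum] at h1
      have h2 : ∑ j : Fin t, (a / c - ε j) = m := by omega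
      rw [h2, mul_comm])
  have hPR : ∀ j j', ∀ u ∈ P j, ∀ v ∈ R j', B u v = 0 := fun j j' u hu v hv =>
    fix_orth_cyc halt hiso hrF hy u v ((hP j).2.1.1 hu) ((hR j').2.1.1 hv)
  refine ⟨fun j => P j ⊔ R j, ?_, ?_, ?_, ?_⟩
  · intro j
    have h := Submodule.finrank_sup_add_finrank_inf_eq (P j) (R j)
    rw [inf_eq_bot_of_orth B halt (P j) (R j) (hP j).2.1.2 (hPR j j), finrank_bot, add_zero,
      (hP j).2.2, (hR j).2.2, ← hk j, ← hc] at h
    show finrank F ↥(P j ⊔ R j) = a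
    rw [h]
    have h1 := hε j
    have h2 := Nat.div_add_mod a c
    have h3 : (a / c - ε j) * c = c * (a / c) - c * ε j := by
      rw [Nat.sub_mul, mul_comm, mul_comm (ε j)]
    have h4 : c * ε j ≤ c * (a / c) := Nat.mul_le_mul_left c h1
    omega
  · intro j
    exact NDon_sup B halt (P j) (R j) (hP j).2.1.2 (hR j).2.1.2.2 (hPR j j)
  · intro j j' hjj' u hu v hv
    obtain ⟨u₁, hu₁, u₂, hu₂, rfl⟩ := Submodule.mem_sup.mp hu
    obtain ⟨v₁, hv₁, v₂, hv₂, rfl⟩ := Submodule.mem_sup.mp hv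
    simp only [map_add, LinearMap.add_apply]
    rw [hPorth j j' hjj' u₁ hu₁ v₁ hv₁, hPR j j' u₁ hu₁ v₂ hv₂,
      alt_swap_zero B halt (hPR j' j v₁ hv₁ u₂ hu₂), hRorth j j' hjj' u₂ hu₂ v₂ hv₂]
    simp
  · intro j
    apply sup_invariant (P j) (R j) ?_ (hR j).2.1.2.1
    intro v hv
    have := (mem_fix_iff v).mp ((hP j).2.1.1 hv)
    rw [this]
    exact hv

end struct

end Cfsg.Agent.Lib.H24.Elus
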