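import Mathlib
import Cfsg.Prelude.Def_LieRecognition

/-! Higman's lemma on Suzuki 2-groups: involutions are exactly the nontrivial central elements,
and the centre is elementary abelian. -/

set_option autoImplicit false

namespace Cfsg.Agent.Lib.H24.SuzukiTwo

universe u

/-- A nontrivial finite 2-group has a central involution. -/
theorem exists_central_involution {G : Type*} [Group G] [Finite G] (h2 : IsPGroup 2 G)
    [Nontrivial G] : ∃ z : G, z ∈ Subgroup.center G ∧ z ≠ 1 ∧ z * z = 1 := by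
  have : Fact (Nat.Prime 2) := ⟨Nat.prime_two⟩
  have := h2.center_nontrivial
  have h2c : IsPGroup 2 (Subgroup.center G) := h2.to_subgroup _
  rcases h2c.card_eq_or_dvd with h | h
  · exfalso
    have := (Nat.card_eq_one_iff_unique.mp h).1
    exact not_subsingleton (Subgroup.center G) this
  · obtain ⟨z, hz⟩ := exists_prime_orderOf_dvd_card' 2 h
    refine ⟨z.1, z.2, ?_, ?_⟩
    · intro h1
      have : z = 1 := Subtype.ext h1
      rw [this, orderOf_one] at hz
      omega
    · have := pow_orderOf_eq_one z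
      rw [hz, pow_two] at this
      exact congrArg Subtype.val this

/-- From an element whose square is nontrivial in a 2-group, a power of order four. -/
theorem exists_order_four {G : Type*} [Group G] (h2 : IsPGroup 2 G) (z : G) (hz : z * z ≠ 1) :
    ∃ j : ℕ, (z ^ j * z ^ j ≠ 1) ∧ (z ^ j * z ^ j) * (z ^ j * z ^ j) = 1 := by
  classical
  have hex : ∃ m : ℕ, z ^ 2 ^ m = 1 := h2 z
  obtain ⟨m, hm, hmin⟩ : ∃ m, z ^ 2 ^ m = 1 ∧ ∀ k < m, ¬ z ^ 2 ^ k = 1 :=
    ⟨Nat.find hex, Nat.find_spec hex, fun k hk => Nat.find_min hex hk⟩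
  have h0 : m ≠ 0 := by
    intro h0
    rw [h0] at hm
    simp at hm
    exact hz (by rw [hm]; simp)
  have h1 : m ≠ 1 := by
    intro h1
    rw [h1] at hm
    apply hz
    simpa [pow_two] using hm
  obtain ⟨m', rfl⟩ : ∃ m', m = m' + 2 := ⟨m - 2, by omega⟩
  refine ⟨2 ^ m', ?_, ?_⟩
  · rw [← pow_add, ← two_mul, ← pow_succ']
    exact hmin (m' + 1) (by omega)
  · rw [← pow_add, ← pow_add, ← two_mul, ← two_mul, ← pow_succ', ← pow_succ']
    exact hm

variable {P : Type*} [Group P]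

/-- An automorphism maps central elements to central elements. -/
theorem aut_central (e : MulAut P) (w : P) (hw : ∀ g, w * g = g * w) : ∀ g, e w * g = g * e w := by
  intro g
  have hg : e (e.symm g) = g := MulEquiv.apply_symm_apply _ _
  calc e w * g = e w * e (e.symm g) := by rw [hg]
    _ = e (w * e.symm g) := (map_mul _ _ _).symm
    _ = e (e.symm g * w) := by rw [hw]
    _ = e (e.symm g) * e w := map_mul _ _ _
    _ = g * e w := by rw [hg]

/-- Lemma A: all involutions are central. -/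
theorem involution_central [Finite P] (h2 : IsPGroup 2 P) {K : Type*} [Group K]
    (φ : K →* MulAut P) (hinv : ∃ x : P, x ≠ 1 ∧ x * x = 1)
    (htr : ∀ x y : P, x ≠ 1 → x * x = 1 → y ≠ 1 → y * y = 1 → ∃ k : K, φ k x = y) :
    ∀ z : P, z * z = 1 → ∀ g, z * g = g * z := by
  obtain ⟨x₀, hx₀, _⟩ := hinv
  have : Nontrivial P := ⟨⟨x₀, 1, hx₀⟩⟩
  obtain ⟨z₀, hz₀c, hz₀1, hz₀2⟩ := exists_central_involution h2
  intro z hz g
  by_cases hz1 : z = 1
  · rw [hz1]; simp
  obtain ⟨k, hk⟩ := htr z₀ z hz₀1 hz₀2 hz1 hz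
  rw [← hk]
  exact aut_central (φ k) z₀ (fun g => (Subgroup.mem_center_iff.mp hz₀c g).symm) g

/-- B2: every involution is the square of a central element, given one central element of
order four. -/
theorem exists_central_sqrt {K : Type*} [Group K] (φ : K →* MulAut P)
    (htr : ∀ x y : P, x ≠ 1 → x * x = 1 → y ≠ 1 → y * y = 1 → ∃ k : K, φ k x = y)
    (w : P) (hwc : ∀ g, w * g = g * w) (hw2 : w * w ≠ 1) (hw4 : (w * w) * (w * w) = 1)
    (t : P) (ht1 : t ≠ 1) (ht2 : t * t = 1) :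
    ∃ w' : P, (∀ g, w' * g = g * w') ∧ w' * w' = t := by
  obtain ⟨k, hk⟩ := htr (w * w) t hw2 hw4 ht1 ht2
  exact ⟨φ k w, aut_central _ w hwc, by rw [← map_mul, hk]⟩

/-- B3: elements of order dividing four are central. -/
theorem sq_inv_central {K : Type*} [Group K] (φ : K →* MulAut P)
    (hcen : ∀ z : P, z * z = 1 → ∀ g, z * g = g * z)
    (htr : ∀ x y : P, x ≠ 1 → x * x = 1 → y ≠ 1 → y * y = 1 → ∃ k : K, φ k x = y)
    (w : P) (hwc : ∀ g, w * g = g * w) (hw2 : w * w ≠ 1) (hw4 : (w * w) * (w * w) = 1) :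
    ∀ x : P, (x * x) * (x * x) = 1 → ∀ g, x * g = g * x := by
  intro x hx g
  by_cases hx1 : x * x = 1
  · exact hcen x hx1 g
  obtain ⟨w', hw'c, hw'⟩ := exists_central_sqrt φ htr w hwc hw2 hw4 (x * x) hx1 hx
  have hy : (x * w'⁻¹) * (x * w'⁻¹) = 1 := by
    have h1 : w'⁻¹ * x = x * w'⁻¹ := by
      have := hw'c x
      calc w'⁻¹ * x = w'⁻¹ * (x * w') * w'⁻¹ := by group
        _ = w'⁻¹ * (w' * x) * w'⁻¹ := by rw [this]
        _ = x * w'⁻¹ := by group
    calc (x * w'⁻¹) * (x * w'⁻¹) = x * (w'⁻¹ * x) * w'⁻¹ := by group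
      _ = x * (x * w'⁻¹) * w'⁻¹ := by rw [h1]
      _ = (x * x) * (w' * w')⁻¹ := by group
      _ = 1 := by rw [hw']; group
  have hyc := hcen _ hy
  calc x * g = (x * w'⁻¹) * w' * g := by group
    _ = (x * w'⁻¹) * (w' * g) := by group
    _ = (x * w'⁻¹) * (g * w') := by rw [hw'c]
    _ = ((x * w'⁻¹) * g) * w' := by group
    _ = (g * (x * w'⁻¹)) * w' := by rw [hyc]
    _ = g * x := by group


/-- Counting lemma in a finite commutative group: if every involution is an `m`-th power and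
`m`-th powers are involutions, then elements killed by `m` are squares. -/
theorem ker_pow_sub_range_sq {A : Type*} [Group A] [Finite A] (hc : ∀ a b : A, a * b = b * a)
    (m : ℕ) (h1 : ∀ a : A, a ^ 2 = 1 → ∃ b, b ^ m = a) (h2 : ∀ a : A, (a ^ m) ^ 2 = 1) :
    ∀ a : A, a ^ m = 1 → ∃ b, b ^ 2 = a := by
  let f₁ : A →* A := MonoidHom.mk' (fun a => a ^ m) (fun a b => (show Commute a b from hc a b).mul_pow m)
  let f₂ : A →* A := MonoidHom.mk' (fun a => a ^ 2) (fun a b => (show Commute a b from hc a b).mul_pow 2)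
  have hf₁ : ∀ a, f₁ a = a ^ m := fun _ => rfl
  have hf₂ : ∀ a, f₂ a = a ^ 2 := fun _ => rfl
  have hr1 : f₁.range = f₂.ker := by
    ext a
    rw [MonoidHom.mem_range, MonoidHom.mem_ker, hf₂]
    constructor
    · rintro ⟨b, rfl⟩
      rw [hf₁]; exact h2 b
    · intro ha
      obtain ⟨b, hb⟩ := h1 a ha
      exact ⟨b, hb⟩
  have hle : f₂.range ≤ f₁.ker := by
    rintro _ ⟨b, rfl⟩
    rw [MonoidHom.mem_ker, hf₁, hf₂, ← pow_mul, mul_comm, pow_mul]
    exact h2 b
  have hc1 : Nat.card f₁.ker * Nat.card f₁.range = Nat.card A := by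
    rw [← Subgroup.index_ker]; exact Subgroup.card_mul_index _
  have hc2 : Nat.card f₂.ker * Nat.card f₂.range = Nat.card A := by
    rw [← Subgroup.index_ker]; exact Subgroup.card_mul_index _
  have hcard : Nat.card f₁.ker = Nat.card f₂.range := by
    rw [hr1] at hc1
    have hpos : 0 < Nat.card f₂.ker := Nat.card_pos
    have : Nat.card f₂.ker * Nat.card f₁.ker = Nat.card f₂.ker * Nat.card f₂.range := by
      rw [hc2, mul_comm, hc1]
    exact Nat.eq_of_mul_eq_mul_left hpos this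
  have heq : f₂.range = f₁.ker := Subgroup.eq_of_le_of_card_ge hle (le_of_eq hcard)
  intro a ha
  have : a ∈ f₁.ker := by rw [MonoidHom.mem_ker, hf₁]; exact ha
  rw [← heq] at this
  obtain ⟨b, hb⟩ := this
  exact ⟨b, hb⟩

section classTwo

variable (hcen : ∀ z : P, z * z = 1 → ∀ g, z * g = g * z)
  (hcomm : ∀ x y : P, (x⁻¹ * y⁻¹ * x * y) * (x⁻¹ * y⁻¹ * x * y) = 1)

include hcen hcomm

/-- Squares are central. -/
theorem sq_central (x g : P) : (x * x) * g = g * (x * x) := by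
  have hcc := hcomm x g
  have hc := hcen _ hcc
  set c := x⁻¹ * g⁻¹ * x * g with hcdef
  have h1 : x * g = g * x * c := by rw [hcdef]; group
  calc x * x * g = x * (x * g) := by group
    _ = x * (g * x * c) := by rw [h1]
    _ = (x * g) * x * c := by group
    _ = g * x * c * x * c := by rw [h1]
    _ = g * x * (c * x) * c := by group
    _ = g * x * (x * c) * c := by rw [hc]
    _ = g * (x * x) * (c * c) := by group
    _ = g * (x * x) := by rw [hcc]; group

theorem sq_commute (x g : P) : Commute (x * x) g := sq_central hcen hcomm x g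

/-- The fourth power map is multiplicative. -/
theorem mul_pow_four (x y : P) : (x * y) ^ 4 = x ^ 4 * y ^ 4 := by
  have hcc := hcomm x y⁻¹
  have hc := hcen _ hcc
  rw [inv_inv] at hcc hc
  set d := x⁻¹ * y * x * y⁻¹ with hddef
  have h2 : (x * y) * (x * y) = (x * x) * (y * y) * d := by
    calc (x * y) * (x * y) = (x * x) * d * (y * y) := by rw [hddef]; group
      _ = (x * x) * (d * (y * y)) := by group
      _ = (x * x) * ((y * y) * d) := by rw [hc]
      _ = (x * x) * (y * y) * d := by group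
  have hsy := sq_central hcen hcomm y
  have p4 : ∀ a : P, a ^ 4 = (a * a) * (a * a) := fun a => by
    rw [show (4 : ℕ) = 2 + 2 from rfl, pow_add, pow_two]
  calc (x * y) ^ 4 = ((x * y) * (x * y)) * ((x * y) * (x * y)) := p4 _
    _ = ((x * x) * (y * y) * d) * ((x * x) * (y * y) * d) := by rw [h2]
    _ = (x * x) * (y * y) * (d * ((x * x) * (y * y))) * d := by group
    _ = (x * x) * (y * y) * (((x * x) * (y * y)) * d) * d := by rw [hc]
    _ = (x * x) * ((y * y) * (x * x)) * (y * y) * (d * d) := by group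
    _ = (x * x) * ((x * x) * (y * y)) * (y * y) * (d * d) := by rw [hsy]
    _ = x ^ 4 * y ^ 4 := by rw [hcc, p4, p4]; group

/-- The `2^j`-th power map is multiplicative for `j ≥ 2`. -/
theorem mul_pow_two_pow (j : ℕ) (hj : 2 ≤ j) (x y : P) :
    (x * y) ^ 2 ^ j = x ^ 2 ^ j * y ^ 2 ^ j := by
  induction j, hj using Nat.le_induction with
  | base => exact mul_pow_four hcen hcomm x y
  | succ j hj ih =>
    have hcm : Commute (x ^ 2 ^ j) (y ^ 2 ^ j) := by
      obtain ⟨i, rfl⟩ : ∃ i, j = i + 1 := ⟨j - 1, by omega⟩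
      have : x ^ 2 ^ (i + 1) = (x * x) ^ 2 ^ i := by
        rw [pow_succ', pow_mul, pow_two]
      rw [this]
      exact (sq_commute hcen hcomm x _).pow_left _
    rw [pow_succ, pow_mul, ih, hcm.mul_pow, ← pow_mul, ← pow_mul]

end classTwo


section fieldLike

/-- The commutator `x⁻¹ y⁻¹ x y`. -/
def cm (x y : P) : P := x⁻¹ * y⁻¹ * x * y

theorem cm_self (x : P) : cm x x = 1 := by unfold cm; group

theorem comm_of_cm (x y : P) (h : cm x y = 1) : x * y = y * x := by
  have : x * y = y * x * cm x y := by unfold cm; group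
  rw [this, h, mul_one]

theorem cm_map (e : MulAut P) (x y : P) : cm (e x) (e y) = e (cm x y) := by
  unfold cm; simp only [map_mul, map_inv]

theorem cm_of_central_left (x y : P) (hx : ∀ g, x * g = g * x) : cm x y = 1 := by
  unfold cm
  calc x⁻¹ * y⁻¹ * x * y = x⁻¹ * y⁻¹ * (x * y) := by group
    _ = x⁻¹ * y⁻¹ * (y * x) := by rw [hx]
    _ = 1 := by group

theorem cm_of_central_right (x y : P) (hy : ∀ g, y * g = g * y) : cm x y = 1 := by
  unfold cm
  calc x⁻¹ * y⁻¹ * x * y = x⁻¹ * y⁻¹ * (x * y) := by group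
    _ = x⁻¹ * y⁻¹ * (y * x) := by rw [hy]
    _ = 1 := by group

variable (hcen : ∀ z : P, z * z = 1 → ∀ g, z * g = g * z)
  (hcomm : ∀ x y : P, (x⁻¹ * y⁻¹ * x * y) * (x⁻¹ * y⁻¹ * x * y) = 1)

include hcomm in
theorem cm_sq (x y : P) : cm x y * cm x y = 1 := hcomm x y

include hcen hcomm

theorem cm_central (x y g : P) : cm x y * g = g * cm x y := hcen _ (hcomm x y) g

theorem cm_mul_left (x x' y : P) : cm (x * x') y = cm x y * cm x' y := by
  have hc := cm_central hcen hcomm x y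
  calc cm (x * x') y = x'⁻¹ * cm x y * (y⁻¹ * x' * y) := by unfold cm; group
    _ = cm x y * x'⁻¹ * (y⁻¹ * x' * y) := by rw [← hc x'⁻¹]
    _ = cm x y * cm x' y := by unfold cm; group

theorem cm_symm (x y : P) : cm x y = cm y x := by
  have h1 : cm x y = (cm y x)⁻¹ := by unfold cm; group
  rw [h1]
  exact inv_eq_of_mul_eq_one_left (hcomm y x)

theorem cm_mul_right (x y y' : P) : cm x (y * y') = cm x y * cm x y' := by
  rw [cm_symm hcen hcomm x (y * y'), cm_mul_left hcen hcomm, cm_symm hcen hcomm y x,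
    cm_symm hcen hcomm y' x]

theorem cm_mul_central_left (x c y : P) (hc : ∀ g, c * g = g * c) : cm (x * c) y = cm x y := by
  rw [cm_mul_left hcen hcomm, cm_of_central_left c y hc, mul_one]

theorem cm_mul_central_right (x y c : P) (hc : ∀ g, c * g = g * c) : cm x (y * c) = cm x y := by
  rw [cm_mul_right hcen hcomm, cm_of_central_right x c hc, mul_one]

/-- Lemma F: a class-two group with a "field-like" commutative regular automorphism group
and an equivariant homomorphism onto the involutions with central kernel is abelian. -/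
theorem comm_of_field_like {K : Type*} [CommGroup K] [Finite K] (φ : K →* MulAut P)
    (hreg : ∀ x y : P, x ≠ 1 → x * x = 1 → y ≠ 1 → y * y = 1 → ∃! k : K, φ k x = y)
    (hinv : ∃ z : P, z ≠ 1 ∧ z * z = 1)
    (τ : P →* P) (hτ2 : ∀ x, τ x * τ x = 1) (hτK : ∀ (k : K) x, τ (φ k x) = φ k (τ x))
    (hker : ∀ x, τ x = 1 → ∀ g, x * g = g * x) : ∀ x y : P, x * y = y * x := by
  obtain ⟨z₁, hz₁, hz₁'⟩ := hinv
  have himg1 : ∀ (k : K) (a : P), a ≠ 1 → φ k a ≠ 1 := fun k a ha h =>
    ha ((map_eq_one_iff (φ k) (φ k).injective).mp h)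
  have himg2 : ∀ (k : K) (a : P), a * a = 1 → φ k a * φ k a = 1 := fun k a ha => by
    rw [← map_mul, ha, map_one]
  have hmul : ∀ (k m : K) (a : P), φ (k * m) a = φ k (φ m a) := fun k m a => by
    rw [map_mul]; rfl
  have hone : ∀ a : P, φ 1 a = a := fun a => by rw [map_one]; rfl
  have hinj : ∀ (k k' : K) (a : P), a ≠ 1 → a * a = 1 → φ k a = φ k' a → k = k' := by
    intro k k' a ha ha' h
    exact (hreg a (φ k a) ha ha' (himg1 k a ha) (himg2 k a ha')).unique rfl h.symm
  have hprod : ∀ a b : P, a * a = 1 → b * b = 1 → (a * b) * (a * b) = 1 := by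
    intro a b ha hb
    calc (a * b) * (a * b) = a * (b * a) * b := by group
      _ = a * (a * b) * b := by rw [hcen b hb a]
      _ = (a * a) * (b * b) := by group
      _ = 1 := by rw [ha, hb, one_mul]
  have hinvself : ∀ a : P, a * a = 1 → a⁻¹ = a := fun a ha => inv_eq_of_mul_eq_one_left ha
  -- F1
  have F1 : ∀ k k' : K, k ≠ k' →
      ∃ k'' : K, ∀ a : P, a * a = 1 → φ k a * φ k' a = φ k'' a := by
    intro k k' hkk'
    have hne : φ k z₁ * φ k' z₁ ≠ 1 := by
      intro h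
      apply hkk'
      apply hinj k k' z₁ hz₁ hz₁'
      have := eq_inv_of_mul_eq_one_left h
      rw [this, hinvself _ (himg2 k' z₁ hz₁')]
    obtain ⟨k'', hk''⟩ := (hreg z₁ _ hz₁ hz₁' hne
      (hprod _ _ (himg2 k z₁ hz₁') (himg2 k' z₁ hz₁'))).exists
    refine ⟨k'', fun a ha => ?_⟩
    by_cases ha1 : a = 1
    · rw [ha1]; simp
    obtain ⟨m, hm⟩ := (hreg z₁ a hz₁ hz₁' ha1 ha).exists
    rw [← hm, ← hmul, ← hmul, ← hmul, mul_comm k m, mul_comm k' m, mul_comm k'' m, hmul, hmul,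
      hmul, ← map_mul, hk'']
  -- F3
  have F3 : ∀ (k k' : K) (x y : P), cm (φ k x) (φ k' y) = cm (φ k' x) (φ k y) := by
    intro k k' x y
    by_cases hkk' : k = k'
    · subst hkk'; rfl
    obtain ⟨k'', hk''⟩ := F1 k k' hkk'
    have F2 : ∀ x : P, ∃ c : P, (∀ g, c * g = g * c) ∧ φ k x * φ k' x = φ k'' x * c := by
      intro x
      refine ⟨(φ k'' x)⁻¹ * (φ k x * φ k' x), hker _ ?_, by group⟩
      rw [map_mul, map_inv, map_mul, hτK, hτK, hτK, hk'' (τ x) (hτ2 x)]; group
    obtain ⟨c, hc, hxc⟩ := F2 x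
    obtain ⟨c', hc', hyc⟩ := F2 y
    have e1 : cm (φ k x * φ k' x) (φ k y * φ k' y)
        = cm (φ k x) (φ k y) * cm (φ k' x) (φ k' y) := by
      rw [hxc, hyc, cm_mul_central_left hcen hcomm _ _ _ hc,
        cm_mul_central_right hcen hcomm _ _ _ hc', cm_map, cm_map, cm_map]
      exact (hk'' (cm x y) (hcomm x y)).symm
    have e2 : cm (φ k x * φ k' x) (φ k y * φ k' y)
        = (cm (φ k x) (φ k y) * cm (φ k x) (φ k' y))
          * (cm (φ k' x) (φ k y) * cm (φ k' x) (φ k' y)) := by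
      rw [cm_mul_left hcen hcomm, cm_mul_right hcen hcomm, cm_mul_right hcen hcomm]
    rw [e2] at e1
    have hB := cm_central hcen hcomm (φ k x) (φ k' y)
    have h3 : cm (φ k x) (φ k y) * ((cm (φ k x) (φ k' y) * cm (φ k' x) (φ k y))
        * cm (φ k' x) (φ k' y)) = cm (φ k x) (φ k y) * cm (φ k' x) (φ k' y) := by
      rw [← e1]; group
    have h4 := mul_left_cancel h3
    have h5 : cm (φ k x) (φ k' y) * cm (φ k' x) (φ k y) = 1 := mul_eq_right.mp h4
    exact (eq_inv_of_mul_eq_one_left h5).trans (hinvself _ (hcomm _ _))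
  have F4 : ∀ (k : K) (x y : P), cm (φ k x) y = cm x (φ k y) := by
    intro k x y
    have := F3 k 1 x y
    rwa [hone, hone] at this
  -- no involutions in K
  have hK2 : ∀ n : K, n * n = 1 → n = 1 := by
    intro n hn
    have ha2 : (z₁ * φ n z₁) * (z₁ * φ n z₁) = 1 := hprod _ _ hz₁' (himg2 n z₁ hz₁')
    have hfix : φ n (z₁ * φ n z₁) = z₁ * φ n z₁ := by
      rw [map_mul, ← hmul, hn, hone]
      exact (hcen z₁ hz₁' _).symm
    by_cases ha1 : z₁ * φ n z₁ = 1
    · have h1 : φ n z₁ = z₁ := by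
        have := eq_inv_of_mul_eq_one_right ha1
        rw [this, hinvself z₁ hz₁']
      exact hinj n 1 z₁ hz₁ hz₁' (by rw [hone]; exact h1)
    · exact hinj n 1 _ ha1 ha2 (by rw [hone]; exact hfix)
  have hsq : ∀ k : K, ∃ n : K, n * n = k := by
    have hinjsq : Function.Injective (fun n : K => n * n) := by
      intro n n' h
      have h' : n * n = n' * n' := h
      have : n * n'⁻¹ = 1 := hK2 _ (by
        rw [mul_mul_mul_comm, ← mul_inv, h', mul_inv_cancel])
      exact mul_inv_eq_one.mp this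
    intro k
    exact (Finite.injective_iff_surjective.mp hinjsq) k
  intro x y
  by_cases hx : τ x = 1
  · exact hker x hx y
  by_cases hy : τ y = 1
  · exact (hker y hy x).symm
  obtain ⟨k, hk⟩ := (hreg (τ x) (τ y) hx (hτ2 x) hy (hτ2 y)).exists
  obtain ⟨n, rfl⟩ := hsq k
  have hcy : ∀ g, ((φ (n * n) x)⁻¹ * y) * g = g * ((φ (n * n) x)⁻¹ * y) :=
    hker _ (by rw [map_mul, map_inv, hτK, hk]; group)
  have hy' : y = φ (n * n) x * ((φ (n * n) x)⁻¹ * y) := by group
  apply comm_of_cm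
  rw [hy', cm_mul_central_right hcen hcomm _ _ _ hcy, hmul, ← F4, cm_self]

end fieldLike


section quot

variable (hcen : ∀ z : P, z * z = 1 → ∀ g, z * g = g * z)

/-- The (central) subgroup of elements of order at most two. -/
def invSub (hcen : ∀ z : P, z * z = 1 → ∀ g, z * g = g * z) : Subgroup P where
  carrier := {x | x * x = 1}
  one_mem' := by simp
  mul_mem' := by
    intro a b ha hb
    simp only [Set.mem_setOf_eq] at *
    calc (a * b) * (a * b) = a * (b * a) * b := by group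
      _ = a * (a * b) * b := by rw [hcen b hb a]
      _ = (a * a) * (b * b) := by group
      _ = 1 := by rw [ha, hb, one_mul]
  inv_mem' := by
    intro a ha
    simp only [Set.mem_setOf_eq] at *
    calc a⁻¹ * a⁻¹ = (a * a)⁻¹ := by group
      _ = 1 := by rw [ha, inv_one]

theorem mem_invSub (x : P) : x ∈ invSub hcen ↔ x * x = 1 := Iff.rfl

instance invSub_normal : (invSub hcen).Normal := ⟨fun n hn g => by
  rw [mem_invSub] at *
  calc (g * n * g⁻¹) * (g * n * g⁻¹) = g * (n * n) * g⁻¹ := by group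
    _ = 1 := by rw [hn]; group⟩

theorem map_invSub (e : MulAut P) :
    (invSub hcen).map ((e : P ≃* P) : P →* P) = invSub hcen := by
  ext x
  rw [Subgroup.mem_map, mem_invSub]
  constructor
  · rintro ⟨y, hy, rfl⟩
    rw [mem_invSub] at hy
    show e y * e y = 1
    rw [← map_mul, hy, map_one]
  · intro hx
    refine ⟨e.symm x, ?_, MulEquiv.apply_symm_apply e x⟩
    rw [mem_invSub, ← map_mul, hx, map_one]

/-- The induced action on the quotient by the involutions. -/
noncomputable def quotAct {K : Type*} [Group K] (φ : K →* MulAut P) :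
    K →* MulAut (P ⧸ invSub hcen) :=
  MonoidHom.mk' (fun k => QuotientGroup.congr (invSub hcen) (invSub hcen) (φ k)
      (map_invSub hcen (φ k)))
    (by
      intro a b
      ext q
      induction q using QuotientGroup.induction_on with
      | H x =>
        rw [MulAut.mul_apply, QuotientGroup.congr_mk, QuotientGroup.congr_mk,
          QuotientGroup.congr_mk, map_mul, MulAut.mul_apply])

theorem quotAct_mk {K : Type*} [Group K] (φ : K →* MulAut P) (k : K) (x : P) :
    quotAct hcen φ k (QuotientGroup.mk x) = QuotientGroup.mk (φ k x) := rfl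

theorem quot_reg {K : Type*} [Group K] (φ : K →* MulAut P)
    (hreg : ∀ x y : P, x ≠ 1 → x * x = 1 → y ≠ 1 → y * y = 1 → ∃! k : K, φ k x = y)
    (hB : ∀ x : P, (x * x) * (x * x) = 1 → ∀ g, x * g = g * x) :
    ∀ a b : P ⧸ invSub hcen, a ≠ 1 → a * a = 1 → b ≠ 1 → b * b = 1 →
      ∃! k : K, quotAct hcen φ k a = b := by
  intro a b
  induction a using QuotientGroup.induction_on with
  | H x =>
  induction b using QuotientGroup.induction_on with
  | H y =>
  intro ha1 ha2 hb1 hb2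
  have hx1 : x * x ≠ 1 := fun h => ha1 ((QuotientGroup.eq_one_iff x).mpr h)
  have hx2 : (x * x) * (x * x) = 1 := by
    rw [← QuotientGroup.mk_mul, QuotientGroup.eq_one_iff] at ha2; exact ha2
  have hy1 : y * y ≠ 1 := fun h => hb1 ((QuotientGroup.eq_one_iff y).mpr h)
  have hy2 : (y * y) * (y * y) = 1 := by
    rw [← QuotientGroup.mk_mul, QuotientGroup.eq_one_iff] at hb2; exact hb2
  obtain ⟨k, hk, hku⟩ := hreg (x * x) (y * y) hx1 hx2 hy1 hy2
  refine ⟨k, ?_, ?_⟩
  · show quotAct hcen φ k (QuotientGroup.mk x) = QuotientGroup.mk y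
    rw [quotAct_mk, QuotientGroup.eq, mem_invSub]
    have hcy := hB y hy2
    calc ((φ k x)⁻¹ * y) * ((φ k x)⁻¹ * y) = (φ k x)⁻¹ * (y * (φ k x)⁻¹) * y := by group
      _ = (φ k x)⁻¹ * ((φ k x)⁻¹ * y) * y := by rw [hcy]
      _ = (φ k x * φ k x)⁻¹ * (y * y) := by group
      _ = 1 := by rw [← map_mul, hk]; group
  · intro k' hk'
    apply hku
    change quotAct hcen φ k' (QuotientGroup.mk x) = QuotientGroup.mk y at hk'
    rw [quotAct_mk, QuotientGroup.eq, mem_invSub] at hk'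
    have hsc := hcen _ hk'
    have hy' : y = φ k' x * ((φ k' x)⁻¹ * y) := by group
    rw [map_mul]
    calc φ k' x * φ k' x = φ k' x * φ k' x * (((φ k' x)⁻¹ * y) * ((φ k' x)⁻¹ * y)) := by
          rw [hk', mul_one]
      _ = φ k' x * (φ k' x * ((φ k' x)⁻¹ * y)) * ((φ k' x)⁻¹ * y) := by group
      _ = φ k' x * (((φ k' x)⁻¹ * y) * φ k' x) * ((φ k' x)⁻¹ * y) := by rw [hsc]
      _ = y * y := by group

end quot



theorem pw1 {G : Type*} [Monoid G] (a : G) (i : ℕ) : a ^ 2 ^ i * a ^ 2 ^ i = a ^ 2 ^ (i + 1) := by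
  rw [← pow_add, ← two_mul, ← pow_succ']

theorem pw2 {G : Type*} [Monoid G] (a : G) (i : ℕ) :
    (a ^ 2 ^ i * a ^ 2 ^ i) * (a ^ 2 ^ i * a ^ 2 ^ i) = a ^ 2 ^ (i + 1 + 1) := by
  rw [pw1, pw1]

theorem pw3 {G : Type*} [Monoid G] (a : G) (i : ℕ) : (a ^ 2 ^ i) ^ 2 = a ^ 2 ^ (i + 1) := by
  rw [pow_two, pw1]

/-- Main induction: the centre has exponent two. -/
theorem main_aux : ∀ n : ℕ, ∀ (P : Type u) [Group P] [Finite P] (K : Type u) [CommGroup K]
    (φ : K →* MulAut P), Nat.card P = n → IsPGroup 2 P → (∃ x y : P, x * y ≠ y * x) →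
    (∃ x y : P, x ≠ y ∧ x ≠ 1 ∧ x * x = 1 ∧ y ≠ 1 ∧ y * y = 1) →
    (∀ x y : P, x ≠ 1 → x * x = 1 → y ≠ 1 → y * y = 1 → ∃! k : K, φ k x = y) →
    ∀ z ∈ Subgroup.center P, z * z = 1 := by
  intro n
  induction n using Nat.strong_induction_on with
  | _ n ih =>
  intro P _ _ K _ φ hn h2 hnc hinv2 hreg z hz
  by_contra hzz
  obtain ⟨t₁, t₂, ht12, ht1, ht1', ht2, ht2'⟩ := hinv2
  have htr : ∀ x y : P, x ≠ 1 → x * x = 1 → y ≠ 1 → y * y = 1 → ∃ k : K, φ k x = y :=
    fun x y a b c d => (hreg x y a b c d).exists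
  have hcen := involution_central h2 φ ⟨t₁, ht1, ht1'⟩ htr
  obtain ⟨j, hj1, hj2⟩ := exists_order_four h2 z hzz
  have hwc : ∀ g, z ^ j * g = g * z ^ j := fun g =>
    (Subgroup.mem_center_iff.mp (Subgroup.pow_mem _ hz j) g).symm
  have hB := sq_inv_central φ hcen htr (z ^ j) hwc hj1 hj2
  have hsqrt := exists_central_sqrt φ htr (z ^ j) hwc hj1 hj2
  have hKfin : Finite K := Finite.of_injective (fun k => φ k t₁) (by
    intro k k' h
    have hk1 : φ k t₁ ≠ 1 := fun h1 => ht1 ((map_eq_one_iff (φ k) (φ k).injective).mp h1)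
    have hk2 : φ k t₁ * φ k t₁ = 1 := by rw [← map_mul, ht1', map_one]
    exact (hreg t₁ (φ k t₁) ht1 ht1' hk1 hk2).unique rfl h.symm)
  have h2Q : IsPGroup 2 (P ⧸ invSub hcen) := h2.to_quotient _
  have hcardQ : Nat.card (P ⧸ invSub hcen) < n := by
    have h1 := Subgroup.card_eq_card_quotient_mul_card_subgroup (invSub hcen)
    have h3 : 1 < Nat.card (invSub hcen) := by
      rw [Subgroup.one_lt_card_iff_ne_bot]
      intro hbot
      have : t₁ ∈ invSub hcen := ht1'
      rw [hbot, Subgroup.mem_bot] at this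
      exact ht1 this
    have hpos : 0 < Nat.card (P ⧸ invSub hcen) := Nat.card_pos
    rw [← hn, h1]; nlinarith
  have hregQ := quot_reg hcen φ hreg hB
  obtain ⟨w₁, hw₁c, hw₁⟩ := hsqrt t₁ ht1 ht1'
  obtain ⟨w₂, hw₂c, hw₂⟩ := hsqrt t₂ ht2 ht2'
  have hinv2Q : ∃ a b : P ⧸ invSub hcen, a ≠ b ∧ a ≠ 1 ∧ a * a = 1 ∧ b ≠ 1 ∧ b * b = 1 := by
    refine ⟨QuotientGroup.mk w₁, QuotientGroup.mk w₂, ?_, ?_, ?_, ?_, ?_⟩
    · intro h
      rw [QuotientGroup.eq, mem_invSub] at h
      apply ht12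
      have : (w₁⁻¹ * w₂) * (w₁⁻¹ * w₂) = (w₁ * w₁)⁻¹ * (w₂ * w₂) := by
        calc (w₁⁻¹ * w₂) * (w₁⁻¹ * w₂) = w₁⁻¹ * (w₂ * w₁⁻¹) * w₂ := by group
          _ = w₁⁻¹ * (w₁⁻¹ * w₂) * w₂ := by rw [hw₂c]
          _ = (w₁ * w₁)⁻¹ * (w₂ * w₂) := by group
      rw [this, hw₁, hw₂] at h
      exact inv_mul_eq_one.mp h
    · rw [Ne, QuotientGroup.eq_one_iff, mem_invSub, hw₁]; exact ht1
    · rw [← QuotientGroup.mk_mul, QuotientGroup.eq_one_iff, mem_invSub, hw₁]; exact ht1'
    · rw [Ne, QuotientGroup.eq_one_iff, mem_invSub, hw₂]; exact ht2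
    · rw [← QuotientGroup.mk_mul, QuotientGroup.eq_one_iff, mem_invSub, hw₂]; exact ht2'
  by_cases hQc : ∀ a b : P ⧸ invSub hcen, a * b = b * a
  · -- commutative quotient
    have hcomm : ∀ x y : P, (x⁻¹ * y⁻¹ * x * y) * (x⁻¹ * y⁻¹ * x * y) = 1 := by
      intro x y
      rw [← mem_invSub hcen, ← QuotientGroup.eq_one_iff]
      simp only [QuotientGroup.mk_mul, QuotientGroup.mk_inv]
      rw [mul_assoc, hQc (QuotientGroup.mk x) (QuotientGroup.mk y)]; group
    classical
    have hexE : ∃ E : ℕ, ∀ x : P, x ^ 2 ^ E = 1 := by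
      obtain ⟨E, hE⟩ := IsPGroup.iff_card.mp h2
      exact ⟨E, fun x => by rw [← hE]; exact pow_card_eq_one'⟩
    obtain ⟨E, hE, hEmin⟩ : ∃ E, (∀ x : P, x ^ 2 ^ E = 1) ∧
        ∀ E' < E, ¬ ∀ x : P, x ^ 2 ^ E' = 1 :=
      ⟨Nat.find hexE, Nat.find_spec hexE, fun E' h => Nat.find_min hexE h⟩
    have hE3 : 3 ≤ E := by
      by_contra hlt
      push Not at hlt
      obtain ⟨x, y, hxy⟩ := hnc
      apply hxy
      apply hB x
      have : x ^ 4 = 1 := by
        have h4 : (4 : ℕ) = 2 ^ E * 2 ^ (2 - E) := by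
          rw [← pow_add, show E + (2 - E) = 2 by omega]; rfl
        rw [h4, pow_mul, hE, one_pow]
      rw [show (4 : ℕ) = 2 + 2 from rfl, pow_add, pow_two] at this
      exact this
    obtain ⟨e', rfl⟩ : ∃ e', E = e' + 1 + 1 := ⟨E - 2, by omega⟩
    have he2 : 2 ≤ e' + 1 := by omega
    obtain ⟨u, hu⟩ : ∃ u : P, u ^ 2 ^ (e' + 1) ≠ 1 := by
      have := hEmin (e' + 1) (by omega)
      push Not at this
      exact this
    let τ : P →* P := MonoidHom.mk' (fun x => x ^ 2 ^ (e' + 1))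
      (mul_pow_two_pow hcen hcomm (e' + 1) he2)
    have hτ : ∀ x, τ x = x ^ 2 ^ (e' + 1) := fun _ => rfl
    have hτ2 : ∀ x, τ x * τ x = 1 := fun x => by
      rw [hτ, pw1]; exact hE x
    have hτK : ∀ (k : K) x, τ (φ k x) = φ k (τ x) := fun k x => by rw [hτ, hτ, map_pow]
    have hker : ∀ x, τ x = 1 → ∀ g, x * g = g * x := by
      intro x hx
      have k1 : ∀ a : P ⧸ invSub hcen, a ^ 2 = 1 → ∃ b, b ^ 2 ^ e' = a := by
        intro a ha
        by_cases ha1 : a = 1
        · exact ⟨1, by rw [ha1, one_pow]⟩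
        have hu1 : (QuotientGroup.mk (u ^ 2 ^ e') : P ⧸ invSub hcen) ≠ 1 := by
          rw [Ne, QuotientGroup.eq_one_iff, mem_invSub, pw1]
          exact hu
        have hu2 : (QuotientGroup.mk (u ^ 2 ^ e') : P ⧸ invSub hcen)
            * QuotientGroup.mk (u ^ 2 ^ e') = 1 := by
          rw [← QuotientGroup.mk_mul, QuotientGroup.eq_one_iff, mem_invSub, pw2]
          exact hE u
        obtain ⟨k, hk⟩ := (hregQ _ a hu1 hu2 ha1 (by rw [← pow_two]; exact ha)).exists
        refine ⟨QuotientGroup.mk (φ k u), ?_⟩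
        rw [← hk, quotAct_mk, map_pow, QuotientGroup.mk_pow]
      have k2 : ∀ a : P ⧸ invSub hcen, (a ^ 2 ^ e') ^ 2 = 1 := by
        intro a
        induction a using QuotientGroup.induction_on with
        | H v =>
        rw [← QuotientGroup.mk_pow, ← QuotientGroup.mk_pow, QuotientGroup.eq_one_iff, mem_invSub,
          pw3, pw1]
        exact hE v
      have k3 : (QuotientGroup.mk x : P ⧸ invSub hcen) ^ 2 ^ e' = 1 := by
        rw [← QuotientGroup.mk_pow, QuotientGroup.eq_one_iff, mem_invSub, pw1]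
        exact hx
      obtain ⟨b, hb⟩ := ker_pow_sub_range_sq hQc (2 ^ e') k1 k2 _ k3
      induction b using QuotientGroup.induction_on with
      | H v =>
      rw [← QuotientGroup.mk_pow, QuotientGroup.eq, mem_invSub] at hb
      have hs := hcen _ hb
      have hv := sq_central hcen hcomm v
      intro g
      calc x * g = (v * v) * ((v ^ 2)⁻¹ * x) * g := by rw [pow_two]; group
        _ = (v * v) * (((v ^ 2)⁻¹ * x) * g) := by group
        _ = (v * v) * (g * ((v ^ 2)⁻¹ * x)) := by rw [hs]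
        _ = ((v * v) * g) * ((v ^ 2)⁻¹ * x) := by group
        _ = (g * (v * v)) * ((v ^ 2)⁻¹ * x) := by rw [hv]
        _ = g * x := by rw [pow_two]; group
    obtain ⟨x, y, hxy⟩ := hnc
    exact hxy (comm_of_field_like hcen hcomm φ hreg ⟨t₁, ht1, ht1'⟩ τ hτ2 hτK hker x y)
  · -- noncommutative quotient
    push Not at hQc
    have ihQ := ih (Nat.card (P ⧸ invSub hcen)) hcardQ (P ⧸ invSub hcen) K (quotAct hcen φ) rfl
      h2Q hQc hinv2Q hregQ
    have hnt : Nontrivial (P ⧸ Subgroup.center P) := by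
      obtain ⟨x, y, hxy⟩ := hnc
      refine ⟨⟨QuotientGroup.mk x, 1, ?_⟩⟩
      intro h
      rw [QuotientGroup.eq_one_iff] at h
      exact hxy ((Subgroup.mem_center_iff.mp h y).symm)
    obtain ⟨r, hrc, hr1, hr2⟩ := exists_central_involution (h2.to_quotient (Subgroup.center P))
    induction r using QuotientGroup.induction_on with
    | H x =>
    have hx1 : x ∉ Subgroup.center P := fun h => hr1 ((QuotientGroup.eq_one_iff x).mpr h)
    have hx2 : x * x ∈ Subgroup.center P := by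
      rw [← QuotientGroup.mk_mul, QuotientGroup.eq_one_iff] at hr2; exact hr2
    have hx3 : ∀ g, x⁻¹ * g⁻¹ * x * g ∈ Subgroup.center P := by
      intro g
      have := Subgroup.mem_center_iff.mp hrc (QuotientGroup.mk g)
      rw [← QuotientGroup.eq_one_iff]
      simp only [QuotientGroup.mk_mul, QuotientGroup.mk_inv]
      rw [mul_assoc, ← this]; group
    have hx4 : ∀ g, (x⁻¹ * g⁻¹ * x * g) * (x⁻¹ * g⁻¹ * x * g) = 1 := by
      intro g
      have hcc := Subgroup.mem_center_iff.mp (hx3 g)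
      have hxx := Subgroup.mem_center_iff.mp hx2 g
      have h1 : g⁻¹ * x * g = x * (x⁻¹ * g⁻¹ * x * g) := by group
      have h2' : (x * (x⁻¹ * g⁻¹ * x * g)) * (x * (x⁻¹ * g⁻¹ * x * g)) = x * x := by
        rw [← h1]
        calc g⁻¹ * x * g * (g⁻¹ * x * g) = g⁻¹ * ((x * x) * g) := by group
          _ = g⁻¹ * (g * (x * x)) := by rw [hxx]
          _ = x * x := by group
      have h3 : (x * (x⁻¹ * g⁻¹ * x * g)) * (x * (x⁻¹ * g⁻¹ * x * g))
          = (x * x) * ((x⁻¹ * g⁻¹ * x * g) * (x⁻¹ * g⁻¹ * x * g)) := by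
        calc (x * (x⁻¹ * g⁻¹ * x * g)) * (x * (x⁻¹ * g⁻¹ * x * g))
            = x * ((x⁻¹ * g⁻¹ * x * g) * x) * (x⁻¹ * g⁻¹ * x * g) := by group
          _ = x * (x * (x⁻¹ * g⁻¹ * x * g)) * (x⁻¹ * g⁻¹ * x * g) := by rw [← hcc x]
          _ = (x * x) * ((x⁻¹ * g⁻¹ * x * g) * (x⁻¹ * g⁻¹ * x * g)) := by group
      rw [h3] at h2'
      exact mul_eq_left.mp h2'
    have hxQ : (QuotientGroup.mk x : P ⧸ invSub hcen) ∈ Subgroup.center (P ⧸ invSub hcen) := by
      rw [Subgroup.mem_center_iff]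
      intro q
      induction q using QuotientGroup.induction_on with
      | H g =>
      rw [← QuotientGroup.mk_mul, ← QuotientGroup.mk_mul, QuotientGroup.eq, mem_invSub]
      have : (g * x)⁻¹ * (x * g) = x⁻¹ * g⁻¹ * x * g := by group
      rw [this]; exact hx4 g
    have := ihQ _ hxQ
    rw [← QuotientGroup.mk_mul, QuotientGroup.eq_one_iff, mem_invSub] at this
    exact hx1 (Subgroup.mem_center_iff.mpr (fun g => (hB x this g).symm))

/-- Higman: in a Suzuki 2-group the involutions are the nontrivial central elements and the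
centre is elementary abelian. -/
theorem suzuki_center {P : Type u} [Group P] (hP : Cfsg.IsSuzukiTwoGroup P) :
    (∀ x : P, (x ≠ 1 ∧ x * x = 1) ↔ (x ∈ Subgroup.center P ∧ x ≠ 1)) ∧
      ∀ z ∈ Subgroup.center P, z * z = 1 := by
  obtain ⟨hfin, h2, hnc, hinv2, K, hKc, hreg⟩ := hP
  haveI := hfin
  letI : CommGroup K := IsCyclic.commGroup
  have hreg' : ∀ x y : P, x ≠ 1 → x * x = 1 → y ≠ 1 → y * y = 1 →
      ∃! k : K, K.subtype k x = y := fun x y a b c d => hreg x y a b c d
  have hmain := main_aux (Nat.card P) P K K.subtype rfl h2 hnc hinv2 hreg'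
  refine ⟨fun x => ⟨fun ⟨hx1, hx2⟩ => ⟨?_, hx1⟩, fun ⟨hxc, hx1⟩ => ⟨hx1, hmain x hxc⟩⟩, hmain⟩
  obtain ⟨t₁, t₂, ht12, ht1, ht1', ht2, ht2'⟩ := hinv2
  have hcen := involution_central h2 K.subtype ⟨t₁, ht1, ht1'⟩
    (fun x y a b c d => (hreg' x y a b c d).exists)
  exact Subgroup.mem_center_iff.mpr (fun g => (hcen x hx2 g).symm)

end Cfsg.Agent.Lib.H24.SuzukiTwo
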