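import Mathlib

set_option autoImplicit false

/-!
# Self-dual faithful irreducible modules of abelian groups over finite fields

Field-level lemmas: `L/F` a finite extension of finite fields, `ι : H →* L` with image generating
`L` as an `F`-algebra.  An `ι(H)`-invariant nondegenerate `F`-bilinear form on `L` exists iff
`|H|` divides `q^(n/2)+1` with `n = [L:F]` even (when `n ≥ 2`).
-/

namespace Cfsg.Agent.Lib.H24.SelfDualAbelian

open FiniteField

section FieldLevel

variable {F : Type*} [Field F] [Fintype F] {L : Type*} [Field L] [Algebra F L]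
  [FiniteDimensional F L] {H : Type*} [CommGroup H] [Finite H] (ι : H →* L)

theorem iota_ne_zero (h : H) : ι h ≠ 0 := by
  intro h0
  have h1 : ι (h * h⁻¹) = 1 := by simp
  rw [map_mul, h0, zero_mul] at h1
  exact zero_ne_one h1

theorem forward (hι : Function.Injective ι) (hgen : Algebra.adjoin F (Set.range ι) = ⊤)
    (hn : 2 ≤ Module.finrank F L) (B : LinearMap.BilinForm F L) (hB : B.Nondegenerate)
    (hinv : ∀ h a b, B (ι h * a) (ι h * b) = B a b) :
    Even (Module.finrank F L) ∧
      Nat.card H ∣ Fintype.card F ^ (Module.finrank F L / 2) + 1 := by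
  haveI : Finite L := Module.finite_of_finite F
  -- the adjoint subalgebra
  let S : Subalgebra F L :=
    { carrier := {c | ∃ d, ∀ a b, B (c * a) b = B a (d * b)}
      mul_mem' := by
        rintro c c' ⟨d, hd⟩ ⟨d', hd'⟩
        refine ⟨d' * d, fun a b => ?_⟩
        rw [mul_assoc, hd, hd', mul_assoc]
      one_mem' := ⟨1, fun a b => by simp⟩
      add_mem' := by
        rintro c c' ⟨d, hd⟩ ⟨d', hd'⟩
        refine ⟨d + d', fun a b => ?_⟩
        rw [add_mul, map_add, LinearMap.add_apply, hd, hd', add_mul, map_add]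
      zero_mem' := ⟨0, fun a b => by simp⟩
      algebraMap_mem' := fun r => ⟨algebraMap F L r, fun a b => by
        rw [← Algebra.smul_def, ← Algebra.smul_def, map_smul, LinearMap.smul_apply, map_smul]⟩ }
  have hS : S = ⊤ := by
    refine top_le_iff.mp (hgen ▸ Algebra.adjoin_le ?_)
    rintro _ ⟨h, rfl⟩
    refine ⟨(ι h)⁻¹, fun a b => ?_⟩
    have h1 := hinv h a ((ι h)⁻¹ * b)
    rw [mul_inv_cancel_left₀ (iota_ne_zero ι h)] at h1
    exact h1
  have hex : ∀ c : L, ∃ d, ∀ a b, B (c * a) b = B a (d * b) := fun c => by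
    have h1 : c ∈ S := hS ▸ Algebra.mem_top
    exact h1
  choose τ hτ using hex
  have huniq : ∀ c d, (∀ a b, B (c * a) b = B a (d * b)) → τ c = d := by
    intro c d hd
    have h1 : ∀ a, B a (τ c - d) = 0 := by
      intro a
      have h2 := (hτ c a 1).symm.trans (hd a 1)
      rw [mul_one, mul_one] at h2
      rw [map_sub, h2, sub_self]
    exact sub_eq_zero.mp (hB.2 _ h1)
  let T : L →ₐ[F] L :=
    { toFun := τ
      map_one' := huniq 1 1 (by simp)
      map_mul' := fun c c' => huniq (c * c') (τ c * τ c') (fun a b => by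
          rw [mul_assoc, hτ, hτ, ← mul_assoc, mul_comm (τ c') (τ c)])
      map_zero' := huniq 0 0 (by simp)
      map_add' := fun c c' => huniq (c + c') (τ c + τ c') (fun a b => by
          rw [add_mul, map_add, LinearMap.add_apply, hτ, hτ, add_mul, map_add])
      commutes' := fun r => huniq _ _ (fun a b => by
          rw [← Algebra.smul_def, ← Algebra.smul_def, map_smul, LinearMap.smul_apply,
            map_smul]) }
  have hT : ∀ h, T (ι h) = (ι h)⁻¹ := by
    intro h
    refine huniq _ _ (fun a b => ?_)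
    have h1 := hinv h a ((ι h)⁻¹ * b)
    rw [mul_inv_cancel_left₀ (iota_ne_zero ι h)] at h1
    exact h1
  have hTT : T * T = 1 := by
    refine AlgHom.ext_of_adjoin_eq_top hgen ?_
    rintro _ ⟨h, rfl⟩
    rw [AlgHom.mul_apply, hT, map_inv₀, hT, inv_inv, AlgHom.one_apply]
  obtain ⟨⟨j, hj⟩, hjT⟩ := (bijective_frobeniusAlgHom_pow F L).2 T
  simp only at hjT
  have hdvd : Module.finrank F L ∣ 2 * j := by
    rw [← orderOf_frobeniusAlgHom F L]
    apply orderOf_dvd_of_pow_eq_one
    rw [mul_comm, pow_mul, hjT, pow_two, hTT]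
  have hj0 : j ≠ 0 := by
    rintro rfl
    rw [pow_zero] at hjT
    have h1 : ∀ h, ι h ∈ (⊥ : Subalgebra F L) := by
      intro h
      have h2 : (ι h)⁻¹ = ι h := by rw [← hT, ← hjT, AlgHom.one_apply]
      have h3 : ι h * ι h = 1 := by
        nth_rewrite 1 [← h2]
        exact inv_mul_cancel₀ (iota_ne_zero ι h)
      rcases mul_self_eq_one_iff.mp h3 with h4 | h4
      · rw [h4]; exact one_mem _
      · rw [h4]; exact neg_mem (one_mem _)
    have h2 : (⊤ : Subalgebra F L) ≤ ⊥ := by
      rw [← hgen]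
      refine Algebra.adjoin_le ?_
      rintro _ ⟨h, rfl⟩
      exact h1 h
    have h3 : Module.finrank F L = 1 := by
      rw [← Subalgebra.bot_eq_top_iff_finrank_eq_one]
      exact (top_le_iff.mp h2)
    omega
  have hnj : Module.finrank F L = 2 * j := by
    obtain ⟨k, hk⟩ := hdvd
    have hk1 : k = 1 := by
      have hpos : 0 < Module.finrank F L := by omega
      have h1 : k ≠ 0 := by rintro rfl; omega
      have h2 : k < 2 := by
        by_contra h3
        push Not at h3
        have : Module.finrank F L * 2 ≤ Module.finrank F L * k := Nat.mul_le_mul_left _ h3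
        omega
      omega
    rw [hk, hk1, mul_one]
  have hhalf : Module.finrank F L / 2 = j := by omega
  refine ⟨⟨j, by omega⟩, ?_⟩
  rw [hhalf]
  have hpow : ∀ h : H, h ^ (Fintype.card F ^ j + 1) = 1 := by
    intro h
    apply hι
    rw [map_pow, map_one, pow_succ]
    have h1 : (ι h) ^ (Fintype.card F ^ j) = (ι h)⁻¹ := by
      rw [← hT, ← hjT, AlgHom.coe_pow, coe_frobeniusAlgHom, pow_iterate]
    rw [h1, inv_mul_cancel₀ (iota_ne_zero ι h)]
  haveI : IsCyclic H := isCyclic_of_subgroup_isDomain ι hι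
  rw [← IsCyclic.exponent_eq_card]
  exact Monoid.exponent_dvd_of_forall_pow_eq_one hpow

theorem backward
    (hdvd : Nat.card H ∣ Fintype.card F ^ (Module.finrank F L / 2) + 1) :
    ∃ B : LinearMap.BilinForm F L, B.Nondegenerate ∧
      ∀ h a b, B (ι h * a) (ι h * b) = B a b := by
  haveI : Finite L := Module.finite_of_finite F
  obtain ⟨m, hm⟩ : ∃ m, m = Module.finrank F L / 2 := ⟨_, rfl⟩
  rw [← hm] at hdvd
  let σ : L →ₐ[F] L := frobeniusAlgHom F L ^ m
  have hσ : ∀ x, σ x = x ^ (Fintype.card F ^ m) := fun x => by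
    simp only [σ, AlgHom.coe_pow, coe_frobeniusAlgHom, pow_iterate]
  have hσinj : Function.Injective σ := σ.toRingHom.injective
  have hσsurj : Function.Surjective σ := Finite.surjective_of_injective hσinj
  obtain ⟨lam, hlam⟩ : ∃ lam : Module.Dual F L, lam 1 ≠ 0 := by
    by_contra hcon
    push Not at hcon
    exact one_ne_zero ((Module.forall_dual_apply_eq_zero_iff F (1 : L)).mp hcon)
  let B : LinearMap.BilinForm F L := LinearMap.mk₂ F (fun a b => lam (a * σ b))
    (by intros; simp [add_mul]) (by intros; simp [smul_mul_assoc])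
    (by intros; simp [mul_add]) (by intros; simp [mul_smul_comm])
  have hBapp : ∀ a b, B a b = lam (a * σ b) := fun a b => rfl
  refine ⟨B, ⟨?_, ?_⟩, ?_⟩
  · intro a ha
    by_contra ha0
    obtain ⟨b, hb⟩ := hσsurj (a⁻¹)
    have h1 := ha b
    rw [hBapp, hb, mul_inv_cancel₀ ha0] at h1
    exact hlam h1
  · intro b hb
    by_contra hb0
    have hσb : σ b ≠ 0 := (map_ne_zero σ).mpr hb0
    have h1 := hb ((σ b)⁻¹)
    rw [hBapp, inv_mul_cancel₀ hσb] at h1
    exact hlam h1
  · intro h a b
    rw [hBapp, hBapp, map_mul σ, hσ (ι h)]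
    have h1 : ι h * (ι h) ^ (Fintype.card F ^ m) = 1 := by
      rw [← pow_succ', ← map_pow]
      have h2 : h ^ (Fintype.card F ^ m + 1) = 1 := by
        obtain ⟨k, hk⟩ := hdvd
        rw [hk, pow_mul, pow_card_eq_one', one_pow]
      rw [h2, map_one]
    rw [mul_mul_mul_comm, h1, one_mul]

end FieldLevel

section Bridge

universe u v w

theorem exists_field_model {F : Type u} [Field F] {H : Type v} [CommGroup H]
    {V : Type w} [AddCommGroup V] [Module F V] [Nontrivial V] (ρ : Representation F H V)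
    (hirr : ∀ U : Submodule F V, (∀ h : H, ∀ u ∈ U, ρ h u ∈ U) → U = ⊥ ∨ U = ⊤) :
    ∃ (L : Type (max u v)) (_ : Field L) (_ : Algebra F L) (ι : H →* L) (e : L ≃ₗ[F] V),
      Algebra.adjoin F (Set.range ι) = ⊤ ∧ ∀ h a, e (ι h * a) = ρ h (e a) := by
  classical
  have hsimple : IsSimpleModule (MonoidAlgebra F H) ρ.asModule := by
    rw [isSimpleModule_iff]
    refine (OrderIso.isSimpleOrder_iff ρ.mapSubmodule).mp ?_
    have : Nontrivial ρ.invtSubmodule := inferInstance
    refine ⟨fun ⟨U, hU⟩ => ?_⟩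
    rcases hirr U (fun h u hu => (ρ.mem_invtSubmodule.mp hU h) hu) with h | h
    · left; exact Subtype.ext h
    · right; exact Subtype.ext h
  have : Nontrivial ρ.asModule := IsSimpleModule.nontrivial (MonoidAlgebra F H) ρ.asModule
  obtain ⟨v, hv⟩ := exists_ne (0 : ρ.asModule)
  let f := LinearMap.toSpanSingleton (MonoidAlgebra F H) ρ.asModule v
  have hsurj : Function.Surjective f := IsSimpleModule.toSpanSingleton_surjective _ hv
  let I : Ideal (MonoidAlgebra F H) := LinearMap.ker f
  have hmax : I.IsMaximal := IsSimpleModule.ker_toSpanSingleton_isMaximal _ hv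
  let e₀ : (MonoidAlgebra F H ⧸ I) ≃ₗ[MonoidAlgebra F H] ρ.asModule :=
    f.quotKerEquivOfSurjective hsurj
  let ι : H →* (MonoidAlgebra F H ⧸ I) :=
    (Ideal.Quotient.mk I).toMonoidHom.comp (MonoidAlgebra.of F H)
  refine ⟨MonoidAlgebra F H ⧸ I, Ideal.Quotient.field I, inferInstance, ι,
    (e₀.restrictScalars F).trans ρ.asModuleEquiv, ?_, ?_⟩
  · refine top_le_iff.mp ?_
    rintro a -
    obtain ⟨x, rfl⟩ := Ideal.Quotient.mk_surjective a
    induction x using MonoidAlgebra.induction_on with
    | of g => exact Algebra.subset_adjoin ⟨g, rfl⟩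
    | add x y hx hy => rw [map_add]; exact add_mem hx hy
    | smul r x hx =>
      have h1 : Ideal.Quotient.mk I (r • x) = r • Ideal.Quotient.mk I x := rfl
      rw [h1]
      exact Subalgebra.smul_mem _ hx r
  · intro h a
    have h1 : ι h * a = (MonoidAlgebra.of F H h) • a := by
      obtain ⟨x, rfl⟩ := Ideal.Quotient.mk_surjective a
      rfl
    rw [h1]
    simp only [LinearEquiv.trans_apply, LinearEquiv.restrictScalars_apply, map_smul,
      Representation.asModuleEquiv_map_smul, Representation.asAlgebraHom_of]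

end Bridge

end Cfsg.Agent.Lib.H24.SelfDualAbelian
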