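/-
Aschbacher's theorem, ORTHOGONAL case in odd dimension (S5673 project): class-by-class predicates.  (helper24)
`Q` a quadratic form on `F^ι`, `f = QuadraticMap.polar Q`, `I = isometryGroup F Q`; every predicate says
`H ≤ X` for the GL-level member `X` (the class member is `X ⊓ I`).  The predicates are stated for an arbitrary
finite index type `ι`: the modules are proved for `ι = Fin n` and transported once to `Unit ⊕ (Fin m ⊕ Fin m)`.
-/
import Cfsg.Agent.Lib.Lead.AschDefs2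

set_option autoImplicit false

namespace Cfsg.Agent.Lib.H24.Asch

open Cfsg Cfsg.Geo
open scoped MatrixGroups Matrix Kronecker

variable {ι : Type} [Fintype ι] [DecidableEq ι] {F : Type*} [Field F] [Fintype F]

/-- class 1, totally singular subspace. -/
def OC1a (Q : (ι → F) → F) (H : Subgroup (GL ι F)) : Prop :=
  ∃ W : Submodule F (ι → F), W ≠ ⊥ ∧ IsTotallySingularQuad Q W ∧ H ≤ subspaceStabilizer W

/-- class 1, non-degenerate subspace. -/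
def OC1b (Q : (ι → F) → F) (H : Subgroup (GL ι F)) : Prop :=
  ∃ W : Submodule F (ι → F), W ≠ ⊥ ∧ W ≠ ⊤ ∧ IsNondegenerateOn (QuadraticMap.polar Q) W ∧
    H ≤ subspaceStabilizer W

/-- class 2, blocks of dimension `k > 1`. -/
def OC2a (Q : (ι → F) → F) (H : Subgroup (GL ι F)) : Prop :=
  ∃ (t k : ℕ) (D : Fin t → Submodule F (ι → F)), 1 < k ∧ IsOrthogonalMDecomposition Q k D ∧
    H ≤ decompositionStabilizer D

/-- class 2, blocks of dimension `1`, `F` a prime field. -/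
def OC2b (Q : (ι → F) → F) (H : Subgroup (GL ι F)) : Prop :=
  ∃ (t : ℕ) (D : Fin t → Submodule F (ι → F)), (Fintype.card F).Prime ∧
    IsOrthogonalMDecomposition Q 1 D ∧ H ≤ decompositionStabilizer D

/-- class 3. -/
def OC3 (Q : (ι → F) → F) (H : Subgroup (GL ι F)) : Prop :=
  ∃ (r : ℕ) (K : Subalgebra F (Matrix ι ι F)), r.Prime ∧ Fintype.card ι ≠ r ∧ IsFieldSubalgebra r K ∧
    IsSelfAdjointFor (QuadraticMap.polar Q) K ∧ H ≤ subalgebraNormalizer K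

/-- class 4. -/
def OC4 (Q : (ι → F) → F) (H : Subgroup (GL ι F)) : Prop :=
  ∃ (n₁ n₂ : ℕ) (e : ι ≃ Fin n₁ × Fin n₂) (P : GL ι F)
    (f₁ : (Fin n₁ → F) → (Fin n₁ → F) → F) (f₂ : (Fin n₂ → F) → (Fin n₂ → F) → F),
    3 ≤ n₁ ∧ n₁ < n₂ ∧ IsSymmetricForm f₁ ∧ IsSymmetricForm f₂ ∧
    IsTensorFormStructure id (QuadraticMap.polar Q) f₁ f₂ e P ∧ H ≤ tensorProductSubgroup n₁ n₂ e P

/-- class 5. -/
def OC5 (Q : (ι → F) → F) (H : Subgroup (GL ι F)) : Prop :=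
  ∃ (F₀ : Subfield F) (r : ℕ) (P : GL ι F), r.Prime ∧ Fintype.card F = Nat.card F₀ ^ r ∧
    IsQuadFormRationalStructure Q F₀ P ∧ H ≤ subfieldSubgroup F₀ P

/-- class 7. -/
def OC7 (Q : (ι → F) → F) (H : Subgroup (GL ι F)) : Prop :=
  ∃ (k t : ℕ) (e : ι ≃ (Fin t → Fin k)) (P : GL ι F) (f₁ : (Fin k → F) → (Fin k → F) → F),
    3 ≤ k ∧ 2 ≤ t ∧ ¬ (Fintype.card F = 3 ∧ k = 3) ∧ IsSymmetricForm f₁ ∧
    IsTensorPowerFormStructure id (QuadraticMap.polar Q) f₁ e P ∧ H ≤ tensorWreathSubgroup k t e P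

def OC1 (Q : (ι → F) → F) (H : Subgroup (GL ι F)) : Prop := OC1a Q H ∨ OC1b Q H
def OC2 (Q : (ι → F) → F) (H : Subgroup (GL ι F)) : Prop := OC2a Q H ∨ OC2b Q H

/-- `H` lies in a member of a geometric class of the odd-dimensional orthogonal group, class by class. -/
def OTame (Q : (ι → F) → F) (H : Subgroup (GL ι F)) : Prop :=
  OC1 Q H ∨ OC2 Q H ∨ OC3 Q H ∨ OC4 Q H ∨ OC5 Q H ∨ OC7 Q H

/-- The standing hypotheses on the form in the odd-dimensional orthogonal case: `Q` is a non-degenerate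
quadratic form on `F^ι`, `|F|` and `|ι|` are odd, and the discriminant of the polar form is (a square times)
an element of the prime field. -/
structure OData (Q : (ι → F) → F) : Prop where
  quad : IsNondegenerateQuadraticForm Q
  qodd : Odd (Fintype.card F)
  nodd : Odd (Fintype.card ι)
  disc : ∃ d ∈ (⊥ : Subfield F), ∃ b : F, (gramMatrix (QuadraticMap.polar Q)).det = d * b ^ 2

theorem OTame.tame {m : ℕ} {H : Subgroup (GL (Unit ⊕ (Fin m ⊕ Fin m)) F)}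
    (hH : H ≤ isometryGroup F (quadFormOdd m F)) (h : OTame (quadFormOdd m F) H) :
    ∃ M : Subgroup (GL (Unit ⊕ (Fin m ⊕ Fin m)) F), InOrthogonalOddClass m F M ∧ H ≤ M := by
  have hcard : Fintype.card (Unit ⊕ (Fin m ⊕ Fin m)) = 2 * m + 1 := by
    simp; omega
  rcases h with (h | h) | (h | h) | h | h | h | h
  · obtain ⟨W, h1, h2, h3⟩ := h
    exact ⟨_, Or.inl ⟨W, h1, h2, rfl⟩, le_inf h3 hH⟩
  · obtain ⟨W, h1, h2, h3, h4⟩ := h
    exact ⟨_, Or.inr (Or.inl ⟨W, h1, h2, h3, rfl⟩), le_inf h4 hH⟩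
  · obtain ⟨t, k, D, h1, h2, h3⟩ := h
    exact ⟨_, Or.inr (Or.inr (Or.inl ⟨t, k, D, h1, h2, rfl⟩)), le_inf h3 hH⟩
  · obtain ⟨t, D, h1, h2, h3⟩ := h
    exact ⟨_, Or.inr (Or.inr (Or.inr (Or.inl ⟨t, D, h1, h2, rfl⟩))), le_inf h3 hH⟩
  · obtain ⟨r, K, h1, h2, h3, h4, h5⟩ := h
    rw [hcard] at h2
    exact ⟨_, Or.inr (Or.inr (Or.inr (Or.inr (Or.inl ⟨r, K, h1, h2, h3, h4, rfl⟩)))), le_inf h5 hH⟩
  · obtain ⟨n₁, n₂, e, P, f₁, f₂, h1, h2, h3, h4, h5, h6⟩ := h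
    exact ⟨_, Or.inr (Or.inr (Or.inr (Or.inr (Or.inr (Or.inl ⟨n₁, n₂, e, P, f₁, f₂, h1, h2, h3, h4, h5, rfl⟩))))),
      le_inf h6 hH⟩
  · obtain ⟨F₀, r, P, h1, h2, h3, h4⟩ := h
    exact ⟨_, Or.inr (Or.inr (Or.inr (Or.inr (Or.inr (Or.inr (Or.inl ⟨F₀, r, P, h1, h2, h3, rfl⟩)))))),
      le_inf h4 hH⟩
  · obtain ⟨k, t, e, P, f₁, h1, h2, h3, h4, h5, h6⟩ := h
    exact ⟨_, Or.inr (Or.inr (Or.inr (Or.inr (Or.inr (Or.inr (Or.inr ⟨k, t, e, P, f₁, h1, h2, h3, h4, h5, rfl⟩)))))),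
      le_inf h6 hH⟩

end Cfsg.Agent.Lib.H24.Asch
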