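/-
S5673 project (orthogonal odd Aschbacher): basic facts about a quadratic form given as a function, its polar
form and the Gram matrix.  (helper24)
-/
import Cfsg.Agent.Lib.H24.AschODefs
import Cfsg.Agent.Lib.H11.IsoReindex

set_option autoImplicit false

namespace Cfsg.Agent.Lib.H24.Asch

open Cfsg Cfsg.Geo
open scoped MatrixGroups Matrix Kronecker

variable {ι : Type} [Fintype ι] [DecidableEq ι] {F : Type*} [Field F]

/-- A bilinear form (as a function) is given by its Gram matrix. -/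
theorem bilin_eq_gram {f : (ι → F) → (ι → F) → F} (hf : IsBilinearForm f) (u v : ι → F) :
    f u v = u ⬝ᵥ (gramMatrix f) *ᵥ v := by
  let B : (ι → F) →ₗ[F] (ι → F) →ₗ[F] F :=
    LinearMap.mk₂ F f hf.add_left hf.smul_left hf.add_right hf.smul_right
  have h1 : LinearMap.toMatrix₂' F B = gramMatrix f := by
    ext i j
    rw [LinearMap.toMatrix₂'_apply]
    rfl
  have h2 : f u v = Matrix.toLinearMap₂' F (LinearMap.toMatrix₂' F B) u v := by
    rw [Matrix.toLinearMap₂'_toMatrix']
    rfl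
  rw [h2, h1, Matrix.toLinearMap₂'_apply']

theorem mem_isometryGroup_iff (Q : (ι → F) → F) (g : GL ι F) :
    g ∈ isometryGroup F Q ↔ ∀ x, Q ((g : Matrix ι ι F) *ᵥ x) = Q x :=
  Cfsg.Agent.Lib.H11.IsoReindex.mem_iso_iff' Q g

/-- An isometry of `Q` preserves the polar form. -/
theorem polar_isometry (Q : (ι → F) → F) (g : GL ι F) (hg : g ∈ isometryGroup F Q) (u v : ι → F) :
    QuadraticMap.polar Q ((g : Matrix ι ι F) *ᵥ u) ((g : Matrix ι ι F) *ᵥ v) = QuadraticMap.polar Q u v := by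
  rw [mem_isometryGroup_iff] at hg
  unfold QuadraticMap.polar
  rw [← Matrix.mulVec_add, hg, hg, hg]

theorem polar_self {Q : (ι → F) → F} (hQ : IsNondegenerateQuadraticForm Q) (v : ι → F) :
    QuadraticMap.polar Q v v = 2 * Q v := by
  unfold QuadraticMap.polar
  have h : v + v = (2 : F) • v := by rw [two_smul]
  rw [h, hQ.smul]
  ring

theorem two_ne_zero_of_odd [Fintype F] (hq : Odd (Fintype.card F)) : (2 : F) ≠ 0 := by
  intro h2
  have h3 : ringChar F = 2 := CharP.ringChar_of_prime_eq_zero Nat.prime_two (by exact_mod_cast h2)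
  have := FiniteField.even_card_of_char_two h3
  rw [← Nat.not_even_iff_odd, Nat.even_iff] at hq
  exact hq this

theorem Q_eq_half [Fintype F] {Q : (ι → F) → F} (hQ : OData Q) (v : ι → F) :
    Q v = QuadraticMap.polar Q v v / 2 := by
  rw [polar_self hQ.quad, mul_div_cancel_left₀ _ (two_ne_zero_of_odd hQ.qodd)]

theorem gram_symm (Q : (ι → F) → F) : (gramMatrix (QuadraticMap.polar Q))ᵀ = gramMatrix (QuadraticMap.polar Q) := by
  ext i j
  simp only [Matrix.transpose_apply, gramMatrix]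
  exact QuadraticMap.polar_comm Q _ _

theorem polar_eq_gram {Q : (ι → F) → F} (hQ : IsNondegenerateQuadraticForm Q) (u v : ι → F) :
    QuadraticMap.polar Q u v = u ⬝ᵥ (gramMatrix (QuadraticMap.polar Q)) *ᵥ v :=
  bilin_eq_gram hQ.polar_bilinear u v

theorem gram_det_ne_zero {Q : (ι → F) → F} (hQ : IsNondegenerateQuadraticForm Q) :
    (gramMatrix (QuadraticMap.polar Q)).det ≠ 0 := by
  intro h0
  obtain ⟨v, hv, hv0⟩ := Matrix.exists_mulVec_eq_zero_iff.2 h0
  obtain ⟨⟨x, hx⟩, _⟩ := hQ.nondegenerate v hv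
  apply hx
  rw [polar_eq_gram hQ, hv0, dotProduct_zero]

omit [DecidableEq ι] in
theorem dot_mulVec_conj (A G : Matrix ι ι F) (u v : ι → F) :
    (A *ᵥ u) ⬝ᵥ G *ᵥ (A *ᵥ v) = u ⬝ᵥ (Aᵀ * G * A) *ᵥ v := by
  rw [← Matrix.mulVec_mulVec, ← Matrix.mulVec_mulVec, Matrix.dotProduct_mulVec u, Matrix.vecMul_transpose]

theorem single_dot_single (M : Matrix ι ι F) (i j : ι) :
    (Pi.single i 1 : ι → F) ⬝ᵥ M *ᵥ (Pi.single j 1) = M i j := by
  simp

/-- Matrix form of being an isometry. -/
theorem isometry_gram {Q : (ι → F) → F} (hQ : IsNondegenerateQuadraticForm Q) (g : GL ι F)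
    (hg : g ∈ isometryGroup F Q) :
    (g : Matrix ι ι F)ᵀ * gramMatrix (QuadraticMap.polar Q) * (g : Matrix ι ι F) =
      gramMatrix (QuadraticMap.polar Q) := by
  ext i j
  have h := polar_isometry Q g hg (Pi.single i 1) (Pi.single j 1)
  rw [polar_eq_gram hQ, dot_mulVec_conj, single_dot_single] at h
  exact h

/-- Conversely a matrix preserving the Gram matrix is an isometry (`2 ≠ 0`). -/
theorem mem_isometryGroup_of_gram {Q : (ι → F) → F} (hQ : IsNondegenerateQuadraticForm Q) (h2 : (2 : F) ≠ 0)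
    (g : GL ι F)
    (hg : (g : Matrix ι ι F)ᵀ * gramMatrix (QuadraticMap.polar Q) * (g : Matrix ι ι F) =
      gramMatrix (QuadraticMap.polar Q)) : g ∈ isometryGroup F Q := by
  rw [mem_isometryGroup_iff]
  intro x
  have h1 := polar_self hQ ((g : Matrix ι ι F) *ᵥ x)
  have h3 := polar_self hQ x
  rw [polar_eq_gram hQ, dot_mulVec_conj, hg, ← polar_eq_gram hQ, h3] at h1
  exact (mul_left_cancel₀ h2 h1).symm

end Cfsg.Agent.Lib.H24.Asch
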