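import Mathlib
import Cfsg.Prelude
import Cfsg.Agent.Lib.L0.CharBasic
import Cfsg.Agent.Lib.L0.CharOps
import Cfsg.Agent.Lib.L0.CharInner
import Cfsg.Agent.Lib.L0.CharLinear
import Cfsg.Agent.Lib.H24.CharOrth
import Cfsg.Agent.Lib.H24.CharLinearMul
import Cfsg.Agent.Lib.H24.CharAbelian

/-!
# Characters of `C × S` with `S` abelian (helper24)

For a character `Ψ` of `C × S` (`S` abelian) and `ξ ∈ Irr(C)`, the function
`x ↦ [Ψ(·, x), ξ]_C` on `S` is a nonnegative integer combination of the (linear) irreducible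
characters of `S`.
-/

set_option autoImplicit false

namespace Cfsg.Agent.Lib.H24.Glaub

open Cfsg Cfsg.Agent.Lib.L0 Cfsg.Agent.Lib.H24
open scoped ComplexConjugate

variable {C S : Type*} [Group C] [Group S] [Fintype C] [Fintype S]

theorem isIrrCharacter_prod_hom (ξ : C → ℂ) (hξ : IsIrrCharacter C ξ) (f : S →* ℂˣ) :
    IsIrrCharacter (C × S) (fun p => ξ p.1 * (f p.2 : ℂ)) := by
  have h1 : IsIrrCharacter (C × S) (ξ ∘ (MonoidHom.fst C S)) :=
    isIrrCharacter_comp_of_surjective (MonoidHom.fst C S) (fun c => ⟨(c, 1), rfl⟩) hξ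
  exact isIrrCharacter_mul_hom _ h1 (f.comp (MonoidHom.snd C S))

theorem classInner_prod (Ψ : C × S → ℂ) (ξ : C → ℂ) (ψ : S → ℂ) :
    classInner Ψ (fun p => ξ p.1 * ψ p.2) =
      classInner (fun x : S => classInner (fun c => Ψ (c, x)) ξ) ψ := by
  unfold classInner
  have h1 : ∑ p : C × S, Ψ p * conj (ξ p.1 * ψ p.2) =
      ∑ x : S, ∑ c : C, Ψ (c, x) * conj (ξ c * ψ x) :=
    Fintype.sum_prod_type_right (fun p : C × S => Ψ p * conj (ξ p.1 * ψ p.2))
  have h2 : (Nat.card (C × S) : ℂ) = (Nat.card C : ℂ) * (Nat.card S : ℂ) := by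
    rw [Nat.card_prod]; push_cast; rfl
  have h3 : ∀ x : S, ((Nat.card C : ℂ)⁻¹ * ∑ c : C, Ψ (c, x) * conj (ξ c)) * conj (ψ x) =
      (Nat.card C : ℂ)⁻¹ * ∑ c : C, Ψ (c, x) * conj (ξ c * ψ x) := by
    intro x
    rw [mul_assoc, Finset.sum_mul]
    congr 1
    refine Finset.sum_congr rfl fun c _ => ?_
    rw [map_mul]; ring
  rw [h1, h2, mul_inv, Finset.sum_congr rfl (fun x _ => h3 x), ← Finset.mul_sum]
  ring

theorem exists_nat_decomp [Fintype (IrrCharacter S)] (hcomm : ∀ a b : S, a * b = b * a)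
    (Ψ : C × S → ℂ) (hΨ : IsCharacter (C × S) Ψ) (ξ : C → ℂ) (hξ : IsIrrCharacter C ξ) :
    ∃ m : IrrCharacter S → ℕ, ∀ x : S,
      classInner (fun c => Ψ (c, x)) ξ = ∑ ψ : IrrCharacter S, (m ψ : ℂ) * (ψ : S → ℂ) x := by
  classical
  set A : S → ℂ := fun x => classInner (fun c => Ψ (c, x)) ξ with hA
  have hAcf : IsClassFunction S A := by
    intro g h
    have : h * g * h⁻¹ = g := by rw [hcomm h g, mul_inv_cancel_right]
    rw [this]
  have hm : ∀ ψ : IrrCharacter S, ∃ k : ℕ, classInner A (ψ : S → ℂ) = k := by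
    intro ψ
    have h1 : (ψ : S → ℂ) 1 = 1 := irr_apply_one_of_comm hcomm ψ
    set f : S →* ℂˣ := linearCharHom (isCharacter_of_irr ψ.2) h1 with hf
    have h2 : IsIrrCharacter (C × S) (fun p => ξ p.1 * (f p.2 : ℂ)) :=
      isIrrCharacter_prod_hom ξ hξ f
    obtain ⟨k, hk⟩ := classInner_char_irr_nat hΨ h2
    refine ⟨k, ?_⟩
    rw [← hk]
    exact (classInner_prod Ψ ξ (ψ : S → ℂ)).symm
  choose m hm using hm
  refine ⟨m, fun x => ?_⟩
  have h3 := classFunction_expansion A hAcf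
  have h4 := congrFun h3 x
  rw [Finset.sum_apply] at h4
  rw [show classInner (fun c => Ψ (c, x)) ξ = A x from rfl, h4]
  refine Finset.sum_congr rfl fun ψ _ => ?_
  rw [Pi.smul_apply, smul_eq_mul, hm]

end Cfsg.Agent.Lib.H24.Glaub
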