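import Mathlib

set_option autoImplicit false

/-!
# Counting subspaces of a finite vector space (helper24)

`card_subspaces_mul`: `#{W ≤ V | dim W = m} * ∏_{i<m} (q^m - q^i) = ∏_{i<m} (q^n - q^i)`.
-/

namespace Cfsg.Agent.Lib.H24.Elus

open Module

variable {F : Type*} [Field F] [Fintype F] {V : Type*} [AddCommGroup V] [Module F V]
  [Module.Finite F V]

omit [Fintype F] in
theorem finite_of_field (F : Type*) [Field F] [Finite F] (V : Type*) [AddCommGroup V] [Module F V]
    [Module.Finite F V] : Finite V := Module.finite_of_finite F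

theorem finite_submodule : Finite (Submodule F V) := by
  haveI : Finite V := finite_of_field F V
  exact Finite.of_injective (fun W : Submodule F V => (W : Set V)) SetLike.coe_injective

/-- the span map from independent `m`-tuples to `m`-dimensional subspaces -/
noncomputable def spanLI (m : ℕ) (s : {s : Fin m → V // LinearIndependent F s}) :
    {W : Submodule F V // finrank F W = m} :=
  ⟨Submodule.span F (Set.range s.1), by
    rw [finrank_span_eq_card s.2, Fintype.card_fin]⟩

/-- the fibre of the span map over `W` is the set of bases of `W` -/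
noncomputable def fibreEquiv (m : ℕ) (W : {W : Submodule F V // finrank F W = m}) :
    {s : {s : Fin m → V // LinearIndependent F s} // spanLI m s = W} ≃
      {t : Fin m → ↥W.1 // LinearIndependent F t} where
  toFun s := ⟨fun i => ⟨s.1.1 i, by
      have h : Submodule.span F (Set.range s.1.1) = W.1 := congrArg Subtype.val s.2
      rw [← h]
      exact Submodule.subset_span (Set.mem_range_self i)⟩, by
    apply LinearIndependent.of_comp W.1.subtype
    exact s.1.2⟩
  invFun t := ⟨⟨fun i => (t.1 i : V), t.2.map' W.1.subtype (Submodule.ker_subtype _)⟩, by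
    apply Subtype.ext
    show Submodule.span F (Set.range fun i => (t.1 i : V)) = W.1
    have h1 : Submodule.span F (Set.range t.1) = ⊤ := by
      apply t.2.span_eq_top_of_card_eq_finrank'
      rw [Fintype.card_fin, W.2]
    have h2 : (Set.range fun i => (t.1 i : V)) = W.1.subtype '' (Set.range t.1) := by
      rw [← Set.range_comp]
      rfl
    rw [h2, Submodule.span_image, h1, Submodule.map_top, Submodule.range_subtype]⟩
  left_inv s := by
    apply Subtype.ext
    apply Subtype.ext
    rfl
  right_inv t := by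
    apply Subtype.ext
    rfl

theorem card_subspaces_mul (m : ℕ) (hm : m ≤ finrank F V) :
    Nat.card {W : Submodule F V // finrank F W = m} *
        ∏ i : Fin m, (Fintype.card F ^ m - Fintype.card F ^ i.val) =
      ∏ i : Fin m, (Fintype.card F ^ finrank F V - Fintype.card F ^ i.val) := by
  classical
  haveI : Finite V := finite_of_field F V
  haveI : Finite (Submodule F V) := finite_submodule
  haveI : Fintype {W : Submodule F V // finrank F W = m} := Fintype.ofFinite _
  rw [← card_linearIndependent (K := F) (V := V) hm,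
    Nat.card_congr (Equiv.sigmaFiberEquiv (spanLI (F := F) (V := V) m)).symm, Nat.card_sigma]
  have h : ∀ W : {W : Submodule F V // finrank F W = m},
      Nat.card {s : {s : Fin m → V // LinearIndependent F s} // spanLI m s = W} =
        ∏ i : Fin m, (Fintype.card F ^ m - Fintype.card F ^ i.val) := by
    intro W
    rw [Nat.card_congr (fibreEquiv m W)]
    haveI : Finite ↥W.1 := Finite.of_injective _ Subtype.val_injective
    have := card_linearIndependent (K := F) (V := ↥W.1) (k := m) (by rw [W.2])
    rw [this, W.2]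
  rw [Finset.sum_congr rfl (fun W _ => h W), Finset.sum_const, Finset.card_univ, smul_eq_mul,
    Nat.card_eq_fintype_card]

/-- `∏_{j=1}^k (q^j - 1)` -/
def PP (q k : ℕ) : ℕ := ∏ j ∈ Finset.Ico 1 (k + 1), (q ^ j - 1)

theorem PP_pos {q : ℕ} (hq : 2 ≤ q) (k : ℕ) : 0 < PP q k := by
  apply Finset.prod_pos
  intro j hj
  rw [Finset.mem_Ico] at hj
  have : 2 ^ j ≤ q ^ j := Nat.pow_le_pow_left hq j
  have h2 : 2 ≤ 2 ^ j := by
    calc 2 = 2 ^ 1 := by norm_num
      _ ≤ 2 ^ j := Nat.pow_le_pow_right (by norm_num) hj.1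
  omega

theorem PP_split (q : ℕ) {m n : ℕ} (hm : m ≤ n) :
    PP q (n - m) * ∏ j ∈ Finset.Ico (n - m + 1) (n + 1), (q ^ j - 1) = PP q n := by
  unfold PP
  exact Finset.prod_Ico_consecutive _ (by omega) (by omega)

theorem prod_fin_sub (q m n : ℕ) (hm : m ≤ n) :
    ∏ i : Fin m, (q ^ n - q ^ i.val) =
      (∏ i : Fin m, q ^ i.val) * ∏ j ∈ Finset.Ico (n + 1 - m) (n + 1), (q ^ j - 1) := by
  have h1 : ∏ i : Fin m, (q ^ n - q ^ i.val) = ∏ i : Fin m, (q ^ i.val * (q ^ (n - i.val) - 1)) := by
    apply Finset.prod_congr rfl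
    intro i _
    have hi : i.val ≤ n := le_trans i.2.le hm
    rw [Nat.mul_sub, mul_one, ← pow_add, Nat.add_sub_cancel' hi]
  rw [h1, Finset.prod_mul_distrib]
  congr 1
  rw [Fin.prod_univ_eq_prod_range (fun i => q ^ (n - i) - 1) m, ← Nat.Ico_zero_eq_range,
    Finset.prod_Ico_reflect (fun j => q ^ j - 1) 0 (by omega : m ≤ n + 1), Nat.sub_zero]

theorem card_subspaces_mul_PP (m : ℕ) (hm : m ≤ finrank F V) :
    Nat.card {W : Submodule F V // finrank F W = m} * PP (Fintype.card F) m *
        PP (Fintype.card F) (finrank F V - m) = PP (Fintype.card F) (finrank F V) := by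
  have hq : 2 ≤ Fintype.card F := Fintype.one_lt_card
  have h := card_subspaces_mul (F := F) (V := V) m hm
  rw [prod_fin_sub _ m m le_rfl, prod_fin_sub _ m _ hm] at h
  have hQ : 0 < ∏ i : Fin m, Fintype.card F ^ i.val :=
    Finset.prod_pos (fun i _ => pos_of_ne_zero (pow_ne_zero _ (by omega)))
  have h1 : (m + 1 - m) = 1 := by omega
  rw [h1] at h
  have h2 : finrank F V + 1 - m = finrank F V - m + 1 := by omega
  rw [h2] at h
  have h3 := PP_split (Fintype.card F) hm
  apply Nat.eq_of_mul_eq_mul_left hQ
  rw [← h3]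
  unfold PP
  calc _ = (Nat.card {W : Submodule F V // finrank F W = m} *
        ((∏ i : Fin m, Fintype.card F ^ i.val) *
          ∏ j ∈ Finset.Ico 1 (m + 1), (Fintype.card F ^ j - 1))) *
        ∏ j ∈ Finset.Ico 1 (finrank F V - m + 1), (Fintype.card F ^ j - 1) := by ring
    _ = _ := by rw [h]; ring

/-- a prime dividing the number of `m`-spaces divides `q^j - 1` for some `n - m < j ≤ n` -/
theorem exists_of_dvd_card_subspaces (m : ℕ) (hm : m ≤ finrank F V) (r : ℕ) (hr : r.Prime)
    (h : r ∣ Nat.card {W : Submodule F V // finrank F W = m}) :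
    ∃ j, finrank F V - m < j ∧ j ≤ finrank F V ∧ r ∣ Fintype.card F ^ j - 1 := by
  have hq : 2 ≤ Fintype.card F := Fintype.one_lt_card
  have h1 := card_subspaces_mul_PP (F := F) (V := V) m hm
  rw [← PP_split (Fintype.card F) hm] at h1
  have h2 : Nat.card {W : Submodule F V // finrank F W = m} * PP (Fintype.card F) m =
      ∏ j ∈ Finset.Ico (finrank F V - m + 1) (finrank F V + 1), (Fintype.card F ^ j - 1) := by
    apply Nat.eq_of_mul_eq_mul_left (PP_pos hq (finrank F V - m))
    rw [← h1]
    ring
  have h3 : r ∣ ∏ j ∈ Finset.Ico (finrank F V - m + 1) (finrank F V + 1),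
      (Fintype.card F ^ j - 1) := by
    rw [← h2]
    exact Dvd.dvd.mul_right h _
  rw [hr.prime.dvd_finsetProd_iff] at h3
  obtain ⟨j, hj, hd⟩ := h3
  rw [Finset.mem_Ico] at hj
  exact ⟨j, by omega, by omega, hd⟩

/-- a prime dividing the number of `m`-spaces divides `q^j - 1` for some `m < j ≤ n` -/
theorem exists_of_dvd_card_subspaces' (m : ℕ) (hm : m ≤ finrank F V) (r : ℕ) (hr : r.Prime)
    (h : r ∣ Nat.card {W : Submodule F V // finrank F W = m}) :
    ∃ j, m < j ∧ j ≤ finrank F V ∧ r ∣ Fintype.card F ^ j - 1 := by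
  have hq : 2 ≤ Fintype.card F := Fintype.one_lt_card
  have h1 := card_subspaces_mul_PP (F := F) (V := V) m hm
  have hm' : finrank F V - m ≤ finrank F V := Nat.sub_le _ _
  rw [← PP_split (Fintype.card F) hm'] at h1
  have h0 : finrank F V - (finrank F V - m) = m := by omega
  rw [h0] at h1
  have h2 : Nat.card {W : Submodule F V // finrank F W = m} *
      PP (Fintype.card F) (finrank F V - m) =
      ∏ j ∈ Finset.Ico (m + 1) (finrank F V + 1), (Fintype.card F ^ j - 1) := by
    apply Nat.eq_of_mul_eq_mul_left (PP_pos hq m)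
    rw [← h1]
    ring
  have h3 : r ∣ ∏ j ∈ Finset.Ico (m + 1) (finrank F V + 1),
      (Fintype.card F ^ j - 1) := by
    rw [← h2]
    exact Dvd.dvd.mul_right h _
  rw [hr.prime.dvd_finsetProd_iff] at h3
  obtain ⟨j, hj, hd⟩ := h3
  rw [Finset.mem_Ico] at hj
  exact ⟨j, by omega, by omega, hd⟩

end Cfsg.Agent.Lib.H24.Elus
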