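import Cfsg.Agent.Lib.H13.PGLPrime

set_option autoImplicit false

/-!
# Determinant of a matrix with `x ^ r = z` for `X ^ r - z` irreducible (helper24)
-/

namespace Cfsg.Agent.Lib.H24.Elus

open Polynomial Module
open Cfsg.Agent.Lib.H13

variable {F : Type*} [Field F]

theorem det_mulRoot (f : F[X]) (hf : f.Monic) (k : ℕ) :
    LinearMap.det (SSClass.mulRoot f k) = ((-1) ^ f.natDegree * f.coeff 0) ^ k := by
  have hf0 : f ≠ 0 := hf.ne_zero
  have h1 : SSClass.mulRoot f k = LinearMap.pi (fun i =>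
      (Algebra.lmul F (AdjoinRoot f) (AdjoinRoot.root f)).comp (LinearMap.proj i)) := by
    apply LinearMap.ext
    intro v
    funext i
    rfl
  haveI : Module.Finite F (AdjoinRoot f) := (AdjoinRoot.powerBasis hf0).finite
  rw [h1, LinearMap.det_pi, Finset.prod_const, Finset.card_univ, Fintype.card_fin]
  congr 1
  rw [← Algebra.norm_apply]
  have := Algebra.PowerBasis.norm_gen_eq_coeff_zero_minpoly (AdjoinRoot.powerBasis hf0)
  rw [AdjoinRoot.powerBasis_gen, AdjoinRoot.minpoly_root hf0, hf.leadingCoeff, inv_one, C_1,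
    mul_one, AdjoinRoot.powerBasis_dim] at this
  exact this

theorem aeval_mulRoot_self (f : F[X]) (k : ℕ) : aeval (SSClass.mulRoot f k) f = 0 := by
  apply LinearMap.ext
  intro v
  rw [SSClass.aeval_mulRoot, AdjoinRoot.mk_self, zero_smul, LinearMap.zero_apply]

/-- a model matrix with `x ^ r = z` and known determinant -/
theorem exists_matrix_pow_det (r : ℕ) (hr : 0 < r) (z : F) (k n : ℕ) (hn : n = r * k) :
    ∃ x : Matrix (Fin n) (Fin n) F, x ^ r = z • 1 ∧ x.det = ((-1) ^ (r + 1) * z) ^ k := by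
  set f : F[X] := X ^ r - C z with hf
  have hmonic : f.Monic := monic_X_pow_sub_C z hr.ne'
  have hdeg : f.natDegree = r := natDegree_X_pow_sub_C
  have hc0 : f.coeff 0 = -z := by
    rw [hf, coeff_sub, coeff_X_pow, coeff_C_zero, if_neg hr.ne, zero_sub]
  haveI : Module.Finite F (AdjoinRoot f) := (AdjoinRoot.powerBasis hmonic.ne_zero).finite
  have hfr : finrank F (Fin k → AdjoinRoot f) = finrank F (Fin n → F) := by
    rw [SSClass.finrank_block f hmonic.ne_zero, hdeg, Module.finrank_fintype_fun_eq_card,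
      Fintype.card_fin, hn, mul_comm]
  let e : (Fin k → AdjoinRoot f) ≃ₗ[F] (Fin n → F) := LinearEquiv.ofFinrankEq _ _ hfr
  have hint : ∀ v, e (SSClass.mulRoot f k v) = (e.conj (SSClass.mulRoot f k)) (e v) := by
    intro v
    rw [LinearEquiv.conj_apply_apply, e.symm_apply_apply]
  refine ⟨LinearMap.toMatrix' (e.conj (SSClass.mulRoot f k)), ?_, ?_⟩
  · apply PGLPrime.pow_of_aeval
    rw [Matrix.toLin'_toMatrix']
    apply LinearMap.ext
    intro w
    have := SSClass.aeval_intertwine (SSClass.mulRoot f k) (e.conj (SSClass.mulRoot f k))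
      (e : _ →ₗ[F] _) hint f (e.symm w)
    rw [LinearEquiv.coe_coe, e.apply_symm_apply, aeval_mulRoot_self, LinearMap.zero_apply,
      map_zero] at this
    rw [← this, LinearMap.zero_apply]
  · have hconj : e.conj (SSClass.mulRoot f k) =
        (e : _ →ₗ[F] _) ∘ₗ (SSClass.mulRoot f k) ∘ₗ (e.symm : _ →ₗ[F] _) := by
      apply LinearMap.ext
      intro v
      rfl
    rw [LinearMap.det_toMatrix', hconj, LinearMap.det_conj, det_mulRoot f hmonic, hdeg, hc0]
    congr 1
    rw [pow_succ]
    ring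

/-- the determinant of any matrix with `x ^ r = z`, `X ^ r - z` irreducible -/
theorem det_of_pow_eq (r : ℕ) (hr : 0 < r) (z : F) (hz : z ≠ 0)
    (hirr : Irreducible (X ^ r - C z : F[X])) (k n : ℕ) (hn : n = r * k)
    (x : Matrix (Fin n) (Fin n) F) (hx : x ^ r = z • 1) :
    x.det = ((-1) ^ (r + 1) * z) ^ k := by
  obtain ⟨x₀, hx₀, hdet⟩ := exists_matrix_pow_det r hr z k n hn
  have hc := PGLPrime.conj_of_pow_eq z hirr (PGLPrime.glOfPow x z hz hr hx)
    (PGLPrime.glOfPow x₀ z hz hr hx₀) hx hx₀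
  have h1 := (Matrix.GeneralLinearGroup.det (n := Fin n) (R := F)).map_isConj hc
  rw [isConj_iff_eq] at h1
  have h2 := congrArg Units.val h1
  rw [← hdet]
  exact h2

end Cfsg.Agent.Lib.H24.Elus
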