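import Mathlib

set_option autoImplicit false

/-!
# `r`-th powers in a finite field (helper24)
-/

namespace Cfsg.Agent.Lib.H24.Elus

variable {F : Type*} [Field F] [Fintype F]

/-- if `r` is coprime to `q - 1`, every nonzero element is an `r`-th power -/
theorem exists_pow_eq_of_coprime (r : ℕ) (hr : Nat.Coprime (Fintype.card F - 1) r) (c : F)
    (hc : c ≠ 0) : ∃ d : F, d ≠ 0 ∧ d ^ r = c := by
  have h1 : (Nat.card Fˣ).Coprime r := by
    rw [Nat.card_units, Nat.card_eq_fintype_card]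
    exact hr
  obtain ⟨d, hd⟩ := (powCoprime h1).surjective (Units.mk0 c hc)
  refine ⟨(d : F), Units.ne_zero d, ?_⟩
  have := congrArg Units.val hd
  rwa [powCoprime_apply, Units.val_pow_eq_pow_val, Units.val_mk0] at this

theorem exists_gen : ∃ γ : Fˣ, (∀ x : Fˣ, x ∈ Subgroup.zpowers γ) ∧
    orderOf γ = Fintype.card F - 1 := by
  obtain ⟨γ, hγ⟩ := IsCyclic.exists_generator (α := Fˣ)
  refine ⟨γ, hγ, ?_⟩
  rw [orderOf_eq_card_of_forall_mem_zpowers hγ, Nat.card_units, Nat.card_eq_fintype_card]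

theorem exists_pow_gen (γ : Fˣ) (hγ : ∀ x : Fˣ, x ∈ Subgroup.zpowers γ) (z : F) (hz : z ≠ 0) :
    ∃ e : ℕ, (γ : F) ^ e = z := by
  have h1 := hγ (Units.mk0 z hz)
  rw [← mem_powers_iff_mem_zpowers, Submonoid.mem_powers_iff] at h1
  obtain ⟨e, he⟩ := h1
  refine ⟨e, ?_⟩
  have := congrArg Units.val he
  rwa [Units.val_pow_eq_pow_val, Units.val_mk0] at this

/-- a non-`r`-th-power of order dividing `t` forces `v_r(q-1) ≤ v_r(t)` -/
theorem padicVal_le_of_not_pow (r : ℕ) [Fact r.Prime] (z : F) (hz : z ≠ 0)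
    (hnp : ∀ b : F, b ^ r ≠ z) (t : ℕ) (ht : t ≠ 0) (hzt : z ^ t = 1) :
    padicValNat r (Fintype.card F - 1) ≤ padicValNat r t := by
  obtain ⟨γ, hγ, hord⟩ := exists_gen (F := F)
  obtain ⟨e, he⟩ := exists_pow_gen γ hγ z hz
  have hre : ¬ r ∣ e := by
    rintro ⟨e', rfl⟩
    apply hnp ((γ : F) ^ e')
    rw [← pow_mul, mul_comm, he]
  have h1 : (γ : F) ^ (e * t) = 1 := by rw [pow_mul, he, hzt]
  have h2 : γ ^ (e * t) = 1 := by
    apply Units.ext
    rw [Units.val_pow_eq_pow_val, h1, Units.val_one]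
  have h3 : Fintype.card F - 1 ∣ e * t := by
    rw [← hord]
    exact orderOf_dvd_of_pow_eq_one h2
  have h4 : r ^ padicValNat r (Fintype.card F - 1) ∣ e * t :=
    (pow_padicValNat_dvd).trans h3
  have hcop : Nat.Coprime (r ^ padicValNat r (Fintype.card F - 1)) e :=
    Nat.Coprime.pow_left _ ((Nat.Prime.coprime_iff_not_dvd Fact.out).mpr hre)
  have h5 : r ^ padicValNat r (Fintype.card F - 1) ∣ t := hcop.dvd_of_dvd_mul_left h4
  exact (padicValNat_dvd_iff_le ht).mp h5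

/-- a non-`r`-th-power whose order divides the `r`-part of `q - 1` -/
theorem exists_not_pow (r : ℕ) [Fact r.Prime] (hrq : r ∣ Fintype.card F - 1) :
    ∃ z : F, z ≠ 0 ∧ (∀ b : F, b ^ r ≠ z) ∧
      z ^ (r ^ padicValNat r (Fintype.card F - 1)) = 1 := by
  have hr : r.Prime := Fact.out
  obtain ⟨γ, hγ, hord⟩ := exists_gen (F := F)
  have hq1 : Fintype.card F - 1 ≠ 0 := by
    have := Fintype.one_lt_card (α := F)
    omega
  obtain ⟨a, ha⟩ : ∃ a, a = padicValNat r (Fintype.card F - 1) := ⟨_, rfl⟩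
  rw [← ha]
  obtain ⟨u, hu⟩ : r ^ a ∣ Fintype.card F - 1 := by rw [ha]; exact pow_padicValNat_dvd
  have hru : ¬ r ∣ u := by
    rintro ⟨u', rfl⟩
    have h1 : r ^ (a + 1) ∣ Fintype.card F - 1 := by
      rw [pow_succ]
      exact ⟨u', by rw [hu]; ring⟩
    have := (padicValNat_dvd_iff_le hq1).mp h1
    omega
  refine ⟨(γ : F) ^ u, pow_ne_zero _ (Units.ne_zero γ), ?_, ?_⟩
  · intro b hb
    have hb0 : b ≠ 0 := by
      rintro rfl
      rw [zero_pow hr.ne_zero] at hb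
      exact pow_ne_zero _ (Units.ne_zero γ) hb.symm
    obtain ⟨e, he⟩ := exists_pow_gen γ hγ b hb0
    rw [← he, ← pow_mul] at hb
    have h1 : γ ^ (e * r) = γ ^ u := by
      apply Units.ext
      rw [Units.val_pow_eq_pow_val, Units.val_pow_eq_pow_val, hb]
    rw [pow_eq_pow_iff_modEq, hord] at h1
    have h2 : r ∣ e * r ↔ r ∣ u := Nat.ModEq.dvd_iff h1 hrq
    exact hru (h2.mp (dvd_mul_left r e))
  · rw [← pow_mul, mul_comm, ← hu, ← Units.val_pow_eq_pow_val, ← hord, pow_orderOf_eq_one,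
      Units.val_one]

end Cfsg.Agent.Lib.H24.Elus
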