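import Cfsg.Agent.Lib.H24.ElusPow
import Cfsg.Agent.Lib.H24.ElusDet
import Cfsg.Agent.Lib.H24.ElusFF
import Cfsg.Agent.Lib.H24.ElusCount
import Cfsg.Agent.Lib.H13.GLPrime

set_option autoImplicit false

/-!
# Elements of prime order of `SL_n(q)` (helper24)
-/

namespace Cfsg.Agent.Lib.H24.Elus

open Polynomial Module Matrix
open Cfsg.Agent.Lib.H13

variable {F : Type*} [Field F] [Fintype F] {p q : ℕ} [Fact p.Prime] [CharP F p]

theorem p_dvd_card (hq : Fintype.card F = q) : p ∣ q := by
  obtain ⟨f, -, hf⟩ := FiniteField.card F p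
  rw [← hq, hf]
  exact dvd_pow_self p f.ne_zero

theorem two_le_card (hq : Fintype.card F = q) : 2 ≤ q := by
  rw [← hq]; exact Fintype.one_lt_card

/-- `r ∣ q ^ k - 1` with `k ≥ 1` forces `r ≠ p` and `ord_r q ∣ k` -/
theorem order_dvd_of_dvd_pow_sub_one (hq : Fintype.card F = q) (r : ℕ) [Fact r.Prime] (k : ℕ)
    (hk : 1 ≤ k) (h : r ∣ q ^ k - 1) : r ≠ p ∧ orderOf (q : ZMod r) ∣ k := by
  have hq2 := two_le_card (F := F) hq
  have hqk : 1 ≤ q ^ k := Nat.one_le_pow _ _ (by omega)
  constructor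
  · rintro rfl
    have h1 : r ∣ q ^ k := (p_dvd_card (F := F) hq).trans (dvd_pow_self q (by omega))
    have h2 : r ∣ 1 := by
      have := (Nat.dvd_sub h1 h)
      rwa [Nat.sub_sub_self hqk] at this
    exact (Fact.out : r.Prime).one_lt.ne' (Nat.dvd_one.mp h2)
  · apply orderOf_dvd_of_pow_eq_one
    have h1 : ((q ^ k - 1 : ℕ) : ZMod r) = 0 := (ZMod.natCast_eq_zero_iff _ _).mpr h
    rw [Nat.cast_sub hqk, Nat.cast_pow, Nat.cast_one, sub_eq_zero] at h1
    exact h1

theorem order_eq_one_iff (q r : ℕ) [Fact r.Prime] (hq : 1 ≤ q) :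
    orderOf (q : ZMod r) = 1 ↔ r ∣ q - 1 := by
  rw [orderOf_eq_one_iff, ← (ZMod.natCast_eq_zero_iff (q - 1) r), Nat.cast_sub hq, Nat.cast_one,
    sub_eq_zero]

theorem coprime_of_order_ne_one (q r : ℕ) [Fact r.Prime] (hq : 1 ≤ q)
    (h : orderOf (q : ZMod r) ≠ 1) : Nat.Coprime (q - 1) r := by
  rw [Nat.coprime_comm, Nat.Prime.coprime_iff_not_dvd Fact.out]
  intro hd
  exact h ((order_eq_one_iff q r hq).mpr hd)

/-- in a finite field with `gcd(r, q - 1) = 1`, `u ^ r = 1` forces `u = 1` -/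
theorem eq_one_of_pow_coprime (r : ℕ) (hr : 0 < r) (hcop : Nat.Coprime (Fintype.card F - 1) r)
    (u : F) (hu : u ^ r = 1) : u = 1 := by
  have hu0 : u ≠ 0 := by
    rintro rfl
    rw [zero_pow hr.ne'] at hu
    exact zero_ne_one hu
  have h1 : u ^ (Fintype.card F - 1) = 1 := FiniteField.pow_card_sub_one_eq_one u hu0
  have h2 := pow_gcd_eq_one.mpr ⟨h1, hu⟩
  rwa [hcop.gcd_eq_one, pow_one] at h2

theorem invariant_iff {n : ℕ} (x : Matrix (Fin n) (Fin n) F) (W : Submodule F (Fin n → F)) :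
    W.map (Matrix.toLin' x) ≤ W ↔ ∀ v ∈ W, Matrix.toLin' x v ∈ W := by
  rw [Submodule.map_le_iff_le_comap]
  rfl

theorem ne_zero_of_pow_smul {n : ℕ} (hn : 0 < n) (x : Matrix (Fin n) (Fin n) F)
    (hdet : x.det = 1) (r : ℕ) (c : F) (hx : x ^ r = c • 1) : c ≠ 0 := by
  rintro rfl
  rw [zero_smul] at hx
  have h1 := congrArg Matrix.det hx
  haveI : Nonempty (Fin n) := ⟨⟨0, hn⟩⟩
  rw [Matrix.det_pow, hdet, one_pow, Matrix.det_zero] at h1
  exact one_ne_zero h1

/-- the determinant obstruction: `x ^ r = c` with `c` not an `r`-th power -/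
theorem false_of_det_one (hq : Fintype.card F = q) (r : ℕ) [Fact r.Prime] (n : ℕ) (hn : 0 < n)
    (x : Matrix (Fin n) (Fin n) F) (hdet : x.det = 1) (c : F) (hx : x ^ r = c • 1)
    (hnp : ∀ d : F, d ^ r ≠ c) (h1 : padicValNat r n ≤ padicValNat r (q - 1))
    (h2 : r = 2 → Even n → q % 4 = 1) : False := by
  have hr : r.Prime := Fact.out
  have hc := ne_zero_of_pow_smul hn x hdet r c hx
  have hirr : Irreducible (X ^ r - C c : F[X]) := X_pow_sub_C_irreducible_of_prime hr hnp
  obtain ⟨k, hk⟩ := PGLPrime.dvd_of_pow_eq hr.pos c hirr x hx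
  have hk0 : k ≠ 0 := by rintro rfl; omega
  have hd := det_of_pow_eq r hr.pos c hc hirr k n hk x hx
  rw [hdet] at hd
  -- the modified scalar is still not an `r`-th power
  have hnp' : ∀ d : F, d ^ r ≠ (-1) ^ (r + 1) * c := by
    rcases hr.eq_two_or_odd' with h | h
    · subst h
      have hev : Even n := ⟨k, by omega⟩
      have hq4 := h2 rfl hev
      have hsq : IsSquare (-1 : F) := by
        rw [FiniteField.isSquare_neg_one_iff, hq, hq4]
        norm_num
      obtain ⟨s, hs⟩ := hsq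
      intro d hd'
      apply hnp (s * d)
      have : (-1 : F) ^ (2 + 1) = -1 := by norm_num
      rw [this] at hd'
      rw [mul_pow, hd', pow_two, ← hs]
      ring
    · have : (-1 : F) ^ (r + 1) = 1 := Even.neg_one_pow (by
        obtain ⟨t, ht⟩ := h
        exact ⟨t + 1, by omega⟩)
      rw [this, one_mul]
      exact hnp
  have h3 := padicVal_le_of_not_pow r ((-1) ^ (r + 1) * c)
    (mul_ne_zero (pow_ne_zero _ (neg_ne_zero.mpr one_ne_zero)) hc) hnp' k hk0 hd.symm
  rw [hq] at h3
  rw [hk, padicValNat.mul hr.ne_zero hk0, padicValNat_self] at h1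
  omega

/-- an element of `SL_n(q)` with `x ^ r = z`, `X ^ r - z` irreducible -/
theorem exists_sl_irred (hq : Fintype.card F = q) (r : ℕ) [Fact r.Prime] (hrq : r ∣ q - 1)
    (n : ℕ) (hn : 0 < n)
    (h : ¬ (padicValNat r n ≤ padicValNat r (q - 1) ∧ (r = 2 → Even n → q % 4 = 1))) :
    ∃ (x : Matrix.SpecialLinearGroup (Fin n) F) (z : F),
      (x : Matrix (Fin n) (Fin n) F) ^ r = z • 1 ∧ ∀ d : F, d ^ r ≠ z := by
  have hr : r.Prime := Fact.out
  have hq2 := two_le_card (F := F) hq
  have hq1 : q - 1 ≠ 0 := by omega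
  by_cases hA : padicValNat r n ≤ padicValNat r (q - 1)
  · -- case B: `r = 2`, `n` even, `q ≡ 3 (mod 4)`
    have hB : ¬ (r = 2 → Even n → q % 4 = 1) := fun hB => h ⟨hA, hB⟩
    have hr2 : r = 2 := by
      by_contra h'
      exact hB (fun h'' => absurd h'' h')
    have hev : Even n := by
      by_contra h'
      exact hB (fun _ h'' => absurd h'' h')
    have hq4 : q % 4 ≠ 1 := fun h' => hB (fun _ _ => h')
    subst hr2
    obtain ⟨k, hk⟩ := hev
    have hq3 : q % 4 = 3 := by
      obtain ⟨t, ht⟩ := hrq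
      omega
    have hns : ¬ IsSquare (-1 : F) := by
      rw [FiniteField.isSquare_neg_one_iff, hq, hq3]
      norm_num
    obtain ⟨x₀, hx₀, hdet⟩ := exists_matrix_pow_det (F := F) 2 (by norm_num) (-1) k n (by omega)
    refine ⟨⟨x₀, ?_⟩, -1, hx₀, ?_⟩
    · rw [hdet]
      norm_num
    · intro d hd
      exact hns ⟨d, by rw [← hd, pow_two]⟩
  · -- case A: `v_r(n) > v_r(q - 1)`
    have hA : padicValNat r (q - 1) < padicValNat r n := not_le.mp hA
    rw [← hq] at hrq hA
    obtain ⟨z, hz0, hznp, hzpow⟩ := exists_not_pow (F := F) r hrq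
    set a := padicValNat r (Fintype.card F - 1) with ha
    have h1 : r ^ (a + 1) ∣ n := (padicValNat_dvd_iff_le hn.ne').mpr hA
    obtain ⟨k', hk'⟩ := h1
    obtain ⟨x₀, hx₀, hdet⟩ := exists_matrix_pow_det (F := F) r hr.pos z (r ^ a * k') n (by
      rw [hk', pow_succ]; ring)
    have ha1 : 1 ≤ a := one_le_padicValNat_of_dvd (by rw [hq]; exact hq1) hrq
    refine ⟨⟨x₀, ?_⟩, z, hx₀, hznp⟩
    rw [hdet, mul_pow, ← pow_mul, pow_mul z, hzpow, one_pow, mul_one]
    apply Even.neg_one_pow
    rcases hr.eq_two_or_odd' with h2 | h2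
    · subst h2
      apply Even.mul_left
      apply Even.mul_right
      exact (Nat.even_pow' (by omega)).mpr even_two
    · apply Even.mul_right
      obtain ⟨t, ht⟩ := h2
      exact ⟨t + 1, by omega⟩

/-- an element of `SL_n(q)` of order `r` with fixed space of dimension `n % i`, `i = ord_r q ≥ 2` -/
theorem exists_sl_cyc (hq : Fintype.card F = q) (r : ℕ) [Fact r.Prime] (hrp : r ≠ p)
    (hi2 : 2 ≤ orderOf (q : ZMod r)) (n : ℕ) (hin : orderOf (q : ZMod r) ≤ n) :
    ∃ x : Matrix.SpecialLinearGroup (Fin n) F,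
      (x : Matrix (Fin n) (Fin n) F) ^ r = 1 ∧
      (∀ c : F, (x : Matrix (Fin n) (Fin n) F) ≠ c • 1) ∧
      finrank F (LinearMap.ker (aeval (Matrix.toLin' (x : Matrix (Fin n) (Fin n) F))
        (X - 1 : F[X]))) = n % orderOf (q : ZMod r) := by
  classical
  have hr : r.Prime := Fact.out
  have hq2 := two_le_card (F := F) hq
  set i := orderOf (q : ZMod r) with hi_def
  have hcop : Nat.Coprime (Fintype.card F - 1) r := by
    rw [hq]
    exact coprime_of_order_ne_one q r (by omega) (by omega)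
  have hirr := CycFactor.irreducible_fJ (F := F) (r := r)
  have hcopf := CycFactor.coprime_fJ (F := F) hr hrp
  have hprod := CycFactor.prod_fJ (F := F) hr hrp
  -- a factor of the cyclotomic polynomial
  have hcard := CycFactor.card_S (F := F) hq hr hrp
  have hne : Nonempty (CycFactor.S r F) := by
    rw [← Fintype.card_pos_iff]
    rcases Nat.eq_zero_or_pos (Fintype.card (CycFactor.S r F)) with h0 | h0
    · rw [h0, zero_mul] at hcard
      have := hr.two_le
      omega
    · exact h0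
  obtain ⟨s₀⟩ := hne
  obtain ⟨x, hx, hmu⟩ := GLPrime.exists_of_mu (n := n) (CycFactor.fJ (F := F) r) hirr hcopf hprod
    hr.pos (fun j => j.elim (n % i) (fun s => if s = s₀ then n / i else 0)) (by
      rw [Fintype.sum_option]
      simp only [Option.elim_none, Option.elim_some]
      rw [CycFactor.natDegree_fJ_none, mul_one]
      have : ∑ s : CycFactor.S r F, (if s = s₀ then n / i else 0) *
          (CycFactor.fJ (F := F) r (some s)).natDegree = n / i * i := by
        rw [Finset.sum_eq_single s₀]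
        · rw [if_pos rfl, CycFactor.natDegree_fJ_some hq hr hrp]
        · intro s _ hs
          rw [if_neg hs, zero_mul]
        · intro h
          exact absurd (Finset.mem_univ _) h
      rw [this]
      have := Nat.div_add_mod n i
      rw [mul_comm] at this
      omega)
  have hdet : (x : Matrix (Fin n) (Fin n) F).det = 1 := by
    apply eq_one_of_pow_coprime r hr.pos hcop
    rw [← Matrix.det_pow, hx, Matrix.det_one]
  have hfix : finrank F (LinearMap.ker (aeval (Matrix.toLin' (x : Matrix (Fin n) (Fin n) F))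
      (X - 1 : F[X]))) = n % i := by
    have := hmu none
    rw [CycFactor.natDegree_fJ_none, mul_one] at this
    exact this
  refine ⟨⟨x, hdet⟩, hx, ?_, hfix⟩
  intro c hc
  change (x : Matrix (Fin n) (Fin n) F) = c • 1 at hc
  have hn1 : 1 ≤ n := by omega
  have hc1 : c = 1 := by
    apply eq_one_of_pow_coprime r hr.pos hcop
    apply PGLPrime.pow_eq_of_smul_one hn1 hr.pos c 1
    rw [← hc, hx, one_smul]
  rw [hc1, one_smul] at hc
  rw [hc, Matrix.toLin'_one] at hfix
  have h0 : aeval (LinearMap.id : (Fin n → F) →ₗ[F] (Fin n → F)) (X - 1 : F[X]) = 0 := by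
    rw [map_sub, aeval_X, map_one]
    exact sub_self _
  rw [h0, LinearMap.ker_zero, finrank_top, Module.finrank_fintype_fun_eq_card,
    Fintype.card_fin] at hfix
  have := Nat.mod_lt n (by omega : 0 < i)
  omega

end Cfsg.Agent.Lib.H24.Elus
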