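import Mathlib
import Cfsg.Prelude.Def_OddOrderLocal
import Cfsg.Prelude.Def_CaseTheorems
import Cfsg.Prelude.Def_PLocal
import Cfsg.Agent.Lib.H19.R2Defs
import Cfsg.Agent.Lib.H18.PGroupP4

/-!
# S3888 piece BL1 (architect helper19): one step of Blackburn's lemma.

`L₀ ⊴ G` of order `p`, `L₀ ≤ ℧₁(G')γ₃(G)`, `G/L₀` metacyclic ⇒ `G` metacyclic.
`A` := preimage of the cyclic normal subgroup, `A = ⟨a⟩ L₀`.  If `L₀ ≤ ⟨a⟩`, `A` is cyclic.  Otherwise
`M := ℧₁(A) ≤ ⟨a⟩` is normal, `G/(M L₀)` is abelian (image of `A` central of order `≤ p`, quotient cyclic), so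
`G' ≤ M L₀`, `℧₁(G') ≤ M`, `γ₃ ≤ M`, hence `L₀ ≤ LB ≤ M ≤ ⟨a⟩`: contradiction.
-/

set_option autoImplicit false

namespace Cfsg.Agent.Lib.H24.R2

open Cfsg Cfsg.Agent.Lib.H19.R2
open scoped commutatorElement

universe u

variable {p : ℕ} [Fact p.Prime] {G : Type u} [Group G] [Finite G]

omit [Fact p.Prime] [Finite G] in
/-- `℧₁(A)` is normal when `A` is. -/
theorem agemoOf_normal_of_normal (A : Subgroup G) [hA : A.Normal] : (agemoOf p A).Normal := by
  constructor
  intro n hn g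
  unfold agemoOf at hn ⊢
  induction hn using Subgroup.closure_induction with
  | mem x hx =>
    obtain ⟨d, hd, rfl⟩ := hx
    refine Subgroup.subset_closure ⟨g * d * g⁻¹, hA.conj_mem d hd g, ?_⟩
    rw [conj_pow]
  | one => simp
  | mul x y _ _ hx hy =>
    have : g * (x * y) * g⁻¹ = (g * x * g⁻¹) * (g * y * g⁻¹) := by group
    rw [this]; exact Subgroup.mul_mem _ hx hy
  | inv x _ hx =>
    have : g * x⁻¹ * g⁻¹ = (g * x * g⁻¹)⁻¹ := by group
    rw [this]; exact Subgroup.inv_mem _ hx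

/-- BL1.  One step of Blackburn's lemma. -/
theorem blackburn_step (hG : IsPGroup p G) (L₀ : Subgroup G) [L₀.Normal] (hcard : Nat.card L₀ = p)
    (hle : L₀ ≤ LB p G) (hq : Cfsg.IsMetacyclic (G ⧸ L₀)) : Cfsg.IsMetacyclic G := by
  have hpp : p.Prime := Fact.out
  obtain ⟨Nb, hNbn, hNbc, hQc⟩ := hq
  set π : G →* G ⧸ L₀ := QuotientGroup.mk' L₀ with hπ
  have hπs : Function.Surjective π := QuotientGroup.mk'_surjective L₀
  -- the preimage `A`
  set A : Subgroup G := Nb.comap π with hA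
  have hAn : A.Normal := Subgroup.Normal.comap hNbn π
  have hL₀A : L₀ ≤ A := by
    intro l hl
    rw [hA, Subgroup.mem_comap]
    have : π l = 1 := by rw [hπ, QuotientGroup.mk'_apply, QuotientGroup.eq_one_iff]; exact hl
    rw [this]; exact Subgroup.one_mem _
  -- `G ⧸ A` is cyclic
  have hQA : IsCyclic (G ⧸ A) := by
    let f : G ⧸ L₀ →* G ⧸ A := QuotientGroup.map L₀ A (MonoidHom.id G) (by
      intro l hl; exact hL₀A hl)
    have hfs : Function.Surjective f := by
      intro y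
      obtain ⟨g, rfl⟩ := QuotientGroup.mk_surjective y
      exact ⟨(g : G ⧸ L₀), rfl⟩
    have hker : Nb ≤ f.ker := by
      intro x hx
      obtain ⟨g, rfl⟩ := QuotientGroup.mk_surjective x
      rw [MonoidHom.mem_ker]
      change ((g : G) : G ⧸ A) = 1
      rw [QuotientGroup.eq_one_iff, hA, Subgroup.mem_comap]
      exact hx
    let h : (G ⧸ L₀) ⧸ Nb →* G ⧸ A := QuotientGroup.lift Nb f hker
    have hhs : Function.Surjective h := by
      intro y
      obtain ⟨x, rfl⟩ := hfs y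
      exact ⟨(x : (G ⧸ L₀) ⧸ Nb), rfl⟩
    exact isCyclic_of_surjective h hhs
  -- generator of `Nb` and a preimage `a`
  obtain ⟨ab, hab⟩ := hNbc.exists_generator
  obtain ⟨a, ha⟩ := hπs ab.val
  have haA : a ∈ A := by
    rw [hA, Subgroup.mem_comap, ha]; exact ab.2
  -- every element of `A` is `a ^ i * l`
  have hAform : ∀ x ∈ A, ∃ i : ℤ, ∃ l ∈ L₀, x = a ^ i * l := by
    intro x hx
    rw [hA, Subgroup.mem_comap] at hx
    obtain ⟨i, hi⟩ := Subgroup.mem_zpowers_iff.1 (hab ⟨π x, hx⟩)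
    have h1 : π (a ^ i) = π x := by
      rw [map_zpow, ha]
      have := congrArg Subtype.val hi
      simpa using this
    refine ⟨i, (a ^ i)⁻¹ * x, ?_, by group⟩
    have h2 : π ((a ^ i)⁻¹ * x) = 1 := by rw [map_mul, map_inv, h1, inv_mul_cancel]
    rwa [hπ, QuotientGroup.mk'_apply, QuotientGroup.eq_one_iff] at h2
  -- `L₀` is central, of exponent `p`
  have hL₀Z : L₀ ≤ Subgroup.center G :=
    Cfsg.Agent.Lib.H18.le_center_of_normal_of_card_prime p hG L₀ hcard
  have hL₀p : ∀ l ∈ L₀, l ^ p = 1 := by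
    intro l hl
    have := pow_card_eq_one' (G := L₀) (x := ⟨l, hl⟩)
    rw [hcard] at this
    simpa using congrArg Subtype.val this
  by_cases hcase : L₀ ≤ Subgroup.zpowers a
  · -- `A = ⟨a⟩` is cyclic
    refine ⟨A, hAn, ?_, hQA⟩
    refine ⟨⟨⟨a, haA⟩, fun x => ?_⟩⟩
    obtain ⟨i, l, hl, hx⟩ := hAform x.1 x.2
    obtain ⟨j, hj⟩ := Subgroup.mem_zpowers_iff.1 (hcase hl)
    refine Subgroup.mem_zpowers_iff.2 ⟨i + j, ?_⟩
    apply Subtype.ext
    rw [hx, ← hj, ← zpow_add]
    simp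
  · exfalso
    apply hcase
    -- `M = ℧₁(A) ≤ ⟨a⟩`
    have hM1 : agemoOf p A ≤ Subgroup.zpowers a := by
      apply agemoOf_le
      intro d hd
      obtain ⟨i, l, hl, rfl⟩ := hAform d hd
      have hc : Commute (a ^ i) l := Subgroup.mem_center_iff.1 (hL₀Z hl) (a ^ i)
      rw [hc.mul_pow, hL₀p l hl, mul_one]
      exact Subgroup.pow_mem _ (Subgroup.zpow_mem _ (Subgroup.mem_zpowers a) i) p
    have hMn : (agemoOf p A).Normal := agemoOf_normal_of_normal A
    set M₂ : Subgroup G := agemoOf p A ⊔ L₀ with hM₂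
    have hM₂n : M₂.Normal := by rw [hM₂]; infer_instance
    have hM₂A : M₂ ≤ A := by
      rw [hM₂]
      refine sup_le (agemoOf_le fun d hd => Subgroup.pow_mem _ hd p) hL₀A
    -- the quotient `G ⧸ M₂` is commutative
    set ρ : G →* G ⧸ M₂ := QuotientGroup.mk' M₂ with hρ
    have hρs : Function.Surjective ρ := QuotientGroup.mk'_surjective M₂
    have hρker : ∀ g : G, ρ g = 1 ↔ g ∈ M₂ := by
      intro g; rw [hρ, QuotientGroup.mk'_apply, QuotientGroup.eq_one_iff]
    have hQ₂p : IsPGroup p (G ⧸ M₂) := hG.to_quotient M₂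
    have hρa_p : (ρ a) ^ p = 1 := by
      rw [← map_pow, hρker]
      exact Subgroup.mem_sup_left (pow_mem_agemoOf p haA)
    -- image of `A`
    have hPform : ∀ x ∈ A, ∃ i : ℤ, ρ x = (ρ a) ^ i := by
      intro x hx
      obtain ⟨i, l, hl, rfl⟩ := hAform x hx
      refine ⟨i, ?_⟩
      rw [map_mul, map_zpow, (hρker l).2 (Subgroup.mem_sup_right hl), mul_one]
    have hPeq : Subgroup.zpowers (ρ a) = A.map ρ := by
      apply le_antisymm
      · rw [Subgroup.zpowers_le]
        exact Subgroup.mem_map_of_mem ρ haA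
      · rintro _ ⟨x, hx, rfl⟩
        obtain ⟨i, hi⟩ := hPform x hx
        rw [hi]; exact Subgroup.zpow_mem _ (Subgroup.mem_zpowers _) i
    have hρaZ : ρ a ∈ Subgroup.center (G ⧸ M₂) := by
      have hPn : (Subgroup.zpowers (ρ a)).Normal := by
        rw [hPeq]; exact Subgroup.Normal.map hAn ρ hρs
      have hord : orderOf (ρ a) ∣ p := orderOf_dvd_of_pow_eq_one hρa_p
      rcases (Nat.dvd_prime hpp).1 hord with h1 | h1
      · rw [orderOf_eq_one_iff] at h1
        rw [h1]; exact Subgroup.one_mem _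
      · have hcP : Nat.card (Subgroup.zpowers (ρ a)) = p := by rw [Nat.card_zpowers, h1]
        exact Cfsg.Agent.Lib.H18.le_center_of_normal_of_card_prime p hQ₂p _ hcP
          (Subgroup.mem_zpowers _)
    have hcomm : ∀ x y : G ⧸ M₂, x * y = y * x := by
      let f : G ⧸ M₂ →* G ⧸ A := QuotientGroup.map M₂ A (MonoidHom.id G) (by
        intro m hm; exact hM₂A hm)
      have hfker : f.ker ≤ Subgroup.center (G ⧸ M₂) := by
        intro x hx
        obtain ⟨g, rfl⟩ := hρs x
        rw [MonoidHom.mem_ker] at hx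
        have hgA : g ∈ A := by
          have : ((g : G) : G ⧸ A) = 1 := hx
          rwa [QuotientGroup.eq_one_iff] at this
        obtain ⟨i, hi⟩ := hPform g hgA
        rw [hi]
        exact Subgroup.zpow_mem _ hρaZ i
      exact (MonoidHom.isMulCommutative_of_isCyclic_of_ker_le_center f hfker).is_comm.comm
    have hG'M₂ : commutator G ≤ M₂ := by
      rw [commutator_def, Subgroup.commutator_le]
      intro g _ h _
      rw [← hρker, map_commutatorElement, commutatorElement_def, hcomm (ρ g) (ρ h)]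
      group
    -- decomposition of elements of `M₂`
    have hM₂form : ∀ d ∈ M₂, ∃ m ∈ agemoOf p A, ∃ l ∈ L₀, d = m * l := by
      intro d hd
      rw [hM₂] at hd
      obtain ⟨m, hm, l, hl, rfl⟩ := Subgroup.mem_sup_of_normal_right.1 hd
      exact ⟨m, hm, l, hl, rfl⟩
    have hLB : LB p G ≤ agemoOf p A := by
      unfold LB
      refine sup_le ?_ ?_
      · apply agemoOf_le
        intro d hd
        obtain ⟨m, hm, l, hl, rfl⟩ := hM₂form d (hG'M₂ hd)
        have hc : Commute m l := Subgroup.mem_center_iff.1 (hL₀Z hl) m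
        rw [hc.mul_pow, hL₀p l hl, mul_one]
        exact Subgroup.pow_mem _ hm p
      · have h2 : (⊤ : Subgroup G).lowerCentralSeries 2 = ⁅commutator G, (⊤ : Subgroup G)⁆ := by
          rw [Subgroup.lowerCentralSeries_succ, Subgroup.top_lowerCentralSeries_one]
        rw [h2, Subgroup.commutator_le]
        intro d hd g _
        obtain ⟨m, hm, l, hl, rfl⟩ := hM₂form d (hG'M₂ hd)
        have hlZ := Subgroup.mem_center_iff.1 (hL₀Z hl)
        have : ⁅m * l, g⁆ = m * (g * m⁻¹ * g⁻¹) := by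
          rw [commutatorElement_def, mul_inv_rev]
          have e1 : m * l * g * (l⁻¹ * m⁻¹) * g⁻¹ = m * (l * g * l⁻¹) * m⁻¹ * g⁻¹ := by group
          rw [e1, ← hlZ g]
          group
        rw [this]
        exact Subgroup.mul_mem _ hm (hMn.conj_mem _ (Subgroup.inv_mem _ hm) g)
    exact hle.trans (hLB.trans hM1)

end Cfsg.Agent.Lib.H24.R2
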