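import Mathlib
import Cfsg.Agent.Lib.H11.S8V0

/-!
# S3590 task U3 (helper24 for helper11): `rank_sub_one`

In characteristic 2, if `A ^ (2^t m) = 1`, the geometric sum `gsum A (2^t m)` is nonzero and the
multiplicity of the eigenvalue `1` in the characteristic polynomial of `A` is exactly `2^t`, then
the fixed space of `A` is a line: `rank (A - 1) + 1 = dim`.
-/

set_option autoImplicit false

namespace Cfsg.Agent.Lib.H24.S8V

open Polynomial Cfsg.Agent.Lib.H11.S8V

section linalg

variable {ι : Type*} [Fintype ι] [DecidableEq ι] {F : Type*} [Field F] [CharP F 2]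

/-- polynomial identity in characteristic 2:
`∑_{i < 2^t m} X^i = (X-1)^(2^t-1) (∑_{i<m} X^i)^(2^t)` -/
theorem geom_sum_char_two (t m : ℕ) :
    (∑ i ∈ Finset.range (2 ^ t * m), (X : F[X]) ^ i) =
      (X - 1) ^ (2 ^ t - 1) * (∑ i ∈ Finset.range m, (X : F[X]) ^ i) ^ (2 ^ t) := by
  have hX : (X - 1 : F[X]) ≠ 0 := by
    have := X_sub_C_ne_zero (1 : F)
    rwa [map_one] at this
  apply mul_left_cancel₀ hX
  have : Fact (Nat.Prime 2) := ⟨Nat.prime_two⟩
  have hc : CharP F[X] 2 := inferInstance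
  have h1 : (X - 1 : F[X]) * ∑ i ∈ Finset.range (2 ^ t * m), (X : F[X]) ^ i
      = X ^ (2 ^ t * m) - 1 := mul_geom_sum _ _
  have h2 : (X - 1 : F[X]) * ∑ i ∈ Finset.range m, (X : F[X]) ^ i = X ^ m - 1 :=
    mul_geom_sum _ _
  rw [h1, ← mul_assoc, ← pow_succ', Nat.sub_add_cancel Nat.one_le_two_pow, ← mul_pow, h2,
    sub_pow_char_pow, one_pow, ← pow_mul, mul_comm]

/-- **U3** -/
theorem rank_sub_one (A : Matrix ι ι F) (t m : ℕ) (hm : Odd m) (hA : A ^ (2 ^ t * m) = 1)
    (hS : gsum A (2 ^ t * m) ≠ 0) (χ₁ : F[X]) (hχ : A.charpoly = (X - C (1 : F)) ^ (2 ^ t) * χ₁)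
    (hχ₁ : χ₁.eval 1 ≠ 0) : (A - 1).rank + 1 = Fintype.card ι := by
  classical
  obtain ⟨e, he⟩ : ∃ e : ℕ, e = 2 ^ t := ⟨_, rfl⟩
  rw [← he] at hA hS hχ
  have he1 : 1 ≤ e := he ▸ Nat.one_le_two_pow
  -- the factorisation of the geometric sum
  have hgs : gsum A (e * m) =
      (A - 1) ^ (e - 1) * (aeval A (∑ i ∈ Finset.range m, (X : F[X]) ^ i)) ^ e := by
    have := congrArg (aeval A) (geom_sum_char_two (F := F) t m)
    rw [← he] at this
    simpa [gsum_def, map_sum, map_pow, map_mul, map_sub, aeval_X, aeval_one] using this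
  -- `(A - 1) * gsum = 0`
  have hgs0 : (A - 1) * gsum A (e * m) = 0 := by
    rw [gsum_def, mul_geom_sum, hA, sub_self]
  -- a vector in `ker N^e` but not in `ker N^(e-1)`
  set N : Module.End F (ι → F) := Matrix.toLin' (A - 1) with hN
  have hNpow : ∀ k, N ^ k = Matrix.toLin' ((A - 1) ^ k) := fun k =>
    (Matrix.toLin'_pow _ _).symm
  obtain ⟨w, hw⟩ : ∃ w : ι → F, (gsum A (e * m)).mulVec w ≠ 0 := by
    by_contra hcon
    apply hS
    apply Matrix.toLin'.injective
    apply LinearMap.ext
    intro w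
    rw [Matrix.toLin'_apply, map_zero, LinearMap.zero_apply]
    by_contra hw
    exact hcon ⟨w, hw⟩
  set B : Matrix ι ι F := (aeval A (∑ i ∈ Finset.range m, (X : F[X]) ^ i)) ^ e with hB
  have hv1 : (N ^ (e - 1)) (B.mulVec w) ≠ 0 := by
    rw [hNpow, Matrix.toLin'_apply, Matrix.mulVec_mulVec, ← hgs]
    exact hw
  have hv2 : (N ^ e) (B.mulVec w) = 0 := by
    rw [hNpow, Matrix.toLin'_apply, Matrix.mulVec_mulVec]
    have : (A - 1) ^ e * B = (A - 1) * gsum A (e * m) := by
      rw [hgs, ← mul_assoc, ← pow_succ', Nat.sub_add_cancel he1]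
    rw [this, hgs0, Matrix.zero_mulVec]
  -- the chain of kernels
  have hne : LinearMap.ker (N ^ (e - 1)) ≠ LinearMap.ker (N ^ e) := by
    intro h
    apply hv1
    have : B.mulVec w ∈ LinearMap.ker (N ^ e) := hv2
    rw [← h] at this
    exact this
  have hle : ∀ i, LinearMap.ker (N ^ i) ≤ LinearMap.ker (N ^ (i + 1)) := by
    intro i
    rw [pow_succ', Module.End.mul_eq_comp]
    exact LinearMap.ker_le_ker_comp _ _
  have hlt : ∀ i, i < e → LinearMap.ker (N ^ i) < LinearMap.ker (N ^ (i + 1)) := by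
    intro i hi
    refine lt_of_le_of_ne (hle i) ?_
    intro h
    have hc := Module.End.ker_pow_constant h
    apply hne
    have h1 := hc (e - 1 - i)
    have h2 := hc (e - i)
    rw [show i + (e - 1 - i) = e - 1 by omega] at h1
    rw [show i + (e - i) = e by omega] at h2
    exact h1.symm.trans h2
  have hfin : ∀ j i, i + j ≤ e →
      Module.finrank F (LinearMap.ker (N ^ i)) + j ≤ Module.finrank F (LinearMap.ker (N ^ (i + j))) := by
    intro j
    induction j with
    | zero => intro i _; simp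
    | succ j ih =>
      intro i hij
      have h1 := ih i (by omega)
      have h2 := Submodule.finrank_lt_finrank_of_lt (hlt (i + j) (by omega))
      rw [show i + (j + 1) = i + j + 1 by omega]
      omega
  -- the bound from the characteristic polynomial
  have hroot : (Matrix.toLin' A).charpoly.rootMultiplicity 1 = e := by
    rw [Matrix.charpoly_toLin', hχ]
    have hχ₁0 : χ₁ ≠ 0 := by
      rintro rfl
      simp at hχ₁
    have hne0 : (X - C (1 : F)) ^ e * χ₁ ≠ 0 :=
      mul_ne_zero (pow_ne_zero _ (X_sub_C_ne_zero 1)) hχ₁0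
    rw [rootMultiplicity_mul hne0, rootMultiplicity_X_sub_C_pow,
      rootMultiplicity_eq_zero (p := χ₁) (x := 1) hχ₁, add_zero]
  have hKe : Module.finrank F (LinearMap.ker (N ^ e)) ≤ e := by
    have h := LinearMap.finrank_genEigenspace_le (Matrix.toLin' A) (1 : F) e
    rw [hroot, Module.End.genEigenspace_nat, one_smul] at h
    have hN' : Matrix.toLin' A - 1 = N := by
      rw [hN, map_sub, Matrix.toLin'_one]
      rfl
    rwa [hN'] at h
  have hK1 : Module.finrank F (LinearMap.ker N) = 1 := by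
    have h1 := hfin (e - 1) 1 (by omega)
    have h2 := Submodule.finrank_lt_finrank_of_lt (hlt 0 (by omega))
    rw [show 1 + (e - 1) = e by omega, pow_one] at h1
    rw [zero_add, pow_one, pow_zero] at h2
    omega
  have hrank : (A - 1).rank = Module.finrank F (LinearMap.range N) := by
    rw [Matrix.rank, hN, Matrix.toLin'_apply']
  have hrn := LinearMap.finrank_range_add_finrank_ker N
  rw [Module.finrank_fintype_fun_eq_card] at hrn
  omega

end linalg

end Cfsg.Agent.Lib.H24.S8V
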