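import Mathlib
import Cfsg.Agent.Lib.H24.ElusSpStruct
import Cfsg.Agent.Lib.H13.SympBasis
import Cfsg.Agent.Lib.H13.SpInvolCount
import Cfsg.Agent.Lib.H2.SpOrder

set_option autoImplicit false

/-!
# Elements of prime order of the symplectic group with prescribed fixed space (helper24)

* `exists_sp_of_isometry`: an isometry of an abstract nondegenerate alternating space gives a
  symplectic matrix with the same kernel dimensions.
* `exists_sp_sum`: orthogonal sums of symplectic matrices.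
* `exists_sp_atom`: an element of order `r` of `Sp_c(q)` without fixed vectors.
* `exists_sp_test`: an element of order `r` of `Sp_{2d}(q)` whose fixed space has dimension
  `2 d - s c`.
-/

namespace Cfsg.Agent.Lib.H24.Elus

open Polynomial Module
open Cfsg.Agent.Lib.H13

section std

variable {F : Type*} [Field F]

/-- the standard symplectic form -/
noncomputable abbrev stdB (m : ℕ) : LinearMap.BilinForm F (Fin m ⊕ Fin m → F) :=
  SpInvolCount.sympB (F := F) m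

theorem stdB_apply (m : ℕ) (u v : Fin m ⊕ Fin m → F) : stdB m u v = Cfsg.sympForm m F u v :=
  SpInvolCount.sympB_apply m u v

theorem stdB_alt (m : ℕ) : ∀ v : Fin m ⊕ Fin m → F, stdB m v v = 0 := SpInvolCount.sympB_alt m

theorem stdB_nd (m : ℕ) : ∀ v : Fin m ⊕ Fin m → F, (∀ w, stdB m v w = 0) → v = 0 :=
  (SpInvolCount.sympB_nondeg m).1

theorem stdB_NDon_top (m : ℕ) : NDon (stdB (F := F) m) ⊤ :=
  fun u _ h => stdB_nd m u (fun w => h w Submodule.mem_top)

theorem sp_iso (m : ℕ) (x : ↥(Matrix.symplecticGroup (Fin m) F)) (u v : Fin m ⊕ Fin m → F) :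
    stdB m (Matrix.toLin' (x : Matrix (Fin m ⊕ Fin m) (Fin m ⊕ Fin m) F) u)
      (Matrix.toLin' (x : Matrix (Fin m ⊕ Fin m) (Fin m ⊕ Fin m) F) v) = stdB m u v := by
  rw [stdB_apply, stdB_apply, Matrix.toLin'_apply, Matrix.toLin'_apply]
  exact (mem_symplecticGroup_iff_sympForm' m _).mp x.2 u v

theorem finrank_std (m : ℕ) : finrank F (Fin m ⊕ Fin m → F) = 2 * m := by
  rw [Module.finrank_fintype_fun_eq_card, Fintype.card_sum, Fintype.card_fin, two_mul]

variable {V' : Type*} [AddCommGroup V'] [Module F V'] [FiniteDimensional F V']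

/-- a nondegenerate alternating space is isometric to the standard one -/
theorem exists_std_equiv (B' : LinearMap.BilinForm F V') (halt : ∀ v, B' v v = 0)
    (hnd : ∀ v, (∀ w, B' v w = 0) → v = 0) (d : ℕ) (hdim : finrank F V' = 2 * d) :
    ∃ g : V' ≃ₗ[F] (Fin d ⊕ Fin d → F), ∀ u v, Cfsg.sympForm d F (g u) (g v) = B' u v := by
  obtain ⟨b, hb⟩ := exists_symp_basis B' halt hnd hdim
  exact ⟨(b.reindex (Equiv.sumComm _ _)).equivFun, fun u v =>
    (sympForm_of_isSymp B' halt b hb u v).symm⟩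

/-- an isometry of a nondegenerate alternating space as a symplectic matrix -/
theorem exists_sp_of_isometry (B' : LinearMap.BilinForm F V') (halt : ∀ v, B' v v = 0)
    (hnd : ∀ v, (∀ w, B' v w = 0) → v = 0) (d : ℕ) (hdim : finrank F V' = 2 * d)
    (x' : End F V') (hiso : ∀ u v, B' (x' u) (x' v) = B' u v) (r : ℕ) (hx' : x' ^ r = 1) :
    ∃ x : ↥(Matrix.symplecticGroup (Fin d) F),
      (x : Matrix (Fin d ⊕ Fin d) (Fin d ⊕ Fin d) F) ^ r = 1 ∧
      ∀ p : F[X], finrank F (LinearMap.ker (aeval (Matrix.toLin'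
        (x : Matrix (Fin d ⊕ Fin d) (Fin d ⊕ Fin d) F)) p)) =
          finrank F (LinearMap.ker (aeval x' p)) := by
  obtain ⟨g, hg⟩ := exists_std_equiv B' halt hnd d hdim
  set ψ : End F (Fin d ⊕ Fin d → F) := (g : V' →ₗ[F] _) ∘ₗ x' ∘ₗ (g.symm : _ →ₗ[F] V') with hψ
  have hint : ∀ v, g (x' v) = ψ (g v) := by
    intro v
    rw [hψ, LinearMap.comp_apply, LinearMap.comp_apply, LinearEquiv.coe_coe, LinearEquiv.coe_coe,
      g.symm_apply_apply]
  have hM : LinearMap.toMatrix' ψ ∈ Matrix.symplecticGroup (Fin d) F := by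
    rw [mem_symplecticGroup_iff_sympForm']
    intro u v
    rw [LinearMap.toMatrix'_mulVec, LinearMap.toMatrix'_mulVec]
    obtain ⟨u', rfl⟩ := g.surjective u
    obtain ⟨v', rfl⟩ := g.surjective v
    rw [← hint, ← hint, hg, hg, hiso]
  have hpow : ψ ^ r = 1 := by
    apply LinearMap.ext
    intro v
    obtain ⟨v', rfl⟩ := g.surjective v
    have h1 := SSClass.aeval_intertwine x' ψ (g : V' →ₗ[F] _) hint (X ^ r) v'
    rw [map_pow, map_pow, aeval_X, aeval_X, hx', Module.End.one_apply] at h1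
    rw [Module.End.one_apply]
    exact h1.symm
  refine ⟨⟨LinearMap.toMatrix' ψ, hM⟩, ?_, ?_⟩
  · show (LinearMap.toMatrix' ψ) ^ r = 1
    apply Matrix.toLin'.injective
    rw [Matrix.toLin'_pow, Matrix.toLin'_toMatrix', hpow, Matrix.toLin'_one]
    rfl
  · intro p
    show finrank F (LinearMap.ker (aeval (Matrix.toLin' (LinearMap.toMatrix' ψ)) p)) = _
    rw [Matrix.toLin'_toMatrix']
    exact (SSClass.finrank_ker_eq_of_equiv x' ψ g hint p).symm

end std

section sum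

variable {F : Type*} [Field F]

/-- the orthogonal sum of two bilinear forms -/
noncomputable def prodB {V₁ V₂ : Type*} [AddCommGroup V₁] [Module F V₁] [AddCommGroup V₂]
    [Module F V₂] (B₁ : LinearMap.BilinForm F V₁) (B₂ : LinearMap.BilinForm F V₂) :
    LinearMap.BilinForm F (V₁ × V₂) :=
  B₁.compl₁₂ (LinearMap.fst F V₁ V₂) (LinearMap.fst F V₁ V₂) +
    B₂.compl₁₂ (LinearMap.snd F V₁ V₂) (LinearMap.snd F V₁ V₂)

theorem prodB_apply {V₁ V₂ : Type*} [AddCommGroup V₁] [Module F V₁] [AddCommGroup V₂]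
    [Module F V₂] (B₁ : LinearMap.BilinForm F V₁) (B₂ : LinearMap.BilinForm F V₂)
    (u v : V₁ × V₂) : prodB B₁ B₂ u v = B₁ u.1 v.1 + B₂ u.2 v.2 := rfl

/-- orthogonal sums of symplectic matrices of order dividing `r` -/
theorem exists_sp_sum (m₁ m₂ : ℕ) (x₁ : ↥(Matrix.symplecticGroup (Fin m₁) F))
    (x₂ : ↥(Matrix.symplecticGroup (Fin m₂) F)) (r : ℕ)
    (h₁ : (x₁ : Matrix (Fin m₁ ⊕ Fin m₁) (Fin m₁ ⊕ Fin m₁) F) ^ r = 1)
    (h₂ : (x₂ : Matrix (Fin m₂ ⊕ Fin m₂) (Fin m₂ ⊕ Fin m₂) F) ^ r = 1) :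
    ∃ x : ↥(Matrix.symplecticGroup (Fin (m₁ + m₂)) F),
      (x : Matrix (Fin (m₁ + m₂) ⊕ Fin (m₁ + m₂)) (Fin (m₁ + m₂) ⊕ Fin (m₁ + m₂)) F) ^ r = 1 ∧
      ∀ p : F[X], finrank F (LinearMap.ker (aeval (Matrix.toLin'
        (x : Matrix (Fin (m₁ + m₂) ⊕ Fin (m₁ + m₂)) (Fin (m₁ + m₂) ⊕ Fin (m₁ + m₂)) F)) p)) =
          finrank F (LinearMap.ker (aeval (Matrix.toLin'
            (x₁ : Matrix (Fin m₁ ⊕ Fin m₁) (Fin m₁ ⊕ Fin m₁) F)) p)) +
          finrank F (LinearMap.ker (aeval (Matrix.toLin'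
            (x₂ : Matrix (Fin m₂ ⊕ Fin m₂) (Fin m₂ ⊕ Fin m₂) F)) p)) := by
  set ψ₁ : End F (Fin m₁ ⊕ Fin m₁ → F) :=
    Matrix.toLin' (x₁ : Matrix (Fin m₁ ⊕ Fin m₁) (Fin m₁ ⊕ Fin m₁) F) with hψ₁
  set ψ₂ : End F (Fin m₂ ⊕ Fin m₂ → F) :=
    Matrix.toLin' (x₂ : Matrix (Fin m₂ ⊕ Fin m₂) (Fin m₂ ⊕ Fin m₂) F) with hψ₂
  have hp₁ : ψ₁ ^ r = 1 := by
    rw [hψ₁, ← Matrix.toLin'_pow, h₁, Matrix.toLin'_one]; rfl
  have hp₂ : ψ₂ ^ r = 1 := by
    rw [hψ₂, ← Matrix.toLin'_pow, h₂, Matrix.toLin'_one]; rfl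
  have hpow : (ψ₁.prodMap ψ₂) ^ r = 1 := by
    have h := aeval_prodMap ψ₁ ψ₂ (X ^ r : F[X])
    rw [map_pow, map_pow, map_pow, aeval_X, aeval_X, aeval_X, hp₁, hp₂] at h
    rw [h]
    exact LinearMap.prodMap_one
  obtain ⟨x, hx, hker⟩ := exists_sp_of_isometry (prodB (stdB (F := F) m₁) (stdB (F := F) m₂))
    (by
      intro v
      rw [prodB_apply, stdB_alt, stdB_alt, add_zero])
    (by
      intro v hv
      have h1 : v.1 = 0 := by
        apply stdB_nd m₁
        intro w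
        have := hv (w, 0)
        rw [prodB_apply] at this
        simpa using this
      have h2 : v.2 = 0 := by
        apply stdB_nd m₂
        intro w
        have := hv (0, w)
        rw [prodB_apply] at this
        simpa using this
      exact Prod.ext h1 h2)
    (m₁ + m₂) (by rw [Module.finrank_prod, finrank_std, finrank_std]; ring)
    (ψ₁.prodMap ψ₂) (by
      intro u v
      rw [prodB_apply, prodB_apply]
      show stdB m₁ (ψ₁ u.1) (ψ₁ v.1) + stdB m₂ (ψ₂ u.2) (ψ₂ v.2) = _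
      rw [hψ₁, hψ₂, sp_iso, sp_iso]) r hpow
  refine ⟨x, hx, fun p => ?_⟩
  rw [hker p, finrank_ker_aeval_prodMap]

end sum

section atomelt

variable {F : Type*} [Field F] [Fintype F] {p q : ℕ} [Fact p.Prime] [CharP F p]

theorem dvd_card_sp (hF : Fintype.card F = q) (r : ℕ) [Fact r.Prime] (c' : ℕ) (hc' : 0 < c')
    (hc : orderOf (q : ZMod r) ∣ 2 * c') :
    r ∣ Nat.card ↥(Matrix.symplecticGroup (Fin c') F) := by
  rw [Cfsg.Agent.Lib.H2.Sp.card_Sp, hF]
  apply Dvd.dvd.mul_left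
  apply Dvd.dvd.trans _ (Finset.dvd_prod_of_mem _ (Finset.mem_range.mpr (by omega : c' - 1 < c')))
  have h1 : 2 * (c' - 1 + 1) = 2 * c' := by omega
  rw [h1, ← ZMod.natCast_eq_zero_iff]
  have hq1 : 1 ≤ q ^ (2 * c') := Nat.one_le_pow _ _ (by rw [← hF]; exact Fintype.card_pos)
  rw [Nat.cast_sub hq1, Nat.cast_pow, Nat.cast_one, sub_eq_zero]
  exact orderOf_dvd_iff_pow_eq_one.mp hc

/-- an element of order `r` of `Sp_c(q)` has no nonzero fixed vectors -/
theorem exists_sp_atom (hF : Fintype.card F = q) (r : ℕ) [Fact r.Prime] (hrp : r ≠ p)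
    (hr2 : r ≠ 2) (c' : ℕ) (hc : 2 * c' = cOf (orderOf (q : ZMod r))) :
    ∃ x : ↥(Matrix.symplecticGroup (Fin c') F),
      (x : Matrix (Fin c' ⊕ Fin c') (Fin c' ⊕ Fin c') F) ^ r = 1 ∧
      finrank F (LinearMap.ker (aeval (Matrix.toLin'
        (x : Matrix (Fin c' ⊕ Fin c') (Fin c' ⊕ Fin c') F)) (X - 1 : F[X]))) = 0 := by
  classical
  have hr : r.Prime := Fact.out
  have hi0 : 0 < orderOf (q : ZMod r) := CycFactor.orderOf_pos hF hr hrp
  have hc0 : 0 < cOf (orderOf (q : ZMod r)) := cOf_pos hi0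
  have hc'0 : 0 < c' := by omega
  have hdvd := dvd_card_sp hF r c' hc'0 (by rw [hc]; exact dvd_cOf _)
  haveI : Finite ↥(Matrix.symplecticGroup (Fin c') F) := inferInstance
  obtain ⟨x, hx⟩ := exists_prime_orderOf_dvd_card' r hdvd
  have hxr : (x : Matrix (Fin c' ⊕ Fin c') (Fin c' ⊕ Fin c') F) ^ r = 1 := by
    have := pow_orderOf_eq_one x
    rw [hx] at this
    have h2 := congrArg Subtype.val this
    exact h2
  have hx1 : x ≠ 1 := by
    intro h
    rw [h, orderOf_one] at hx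
    exact hr.one_lt.ne hx
  refine ⟨x, hxr, ?_⟩
  set ψ : End F (Fin c' ⊕ Fin c' → F) :=
    Matrix.toLin' (x : Matrix (Fin c' ⊕ Fin c') (Fin c' ⊕ Fin c') F) with hψ
  have hψr : ψ ^ r = 1 := by
    rw [hψ, ← Matrix.toLin'_pow, hxr, Matrix.toLin'_one]; rfl
  have hmod := finrank_fix_mod hF hrp hr2 (stdB_alt c') (sp_iso c' x) hψr ⊤
    (fun _ _ => Submodule.mem_top) (stdB_NDon_top c')
  rw [top_inf_eq, finrank_top, finrank_std, hc, Nat.mod_self] at hmod
  have hle : finrank F (LinearMap.ker (aeval ψ (X - 1 : F[X]))) ≤ cOf (orderOf (q : ZMod r)) := by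
    rw [← hc, ← finrank_std (F := F) c']
    exact Submodule.finrank_le _
  have hdvd2 : cOf (orderOf (q : ZMod r)) ∣ finrank F (LinearMap.ker (aeval ψ (X - 1 : F[X]))) :=
    Nat.dvd_of_mod_eq_zero hmod.symm
  by_contra hne
  have hpos : 0 < finrank F (LinearMap.ker (aeval ψ (X - 1 : F[X]))) := Nat.pos_of_ne_zero hne
  have heq : finrank F (LinearMap.ker (aeval ψ (X - 1 : F[X]))) =
      finrank F (Fin c' ⊕ Fin c' → F) := by
    rw [finrank_std, hc]
    exact le_antisymm hle (Nat.le_of_dvd hpos hdvd2)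
  have htop : LinearMap.ker (aeval ψ (X - 1 : F[X])) = ⊤ := Submodule.eq_top_of_finrank_eq heq
  apply hx1
  apply Subtype.ext
  apply Matrix.toLin'.injective
  apply LinearMap.ext
  intro v
  have hv : v ∈ LinearMap.ker (aeval ψ (X - 1 : F[X])) := by rw [htop]; exact Submodule.mem_top
  rw [mem_fix_iff] at hv
  show ψ v = Matrix.toLin' (1 : Matrix (Fin c' ⊕ Fin c') (Fin c' ⊕ Fin c') F) v
  rw [hv, Matrix.toLin'_one, LinearMap.id_apply]

/-- an element of order dividing `r` of `Sp_{2d}(q)` with `s` atoms -/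
theorem exists_sp_test (hF : Fintype.card F = q) (r : ℕ) [Fact r.Prime] (hrp : r ≠ p)
    (hr2 : r ≠ 2) (c' : ℕ) (hc : 2 * c' = cOf (orderOf (q : ZMod r))) (e : ℕ) :
    ∀ (s d : ℕ), d = s * c' + e → ∃ x : ↥(Matrix.symplecticGroup (Fin d) F),
      (x : Matrix (Fin d ⊕ Fin d) (Fin d ⊕ Fin d) F) ^ r = 1 ∧
      finrank F (LinearMap.ker (aeval (Matrix.toLin'
        (x : Matrix (Fin d ⊕ Fin d) (Fin d ⊕ Fin d) F)) (X - 1 : F[X]))) = 2 * e := by
  intro s
  induction s with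
  | zero =>
    intro d hd
    rw [zero_mul, zero_add] at hd
    subst hd
    refine ⟨1, one_pow r, ?_⟩
    have h1 : aeval (Matrix.toLin' ((1 : ↥(Matrix.symplecticGroup (Fin d) F)) :
        Matrix (Fin d ⊕ Fin d) (Fin d ⊕ Fin d) F)) (X - 1 : F[X]) = 0 := by
      rw [map_sub, aeval_X, map_one]
      show Matrix.toLin' (1 : Matrix (Fin d ⊕ Fin d) (Fin d ⊕ Fin d) F) - 1 = 0
      rw [Matrix.toLin'_one]
      exact sub_self _
    rw [h1, LinearMap.ker_zero, finrank_top, finrank_std]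
  | succ s ih =>
    intro d hd
    obtain ⟨x₁, hx₁, hk₁⟩ := exists_sp_atom hF r hrp hr2 c' hc
    obtain ⟨x₂, hx₂, hk₂⟩ := ih (s * c' + e) rfl
    obtain ⟨x, hx, hk⟩ := exists_sp_sum c' (s * c' + e) x₁ x₂ r hx₁ hx₂
    have hd' : d = c' + (s * c' + e) := by rw [hd]; ring
    subst hd'
    refine ⟨x, hx, ?_⟩
    rw [hk, hk₁, hk₂, zero_add]

end atomelt

end Cfsg.Agent.Lib.H24.Elus
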