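import Mathlib
import Cfsg.Agent.Lib.H24.ElusSpStruct

set_option autoImplicit false

/-!
# Totally isotropic subspaces of an alternating space: basic tools (helper24)

* `TIon B W`: the restriction of `B` to `W` vanishes;
* `ti_sup`: orthogonal sums of totally isotropic subspaces;
* `exists_ti_in_NDon`: a nondegenerate subspace of dimension `≥ 2 e` contains a totally isotropic
  subspace of dimension `e`;
* `exists_common_zero`: Chevalley–Warning for a family of `k` bilinear forms on a space of dimension
  `> 2 k` over a finite field;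
* `vanish_of_half`: if `g(y) u = 0` with `deg g = 2 h` and `B(u, y^j u) = 0` for `j ≤ h`, then `u` is
  orthogonal to its cyclic subspace.
-/

namespace Cfsg.Agent.Lib.H24.Elus

open Polynomial Module

section ti

variable {F : Type*} [Field F] {V : Type*} [AddCommGroup V] [Module F V]

/-- the restriction of `B` to `W` vanishes -/
def TIon (B : LinearMap.BilinForm F V) (W : Submodule F V) : Prop :=
  ∀ u ∈ W, ∀ v ∈ W, B u v = 0

variable (B : LinearMap.BilinForm F V)

theorem TIon_bot : TIon B ⊥ := by
  intro u hu v _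
  rw [(Submodule.mem_bot F).mp hu, map_zero, LinearMap.zero_apply]

theorem TIon_mono {W W' : Submodule F V} (h : W ≤ W') (hW' : TIon B W') : TIon B W :=
  fun u hu v hv => hW' u (h hu) v (h hv)

theorem TIon_span_singleton (halt : ∀ v, B v v = 0) (v : V) : TIon B (Submodule.span F {v}) := by
  intro a ha b hb
  obtain ⟨α, rfl⟩ := Submodule.mem_span_singleton.mp ha
  obtain ⟨β, rfl⟩ := Submodule.mem_span_singleton.mp hb
  rw [map_smul, map_smul, LinearMap.smul_apply, halt, smul_zero, smul_zero]

/-- orthogonal sums of totally isotropic subspaces -/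
theorem ti_sup [FiniteDimensional F V] (halt : ∀ v, B v v = 0) (A A' W₁ W₂ : Submodule F V)
    (hA : NDon B A)
    (horth : ∀ u ∈ A, ∀ v ∈ A', B u v = 0) (h1 : W₁ ≤ A) (h2 : W₂ ≤ A') (ht1 : TIon B W₁)
    (ht2 : TIon B W₂) :
    TIon B (W₁ ⊔ W₂) ∧ finrank F ↥(W₁ ⊔ W₂) = finrank F W₁ + finrank F W₂ := by
  constructor
  · intro u hu v hv
    obtain ⟨a, ha, a', ha', rfl⟩ := Submodule.mem_sup.mp hu
    obtain ⟨b, hb, b', hb', rfl⟩ := Submodule.mem_sup.mp hv
    simp only [map_add, LinearMap.add_apply]
    rw [ht1 a ha b hb, ht2 a' ha' b' hb', horth a (h1 ha) b' (h2 hb'),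
      alt_swap_zero B halt (horth b (h1 hb) a' (h2 ha'))]
    simp
  · have h := Submodule.finrank_sup_add_finrank_inf_eq W₁ W₂
    have h0 : W₁ ⊓ W₂ = ⊥ := by
      rw [eq_bot_iff, ← inf_eq_bot_of_orth B halt A A' hA horth]
      exact inf_le_inf h1 h2
    rw [h0, finrank_bot, add_zero] at h
    exact h

/-- totally isotropic subspaces of a nondegenerate subspace -/
theorem exists_ti_in_NDon [FiniteDimensional F V] (halt : ∀ v, B v v = 0) :
    ∀ (e : ℕ) (U : Submodule F V), NDon B U → 2 * e ≤ finrank F U →
      ∃ W : Submodule F V, W ≤ U ∧ TIon B W ∧ finrank F W = e := by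
  intro e
  induction e with
  | zero =>
    intro U _ _
    exact ⟨⊥, bot_le, TIon_bot B, finrank_bot F V⟩
  | succ e ih =>
    intro U hU he
    have hne : U ≠ ⊥ := by
      rintro rfl
      rw [finrank_bot] at he
      omega
    obtain ⟨P, hPU, hP, hP2⟩ := exists_plane B halt U hU hne
    have hPne : P ≠ ⊥ := by
      rintro rfl
      rw [finrank_bot] at hP2
      omega
    obtain ⟨v, hv, hv0⟩ := (Submodule.ne_bot_iff P).mp hPne
    have h1 := finrank_perp_in B halt U P hP hPU
    obtain ⟨W', hW'U, hW'ti, hW'e⟩ := ih (U ⊓ B.orthogonal P) (NDon_perp_in B halt U P hU hP hPU)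
      (by omega)
    have hL : Submodule.span F {v} ≤ P := by
      rw [Submodule.span_le]
      intro x hx
      rw [Set.mem_singleton_iff] at hx
      rw [hx]
      exact hv
    obtain ⟨hti, hdim⟩ := ti_sup B halt P (U ⊓ B.orthogonal P) (Submodule.span F {v}) W' hP
      (fun u hu w hw => (Submodule.mem_inf.mp hw).2 u hu) hL hW'U
      (TIon_span_singleton B halt v) hW'ti
    refine ⟨Submodule.span F {v} ⊔ W', sup_le (hL.trans hPU) (hW'U.trans inf_le_left), hti, ?_⟩
    rw [hdim, finrank_span_singleton hv0, hW'e]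
    omega

end ti

section cw

variable {F : Type*} [Field F] [Fintype F] {V : Type*} [AddCommGroup V] [Module F V]
  [FiniteDimensional F V]

/-- Chevalley–Warning for a family of bilinear forms (on the whole space) -/
theorem exists_common_zero_top (k : ℕ) (A : Fin k → LinearMap.BilinForm F V)
    (hk : 2 * k < finrank F V) : ∃ u : V, u ≠ 0 ∧ ∀ j, A j u u = 0 := by
  classical
  obtain ⟨p, hp⟩ := CharP.exists F
  have hpp : p.Prime := CharP.char_is_prime F p
  obtain ⟨n, hn⟩ : ∃ n, n = finrank F V := ⟨_, rfl⟩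
  let b : Basis (Fin n) F V := (Module.finBasis F V).reindex (finCongr hn.symm)
  let f : Fin k → MvPolynomial (Fin n) F := fun j =>
    ∑ a, ∑ c, MvPolynomial.C (A j (b a) (b c)) * MvPolynomial.X a * MvPolynomial.X c
  have hdeg : ∀ j, (f j).totalDegree ≤ 2 := by
    intro j
    refine (MvPolynomial.totalDegree_finsetSum _ _).trans (Finset.sup_le ?_)
    intro a _
    refine (MvPolynomial.totalDegree_finsetSum _ _).trans (Finset.sup_le ?_)
    intro c _
    refine (MvPolynomial.totalDegree_mul _ _).trans ?_
    have h1 := MvPolynomial.totalDegree_mul (MvPolynomial.C (A j (b a) (b c)))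
      (MvPolynomial.X a : MvPolynomial (Fin n) F)
    rw [MvPolynomial.totalDegree_C, MvPolynomial.totalDegree_X] at h1
    rw [MvPolynomial.totalDegree_X]
    omega
  have hsum : ∑ j, (f j).totalDegree < Fintype.card (Fin n) := by
    rw [Fintype.card_fin]
    have hk' : 2 * k < n := by rw [hn]; exact hk
    refine lt_of_le_of_lt ?_ hk'
    calc ∑ j, (f j).totalDegree ≤ ∑ _j : Fin k, 2 := Finset.sum_le_sum (fun j _ => hdeg j)
      _ = 2 * k := by simp [mul_comm]
  have heval : ∀ (j : Fin k) (x : Fin n → F),
      MvPolynomial.eval x (f j) = A j (∑ a, x a • b a) (∑ a, x a • b a) := by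
    intro j x
    simp only [f, map_sum, map_mul, MvPolynomial.eval_C, MvPolynomial.eval_X, LinearMap.sum_apply,
      map_smul, LinearMap.smul_apply, smul_eq_mul]
    rw [Finset.sum_comm]
    apply Finset.sum_congr rfl
    intro c _
    rw [Finset.mul_sum]
    apply Finset.sum_congr rfl
    intro a _
    ring
  haveI : CharP F p := hp
  have hdvd := char_dvd_card_solutions_of_fintype_sum_lt p hsum
  have h0 : ∀ j, MvPolynomial.eval (0 : Fin n → F) (f j) = 0 := by
    intro j
    rw [heval]
    simp
  rw [Fintype.card_eq_nat_card] at hdvd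
  have hcard : 1 < Nat.card {x : Fin n → F // ∀ j, MvPolynomial.eval x (f j) = 0} := by
    haveI : Nonempty {x : Fin n → F // ∀ j, MvPolynomial.eval x (f j) = 0} := ⟨⟨0, h0⟩⟩
    have hpos : 0 < Nat.card {x : Fin n → F // ∀ j, MvPolynomial.eval x (f j) = 0} :=
      Nat.card_pos
    have := Nat.le_of_dvd hpos hdvd
    have := hpp.two_le
    omega
  have : Nontrivial {x : Fin n → F // ∀ j, MvPolynomial.eval x (f j) = 0} :=
    Finite.one_lt_card_iff_nontrivial.mp hcard
  obtain ⟨⟨x, hx⟩, hne⟩ :=
    exists_ne (⟨0, h0⟩ : {x : Fin n → F // ∀ j, MvPolynomial.eval x (f j) = 0})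
  refine ⟨∑ a, x a • b a, ?_, fun j => ?_⟩
  · intro h0'
    apply hne
    apply Subtype.ext
    show x = 0
    have : b.equivFun.symm x = b.equivFun.symm 0 := by
      rw [Basis.equivFun_symm_apply, h0', map_zero]
    exact b.equivFun.symm.injective this
  · rw [← heval]
    exact hx j

/-- Chevalley–Warning for a family of bilinear forms on a subspace -/
theorem exists_common_zero (k : ℕ) (A : Fin k → LinearMap.BilinForm F V) (H : Submodule F V)
    (hk : 2 * k < finrank F H) : ∃ u ∈ H, u ≠ 0 ∧ ∀ j, A j u u = 0 := by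
  obtain ⟨u, hu0, hu⟩ := exists_common_zero_top k (fun j => (A j).restrict H) hk
  refine ⟨u.1, u.2, fun h => hu0 (Subtype.ext h), fun j => ?_⟩
  have := hu j
  rw [LinearMap.BilinForm.restrict_apply, LinearMap.domRestrict_apply] at this
  exact this

end cw

section vanish

variable {F : Type*} [Field F] {V : Type*} [AddCommGroup V] [Module F V]
variable {B : LinearMap.BilinForm F V} {y : End F V}

/-- a vector orthogonal to the first half of its orbit is orthogonal to its cyclic subspace -/
theorem vanish_of_half (halt : ∀ v, B v v = 0) (hiso : ∀ u v, B (y u) (y v) = B u v)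
    (g : F[X]) (hg : g.Monic) (h : ℕ) (hdeg : g.natDegree = 2 * h) (u : V)
    (hgu : aeval y g u = 0) (hvan : ∀ j, j ≤ h → B u ((y ^ j) u) = 0) :
    ∀ p : F[X], B u (aeval y p u) = 0 := by
  -- the functional `ψ p = B (y^h u) (p(y) u)`
  have hψX : ∀ n, n < 2 * h → B ((y ^ h) u) ((y ^ n) u) = 0 := by
    intro n hn
    by_cases hnh : h ≤ n
    · obtain ⟨k, rfl⟩ := Nat.exists_eq_add_of_le hnh
      rw [pow_add, Module.End.mul_apply, pow_iso hiso]
      exact hvan k (by omega)
    · push Not at hnh
      obtain ⟨k, rfl⟩ := Nat.exists_eq_add_of_le hnh.le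
      rw [pow_add, Module.End.mul_apply, pow_iso hiso]
      exact alt_swap_zero B halt (hvan k (by omega))
  have hψlow : ∀ p : F[X], p.natDegree < 2 * h → B ((y ^ h) u) (aeval y p u) = 0 := by
    intro p hp
    rw [aeval_eq_sum_range, LinearMap.sum_apply, map_sum]
    apply Finset.sum_eq_zero
    intro n hn
    rw [Finset.mem_range] at hn
    rw [LinearMap.smul_apply, map_smul, hψX n (by omega), smul_zero]
  have hψ : ∀ p : F[X], B ((y ^ h) u) (aeval y p u) = 0 := by
    intro p
    by_cases h1 : g = 1
    · rw [h1, natDegree_one] at hdeg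
      have hh : h = 0 := by omega
      rw [h1, map_one, Module.End.one_apply] at hgu
      rw [hgu, map_zero, map_zero, LinearMap.zero_apply]
    have h2 := modByMonic_add_div p g
    have h3 : aeval y p u = aeval y (p %ₘ g) u := by
      conv_lhs => rw [← h2]
      rw [map_add, LinearMap.add_apply, mul_comm, map_mul, Module.End.mul_apply, hgu, map_zero,
        add_zero]
    rw [h3]
    apply hψlow
    rw [← hdeg]
    exact natDegree_modByMonic_lt p hg h1
  intro p
  rw [← pow_iso hiso h u (aeval y p u)]
  have h4 : (y ^ h) (aeval y p u) = aeval y (X ^ h * p) u := by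
    rw [map_mul, map_pow, aeval_X, Module.End.mul_apply]
  rw [h4]
  exact hψ _

end vanish

end Cfsg.Agent.Lib.H24.Elus
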