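import Mathlib
import Cfsg.Agent.Lib.H24.ElusTiBasic

set_option autoImplicit false

/-!
# Invariant totally isotropic subspaces for semisimple isometries of odd prime order (helper24)

For an isometry `y` of order `r` (an odd prime different from the characteristic) of a
nondegenerate alternating space of dimension `2 d` over the field with `q` elements, with
`i = ord_r q`:
* `NDon_ker_factor`: for `i` even the homogeneous components of invariant nondegenerate subspaces
  are nondegenerate;
* `exists_ti_cyc_odd`, `exists_ti_cyc_even`: invariant totally isotropic subspaces inside the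
  non-fixed part;
* `exists_ti_invariant`: the sufficiency of the arithmetic conditions for the existence of an
  invariant totally isotropic `m`-space.
-/

namespace Cfsg.Agent.Lib.H24.Elus

open Polynomial Module
open Cfsg.Agent.Lib.H13

section factor

variable {F : Type*} [Field F] [Fintype F] {p q : ℕ} [Fact p.Prime] [CharP F p]
  {V : Type*} [AddCommGroup V] [Module F V] [Module.Finite F V]
  {B : LinearMap.BilinForm F V} {y : End F V}

/-- for `ord_r q` even the kernels of the irreducible factors are mutually orthogonal and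
nondegenerate -/
theorem ker_factor_data [DecidableEq F] (hF : Fintype.card F = q) {r : ℕ} [Fact r.Prime]
    (hrp : r ≠ p) (halt : ∀ v, B v v = 0) (hiso : ∀ u v, B (y u) (y v) = B u v) (hy : y ^ r = 1)
    (heven : Even (orderOf (q : ZMod r))) (s : CycFactor.S r F) :
    ∃ g' : F[X], IsCoprime s.1 g' ∧ aeval y (s.1 * g') = 0 ∧
      ∀ a w, aeval y s.1 a = 0 → aeval y g' w = 0 → B a w = 0 := by
  have hr : r.Prime := Fact.out
  have hrF : (r : F) ≠ 0 := CycFactor.natCast_ne_zero hr hrp
  have hi0 : 0 < orderOf (q : ZMod r) := CycFactor.orderOf_pos hF hr hrp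
  obtain ⟨g', hg'⟩ : s.1 ∣ (X ^ r - 1 : F[X]) :=
    (CycFactor.dvd_S s).trans ⟨X - 1, (cyclotomic_prime_mul_X_sub_one F r).symm⟩
  have hcop : IsCoprime s.1 g' := by
    apply Separable.isCoprime
    rw [← hg']
    have := separable_X_pow_sub_C (1 : F) hrF one_ne_zero
    rwa [map_one] at this
  have hprod : aeval y (s.1 * g') = 0 := by
    rw [← hg']; exact aeval_pow_sub_one_of_pow hy
  obtain ⟨Q, hQ⟩ : ∃ Q, Q = Fintype.card F ^ (orderOf (q : ZMod r) / 2) := ⟨_, rfl⟩
  have hQr : r ∣ Q + 1 := by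
    rw [hQ, hF]
    exact dvd_pow_half_add_one q r heven hi0
  have hQ0 : 0 < Q := by rw [hQ]; exact Nat.pow_pos Fintype.card_pos
  have hyQ : ∀ w, y ((y ^ Q) w) = w := by
    intro w
    obtain ⟨k, hk⟩ := hQr
    rw [← Module.End.mul_apply, ← pow_succ', hk, pow_mul, hy, one_pow, Module.End.one_apply]
  have hadj : ∀ a w, B (y a) w = B a ((y ^ Q) w) := by
    intro a w
    conv_lhs => rw [← hyQ w]
    rw [hiso]
  have hself : ∀ a, aeval y s.1 a = 0 → aeval (y ^ Q) s.1 a = 0 := by
    intro a ha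
    rw [hQ, aeval_pow_card_pow, ← hQ]
    obtain ⟨Q', hQ'⟩ : ∃ Q', Q = Q' + 1 := ⟨Q - 1, by omega⟩
    rw [hQ', pow_succ, Module.End.mul_apply, ha, map_zero]
  exact ⟨g', hcop, hprod, fun a w ha hw => ker_orth halt (y ^ Q) hadj s.1 g' hcop hself a w ha hw⟩

theorem NDon_ker_factor [DecidableEq F] (hF : Fintype.card F = q) {r : ℕ} [Fact r.Prime]
    (hrp : r ≠ p) (halt : ∀ v, B v v = 0) (hiso : ∀ u v, B (y u) (y v) = B u v) (hy : y ^ r = 1)
    (heven : Even (orderOf (q : ZMod r))) (s : CycFactor.S r F)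
    (U : Submodule F V) (hU : ∀ v ∈ U, y v ∈ U) (hnd : NDon B U) :
    NDon B (U ⊓ LinearMap.ker (aeval y s.1)) := by
  obtain ⟨g', hcop, hprod, horth⟩ := ker_factor_data hF hrp halt hiso hy heven s
  apply NDon_of_sup_orth B U _ (U ⊓ LinearMap.ker (aeval y g')) hnd inf_le_left
    (split_coprime s.1 g' hcop hprod U hU)
  intro a ha w hw
  exact horth a w (LinearMap.mem_ker.mp (Submodule.mem_inf.mp ha).2)
    (LinearMap.mem_ker.mp (Submodule.mem_inf.mp hw).2)

/-- the cyclic subspace of a vector orthogonal to the first half of its orbit -/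
theorem ti_cycSub [DecidableEq F] (hF : Fintype.card F = q) {r : ℕ} [Fact r.Prime]
    (hrp : r ≠ p) (halt : ∀ v, B v v = 0) (hiso : ∀ u v, B (y u) (y v) = B u v) (hy : y ^ r = 1)
    (s : CycFactor.S r F) (h : ℕ) (hdeg : orderOf (q : ZMod r) = 2 * h) (u : V) (hu0 : u ≠ 0)
    (hsu : aeval y s.1 u = 0) (hvan : ∀ j, j ≤ h → B u ((y ^ j) u) = 0) :
    TIon B (cycSub y u) ∧ finrank F (cycSub y u) = orderOf (q : ZMod r) := by
  have hr : r.Prime := Fact.out
  have hfr := finrank_cycSub hF hrp hy s u hu0 hsu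
  refine ⟨?_, hfr⟩
  have hv := vanish_of_half halt hiso s.1 (CycFactor.monic_S s) h
    (by rw [CycFactor.natDegree_S hF hr hrp s, hdeg]) u hsu hvan
  have hle : cycSub y u ≤ LinearMap.ker (aeval y (cyclotomic r F)) :=
    (cycSub_le_ker y u s.1 hsu).trans (cyc_ker_le s)
  rcases NDon_or_isotropic hF hrp halt hiso hy (cycSub y u) (cycSub_invariant y u) hle hfr with
    h1 | h1
  · exfalso
    apply hu0
    apply h1 u (self_mem_cycSub y u)
    rintro _ ⟨p', rfl⟩
    exact hv p'
  · exact h1

/-- invariant totally isotropic subspaces of the non-fixed part, `ord_r q` odd -/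
theorem exists_ti_cyc_odd (hF : Fintype.card F = q) {r : ℕ} [Fact r.Prime] (hrp : r ≠ p)
    (halt : ∀ v, B v v = 0) (hiso : ∀ u v, B (y u) (y v) = B u v) (hy : y ^ r = 1)
    (hodd : ¬ Even (orderOf (q : ZMod r))) :
    ∀ (a' : ℕ) (U : Submodule F V), U ≤ LinearMap.ker (aeval y (cyclotomic r F)) →
      (∀ v ∈ U, y v ∈ U) → NDon B U → a' * (2 * orderOf (q : ZMod r)) ≤ finrank F U →
      ∃ W : Submodule F V, W ≤ U ∧ (∀ v ∈ W, y v ∈ W) ∧ TIon B W ∧
        finrank F W = a' * orderOf (q : ZMod r) := by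
  classical
  have hr : r.Prime := Fact.out
  have hi0 : 0 < orderOf (q : ZMod r) := CycFactor.orderOf_pos hF hr hrp
  intro a'
  induction a' with
  | zero =>
    intro U _ _ _ _
    refine ⟨⊥, bot_le, ?_, TIon_bot B, by rw [finrank_bot, zero_mul]⟩
    intro v hv
    rw [Submodule.mem_bot] at hv ⊢
    rw [hv, map_zero]
  | succ a' ih =>
    intro U hUc hU hnd hdim
    have hne : U ≠ ⊥ := by
      rintro rfl
      rw [finrank_bot] at hdim
      have : 0 < (a' + 1) * (2 * orderOf (q : ZMod r)) := Nat.mul_pos (Nat.succ_pos _) (by omega)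
      omega
    obtain ⟨A, hAU, hAinv, hAnd, hAdim⟩ := exists_atom_odd hF hrp halt hiso hy hodd U hU hnd hUc hne
    have hAne : A ≠ ⊥ := by
      rintro rfl
      rw [finrank_bot] at hAdim
      omega
    obtain ⟨s, hs⟩ := exists_factor hF hrp hy A hAinv (hAU.trans hUc) hAne
    obtain ⟨u, hu, hu0⟩ := (Submodule.ne_bot_iff _).mp hs
    rw [Submodule.mem_inf, LinearMap.mem_ker] at hu
    have hZA : cycSub y u ≤ A := cycSub_le y u A hAinv hu.1
    have hZi : finrank F (cycSub y u) = orderOf (q : ZMod r) :=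
      finrank_cycSub hF hrp hy s u hu0 hu.2
    have hZti : TIon B (cycSub y u) := by
      rcases NDon_or_isotropic hF hrp halt hiso hy (cycSub y u) (cycSub_invariant y u)
        ((hZA.trans hAU).trans hUc) hZi with h | h
      · exact absurd (hZi ▸ even_finrank_of_NDon halt _ h) hodd
      · exact h
    have h1 := finrank_perp_in B halt U A hAnd hAU
    obtain ⟨W', hW'U, hW'inv, hW'ti, hW'dim⟩ := ih (U ⊓ B.orthogonal A)
      (inf_le_left.trans hUc) (inf_orth_invariant hiso hr.pos hy U A hU hAinv)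
      (NDon_perp_in B halt U A hnd hAnd hAU) (by
        have : (a' + 1) * (2 * orderOf (q : ZMod r)) =
          a' * (2 * orderOf (q : ZMod r)) + 2 * orderOf (q : ZMod r) := by ring
        omega)
    obtain ⟨hti, hdim'⟩ := ti_sup B halt A (U ⊓ B.orthogonal A) (cycSub y u) W' hAnd
      (fun a ha w hw => (Submodule.mem_inf.mp hw).2 a ha) hZA hW'U hZti hW'ti
    refine ⟨cycSub y u ⊔ W', sup_le (hZA.trans hAU) (hW'U.trans inf_le_left),
      sup_invariant _ _ (cycSub_invariant y u) hW'inv, hti, ?_⟩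
    rw [hdim', hZi, hW'dim]
    ring

/-- invariant totally isotropic subspaces of the non-fixed part, `ord_r q` even -/
theorem exists_ti_cyc_even [DecidableEq F] (hF : Fintype.card F = q) {r : ℕ} [Fact r.Prime]
    (hrp : r ≠ p) (hr2 : r ≠ 2)
    (halt : ∀ v, B v v = 0) (hiso : ∀ u v, B (y u) (y v) = B u v) (hy : y ^ r = 1)
    (heven : Even (orderOf (q : ZMod r))) :
    ∀ (a' : ℕ) (U : Submodule F V), U ≤ LinearMap.ker (aeval y (cyclotomic r F)) →
      (∀ v ∈ U, y v ∈ U) → NDon B U →
      orderOf (q : ZMod r) * (2 * a' + Fintype.card (CycFactor.S r F)) ≤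
        finrank F U + orderOf (q : ZMod r) →
      ∃ W : Submodule F V, W ≤ U ∧ (∀ v ∈ W, y v ∈ W) ∧ TIon B W ∧
        finrank F W = a' * orderOf (q : ZMod r) := by
  have hr : r.Prime := Fact.out
  have hrF : (r : F) ≠ 0 := CycFactor.natCast_ne_zero hr hrp
  have hi0 : 0 < orderOf (q : ZMod r) := CycFactor.orderOf_pos hF hr hrp
  obtain ⟨h, hh⟩ := heven
  have hh2 : orderOf (q : ZMod r) = 2 * h := by omega
  have hcOf : cOf (orderOf (q : ZMod r)) = orderOf (q : ZMod r) := by
    unfold cOf
    rw [if_pos ⟨h, hh⟩]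
  intro a'
  induction a' with
  | zero =>
    intro U _ _ _ _
    refine ⟨⊥, bot_le, ?_, TIon_bot B, by rw [finrank_bot, zero_mul]⟩
    intro v hv
    rw [Submodule.mem_bot] at hv ⊢
    rw [hv, map_zero]
  | succ a' ih =>
    intro U hUc hU hnd hdim
    -- pigeonhole: some homogeneous component has dimension at least `2 i`
    have hirr := CycFactor.irreducible_fJ (F := F) (r := r)
    have hcop := CycFactor.coprime_fJ (F := F) hr hrp
    have hφ' : aeval y (∏ j, CycFactor.fJ (F := F) r j) = 0 := by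
      rw [CycFactor.prod_fJ hr hrp]; exact aeval_pow_sub_one_of_pow hy
    obtain ⟨hsum, hdvd⟩ := invariant_mults (CycFactor.fJ (F := F) r) hirr hcop y hφ' U hU
    rw [Fintype.sum_option] at hsum
    have h0 : U ⊓ LinearMap.ker (aeval y (CycFactor.fJ (F := F) r none)) = ⊥ := by
      show U ⊓ LinearMap.ker (aeval y (X - 1 : F[X])) = ⊥
      rw [eq_bot_iff, ← fix_inf_cyc (y := y) (r := r) hrF, inf_comm]
      exact inf_le_inf_left _ hUc
    rw [h0, finrank_bot, zero_add] at hsum
    obtain ⟨s, hs⟩ : ∃ s : CycFactor.S r F,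
        2 * orderOf (q : ZMod r) ≤ finrank F ↥(U ⊓ LinearMap.ker (aeval y s.1)) := by
      by_contra hcon
      push Not at hcon
      have hle : ∀ s : CycFactor.S r F,
          finrank F ↥(U ⊓ LinearMap.ker (aeval y (CycFactor.fJ (F := F) r (some s)))) ≤
            orderOf (q : ZMod r) := by
        intro s
        have h1 := hdvd (some s)
        rw [CycFactor.natDegree_fJ_some hF hr hrp s] at h1
        obtain ⟨k, hk⟩ := h1
        have h2 := hcon s
        change finrank F ↥(U ⊓ LinearMap.ker (aeval y (CycFactor.fJ (F := F) r (some s)))) <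
          2 * orderOf (q : ZMod r) at h2
        rw [hk] at h2 ⊢
        have hk1 : k < 2 := by
          by_contra hk2
          push Not at hk2
          have := Nat.mul_le_mul_left (orderOf (q : ZMod r)) hk2
          omega
        have hk1' : k ≤ 1 := by omega
        calc orderOf (q : ZMod r) * k ≤ orderOf (q : ZMod r) * 1 := Nat.mul_le_mul_left _ hk1'
          _ = orderOf (q : ZMod r) := mul_one _
      have h3 : finrank F U ≤ Fintype.card (CycFactor.S r F) * orderOf (q : ZMod r) := by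
        rw [← hsum]
        calc ∑ s : CycFactor.S r F,
            finrank F ↥(U ⊓ LinearMap.ker (aeval y (CycFactor.fJ (F := F) r (some s))))
            ≤ ∑ _s : CycFactor.S r F, orderOf (q : ZMod r) :=
              Finset.sum_le_sum (fun s _ => hle s)
          _ = Fintype.card (CycFactor.S r F) * orderOf (q : ZMod r) := by
            rw [Finset.sum_const, Finset.card_univ, smul_eq_mul]
      have h4 : orderOf (q : ZMod r) * (2 * (a' + 1) + Fintype.card (CycFactor.S r F)) =
          Fintype.card (CycFactor.S r F) * orderOf (q : ZMod r) + 2 * orderOf (q : ZMod r) +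
            2 * a' * orderOf (q : ZMod r) := by ring
      omega
    obtain ⟨Us, hUs⟩ : ∃ Us, Us = U ⊓ LinearMap.ker (aeval y s.1) := ⟨_, rfl⟩
    rw [← hUs] at hs
    have hUsnd : NDon B Us := by
      rw [hUs]
      exact NDon_ker_factor hF hrp halt hiso hy ⟨h, hh⟩ s U hU hnd
    have hUsinv : ∀ v ∈ Us, y v ∈ Us := by
      rw [hUs]
      exact inf_ker_invariant U hU s.1
    have hUsU : Us ≤ U := by
      rw [hUs]
      exact inf_le_left
    obtain ⟨H, hHUs, ⟨hHc, hHinv, hHnd⟩, hHdim⟩ := peel_exists halt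
      (peelClass_cyc hF hrp hr2 halt hiso hy) 2 Us ⟨hUsU.trans hUc, hUsinv, hUsnd⟩
      (by rw [hcOf]; exact hs)
    rw [hcOf] at hHdim
    have hHU : H ≤ U := hHUs.trans hUsU
    -- Chevalley–Warning
    obtain ⟨u, huH, hu0, hu⟩ := exists_common_zero h
      (fun j => B.compl₂ (y ^ (j.val + 1))) H (by omega)
    have hsu : aeval y s.1 u = 0 := by
      have := hHUs huH
      rw [hUs] at this
      exact LinearMap.mem_ker.mp (Submodule.mem_inf.mp this).2
    have hvan : ∀ j, j ≤ h → B u ((y ^ j) u) = 0 := by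
      intro j hj
      rcases Nat.eq_zero_or_pos j with rfl | hj0
      · rw [pow_zero, Module.End.one_apply]
        exact halt u
      · obtain ⟨j', rfl⟩ : ∃ j', j = j' + 1 := ⟨j - 1, by omega⟩
        have := hu ⟨j', by omega⟩
        rw [LinearMap.compl₂_apply] at this
        exact this
    obtain ⟨hZti, hZi⟩ := ti_cycSub hF hrp halt hiso hy s h hh2 u hu0 hsu hvan
    have hZH : cycSub y u ≤ H := cycSub_le y u H hHinv huH
    have h1 := finrank_perp_in B halt U H hHnd hHU
    obtain ⟨W', hW'U, hW'inv, hW'ti, hW'dim⟩ := ih (U ⊓ B.orthogonal H)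
      (inf_le_left.trans hUc) (inf_orth_invariant hiso hr.pos hy U H hU hHinv)
      (NDon_perp_in B halt U H hnd hHnd hHU) (by
        have h4 : orderOf (q : ZMod r) * (2 * (a' + 1) + Fintype.card (CycFactor.S r F)) =
          orderOf (q : ZMod r) * (2 * a' + Fintype.card (CycFactor.S r F)) +
            2 * orderOf (q : ZMod r) := by ring
        omega)
    obtain ⟨hti, hdim'⟩ := ti_sup B halt H (U ⊓ B.orthogonal H) (cycSub y u) W' hHnd
      (fun a ha w hw => (Submodule.mem_inf.mp hw).2 a ha) hZH hW'U hZti hW'ti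
    refine ⟨cycSub y u ⊔ W', sup_le (hZH.trans hHU) (hW'U.trans inf_le_left),
      sup_invariant _ _ (cycSub_invariant y u) hW'inv, hti, ?_⟩
    rw [hdim', hZi, hW'dim]
    ring

/-- sufficiency: an invariant totally isotropic `m`-space -/
theorem exists_ti_invariant (hF : Fintype.card F = q) {r : ℕ} [Fact r.Prime] (hrp : r ≠ p)
    (hr2 : r ≠ 2) (halt : ∀ v, B v v = 0) (hiso : ∀ u v, B (y u) (y v) = B u v)
    (hy : y ^ r = 1) (hndV : NDon B ⊤) (d m : ℕ) (hV : finrank F V = 2 * d) (hmd : m ≤ d)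
    (i : ℕ) (hi : i = orderOf (q : ZMod r))
    (h2 : 2 * (m % i) ≤ (2 * d) % cOf i)
    (h3 : Odd i ∨ (r - 1) / i + 2 * (m / i) ≤ (2 * d) / i) :
    ∃ W : Submodule F V, finrank F W = m ∧ TIon B W ∧ ∀ v ∈ W, y v ∈ W := by
  classical
  have hr : r.Prime := Fact.out
  have hrF : (r : F) ≠ 0 := CycFactor.natCast_ne_zero hr hrp
  have hi0 : 0 < i := by rw [hi]; exact CycFactor.orderOf_pos hF hr hrp
  obtain ⟨Fx, hFx⟩ : ∃ Fx, Fx = LinearMap.ker (aeval y (X - 1 : F[X])) := ⟨_, rfl⟩
  obtain ⟨Cy, hCy⟩ : ∃ Cy, Cy = LinearMap.ker (aeval y (cyclotomic r F)) := ⟨_, rfl⟩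
  have htopinv : ∀ v ∈ (⊤ : Submodule F V), y v ∈ (⊤ : Submodule F V) := fun _ _ =>
    Submodule.mem_top
  have hsplit := finrank_split_fix hrF hy ⊤ htopinv
  rw [top_inf_eq, top_inf_eq, finrank_top, hV, ← hFx, ← hCy] at hsplit
  have hFxnd : NDon B Fx := by
    have := NDon_fix_part halt hiso hrF hy ⊤ htopinv hndV
    rwa [top_inf_eq, ← hFx] at this
  have hCynd : NDon B Cy := by
    have := NDon_cyc_part halt hiso hrF hy ⊤ htopinv hndV
    rwa [top_inf_eq, ← hCy] at this
  have hCyinv : ∀ v ∈ Cy, y v ∈ Cy := by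
    rw [hCy]
    exact fun v hv => SSClass.ker_aeval_invariant y _ v hv
  have hcdvd := cdvd_finrank_cyc_part hF hrp hr2 halt hiso hy ⊤ htopinv hndV
  rw [top_inf_eq, ← hCy, ← hi] at hcdvd
  obtain ⟨e, he⟩ := even_finrank_of_NDon halt Fx hFxnd
  have hfix_orth : ∀ u ∈ Fx, ∀ w ∈ Cy, B u w = 0 := by
    rw [hFx, hCy]
    exact fun u hu w hw => fix_orth_cyc halt hiso hrF hy u w hu hw
  have hCyle : Cy ≤ LinearMap.ker (aeval y (cyclotomic r F)) := by rw [hCy]
  suffices hkey : ∃ a' e', a' * i + e' = m ∧ e' ≤ e ∧ ∃ Wc : Submodule F V, Wc ≤ Cy ∧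
      (∀ v ∈ Wc, y v ∈ Wc) ∧ TIon B Wc ∧ finrank F Wc = a' * i by
    obtain ⟨a', e', hsum, hee, Wc, hWcC, hWcinv, hWcti, hWcdim⟩ := hkey
    obtain ⟨Wf, hWfF, hWfti, hWfdim⟩ := exists_ti_in_NDon B halt e' Fx hFxnd (by omega)
    obtain ⟨hti, hdim⟩ := ti_sup B halt Fx Cy Wf Wc hFxnd hfix_orth hWfF hWcC hWfti hWcti
    refine ⟨Wf ⊔ Wc, by rw [hdim, hWfdim, hWcdim]; omega, hti, sup_invariant _ _ ?_ hWcinv⟩
    intro v hv
    have hv' := hWfF hv
    rw [hFx] at hv'
    rw [(mem_fix_iff v).mp hv']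
    exact hv
  have hm := Nat.div_add_mod m i
  have hn := Nat.div_add_mod (2 * d) i
  have hbot : ∃ Wc : Submodule F V, Wc ≤ Cy ∧ (∀ v ∈ Wc, y v ∈ Wc) ∧ TIon B Wc ∧
      finrank F Wc = 0 * i := by
    refine ⟨⊥, bot_le, ?_, TIon_bot B, by rw [finrank_bot, zero_mul]⟩
    intro v hv
    rw [Submodule.mem_bot] at hv ⊢
    rw [hv, map_zero]
  by_cases heven : Even i
  · have hcOf : cOf i = i := by
      unfold cOf
      rw [if_pos heven]
    rw [hcOf] at h2 hcdvd
    obtain ⟨a, ha⟩ := hcdvd
    have h3' : (r - 1) / i + 2 * (m / i) ≤ 2 * d / i := by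
      rcases h3 with h | h
      · exact absurd heven (Nat.not_even_iff_odd.mpr h)
      · exact h
    have hcard := CycFactor.card_S (F := F) hF hr hrp
    rw [← hi] at hcard
    obtain ⟨t, ht⟩ : ∃ t, t = Fintype.card (CycFactor.S r F) := ⟨_, rfl⟩
    rw [← ht] at hcard
    have ht' : (r - 1) / i = t := by
      rw [← hcard]
      exact Nat.mul_div_cancel _ hi0
    rw [ht'] at h3'
    obtain ⟨amax, hamax⟩ : ∃ amax, amax = (a + 1 - t) / 2 := ⟨_, rfl⟩
    obtain ⟨a', ha'⟩ : ∃ a', a' = min (m / i) amax := ⟨_, rfl⟩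
    have ha'm : a' ≤ m / i := by rw [ha']; exact min_le_left _ _
    have ha'a : a' ≤ amax := by rw [ha']; exact min_le_right _ _
    have hia' : i * a' ≤ i * (m / i) := Nat.mul_le_mul_left _ ha'm
    have hk : (2 * d) % i ≤ 2 * e := by
      have h5 : 2 * d = e + e + i * a := by omega
      rw [h5, Nat.add_mul_mod_self_left]
      exact (Nat.mod_le _ _).trans (by omega)
    refine ⟨a', m - i * a', ?_, ?_, ?_⟩
    · rw [mul_comm]
      omega
    · rcases le_total (m / i) amax with hle | hle
      · have h5 : a' = m / i := by rw [ha', min_eq_left hle]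
        rw [h5]
        omega
      · have h5 : a' = amax := by rw [ha', min_eq_right hle]
        have h6 : a ≤ 2 * amax + t := by omega
        have h7 : i * a ≤ 2 * (i * amax) + i * t := by
          calc i * a ≤ i * (2 * amax + t) := Nat.mul_le_mul_left _ h6
            _ = 2 * (i * amax) + i * t := by ring
        have h8 : i * t + 2 * (i * (m / i)) ≤ i * (2 * d / i) := by
          calc i * t + 2 * (i * (m / i)) = i * (t + 2 * (m / i)) := by ring
            _ ≤ i * (2 * d / i) := Nat.mul_le_mul_left _ h3'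
        have h9 : i * amax ≤ i * (m / i) := Nat.mul_le_mul_left _ hle
        rw [h5]
        omega
    · rcases Nat.eq_zero_or_pos a' with h0 | hpos
      · rw [h0]
        exact hbot
      · have h5 : 2 * a' + t ≤ a + 1 := by omega
        have h6 : i * (2 * a' + t) ≤ i * a + i := by
          calc i * (2 * a' + t) ≤ i * (a + 1) := Nat.mul_le_mul_left _ h5
            _ = i * a + i := by ring
        have := exists_ti_cyc_even hF hrp hr2 halt hiso hy (hi ▸ heven) a' Cy hCyle hCyinv hCynd
          (by rw [← hi, ← ht, ha]; exact h6)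
        rw [← hi] at this
        exact this
  · have hcOf : cOf i = 2 * i := by
      unfold cOf
      rw [if_neg heven]
    rw [hcOf] at h2 hcdvd
    obtain ⟨a, ha⟩ := hcdvd
    obtain ⟨a', ha'⟩ : ∃ a', a' = min (m / i) a := ⟨_, rfl⟩
    have ha'm : a' ≤ m / i := by rw [ha']; exact min_le_left _ _
    have ha'a : a' ≤ a := by rw [ha']; exact min_le_right _ _
    have hia' : i * a' ≤ i * (m / i) := Nat.mul_le_mul_left _ ha'm
    have hk : (2 * d) % (2 * i) ≤ 2 * e := by
      have h5 : 2 * d = e + e + 2 * i * a := by omega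
      rw [h5, Nat.add_mul_mod_self_left]
      exact (Nat.mod_le _ _).trans (by omega)
    refine ⟨a', m - i * a', ?_, ?_, ?_⟩
    · rw [mul_comm]
      omega
    · rcases le_total (m / i) a with hle | hle
      · have h5 : a' = m / i := by rw [ha', min_eq_left hle]
        rw [h5]
        omega
      · have h5 : a' = a := by rw [ha', min_eq_right hle]
        have h6 : 2 * i * a = 2 * (i * a) := by ring
        rw [h5]
        omega
    · have h6 : a' * (2 * i) ≤ 2 * i * a := by
        calc a' * (2 * i) ≤ a * (2 * i) := Nat.mul_le_mul_right _ ha'a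
          _ = 2 * i * a := by ring
      have := exists_ti_cyc_odd hF hrp halt hiso hy (hi ▸ heven) a' Cy hCyle hCyinv hCynd
        (by rw [← hi, ha]; exact h6)
      rw [← hi] at this
      exact this

end factor

end Cfsg.Agent.Lib.H24.Elus
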