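import Mathlib
import Cfsg.Agent.Lib.H24.ElusTiSuff
import Cfsg.Agent.Lib.H24.ElusSpTest

set_option autoImplicit false

/-!
# Symplectic elements of odd prime order with prescribed irreducible constituents (helper24)

For `i = ord_r q` even and every irreducible factor `s` of the `r`-th cyclotomic polynomial over
the field with `q` elements there is an element of order `r` of `Sp_i(q)` annihilated by `s`
(`exists_sp_atom_type`); orthogonal sums of such elements for distinct factors, together with an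
identity block, give `exists_sp_types`.
-/

namespace Cfsg.Agent.Lib.H24.Elus

open Polynomial Module
open Cfsg.Agent.Lib.H13

section hyp

variable {F : Type*} [Field F] {M : Type*} [AddCommGroup M] [Module F M]

/-- the hyperbolic form on `M × M*` -/
noncomputable def hypB : LinearMap.BilinForm F (M × Module.Dual F M) :=
  LinearMap.mk₂ F (fun u v => v.2 u.1 - u.2 v.1)
    (fun u u' v => by
      simp only [Prod.fst_add, Prod.snd_add, map_add, LinearMap.add_apply]
      ring)
    (fun c u v => by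
      simp only [Prod.smul_fst, Prod.smul_snd, map_smul, LinearMap.smul_apply, smul_eq_mul]
      ring)
    (fun u v v' => by
      simp only [Prod.fst_add, Prod.snd_add, map_add, LinearMap.add_apply]
      ring)
    (fun c u v => by
      simp only [Prod.smul_fst, Prod.smul_snd, map_smul, LinearMap.smul_apply, smul_eq_mul]
      ring)

theorem hypB_apply (u v : M × Module.Dual F M) :
    hypB (F := F) (M := M) u v = v.2 u.1 - u.2 v.1 := rfl

theorem hypB_alt (v : M × Module.Dual F M) : hypB (F := F) (M := M) v v = 0 := by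
  rw [hypB_apply, sub_self]

theorem hypB_nd [FiniteDimensional F M] (v : M × Module.Dual F M)
    (h : ∀ w, hypB (F := F) (M := M) v w = 0) : v = 0 := by
  have h1 : v.1 = 0 := by
    rw [← Module.forall_dual_apply_eq_zero_iff F]
    intro φ
    have := h (0, φ)
    rw [hypB_apply] at this
    simpa using this
  have h2 : v.2 = 0 := by
    apply LinearMap.ext
    intro b
    have := h (b, 0)
    rw [hypB_apply] at this
    simpa using this
  exact Prod.ext h1 h2

/-- the map induced on `M × M*` by `y` and its inverse `y'` -/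
noncomputable def hypMap (y y' : End F M) : End F (M × Module.Dual F M) :=
  y.prodMap (Module.Dual.transpose (R := F) y')

theorem hypMap_apply (y y' : End F M) (v : M × Module.Dual F M) :
    hypMap y y' v = (y v.1, v.2 ∘ₗ y') := rfl

theorem hypMap_iso (y y' : End F M) (h : ∀ v, y' (y v) = v) (u v : M × Module.Dual F M) :
    hypB (F := F) (M := M) (hypMap y y' u) (hypMap y y' v) = hypB u v := by
  rw [hypB_apply, hypB_apply, hypMap_apply, hypMap_apply]
  simp only [LinearMap.comp_apply, h]

theorem transpose_pow (u : End F M) (n : ℕ) :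
    (Module.Dual.transpose (R := F) u : End F (Module.Dual F M)) ^ n =
      Module.Dual.transpose (R := F) (u ^ n) := by
  induction n with
  | zero =>
    apply LinearMap.ext
    intro φ
    rw [pow_zero, pow_zero, Module.Dual.transpose_apply]
    rfl
  | succ n ih =>
    apply LinearMap.ext
    intro φ
    rw [pow_succ, Module.End.mul_apply, ih, Module.Dual.transpose_apply,
      Module.Dual.transpose_apply, Module.Dual.transpose_apply, pow_succ']
    rfl

theorem hypMap_pow (y y' : End F M) (n : ℕ) : (hypMap y y') ^ n = hypMap (y ^ n) (y' ^ n) := by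
  apply LinearMap.ext
  intro v
  have h1 := aeval_prodMap_apply y (Module.Dual.transpose (R := F) y') (X ^ n) v
  rw [map_pow, map_pow, map_pow, aeval_X, aeval_X, aeval_X] at h1
  show ((y.prodMap (Module.Dual.transpose (R := F) y')) ^ n) v = _
  rw [h1, transpose_pow]
  rfl

end hyp

section atomtype

variable {F : Type*} [Field F] [Fintype F] {p q : ℕ} [Fact p.Prime] [CharP F p]

/-- an abstract symplectic space of dimension `ord_r q` with an isometry of order `r` killed by a
given irreducible factor -/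
theorem exists_atom_type [DecidableEq F] (hF : Fintype.card F = q) (r : ℕ) [Fact r.Prime]
    (hrp : r ≠ p) (hr2 : r ≠ 2) (c' : ℕ) (hc : 2 * c' = orderOf (q : ZMod r))
    (s : CycFactor.S r F) :
    ∃ (x : ↥(Matrix.symplecticGroup (Fin c') F)),
      (x : Matrix (Fin c' ⊕ Fin c') (Fin c' ⊕ Fin c') F) ^ r = 1 ∧
      finrank F (LinearMap.ker (aeval (Matrix.toLin'
        (x : Matrix (Fin c' ⊕ Fin c') (Fin c' ⊕ Fin c') F)) s.1)) = 2 * c' := by
  have hr : r.Prime := Fact.out
  have heven : Even (orderOf (q : ZMod r)) := ⟨c', by omega⟩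
  have hi0 : 0 < orderOf (q : ZMod r) := CycFactor.orderOf_pos hF hr hrp
  have hs0 : s.1 ≠ 0 := (CycFactor.irreducible_S s).ne_zero
  -- the module `F[X]/(s)`
  let pb := AdjoinRoot.powerBasis hs0
  haveI : Module.Finite F (AdjoinRoot s.1) := pb.finite
  have hMdim : finrank F (AdjoinRoot s.1) = orderOf (q : ZMod r) := by
    rw [pb.finrank, AdjoinRoot.powerBasis_dim, CycFactor.natDegree_S hF hr hrp s]
  obtain ⟨y, hy⟩ : ∃ y : End F (AdjoinRoot s.1),
      y = Algebra.lmul F (AdjoinRoot s.1) (AdjoinRoot.root s.1) := ⟨_, rfl⟩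
  have haev : ∀ g : F[X], aeval y g = Algebra.lmul F (AdjoinRoot s.1) (AdjoinRoot.mk s.1 g) := by
    intro g
    rw [hy, aeval_algHom_apply, AdjoinRoot.aeval_eq]
  have hys : aeval y s.1 = 0 := by
    rw [haev, AdjoinRoot.mk_self, map_zero]
  have hyr : y ^ r = 1 := by
    have h1 : aeval y (X ^ r - 1 : F[X]) = 0 := by
      rw [haev, AdjoinRoot.mk_eq_zero.mpr
        ((CycFactor.dvd_S s).trans ⟨X - 1, (cyclotomic_prime_mul_X_sub_one F r).symm⟩), map_zero]
    rw [map_sub, map_pow, aeval_X, map_one, sub_eq_zero] at h1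
    exact h1
  -- the hyperbolic double
  obtain ⟨z, hz⟩ : ∃ z : End F (AdjoinRoot s.1 × Module.Dual F (AdjoinRoot s.1)),
      z = hypMap y (y ^ (r - 1)) := ⟨_, rfl⟩
  have hziso : ∀ u v, hypB (F := F) (M := AdjoinRoot s.1) (z u) (z v) = hypB u v := by
    rw [hz]
    exact hypMap_iso y (y ^ (r - 1)) (mul_pow_pred hr.pos hyr)
  have hzr : z ^ r = 1 := by
    rw [hz, hypMap_pow, hyr, ← pow_mul, mul_comm, pow_mul, hyr, one_pow]
    apply LinearMap.ext
    intro v
    rw [hypMap_apply]
    rfl
  have hVdim : finrank F (AdjoinRoot s.1 × Module.Dual F (AdjoinRoot s.1)) =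
      2 * orderOf (q : ZMod r) := by
    rw [Module.finrank_prod, Subspace.dual_finrank_eq, hMdim]
    ring
  have hndV : NDon (hypB (F := F) (M := AdjoinRoot s.1)) ⊤ :=
    fun u _ h => hypB_nd u (fun w => h w Submodule.mem_top)
  -- the homogeneous component
  obtain ⟨U, hU⟩ : ∃ U, U = LinearMap.ker (aeval z s.1) := ⟨_, rfl⟩
  have hUnd : NDon (hypB (F := F) (M := AdjoinRoot s.1)) U := by
    have := NDon_ker_factor hF hrp hypB_alt hziso hzr heven s ⊤ (fun _ _ => Submodule.mem_top) hndV
    rwa [top_inf_eq, ← hU] at this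
  have hUinv : ∀ v ∈ U, z v ∈ U := by
    rw [hU]
    exact fun v hv => SSClass.ker_aeval_invariant z _ v hv
  have hUc : U ≤ LinearMap.ker (aeval z (cyclotomic r F)) := by
    rw [hU]
    exact cyc_ker_le s
  have hUne : U ≠ ⊥ := by
    obtain ⟨a, ha⟩ : ∃ a : AdjoinRoot s.1, a ≠ 0 := by
      haveI : Nontrivial (AdjoinRoot s.1) := Module.finrank_pos_iff.mp (by rw [hMdim]; exact hi0)
      exact exists_ne 0
    rw [Submodule.ne_bot_iff]
    refine ⟨(a, 0), ?_, ?_⟩
    · rw [hU, LinearMap.mem_ker, hz]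
      show aeval (y.prodMap (Module.Dual.transpose (R := F) (y ^ (r - 1)))) s.1 (a, 0) = 0
      rw [aeval_prodMap_apply, hys]
      simp
    · intro h
      exact ha (congrArg Prod.fst h)
  obtain ⟨A, hAU, hAinv, hAnd, hAdim⟩ := exists_atom_even hF hrp hr2 hypB_alt hziso hzr heven U
    hUinv hUnd hUc hUne
  -- transfer to matrices
  have hdimA : finrank F ↥A = 2 * c' := by
    rw [hAdim]
    omega
  have hx'r : (z.restrict hAinv : End F ↥A) ^ r = 1 := by
    apply LinearMap.ext
    intro w
    apply Subtype.ext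
    have h1 := aeval_restrict_apply z A hAinv (X ^ r) w
    rw [map_pow, map_pow, aeval_X, aeval_X, hzr] at h1
    exact h1
  obtain ⟨B', hB'⟩ : ∃ B' : LinearMap.BilinForm F ↥A,
      B' = (hypB (F := F) (M := AdjoinRoot s.1)).restrict A := ⟨_, rfl⟩
  have hB'app : ∀ u v : ↥A, B' u v = hypB (F := F) (M := AdjoinRoot s.1) u.1 v.1 := by
    intro u v
    rw [hB']
    rfl
  have halt' : ∀ v : ↥A, B' v v = 0 := fun v => by
    rw [hB'app]
    exact hypB_alt _
  have hnd' : ∀ v : ↥A, (∀ w : ↥A, B' v w = 0) → v = 0 := by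
    intro v hv
    apply Subtype.ext
    apply hAnd v.1 v.2
    intro w hw
    have := hv ⟨w, hw⟩
    rw [hB'app] at this
    exact this
  have hiso' : ∀ u v : ↥A, B' ((z.restrict hAinv) u) ((z.restrict hAinv) v) = B' u v := by
    intro u v
    rw [hB'app, hB'app]
    exact hziso _ _
  haveI : FiniteDimensional F ↥A := inferInstance
  have hmain := exists_sp_of_isometry (V' := ↥A) B' halt' hnd' c' hdimA
    (z.restrict hAinv : End F ↥A) hiso' r
  obtain ⟨x, hxr, hxk⟩ := hmain hx'r
  refine ⟨x, hxr, ?_⟩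
  rw [hxk s.1, finrank_ker_restrict z A hAinv s.1, ← hU, inf_eq_left.mpr hAU, hAdim, hc]

/-- if one of the factors of `X ^ r - 1` kills `ψ`, the kernels of the others vanish -/
theorem ker_fJ_eq_bot_of_top [DecidableEq F] {V : Type*} [AddCommGroup V] [Module F V] {r : ℕ}
    (hr : r.Prime) (hrp : r ≠ p) (ψ : End F V) (j₀ j : Option (CycFactor.S r F)) (hj : j ≠ j₀)
    (htop : LinearMap.ker (aeval ψ (CycFactor.fJ (F := F) r j₀)) = ⊤) :
    LinearMap.ker (aeval ψ (CycFactor.fJ (F := F) r j)) = ⊥ := by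
  have h := (disjoint_ker_aeval_of_isCoprime ψ (CycFactor.coprime_fJ (F := F) hr hrp j j₀ hj)).eq_bot
  rwa [htop, inf_top_eq] at h

/-- the kernel dimensions of an atom of given type -/
theorem exists_sp_atom_type [DecidableEq F] (hF : Fintype.card F = q) (r : ℕ) [Fact r.Prime]
    (hrp : r ≠ p) (hr2 : r ≠ 2) (c' : ℕ) (hc : 2 * c' = orderOf (q : ZMod r))
    (s₀ : CycFactor.S r F) :
    ∃ (x : ↥(Matrix.symplecticGroup (Fin c') F)),
      (x : Matrix (Fin c' ⊕ Fin c') (Fin c' ⊕ Fin c') F) ^ r = 1 ∧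
      (∀ s : CycFactor.S r F, finrank F (LinearMap.ker (aeval (Matrix.toLin'
        (x : Matrix (Fin c' ⊕ Fin c') (Fin c' ⊕ Fin c') F)) s.1)) =
          if s = s₀ then 2 * c' else 0) ∧
      finrank F (LinearMap.ker (aeval (Matrix.toLin'
        (x : Matrix (Fin c' ⊕ Fin c') (Fin c' ⊕ Fin c') F)) (X - 1 : F[X]))) = 0 := by
  have hr : r.Prime := Fact.out
  obtain ⟨x, hxr, hxk⟩ := exists_atom_type hF r hrp hr2 c' hc s₀
  refine ⟨x, hxr, ?_, ?_⟩
  · intro s
    by_cases hs : s = s₀
    · rw [if_pos hs, hs]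
      exact hxk
    · rw [if_neg hs]
      have htop : LinearMap.ker (aeval (Matrix.toLin'
          (x : Matrix (Fin c' ⊕ Fin c') (Fin c' ⊕ Fin c') F))
            (CycFactor.fJ (F := F) r (some s₀))) = ⊤ := by
        apply Submodule.eq_top_of_finrank_eq
        rw [finrank_std]
        exact hxk
      have := ker_fJ_eq_bot_of_top hr hrp _ (some s₀) (some s) (fun h => hs (Option.some.inj h)) htop
      change LinearMap.ker (aeval (Matrix.toLin'
          (x : Matrix (Fin c' ⊕ Fin c') (Fin c' ⊕ Fin c') F)) s.1) = ⊥ at this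
      rw [this, finrank_bot]
  · have htop : LinearMap.ker (aeval (Matrix.toLin'
        (x : Matrix (Fin c' ⊕ Fin c') (Fin c' ⊕ Fin c') F))
          (CycFactor.fJ (F := F) r (some s₀))) = ⊤ := by
      apply Submodule.eq_top_of_finrank_eq
      rw [finrank_std]
      exact hxk
    have := ker_fJ_eq_bot_of_top hr hrp _ (some s₀) none (by simp) htop
    change LinearMap.ker (aeval (Matrix.toLin'
        (x : Matrix (Fin c' ⊕ Fin c') (Fin c' ⊕ Fin c') F)) (X - 1 : F[X])) = ⊥ at this
    rw [this, finrank_bot]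

/-- orthogonal sums of atoms of distinct types and an identity block -/
theorem exists_sp_types [DecidableEq F] (hF : Fintype.card F = q) (r : ℕ) [Fact r.Prime]
    (hrp : r ≠ p) (hr2 : r ≠ 2) (c' : ℕ) (hc : 2 * c' = orderOf (q : ZMod r)) (e : ℕ)
    (T : Finset (CycFactor.S r F)) :
    ∀ d, d = T.card * c' + e → ∃ x : ↥(Matrix.symplecticGroup (Fin d) F),
      (x : Matrix (Fin d ⊕ Fin d) (Fin d ⊕ Fin d) F) ^ r = 1 ∧
      (∀ s : CycFactor.S r F, finrank F (LinearMap.ker (aeval (Matrix.toLin'
        (x : Matrix (Fin d ⊕ Fin d) (Fin d ⊕ Fin d) F)) s.1)) = if s ∈ T then 2 * c' else 0) ∧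
      finrank F (LinearMap.ker (aeval (Matrix.toLin'
        (x : Matrix (Fin d ⊕ Fin d) (Fin d ⊕ Fin d) F)) (X - 1 : F[X]))) = 2 * e := by
  have hr : r.Prime := Fact.out
  induction T using Finset.induction_on with
  | empty =>
    intro d hd
    rw [Finset.card_empty, zero_mul, zero_add] at hd
    subst hd
    have h1 : aeval (Matrix.toLin' ((1 : ↥(Matrix.symplecticGroup (Fin d) F)) :
        Matrix (Fin d ⊕ Fin d) (Fin d ⊕ Fin d) F)) (X - 1 : F[X]) = 0 := by
      rw [map_sub, aeval_X, map_one]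
      show Matrix.toLin' (1 : Matrix (Fin d ⊕ Fin d) (Fin d ⊕ Fin d) F) - 1 = 0
      rw [Matrix.toLin'_one]
      exact sub_self _
    refine ⟨1, one_pow r, ?_, ?_⟩
    · intro s
      rw [if_neg (Finset.notMem_empty s)]
      have htop : LinearMap.ker (aeval (Matrix.toLin'
          ((1 : ↥(Matrix.symplecticGroup (Fin d) F)) :
            Matrix (Fin d ⊕ Fin d) (Fin d ⊕ Fin d) F))
            (CycFactor.fJ (F := F) r none)) = ⊤ := by
        show LinearMap.ker (aeval (Matrix.toLin' ((1 : ↥(Matrix.symplecticGroup (Fin d) F)) :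
          Matrix (Fin d ⊕ Fin d) (Fin d ⊕ Fin d) F)) (X - 1 : F[X])) = ⊤
        rw [h1, LinearMap.ker_zero]
      have := ker_fJ_eq_bot_of_top hr hrp _ none (some s) (by simp) htop
      change LinearMap.ker (aeval (Matrix.toLin' ((1 : ↥(Matrix.symplecticGroup (Fin d) F)) :
          Matrix (Fin d ⊕ Fin d) (Fin d ⊕ Fin d) F)) s.1) = ⊥ at this
      rw [this, finrank_bot]
    · rw [h1, LinearMap.ker_zero, finrank_top, finrank_std]
  | insert s₀ T' hs₀ ih =>
    intro d hd
    obtain ⟨x₁, hx₁, hk₁, hf₁⟩ := exists_sp_atom_type hF r hrp hr2 c' hc s₀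
    obtain ⟨x₂, hx₂, hk₂, hf₂⟩ := ih (T'.card * c' + e) rfl
    obtain ⟨x, hx, hk⟩ := exists_sp_sum c' (T'.card * c' + e) x₁ x₂ r hx₁ hx₂
    have hd' : d = c' + (T'.card * c' + e) := by
      rw [hd, Finset.card_insert_of_notMem hs₀]
      ring
    subst hd'
    refine ⟨x, hx, ?_, ?_⟩
    · intro s
      rw [hk, hk₁, hk₂]
      by_cases hs : s = s₀
      · rw [if_pos hs, hs, if_neg hs₀, if_pos (Finset.mem_insert_self s₀ T'), add_zero]
      · rw [if_neg hs, zero_add]
        by_cases hsT : s ∈ T'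
        · rw [if_pos hsT, if_pos (Finset.mem_insert_of_mem hsT)]
        · rw [if_neg hsT, if_neg]
          intro h
          rcases Finset.mem_insert.mp h with h | h
          · exact hs h
          · exact hsT h
    · rw [hk, hf₁, hf₂, zero_add]

end atomtype

end Cfsg.Agent.Lib.H24.Elus
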