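import Mathlib

set_option autoImplicit false

/-!
# The homomorphism from `3 × 2 × 2` onto a subgroup generated by commuting `X`, `W` with
`X ^ 6 = W ^ 2 = 1` (helper24; piece (H) of S2091, clone of helper6's `Lib/H6/U43M/Main.lean`)
-/

namespace Cfsg.Agent.Lib.H24.U62Hom

open Subgroup

/-- the multiplier -/
abbrev T322 : Type := Multiplicative (ZMod 3 × ZMod 2 × ZMod 2)

section hom

/-- three commuting elements of orders dividing `3, 2, 2` give a homomorphism from `3 × 2 × 2` onto the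
subgroup they generate -/
theorem exists_hom_322 {K : Type*} [Group K] (z0 z1 z2 : K) (h0 : z0 ^ 3 = 1) (h1 : z1 ^ 2 = 1)
    (h2 : z2 ^ 2 = 1) (c01 : Commute z0 z1) (c02 : Commute z0 z2) (c12 : Commute z1 z2) :
    ∃ f : T322 →* K,
      (∀ t, f t = z0 ^ (Multiplicative.toAdd t).1.val * z1 ^ (Multiplicative.toAdd t).2.1.val *
        z2 ^ (Multiplicative.toAdd t).2.2.val) ∧
      f.range = Subgroup.closure {z0, z1, z2} := by
  have hmul : ∀ s t : T322,
      z0 ^ (Multiplicative.toAdd (s * t)).1.val * z1 ^ (Multiplicative.toAdd (s * t)).2.1.val *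
        z2 ^ (Multiplicative.toAdd (s * t)).2.2.val =
      (z0 ^ (Multiplicative.toAdd s).1.val * z1 ^ (Multiplicative.toAdd s).2.1.val *
        z2 ^ (Multiplicative.toAdd s).2.2.val) *
      (z0 ^ (Multiplicative.toAdd t).1.val * z1 ^ (Multiplicative.toAdd t).2.1.val *
        z2 ^ (Multiplicative.toAdd t).2.2.val) := by
    intro s t
    rw [toAdd_mul]
    simp only [Prod.fst_add, Prod.snd_add, ZMod.val_add]
    rw [← pow_eq_pow_mod _ h0, ← pow_eq_pow_mod _ h1, ← pow_eq_pow_mod _ h2, pow_add, pow_add,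
      pow_add]
    set a := (Multiplicative.toAdd s).1.val
    set a' := (Multiplicative.toAdd t).1.val
    set b := (Multiplicative.toAdd s).2.1.val
    set b' := (Multiplicative.toAdd t).2.1.val
    set c := (Multiplicative.toAdd s).2.2.val
    set c' := (Multiplicative.toAdd t).2.2.val
    have e1 : Commute (z0 ^ a') (z1 ^ b) := (c01.pow_pow a' b)
    have e2 : Commute (z0 ^ a') (z2 ^ c) := (c02.pow_pow a' c)
    have e3 : Commute (z1 ^ b') (z2 ^ c) := (c12.pow_pow b' c)
    calc z0 ^ a * z0 ^ a' * (z1 ^ b * z1 ^ b') * (z2 ^ c * z2 ^ c')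
        = z0 ^ a * (z0 ^ a' * z1 ^ b) * z1 ^ b' * (z2 ^ c * z2 ^ c') := by simp only [mul_assoc]
      _ = z0 ^ a * (z1 ^ b * z0 ^ a') * z1 ^ b' * (z2 ^ c * z2 ^ c') := by rw [e1.eq]
      _ = z0 ^ a * z1 ^ b * z0 ^ a' * (z1 ^ b' * z2 ^ c) * z2 ^ c' := by simp only [mul_assoc]
      _ = z0 ^ a * z1 ^ b * z0 ^ a' * (z2 ^ c * z1 ^ b') * z2 ^ c' := by rw [e3.eq]
      _ = z0 ^ a * z1 ^ b * (z0 ^ a' * z2 ^ c) * z1 ^ b' * z2 ^ c' := by simp only [mul_assoc]
      _ = z0 ^ a * z1 ^ b * (z2 ^ c * z0 ^ a') * z1 ^ b' * z2 ^ c' := by rw [e2.eq]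
      _ = z0 ^ a * z1 ^ b * z2 ^ c * (z0 ^ a' * z1 ^ b' * z2 ^ c') := by simp only [mul_assoc]
  let f : T322 →* K :=
    MonoidHom.mk' (fun t => z0 ^ (Multiplicative.toAdd t).1.val *
      z1 ^ (Multiplicative.toAdd t).2.1.val * z2 ^ (Multiplicative.toAdd t).2.2.val) hmul
  have hf : ∀ t, f t = z0 ^ (Multiplicative.toAdd t).1.val * z1 ^ (Multiplicative.toAdd t).2.1.val *
        z2 ^ (Multiplicative.toAdd t).2.2.val := fun t => rfl
  refine ⟨f, hf, ?_⟩
  apply le_antisymm
  · rintro _ ⟨t, rfl⟩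
    rw [hf]
    have m0 : z0 ∈ Subgroup.closure ({z0, z1, z2} : Set K) := Subgroup.subset_closure (by simp)
    have m1 : z1 ∈ Subgroup.closure ({z0, z1, z2} : Set K) := Subgroup.subset_closure (by simp)
    have m2 : z2 ∈ Subgroup.closure ({z0, z1, z2} : Set K) := Subgroup.subset_closure (by simp)
    exact Subgroup.mul_mem _ (Subgroup.mul_mem _ (Subgroup.pow_mem _ m0 _) (Subgroup.pow_mem _ m1 _))
      (Subgroup.pow_mem _ m2 _)
  · have v13 : (1 : ZMod 3).val = 1 := rfl
    have v12 : (1 : ZMod 2).val = 1 := rfl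
    have v03 : (0 : ZMod 3).val = 0 := rfl
    have v02 : (0 : ZMod 2).val = 0 := rfl
    rw [Subgroup.closure_le]
    intro x hx
    simp only [Set.mem_insert_iff, Set.mem_singleton_iff] at hx
    rcases hx with rfl | rfl | rfl
    · refine ⟨Multiplicative.ofAdd ((1 : ZMod 3), (0 : ZMod 2), (0 : ZMod 2)), ?_⟩
      rw [hf]
      simp [v13, v02]
    · refine ⟨Multiplicative.ofAdd ((0 : ZMod 3), (1 : ZMod 2), (0 : ZMod 2)), ?_⟩
      rw [hf]
      simp [v12, v03, v02]
    · refine ⟨Multiplicative.ofAdd ((0 : ZMod 3), (0 : ZMod 2), (1 : ZMod 2)), ?_⟩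
      rw [hf]
      simp [v12, v03, v02]

variable {E : Type*} [Group E] (X W : E)

theorem closure_322 (hX : X ^ 6 = 1) :
    closure {X ^ 2, X ^ 3, W} = closure {X, W} := by
  apply le_antisymm
  · rw [closure_le]
    have hx : X ∈ closure {X, W} := subset_closure (by simp)
    have hw : W ∈ closure {X, W} := subset_closure (by simp)
    intro g hg
    simp only [Set.mem_insert_iff, Set.mem_singleton_iff] at hg
    rcases hg with rfl | rfl | rfl
    · exact pow_mem hx 2
    · exact pow_mem hx 3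
    · exact hw
  · rw [closure_le]
    have h2 : X ^ 2 ∈ closure {X ^ 2, X ^ 3, W} := subset_closure (by simp)
    have h3 : X ^ 3 ∈ closure {X ^ 2, X ^ 3, W} := subset_closure (by simp)
    have hw : W ∈ closure {X ^ 2, X ^ 3, W} := subset_closure (by simp)
    have hx : X ∈ closure {X ^ 2, X ^ 3, W} := by
      have e : (X ^ 2) ^ 2 * X ^ 3 = X := by
        rw [← pow_mul, ← pow_add, show 2 * 2 + 3 = 6 + 1 from rfl, pow_add, hX, one_mul, pow_one]
      have h := mul_mem (pow_mem h2 2) h3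
      rw [e] at h
      exact h
    intro g hg
    simp only [Set.mem_insert_iff, Set.mem_singleton_iff] at hg
    rcases hg with rfl | rfl
    · exact hx
    · exact hw

/-- the homomorphism from `3 × 2 × 2` onto a subgroup generated by commuting elements `X`, `W` with
`X ^ 6 = W ^ 2 = 1` -/
theorem exists_hom_T322 (hc : Commute X W) (hX : X ^ 6 = 1) (hW : W ^ 2 = 1)
    (K : Subgroup E) (hK : K = Subgroup.closure {X, W}) :
    ∃ f : T322 →* ↥K, Function.Surjective f ∧
      ∀ t, ((f t : ↥K) : E) = X ^ (2 * (Multiplicative.toAdd t).1.val +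
        3 * (Multiplicative.toAdd t).2.1.val) * W ^ (Multiplicative.toAdd t).2.2.val := by
  have h0 : (X ^ 2) ^ 3 = 1 := by rw [← pow_mul]; exact hX
  have h1 : (X ^ 3) ^ 2 = 1 := by rw [← pow_mul]; exact hX
  have c01 : Commute (X ^ 2) (X ^ 3) := (Commute.refl X).pow_pow 2 3
  have c02 : Commute (X ^ 2) W := hc.pow_left 2
  have c12 : Commute (X ^ 3) W := hc.pow_left 3
  obtain ⟨f, hf, hrange⟩ := exists_hom_322 (X ^ 2) (X ^ 3) W h0 h1 hW c01 c02 c12
  rw [closure_322 X W hX, ← hK] at hrange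
  have hmem : ∀ t, f t ∈ K := fun t => by rw [← hrange]; exact ⟨t, rfl⟩
  refine ⟨f.codRestrict K hmem, ?_, ?_⟩
  · rintro ⟨y, hy⟩
    rw [← hrange] at hy
    obtain ⟨t, rfl⟩ := hy
    exact ⟨t, rfl⟩
  · intro t
    change f t = _
    rw [hf t, ← pow_mul, ← pow_mul, ← pow_add]

end hom

theorem card_T322 : Nat.card T322 = 12 := by
  rw [Nat.card_eq_fintype_card, Fintype.card_multiplicative, Fintype.card_prod, Fintype.card_prod,
    ZMod.card, ZMod.card]

theorem sep_T322 : ∀ t : ZMod 3 × ZMod 2 × ZMod 2,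
    ((((2 * t.1.val + 3 * t.2.1.val : ℕ) : ZMod 6) = 0) ∧ ((t.2.2.val : ℕ) : ZMod 2) = 0) → t = 0 := by
  decide

end Cfsg.Agent.Lib.H24.U62Hom
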