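import Cfsg.Agent.Lib.H24.GlaubSolv3

/-!
# The solvable Glauberman count (helper24)

`solv_count`: inside a finite group `Γ` let the solvable subgroup `S` normalise `G`, with
`|G|` coprime to `|S : C_S(G)|`.  Then the number of `S`-invariant irreducible characters of `G`
equals the number of `S`-invariant classes of `G`.
-/

set_option autoImplicit false

universe u

namespace Cfsg.Agent.Lib.H24.Glaub

open Cfsg Cfsg.Agent.Lib.L0 Cfsg.Agent.Lib.H24

variable {Γ : Type u} [Group Γ] [Fintype Γ]

theorem solv_count_aux (n : ℕ) :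
    ∀ (G S : Subgroup Γ), (∀ s ∈ S, ∀ g ∈ G, s * g * s⁻¹ ∈ G) → Group.IsSolvable S →
      (S ⊓ Subgroup.centralizer (G : Set Γ)).relIndex S = n → (Nat.card G).Coprime n →
      Nat.card {χ : IrrCharacter G // ∀ s ∈ S, InvUnder G s (χ : G → ℂ)} =
        Nat.card {cl : ConjClasses G // ClsInv G S cl} := by
  induction n using Nat.strong_induction_on with
  | _ n ih =>
    intro G S hnorm hsolv hn hcop
    classical
    set K := S ⊓ Subgroup.centralizer (G : Set Γ) with hK
    have hKS : K ≤ S := inf_le_left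
    have hKc : ∀ k ∈ K, ∀ g ∈ G, k * g * k⁻¹ = g := by
      intro k hk g hg
      have h1 := (Subgroup.mem_centralizer_iff.mp hk.2) g hg
      rw [← h1]
      group
    by_cases hKeq : K = S
    · have hSc : ∀ s ∈ S, ∀ g ∈ G, s * g * s⁻¹ = g := by
        intro s hs
        rw [← hKeq] at hs
        exact hKc s hs
      have h1 : ∀ χ : IrrCharacter G, ∀ s ∈ S, InvUnder G s (χ : G → ℂ) := by
        intro χ s hs g g' hgg'
        have h2 : g' = g := Subtype.ext (by rw [hgg']; exact hSc s hs g g.2)
        rw [h2]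
      have h2 : ∀ cl : ConjClasses G, ClsInv G S cl := by
        intro cl s hs g g' hgg' hcl
        have h2 : g' = g := Subtype.ext (by rw [hgg']; exact hSc s hs g g.2)
        rw [h2]
        exact hcl
      rw [Nat.card_congr (Equiv.subtypeUnivEquiv h1), Nat.card_congr (Equiv.subtypeUnivEquiv h2)]
      exact card_irr_eq_card_conjClasses
    · have hKn : ∀ x ∈ S, ∀ k ∈ K, x * k * x⁻¹ ∈ K := by
        intro x hx k hk
        refine ⟨S.mul_mem (S.mul_mem hx hk.1) (S.inv_mem hx), ?_⟩
        show x * k * x⁻¹ ∈ Subgroup.centralizer (G : Set Γ)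
        rw [Subgroup.mem_centralizer_iff]
        intro g hg
        have hg' : x⁻¹ * g * x ∈ G := by
          have := hnorm x⁻¹ (S.inv_mem hx) g hg
          rwa [inv_inv] at this
        have h1 := (Subgroup.mem_centralizer_iff.mp hk.2) _ hg'
        calc g * (x * k * x⁻¹) = x * ((x⁻¹ * g * x) * k) * x⁻¹ := by group
          _ = x * (k * (x⁻¹ * g * x)) * x⁻¹ := by rw [h1]
          _ = x * k * x⁻¹ * g := by group
      obtain ⟨p, Q, hp, hQS, hQp, hQK, hpn, hP⟩ := exists_pgroup_step S K hsolv hKS hKn hKeq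
      rw [hn] at hpn
      have hpG : ¬ p ∣ Nat.card G := by
        intro h
        have h1 : p ∣ Nat.gcd (Nat.card G) n := Nat.dvd_gcd h hpn
        rw [hcop] at h1
        exact hp.one_lt.ne' (Nat.dvd_one.mp h1)
      set B : Subgroup Γ := G ⊓ Subgroup.centralizer (Q : Set Γ) with hB
      letI : Fintype B := Fintype.ofFinite _
      have hBG : B ≤ G := inf_le_left
      have hSB := step_norm hnorm hKc hP hB
      rw [step_card_irr hp hnorm hQS hQp hpG hKc hP hB hBG,
        step_card_cls hp hnorm hQS hQp hpG hSB hB hBG]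
      set K₂ := S ⊓ Subgroup.centralizer (B : Set Γ) with hK₂
      have hKK₂ : K ≤ K₂ := by
        intro k hk
        exact ⟨hk.1, Subgroup.centralizer_le (by exact_mod_cast hBG) hk.2⟩
      have hQK₂ : Q ≤ K₂ := by
        intro q hq
        refine ⟨hQS hq, ?_⟩
        show q ∈ Subgroup.centralizer (B : Set Γ)
        rw [Subgroup.mem_centralizer_iff]
        intro b hb
        have hb' : b ∈ Subgroup.centralizer (Q : Set Γ) := hb.2
        exact ((Subgroup.mem_centralizer_iff.mp hb') q hq).symm
      have hmul : K.relIndex K₂ * K₂.relIndex S = n := by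
        rw [Subgroup.relIndex_mul_relIndex K K₂ S hKK₂ inf_le_left, hn]
      have hn0 : n ≠ 0 := by
        rw [← hn]
        show (K.subgroupOf S).index ≠ 0
        exact Subgroup.index_ne_zero_of_finite
      have hne1 : K.relIndex K₂ ≠ 1 := by
        intro h
        rw [Subgroup.relIndex_eq_one] at h
        exact hQK (hQK₂.trans h)
      have hlt : K₂.relIndex S < n := by
        have h0 : K.relIndex K₂ ≠ 0 := fun h => hn0 (by rw [← hmul, h, zero_mul])
        have h2 : 2 ≤ K.relIndex K₂ := by omega
        have h3 : K₂.relIndex S ≠ 0 := fun h => hn0 (by rw [← hmul, h, mul_zero])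
        have h4 : 2 * K₂.relIndex S ≤ K.relIndex K₂ * K₂.relIndex S :=
          Nat.mul_le_mul_right _ h2
        rw [hmul] at h4
        omega
      have hcop₂ : (Nat.card B).Coprime (K₂.relIndex S) := by
        have h1 : Nat.card B ∣ Nat.card G := Subgroup.card_dvd_of_le hBG
        have h2 : K₂.relIndex S ∣ n := Dvd.intro_left _ hmul
        exact Nat.Coprime.coprime_dvd_left h1 (Nat.Coprime.coprime_dvd_right h2 hcop)
      exact ih _ hlt B S hSB hsolv rfl hcop₂

theorem solv_count (G S : Subgroup Γ) (hnorm : ∀ s ∈ S, ∀ g ∈ G, s * g * s⁻¹ ∈ G)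
    (hcop : (Nat.card G).Coprime (Nat.card S)) (hsolv : Group.IsSolvable S) :
    Nat.card {χ : IrrCharacter G // ∀ s ∈ S, InvUnder G s (χ : G → ℂ)} =
      Nat.card {cl : ConjClasses G // ClsInv G S cl} := by
  apply solv_count_aux _ G S hnorm hsolv rfl
  exact Nat.Coprime.coprime_dvd_right (Subgroup.relIndex_dvd_card _ _) hcop

end Cfsg.Agent.Lib.H24.Glaub
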