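import Mathlib
import Cfsg.Prelude
import Cfsg.Agent.S1496
import Cfsg.Agent.Lib.H8.CoprimeClasses

/-!
# Conjugacy in a coset `N s` for `s` of order coprime to `|N|` (helper24)

`N ⊴ Γ`, `s : Γ` with `(|N|, o(s)) = 1`, `C = C_N(s) = fixedSub N s`.
* `exists_pow_data`: an exponent `m` with `(c s) ^ m = s` for all `c ∈ C`;
* `conj_coset_fixed`: if `y (c s) y⁻¹ = c' s` with `c, c' ∈ C` then `y` commutes with `s` and
  `y c y⁻¹ = c'`;
* `exists_conj_coset`: every `n s` is `N`-conjugate to some `c s`, `c ∈ C` (helper8's S1496);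
* `card_fiber`: the map `(x, c) ↦ x c s x⁻¹ s⁻¹` from `N × C` to `N` has all fibres of size `|C|`;
* `coset_sum`: `|C| ∑_{n ∈ N} f (n s) = |N| ∑_{c ∈ C} f (c s)` for `f` invariant under
  `N`-conjugation;
* `card_stable_classes`: the number of `s`-stable classes of `N` is the class number of `C`.
-/

set_option autoImplicit false

namespace Cfsg.Agent.Lib.H24.Glaub

open Cfsg.Agent.Lib.H8

variable {Γ : Type*} [Group Γ]

/-- The fixed points `C_N(s)` of `s` in `N`. -/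
def fixedSub (N : Subgroup Γ) (s : Γ) : Subgroup Γ := N ⊓ Subgroup.centralizer {s}

theorem mem_fixedSub {N : Subgroup Γ} {s x : Γ} :
    x ∈ fixedSub N s ↔ x ∈ N ∧ x * s = s * x := by
  unfold fixedSub
  rw [Subgroup.mem_inf, Subgroup.mem_centralizer_singleton_iff]

theorem fixedSub_le (N : Subgroup Γ) (s : Γ) : fixedSub N s ≤ N := inf_le_left

variable [Finite Γ] (N : Subgroup Γ) (s : Γ)

omit [Finite Γ] in
/-- An exponent `m` with `m ≡ 1 mod o(s)` and `|N| ∣ m`. -/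
theorem exists_pow_data (hcop : (Nat.card N).Coprime (orderOf s)) :
    ∃ m : ℕ, s ^ m = s ∧ ∀ n ∈ N, n ^ m = 1 := by
  obtain ⟨m, hm1, hm2⟩ := Nat.chineseRemainder hcop.symm 1 0
  refine ⟨m, ?_, fun n hn => ?_⟩
  · have h1 : s ^ m = s ^ 1 := pow_eq_pow_iff_modEq.mpr hm1
    rw [h1, pow_one]
  · have h2 : Nat.card N ∣ m := (Nat.modEq_zero_iff_dvd).mp hm2
    obtain ⟨k, rfl⟩ := h2
    have h3 : (⟨n, hn⟩ : N) ^ Nat.card N = 1 := pow_card_eq_one'
    have h4 : n ^ Nat.card N = 1 := by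
      have h5 := congrArg (Subtype.val : N → Γ) h3
      rw [Subgroup.coe_pow, Subgroup.coe_one] at h5
      exact h5
    rw [pow_mul, h4, one_pow]

variable {N s}

theorem conj_coset_fixed (hcop : (Nat.card N).Coprime (orderOf s)) {y c c' : Γ}
    (hc : c ∈ fixedSub N s) (hc' : c' ∈ fixedSub N s) (h : y * (c * s) * y⁻¹ = c' * s) :
    y * s = s * y ∧ y * c * y⁻¹ = c' := by
  obtain ⟨m, hm1, hm2⟩ := exists_pow_data N s hcop
  rw [mem_fixedSub] at hc hc'
  have h1 : (c * s) ^ m = s := by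
    rw [(show Commute c s from hc.2).mul_pow, hm2 c hc.1, one_mul, hm1]
  have h2 : (c' * s) ^ m = s := by
    rw [(show Commute c' s from hc'.2).mul_pow, hm2 c' hc'.1, one_mul, hm1]
  have h3 : y * s * y⁻¹ = s := by
    have h4 : (y * (c * s) * y⁻¹) ^ m = y * (c * s) ^ m * y⁻¹ := conj_pow
    rw [h, h2, h1] at h4
    exact h4.symm
  have h5 : y * s = s * y := by
    calc y * s = y * s * y⁻¹ * y := by group
      _ = s * y := by rw [h3]
  refine ⟨h5, ?_⟩
  have h6 : y * (c * s) * y⁻¹ = y * c * y⁻¹ * (y * s * y⁻¹) := by group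
  rw [h6, h3] at h
  exact mul_right_cancel h

theorem exists_conj_coset (hs : s ∈ Subgroup.normalizer (N : Set Γ))
    (hcop : (Nat.card N).Coprime (orderOf s)) {n : Γ} (hn : n ∈ N) :
    ∃ x ∈ N, ∃ c ∈ fixedSub N s, x * (n * s) * x⁻¹ = c * s := by
  obtain ⟨x, hx, c, hc, hcs, h⟩ := Cfsg.Agent.S1496.result N s hs hcop.symm n hn
  exact ⟨x, hx, c, mem_fixedSub.mpr ⟨hc, hcs⟩, h⟩

omit [Finite Γ] in
theorem conj_mul_inv_mem (hs : s ∈ Subgroup.normalizer (N : Set Γ)) {x c : Γ} (hx : x ∈ N)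
    (hc : c ∈ N) : x * (c * s) * x⁻¹ * s⁻¹ ∈ N := by
  have h1 : s * x⁻¹ * s⁻¹ ∈ N :=
    (Subgroup.mem_normalizer_iff.mp hs x⁻¹).mp (N.inv_mem hx)
  have h2 : x * (c * s) * x⁻¹ * s⁻¹ = x * c * (s * x⁻¹ * s⁻¹) := by group
  rw [h2]
  exact N.mul_mem (N.mul_mem hx hc) h1

/-- The map `(x, c) ↦ x (c s) x⁻¹ s⁻¹` from `N × C` to `N`. -/
def cosetMap (hs : s ∈ Subgroup.normalizer (N : Set Γ)) (p : N × fixedSub N s) : N :=
  ⟨(p.1 : Γ) * ((p.2 : Γ) * s) * (p.1 : Γ)⁻¹ * s⁻¹,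
    conj_mul_inv_mem hs p.1.2 (fixedSub_le N s p.2.2)⟩

omit [Finite Γ] in
theorem cosetMap_mul (hs : s ∈ Subgroup.normalizer (N : Set Γ)) (p : N × fixedSub N s) :
    ((cosetMap hs p : N) : Γ) * s = (p.1 : Γ) * ((p.2 : Γ) * s) * (p.1 : Γ)⁻¹ := by
  unfold cosetMap
  simp only
  group

theorem card_fiber (hs : s ∈ Subgroup.normalizer (N : Set Γ))
    (hcop : (Nat.card N).Coprime (orderOf s)) (n : N) :
    Nat.card {p : N × fixedSub N s // cosetMap hs p = n} = Nat.card (fixedSub N s) := by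
  obtain ⟨x₀, hx₀, c₀, hc₀, h₀⟩ := exists_conj_coset hs hcop n.2
  -- `x₀ (n s) x₀⁻¹ = c₀ s`
  symm
  refine Nat.card_congr (Equiv.ofBijective
    (fun y : fixedSub N s => (⟨(⟨x₀⁻¹ * (y : Γ)⁻¹, N.mul_mem (N.inv_mem hx₀)
        (N.inv_mem (fixedSub_le N s y.2))⟩,
      ⟨(y : Γ) * c₀ * (y : Γ)⁻¹, (fixedSub N s).mul_mem ((fixedSub N s).mul_mem y.2 hc₀)
        ((fixedSub N s).inv_mem y.2)⟩), ?_⟩ : {p : N × fixedSub N s // cosetMap hs p = n})) ⟨?_, ?_⟩)
  · apply Subtype.ext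
    apply mul_right_cancel (b := s)
    rw [cosetMap_mul]
    simp only
    have hy : (y : Γ) * s = s * (y : Γ) := (mem_fixedSub.mp y.2).2
    have hy' : (y : Γ)⁻¹ * s = s * (y : Γ)⁻¹ := by
      calc (y : Γ)⁻¹ * s = (y : Γ)⁻¹ * (s * (y : Γ)) * (y : Γ)⁻¹ := by group
        _ = (y : Γ)⁻¹ * ((y : Γ) * s) * (y : Γ)⁻¹ := by rw [hy]
        _ = s * (y : Γ)⁻¹ := by group
    have h1 : (n : Γ) * s = x₀⁻¹ * (c₀ * s) * x₀ := by
      rw [← h₀]; group
    rw [h1]
    calc x₀⁻¹ * (y : Γ)⁻¹ * ((y : Γ) * c₀ * (y : Γ)⁻¹ * s) * (x₀⁻¹ * (y : Γ)⁻¹)⁻¹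
        = x₀⁻¹ * c₀ * ((y : Γ)⁻¹ * s) * (y : Γ) * x₀ := by group
      _ = x₀⁻¹ * c₀ * (s * (y : Γ)⁻¹) * (y : Γ) * x₀ := by rw [hy']
      _ = x₀⁻¹ * (c₀ * s) * x₀ := by group
  · intro y y' hyy'
    have h1 := congrArg (fun p : {p : N × fixedSub N s // cosetMap hs p = n} =>
      ((p.1.1 : N) : Γ)) hyy'
    simp only at h1
    apply Subtype.ext
    have h2 : (y : Γ)⁻¹ = (y' : Γ)⁻¹ := mul_left_cancel h1
    exact inv_injective h2
  · rintro ⟨⟨x, c⟩, hp⟩
    have h1 : (n : Γ) * s = (x : Γ) * ((c : Γ) * s) * (x : Γ)⁻¹ := by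
      rw [← hp, cosetMap_mul]
    -- `z = x₀ x` conjugates `c s` to `c₀ s`
    have h2 : (x₀ * (x : Γ)) * ((c : Γ) * s) * (x₀ * (x : Γ))⁻¹ = c₀ * s := by
      rw [← h₀, h1]; group
    obtain ⟨h3, h4⟩ := conj_coset_fixed hcop c.2 hc₀ h2
    have hz : x₀ * (x : Γ) ∈ fixedSub N s :=
      mem_fixedSub.mpr ⟨N.mul_mem hx₀ x.2, h3⟩
    refine ⟨⟨(x₀ * (x : Γ))⁻¹, (fixedSub N s).inv_mem hz⟩, ?_⟩
    apply Subtype.ext
    apply Prod.ext
    · apply Subtype.ext
      simp only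
      group
    · apply Subtype.ext
      simp only
      rw [← h4]
      group

/-- Summing a function invariant under `N`-conjugation over the coset `N s`. -/
theorem coset_sum [Fintype N] [Fintype (fixedSub N s)]
    (hs : s ∈ Subgroup.normalizer (N : Set Γ)) (hcop : (Nat.card N).Coprime (orderOf s))
    (f : Γ → ℂ) (hf : ∀ x ∈ N, ∀ y : Γ, f (x * y * x⁻¹) = f y) :
    (Nat.card (fixedSub N s) : ℂ) * ∑ n : N, f ((n : Γ) * s) =
      (Nat.card N : ℂ) * ∑ c : fixedSub N s, f ((c : Γ) * s) := by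
  classical
  have h1 : ∑ p : N × fixedSub N s, f (((cosetMap hs p : N) : Γ) * s) =
      (Nat.card N : ℂ) * ∑ c : fixedSub N s, f ((c : Γ) * s) := by
    rw [Fintype.sum_prod_type]
    have h2 : ∀ x : N, ∑ c : fixedSub N s, f (((cosetMap hs (x, c) : N) : Γ) * s) =
        ∑ c : fixedSub N s, f ((c : Γ) * s) := by
      intro x
      refine Finset.sum_congr rfl fun c _ => ?_
      rw [cosetMap_mul]
      exact hf x x.2 _
    rw [Finset.sum_congr rfl (fun x _ => h2 x), Finset.sum_const, Finset.card_univ, nsmul_eq_mul,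
      Nat.card_eq_fintype_card]
  rw [← h1, ← Finset.sum_fiberwise Finset.univ (cosetMap hs)
    (fun p => f (((cosetMap hs p : N) : Γ) * s)), Finset.mul_sum]
  refine Finset.sum_congr rfl fun n _ => ?_
  have h3 : ∀ p ∈ Finset.univ.filter (fun p : N × fixedSub N s => cosetMap hs p = n),
      f (((cosetMap hs p : N) : Γ) * s) = f ((n : Γ) * s) := by
    intro p hp
    rw [(Finset.mem_filter.mp hp).2]
  rw [Finset.sum_congr rfl h3, Finset.sum_const, nsmul_eq_mul]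
  congr 2
  rw [← card_fiber hs hcop n, Nat.card_eq_fintype_card, Fintype.card_subtype]

/-- The number of `s`-stable classes of `N` equals the class number of `C_N(s)`. -/
theorem card_stable_classes [hN : N.Normal] (hcop : (Nat.card N).Coprime (orderOf s)) :
    Nat.card {K : ConjClasses N //
        ∀ g : N, ConjClasses.mk g = K → IsConj ((MulAut.conjNormal s : N ≃* N) g) g} =
      Nat.card (ConjClasses (fixedSub N s)) := by
  classical
  symm
  set ι : fixedSub N s →* N := Subgroup.inclusion (fixedSub_le N s) with hι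
  have hfix : ∀ c : fixedSub N s, (MulAut.conjNormal s : N ≃* N) (ι c) = ι c := by
    intro c
    apply Subtype.ext
    rw [MulAut.conjNormal_apply]
    have h1 : (c : Γ) * s = s * (c : Γ) := (mem_fixedSub.mp c.2).2
    show s * (c : Γ) * s⁻¹ = (c : Γ)
    rw [← h1]; group
  have hstab : ∀ c : fixedSub N s, ∀ g : N, ConjClasses.mk g = ConjClasses.mk (ι c) →
      IsConj ((MulAut.conjNormal s : N ≃* N) g) g := by
    intro c g hg
    have h1 : IsConj g (ι c) := ConjClasses.mk_eq_mk_iff_isConj.mp hg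
    have h2 : IsConj ((MulAut.conjNormal s : N ≃* N) g) ((MulAut.conjNormal s : N ≃* N) (ι c)) :=
      (MulAut.conjNormal s : N ≃* N).toMonoidHom.map_isConj h1
    rw [hfix c] at h2
    exact h2.trans h1.symm
  have hwd : ∀ c c' : fixedSub N s, IsConj c c' →
      (⟨ConjClasses.mk (ι c), hstab c⟩ : {K : ConjClasses N //
        ∀ g : N, ConjClasses.mk g = K → IsConj ((MulAut.conjNormal s : N ≃* N) g) g}) =
      ⟨ConjClasses.mk (ι c'), hstab c'⟩ := by
    intro c c' hcc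
    apply Subtype.ext
    exact ConjClasses.mk_eq_mk_iff_isConj.mpr (ι.map_isConj hcc)
  refine Nat.card_congr (Equiv.ofBijective
    (Quotient.lift (fun c : fixedSub N s => (⟨ConjClasses.mk (ι c), hstab c⟩ :
      {K : ConjClasses N //
        ∀ g : N, ConjClasses.mk g = K → IsConj ((MulAut.conjNormal s : N ≃* N) g) g}))
      (fun c c' h => hwd c c' h)) ⟨?_, ?_⟩)
  · intro A B
    induction A using Quotient.inductionOn with | _ c => ?_
    induction B using Quotient.inductionOn with | _ c' => ?_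
    intro h
    have h1 : ConjClasses.mk (ι c) = ConjClasses.mk (ι c') := congrArg Subtype.val h
    obtain ⟨k, hk⟩ := isConj_iff.mp (ConjClasses.mk_eq_mk_iff_isConj.mp h1)
    have hk' : (k : Γ) * (c : Γ) * (k : Γ)⁻¹ = (c' : Γ) := congrArg Subtype.val hk
    have hc1 : s * (c : Γ) = (c : Γ) * s := ((mem_fixedSub.mp c.2).2).symm
    have hc2 : s * ((k : Γ) * (c : Γ) * (k : Γ)⁻¹) = ((k : Γ) * (c : Γ) * (k : Γ)⁻¹) * s := by
      rw [hk']
      exact ((mem_fixedSub.mp c'.2).2).symm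
    obtain ⟨n, hnN, hns, hnc⟩ := exists_conj_commute_of_coprime hcop k.2 hc1 hc2
    apply Quotient.sound
    show IsConj c c'
    rw [isConj_iff]
    refine ⟨⟨n, mem_fixedSub.mpr ⟨hnN, hns⟩⟩, ?_⟩
    apply Subtype.ext
    show n * (c : Γ) * n⁻¹ = (c' : Γ)
    rw [hnc, hk']
  · rintro ⟨K, hK⟩
    induction K using Quotient.inductionOn with | _ g => ?_
    have h1 : IsConj ((MulAut.conjNormal s : N ≃* N) g) g := hK g rfl
    obtain ⟨k, hk⟩ := isConj_iff.mp h1.symm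
    have hk' : (k : Γ) * (g : Γ) * (k : Γ)⁻¹ = s * (g : Γ) * s⁻¹ := by
      have := congrArg (Subtype.val : N → Γ) hk
      rw [MulAut.conjNormal_apply] at this
      exact this
    obtain ⟨n, hnN, hn⟩ := exists_conj_fixed_of_coprime hcop k.2 hk'.symm
    have hmem : n * (g : Γ) * n⁻¹ ∈ fixedSub N s := by
      refine mem_fixedSub.mpr ⟨N.mul_mem (N.mul_mem hnN g.2) (N.inv_mem hnN), ?_⟩
      calc n * (g : Γ) * n⁻¹ * s = (s * (n * (g : Γ) * n⁻¹) * s⁻¹)⁻¹⁻¹ * s := by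
            rw [hn, inv_inv]
        _ = s * (n * (g : Γ) * n⁻¹) := by rw [inv_inv]; group
    refine ⟨Quotient.mk _ ⟨n * (g : Γ) * n⁻¹, hmem⟩, ?_⟩
    apply Subtype.ext
    show ConjClasses.mk (ι ⟨n * (g : Γ) * n⁻¹, hmem⟩) = ConjClasses.mk g
    rw [ConjClasses.mk_eq_mk_iff_isConj]
    symm
    rw [isConj_iff]
    exact ⟨⟨n, hnN⟩, Subtype.ext rfl⟩

end Cfsg.Agent.Lib.H24.Glaub
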