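import Mathlib

/-!
# An integrality lemma via cyclotomic polynomials (helper24)

If an integer polynomial takes the same value `a` at all primitive `n`-th roots of unity in `ℂ`,
then `a` is an integer.
-/

set_option autoImplicit false

namespace Cfsg.Agent.Lib.H24.Glaub

open Polynomial

theorem int_of_const_on_primitiveRoots (M : ℤ[X]) (n : ℕ) (hn : 0 < n) (a : ℂ)
    (h : ∀ η : ℂ, IsPrimitiveRoot η n → aeval η M = a) : ∃ z : ℤ, a = z := by
  classical
  haveI : NeZero n := ⟨hn.ne'⟩
  set Φ : ℤ[X] := cyclotomic n ℤ with hΦ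
  have hmon : Φ.Monic := cyclotomic.monic n ℤ
  have hΦdeg : Φ.natDegree = Nat.totient n := natDegree_cyclotomic n ℤ
  have htot : 0 < Nat.totient n := Nat.totient_pos.mpr hn
  have hΦne : Φ ≠ 1 := by
    intro h1
    rw [h1, natDegree_one] at hΦdeg
    omega
  set r : ℤ[X] := M %ₘ Φ with hr
  have hdeg : r.natDegree < Nat.totient n := by
    rw [← hΦdeg]
    exact natDegree_modByMonic_lt M hmon hΦne
  have hr_eval : ∀ η : ℂ, IsPrimitiveRoot η n → aeval η r = a := by
    intro η hη
    have h1 : r + Φ * (M /ₘ Φ) = M := modByMonic_add_div M Φ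
    have h2 : aeval η Φ = 0 := by
      have h3 : IsRoot (cyclotomic n ℂ) η := (isRoot_cyclotomic_iff).mpr hη
      rw [hΦ, aeval_def, eval₂_eq_eval_map, map_cyclotomic]
      exact h3
    rw [← h η hη, ← h1, map_add, map_mul, h2, zero_mul, add_zero]
  set R : ℂ[X] := r.map (Int.castRingHom ℂ) - C a with hR
  have hRdeg : R.natDegree < Nat.totient n := by
    refine lt_of_le_of_lt (natDegree_sub_le _ _) ?_
    rw [natDegree_C, max_eq_left (Nat.zero_le _)]
    exact lt_of_le_of_lt natDegree_map_le hdeg
  have hR0 : R = 0 := by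
    by_contra hne
    have hsub : primitiveRoots n ℂ ⊆ R.roots.toFinset := by
      intro η hη
      rw [mem_primitiveRoots hn] at hη
      have h6 : aeval η r = eval₂ (Int.castRingHom ℂ) η r := by
        rw [aeval_def]; rfl
      rw [Multiset.mem_toFinset, mem_roots hne, IsRoot.def, hR, eval_sub, eval_C, eval_map,
        ← h6, hr_eval η hη, sub_self]
    have h1 := Finset.card_le_card hsub
    have h2 : (primitiveRoots n ℂ).card = Nat.totient n :=
      (Complex.isPrimitiveRoot_exp n hn.ne').card_primitiveRoots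
    have h3 : R.roots.toFinset.card ≤ R.natDegree :=
      (Multiset.toFinset_card_le _).trans (card_roots' R)
    omega
  refine ⟨r.coeff 0, ?_⟩
  have h4 : r.map (Int.castRingHom ℂ) = C a := sub_eq_zero.mp hR0
  have h5 := congrArg (fun q : ℂ[X] => q.coeff 0) h4
  simp only [coeff_map, coeff_C_zero] at h5
  rw [← h5]
  simp

end Cfsg.Agent.Lib.H24.Glaub
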