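import Mathlib
import Cfsg.Prelude
import Cfsg.Agent.Lib.H8.GaloisConj
import Cfsg.Agent.Lib.H23.DetChar
import Cfsg.Agent.Lib.L0.FiniteOrderEnd

/-!
# Galois conjugation of characters together with determinants (helper24)

* `exists_aut_pow`: an automorphism of `ℂ` acting as `ω ↦ ω ^ m` on `N`-th roots of unity;
* `galoisConj_rep`: for a matrix representation `ρ` and `m` coprime to `|G|`, the representation
  `mapRep τ ρ` has character `g ↦ χ (g ^ m)` and determinant `g ↦ det ρ (g ^ m)`;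
* `detChar_galoisConj`: `detChar (g ↦ χ (g ^ m)) = g ↦ detChar χ (g ^ m)`;
* `detOrder_galoisConj_dvd`.
-/

set_option autoImplicit false

namespace Cfsg.Agent.Lib.H24.Glaub

open Cfsg.Agent.Lib.H8 Cfsg.Agent.Lib.H23 Cfsg.Agent.Lib.L0 Module

theorem exists_aut_pow (N : ℕ) [NeZero N] (m : ℕ) (hm : m.Coprime N) :
    ∃ τ : ℂ ≃+* ℂ, ∀ ω : ℂ, ω ^ N = 1 → τ ω = ω ^ m := by
  set u : (ZMod N)ˣ := ZMod.unitOfCoprime m hm with hu
  set σ : Gal(CyclotomicField N ℚ/ℚ) := (cycGalEquiv N).symm u with hσ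
  have hpow : cycPow N σ = (m : ZMod N) := by
    unfold cycPow
    rw [hσ, MulEquiv.apply_symm_apply, hu, ZMod.coe_unitOfCoprime]
  obtain ⟨τ, hτ⟩ := exists_ringEquiv_extending (cycEmb N).toRingHom σ.toRingEquiv
  refine ⟨τ, fun ω hω => ?_⟩
  obtain ⟨η, hη, rfl⟩ := exists_cyc_preimage N ω hω
  have h1 : τ (cycEmb N η) = cycEmb N (σ η) := hτ η
  have h2 : σ η = η ^ (cycPow N σ).val := cycAut_pow N σ η hη
  rw [hpow, ZMod.val_natCast] at h2
  have h3 : η ^ (m % N) = η ^ m := by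
    conv_rhs => rw [← Nat.div_add_mod m N, pow_add, pow_mul, hη, one_pow, one_mul]
  rw [h1, h2, h3, map_pow]

section
variable {G : Type*} [Group G] [Finite G]

/-- The trace of a finite-order endomorphism under an automorphism of `ℂ` acting by `m`-th powers on
the relevant roots of unity. -/
theorem aut_trace_of_pow_eq_one {V : Type*} [AddCommGroup V] [Module ℂ V] [FiniteDimensional ℂ V]
    (τ : ℂ ≃+* ℂ) (N m : ℕ) (hN : 0 < N) (hτ : ∀ ω : ℂ, ω ^ N = 1 → τ ω = ω ^ m)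
    (f : Module.End ℂ V) (hf : f ^ N = 1) :
    τ (LinearMap.trace ℂ V f) = LinearMap.trace ℂ V (f ^ m) := by
  classical
  have hss := isSemisimple_of_pow_eq_one hN hf
  have h1 := trace_pow_eq_sum hss 1
  rw [pow_one] at h1
  rw [h1, trace_pow_eq_sum hss m, map_sum]
  refine Finset.sum_congr rfl fun μ _ => ?_
  rw [map_mul, map_natCast, pow_one, hτ _ (eigenvalue_pow_eq_one hf μ)]

theorem galoisConj_rep {n : ℕ} (ρ : Representation ℂ G (Fin n → ℂ)) (m : ℕ)
    (hm : m.Coprime (Nat.card G)) :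
    ∃ ρ' : Representation ℂ G (Fin n → ℂ), (∀ g : G, ρ'.character g = ρ.character (g ^ m)) ∧
      ∀ g : G, LinearMap.det (ρ' g) = LinearMap.det (ρ (g ^ m)) := by
  haveI : NeZero (Nat.card G) := ⟨Nat.card_pos.ne'⟩
  obtain ⟨τ, hτ⟩ := exists_aut_pow (Nat.card G) m hm
  refine ⟨mapRep τ.toRingHom ρ, fun g => ?_, fun g => ?_⟩
  · rw [mapRep_character]
    have hg : ρ g ^ Nat.card G = 1 := by rw [← map_pow, pow_card_eq_one', map_one]
    have h1 := aut_trace_of_pow_eq_one τ (Nat.card G) m Nat.card_pos hτ (ρ g) hg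
    unfold Representation.character
    rw [map_pow]
    exact h1
  · show LinearMap.det (Matrix.toLin' ((LinearMap.toMatrix' (ρ g)).map τ.toRingHom)) = _
    rw [LinearMap.det_toLin']
    have h0 : ((LinearMap.toMatrix' (ρ g)).map τ.toRingHom).det =
        τ.toRingHom ((LinearMap.toMatrix' (ρ g)).det) :=
      (RingHom.map_det τ.toRingHom (LinearMap.toMatrix' (ρ g))).symm
    rw [h0, LinearMap.det_toMatrix']
    have hg : (LinearMap.det (ρ g)) ^ Nat.card G = 1 := by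
      rw [← map_pow, ← map_pow, pow_card_eq_one', map_one, map_one]
    have h2 : τ.toRingHom (LinearMap.det (ρ g)) = (LinearMap.det (ρ g)) ^ m := hτ _ hg
    rw [h2, map_pow, map_pow]

theorem detChar_galoisConj {χ : G → ℂ} (hχ : Cfsg.IsCharacter G χ) (m : ℕ)
    (hm : m.Coprime (Nat.card G)) :
    Cfsg.detChar (fun g => χ (g ^ m)) = fun g => Cfsg.detChar χ (g ^ m) := by
  obtain ⟨n, ρ, rfl⟩ := hχ
  obtain ⟨ρ', h1, h2⟩ := galoisConj_rep ρ m hm
  have h3 : (fun g => ρ.character (g ^ m)) = ρ'.character := by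
    funext g
    rw [h1]
  funext g
  rw [h3, detChar_eq ρ' g, detChar_eq ρ (g ^ m), h2]

theorem detChar_pow {χ : G → ℂ} (hχ : Cfsg.IsCharacter G χ) (g : G) (m : ℕ) :
    Cfsg.detChar χ (g ^ m) = Cfsg.detChar χ g ^ m := by
  obtain ⟨n, ρ, rfl⟩ := hχ
  rw [detChar_eq ρ, detChar_eq ρ, map_pow, map_pow]

theorem detOrder_galoisConj_dvd {χ : G → ℂ} (hχ : Cfsg.IsCharacter G χ) (m : ℕ)
    (hm : m.Coprime (Nat.card G)) :
    Cfsg.detOrder (fun g => χ (g ^ m)) ∣ Cfsg.detOrder χ := by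
  unfold Cfsg.detOrder
  have h1 : Cfsg.detChar (fun g => χ (g ^ m)) = Cfsg.detChar χ ^ m := by
    rw [detChar_galoisConj hχ m hm]
    funext g
    rw [detChar_pow hχ, Pi.pow_apply]
  rw [h1]
  exact orderOf_pow_dvd m

end

end Cfsg.Agent.Lib.H24.Glaub
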