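import Mathlib
import Cfsg.Prelude
import Cfsg.Agent.S0868
import Cfsg.Agent.Lib.H23.ExtGeneral
import Cfsg.Agent.Lib.H23.DegreeDvd
import Cfsg.Agent.Lib.H8.GenChar
import Cfsg.Agent.Lib.H24.GlaubCyclo
import Cfsg.Agent.Lib.H24.GlaubGalois
import Cfsg.Agent.Lib.H24.GlaubClasses
import Cfsg.Agent.Lib.H24.GlaubProd

/-!
# The cyclic Glauberman correspondence, part 1 (helper24)

`Γ = N⟨s⟩`, `N ⊴ Γ`, `(|N|, o(s)) = 1`.  For an irreducible character `χh` of `Γ` whose restriction to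
`N` is irreducible and whose determinantal order is coprime to `o(s)` (the canonical extension):
* `canonical_pow`: `χh (x ^ m) = χh x` for `m` coprime to `|Γ|` with `m ≡ 1 mod |N|`;
* `canonical_gen`: `χh (c s ^ k) = χh (c s)` for `c ∈ C_N(s)` and `k` coprime to `o(s)`.
-/

set_option autoImplicit false

universe u

namespace Cfsg.Agent.Lib.H24.Glaub

open Cfsg Cfsg.Agent.Lib.L0 Cfsg.Agent.Lib.H23 Cfsg.Agent.Lib.H8
open scoped ComplexConjugate

variable {Γ : Type u} [Group Γ] [Fintype Γ] (N : Subgroup Γ) [hN : N.Normal] (s : Γ)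

/-- `Γ = N⟨s⟩` with `s` of order coprime to `|N|`. -/
structure CycSetup : Prop where
  gen : ∀ x : Γ, ∃ n ∈ N, ∃ k : ℕ, x = n * s ^ k
  cop : (Nat.card N).Coprime (orderOf s)

variable {N s}

theorem CycSetup.index_dvd (h : CycSetup N s) : N.index ∣ orderOf s := by
  have h1 : ∀ y : Γ ⧸ N, y ∈ Subgroup.zpowers (QuotientGroup.mk' N s) := by
    intro y
    obtain ⟨x, rfl⟩ := QuotientGroup.mk'_surjective N y
    obtain ⟨n, hn, k, rfl⟩ := h.gen x
    rw [map_mul, map_pow]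
    have : QuotientGroup.mk' N n = 1 := (QuotientGroup.eq_one_iff n).mpr hn
    rw [this, one_mul]
    exact Subgroup.pow_mem _ (Subgroup.mem_zpowers _) k
  rw [Subgroup.index_eq_card, ← orderOf_eq_card_of_forall_mem_zpowers h1]
  exact orderOf_map_dvd _ s

theorem CycSetup.card_dvd (h : CycSetup N s) : Nat.card Γ ∣ Nat.card N * orderOf s := by
  rw [← Subgroup.card_mul_index N]
  exact Nat.mul_dvd_mul_left _ h.index_dvd

theorem CycSetup.normalizer (_h : CycSetup N s) : s ∈ Subgroup.normalizer (N : Set Γ) := by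
  rw [Subgroup.normalizer_eq_top]
  trivial

theorem pow_eq_self_of_modEq {n : Γ} (hn : n ∈ N) {m : ℕ} (hm : m ≡ 1 [MOD Nat.card N]) :
    n ^ m = n := by
  have h1 : (⟨n, hn⟩ : N) ^ m = (⟨n, hn⟩ : N) ^ 1 := by
    rw [pow_eq_pow_iff_modEq]
    exact hm.of_dvd (orderOf_dvd_natCard _)
  have h2 := congrArg (Subtype.val : N → Γ) h1
  rw [Subgroup.coe_pow, Subgroup.coe_pow, pow_one] at h2
  exact h2

theorem detOrder_dvd_card {K : Type*} [Group K] [Finite K] {ψ : K → ℂ} (hψ : IsCharacter K ψ) :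
    Cfsg.detOrder ψ ∣ Nat.card K := by
  obtain ⟨f, hf⟩ := exists_hom_detChar hψ
  unfold Cfsg.detOrder
  rw [hf, orderOf_homToFun]
  apply orderOf_dvd_of_pow_eq_one
  ext g
  rw [MonoidHom.pow_apply, ← map_pow, pow_card_eq_one', map_one, MonoidHom.one_apply]

/-- Two irreducible extensions to `Γ` of the same irreducible character of `N` with determinantal
orders coprime to `o(s)` coincide. -/
theorem CycSetup.ext_unique (h : CycSetup N s) {χ₁ χ₂ : Γ → ℂ} (h₁ : IsIrrCharacter Γ χ₁)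
    (h₂ : IsIrrCharacter Γ χ₂) (hirr : IsIrrCharacter N (fun n : N => χ₁ n))
    (hres : ∀ n : N, χ₂ n = χ₁ n)
    (hd₁ : (Cfsg.detOrder χ₁).Coprime (orderOf s)) (hd₂ : (Cfsg.detOrder χ₂).Coprime (orderOf s)) :
    χ₂ = χ₁ := by
  set ϑ : N → ℂ := fun n : N => χ₁ n with hϑ
  have hinv : ∀ (g : Γ) (n : N), ϑ ⟨g * n * g⁻¹, hN.conj_mem (n : Γ) n.2 g⟩ = ϑ n := by
    intro g n
    exact isClassFunction_of_isCharacter (isCharacter_of_irr h₁) n g
  obtain ⟨d, _, hd, hdvd⟩ := irr_apply_one_dvd_card ϑ hirr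
  have hcop : Nat.Coprime N.index (Cfsg.detOrder ϑ * d) := by
    have h3 : Nat.Coprime (orderOf s) (Cfsg.detOrder ϑ * d) := by
      apply Nat.Coprime.mul_right
      · exact (Nat.Coprime.coprime_dvd_left (detOrder_dvd_card (isCharacter_of_irr hirr))
          h.cop).symm
      · exact (Nat.Coprime.coprime_dvd_left hdvd h.cop).symm
    exact Nat.Coprime.coprime_dvd_left h.index_dvd h3
  obtain ⟨χ₀, _, huniq⟩ := exists_unique_extension_coprime N ϑ hirr hinv d hd hcop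
  have e₁ : χ₁ = χ₀ := huniq χ₁ h₁ (fun n => rfl)
    (Nat.Coprime.coprime_dvd_left h.index_dvd hd₁.symm)
  have e₂ : χ₂ = χ₀ := huniq χ₂ h₂ hres
    (Nat.Coprime.coprime_dvd_left h.index_dvd hd₂.symm)
  rw [e₁, e₂]

/-- The canonical extension is fixed by Galois conjugations trivial on `|N|`-th roots of unity. -/
theorem CycSetup.canonical_pow (h : CycSetup N s) {χh : Γ → ℂ} (h₁ : IsIrrCharacter Γ χh)
    (hirr : IsIrrCharacter N (fun n : N => χh n))
    (hd : (Cfsg.detOrder χh).Coprime (orderOf s)) {m : ℕ} (hm : m.Coprime (Nat.card Γ))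
    (hm1 : m ≡ 1 [MOD Nat.card N]) (x : Γ) : χh (x ^ m) = χh x := by
  have h2 : IsIrrCharacter Γ (fun g => χh (g ^ m)) := isIrrCharacter_galoisConj h₁ m hm
  have h3 : ∀ n : N, (fun g => χh (g ^ m)) n = χh n := by
    intro n
    show χh ((n : Γ) ^ m) = χh n
    rw [pow_eq_self_of_modEq n.2 hm1]
  have h4 : (Cfsg.detOrder (fun g => χh (g ^ m))).Coprime (orderOf s) :=
    Nat.Coprime.coprime_dvd_left (detOrder_galoisConj_dvd (isCharacter_of_irr h₁) m hm) hd
  have h5 := h.ext_unique h₁ h2 hirr h3 hd h4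
  exact congrFun h5 x

/-- For `k` coprime to `o(s)` there is `m` coprime to `|Γ|` with `m ≡ 1 mod |N|`, `m ≡ k mod o(s)`. -/
theorem CycSetup.exists_exponent (h : CycSetup N s) {k : ℕ} (hk : k.Coprime (orderOf s)) :
    ∃ m : ℕ, m.Coprime (Nat.card Γ) ∧ m ≡ 1 [MOD Nat.card N] ∧ m ≡ k [MOD orderOf s] := by
  obtain ⟨m, hm1, hm2⟩ := Nat.chineseRemainder h.cop 1 k
  refine ⟨m, ?_, hm1, hm2⟩
  apply Nat.Coprime.coprime_dvd_right h.card_dvd
  apply Nat.Coprime.mul_right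
  · have h1 : Nat.gcd m (Nat.card N) = Nat.gcd 1 (Nat.card N) := hm1.gcd_eq
    rw [Nat.Coprime, h1, Nat.gcd_one_left]
  · have h1 : Nat.gcd m (orderOf s) = Nat.gcd k (orderOf s) := hm2.gcd_eq
    rw [Nat.Coprime, h1]
    exact hk

theorem CycSetup.canonical_gen (h : CycSetup N s) {χh : Γ → ℂ} (h₁ : IsIrrCharacter Γ χh)
    (hirr : IsIrrCharacter N (fun n : N => χh n))
    (hd : (Cfsg.detOrder χh).Coprime (orderOf s)) {k : ℕ} (hk : k.Coprime (orderOf s))
    {c : Γ} (hc : c ∈ fixedSub N s) : χh (c * s ^ k) = χh (c * s) := by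
  obtain ⟨m, hm, hm1, hm2⟩ := h.exists_exponent hk
  rw [mem_fixedSub] at hc
  have h2 : (c * s) ^ m = c * s ^ k := by
    rw [(show Commute c s from hc.2).mul_pow, pow_eq_self_of_modEq hc.1 hm1]
    congr 1
    exact pow_eq_pow_iff_modEq.mpr hm2
  rw [← h2]
  exact h.canonical_pow h₁ hirr hd hm hm1 (c * s)

end Cfsg.Agent.Lib.H24.Glaub
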