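import Cfsg.Agent.Lib.H24.PResidualChar
import Cfsg.Agent.Lib.H24.GlaubCyclic1
import Cfsg.Agent.Lib.H23.ExtGeneral
import Cfsg.Agent.Lib.H23.ExtDet

/-!
# Characters of degree prime to the index of a normal Hall subgroup (helper24)

`K ⊴ G` with `(|K|, |G:K|) = 1`:
* `isIrrCharacter_restrict_of_coprime`: `χ ∈ Irr(G)` with `(χ(1), |G:K|) = 1` restricts
  irreducibly to `K` (no Hall hypothesis needed);
* `exists_extension_of_hall`: every `G`-invariant `θ ∈ Irr(K)` extends to `G`;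
* `card_coprime_degree`: the number of `χ ∈ Irr(G)` with `(χ(1), |G:K|) = 1` is
  `|Irr_G(K)| · |Hom(G/K, ℂˣ)|`.
-/

set_option autoImplicit false

universe u

namespace Cfsg.Agent.Lib.H24

open Cfsg Cfsg.Agent.Lib.L0 Cfsg.Agent.Lib.H23

variable {G : Type u} [Group G] [Fintype G] (K : Subgroup G) [hK : K.Normal]

theorem isIrrCharacter_restrict_of_coprime [Fintype K] (χ : G → ℂ) (hχ : IsIrrCharacter G χ)
    (hdeg : (Cfsg.charDegree χ).Coprime K.index) : IsIrrCharacter K (fun n : K => χ n) := by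
  classical
  have hχc := isCharacter_of_irr hχ
  have hres : IsCharacter K (fun n : K => χ n) := isCharacter_restrict K hχc
  have hc1 : χ 1 = (Cfsg.charDegree χ : ℂ) := apply_one_eq_charDegree χ hχ
  have hcpos : 0 < Cfsg.charDegree χ := Cfsg.Agent.Lib.H23.charDegree_pos χ hχ
  have hres1 : (fun n : K => χ n) 1 ≠ 0 := by
    show χ ((1 : K) : G) ≠ 0
    rw [Subgroup.coe_one, hc1]
    exact Nat.cast_ne_zero.mpr hcpos.ne'
  obtain ⟨ϑ, hϑ, hcon⟩ := exists_irr_constituent hres hres1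
  have hd1 : ϑ 1 = (Cfsg.charDegree ϑ : ℂ) := apply_one_eq_charDegree ϑ hϑ
  obtain ⟨h1, h2⟩ := Cfsg.Agent.S0887.result K χ hχ ϑ hϑ hcon _ _ hc1 hd1
  have h3 : Cfsg.charDegree χ = Cfsg.charDegree ϑ * (Cfsg.charDegree χ / Cfsg.charDegree ϑ) :=
    (Nat.mul_div_cancel' h1).symm
  have h5 : Cfsg.charDegree χ / Cfsg.charDegree ϑ ∣ Cfsg.charDegree χ := Dvd.intro_left _ h3.symm
  have h6 : Cfsg.charDegree χ / Cfsg.charDegree ϑ = 1 :=
    Nat.eq_one_of_dvd_coprimes hdeg h5 h2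
  rw [h6, mul_one] at h3
  have h4 : χ 1 = ϑ 1 := by rw [hc1, hd1, h3]
  rw [restrict_eq_of_degree_eq K χ hχ ϑ hϑ hcon h4]
  exact hϑ

/-- Invariant irreducible characters of a normal Hall subgroup extend. -/
theorem exists_extension_of_hall (hcop : (Nat.card K).Coprime K.index) (θ : K → ℂ)
    (hθ : IsIrrCharacter K θ)
    (hinv : ∀ (g : G) (n : K), θ ⟨g * n * g⁻¹, hK.conj_mem (n : G) n.2 g⟩ = θ n) :
    ∃ χ : G → ℂ, IsIrrCharacter G χ ∧ ∀ n : K, χ n = θ n := by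
  have hd1 : θ 1 = (Cfsg.charDegree θ : ℂ) := apply_one_eq_charDegree θ hθ
  have h1 : Cfsg.detOrder θ ∣ Nat.card K :=
    Cfsg.Agent.Lib.H24.Glaub.detOrder_dvd_card (isCharacter_of_irr hθ)
  have h2 : Cfsg.charDegree θ ∣ Nat.card K := Cfsg.Agent.Lib.H23.charDegree_dvd_card θ hθ
  have hcop' : Nat.Coprime K.index (Cfsg.detOrder θ * Cfsg.charDegree θ) := by
    apply Nat.Coprime.mul_right
    · exact (Nat.Coprime.coprime_dvd_left h1 hcop).symm
    · exact (Nat.Coprime.coprime_dvd_left h2 hcop).symm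
  obtain ⟨χ, ⟨hχ, hχK, -⟩, -⟩ :=
    exists_unique_extension_coprime K θ hθ hinv (Cfsg.charDegree θ) hd1 hcop'
  exact ⟨χ, hχ, hχK⟩

theorem card_coprime_degree (hcop : (Nat.card K).Coprime K.index) :
    Nat.card {χ : IrrCharacter G // (Cfsg.charDegree (χ : G → ℂ)).Coprime K.index} =
      Nat.card {θ : IrrCharacter K // ∀ (g : G) (n : K),
        (θ : K → ℂ) ⟨g * n * g⁻¹, hK.conj_mem (n : G) n.2 g⟩ = (θ : K → ℂ) n} *
      Nat.card {μ : G →* ℂˣ // ∀ k : K, μ k = 1} := by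
  classical
  letI : Fintype K := Fintype.ofFinite _
  -- chosen extensions
  have hex : ∀ θ : {θ : IrrCharacter K // ∀ (g : G) (n : K),
        (θ : K → ℂ) ⟨g * n * g⁻¹, hK.conj_mem (n : G) n.2 g⟩ = (θ : K → ℂ) n},
      ∃ χ : G → ℂ, IsIrrCharacter G χ ∧ ∀ n : K, χ n = (θ.1 : K → ℂ) n :=
    fun θ => exists_extension_of_hall K hcop θ.1.1 θ.1.2 θ.2
  choose E hE hEK using hex
  have hdegE : ∀ θ (μ : G →* ℂˣ), Cfsg.charDegree (E θ * homToFun G μ) =
      Cfsg.charDegree (θ.1 : K → ℂ) := by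
    intro θ μ
    apply charDegree_eq_of_apply_one
    rw [Pi.mul_apply, homToFun_apply, map_one, Units.val_one, mul_one]
    have h1 := hEK θ 1
    rw [Subgroup.coe_one] at h1
    rw [h1]
    exact apply_one_eq_charDegree _ θ.1.2
  have hirrE : ∀ θ (μ : G →* ℂˣ), IsIrrCharacter G (E θ * homToFun G μ) :=
    fun θ μ => isIrrCharacter_mul_hom (E θ) (hE θ) μ
  have hcopE : ∀ θ (μ : G →* ℂˣ), (Cfsg.charDegree (E θ * homToFun G μ)).Coprime K.index := by
    intro θ μ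
    rw [hdegE]
    exact Nat.Coprime.coprime_dvd_left (Cfsg.Agent.Lib.H23.charDegree_dvd_card _ θ.1.2) hcop
  rw [← Nat.card_prod]
  symm
  refine Nat.card_eq_of_bijective
    (fun x : {θ : IrrCharacter K // ∀ (g : G) (n : K),
        (θ : K → ℂ) ⟨g * n * g⁻¹, hK.conj_mem (n : G) n.2 g⟩ = (θ : K → ℂ) n} ×
        {μ : G →* ℂˣ // ∀ k : K, μ k = 1} =>
      (⟨⟨E x.1 * homToFun G x.2.1, hirrE x.1 x.2.1⟩, hcopE x.1 x.2.1⟩ :
        {χ : IrrCharacter G // (Cfsg.charDegree (χ : G → ℂ)).Coprime K.index})) ⟨?_, ?_⟩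
  · rintro ⟨θ, μ⟩ ⟨θ', μ'⟩ h
    have h0 : E θ * homToFun G μ.1 = E θ' * homToFun G μ'.1 :=
      congrArg (fun z => (z.1.1 : G → ℂ)) h
    have hθ : θ = θ' := by
      apply Subtype.ext
      apply Subtype.ext
      funext n
      have h1 := congrFun h0 n
      rw [Pi.mul_apply, Pi.mul_apply, homToFun_apply, homToFun_apply, μ.2 n, μ'.2 n,
        Units.val_one, mul_one, mul_one, hEK, hEK] at h1
      exact h1
    subst hθ
    have hμ : μ = μ' := by
      apply Subtype.ext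
      set ϑ : K → ℂ := fun n : K => E θ n with hϑ
      have hϑθ : ϑ = (θ.1 : K → ℂ) := funext (hEK θ)
      have hone : IsIrrCharacter K (1 : K → ℂ) := Cfsg.Agent.Lib.L0.isIrrCharacter_one
      have hηcf := isClassFunction_of_isCharacter (isCharacter_of_irr (hE θ))
      have hϑinv : ∀ (g : G) (n : K), ϑ ⟨g * n * g⁻¹, hK.conj_mem (n : G) n.2 g⟩ = ϑ n :=
        fun g n => hηcf n g
      have honeinv : ∀ (g : G) (n : K),
          (1 : K → ℂ) ⟨g * n * g⁻¹, hK.conj_mem (n : G) n.2 g⟩ = (1 : K → ℂ) n := fun g n => rfl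
      have hprod : IsIrrCharacter K ((1 : K → ℂ) * ϑ) := by
        rw [one_mul, hϑθ]
        exact θ.1.2
      have hcons : ∀ ν : {μ : G →* ℂˣ // ∀ k : K, μ k = 1},
          classInner (Cfsg.indFun K (1 : K → ℂ)) (homIrr ν.1 : G → ℂ) ≠ 0 := by
        intro ν
        rw [Cfsg.Agent.Lib.L0.frobenius_reciprocity K (1 : K → ℂ) (homIrr ν.1 : G → ℂ)
          (isClassFunction_of_isCharacter (isCharacter_of_irr (homIrr ν.1).2))]
        have h2 : (fun h : K => (homIrr ν.1 : G → ℂ) h) = (1 : K → ℂ) := by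
          funext n
          rw [homIrr_apply, ν.2 n]
          rfl
        rw [h2, irr_classInner_self hone]
        exact one_ne_zero
      have hg := gallagher_orthonormal K (1 : K → ℂ) ϑ hone honeinv hϑinv hprod (E θ) (hE θ)
        (fun n => rfl) (homIrr μ.1) (homIrr μ'.1) (hcons μ) (hcons μ')
      have h3 : (homIrr μ.1 : G → ℂ) * E θ = (homIrr μ'.1 : G → ℂ) * E θ := by
        have e1 : (homIrr μ.1 : G → ℂ) = homToFun G μ.1 := rfl
        have e2 : (homIrr μ'.1 : G → ℂ) = homToFun G μ'.1 := rfl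
        rw [e1, e2, mul_comm, h0, mul_comm]
      rw [h3] at hg
      have h4 : IsIrrCharacter G ((homIrr μ'.1 : G → ℂ) * E θ) := by
        have e2 : (homIrr μ'.1 : G → ℂ) = homToFun G μ'.1 := rfl
        rw [e2, mul_comm]
        exact hirrE θ μ'.1
      rw [irr_classInner_self h4] at hg
      by_contra hne
      rw [if_neg (fun h => hne (homIrr_injective h))] at hg
      exact one_ne_zero hg
    rw [hμ]
  · rintro ⟨χ, hχ⟩
    have hχK : IsIrrCharacter K (fun n : K => (χ : G → ℂ) n) :=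
      isIrrCharacter_restrict_of_coprime K χ.1 χ.2 hχ
    have hχcf := isClassFunction_of_isCharacter (isCharacter_of_irr χ.2)
    set θ : {θ : IrrCharacter K // ∀ (g : G) (n : K),
        (θ : K → ℂ) ⟨g * n * g⁻¹, hK.conj_mem (n : G) n.2 g⟩ = (θ : K → ℂ) n} :=
      ⟨⟨fun n : K => (χ : G → ℂ) n, hχK⟩, fun g n => hχcf n g⟩ with hθ
    have hEθ : IsIrrCharacter K (fun n : K => E θ n) := by
      have : (fun n : K => E θ n) = (θ.1 : K → ℂ) := funext (hEK θ)
      rw [this]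
      exact θ.1.2
    obtain ⟨β, hβK, hβ⟩ := exists_hom_of_restrict_eq K (hE θ) χ.2 hEθ
      (fun n => (hEK θ n).symm)
    refine ⟨(θ, ⟨β, hβK⟩), ?_⟩
    apply Subtype.ext
    apply Subtype.ext
    exact hβ.symm

end Cfsg.Agent.Lib.H24
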