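import Cfsg.Agent.Lib.H12.LS2Defs

/-!
# S2333 piece LS2-D2 (helper24): characters of `Symm n F` give quadratic forms (`char F = 2`)

Fix a primitive additive character `χ` of the finite field `F`.  For an additive character `ψ` of the group of
symmetric matrices and a symmetric matrix `S`, `a ↦ ψ (a • S)` is a character of `F`, hence `a ↦ χ (c * a)` for a
unique `c =: coef ψ S`; `coef ψ` is additive and homogeneous, and `R ψ v := coef ψ (v vᵀ)` is a quadratic form with
polar form `coef ψ (u wᵀ + w uᵀ)` (construction B of the blueprint).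
-/

set_option autoImplicit false

namespace Cfsg.Agent.Lib.H24.LS2

open Matrix Cfsg.Agent.Lib.H12.LS2

variable {F : Type*} [Field F]

/-- scalar multiple of a symmetric matrix -/
def smulS {n : ℕ} (a : F) (S : Symm n F) : Symm n F :=
  ⟨a • (S : Matrix (Fin n) (Fin n) F), by
    have h : (S : Matrix (Fin n) (Fin n) F)ᵀ = S := S.2
    show (a • (S : Matrix (Fin n) (Fin n) F))ᵀ = a • (S : Matrix (Fin n) (Fin n) F)
    rw [Matrix.transpose_smul, h]⟩

theorem smulS_val {n : ℕ} (a : F) (S : Symm n F) :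
    ((smulS a S : Symm n F) : Matrix (Fin n) (Fin n) F) = a • (S : Matrix (Fin n) (Fin n) F) := rfl

/-- `a ↦ a • S` as an additive map -/
def smulHom {n : ℕ} (S : Symm n F) : F →+ Symm n F where
  toFun a := smulS a S
  map_zero' := Subtype.ext (by rw [smulS_val, zero_smul]; rfl)
  map_add' a b := Subtype.ext (by
    rw [AddSubgroup.coe_add, smulS_val, smulS_val, smulS_val, add_smul])

theorem smulHom_apply {n : ℕ} (S : Symm n F) (a : F) : smulHom S a = smulS a S := rfl

/-- `v vᵀ` -/
def vv {n : ℕ} (v : Fin n → F) : Symm n F :=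
  ⟨vecMulVec v v, by
    show (vecMulVec v v)ᵀ = vecMulVec v v
    rw [Matrix.transpose_vecMulVec]⟩

theorem vv_val {n : ℕ} (v : Fin n → F) :
    ((vv v : Symm n F) : Matrix (Fin n) (Fin n) F) = vecMulVec v v := rfl

/-- `u wᵀ + w uᵀ` -/
def uw {n : ℕ} (u w : Fin n → F) : Symm n F :=
  ⟨vecMulVec u w + vecMulVec w u, by
    show (vecMulVec u w + vecMulVec w u)ᵀ = vecMulVec u w + vecMulVec w u
    rw [Matrix.transpose_add, Matrix.transpose_vecMulVec, Matrix.transpose_vecMulVec, add_comm]⟩

theorem uw_val {n : ℕ} (u w : Fin n → F) :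
    ((uw u w : Symm n F) : Matrix (Fin n) (Fin n) F) = vecMulVec u w + vecMulVec w u := rfl

section fin
variable [Fintype F]

/-- the fixed primitive character -/
noncomputable def chi0 (F : Type*) [Field F] [Fintype F] : AddChar F ℂ :=
  AddChar.FiniteField.primitiveChar_to_Complex F

theorem chi0_prim : (chi0 F).IsPrimitive :=
  AddChar.FiniteField.primitiveChar_to_Complex_isPrimitive F

/-- every additive character of `F` is a shift of `χ` -/
theorem exists_shift (φ : AddChar F ℂ) : ∃ c : F, ∀ a, φ a = chi0 F (c * a) := by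
  classical
  have hinj : Function.Injective (chi0 F).mulShift :=
    AddChar.to_mulShift_inj_of_isPrimitive chi0_prim
  have hbij : Function.Bijective (chi0 F).mulShift := by
    rw [Fintype.bijective_iff_injective_and_card]
    exact ⟨hinj, AddChar.card_eq.symm⟩
  obtain ⟨c, hc⟩ := hbij.2 φ
  refine ⟨c, fun a => ?_⟩
  rw [← hc, AddChar.mulShift_apply]

theorem shift_unique {c c' : F} (h : ∀ a, chi0 F (c * a) = chi0 F (c' * a)) : c = c' := by
  apply AddChar.to_mulShift_inj_of_isPrimitive (chi0_prim (F := F))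
  apply DFunLike.ext
  intro a
  rw [AddChar.mulShift_apply, AddChar.mulShift_apply]
  exact h a

variable {n : ℕ}

/-- the coefficient of `ψ` at the symmetric matrix `S` -/
noncomputable def coef (ψ : AddChar (Symm n F) ℂ) (S : Symm n F) : F :=
  Classical.choose (exists_shift (ψ.compAddMonoidHom (smulHom S)))

theorem coef_spec (ψ : AddChar (Symm n F) ℂ) (S : Symm n F) (a : F) :
    ψ (smulS a S) = chi0 F (coef ψ S * a) := by
  have := Classical.choose_spec (exists_shift (ψ.compAddMonoidHom (smulHom S))) a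
  rw [AddChar.compAddMonoidHom_apply, smulHom_apply] at this
  exact this

theorem coef_eq (ψ : AddChar (Symm n F) ℂ) (S : Symm n F) (c : F)
    (h : ∀ a, ψ (smulS a S) = chi0 F (c * a)) : coef ψ S = c :=
  shift_unique (fun a => by rw [← coef_spec, h])

theorem smulS_add (a : F) (S S' : Symm n F) : smulS a (S + S') = smulS a S + smulS a S' :=
  Subtype.ext (by
    rw [AddSubgroup.coe_add, smulS_val, smulS_val, smulS_val, AddSubgroup.coe_add, smul_add])

theorem smulS_smulS (a b : F) (S : Symm n F) : smulS a (smulS b S) = smulS (b * a) S :=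
  Subtype.ext (by rw [smulS_val, smulS_val, smulS_val, smul_smul, mul_comm])

theorem smulS_one (S : Symm n F) : smulS 1 S = S :=
  Subtype.ext (by rw [smulS_val, one_smul])

theorem coef_add (ψ : AddChar (Symm n F) ℂ) (S S' : Symm n F) :
    coef ψ (S + S') = coef ψ S + coef ψ S' := by
  apply coef_eq
  intro a
  rw [smulS_add, AddChar.map_add_eq_mul, coef_spec, coef_spec, ← AddChar.map_add_eq_mul, add_mul]

theorem coef_smul (ψ : AddChar (Symm n F) ℂ) (b : F) (S : Symm n F) :
    coef ψ (smulS b S) = b * coef ψ S := by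
  apply coef_eq
  intro a
  rw [smulS_smulS, coef_spec]
  congr 1
  ring

theorem psi_eq (ψ : AddChar (Symm n F) ℂ) (S : Symm n F) : ψ S = chi0 F (coef ψ S) := by
  have := coef_spec ψ S 1
  rwa [smulS_one, mul_one] at this

theorem vv_smul (a : F) (v : Fin n → F) : vv (a • v) = smulS (a * a) (vv v) :=
  Subtype.ext (by
    rw [smulS_val, vv_val, vv_val, Matrix.smul_vecMulVec, Matrix.vecMulVec_smul, smul_smul])

theorem vv_add (u w : Fin n → F) : vv (u + w) = vv u + vv w + uw u w :=
  Subtype.ext (by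
    rw [AddSubgroup.coe_add, AddSubgroup.coe_add, vv_val, vv_val, vv_val, uw_val,
      Matrix.add_vecMulVec, Matrix.vecMulVec_add, Matrix.vecMulVec_add]
    abel)

theorem uw_add_left (u u' w : Fin n → F) : uw (u + u') w = uw u w + uw u' w :=
  Subtype.ext (by
    rw [AddSubgroup.coe_add, uw_val, uw_val, uw_val, Matrix.add_vecMulVec, Matrix.vecMulVec_add]
    abel)

theorem uw_smul_left (a : F) (u w : Fin n → F) : uw (a • u) w = smulS a (uw u w) :=
  Subtype.ext (by
    rw [smulS_val, uw_val, uw_val, Matrix.smul_vecMulVec, Matrix.vecMulVec_smul, smul_add])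

theorem uw_comm (u w : Fin n → F) : uw u w = uw w u :=
  Subtype.ext (by rw [uw_val, uw_val, add_comm])

/-- the polar form of `R ψ` -/
noncomputable def polB (ψ : AddChar (Symm n F) ℂ) : LinearMap.BilinMap F (Fin n → F) F :=
  LinearMap.mk₂ F (fun u w => coef ψ (uw u w))
    (fun u u' w => by rw [uw_add_left, coef_add])
    (fun a u w => by rw [uw_smul_left, coef_smul, smul_eq_mul])
    (fun u w w' => by rw [uw_comm u (w + w'), uw_add_left, coef_add, uw_comm w u, uw_comm w' u])
    (fun a u w => by rw [uw_comm u (a • w), uw_smul_left, coef_smul, smul_eq_mul, uw_comm w u])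

theorem polB_apply (ψ : AddChar (Symm n F) ℂ) (u w : Fin n → F) :
    polB ψ u w = coef ψ (uw u w) := rfl

/-- the quadratic form of a character -/
noncomputable def Rq (ψ : AddChar (Symm n F) ℂ) : QuadraticForm F (Fin n → F) where
  toFun v := coef ψ (vv v)
  toFun_smul a v := by rw [vv_smul, coef_smul, smul_eq_mul]
  exists_companion' := ⟨polB ψ, fun u w => by rw [vv_add, coef_add, coef_add, polB_apply]⟩

theorem Rq_apply (ψ : AddChar (Symm n F) ℂ) (v : Fin n → F) : Rq ψ v = coef ψ (vv v) := rfl

theorem polar_Rq (ψ : AddChar (Symm n F) ℂ) (u w : Fin n → F) :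
    QuadraticMap.polar (Rq ψ) u w = coef ψ (uw u w) := by
  unfold QuadraticMap.polar
  rw [Rq_apply, Rq_apply, Rq_apply, vv_add, coef_add, coef_add]
  ring

end fin

theorem addChar_sum {A : Type*} [AddCommGroup A] {ι : Type*} (ψ : AddChar A ℂ) (s : Finset ι)
    (f : ι → A) : ψ (∑ i ∈ s, f i) = ∏ i ∈ s, ψ (f i) := by
  classical
  induction s using Finset.induction_on with
  | empty => simp
  | insert a s ha ih =>
    rw [Finset.sum_insert ha, Finset.prod_insert ha, AddChar.map_add_eq_mul, ih]

/-- a symmetric matrix with zero diagonal is a sum of matrices `e_i yᵀ + y e_iᵀ` -/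
theorem eq_sum_uw {n : ℕ} (X : Symm n F) (hX : ∀ i, (X : Matrix (Fin n) (Fin n) F) i i = 0) :
    X = ∑ i : Fin n, uw (Pi.single i (1 : F))
      (fun j => if i < j then (X : Matrix (Fin n) (Fin n) F) i j else 0) := by
  apply Subtype.ext
  have hsymm : (X : Matrix (Fin n) (Fin n) F)ᵀ = X := X.2
  have hcoe : ((∑ i : Fin n, uw (Pi.single i (1 : F))
      (fun j => if i < j then (X : Matrix (Fin n) (Fin n) F) i j else 0) : Symm n F) :
        Matrix (Fin n) (Fin n) F) =
      ∑ i : Fin n, ((uw (Pi.single i (1 : F))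
        (fun j => if i < j then (X : Matrix (Fin n) (Fin n) F) i j else 0) : Symm n F) :
          Matrix (Fin n) (Fin n) F) :=
    map_sum (Symm n F).subtype _ _
  rw [hcoe]
  ext k l
  rw [Matrix.sum_apply]
  simp only [uw_val, Matrix.add_apply, Matrix.vecMulVec_apply]
  rw [Finset.sum_add_distrib]
  have s1 : ∑ i : Fin n, (Pi.single i (1 : F) : Fin n → F) k *
      (if i < l then (X : Matrix (Fin n) (Fin n) F) i l else 0) =
      if k < l then (X : Matrix (Fin n) (Fin n) F) k l else 0 := by
    rw [Finset.sum_eq_single k]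
    · rw [Pi.single_eq_same, one_mul]
    · intro b _ hb
      rw [Pi.single_eq_of_ne (Ne.symm hb), zero_mul]
    · intro h
      exact absurd (Finset.mem_univ k) h
  have s2 : ∑ i : Fin n, (if i < k then (X : Matrix (Fin n) (Fin n) F) i k else 0) *
      (Pi.single i (1 : F) : Fin n → F) l =
      if l < k then (X : Matrix (Fin n) (Fin n) F) l k else 0 := by
    rw [Finset.sum_eq_single l]
    · rw [Pi.single_eq_same, mul_one]
    · intro b _ hb
      rw [Pi.single_eq_of_ne (Ne.symm hb), mul_zero]
    · intro h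
      exact absurd (Finset.mem_univ l) h
  rw [s1, s2]
  rcases lt_trichotomy k l with h | h | h
  · rw [if_pos h, if_neg (not_lt.2 h.le), add_zero]
  · subst h
    rw [if_neg (lt_irrefl _), add_zero, hX]
  · rw [if_neg (not_lt.2 h.le), if_pos h, zero_add]
    have := congrFun (congrFun hsymm k) l
    rw [Matrix.transpose_apply] at this
    exact this.symm

/-- **LS2-D2** -/
theorem exists_quadForm [Fintype F] (h2 : (2 : F) = 0) (n : ℕ) :
    ∃ R : AddChar (Symm n F) ℂ → QuadraticForm F (Fin n → F),
      (∀ (ψ ψ' : AddChar (Symm n F) ℂ) (g : GL (Fin n) F),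
        (∀ X Y : Symm n F, (Y : Matrix (Fin n) (Fin n) F) = g.1 * (X : Matrix (Fin n) (Fin n) F) * g.1ᵀ → ψ' X = ψ Y) →
          ∀ x, R ψ' x = R ψ (g.1.mulVec x)) ∧
      (∀ (ψ : AddChar (Symm n F) ℂ) (X : Symm n F), (∀ i, (X : Matrix (Fin n) (Fin n) F) i i = 0) → ψ X ≠ 1 →
          ∃ u w, QuadraticMap.polar (R ψ) u w ≠ 0) := by
  refine ⟨Rq, ?_, ?_⟩
  · intro ψ ψ' g hyp x
    rw [Rq_apply, Rq_apply]
    apply coef_eq
    intro a
    rw [hyp (smulS a (vv x)) (smulS a (vv (g.1.mulVec x))) ?_, coef_spec]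
    rw [smulS_val, smulS_val, vv_val, vv_val, Matrix.mul_smul, Matrix.smul_mul,
      Matrix.mul_vecMulVec, Matrix.vecMulVec_mul, Matrix.vecMul_transpose]
  · intro ψ X hX hψ
    by_contra hcon
    push Not at hcon
    apply hψ
    rw [eq_sum_uw X hX, addChar_sum]
    apply Finset.prod_eq_one
    intro i _
    rw [psi_eq, ← polar_Rq, hcon, AddChar.map_zero_eq_one]

end Cfsg.Agent.Lib.H24.LS2
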