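import Mathlib

/-!
# S3776: the number-theoretic Lemma N / NC (twin of helper22's seat)

`k ∣ n`, `m * k = 2 ^ n - 1`, `i, j, t < n` and `2 ^ (i + t) + 1 ≡ 2 ^ j + 2 ^ t [MOD m]` force `i = j`.
Small `n` (`n ≤ 20`) by a Bool checker evaluated by the kernel; `n ≥ 21` by rotating the four exponents
into `[0, n - ⌈n/4⌉]` (pigeonhole) and comparing sizes.
-/

set_option autoImplicit false

namespace Cfsg.Agent.Lib.H24.S3776NC

/-! ### binary uniqueness -/

theorem two_pow_sum_ordered {A Z J T : ℕ} (hAZ : A ≤ Z) (hJT : J ≤ T)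
    (h : 2 ^ A + 2 ^ Z = 2 ^ J + 2 ^ T) : A = J ∧ Z = T := by
  have key : ∀ {A Z J T : ℕ}, A ≤ Z → J ≤ T → 2 ^ A + 2 ^ Z = 2 ^ J + 2 ^ T → ¬ A < J := by
    intro A Z J T hAZ hJT h hlt
    obtain ⟨z, rfl⟩ := Nat.exists_eq_add_of_le hAZ
    obtain ⟨j, rfl⟩ := Nat.exists_eq_add_of_lt hlt
    obtain ⟨t, rfl⟩ := Nat.exists_eq_add_of_le hJT
    have hA : 0 < 2 ^ A := by positivity
    have e1 : 2 ^ (A + z) = 2 ^ A * 2 ^ z := pow_add 2 A z
    have e2 : 2 ^ (A + j + 1) = 2 ^ A * (2 * 2 ^ j) := by rw [pow_succ, pow_add]; ring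
    have e3 : 2 ^ (A + j + 1 + t) = 2 ^ A * (2 * 2 ^ j * 2 ^ t) := by
      rw [pow_add, pow_succ, pow_add]; ring
    rw [e1, e2, e3] at h
    have h' : 2 ^ A * (1 + 2 ^ z) = 2 ^ A * (2 * 2 ^ j + 2 * 2 ^ j * 2 ^ t) := by
      rw [mul_add, mul_add, mul_one]; exact h
    have h'' := Nat.eq_of_mul_eq_mul_left hA h'
    have hj : 0 < 2 ^ j := by positivity
    have ht : 0 < 2 ^ t := by positivity
    rcases Nat.eq_zero_or_pos z with hz | hz
    · subst hz
      simp at h''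
      nlinarith
    · obtain ⟨w, rfl⟩ := Nat.exists_eq_succ_of_ne_zero hz.ne'
      rw [pow_succ] at h''
      have : 2 * 2 ^ j * 2 ^ t = 2 * (2 ^ j * 2 ^ t) := by ring
      omega
  have h1 : ¬ A < J := key hAZ hJT h
  have h2 : ¬ J < A := key hJT hAZ h.symm
  have hAJ : A = J := by omega
  subst hAJ
  refine ⟨rfl, ?_⟩
  have : 2 ^ Z = 2 ^ T := by omega
  exact Nat.pow_right_injective (le_refl 2) this

theorem two_pow_sum {A Z J T : ℕ} (h : 2 ^ A + 2 ^ Z = 2 ^ J + 2 ^ T) :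
    (A = J ∧ Z = T) ∨ (A = T ∧ Z = J) := by
  rcases le_total A Z with hAZ | hAZ <;> rcases le_total J T with hJT | hJT
  · exact Or.inl (two_pow_sum_ordered hAZ hJT h)
  · have := two_pow_sum_ordered hAZ hJT (by rw [h, add_comm])
    exact Or.inr this
  · have := two_pow_sum_ordered hAZ hJT (by rw [add_comm, h])
    exact Or.inr ⟨this.2, this.1⟩
  · have := two_pow_sum_ordered hAZ hJT (by rw [add_comm, h, add_comm])
    exact Or.inl ⟨this.2, this.1⟩

/-! ### reduction of exponents -/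

theorem pow_n_modEq {n k m : ℕ} (hm : m * k = 2 ^ n - 1) : 2 ^ n ≡ 1 [MOD m] := by
  have h1 : 1 ≤ 2 ^ n := Nat.one_le_two_pow
  exact ((Nat.modEq_iff_dvd' h1).2 ⟨k, hm.symm⟩).symm

theorem pow_mod_modEq {n m : ℕ} (h : 2 ^ n ≡ 1 [MOD m]) (e : ℕ) : 2 ^ e ≡ 2 ^ (e % n) [MOD m] := by
  conv_lhs => rw [← Nat.div_add_mod e n, pow_add, pow_mul]
  have : (2 ^ n) ^ (e / n) ≡ 1 ^ (e / n) [MOD m] := h.pow _
  rw [one_pow] at this
  simpa using this.mul_right (2 ^ (e % n))

/-! ### the rotation (pigeonhole) -/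

theorem bad_card (n g e : ℕ) (hn : 0 < n) :
    ((Finset.range n).filter (fun s => n - g < (e + s) % n)).card ≤ g - 1 := by
  have hsub : ∀ s ∈ (Finset.range n).filter (fun s => n - g < (e + s) % n),
      (e + s) % n ∈ Finset.Ioo (n - g) n := by
    intro s hs
    rw [Finset.mem_filter] at hs
    rw [Finset.mem_Ioo]
    exact ⟨hs.2, Nat.mod_lt _ hn⟩
  have hinj : Set.InjOn (fun s => (e + s) % n)
      ((Finset.range n).filter (fun s => n - g < (e + s) % n) : Finset ℕ) := by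
    intro s hs s' hs' hss
    rw [Finset.mem_coe, Finset.mem_filter, Finset.mem_range] at hs hs'
    have h1 : e + s ≡ e + s' [MOD n] := hss
    have h2 : s ≡ s' [MOD n] := Nat.ModEq.add_left_cancel' e h1
    exact Nat.ModEq.eq_of_lt_of_lt h2 hs.1 hs'.1
  have := Finset.card_le_card_of_injOn (fun s => (e + s) % n) hsub hinj
  rw [Nat.card_Ioo] at this
  omega

theorem exists_rotation (n e1 e2 e3 e4 : ℕ) (hn : 0 < n) :
    ∃ s < n, (e1 + s) % n ≤ n - (n + 3) / 4 ∧ (e2 + s) % n ≤ n - (n + 3) / 4 ∧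
      (e3 + s) % n ≤ n - (n + 3) / 4 ∧ (e4 + s) % n ≤ n - (n + 3) / 4 := by
  classical
  set g := (n + 3) / 4 with hg
  set B : ℕ → Finset ℕ := fun e => (Finset.range n).filter (fun s => n - g < (e + s) % n) with hB
  have hcard : (B e1 ∪ B e2 ∪ B e3 ∪ B e4).card < (Finset.range n).card := by
    have h1 := bad_card n g e1 hn
    have h2 := bad_card n g e2 hn
    have h3 := bad_card n g e3 hn
    have h4 := bad_card n g e4 hn
    have u1 := Finset.card_union_le (B e1 ∪ B e2 ∪ B e3) (B e4)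
    have u2 := Finset.card_union_le (B e1 ∪ B e2) (B e3)
    have u3 := Finset.card_union_le (B e1) (B e2)
    rw [Finset.card_range]
    simp only [hB] at u1 u2 u3 ⊢
    omega
  obtain ⟨s, hs, hns⟩ := Finset.exists_mem_notMem_of_card_lt_card hcard
  rw [Finset.mem_range] at hs
  refine ⟨s, hs, ?_, ?_, ?_, ?_⟩
  all_goals
    by_contra hcon
    apply hns
    simp only [hB, Finset.mem_union, Finset.mem_filter, Finset.mem_range]
    push Not at hcon
    tauto

/-! ### the size bound -/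

theorem eight_mul_lt (g : ℕ) (hg : 6 ≤ g) : 8 * g < 2 ^ g := by
  induction g, hg using Nat.le_induction with
  | base => norm_num
  | succ g hg ih => rw [pow_succ]; omega

theorem size_bound {n k m : ℕ} (hn : 21 ≤ n) (hk : k ∣ n) (hm : m * k = 2 ^ n - 1) :
    2 ^ (n - (n + 3) / 4 + 1) < m := by
  set g := (n + 3) / 4 with hg
  have hg6 : 6 ≤ g := by omega
  have hgn : g ≤ n := by omega
  have h8 := eight_mul_lt g hg6
  have h2n : 2 * n + 1 ≤ 2 ^ g := by omega
  have hkn : k ≤ n := Nat.le_of_dvd (by omega) hk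
  have hsplit : 2 ^ n = 2 ^ g * 2 ^ (n - g) := by rw [← pow_add]; congr 1; omega
  have hP : 2 ≤ 2 ^ (n - g) := by
    calc 2 = 2 ^ 1 := by norm_num
      _ ≤ 2 ^ (n - g) := Nat.pow_le_pow_right (by norm_num) (by omega)
  have h1 : 1 ≤ 2 ^ n := Nat.one_le_two_pow
  rw [pow_succ]
  by_contra hcon
  push Not at hcon
  -- m ≤ 2P, k ≤ n, so m k ≤ 2 P n ≤ P (Q - 1) ≤ 2^n - 2
  have hmk : m * k ≤ 2 ^ (n - g) * 2 * n := Nat.mul_le_mul hcon hkn
  have : 2 ^ (n - g) * 2 * n + 2 ^ (n - g) ≤ 2 ^ g * 2 ^ (n - g) := by nlinarith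
  omega

/-! ### small `n` -/

/-- the Bool checker for a given `n`: all `k ∣ n` with `k ∣ 2 ^ n - 1`. -/
def chkN (n : ℕ) : Bool :=
  (List.range (n + 1)).all fun k =>
    !(decide (0 < k) && decide (k ∣ n) && decide (k ∣ 2 ^ n - 1)) ||
      (List.range n).all fun i => (List.range n).all fun j => (List.range n).all fun t =>
        !(decide ((2 ^ (i + t) + 1) % ((2 ^ n - 1) / k) = (2 ^ j + 2 ^ t) % ((2 ^ n - 1) / k))) ||
          decide (i = j)

theorem chk_small : ∀ n ∈ List.range 21, chkN n = true := by decide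

theorem nc_small {n k m i j t : ℕ} (hn : n ≤ 20) (hk : k ∣ n) (hm : m * k = 2 ^ n - 1)
    (hi : i < n) (hj : j < n) (ht : t < n)
    (h : 2 ^ (i + t) + 1 ≡ 2 ^ j + 2 ^ t [MOD m]) : i = j := by
  have hc := chk_small n (List.mem_range.2 (by omega))
  have hn0 : 0 < n := by omega
  have h1 : 2 ≤ 2 ^ n := by
    calc 2 = 2 ^ 1 := by norm_num
      _ ≤ 2 ^ n := Nat.pow_le_pow_right (by norm_num) hn0
  have hk0 : 0 < k := by
    rcases Nat.eq_zero_or_pos k with h0 | h0
    · subst h0; omega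
    · exact h0
  have hkn : k ≤ n := Nat.le_of_dvd hn0 hk
  have hkd : k ∣ 2 ^ n - 1 := ⟨m, by rw [← hm, mul_comm]⟩
  have hmd : (2 ^ n - 1) / k = m := by
    rw [← hm]; exact Nat.mul_div_cancel m hk0
  unfold chkN at hc
  rw [List.all_eq_true] at hc
  have hc1 := hc k (List.mem_range.2 (by omega))
  simp only [Bool.or_eq_true, Bool.not_eq_true', Bool.and_eq_false_imp, decide_eq_true_eq,
    decide_eq_false_iff_not, List.all_eq_true, List.mem_range] at hc1
  rcases hc1 with hc1 | hc1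
  · exact absurd hkd (hc1 (by simp [hk0, hk]))
  · have := hc1 i hi j hj t ht
    rcases this with h3 | h3
    · rw [hmd] at h3; exact absurd h h3
    · exact h3

/-! ### the lemma -/

theorem nc_large {n k m i j t : ℕ} (hn : 21 ≤ n) (hk : k ∣ n) (hm : m * k = 2 ^ n - 1)
    (hi : i < n) (hj : j < n) (ht : t < n)
    (h : 2 ^ (i + t) + 1 ≡ 2 ^ j + 2 ^ t [MOD m]) : i = j := by
  have hn0 : 0 < n := by omega
  obtain ⟨s, hs, r1, r2, r3, r4⟩ := exists_rotation n (i + t) 0 j t hn0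
  have hsize := size_bound hn hk hm
  generalize n - (n + 3) / 4 = L at r1 r2 r3 r4 hsize
  have hpn := pow_n_modEq hm
  -- multiply by 2 ^ s and reduce the exponents
  have h1 : 2 ^ (i + t + s) + 2 ^ (0 + s) ≡ 2 ^ (j + s) + 2 ^ (t + s) [MOD m] := by
    have := h.mul_right (2 ^ s)
    simpa [add_mul, pow_add] using this
  have h2 : 2 ^ ((i + t + s) % n) + 2 ^ ((0 + s) % n) ≡
      2 ^ ((j + s) % n) + 2 ^ ((t + s) % n) [MOD m] := by
    have a1 := pow_mod_modEq hpn (i + t + s)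
    have a2 := pow_mod_modEq hpn (0 + s)
    have a3 := pow_mod_modEq hpn (j + s)
    have a4 := pow_mod_modEq hpn (t + s)
    exact ((a1.add a2).symm.trans h1).trans (a3.add a4)
  have hle : ∀ x, x ≤ L → 2 ^ x ≤ 2 ^ L := fun x hx => Nat.pow_le_pow_right (by norm_num) hx
  have hlt1 : 2 ^ ((i + t + s) % n) + 2 ^ ((0 + s) % n) < m := by
    have := hle _ r1; have := hle _ r2
    rw [pow_succ] at hsize; omega
  have hlt2 : 2 ^ ((j + s) % n) + 2 ^ ((t + s) % n) < m := by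
    have := hle _ r3; have := hle _ r4
    rw [pow_succ] at hsize; omega
  have heq := Nat.ModEq.eq_of_lt_of_lt h2 hlt1 hlt2
  rcases two_pow_sum heq with ⟨c1, c2⟩ | ⟨c1, c2⟩
  · -- (0+s) % n = (t+s) % n, so t = 0; then (i+s) % n = (j+s) % n
    have ht0 : t = 0 := by
      have : 0 + s ≡ t + s [MOD n] := c2
      have := Nat.ModEq.add_right_cancel' s this
      exact (Nat.ModEq.eq_of_lt_of_lt this hn0 ht).symm
    subst ht0
    have : i + 0 + s ≡ j + s [MOD n] := c1
    have := Nat.ModEq.add_right_cancel' s this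
    simpa using Nat.ModEq.eq_of_lt_of_lt this (by simpa using hi) hj
  · -- (0+s) % n = (j+s) % n, so j = 0; (i+t+s) % n = (t+s) % n, so i = 0
    have hj0 : j = 0 := by
      have : 0 + s ≡ j + s [MOD n] := c2
      have := Nat.ModEq.add_right_cancel' s this
      exact (Nat.ModEq.eq_of_lt_of_lt this hn0 hj).symm
    have hi0 : i = 0 := by
      have : i + t + s ≡ t + s [MOD n] := c1
      have h3 : i + (t + s) ≡ 0 + (t + s) [MOD n] := by simpa [add_assoc] using this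
      have := Nat.ModEq.add_right_cancel' (t + s) h3
      exact Nat.ModEq.eq_of_lt_of_lt this hi hn0
    rw [hi0, hj0]

/-- **Lemma N / NC.** -/
theorem nc {n k m i j t : ℕ} (hk : k ∣ n) (hm : m * k = 2 ^ n - 1) (hi : i < n) (hj : j < n)
    (ht : t < n) (h : 2 ^ (i + t) + 1 ≡ 2 ^ j + 2 ^ t [MOD m]) : i = j := by
  rcases Nat.lt_or_ge n 21 with hn | hn
  · exact nc_small (by omega) hk hm hi hj ht h
  · exact nc_large hn hk hm hi hj ht h

end Cfsg.Agent.Lib.H24.S3776NC
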