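/-
S5673 project (orthogonal odd Aschbacher), module OM2: Clifford with a symmetric form in odd dimension, from
helper8's generic Clifford-with-form theorem.  (helper24)
-/
import Cfsg.Agent.Lib.H24.AschOBasic
import Cfsg.Agent.Lib.H8.AschGM2
import Cfsg.Agent.Lib.H3.AschOM2F

set_option autoImplicit false

namespace Cfsg.Agent.Lib.H24.Asch

open Cfsg Cfsg.Geo Cfsg.Agent.Lib.Lead.Asch Cfsg.Agent.Lib.H8.Asch
open scoped MatrixGroups Matrix Kronecker

variable {F : Type*} [Field F] [Fintype F] {n : ℕ}

omit [Fintype F] in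
/-- The polar form of a non-degenerate quadratic form is a reflexive (symmetric) non-degenerate bilinear form. -/
theorem isReflSesq_polar (Q : (Fin n → F) → F) (hQ : IsNondegenerateQuadraticForm Q) :
    IsReflSesq (RingEquiv.refl F) (QuadraticMap.polar Q) := by
  refine ⟨hQ.polar_bilinear.add_left, hQ.polar_bilinear.smul_left, hQ.polar_bilinear.add_right, ?_, ?_, ?_⟩
  · intro c u v
    rw [hQ.polar_bilinear.smul_right]
    rfl
  · intro u v h
    rw [QuadraticMap.polar_comm]
    exact h
  · intro w hw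
    by_contra hw0
    obtain ⟨⟨x, hx⟩, _⟩ := hQ.nondegenerate w hw0
    exact hx (hw x)

omit [Fintype F] in
theorem isometryGroup_le_isomGroup (Q : (Fin n → F) → F) :
    isometryGroup F Q ≤ isomGroup (QuadraticMap.polar Q) := by
  intro g hg
  rw [mem_isomGroup]
  exact polar_isometry Q g hg

omit [Fintype F] in
/-- Subspaces in one orbit of a group of isometries are isometric. -/
theorem areIsometricFor_of_gmap (Q : (Fin n → F) → F) (g : GL (Fin n) F) (hg : g ∈ isometryGroup F Q)
    (W W' : Submodule F (Fin n → F)) (h : gmap g W = W') : AreIsometricFor Q W W' := by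
  subst h
  show AreIsometricFor Q W (W.map (Matrix.toLin' (g : Matrix (Fin n) (Fin n) F)))
  have hinj : Function.Injective (Matrix.toLin' (g : Matrix (Fin n) (Fin n) F)) := by
    intro u v huv
    have h1 := congrArg (fun w => ((g⁻¹ : GL (Fin n) F) : Matrix (Fin n) (Fin n) F) *ᵥ w) huv
    simp only [Matrix.toLin'_apply, Matrix.mulVec_mulVec, ← Units.val_mul, inv_mul_cancel, Units.val_one,
      Matrix.one_mulVec] at h1
    exact h1
  refine ⟨Submodule.equivMapOfInjective _ hinj W, fun w => ?_⟩
  rw [Submodule.coe_equivMapOfInjective_apply, Matrix.toLin'_apply]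
  exact (mem_isometryGroup_iff Q g).1 hg _

/-- **OM2**, with the lines case over a non-prime field (OM2-F) as a hypothesis. -/
theorem exists_homogData_orth_aux (Q : (Fin n → F) → F) (hQ : OData Q) (hn : 0 < n)
    (H N : Subgroup (GL (Fin n) F)) (hH : H ≤ isometryGroup F Q)
    (hirr : ActsIrreducibly (matrixSet H)) (hnt : ¬ OC2 Q H) (hnt5 : ¬ OC5 Q H) (hNH : N ≤ H)
    (hnorm : NormalizedBy H N)
    (hframe : ¬ (Fintype.card F).Prime → ∀ (t : ℕ) (D : Fin t → Submodule F (Fin n → F)),
      IsOrthogonalMDecomposition Q 1 D → H ≤ decompositionStabilizer D → OC5 Q H) :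
    Nonempty (HomogData N) := by
  rcases exists_homogData_or_decomposition (isReflSesq_polar Q hQ.quad) hn H N
    (hH.trans (isometryGroup_le_isomGroup Q)) hirr hNH hnorm with h | h | h
  · exact h
  · exfalso
    obtain ⟨t, k, D, hD, hHD, htr⟩ := h
    have hDO : IsOrthogonalMDecomposition Q k D := by
      refine ⟨hD, fun i j => ?_⟩
      obtain ⟨g, hg, hgij⟩ := htr i j
      exact areIsometricFor_of_gmap Q g (hH hg) _ _ hgij
    by_cases hk : 1 < k
    · exact hnt (Or.inl ⟨t, k, D, hk, hDO, hHD⟩)
    · have hk1 : k = 1 := by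
        have := hD.decomp.pos
        omega
      subst hk1
      by_cases hp : (Fintype.card F).Prime
      · exact hnt (Or.inr ⟨t, D, hp, hDO, hHD⟩)
      · exact hnt5 (hframe hp t D hDO hHD)
  · exfalso
    obtain ⟨k, D, hk, _⟩ := h
    have hodd : Odd n := by
      have := hQ.nodd
      rwa [Fintype.card_fin] at this
    rw [← hk] at hodd
    exact (Nat.not_odd_iff_even.2 (even_two_mul k)) hodd

/-- **OM2** Clifford with a symmetric form in odd dimension. -/
theorem exists_homogData_orth (Q : (Fin n → F) → F) (hQ : OData Q) (hn : 0 < n)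
    (H N : Subgroup (GL (Fin n) F)) (hH : H ≤ isometryGroup F Q)
    (hirr : ActsIrreducibly (matrixSet H)) (hnt : ¬ OC2 Q H) (hnt5 : ¬ OC5 Q H) (hNH : N ≤ H)
    (hnorm : NormalizedBy H N) : Nonempty (HomogData N) :=
  exists_homogData_orth_aux Q hQ hn H N hH hirr hnt hnt5 hNH hnorm
    (fun hnp t D hD hHD => Cfsg.Agent.Lib.H3.Asch.oc5_of_frame Q hQ hnp H hH t D hD hHD)

end Cfsg.Agent.Lib.H24.Asch
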