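import Cfsg.Prelude.Def_GeometricClasses
import Cfsg.Agent.Lib.H24.ElusLn

set_option autoImplicit false

/-!
# The number of equidimensional decompositions (helper24)

* `factorial_dvd_card_decomp`: `t !` divides the number of ordered decompositions.
* `card_decomp_dvd_card_GL`: the number of ordered decompositions divides `|GL_n(q)|`.
* `order_le_of_dvd_card_decomp`: a prime `r ≠ p` dividing the number of unordered
  decompositions has `ord_r q ≤ n`.
-/

namespace Cfsg.Agent.Lib.H24.Elus

open Module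
open Cfsg.Agent.Lib.H13

variable {F : Type*} [Field F] [Fintype F]

theorem finite_decomp (n a t : ℕ) :
    Finite {D : Fin t → Submodule F (Fin n → F) // Cfsg.Geo.IsMDecomposition a D} := by
  haveI : Finite (Submodule F (Fin n → F)) := finite_submodule
  infer_instance

theorem decomp_ne_bot {n a t : ℕ} {D : Fin t → Submodule F (Fin n → F)}
    (hD : Cfsg.Geo.IsMDecomposition a D) (i : Fin t) : D i ≠ ⊥ := by
  intro hi
  have := hD.finrank_eq i
  rw [hi, finrank_bot] at this
  have := hD.pos
  omega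

/-- `t !` divides the number of ordered decompositions -/
theorem factorial_dvd_card_decomp (n a t : ℕ) :
    Nat.factorial t ∣
      Nat.card {D : Fin t → Submodule F (Fin n → F) // Cfsg.Geo.IsMDecomposition a D} := by
  classical
  have hperm : ∀ (σ : Equiv.Perm (Fin t))
      (D : {D : Fin t → Submodule F (Fin n → F) // Cfsg.Geo.IsMDecomposition a D}),
      Cfsg.Geo.IsMDecomposition a (fun j => D.1 (σ⁻¹ j)) := by
    intro σ D
    refine ⟨D.2.two_le, D.2.pos, fun i => D.2.finrank_eq _, D.2.indep.comp σ⁻¹.injective, ?_⟩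
    rw [← D.2.iSup_eq_top]
    exact Equiv.iSup_comp (g := D.1) σ⁻¹
  letI : MulAction (Equiv.Perm (Fin t))
      {D : Fin t → Submodule F (Fin n → F) // Cfsg.Geo.IsMDecomposition a D} :=
    { smul := fun σ D => ⟨fun j => D.1 (σ⁻¹ j), hperm σ D⟩
      one_smul := fun D => by
        apply Subtype.ext
        funext j
        show D.1 ((1 : Equiv.Perm (Fin t))⁻¹ j) = D.1 j
        rw [inv_one, Equiv.Perm.one_apply]
      mul_smul := fun σ τ D => by
        apply Subtype.ext
        funext j
        show D.1 ((σ * τ)⁻¹ j) = D.1 (τ⁻¹ (σ⁻¹ j))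
        rw [mul_inv_rev, Equiv.Perm.mul_apply] }
  have hfree : ∀ D : {D : Fin t → Submodule F (Fin n → F) // Cfsg.Geo.IsMDecomposition a D},
      MulAction.stabilizer (Equiv.Perm (Fin t)) D = ⊥ := by
    intro D
    rw [eq_bot_iff]
    intro σ hσ
    rw [MulAction.mem_stabilizer_iff] at hσ
    rw [Subgroup.mem_bot]
    have hinj := D.2.indep.injective (decomp_ne_bot D.2)
    ext j : 1
    have h1 : D.1 (σ⁻¹ (σ j)) = D.1 (σ j) := congrFun (congrArg Subtype.val hσ) (σ j)
    rw [Equiv.Perm.inv_def, Equiv.symm_apply_apply] at h1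
    rw [← hinj h1]
    rfl
  have e := MulAction.selfEquivOrbitsQuotientProd hfree
  have hfin : Nat.card (Fin t) = t := by
    rw [Nat.card_eq_fintype_card, Fintype.card_fin]
  rw [Nat.card_congr e, Nat.card_prod, Nat.card_perm, hfin]
  exact Dvd.intro_left _ rfl

/-- the number of ordered decompositions divides the order of `GL_n(q)` -/
theorem card_decomp_dvd_card_GL (n a t : ℕ)
    (hne : Nonempty {D : Fin t → Submodule F (Fin n → F) // Cfsg.Geo.IsMDecomposition a D}) :
    Nat.card {D : Fin t → Submodule F (Fin n → F) // Cfsg.Geo.IsMDecomposition a D} ∣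
      Nat.card (GL (Fin n) F) := by
  classical
  have hmap : ∀ (g : (Fin n → F) ≃ₗ[F] (Fin n → F))
      (D : {D : Fin t → Submodule F (Fin n → F) // Cfsg.Geo.IsMDecomposition a D}),
      Cfsg.Geo.IsMDecomposition a
        (fun j => (D.1 j).map (g : (Fin n → F) →ₗ[F] (Fin n → F))) := by
    intro g D
    refine ⟨D.2.two_le, D.2.pos, fun i => ?_, ?_, ?_⟩
    · rw [LinearEquiv.finrank_map_eq, D.2.finrank_eq]
    · exact D.2.indep.map_orderIso (Submodule.orderIsoMapComap g)
    · rw [← Submodule.map_iSup, D.2.iSup_eq_top, Submodule.map_top, LinearEquiv.range]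
  letI : MulAction ((Fin n → F) ≃ₗ[F] (Fin n → F))
      {D : Fin t → Submodule F (Fin n → F) // Cfsg.Geo.IsMDecomposition a D} :=
    { smul := fun g D => ⟨fun j => (D.1 j).map (g : (Fin n → F) →ₗ[F] (Fin n → F)), hmap g D⟩
      one_smul := fun D => by
        apply Subtype.ext
        funext j
        show (D.1 j).map ((1 : (Fin n → F) ≃ₗ[F] (Fin n → F)) : (Fin n → F) →ₗ[F] (Fin n → F)) =
          D.1 j
        ext v
        simp
      mul_smul := fun g h D => by
        apply Subtype.ext
        funext j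
        show (D.1 j).map ((g * h : (Fin n → F) ≃ₗ[F] (Fin n → F)) :
            (Fin n → F) →ₗ[F] (Fin n → F)) =
          ((D.1 j).map (h : (Fin n → F) →ₗ[F] (Fin n → F))).map
            (g : (Fin n → F) →ₗ[F] (Fin n → F))
        rw [← Submodule.map_comp]
        rfl }
  haveI : MulAction.IsPretransitive ((Fin n → F) ≃ₗ[F] (Fin n → F))
      {D : Fin t → Submodule F (Fin n → F) // Cfsg.Geo.IsMDecomposition a D} := by
    constructor
    intro D D'
    have hI := DirectSum.isInternal_submodule_of_iSupIndep_of_iSup_eq_top D.2.indep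
      D.2.iSup_eq_top
    have hI' := DirectSum.isInternal_submodule_of_iSupIndep_of_iSup_eq_top D'.2.indep
      D'.2.iSup_eq_top
    obtain ⟨e, he⟩ := SSClass.exists_glue hI hI' (fun j => LinearEquiv.ofFinrankEq (D.1 j) (D'.1 j)
      (by rw [D.2.finrank_eq, D'.2.finrank_eq]))
    refine ⟨e, ?_⟩
    apply Subtype.ext
    funext j
    show (D.1 j).map (e : (Fin n → F) →ₗ[F] (Fin n → F)) = D'.1 j
    apply le_antisymm
    · rintro _ ⟨x, hx, rfl⟩
      have := he j ⟨x, hx⟩
      rw [LinearEquiv.coe_coe]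
      change e x = _ at this
      rw [this]
      exact Subtype.property _
    · intro y hy
      refine ⟨((LinearEquiv.ofFinrankEq (D.1 j) (D'.1 j)
        (by rw [D.2.finrank_eq, D'.2.finrank_eq])).symm ⟨y, hy⟩ : D.1 j), Subtype.property _, ?_⟩
      have := he j ((LinearEquiv.ofFinrankEq (D.1 j) (D'.1 j)
        (by rw [D.2.finrank_eq, D'.2.finrank_eq])).symm ⟨y, hy⟩)
      rw [LinearEquiv.coe_coe, this, LinearEquiv.apply_symm_apply]
  obtain ⟨D₀⟩ := hne
  have h1 := MulAction.index_stabilizer_of_transitive ((Fin n → F) ≃ₗ[F] (Fin n → F)) D₀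
  have h2 := Subgroup.index_dvd_card (MulAction.stabilizer ((Fin n → F) ≃ₗ[F] (Fin n → F)) D₀)
  rw [h1] at h2
  have h3 : Nat.card ((Fin n → F) ≃ₗ[F] (Fin n → F)) = Nat.card (GL (Fin n) F) :=
    Nat.card_congr ((Matrix.GeneralLinearGroup.toLin.trans
      (LinearMap.GeneralLinearGroup.generalLinearEquiv F (Fin n → F))).toEquiv).symm
  rw [← h3]
  exact h2

variable {p q : ℕ} [Fact p.Prime] [CharP F p]

theorem order_le_of_dvd_card_GL (hq : Fintype.card F = q) (n : ℕ) (r : ℕ) [Fact r.Prime]
    (hrp : r ≠ p) (h : r ∣ Nat.card (GL (Fin n) F)) : orderOf (q : ZMod r) ≤ n := by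
  have hr : r.Prime := Fact.out
  rw [Matrix.card_GL_field, prod_fin_sub _ n n le_rfl] at h
  rcases (Nat.Prime.dvd_mul hr).mp h with h1 | h1
  · exfalso
    rw [hr.prime.dvd_finsetProd_iff] at h1
    obtain ⟨i, -, hi⟩ := h1
    have h2 : r ∣ Fintype.card F := hr.dvd_of_dvd_pow hi
    obtain ⟨f, -, hf⟩ := FiniteField.card F p
    rw [hf] at h2
    have h3 := hr.dvd_of_dvd_pow h2
    exact hrp ((Nat.prime_dvd_prime_iff_eq hr Fact.out).mp h3)
  · rw [hr.prime.dvd_finsetProd_iff] at h1
    obtain ⟨j, hj, hd⟩ := h1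
    rw [Finset.mem_Ico] at hj
    rw [hq] at hd
    have h2 := (order_dvd_of_dvd_pow_sub_one (F := F) hq r j (by omega) hd).2
    have h3 := Nat.le_of_dvd (by omega) h2
    omega

/-- a prime `r ≠ p` dividing the number of unordered decompositions has `ord_r q ≤ n` -/
theorem order_le_of_dvd_card_decomp (hq : Fintype.card F = q) (n a t : ℕ)
    (hne : Nonempty {D : Fin t → Submodule F (Fin n → F) // Cfsg.Geo.IsMDecomposition a D})
    (r : ℕ) [Fact r.Prime] (hrp : r ≠ p)
    (hΩ : r ∣ Nat.card {D : Fin t → Submodule F (Fin n → F) // Cfsg.Geo.IsMDecomposition a D} /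
      Nat.factorial t) : orderOf (q : ZMod r) ≤ n := by
  obtain ⟨k, hk⟩ := factorial_dvd_card_decomp (F := F) n a t
  have h1 : Nat.card {D : Fin t → Submodule F (Fin n → F) // Cfsg.Geo.IsMDecomposition a D} /
      Nat.factorial t = k := by
    rw [hk, Nat.mul_div_cancel_left _ (Nat.factorial_pos t)]
  rw [h1] at hΩ
  have h2 : r ∣ Nat.card {D : Fin t → Submodule F (Fin n → F) // Cfsg.Geo.IsMDecomposition a D} := by
    rw [hk]
    exact Dvd.dvd.mul_left hΩ _
  exact order_le_of_dvd_card_GL hq n r hrp (h2.trans (card_decomp_dvd_card_GL n a t hne))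

end Cfsg.Agent.Lib.H24.Elus
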