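import Cfsg.Agent.Lib.H24.ElusImpNonpow
import Cfsg.Agent.Lib.H24.ElusSS
import Cfsg.Agent.Lib.H13.CycFactor

set_option autoImplicit false

/-!
# The monomial model for elements of order `r` when `ord_r q = r - 1` (helper24)

`exists_decomp_first`: `φ ^ r = 1`, `ord_r q = r - 1`, `n ≤ (n % (r - 1)) r`: `φ` permutes the
lines of a decomposition of `V` into `n` lines.
-/

namespace Cfsg.Agent.Lib.H24.Elus

open Polynomial Module
open Cfsg.Agent.Lib.H13

section model

variable {F : Type*} [Field F] {r : ℕ} [NeZero r] {m l : ℕ}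

/-- `m` cycles of length `r` and `l` fixed points -/
def firstPerm (r m l : ℕ) : Equiv.Perm ((ZMod r × Fin m) ⊕ Fin l) :=
  Equiv.Perm.sumCongrHom _ _ (shiftPerm r (Fin m), 1)

theorem firstPerm_pow_card : (firstPerm r m l) ^ r = 1 := by
  unfold firstPerm
  rw [← map_pow, Prod.pow_mk, shiftPerm_pow_card, one_pow]
  exact map_one _

theorem firstPerm_inl (k : ZMod r × Fin m) :
    firstPerm r m l (Sum.inl k) = Sum.inl (shiftPerm r (Fin m) k) := rfl

theorem firstPerm_inr (j : Fin l) : firstPerm r m l (Sum.inr j) = Sum.inr j := rfl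

theorem firstPerm_symm_inl (s : ZMod r) (i : Fin m) :
    (firstPerm r m l).symm (Sum.inl (s, i)) = Sum.inl (s - 1, i) := by
  rw [Equiv.symm_apply_eq, firstPerm_inl, shiftPerm_apply, sub_add_cancel]

theorem firstPerm_symm_inr (j : Fin l) : (firstPerm r m l).symm (Sum.inr j) = Sum.inr j := by
  rw [Equiv.symm_apply_eq, firstPerm_inr]

theorem finrank_ker_firstModel :
    finrank F (LinearMap.ker (aeval (wperm (F := F) (firstPerm r m l) (fun _ => 1))
      (X - 1 : F[X]))) = m + l := by
  classical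
  set Ψ := wperm (F := F) (firstPerm r m l) (fun _ => 1) with hΨ
  let ρ : (ZMod r × Fin m) ⊕ Fin l → Fin m ⊕ Fin l := Sum.map Prod.snd id
  have hρ : Function.Surjective ρ := by
    rintro (i | j)
    · exact ⟨Sum.inl (0, i), rfl⟩
    · exact ⟨Sum.inr j, rfl⟩
  have hinj := LinearMap.funLeft_injective_of_surjective F F ρ hρ
  have hker : LinearMap.ker (aeval Ψ (X - 1 : F[X])) = LinearMap.range (LinearMap.funLeft F F ρ) := by
    ext w
    rw [LinearMap.mem_ker, map_sub, aeval_X, map_one, LinearMap.sub_apply, Module.End.one_apply,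
      sub_eq_zero, LinearMap.mem_range]
    constructor
    · intro hw
      have hw' : ∀ x, w ((firstPerm r m l).symm x) = w x := by
        intro x
        have := congrFun hw x
        rw [hΨ, wperm_apply, one_mul] at this
        exact this
      have hcyc : ∀ (i : Fin m) (k : ℕ), w (Sum.inl ((k : ZMod r), i)) = w (Sum.inl (0, i)) := by
        intro i k
        induction k with
        | zero => simp
        | succ k ih =>
          have := hw' (Sum.inl (((k + 1 : ℕ) : ZMod r), i))
          rw [firstPerm_symm_inl, Nat.cast_succ, add_sub_cancel_right] at this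
          rw [Nat.cast_succ, ← this, ih]
      refine ⟨fun y => Sum.elim (fun i => w (Sum.inl (0, i))) (fun j => w (Sum.inr j)) y, ?_⟩
      funext x
      rw [LinearMap.funLeft_apply]
      rcases x with ⟨s, i⟩ | j
      · show w (Sum.inl (0, i)) = w (Sum.inl (s, i))
        rw [← hcyc i s.val, ZMod.natCast_zmod_val]
      · rfl
    · rintro ⟨u, rfl⟩
      funext x
      rw [hΨ, wperm_apply, one_mul, LinearMap.funLeft_apply, LinearMap.funLeft_apply]
      rcases x with ⟨s, i⟩ | j
      · rw [firstPerm_symm_inl]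
        rfl
      · rw [firstPerm_symm_inr]
  rw [hker, LinearMap.finrank_range_of_inj hinj, Module.finrank_fintype_fun_eq_card,
    Fintype.card_sum, Fintype.card_fin, Fintype.card_fin]

end model

variable {F : Type*} [Field F] [Fintype F] [DecidableEq F] {p q : ℕ} [Fact p.Prime] [CharP F p]
  {V : Type*} [AddCommGroup V] [Module F V] [Module.Finite F V]

theorem exists_decomp_first (hF : Fintype.card F = q) {r : ℕ} (hr : r.Prime) (hrp : r ≠ p)
    (φ : End F V) (hφinj : Function.Injective φ) (hφ : aeval φ (X ^ r - 1 : F[X]) = 0)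
    (hc : orderOf (q : ZMod r) = r - 1) (n : ℕ) (hV : finrank F V = n)
    (hle : n ≤ (n % (r - 1)) * r) :
    ∃ D : Fin n → Submodule F V, (∀ i, finrank F (D i) = 1) ∧ iSupIndep D ∧ iSup D = ⊤ ∧
      ∃ σ : Equiv.Perm (Fin n), ∀ j, (D j).map φ = D (σ j) := by
  classical
  haveI : NeZero r := ⟨hr.ne_zero⟩
  have hr2 := hr.two_le
  obtain ⟨c, hcdef⟩ : ∃ c, c = r - 1 := ⟨_, rfl⟩
  have hc0 : 0 < c := by omega
  have hrc : r = c + 1 := by omega
  rw [← hcdef] at hc hle
  have hirr := CycFactor.irreducible_fJ (F := F) (r := r)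
  have hcop := CycFactor.coprime_fJ (F := F) hr hrp
  have hprod := CycFactor.prod_fJ (F := F) hr hrp
  have hφ' : aeval φ (∏ j, CycFactor.fJ (F := F) r j) = 0 := by
    rw [hprod]; exact hφ
  have hcard := CycFactor.card_S (F := F) hF hr hrp
  rw [hc, ← hcdef] at hcard
  have hS1 : Fintype.card (CycFactor.S r F) = 1 := by
    have : Fintype.card (CycFactor.S r F) * c = 1 * c := by rw [hcard, one_mul]
    exact Nat.eq_of_mul_eq_mul_right hc0 this
  obtain ⟨s₀, hs₀⟩ := Fintype.card_eq_one_iff.mp hS1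
  haveI : Subsingleton (CycFactor.S r F) := ⟨fun x y => by rw [hs₀ x, hs₀ y]⟩
  have hsum := finrank_eq_sum_ker (CycFactor.fJ (F := F) r) hcop φ hφ'
  rw [Fintype.sum_option, Fintype.sum_subsingleton _ s₀, hV] at hsum
  obtain ⟨m, hm⟩ : c ∣ finrank F (LinearMap.ker (aeval φ (CycFactor.fJ (F := F) r (some s₀)))) := by
    have := dvd_finrank_ker (CycFactor.fJ (F := F) r) hirr φ (some s₀)
    rwa [CycFactor.natDegree_fJ_some hF hr hrp, hc] at this
  obtain ⟨k', hk'⟩ : ∃ k', k' = finrank F (LinearMap.ker (aeval φ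
    (CycFactor.fJ (F := F) r none))) := ⟨_, rfl⟩
  rw [← hk', hm] at hsum
  have hmod : n % c = k' % c := by rw [hsum, Nat.add_mul_mod_self_left]
  have hmk : m ≤ k' := by
    have h1 : n % c ≤ k' := by rw [hmod]; exact Nat.mod_le _ _
    have h2 : (n % c) * r ≤ k' * r := Nat.mul_le_mul_right r h1
    have h3 : k' * r = k' * c + k' := by rw [hrc]; ring
    have h4 : c * m ≤ c * k' := by
      rw [mul_comm c k']
      omega
    exact Nat.le_of_mul_le_mul_left h4 hc0
  obtain ⟨l, hl⟩ : ∃ l, l = k' - m := ⟨_, rfl⟩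
  have hcardκ : Fintype.card ((ZMod r × Fin m) ⊕ Fin l) = n := by
    rw [Fintype.card_sum, Fintype.card_prod, ZMod.card, Fintype.card_fin, Fintype.card_fin, hsum,
      hrc, add_mul, one_mul]
    omega
  let π := firstPerm r m l
  have hΨr : (wperm (F := F) π (fun _ => 1)) ^ r = (1 : F) • 1 :=
    wperm_pow_eq_smul π _ r 1 firstPerm_pow_card (fun x => by simp)
  have hΨ : aeval (wperm (F := F) π (fun _ => 1)) (X ^ r - 1 : F[X]) = 0 := by
    rw [map_sub, map_pow, aeval_X, map_one, hΨr, one_smul, sub_self]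
  have hΨ' : aeval (wperm (F := F) π (fun _ => 1)) (∏ j, CycFactor.fJ (F := F) r j) = 0 := by
    rw [hprod]; exact hΨ
  have hsumΨ := finrank_eq_sum_ker (CycFactor.fJ (F := F) r) hcop _ hΨ'
  rw [Fintype.sum_option, Fintype.sum_subsingleton _ s₀, Module.finrank_fintype_fun_eq_card,
    hcardκ] at hsumΨ
  have hnoneΨ : finrank F (LinearMap.ker (aeval (wperm (F := F) π (fun _ => 1))
      (CycFactor.fJ (F := F) r none))) = m + l := finrank_ker_firstModel
  obtain ⟨g, hg⟩ := SSClass.exists_equiv (CycFactor.fJ (F := F) r) hirr hcop φ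
    (wperm (F := F) π (fun _ => 1)) hφ' hΨ' (by
      intro j
      cases j with
      | none =>
        rw [hnoneΨ, ← hk']
        omega
      | some s =>
        rw [hs₀ s, hm]
        rw [hnoneΨ] at hsumΨ
        omega)
  let col : (ZMod r × Fin m) ⊕ Fin l ≃ Fin n := Fintype.equivFinOfCardEq hcardκ
  let σ : Equiv.Perm (Fin n) := col.symm.trans (π.trans col)
  obtain ⟨D, h1, h2, h3, h4⟩ := exists_decomp_of_perm_model φ hφinj π (fun _ => 1) g hg n 1 col
    (by
      intro j
      rw [Fintype.card_eq_one_iff]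
      refine ⟨⟨col.symm j, col.apply_symm_apply j⟩, ?_⟩
      rintro ⟨k, hk⟩
      apply Subtype.ext
      show k = col.symm j
      rw [← hk, col.symm_apply_apply]) σ (by
      intro x
      show col (π x) = col (π (col.symm (col x)))
      rw [col.symm_apply_apply])
  exact ⟨D, h1, h2, h3, σ, h4⟩

end Cfsg.Agent.Lib.H24.Elus
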