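import Cfsg.Agent.Lib.H24.ElusImpNec

set_option autoImplicit false

/-!
# Endomorphisms of prime order permuting the lines of a frame (helper24)

`card_le_of_lines`: if `y ^ r = 1` permutes the `t` lines of a decomposition of `V`, and `F`
has no nontrivial `r`-th roots of unity, then `t ≤ r * dim ker (y - 1)`.
-/

namespace Cfsg.Agent.Lib.H24.Elus

open Module

variable {F : Type*} [Field F] {V : Type*} [AddCommGroup V] [Module F V]

theorem pow_apply_of_eigen (y : End F V) (d : V) (c : F) (h : y d = c • d) (k : ℕ) :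
    (y ^ k) d = c ^ k • d := by
  induction k with
  | zero => simp
  | succ k ih => rw [pow_succ, Module.End.mul_apply, h, map_smul, ih, smul_smul, pow_succ']

/-- an element of order `r` is the identity on an invariant line, if `F` has no nontrivial
`r`-th roots of unity -/
theorem eq_of_invariant_line (y : End F V) (r : ℕ) (hy : y ^ r = 1)
    (hroot : ∀ c : F, c ^ r = 1 → c = 1) (L : Submodule F V) (hL : finrank F L = 1)
    (hinv : ∀ v ∈ L, y v ∈ L) (v : V) (hv : v ∈ L) : y v = v := by
  obtain ⟨d, hd0, hd⟩ := finrank_eq_one_iff'.mp hL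
  obtain ⟨c, hc⟩ := hd ⟨y d, hinv d d.2⟩
  have hc' : y (d : V) = c • (d : V) := by
    have := congrArg Subtype.val hc
    exact this.symm
  have h1 := pow_apply_of_eigen y d c hc' r
  rw [hy, Module.End.one_apply] at h1
  have hd0' : (d : V) ≠ 0 := fun h => hd0 (Subtype.ext h)
  have h2 : (c ^ r - 1) • (d : V) = 0 := by
    rw [sub_smul, one_smul, ← h1, sub_self]
  have h3 : c ^ r = 1 := by
    rcases smul_eq_zero.mp h2 with h | h
    · exact sub_eq_zero.mp h
    · exact absurd h hd0'
  have hc1 := hroot c h3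
  obtain ⟨e, he⟩ := hd ⟨v, hv⟩
  have he' : v = e • (d : V) := by
    have := congrArg Subtype.val he
    exact this.symm
  rw [he', map_smul, hc', hc1, one_smul]

variable [Module.Finite F V]

theorem card_le_of_lines {t : ℕ} (D : Fin t → Submodule F V) (hind : iSupIndep D)
    (htop : iSup D = ⊤) (y : End F V) (σ : Equiv.Perm (Fin t))
    (hσ : ∀ j, (D j).map y = D (σ j)) (hfr : ∀ j, finrank F (D j) = 1) (r : ℕ) (hr : r.Prime)
    (hy : y ^ r = 1) (hroot : ∀ c : F, c ^ r = 1 → c = 1) (hr0 : (r : F) ≠ 0) :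
    t ≤ r * finrank F (LinearMap.ker (y - 1)) := by
  classical
  have hσr := perm_pow_eq_one D hind y σ hσ 1 one_pos hfr r hy
  let P : Finset (Fin t) := Finset.univ.filter (fun j => ∀ i, i < r → j ≤ (σ ^ i) j)
  have hPmem : ∀ j, j ∈ P ↔ ∀ i, i < r → j ≤ (σ ^ i) j := by
    intro j
    simp only [P, Finset.mem_filter, Finset.mem_univ, true_and]
  -- every index is in the orbit of an orbit minimum
  have hcover : ∀ j, ∃ ρ ∈ P, ∃ i, i < r ∧ (σ ^ i) ρ = j := by
    intro j
    let O : Finset (Fin t) := (Finset.range r).image (fun i => (σ ^ i) j)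
    have hO : O.Nonempty := ⟨j, Finset.mem_image.mpr ⟨0, Finset.mem_range.mpr hr.pos, rfl⟩⟩
    obtain ⟨i₀, hi₀, hρ⟩ := Finset.mem_image.mp (O.min'_mem hO)
    rw [Finset.mem_range] at hi₀
    refine ⟨O.min' hO, ?_, ?_⟩
    · rw [hPmem]
      intro i hi
      apply Finset.min'_le
      rw [← hρ]
      show (σ ^ i) ((σ ^ i₀) j) ∈ O
      rw [← Equiv.Perm.mul_apply, ← pow_add, perm_pow_apply_mod σ r hσr]
      exact Finset.mem_image.mpr ⟨_, Finset.mem_range.mpr (Nat.mod_lt _ hr.pos), rfl⟩
    · obtain ⟨i', hi', h⟩ := perm_exists_inv_pow σ r hr.pos hσr i₀ hi₀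
      refine ⟨i', hi', ?_⟩
      rw [← hρ]
      exact h j
  have hcard : t ≤ r * P.card := by
    have hsub : (Finset.univ : Finset (Fin t)) ⊆
        ((Finset.range r) ×ˢ P).image (fun x => (σ ^ x.1) x.2) := by
      intro j _
      obtain ⟨ρ, hρ, i, hi, h⟩ := hcover j
      exact Finset.mem_image.mpr
        ⟨(i, ρ), Finset.mem_product.mpr ⟨Finset.mem_range.mpr hi, hρ⟩, h⟩
    have h2 := (Finset.card_le_card hsub).trans Finset.card_image_le
    rw [Finset.card_univ, Fintype.card_fin, Finset.card_product, Finset.card_range] at h2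
    exact h2
  have huniq : ∀ ρ ∈ P, ∀ ρ' ∈ P, ∀ i, i < r → (σ ^ i) ρ' = ρ → ρ' = ρ := by
    intro ρ hρ ρ' hρ' i hi h
    rw [hPmem] at hρ hρ'
    apply le_antisymm
    · rw [← h]
      exact hρ' i hi
    · obtain ⟨i', hi', h'⟩ := perm_exists_inv_pow σ r hr.pos hσr i hi
      have := hρ i' hi'
      have h3 : (σ ^ i') ρ = ρ' := by
        rw [← h]
        exact h' ρ'
      rw [h3] at this
      exact this
  -- the norm map is injective on the sum of the lines indexed by `P`
  let E : {j // j ∈ P} → Submodule F V := fun j => D j.1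
  let N : End F V := ∑ i ∈ Finset.range r, y ^ i
  have hNker : ∀ v, N v ∈ LinearMap.ker (y - 1) := by
    intro v
    rw [LinearMap.mem_ker, ← Module.End.mul_apply, mul_geom_sum, hy, sub_self]
    rfl
  let Λ : ((j : {j // j ∈ P}) → E j) →ₗ[F] ↥(LinearMap.ker (y - 1)) :=
    LinearMap.codRestrict (LinearMap.ker (y - 1)) (N ∘ₗ sumMap E) (fun w => hNker _)
  have hΛ : Function.Injective Λ := by
    rw [← LinearMap.ker_eq_bot, LinearMap.ker_eq_bot']
    intro w hw
    have hNv : N (sumMap E w) = 0 := by
      have := congrArg Subtype.val hw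
      exact this
    obtain ⟨v, hv⟩ : ∃ v, v = sumMap E w := ⟨_, rfl⟩
    rw [← hv] at hNv
    let w'' : Fin t → V := fun j => if h : j ∈ P then (w ⟨j, h⟩ : V) else 0
    have hw''mem : ∀ j, w'' j ∈ D j := by
      intro j
      by_cases h : j ∈ P
      · simp only [w'', dif_pos h]
        exact (w ⟨j, h⟩).2
      · simp only [w'', dif_neg h]
        exact Submodule.zero_mem _
    have hw''sum : ∑ j, w'' j = v := by
      rw [hv, sumMap_apply]
      have h1 : ∑ j : {j // j ∈ P}, (w j : V) = ∑ j : {j // j ∈ P}, w'' j.1 := by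
        apply Finset.sum_congr rfl
        intro j _
        simp only [w'', dif_pos j.2]
      rw [h1, Finset.sum_coe_sort P w'']
      symm
      apply Finset.sum_subset (Finset.subset_univ P)
      intro j _ hj
      simp only [w'', dif_neg hj]
    have hcp : ∀ j, cproj D hind htop j v = w'' j :=
      cproj_unique D hind htop v w'' hw''mem hw''sum
    -- the `ρ`-coordinate of `N v`
    have hterm : ∀ ρ ∈ P, ∀ i, i < r →
        cproj D hind htop ρ ((y ^ i) v) = (y ^ i) (w'' ((σ ^ i).symm ρ)) := by
      intro ρ _ i _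
      have := pow_cproj D hind htop y σ hσ i v ((σ ^ i).symm ρ)
      rw [Equiv.apply_symm_apply, hcp] at this
      exact this
    funext ρ
    apply Subtype.ext
    obtain ⟨ρ, hρ⟩ := ρ
    show (w ⟨ρ, hρ⟩ : V) = 0
    have hwρ : w'' ρ = (w ⟨ρ, hρ⟩ : V) := by simp only [w'', dif_pos hρ]
    rw [← hwρ]
    have h0 : cproj D hind htop ρ (N v) = 0 := by rw [hNv, map_zero]
    have hsum : cproj D hind htop ρ (N v) =
        ∑ i ∈ Finset.range r, (y ^ i) (w'' ((σ ^ i).symm ρ)) := by
      show cproj D hind htop ρ ((∑ i ∈ Finset.range r, y ^ i) v) = _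
      rw [LinearMap.sum_apply, map_sum]
      apply Finset.sum_congr rfl
      intro i hi
      exact hterm ρ hρ i (Finset.mem_range.mp hi)
    rw [hsum] at h0
    by_cases hfix : σ ρ = ρ
    · -- a fixed line
      have hinv : ∀ u ∈ D ρ, y u ∈ D ρ := by
        intro u hu
        have : y u ∈ (D ρ).map y := Submodule.mem_map_of_mem hu
        rw [hσ, hfix] at this
        exact this
      have hid : ∀ u ∈ D ρ, y u = u :=
        eq_of_invariant_line y r hy hroot (D ρ) (hfr ρ) hinv
      have hterm' : ∀ i ∈ Finset.range r, (y ^ i) (w'' ((σ ^ i).symm ρ)) = w'' ρ := by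
        intro i _
        have h1 : (σ ^ i).symm ρ = ρ := by
          rw [Equiv.symm_apply_eq]
          exact (Equiv.Perm.pow_apply_eq_self_of_apply_eq_self hfix i).symm
        rw [h1]
        exact pow_apply_of_fixed y _ (hid _ (hw''mem ρ)) i
      rw [Finset.sum_congr rfl hterm', Finset.sum_const, Finset.card_range,
        ← Nat.cast_smul_eq_nsmul F] at h0
      exact (smul_eq_zero.mp h0).resolve_left hr0
    · -- a moved line
      have hfree := perm_pow_apply_ne_of_prime σ r hr hσr ρ hfix
      have hterm' : ∀ i ∈ Finset.range r, i ≠ 0 → (y ^ i) (w'' ((σ ^ i).symm ρ)) = 0 := by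
        intro i hi hi0
        rw [Finset.mem_range] at hi
        have hnP : (σ ^ i).symm ρ ∉ P := by
          intro hP'
          have h1 := huniq ρ hρ _ hP' i hi (Equiv.apply_symm_apply _ _)
          apply hfree i (Nat.pos_of_ne_zero hi0) hi
          have h2 : (σ ^ i) ((σ ^ i).symm ρ) = ρ := Equiv.apply_symm_apply _ _
          rw [h1] at h2
          exact h2
        simp only [w'', dif_neg hnP, map_zero]
      rw [Finset.sum_eq_single 0 hterm' (fun h => absurd (Finset.mem_range.mpr hr.pos) h)] at h0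
      have h5 : (σ ^ 0).symm ρ = ρ := by
        rw [Equiv.symm_apply_eq, pow_zero]
        rfl
      rw [h5, pow_zero, Module.End.one_apply] at h0
      exact h0
  have h1 := LinearMap.finrank_le_finrank_of_injective hΛ
  have h2 : finrank F ((j : {j // j ∈ P}) → E j) = P.card * 1 :=
    finrank_cprojOn_target D P 1 hfr
  rw [h2, mul_one] at h1
  calc t ≤ r * P.card := hcard
    _ ≤ r * finrank F (LinearMap.ker (y - 1)) := Nat.mul_le_mul_left r h1

end Cfsg.Agent.Lib.H24.Elus
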