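import Cfsg.Agent.Lib.H24.ElusLn

set_option autoImplicit false

/-!
# Test elements of order `r` in `SL_n(q)` with prescribed fixed space (helper24)
-/

namespace Cfsg.Agent.Lib.H24.Elus

open Polynomial Module Matrix
open Cfsg.Agent.Lib.H13

variable {F : Type*} [Field F] [Fintype F] {p q : ℕ} [Fact p.Prime] [CharP F p]

/-- an element of `SL_n(q)` of order `r` with fixed space of dimension `k`, where
`n = k + i e`, `i = ord_r q ≥ 2`, `e ≥ 1` -/
theorem exists_sl_of_fix (hq : Fintype.card F = q) (r : ℕ) [Fact r.Prime] (hrp : r ≠ p)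
    (hi2 : 2 ≤ orderOf (q : ZMod r)) (n k e : ℕ) (hn : n = k + orderOf (q : ZMod r) * e)
    (he : 0 < e) :
    ∃ x : Matrix.SpecialLinearGroup (Fin n) F,
      (x : Matrix (Fin n) (Fin n) F) ^ r = 1 ∧
      (∀ c : F, (x : Matrix (Fin n) (Fin n) F) ≠ c • 1) ∧
      finrank F (LinearMap.ker (aeval (Matrix.toLin' (x : Matrix (Fin n) (Fin n) F))
        (X - 1 : F[X]))) = k := by
  classical
  have hr : r.Prime := Fact.out
  have hq2 := two_le_card (F := F) hq
  set i := orderOf (q : ZMod r) with hi_def
  have hcop : Nat.Coprime (Fintype.card F - 1) r := by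
    rw [hq]
    exact coprime_of_order_ne_one q r (by omega) (by omega)
  have hirr := CycFactor.irreducible_fJ (F := F) (r := r)
  have hcopf := CycFactor.coprime_fJ (F := F) hr hrp
  have hprod := CycFactor.prod_fJ (F := F) hr hrp
  have hcard := CycFactor.card_S (F := F) hq hr hrp
  have hne : Nonempty (CycFactor.S r F) := by
    rw [← Fintype.card_pos_iff]
    rcases Nat.eq_zero_or_pos (Fintype.card (CycFactor.S r F)) with h0 | h0
    · rw [h0, zero_mul] at hcard
      have := hr.two_le
      omega
    · exact h0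
  obtain ⟨s₀⟩ := hne
  obtain ⟨x, hx, hmu⟩ := GLPrime.exists_of_mu (n := n) (CycFactor.fJ (F := F) r) hirr hcopf hprod
    hr.pos (fun j => j.elim k (fun s => if s = s₀ then e else 0)) (by
      rw [Fintype.sum_option]
      simp only [Option.elim_none, Option.elim_some]
      rw [CycFactor.natDegree_fJ_none, mul_one]
      have : ∑ s : CycFactor.S r F, (if s = s₀ then e else 0) *
          (CycFactor.fJ (F := F) r (some s)).natDegree = e * i := by
        rw [Finset.sum_eq_single s₀]
        · rw [if_pos rfl, CycFactor.natDegree_fJ_some hq hr hrp]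
        · intro s _ hs
          rw [if_neg hs, zero_mul]
        · intro h
          exact absurd (Finset.mem_univ _) h
      rw [this, hn, mul_comm])
  have hdet : (x : Matrix (Fin n) (Fin n) F).det = 1 := by
    apply eq_one_of_pow_coprime r hr.pos hcop
    rw [← Matrix.det_pow, hx, Matrix.det_one]
  have hfix : finrank F (LinearMap.ker (aeval (Matrix.toLin' (x : Matrix (Fin n) (Fin n) F))
      (X - 1 : F[X]))) = k := by
    have := hmu none
    rw [CycFactor.natDegree_fJ_none, mul_one] at this
    exact this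
  refine ⟨⟨x, hdet⟩, hx, ?_, hfix⟩
  intro c hc
  change (x : Matrix (Fin n) (Fin n) F) = c • 1 at hc
  have hie : 0 < i * e := Nat.mul_pos (by omega) he
  have hn1 : 1 ≤ n := by omega
  have hc1 : c = 1 := by
    apply eq_one_of_pow_coprime r hr.pos hcop
    apply PGLPrime.pow_eq_of_smul_one hn1 hr.pos c 1
    rw [← hc, hx, one_smul]
  rw [hc1, one_smul] at hc
  rw [hc, Matrix.toLin'_one] at hfix
  have h0 : aeval (LinearMap.id : (Fin n → F) →ₗ[F] (Fin n → F)) (X - 1 : F[X]) = 0 := by
    rw [map_sub, aeval_X, map_one]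
    exact sub_self _
  rw [h0, LinearMap.ker_zero, finrank_top, Module.finrank_fintype_fun_eq_card,
    Fintype.card_fin] at hfix
  omega

end Cfsg.Agent.Lib.H24.Elus
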