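import Cfsg.Agent.Lib.H24.ElusImpSecond
import Cfsg.Agent.Lib.H24.ElusImpFirst
import Cfsg.Agent.Lib.H24.ElusImpLines
import Cfsg.Agent.Lib.H24.ElusImpCount
import Cfsg.Agent.Lib.H24.ElusImpTest

set_option autoImplicit false

/-!
# PSL_n(q): elements of odd prime order `r ≠ p` and imprimitive subgroups (S5958) (helper24)
-/

namespace Cfsg.Agent.Lib.H24.Elus

open Polynomial Module Matrix
open Cfsg.Agent.Lib.H13

section general

variable {F : Type*} [Field F] {V : Type*} [AddCommGroup V] [Module F V] [Module.Finite F V]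

theorem map_eq_of_invariant (φ : End F V) (hinj : Function.Injective φ) (W : Submodule F V)
    (hW : ∀ v ∈ W, φ v ∈ W) : W.map φ = W := by
  apply Submodule.eq_of_le_of_finrank_eq
  · rintro _ ⟨v, hv, rfl⟩
    exact hW v hv
  · exact (LinearEquiv.finrank_eq (Submodule.equivMapOfInjective φ hinj W)).symm

/-- some decomposition into `t` subspaces of dimension `a` -/
theorem exists_decomp_trivial (a t : ℕ) (hV : finrank F V = a * t) :
    ∃ D : Fin t → Submodule F V, (∀ i, finrank F (D i) = a) ∧ iSupIndep D ∧ iSup D = ⊤ := by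
  classical
  have hirr : ∀ _ : Unit, Irreducible (X - C 1 : F[X]) := fun _ => irreducible_X_sub_C 1
  obtain ⟨D, h1, h2, h3, -⟩ := exists_decomp_of_mults (fun _ : Unit => (X - C 1 : F[X])) hirr
    (fun i j h => absurd (Subsingleton.elim i j) h) (1 : End F V) (by
      rw [Finset.prod_const, Finset.card_univ, Fintype.card_unit, pow_one, map_sub, aeval_X,
        aeval_C, map_one, sub_self]) t a (fun _ _ => a) (by
      intro i
      rw [Finset.sum_const, Finset.card_univ, Fintype.card_unit, one_smul, natDegree_X_sub_C,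
        mul_one]) (by
      intro j
      have h0 : aeval (1 : End F V) (X - C 1 : F[X]) = 0 := by
        rw [map_sub, aeval_X, aeval_C, map_one, sub_self]
      rw [h0, LinearMap.ker_zero, finrank_top, hV, Finset.sum_const, Finset.card_univ,
        Fintype.card_fin, smul_eq_mul, natDegree_X_sub_C, mul_one, mul_comm])
  exact ⟨D, h1, h2, h3⟩

end general

variable {F : Type*} [Field F] [Fintype F] {p q : ℕ} [Fact p.Prime] [CharP F p]

theorem toLin'_sl_injective {n : ℕ} (x : Matrix.SpecialLinearGroup (Fin n) F) :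
    Function.Injective (Matrix.toLin' (x : Matrix (Fin n) (Fin n) F)) := by
  have hleft : Function.LeftInverse
      (Matrix.toLin' ((x⁻¹ : Matrix.SpecialLinearGroup (Fin n) F) : Matrix (Fin n) (Fin n) F))
      (Matrix.toLin' (x : Matrix (Fin n) (Fin n) F)) := by
    intro v
    rw [← LinearMap.comp_apply, ← Matrix.toLin'_mul, ← Matrix.SpecialLinearGroup.coe_mul,
      inv_mul_cancel, Matrix.SpecialLinearGroup.coe_one, Matrix.toLin'_one, LinearMap.id_apply]
  exact hleft.injective

/-- (⇐) -/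
theorem imp_suff (hq : Fintype.card F = q) (n a t : ℕ) (hn : 2 ≤ n) (hat : n = a * t)
    (ha : 1 ≤ a) (ht : 2 ≤ t) (r : ℕ) [Fact r.Prime] (hrp : r ≠ p) (c : ℕ)
    (hc : c = orderOf (q : ZMod r))
    (hR : (a = 1 ∧ 1 < c ∧ c = r - 1 ∧ n ≤ (n % c) * r) ∨ (c ≤ a ∧ n % c = t * (a % c)))
    (x : Matrix.SpecialLinearGroup (Fin n) F) (z : F)
    (hz : (x : Matrix (Fin n) (Fin n) F) ^ r = z • 1) :
    ∃ D : Fin t → Submodule F (Fin n → F), Cfsg.Geo.IsMDecomposition a D ∧
      ∃ σ : Equiv.Perm (Fin t),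
        ∀ j, (D j).map (Matrix.toLin' (x : Matrix (Fin n) (Fin n) F)) = D (σ j) := by
  classical
  have hr : r.Prime := Fact.out
  have hq2 := two_le_card (F := F) hq
  have hfr : finrank F (Fin n → F) = n := by
    rw [Module.finrank_fintype_fun_eq_card, Fintype.card_fin]
  have hz0 := ne_zero_of_pow_smul (by omega : 0 < n) (x : Matrix (Fin n) (Fin n) F) x.2 r z hz
  obtain ⟨y₀, hy₀def⟩ : ∃ y₀, y₀ = Matrix.toLin' (x : Matrix (Fin n) (Fin n) F) := ⟨_, rfl⟩
  rw [← hy₀def]
  have hinj : Function.Injective y₀ := by rw [hy₀def]; exact toLin'_sl_injective x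
  have hy₀ : aeval y₀ (X ^ r - C z : F[X]) = 0 := by
    rw [hy₀def]; exact PGLPrime.aeval_pow_sub _ z hz
  by_cases hpow : ∃ d : F, d ^ r = z
  · obtain ⟨d, hd⟩ := hpow
    have hd0 : d ≠ 0 := by
      rintro rfl
      rw [zero_pow hr.ne_zero] at hd
      exact hz0 hd.symm
    have hφ := aeval_smul_pow_sub_one r y₀ z d hd0 hd hy₀
    have hφinj : Function.Injective (d⁻¹ • y₀) := by
      intro v w hvw
      rw [LinearMap.smul_apply, LinearMap.smul_apply] at hvw
      exact hinj (smul_right_injective _ (inv_ne_zero hd0) hvw)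
    have hback : ∀ W W' : Submodule F (Fin n → F), W.map (d⁻¹ • y₀) = W' → W.map y₀ = W' := by
      intro W W' h
      rw [← h, Submodule.map_smul y₀ W d⁻¹ (inv_ne_zero hd0)]
    rcases hR with ⟨ha1, hc1, hcr, hle⟩ | ⟨hca, hmod⟩
    · subst ha1
      have htn : t = n := by omega
      subst htn
      rw [hcr] at hle
      obtain ⟨D, h1, h2, h3, σ, h4⟩ := exists_decomp_first hq hr hrp (d⁻¹ • y₀) hφinj hφ
        (by rw [← hc, hcr]) t hfr hle
      exact ⟨D, ⟨ht, ha, h1, h2, h3⟩, σ, fun j => hback _ _ (h4 j)⟩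
    · obtain ⟨D, h1, h2, h3, h4⟩ := exists_decomp_second hq hr hrp (d⁻¹ • y₀) hφ a t
        (by rw [hfr, hat]) (by rw [← hc, ← hat]; exact hmod)
      refine ⟨D, ⟨ht, ha, h1, h2, h3⟩, 1, fun j => hback _ _ ?_⟩
      exact map_eq_of_invariant _ hφinj (D j) (h4 j)
  · have hpow' : ∀ d : F, d ^ r ≠ z := fun d hd => hpow ⟨d, hd⟩
    have hirr : Irreducible (X ^ r - C z : F[X]) := X_pow_sub_C_irreducible_of_prime hr hpow'
    have hdvd : r ∣ n := by
      have := SSClass.natDegree_dvd_finrank _ hirr y₀ hy₀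
      rwa [natDegree_X_pow_sub_C, hfr] at this
    rw [hat] at hdvd
    rcases (Nat.Prime.dvd_mul hr).mp hdvd with ⟨a', ha'⟩ | ⟨u, hu⟩
    · -- `r ∣ a`
      obtain ⟨D, h1, h2, h3, h4⟩ := exists_decomp_of_mults (fun _ : Unit => (X ^ r - C z : F[X]))
        (fun _ => hirr) (fun i j h => absurd (Subsingleton.elim i j) h) y₀ (by
          rw [Finset.prod_const, Finset.card_univ, Fintype.card_unit, pow_one]
          exact hy₀) t a (fun _ _ => a') (by
          intro i
          rw [Finset.sum_const, Finset.card_univ, Fintype.card_unit, one_smul,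
            natDegree_X_pow_sub_C, ha', mul_comm]) (by
          intro j
          rw [hy₀, LinearMap.ker_zero, finrank_top, hfr, Finset.sum_const, Finset.card_univ,
            Fintype.card_fin, smul_eq_mul, natDegree_X_pow_sub_C, hat, ha']
          ring)
      refine ⟨D, ⟨ht, ha, h1, h2, h3⟩, 1, fun j => ?_⟩
      exact map_eq_of_invariant _ hinj (D j) (h4 j)
    · -- `r ∣ t`
      subst hu
      haveI : NeZero r := ⟨hr.ne_zero⟩
      obtain ⟨D, h1, h2, h3, σ, h4⟩ := exists_decomp_nonpow y₀ hinj z hirr hy₀ a u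
        (by rw [hfr, hat])
      exact ⟨D, ⟨ht, ha, h1, h2, h3⟩, σ, h4⟩

/-- the fixed space of an element of order `r` leaving all summands invariant -/
theorem fix_all_invariant (hq : Fintype.card F = q) {r : ℕ} (hr : r.Prime) (hrp : r ≠ p)
    {n a t : ℕ} (D : Fin t → Submodule F (Fin n → F)) (hD : Cfsg.Geo.IsMDecomposition a D)
    (y : End F (Fin n → F)) (hy : aeval y (X ^ r - 1 : F[X]) = 0)
    (hinv : ∀ j, (D j).map y = D j) :
    finrank F (LinearMap.ker (aeval y (X - 1 : F[X]))) =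
        ∑ j, finrank F ↥(D j ⊓ LinearMap.ker (aeval y (X - 1 : F[X]))) ∧
      ∀ j, finrank F ↥(D j ⊓ LinearMap.ker (aeval y (X - 1 : F[X]))) % orderOf (q : ZMod r) =
          a % orderOf (q : ZMod r) ∧
        finrank F ↥(D j ⊓ LinearMap.ker (aeval y (X - 1 : F[X]))) ≤ a := by
  classical
  have hker : aeval y (X - 1 : F[X]) = y - 1 := by rw [map_sub, aeval_X, map_one]
  constructor
  · rw [hker]
    exact finrank_fix_eq_sum D hD.indep hD.iSup_eq_top y 1 (fun j => by
      rw [hinv j]; rfl) (fun j => rfl)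
  · intro j
    constructor
    · have h1 := mod_of_invariant hq hr hrp y hy (D j) (by
        intro v hv
        rw [← hinv j]
        exact Submodule.mem_map_of_mem hv)
      rw [hD.finrank_eq] at h1
      exact h1.symm
    · rw [← hD.finrank_eq j]
      exact Submodule.finrank_mono inf_le_left

/-- (⇒) for `c ≥ 2` -/
theorem imp_nec (hq : Fintype.card F = q) (n a t : ℕ) (hn : 2 ≤ n) (hat : n = a * t)
    (ha : 1 ≤ a) (ht : 2 ≤ t) (r : ℕ) [Fact r.Prime] (hrp : r ≠ p) (c : ℕ)
    (hc : c = orderOf (q : ZMod r)) (hc2 : 2 ≤ c) (hcn : c ≤ n)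
    (h : ∀ x : Matrix.SpecialLinearGroup (Fin n) F,
      (x : Matrix (Fin n) (Fin n) F) ^ r = 1 →
      (∀ z : F, (x : Matrix (Fin n) (Fin n) F) ≠ z • (1 : Matrix (Fin n) (Fin n) F)) →
      ∃ D : Fin t → Submodule F (Fin n → F), Cfsg.Geo.IsMDecomposition a D ∧
        ∃ σ : Equiv.Perm (Fin t),
          ∀ j, (D j).map (Matrix.toLin' (x : Matrix (Fin n) (Fin n) F)) = D (σ j)) :
    (a = 1 ∧ 1 < c ∧ c = r - 1 ∧ n ≤ (n % c) * r) ∨ (c ≤ a ∧ n % c = t * (a % c)) := by
  classical
  have hr : r.Prime := Fact.out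
  have hq2 := two_le_card (F := F) hq
  have hc0 : 0 < c := by omega
  have hcop : Nat.Coprime (Fintype.card F - 1) r := by
    rw [hq]
    exact coprime_of_order_ne_one q r (by omega) (by rw [← hc]; omega)
  by_cases hca : c ≤ a
  · right
    refine ⟨hca, ?_⟩
    obtain ⟨x, hx, hns, hfix⟩ := exists_sl_cyc hq r hrp (by rw [← hc]; exact hc2) n
      (by rw [← hc]; exact hcn)
    rw [← hc] at hfix
    obtain ⟨D, hD, σ, hσ⟩ := h x hx hns
    obtain ⟨y, hy⟩ : ∃ y, y = Matrix.toLin' (x : Matrix (Fin n) (Fin n) F) := ⟨_, rfl⟩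
    rw [← hy] at hσ hfix
    have hyr : y ^ r = 1 := by
      rw [hy, ← Matrix.toLin'_pow, hx, Matrix.toLin'_one]
      rfl
    have hyae : aeval y (X ^ r - 1 : F[X]) = 0 := by
      rw [hy]; exact GLPrime.aeval_of_pow _ hx
    have hker : aeval y (X - 1 : F[X]) = y - 1 := by rw [map_sub, aeval_X, map_one]
    by_cases hmoved : ∃ j₀, σ j₀ ≠ j₀
    · exfalso
      obtain ⟨j₀, hj₀⟩ := hmoved
      have h1 := fix_ge_of_moved D hD.indep y σ hσ a ha hD.finrank_eq r hr hyr j₀ hj₀
      rw [← hker, hfix] at h1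
      have := Nat.mod_lt n hc0
      omega
    · push_neg at hmoved
      have hσ' : ∀ j, (D j).map y = D j := fun j => by rw [hσ j, hmoved j]
      obtain ⟨h1, h2⟩ := fix_all_invariant hq hr hrp D hD y hyae hσ'
      rw [hfix] at h1
      rw [← hc] at h2
      have hterm : ∀ j, finrank F ↥(D j ⊓ LinearMap.ker (aeval y (X - 1 : F[X]))) = a % c := by
        intro j
        have hle : finrank F ↥(D j ⊓ LinearMap.ker (aeval y (X - 1 : F[X]))) ≤ n % c := by
          rw [h1]
          exact Finset.single_le_sum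
            (f := fun j => finrank F ↥(D j ⊓ LinearMap.ker (aeval y (X - 1 : F[X]))))
            (fun _ _ => Nat.zero_le _) (Finset.mem_univ j)
        have hlt := Nat.mod_lt n hc0
        rw [← (h2 j).1, Nat.mod_eq_of_lt (by omega)]
      rw [h1, Finset.sum_congr rfl (fun j _ => hterm j), Finset.sum_const, Finset.card_univ,
        Fintype.card_fin, smul_eq_mul]
  · left
    push_neg at hca
    obtain ⟨x, hx, hns, hfix⟩ := exists_sl_of_fix hq r hrp (by rw [← hc]; exact hc2) n (n - c) 1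
      (by rw [← hc]; omega) one_pos
    obtain ⟨D, hD, σ, hσ⟩ := h x hx hns
    obtain ⟨y, hy⟩ : ∃ y, y = Matrix.toLin' (x : Matrix (Fin n) (Fin n) F) := ⟨_, rfl⟩
    rw [← hy] at hσ hfix
    have hyr : y ^ r = 1 := by
      rw [hy, ← Matrix.toLin'_pow, hx, Matrix.toLin'_one]
      rfl
    have hyae : aeval y (X ^ r - 1 : F[X]) = 0 := by
      rw [hy]; exact GLPrime.aeval_of_pow _ hx
    have hker : aeval y (X - 1 : F[X]) = y - 1 := by rw [map_sub, aeval_X, map_one]
    have hcS := CycFactor.card_S (F := F) hq hr hrp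
    rw [← hc] at hcS
    have hcr : c ≤ r - 1 := by
      rcases Nat.eq_zero_or_pos (Fintype.card (CycFactor.S r F)) with h0 | h0
      · rw [h0, zero_mul] at hcS
        have := hr.two_le
        omega
      · calc c = 1 * c := (one_mul c).symm
          _ ≤ Fintype.card (CycFactor.S r F) * c := Nat.mul_le_mul_right c h0
          _ = r - 1 := hcS
    by_cases hmoved : ∃ j₀, σ j₀ ≠ j₀
    · obtain ⟨j₀, hj₀⟩ := hmoved
      have h1 := fix_le_of_moved D hD.indep hD.iSup_eq_top y σ hσ a ha hD.finrank_eq r hr hyr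
        j₀ hj₀
      rw [← hker, hfix, Fintype.card_fin, ← hat] at h1
      have h2 : a * (r - 1) ≤ c := by omega
      have ha1 : a = 1 := by
        by_contra hne
        have h3 : 2 ≤ a := by omega
        have h4 := Nat.mul_le_mul_right (r - 1) h3
        have := hr.two_le
        omega
      subst ha1
      have hcr' : c = r - 1 := by omega
      refine ⟨rfl, by omega, hcr', ?_⟩
      obtain ⟨x', hx', hns', hfix'⟩ := exists_sl_cyc hq r hrp (by rw [← hc]; exact hc2) n
        (by rw [← hc]; exact hcn)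
      rw [← hc] at hfix'
      obtain ⟨D', hD', σ', hσ'⟩ := h x' hx' hns'
      obtain ⟨y', hy'⟩ : ∃ y', y' = Matrix.toLin' (x' : Matrix (Fin n) (Fin n) F) := ⟨_, rfl⟩
      rw [← hy'] at hσ' hfix'
      have hyr' : y' ^ r = 1 := by
        rw [hy', ← Matrix.toLin'_pow, hx', Matrix.toLin'_one]
        rfl
      have hker' : aeval y' (X - 1 : F[X]) = y' - 1 := by rw [map_sub, aeval_X, map_one]
      have hroot : ∀ u : F, u ^ r = 1 → u = 1 :=
        fun u hu => eq_one_of_pow_coprime r hr.pos hcop u hu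
      have h5 := card_le_of_lines D' hD'.indep hD'.iSup_eq_top y' σ' hσ' hD'.finrank_eq r hr
        hyr' hroot (CycFactor.natCast_ne_zero hr hrp)
      rw [← hker', hfix'] at h5
      rw [mul_comm]
      omega
    · exfalso
      push_neg at hmoved
      have hσ' : ∀ j, (D j).map y = D j := fun j => by rw [hσ j, hmoved j]
      obtain ⟨h1, h2⟩ := fix_all_invariant hq hr hrp D hD y hyae hσ'
      rw [hfix] at h1
      rw [← hc] at h2
      have hterm : ∀ j, finrank F ↥(D j ⊓ LinearMap.ker (aeval y (X - 1 : F[X]))) = a := by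
        intro j
        obtain ⟨h3, h4⟩ := h2 j
        rw [Nat.mod_eq_of_lt hca, Nat.mod_eq_of_lt (by omega)] at h3
        exact h3
      rw [Finset.sum_congr rfl (fun j _ => hterm j), Finset.sum_const, Finset.card_univ,
        Fintype.card_fin, smul_eq_mul, mul_comm, ← hat] at h1
      omega

/-- **S5958** -/
theorem ln_imprimitive_iff (hq : Fintype.card F = q) (n a t : ℕ) (hn : 2 ≤ n) (hat : n = a * t)
    (ha : 1 ≤ a) (ht : 2 ≤ t) (r : ℕ) [Fact r.Prime] (hrp : r ≠ p)
    (hΩ : r ∣ Nat.card {D : Fin t → Submodule F (Fin n → F) // Cfsg.Geo.IsMDecomposition a D} /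
      Nat.factorial t) (c : ℕ) (hc : c = orderOf (q : ZMod r)) :
    (∀ x : Matrix.SpecialLinearGroup (Fin n) F,
      (∃ z : F, ((x ^ r : Matrix.SpecialLinearGroup (Fin n) F) : Matrix (Fin n) (Fin n) F) =
        z • (1 : Matrix (Fin n) (Fin n) F)) →
      (∀ z : F, (x : Matrix (Fin n) (Fin n) F) ≠ z • (1 : Matrix (Fin n) (Fin n) F)) →
      ∃ D : Fin t → Submodule F (Fin n → F), Cfsg.Geo.IsMDecomposition a D ∧
        ∃ σ : Equiv.Perm (Fin t),
          ∀ j, (D j).map (Matrix.toLin' (x : Matrix (Fin n) (Fin n) F)) = D (σ j)) ↔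
    ((a = 1 ∧ 1 < c ∧ c = r - 1 ∧ n ≤ (n % c) * r) ∨ (c ≤ a ∧ n % c = t * (a % c))) := by
  classical
  have hr : r.Prime := Fact.out
  have hfr : finrank F (Fin n → F) = n := by
    rw [Module.finrank_fintype_fun_eq_card, Fintype.card_fin]
  constructor
  · intro h
    by_cases hc1 : c = 1
    · right
      rw [hc1]
      exact ⟨ha, by rw [Nat.mod_one, Nat.mod_one, mul_zero]⟩
    · have hc0 : 0 < c := by rw [hc]; exact CycFactor.orderOf_pos hq hr hrp
      have hc2 : 2 ≤ c := by omega
      have hne : Nonempty {D : Fin t → Submodule F (Fin n → F) //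
          Cfsg.Geo.IsMDecomposition a D} := by
        obtain ⟨D, h1, h2, h3⟩ := exists_decomp_trivial (F := F) (V := Fin n → F) a t
          (by rw [hfr, hat])
        exact ⟨⟨D, ht, ha, h1, h2, h3⟩⟩
      have hcn : c ≤ n := by
        rw [hc]
        exact order_le_of_dvd_card_decomp hq n a t hne r hrp hΩ
      exact imp_nec hq n a t hn hat ha ht r hrp c hc hc2 hcn (fun x hx hns =>
        h x ⟨1, by rw [Matrix.SpecialLinearGroup.coe_pow, hx, one_smul]⟩ hns)
  · rintro hR x ⟨z, hz⟩ -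
    rw [Matrix.SpecialLinearGroup.coe_pow] at hz
    exact imp_suff hq n a t hn hat ha ht r hrp c hc hR x z hz

end Cfsg.Agent.Lib.H24.Elus
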