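import Cfsg.Agent.Lib.H24.ElusImpCoord
import Cfsg.Agent.Lib.H11.Jordan9

set_option autoImplicit false

/-!
# Endomorphisms of prime order permuting the summands of a decomposition (helper24)

`D : ι → Submodule F V` a direct-sum decomposition into subspaces of dimension `a`,
`y ^ r = 1` with `(D j).map y = D (σ j)`.

* `perm_pow_eq_one`: `σ ^ r = 1`.
* `fix_ge_of_moved`: a moved summand gives `a ≤ dim ker (y - 1)`.
* `fix_le_of_moved`: a moved summand gives `dim ker (y - 1) + a (r - 1) ≤ a |ι|`.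
* `finrank_fix_eq_sum`: if all summands are invariant, `dim ker (y - 1) = ∑ dim (D j ⊓ ker (y - 1))`.
* `card_le_of_lines`: for `a = 1` (and no nontrivial `r`-th roots of unity), `|ι| ≤ r dim ker (y - 1)`.
-/

namespace Cfsg.Agent.Lib.H24.Elus

open Module

section perm

variable {ι : Type*}

theorem perm_pow_apply_mod (σ : Equiv.Perm ι) (r : ℕ) (hσ : σ ^ r = 1) (i : ℕ) (x : ι) :
    (σ ^ i) x = (σ ^ (i % r)) x := by
  rw [pow_eq_pow_mod i hσ]

theorem perm_exists_inv_pow (σ : Equiv.Perm ι) (r : ℕ) (hr : 0 < r) (hσ : σ ^ r = 1) (i : ℕ)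
    (hi : i < r) : ∃ i', i' < r ∧ ∀ x, (σ ^ i') ((σ ^ i) x) = x := by
  refine ⟨(r - i) % r, Nat.mod_lt _ hr, fun x => ?_⟩
  rw [← Equiv.Perm.mul_apply, ← pow_add, perm_pow_apply_mod σ r hσ]
  have : ((r - i) % r + i) % r = 0 := by
    rw [Nat.add_mod, Nat.mod_mod, ← Nat.add_mod, Nat.sub_add_cancel hi.le, Nat.mod_self]
  rw [this, pow_zero]
  rfl

theorem perm_pow_apply_ne_of_prime (σ : Equiv.Perm ι) (r : ℕ) (hr : r.Prime) (hσ : σ ^ r = 1)
    (j : ι) (hj : σ j ≠ j) (i : ℕ) (hi0 : 0 < i) (hir : i < r) : (σ ^ i) j ≠ j := by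
  intro hi
  have hcop : Nat.Coprime i r := (Nat.coprime_of_lt_prime (by omega) hir hr).symm
  obtain ⟨m, -, hm⟩ := Nat.exists_mul_mod_eq_one_of_coprime hcop hr.one_lt
  have h1 : σ ^ (i * m) = σ := by
    rw [pow_eq_pow_mod (i * m) hσ, hm, pow_one]
  have h2 : (σ ^ (i * m)) j = j := by
    rw [pow_mul]
    exact Equiv.Perm.pow_apply_eq_self_of_apply_eq_self hi m
  rw [h1] at h2
  exact hj h2

end perm

section main

variable {F : Type*} [Field F] {V : Type*} [AddCommGroup V] [Module F V] [Module.Finite F V]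
variable {ι : Type*} [Fintype ι] [DecidableEq ι]
variable (D : ι → Submodule F V) (hind : iSupIndep D) (htop : iSup D = ⊤)
variable (y : End F V) (σ : Equiv.Perm ι) (hσ : ∀ j, (D j).map y = D (σ j))

include hσ in
theorem map_pow_eq (i : ℕ) (k : ι) : (D k).map (y ^ i) = D ((σ ^ i) k) := by
  induction i generalizing k with
  | zero =>
    rw [pow_zero, pow_zero, Module.End.one_eq_id, Submodule.map_id]
    rfl
  | succ i ih =>
    rw [pow_succ', Module.End.mul_eq_comp, Submodule.map_comp, ih, hσ, pow_succ',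
      Equiv.Perm.mul_apply]

include hσ in
theorem pow_mem_of_mem (i : ℕ) (k : ι) (v : V) (hv : v ∈ D k) : (y ^ i) v ∈ D ((σ ^ i) k) := by
  rw [← map_pow_eq D y σ hσ i k]
  exact Submodule.mem_map_of_mem hv

include hind hσ in
theorem perm_pow_eq_one (a : ℕ) (ha : 0 < a) (hfr : ∀ j, finrank F (D j) = a) (r : ℕ)
    (hy : y ^ r = 1) : σ ^ r = 1 := by
  have hDne : ∀ i, D i ≠ ⊥ := by
    intro i hi
    have := hfr i
    rw [hi, finrank_bot] at this
    omega
  have hDinj : Function.Injective D := hind.injective hDne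
  ext k : 1
  have := map_pow_eq D y σ hσ r k
  rw [hy, Module.End.one_eq_id, Submodule.map_id] at this
  rw [← hDinj this]
  rfl

include hind hσ in
/-- a moved summand forces a large fixed space -/
theorem fix_ge_of_moved (a : ℕ) (ha : 0 < a) (hfr : ∀ j, finrank F (D j) = a) (r : ℕ)
    (hr : r.Prime) (hy : y ^ r = 1) (j₀ : ι) (hj₀ : σ j₀ ≠ j₀) :
    a ≤ finrank F (LinearMap.ker (y - 1)) := by
  have hσr := perm_pow_eq_one D hind y σ hσ a ha hfr r hy
  have hfree := perm_pow_apply_ne_of_prime σ r hr hσr j₀ hj₀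
  have h1 := Cfsg.Agent.Lib.H11.Jordan.le_finrank_range_geom_of_free_cycle D hind y σ hσ r j₀
    hfree hr.pos
  rw [hfr] at h1
  refine h1.trans (Submodule.finrank_mono ?_)
  rintro _ ⟨w, rfl⟩
  rw [LinearMap.mem_ker, ← Module.End.mul_apply, mul_geom_sum, hy, sub_self]
  rfl

include hσ in
theorem pow_cproj (i : ℕ) (v : V) (j : ι) :
    cproj D hind htop ((σ ^ i) j) ((y ^ i) v) = (y ^ i) (cproj D hind htop j v) :=
  cproj_equivariant D hind htop (y ^ i) (σ ^ i)
    (fun k w hw => pow_mem_of_mem D y σ hσ i k w hw) v j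

theorem pow_apply_of_fixed (v : V) (hv : y v = v) (i : ℕ) : (y ^ i) v = v := by
  induction i with
  | zero => rfl
  | succ i ih => rw [pow_succ, Module.End.mul_apply, hv, ih]

include hind htop hσ in
/-- a moved summand bounds the fixed space from above -/
theorem fix_le_of_moved (a : ℕ) (ha : 0 < a) (hfr : ∀ j, finrank F (D j) = a) (r : ℕ)
    (hr : r.Prime) (hy : y ^ r = 1) (j₀ : ι) (hj₀ : σ j₀ ≠ j₀) :
    finrank F (LinearMap.ker (y - 1)) + a * (r - 1) ≤ a * Fintype.card ι := by
  classical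
  have hσr := perm_pow_eq_one D hind y σ hσ a ha hfr r hy
  have hfree := perm_pow_apply_ne_of_prime σ r hr hσr j₀ hj₀
  let Q : Finset ι := (Finset.Icc 1 (r - 1)).image (fun i => (σ ^ i) j₀)
  have hQcard : Q.card = r - 1 := by
    rw [Finset.card_image_of_injOn, Nat.card_Icc]
    · omega
    · intro i hi i' hi' h
      rw [Finset.coe_Icc, Set.mem_Icc] at hi hi'
      by_contra hne
      rcases Nat.lt_or_gt_of_ne hne with hlt | hlt
      · have h2 : (σ ^ (i' - i)) j₀ = j₀ := by
          have h3 : (σ ^ i') j₀ = (σ ^ i) ((σ ^ (i' - i)) j₀) := by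
            rw [← Equiv.Perm.mul_apply, ← pow_add, Nat.add_sub_cancel' hlt.le]
          have h4 : (σ ^ i) j₀ = (σ ^ i) ((σ ^ (i' - i)) j₀) := by
            rw [← h3]; exact h
          exact ((σ ^ i).injective h4).symm
        exact hfree (i' - i) (by omega) (by omega) h2
      · have h2 : (σ ^ (i - i')) j₀ = j₀ := by
          have h3 : (σ ^ i) j₀ = (σ ^ i') ((σ ^ (i - i')) j₀) := by
            rw [← Equiv.Perm.mul_apply, ← pow_add, Nat.add_sub_cancel' hlt.le]
          have h4 : (σ ^ i') j₀ = (σ ^ i') ((σ ^ (i - i')) j₀) := by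
            rw [← h3]; exact h.symm
          exact ((σ ^ i').injective h4).symm
        exact hfree (i - i') (by omega) (by omega) h2
  have hj₀Q : j₀ ∉ Q := by
    intro h
    obtain ⟨i, hi, hi'⟩ := Finset.mem_image.mp h
    rw [Finset.mem_Icc] at hi
    exact hfree i (by omega) (by omega) hi'
  let P : Finset ι := Qᶜ
  have hPcard : P.card + (r - 1) = Fintype.card ι := by
    rw [← hQcard, Finset.card_compl]
    have := Finset.card_le_univ Q
    omega
  let Γ : ↥(LinearMap.ker (y - 1)) →ₗ[F] ((j : {j // j ∈ P}) → D j.1) :=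
    (cprojOn D hind htop P) ∘ₗ (LinearMap.ker (y - 1)).subtype
  have hΓ : Function.Injective Γ := by
    rw [← LinearMap.ker_eq_bot, LinearMap.ker_eq_bot']
    rintro ⟨v, hv⟩ h0
    apply Subtype.ext
    show v = 0
    have hyv : y v = v := by
      rw [LinearMap.mem_ker, LinearMap.sub_apply, Module.End.one_apply, sub_eq_zero] at hv
      exact hv
    have hP : ∀ j ∈ P, cproj D hind htop j v = 0 := by
      intro j hj
      have := congrFun h0 ⟨j, hj⟩
      have h2 := cprojOn_apply D hind htop P v ⟨j, hj⟩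
      rw [← h2]
      show ((Γ ⟨v, hv⟩ ⟨j, hj⟩ : D j) : V) = 0
      rw [this]
      rfl
    apply eq_zero_of_cproj_eq_zero D hind htop
    intro j
    by_cases hj : j ∈ P
    · exact hP j hj
    · have hjQ : j ∈ Q := by
        by_contra h
        exact hj (Finset.mem_compl.mpr h)
      obtain ⟨i, -, rfl⟩ := Finset.mem_image.mp hjQ
      have h3 := pow_cproj D hind htop y σ hσ i v j₀
      rw [pow_apply_of_fixed y v hyv i] at h3
      rw [h3, hP j₀ (Finset.mem_compl.mpr hj₀Q), map_zero]
  have h1 := LinearMap.finrank_le_finrank_of_injective hΓ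
  rw [finrank_cprojOn_target D P a hfr] at h1
  calc finrank F (LinearMap.ker (y - 1)) + a * (r - 1) ≤ P.card * a + a * (r - 1) := by omega
    _ = a * (P.card + (r - 1)) := by ring
    _ = a * Fintype.card ι := by rw [hPcard]

include hind htop hσ in
/-- if all summands are invariant the fixed space is the sum of the fixed spaces -/
theorem finrank_fix_eq_sum (hfix : ∀ j, σ j = j) :
    finrank F (LinearMap.ker (y - 1)) = ∑ j, finrank F ↥(D j ⊓ LinearMap.ker (y - 1)) := by
  have h1 : (⨆ j, D j ⊓ LinearMap.ker (y - 1)) = LinearMap.ker (y - 1) := by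
    apply le_antisymm
    · exact iSup_le (fun j => inf_le_right)
    · intro v hv
      have hyv : y v = v := by
        rw [LinearMap.mem_ker, LinearMap.sub_apply, Module.End.one_apply, sub_eq_zero] at hv
        exact hv
      rw [← sum_cproj D hind htop v]
      apply Submodule.sum_mem
      intro j _
      apply Submodule.mem_iSup_of_mem j
      refine Submodule.mem_inf.mpr ⟨cproj_mem D hind htop j v, ?_⟩
      rw [LinearMap.mem_ker, LinearMap.sub_apply, Module.End.one_apply, sub_eq_zero]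
      have h2 := cproj_equivariant D hind htop y σ (fun k w hw => by
        rw [← hσ k]; exact Submodule.mem_map_of_mem hw) v j
      rw [hfix j, hyv] at h2
      exact h2.symm
  rw [← finrank_iSup_eq_sum (fun j => D j ⊓ LinearMap.ker (y - 1))
    (hind.mono (fun j => inf_le_left)), h1]

end main

end Cfsg.Agent.Lib.H24.Elus
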