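import Mathlib
import Cfsg.Prelude.Def_GeometricClasses
import Cfsg.Agent.Lib.H24.ElusSpTest
import Cfsg.Agent.Lib.H24.ElusLn
import Cfsg.Agent.Lib.H13.SSClass

set_option autoImplicit false

/-!
# The number of orthogonal decompositions of a symplectic space (helper24)

* `factorial_dvd_card_of_perm`: `t !` divides the number of injective families closed under
  permutation.
* `card_spdecomp_dvd_card_sp`: the number of ordered orthogonal decompositions divides `|Sp|`.
* `cOf_le_of_dvd_card_spdecomp`: a prime `r ≠ p` dividing the number of unordered orthogonal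
  decompositions has `c ≤ 2 d`.
-/

namespace Cfsg.Agent.Lib.H24.Elus

open Module
open Cfsg.Agent.Lib.H13

section perm

/-- `t !` divides the number of injective families with a permutation-invariant property -/
theorem factorial_dvd_card_of_perm {X : Type*} (t : ℕ) (P : (Fin t → X) → Prop)
    (hperm : ∀ (σ : Equiv.Perm (Fin t)) (D : Fin t → X), P D → P (fun j => D (σ⁻¹ j)))
    (hinj : ∀ D, P D → Function.Injective D) :
    Nat.factorial t ∣ Nat.card {D : Fin t → X // P D} := by
  classical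
  letI : MulAction (Equiv.Perm (Fin t)) {D : Fin t → X // P D} :=
    { smul := fun σ D => ⟨fun j => D.1 (σ⁻¹ j), hperm σ D.1 D.2⟩
      one_smul := fun D => by
        apply Subtype.ext
        funext j
        show D.1 ((1 : Equiv.Perm (Fin t))⁻¹ j) = D.1 j
        rw [inv_one, Equiv.Perm.one_apply]
      mul_smul := fun σ τ D => by
        apply Subtype.ext
        funext j
        show D.1 ((σ * τ)⁻¹ j) = D.1 (τ⁻¹ (σ⁻¹ j))
        rw [mul_inv_rev, Equiv.Perm.mul_apply] }
  have hfree : ∀ D : {D : Fin t → X // P D},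
      MulAction.stabilizer (Equiv.Perm (Fin t)) D = ⊥ := by
    intro D
    rw [eq_bot_iff]
    intro σ hσ
    rw [MulAction.mem_stabilizer_iff] at hσ
    rw [Subgroup.mem_bot]
    ext j : 1
    have h1 : D.1 (σ⁻¹ (σ j)) = D.1 (σ j) := congrFun (congrArg Subtype.val hσ) (σ j)
    rw [Equiv.Perm.inv_def, Equiv.symm_apply_apply] at h1
    rw [← hinj D.1 D.2 h1]
    rfl
  have e := MulAction.selfEquivOrbitsQuotientProd hfree
  have hfin : Nat.card (Fin t) = t := by
    rw [Nat.card_eq_fintype_card, Fintype.card_fin]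
  rw [Nat.card_congr e, Nat.card_prod, Nat.card_perm, hfin]
  exact Dvd.intro_left _ rfl

end perm

section diag

variable {F : Type*} [Field F] {V : Type*} [AddCommGroup V] [Module F V]

theorem bilin_sum_diag {ι : Type*} [Fintype ι] [DecidableEq ι] (B : LinearMap.BilinForm F V)
    (w w' : ι → V) (h : ∀ j k, j ≠ k → B (w j) (w' k) = 0) :
    B (∑ j, w j) (∑ k, w' k) = ∑ j, B (w j) (w' j) := by
  have h1 : B (∑ j, w j) (∑ k, w' k) = ∑ j, B (w j) (∑ k, w' k) := by
    rw [map_sum B, LinearMap.sum_apply]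
  rw [h1]
  apply Finset.sum_congr rfl
  intro j _
  rw [map_sum (B (w j)), Finset.sum_eq_single j]
  · intro k _ hkj
    exact h j k (Ne.symm hkj)
  · intro hj
    exact absurd (Finset.mem_univ j) hj

end diag

section count

variable {F : Type*} [Field F]

/-- the orthogonal decompositions of the standard symplectic space -/
abbrev IsSpDecomp (d a t : ℕ) (D : Fin t → Submodule F (Fin d ⊕ Fin d → F)) : Prop :=
  Cfsg.Geo.IsMDecomposition a D ∧
    (∀ j, ∀ u ∈ D j, u ≠ 0 → ∃ v ∈ D j, Cfsg.sympForm d F u v ≠ 0) ∧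
    (∀ j j', j ≠ j' → ∀ u ∈ D j, ∀ v ∈ D j', Cfsg.sympForm d F u v = 0)

theorem NDon_of_nd (d : ℕ) (U : Submodule F (Fin d ⊕ Fin d → F))
    (h : ∀ u ∈ U, u ≠ 0 → ∃ v ∈ U, Cfsg.sympForm d F u v ≠ 0) : NDon (stdB d) U := by
  intro u hu hu'
  by_contra hne
  obtain ⟨v, hv, huv⟩ := h u hu hne
  apply huv
  rw [← stdB_apply]
  exact hu' v hv

theorem nd_of_NDon (d : ℕ) (U : Submodule F (Fin d ⊕ Fin d → F)) (h : NDon (stdB d) U) :
    ∀ u ∈ U, u ≠ 0 → ∃ v ∈ U, Cfsg.sympForm d F u v ≠ 0 := by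
  intro u hu hne
  by_contra hcon
  push Not at hcon
  apply hne
  apply h u hu
  intro v hv
  rw [stdB_apply]
  exact hcon v hv

/-- the linear automorphism of a symplectic matrix -/
noncomputable def spEquiv (d : ℕ) (g : ↥(Matrix.symplecticGroup (Fin d) F)) :
    (Fin d ⊕ Fin d → F) ≃ₗ[F] (Fin d ⊕ Fin d → F) :=
  Matrix.toLin'OfInv
    (M := ((g⁻¹ : ↥(Matrix.symplecticGroup (Fin d) F)) :
      Matrix (Fin d ⊕ Fin d) (Fin d ⊕ Fin d) F))
    (M' := (g : Matrix (Fin d ⊕ Fin d) (Fin d ⊕ Fin d) F))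
    (congrArg Subtype.val (inv_mul_cancel g)) (congrArg Subtype.val (mul_inv_cancel g))

theorem spEquiv_coe (d : ℕ) (g : ↥(Matrix.symplecticGroup (Fin d) F)) :
    ((spEquiv d g : (Fin d ⊕ Fin d → F) ≃ₗ[F] (Fin d ⊕ Fin d → F)) :
      (Fin d ⊕ Fin d → F) →ₗ[F] (Fin d ⊕ Fin d → F)) =
      Matrix.toLin' (g : Matrix (Fin d ⊕ Fin d) (Fin d ⊕ Fin d) F) := rfl

theorem isSpDecomp_map (d a t : ℕ) (g : ↥(Matrix.symplecticGroup (Fin d) F))
    (D : Fin t → Submodule F (Fin d ⊕ Fin d → F)) (hD : IsSpDecomp d a t D) :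
    IsSpDecomp d a t
      (fun j => (D j).map (Matrix.toLin' (g : Matrix (Fin d ⊕ Fin d) (Fin d ⊕ Fin d) F))) := by
  obtain ⟨h1, h2, h3⟩ := hD
  simp only [← spEquiv_coe]
  refine ⟨⟨h1.two_le, h1.pos, fun i => ?_, ?_, ?_⟩, ?_, ?_⟩
  · rw [LinearEquiv.finrank_map_eq, h1.finrank_eq]
  · exact h1.indep.map_orderIso (Submodule.orderIsoMapComap (spEquiv d g))
  · rw [← Submodule.map_iSup, h1.iSup_eq_top, Submodule.map_top, LinearEquiv.range]
  · rintro j _ ⟨u, hu, rfl⟩ hne
    have hu0 : u ≠ 0 := by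
      rintro rfl
      exact hne (map_zero _)
    obtain ⟨v, hv, huv⟩ := h2 j u hu hu0
    refine ⟨_, Submodule.mem_map_of_mem hv, ?_⟩
    rw [← stdB_apply] at huv ⊢
    rw [LinearEquiv.coe_coe, ← LinearEquiv.coe_coe, spEquiv_coe, sp_iso]
    exact huv
  · rintro j j' hjj' _ ⟨u, hu, rfl⟩ _ ⟨v, hv, rfl⟩
    rw [← stdB_apply, LinearEquiv.coe_coe, ← LinearEquiv.coe_coe, spEquiv_coe, sp_iso, stdB_apply]
    exact h3 j j' hjj' u hu v hv

variable [Fintype F]

/-- the number of ordered orthogonal decompositions divides the order of the symplectic group -/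
theorem card_spdecomp_dvd_card_sp (d a' t : ℕ)
    (hne : Nonempty {D : Fin t → Submodule F (Fin d ⊕ Fin d → F) // IsSpDecomp d (2 * a') t D}) :
    Nat.card {D : Fin t → Submodule F (Fin d ⊕ Fin d → F) // IsSpDecomp d (2 * a') t D} ∣
      Nat.card ↥(Matrix.symplecticGroup (Fin d) F) := by
  classical
  let _ : MulAction ↥(Matrix.symplecticGroup (Fin d) F)
      {D : Fin t → Submodule F (Fin d ⊕ Fin d → F) // IsSpDecomp d (2 * a') t D} :=
    { smul := fun g D => ⟨fun j => (D.1 j).map
        (Matrix.toLin' (g : Matrix (Fin d ⊕ Fin d) (Fin d ⊕ Fin d) F)),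
        isSpDecomp_map d (2 * a') t g D.1 D.2⟩
      one_smul := fun D => by
        apply Subtype.ext
        funext j
        show (D.1 j).map (Matrix.toLin' (1 : Matrix (Fin d ⊕ Fin d) (Fin d ⊕ Fin d) F)) = D.1 j
        rw [Matrix.toLin'_one, Submodule.map_id]
      mul_smul := fun g h D => by
        apply Subtype.ext
        funext j
        show (D.1 j).map (Matrix.toLin' ((g : Matrix (Fin d ⊕ Fin d) (Fin d ⊕ Fin d) F) *
            (h : Matrix (Fin d ⊕ Fin d) (Fin d ⊕ Fin d) F))) =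
          ((D.1 j).map (Matrix.toLin' (h : Matrix (Fin d ⊕ Fin d) (Fin d ⊕ Fin d) F))).map
            (Matrix.toLin' (g : Matrix (Fin d ⊕ Fin d) (Fin d ⊕ Fin d) F))
        rw [Matrix.toLin'_mul, Submodule.map_comp] }
  haveI : MulAction.IsPretransitive ↥(Matrix.symplecticGroup (Fin d) F)
      {D : Fin t → Submodule F (Fin d ⊕ Fin d → F) // IsSpDecomp d (2 * a') t D} := by
    constructor
    intro D D'
    obtain ⟨hD1, hD2, hD3⟩ := D.2
    obtain ⟨hD'1, hD'2, hD'3⟩ := D'.2
    have hI := DirectSum.isInternal_submodule_of_iSupIndep_of_iSup_eq_top hD1.indep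
      hD1.iSup_eq_top
    have hI' := DirectSum.isInternal_submodule_of_iSupIndep_of_iSup_eq_top hD'1.indep
      hD'1.iSup_eq_top
    -- isometries of the summands with the standard space
    have hstd : ∀ (E : Submodule F (Fin d ⊕ Fin d → F)), finrank F E = 2 * a' →
        (∀ u ∈ E, u ≠ 0 → ∃ v ∈ E, Cfsg.sympForm d F u v ≠ 0) →
        ∃ h : E ≃ₗ[F] (Fin a' ⊕ Fin a' → F), ∀ u v : E,
          Cfsg.sympForm a' F (h u) (h v) = Cfsg.sympForm d F (u : Fin d ⊕ Fin d → F) v := by
      intro E hE hnd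
      obtain ⟨h, hh⟩ := exists_std_equiv (restrictB (stdB (F := F) d) E)
        (fun v => by rw [restrictB_apply]; exact stdB_alt d _) (by
          intro v hv
          by_contra hne
          obtain ⟨w, hw, hvw⟩ := hnd v.1 v.2 (fun h => hne (Subtype.ext h))
          apply hvw
          have := hv ⟨w, hw⟩
          rw [restrictB_apply, stdB_apply] at this
          exact this) a' hE
      refine ⟨h, fun u v => ?_⟩
      rw [hh, restrictB_apply, stdB_apply]
    choose h hh using fun j => hstd (D.1 j) (hD1.finrank_eq j) (hD2 j)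
    choose h' hh' using fun j => hstd (D'.1 j) (hD'1.finrank_eq j) (hD'2 j)
    obtain ⟨e, he⟩ := SSClass.exists_glue hI hI' (fun j => (h j).trans (h' j).symm)
    have hemem : ∀ j, ∀ x ∈ D.1 j, e x ∈ D'.1 j := by
      intro j x hx
      have := he j ⟨x, hx⟩
      change e x = _ at this
      rw [this]
      exact Subtype.property _
    have hepart : ∀ j, ∀ x ∈ D.1 j, ∀ z ∈ D.1 j,
        Cfsg.sympForm d F (e x) (e z) = Cfsg.sympForm d F x z := by
      intro j x hx z hz
      have h1 := he j ⟨x, hx⟩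
      have h2 := he j ⟨z, hz⟩
      change e x = _ at h1
      change e z = _ at h2
      rw [h1, h2, ← hh' j]
      have h3 := hh j ⟨x, hx⟩ ⟨z, hz⟩
      simp only [LinearEquiv.trans_apply, LinearEquiv.apply_symm_apply]
      exact h3
    have heiso : ∀ u v, stdB d (e u) (e v) = stdB (F := F) d u v := by
      intro u v
      have hu := sum_cproj D.1 hD1.indep hD1.iSup_eq_top u
      have hv := sum_cproj D.1 hD1.indep hD1.iSup_eq_top v
      have hcu := fun j => cproj_mem D.1 hD1.indep hD1.iSup_eq_top j u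
      have hcv := fun j => cproj_mem D.1 hD1.indep hD1.iSup_eq_top j v
      calc stdB d (e u) (e v)
          = stdB d (∑ j, e (cproj D.1 hD1.indep hD1.iSup_eq_top j u))
              (∑ j, e (cproj D.1 hD1.indep hD1.iSup_eq_top j v)) := by
            rw [← map_sum, ← map_sum, hu, hv]
        _ = ∑ j, stdB d (e (cproj D.1 hD1.indep hD1.iSup_eq_top j u))
              (e (cproj D.1 hD1.indep hD1.iSup_eq_top j v)) := by
            apply bilin_sum_diag
            intro j k hjk
            rw [stdB_apply]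
            exact hD'3 j k hjk _ (hemem j _ (hcu j)) _ (hemem k _ (hcv k))
        _ = ∑ j, stdB d (cproj D.1 hD1.indep hD1.iSup_eq_top j u)
              (cproj D.1 hD1.indep hD1.iSup_eq_top j v) := by
            apply Finset.sum_congr rfl
            intro j _
            rw [stdB_apply, stdB_apply]
            exact hepart j _ (hcu j) _ (hcv j)
        _ = stdB d (∑ j, cproj D.1 hD1.indep hD1.iSup_eq_top j u)
              (∑ j, cproj D.1 hD1.indep hD1.iSup_eq_top j v) := by
            symm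
            apply bilin_sum_diag
            intro j k hjk
            rw [stdB_apply]
            exact hD3 j k hjk _ (hcu j) _ (hcv k)
        _ = stdB d u v := by rw [hu, hv]
    have hM : LinearMap.toMatrix' (e : (Fin d ⊕ Fin d → F) →ₗ[F] (Fin d ⊕ Fin d → F)) ∈
        Matrix.symplecticGroup (Fin d) F := by
      rw [mem_symplecticGroup_iff_sympForm']
      intro u v
      rw [LinearMap.toMatrix'_mulVec, LinearMap.toMatrix'_mulVec, ← stdB_apply, ← stdB_apply]
      exact heiso u v
    refine ⟨⟨_, hM⟩, ?_⟩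
    apply Subtype.ext
    funext j
    show (D.1 j).map (Matrix.toLin' (LinearMap.toMatrix'
      (e : (Fin d ⊕ Fin d → F) →ₗ[F] (Fin d ⊕ Fin d → F)))) = D'.1 j
    rw [Matrix.toLin'_toMatrix']
    apply Submodule.eq_of_le_of_finrank_eq
    · rintro _ ⟨x, hx, rfl⟩
      exact hemem j x hx
    · rw [LinearEquiv.finrank_map_eq, hD1.finrank_eq, hD'1.finrank_eq]
  obtain ⟨D₀⟩ := hne
  have h1 := MulAction.index_stabilizer_of_transitive ↥(Matrix.symplecticGroup (Fin d) F) D₀
  have h2 := Subgroup.index_dvd_card (MulAction.stabilizer ↥(Matrix.symplecticGroup (Fin d) F) D₀)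
  rw [h1] at h2
  exact h2

/-- orthogonal decompositions exist -/
theorem nonempty_spdecomp (d a' t : ℕ) (hat : 2 * d = 2 * a' * t) (ha : 0 < a') (ht : 2 ≤ t) :
    Nonempty {D : Fin t → Submodule F (Fin d ⊕ Fin d → F) // IsSpDecomp d (2 * a') t D} := by
  obtain ⟨D, hD, horth⟩ := multi_peel (stdB_alt (F := F) d)
    (peelClass_planes (stdB_alt (F := F) d) ⊤) t (fun _ => a') ⊤ ⟨le_rfl, stdB_NDon_top d⟩ (by
      rw [Finset.sum_const, Finset.card_univ, Fintype.card_fin, smul_eq_mul, finrank_top,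
        finrank_std, hat]
      exact le_of_eq (by ring))
  have hfr : ∀ j, finrank F (D j) = 2 * a' := fun j => by rw [(hD j).2.2, mul_comm]
  obtain ⟨hind, htop⟩ := indep_top_of_orth (stdB_alt (F := F) d) t (2 * a') D hfr
    (fun j => (hD j).2.1.2) horth (by rw [finrank_std, hat])
  refine ⟨⟨D, ⟨ht, by omega, hfr, hind, htop⟩, fun j => nd_of_NDon d (D j) (hD j).2.1.2, ?_⟩⟩
  intro j j' hjj' u hu v hv
  rw [← stdB_apply]
  exact horth j j' hjj' u hu v hv

variable {p q : ℕ} [Fact p.Prime] [CharP F p]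

theorem cOf_le_of_dvd_card_sp (hq : Fintype.card F = q) (d : ℕ) (r : ℕ) [Fact r.Prime]
    (hrp : r ≠ p) (h : r ∣ Nat.card ↥(Matrix.symplecticGroup (Fin d) F)) :
    cOf (orderOf (q : ZMod r)) ≤ 2 * d := by
  have hr : r.Prime := Fact.out
  rw [Cfsg.Agent.Lib.H2.Sp.card_Sp] at h
  rcases (Nat.Prime.dvd_mul hr).mp h with h1 | h1
  · exfalso
    have h2 : r ∣ Fintype.card F := hr.dvd_of_dvd_pow h1
    obtain ⟨f, -, hf⟩ := FiniteField.card F p
    rw [hf] at h2
    have h3 := hr.dvd_of_dvd_pow h2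
    exact hrp ((Nat.prime_dvd_prime_iff_eq hr Fact.out).mp h3)
  · rw [hr.prime.dvd_finsetProd_iff] at h1
    obtain ⟨j, hj, hd⟩ := h1
    rw [Finset.mem_range] at hj
    rw [hq] at hd
    have h2 := (order_dvd_of_dvd_pow_sub_one (F := F) hq r (2 * (j + 1)) (by omega) hd).2
    have h3 := cOf_dvd_of_even (even_two_mul (j + 1)) h2
    have h4 := Nat.le_of_dvd (by omega) h3
    omega

/-- a prime `r ≠ p` dividing the number of unordered orthogonal decompositions has `c ≤ 2 d` -/
theorem cOf_le_of_dvd_card_spdecomp (hq : Fintype.card F = q) (d a' t : ℕ)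
    (hat : 2 * d = 2 * a' * t) (ha : 0 < a') (ht : 2 ≤ t) (r : ℕ) [Fact r.Prime] (hrp : r ≠ p)
    (hΩ : r ∣ Nat.card {D : Fin t → Submodule F (Fin d ⊕ Fin d → F) //
      IsSpDecomp d (2 * a') t D} / Nat.factorial t) :
    cOf (orderOf (q : ZMod r)) ≤ 2 * d := by
  obtain ⟨k, hk⟩ := factorial_dvd_card_of_perm t
    (fun D : Fin t → Submodule F (Fin d ⊕ Fin d → F) => IsSpDecomp d (2 * a') t D)
    (by
      intro σ D hD
      obtain ⟨h1, h2, h3⟩ := hD
      refine ⟨⟨h1.two_le, h1.pos, fun i => h1.finrank_eq _, h1.indep.comp σ⁻¹.injective, ?_⟩,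
        fun j => h2 _, fun j j' hjj' => h3 _ _ (fun h => hjj' (σ⁻¹.injective h))⟩
      rw [← h1.iSup_eq_top]
      exact Equiv.iSup_comp (g := D) σ⁻¹)
    (by
      intro D hD
      apply hD.1.indep.injective
      intro i hi
      have := hD.1.finrank_eq i
      rw [hi, finrank_bot] at this
      omega)
  have h1 : Nat.card {D : Fin t → Submodule F (Fin d ⊕ Fin d → F) //
      IsSpDecomp d (2 * a') t D} / Nat.factorial t = k := by
    rw [hk, Nat.mul_div_cancel_left _ (Nat.factorial_pos t)]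
  rw [h1] at hΩ
  have h2 : r ∣ Nat.card {D : Fin t → Submodule F (Fin d ⊕ Fin d → F) //
      IsSpDecomp d (2 * a') t D} := by
    rw [hk]
    exact Dvd.dvd.mul_left hΩ _
  exact cOf_le_of_dvd_card_sp hq d r hrp
    (h2.trans (card_spdecomp_dvd_card_sp d a' t (nonempty_spdecomp d a' t hat ha ht)))

end count

end Cfsg.Agent.Lib.H24.Elus
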