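import Mathlib
import Cfsg.Agent.Lib.H24.ElusSpCount
import Cfsg.Agent.Lib.H24.ElusImpNec
import Cfsg.Agent.Lib.H24.ElusImpMain

set_option autoImplicit false

/-!
# Elements of odd prime order of `PSp_n(q)` and imprimitive subgroups (helper24)

`sp_imprimitive_iff`: every element of odd prime order `r ≠ p` of `PSp_{2d}(q)` stabilizes an
orthogonal decomposition into `t` nondegenerate `a`-spaces iff `c ≤ a` and
`(2 d) mod c = t (a mod c)`.
-/

namespace Cfsg.Agent.Lib.H24.Elus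

open Polynomial Module
open Cfsg.Agent.Lib.H13

variable {F : Type*} [Field F] [Fintype F] {p q : ℕ} [Fact p.Prime] [CharP F p]

/-- a scalar symplectic matrix has square one -/
theorem scalar_sq_of_mem_sp (d : ℕ) (hd : 0 < d) (z : F)
    (h : z • (1 : Matrix (Fin d ⊕ Fin d) (Fin d ⊕ Fin d) F) ∈ Matrix.symplecticGroup (Fin d) F) :
    z * z = 1 := by
  rw [mem_symplecticGroup_iff_sympForm'] at h
  let u : Fin d ⊕ Fin d → F := Pi.single (Sum.inl ⟨0, hd⟩) 1
  have hu : u ≠ 0 := by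
    intro h0
    have := congrFun h0 (Sum.inl ⟨0, hd⟩)
    simp [u] at this
  obtain ⟨v, huv⟩ : ∃ v, stdB d u v ≠ 0 := by
    by_contra hcon
    push Not at hcon
    exact hu (stdB_nd d u hcon)
  have h1 := h u v
  rw [Matrix.smul_mulVec, Matrix.smul_mulVec, Matrix.one_mulVec, Matrix.one_mulVec,
    ← stdB_apply, ← stdB_apply, map_smul, map_smul, LinearMap.smul_apply, smul_eq_mul,
    smul_eq_mul, ← mul_assoc] at h1
  have h2 : (z * z - 1) * stdB d u v = 0 := by linear_combination h1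
  rcases mul_eq_zero.mp h2 with h3 | h3
  · linear_combination h3
  · exact absurd h3 huv

theorem toLin'_sp_injective (d : ℕ) (x : ↥(Matrix.symplecticGroup (Fin d) F)) :
    Function.Injective (Matrix.toLin' (x : Matrix (Fin d ⊕ Fin d) (Fin d ⊕ Fin d) F)) := by
  rw [← spEquiv_coe]
  exact (spEquiv d x).injective

/-- (⇐) -/
theorem sp_suff (hq : Fintype.card F = q) (d a t : ℕ) (hd : 2 ≤ d) (hat : 2 * d = a * t)
    (ha : 2 ≤ a) (hae : Even a) (ht : 2 ≤ t) (r : ℕ) [Fact r.Prime] (hr2 : r ≠ 2) (hrp : r ≠ p)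
    (c : ℕ) (hc : c = cOf (orderOf (q : ZMod r)))
    (hR : c ≤ a ∧ (2 * d) % c = t * (a % c))
    (x : ↥(Matrix.symplecticGroup (Fin d) F)) (z : F)
    (hz : (x : Matrix (Fin d ⊕ Fin d) (Fin d ⊕ Fin d) F) ^ r = z • 1) :
    ∃ D : Fin t → Submodule F (Fin d ⊕ Fin d → F), IsSpDecomp d a t D ∧
      ∃ σ : Equiv.Perm (Fin t), ∀ j,
        (D j).map (Matrix.toLin' (x : Matrix (Fin d ⊕ Fin d) (Fin d ⊕ Fin d) F)) = D (σ j) := by
  classical
  have hr : r.Prime := Fact.out
  have hzz : z * z = 1 := by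
    apply scalar_sq_of_mem_sp d (by omega) z
    rw [← hz]
    exact (x ^ r).2
  have hz0 : z ≠ 0 := by
    rintro rfl
    rw [mul_zero] at hzz
    exact zero_ne_one hzz
  have hzr : z ^ (r + 1) = 1 := by
    have hodd : r % 2 = 1 := by
      rcases hr.eq_two_or_odd with h | h
      · exact absurd h hr2
      · exact h
    have : r + 1 = 2 * ((r + 1) / 2) := by omega
    rw [this, pow_mul, pow_two, hzz, one_pow]
  obtain ⟨y₀, hy₀def⟩ : ∃ y₀, y₀ = Matrix.toLin' (x : Matrix (Fin d ⊕ Fin d) (Fin d ⊕ Fin d) F) :=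
    ⟨_, rfl⟩
  rw [← hy₀def]
  have hinj : Function.Injective y₀ := by rw [hy₀def]; exact toLin'_sp_injective d x
  have hy₀r : y₀ ^ r = z • 1 := by
    rw [hy₀def, ← Matrix.toLin'_pow, hz, map_smul, Matrix.toLin'_one]
    rfl
  have hyr : (z • y₀) ^ r = 1 := by
    rw [_root_.smul_pow, hy₀r, smul_smul, ← pow_succ, hzr, one_smul]
  have hiso : ∀ u v, stdB d ((z • y₀) u) ((z • y₀) v) = stdB (F := F) d u v := by
    intro u v
    rw [LinearMap.smul_apply, LinearMap.smul_apply, map_smul, map_smul, LinearMap.smul_apply,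
      smul_eq_mul, smul_eq_mul, ← mul_assoc, hzz, one_mul, hy₀def]
    exact sp_iso d x u v
  obtain ⟨D, h1, h2, h3, h4⟩ := exists_sp_decomp hq hrp hr2 (stdB_alt d) hiso hyr
    (stdB_NDon_top d) a t (by rw [finrank_std, hat]) hae c hc (by rw [← hat]; exact hR.2)
  obtain ⟨hind, htop⟩ := indep_top_of_orth (stdB_alt (F := F) d) t a D h1 h2 h3
    (by rw [finrank_std, hat])
  refine ⟨D, ⟨⟨ht, by omega, h1, hind, htop⟩, fun j => nd_of_NDon d (D j) (h2 j), ?_⟩, 1, ?_⟩
  · intro j j' hjj' u hu v hv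
    rw [← stdB_apply]
    exact h3 j j' hjj' u hu v hv
  · intro j
    apply map_eq_of_invariant y₀ hinj (D j)
    intro v hv
    have h5 := h4 j v hv
    rw [LinearMap.smul_apply] at h5
    have h6 := Submodule.smul_mem (D j) z⁻¹ h5
    rwa [smul_smul, inv_mul_cancel₀ hz0, one_smul] at h6

/-- nonscalarity of an element of order `r` which is not the identity -/
theorem sp_ne_smul_one (d : ℕ) (hd : 0 < d) (r : ℕ) [Fact r.Prime] (hr2 : r ≠ 2)
    (x : ↥(Matrix.symplecticGroup (Fin d) F))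
    (hx : (x : Matrix (Fin d ⊕ Fin d) (Fin d ⊕ Fin d) F) ^ r = 1)
    (hx1 : (x : Matrix (Fin d ⊕ Fin d) (Fin d ⊕ Fin d) F) ≠ 1) :
    ∀ z : F, (x : Matrix (Fin d ⊕ Fin d) (Fin d ⊕ Fin d) F) ≠
      z • (1 : Matrix (Fin d ⊕ Fin d) (Fin d ⊕ Fin d) F) := by
  have hr : r.Prime := Fact.out
  intro z hxz
  have hzz : z * z = 1 := by
    apply scalar_sq_of_mem_sp d hd z
    rw [← hxz]
    exact x.2
  have hzr : z ^ r = 1 := by
    rw [hxz, _root_.smul_pow, one_pow] at hx
    have h1 := congrFun (congrFun hx (Sum.inl ⟨0, hd⟩)) (Sum.inl ⟨0, hd⟩)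
    simpa using h1
  have hodd : r % 2 = 1 := by
    rcases hr.eq_two_or_odd with h | h
    · exact absurd h hr2
    · exact h
  have hz1 : z = 1 := by
    have : r = 2 * (r / 2) + 1 := by omega
    rw [this, pow_succ, pow_mul, pow_two, hzz, one_pow, one_mul] at hzr
    exact hzr
  apply hx1
  rw [hxz, hz1, one_smul]

/-- (⇒) -/
theorem sp_nec (hq : Fintype.card F = q) (d a t : ℕ) (hd : 2 ≤ d) (hat : 2 * d = a * t)
    (ha : 2 ≤ a) (ht : 2 ≤ t) (r : ℕ) [Fact r.Prime] (hr2 : r ≠ 2) (hrp : r ≠ p)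
    (c : ℕ) (hc : c = cOf (orderOf (q : ZMod r))) (hcn : c ≤ 2 * d)
    (h : ∀ x : ↥(Matrix.symplecticGroup (Fin d) F),
      (x : Matrix (Fin d ⊕ Fin d) (Fin d ⊕ Fin d) F) ^ r = 1 →
      (∀ z : F, (x : Matrix (Fin d ⊕ Fin d) (Fin d ⊕ Fin d) F) ≠
        z • (1 : Matrix (Fin d ⊕ Fin d) (Fin d ⊕ Fin d) F)) →
      ∃ D : Fin t → Submodule F (Fin d ⊕ Fin d → F), IsSpDecomp d a t D ∧
        ∃ σ : Equiv.Perm (Fin t), ∀ j,
          (D j).map (Matrix.toLin' (x : Matrix (Fin d ⊕ Fin d) (Fin d ⊕ Fin d) F)) = D (σ j)) :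
    c ≤ a ∧ (2 * d) % c = t * (a % c) := by
  classical
  have hr : r.Prime := Fact.out
  have hi0 : 0 < orderOf (q : ZMod r) := CycFactor.orderOf_pos hq hr hrp
  have hc0 : 0 < c := by rw [hc]; exact cOf_pos hi0
  obtain ⟨c', hc'⟩ : ∃ c', c = 2 * c' := by
    obtain ⟨k, hk⟩ := (hc ▸ cOf_even (orderOf (q : ZMod r)) : Even c)
    exact ⟨k, by omega⟩
  have hc'0 : 0 < c' := by omega
  have hcr : c ≤ r - 1 := by rw [hc]; exact cOf_le_pred q r hr2 hi0
  -- the test elements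
  have htest : ∀ s : ℕ, 0 < s → s * c' ≤ d →
      ∃ (y : End F (Fin d ⊕ Fin d → F)) (D : Fin t → Submodule F (Fin d ⊕ Fin d → F))
        (σ : Equiv.Perm (Fin t)), y ^ r = 1 ∧ (∀ u v, stdB d (y u) (y v) = stdB (F := F) d u v) ∧
        IsSpDecomp d a t D ∧ (∀ j, (D j).map y = D (σ j)) ∧
        finrank F (LinearMap.ker (aeval y (X - 1 : F[X]))) = 2 * d - s * c := by
    intro s hs hsd
    obtain ⟨x, hx, hfix⟩ := exists_sp_test hq r hrp hr2 c' (by rw [← hc', hc]) (d - s * c') s d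
      (by omega)
    have hx1 : (x : Matrix (Fin d ⊕ Fin d) (Fin d ⊕ Fin d) F) ≠ 1 := by
      intro h1
      rw [h1, Matrix.toLin'_one] at hfix
      have h2 : aeval (LinearMap.id : End F (Fin d ⊕ Fin d → F)) (X - 1 : F[X]) = 0 := by
        rw [map_sub, aeval_X, map_one]
        exact sub_self _
      rw [h2, LinearMap.ker_zero, finrank_top, finrank_std] at hfix
      have : 0 < s * c' := Nat.mul_pos hs hc'0
      omega
    obtain ⟨D, hD, σ, hσ⟩ := h x hx (sp_ne_smul_one d (by omega) r hr2 x hx hx1)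
    refine ⟨Matrix.toLin' (x : Matrix (Fin d ⊕ Fin d) (Fin d ⊕ Fin d) F), D, σ, ?_, sp_iso d x,
      hD, hσ, ?_⟩
    · rw [← Matrix.toLin'_pow, hx, Matrix.toLin'_one]
      rfl
    · rw [hfix, hc', Nat.mul_sub, ← mul_assoc, mul_comm 2 s, mul_assoc]
  have hker : ∀ y : End F (Fin d ⊕ Fin d → F), aeval y (X - 1 : F[X]) = y - 1 := by
    intro y
    rw [map_sub, aeval_X, map_one]
  -- the case when all summands are invariant
  have hinvariant : ∀ (y : End F (Fin d ⊕ Fin d → F)) (D : Fin t → Submodule F (Fin d ⊕ Fin d → F)),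
      y ^ r = 1 → (∀ u v, stdB d (y u) (y v) = stdB (F := F) d u v) → IsSpDecomp d a t D →
      (∀ j, (D j).map y = D j) →
      finrank F (LinearMap.ker (aeval y (X - 1 : F[X]))) =
        ∑ j, finrank F ↥(D j ⊓ LinearMap.ker (aeval y (X - 1 : F[X]))) ∧
      ∀ j, finrank F ↥(D j ⊓ LinearMap.ker (aeval y (X - 1 : F[X]))) % c = a % c ∧
        finrank F ↥(D j ⊓ LinearMap.ker (aeval y (X - 1 : F[X]))) ≤ a := by
    intro y D hyr hiso hD hinv
    constructor
    · rw [hker]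
      exact finrank_fix_eq_sum D hD.1.indep hD.1.iSup_eq_top y 1 (fun j => by
        rw [hinv j]; rfl) (fun j => rfl)
    · intro j
      constructor
      · have h1 := finrank_fix_mod hq hrp hr2 (stdB_alt d) hiso hyr (D j) (by
          intro v hv
          rw [← hinv j]
          exact Submodule.mem_map_of_mem hv) (NDon_of_nd d (D j) (hD.2.1 j))
        rw [hD.1.finrank_eq, ← hc] at h1
        exact h1.symm
      · rw [← hD.1.finrank_eq j]
        exact Submodule.finrank_mono inf_le_left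
  have hca : c ≤ a := by
    by_contra hlt
    push Not at hlt
    obtain ⟨y, D, σ, hyr, hiso, hD, hσ, hfix⟩ := htest 1 one_pos (by omega)
    rw [one_mul] at hfix
    by_cases hmoved : ∃ j₀, σ j₀ ≠ j₀
    · obtain ⟨j₀, hj₀⟩ := hmoved
      have h1 := fix_le_of_moved D hD.1.indep hD.1.iSup_eq_top y σ hσ a (by omega)
        hD.1.finrank_eq r hr hyr j₀ hj₀
      rw [← hker, hfix, Fintype.card_fin, ← hat] at h1
      have h2 : a * (r - 1) ≤ c := by omega
      have h4 := Nat.mul_le_mul_right (r - 1) ha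
      have := hr.two_le
      omega
    · push Not at hmoved
      have hσ' : ∀ j, (D j).map y = D j := fun j => by rw [hσ j, hmoved j]
      obtain ⟨h1, h2⟩ := hinvariant y D hyr hiso hD hσ'
      rw [hfix] at h1
      have hterm : ∀ j, finrank F ↥(D j ⊓ LinearMap.ker (aeval y (X - 1 : F[X]))) = a := by
        intro j
        obtain ⟨h3, h4⟩ := h2 j
        rw [Nat.mod_eq_of_lt hlt, Nat.mod_eq_of_lt (by omega)] at h3
        exact h3
      rw [Finset.sum_congr rfl (fun j _ => hterm j), Finset.sum_const, Finset.card_univ,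
        Fintype.card_fin, smul_eq_mul, mul_comm t a, ← hat] at h1
      omega
  refine ⟨hca, ?_⟩
  have hs : d / c' * c' ≤ d := Nat.div_mul_le_self d c'
  have hs0 : 0 < d / c' := Nat.div_pos (by omega) hc'0
  obtain ⟨y, D, σ, hyr, hiso, hD, hσ, hfix⟩ := htest (d / c') hs0 hs
  have hfix' : finrank F (LinearMap.ker (aeval y (X - 1 : F[X]))) = (2 * d) % c := by
    rw [hfix, hc', Nat.mul_mod_mul_left]
    have := Nat.div_add_mod d c'
    have h2 : d / c' * (2 * c') = 2 * (c' * (d / c')) := by ring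
    rw [h2]
    omega
  by_cases hmoved : ∃ j₀, σ j₀ ≠ j₀
  · exfalso
    obtain ⟨j₀, hj₀⟩ := hmoved
    have h1 := fix_ge_of_moved D hD.1.indep y σ hσ a (by omega) hD.1.finrank_eq r hr hyr j₀ hj₀
    rw [← hker, hfix'] at h1
    have := Nat.mod_lt (2 * d) hc0
    omega
  · push Not at hmoved
    have hσ' : ∀ j, (D j).map y = D j := fun j => by rw [hσ j, hmoved j]
    obtain ⟨h1, h2⟩ := hinvariant y D hyr hiso hD hσ'
    rw [hfix'] at h1
    have hterm : ∀ j, finrank F ↥(D j ⊓ LinearMap.ker (aeval y (X - 1 : F[X]))) = a % c := by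
      intro j
      have hle : finrank F ↥(D j ⊓ LinearMap.ker (aeval y (X - 1 : F[X]))) ≤ (2 * d) % c := by
        rw [h1]
        exact Finset.single_le_sum
          (f := fun j => finrank F ↥(D j ⊓ LinearMap.ker (aeval y (X - 1 : F[X]))))
          (fun _ _ => Nat.zero_le _) (Finset.mem_univ j)
      have hlt := Nat.mod_lt (2 * d) hc0
      rw [← (h2 j).1, Nat.mod_eq_of_lt (by omega)]
    rw [h1, Finset.sum_congr rfl (fun j _ => hterm j), Finset.sum_const, Finset.card_univ,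
      Fintype.card_fin, smul_eq_mul]

/-- **S5961** -/
theorem sp_imprimitive_iff (hq : Fintype.card F = q) (d : ℕ) (hd : 2 ≤ d) (a t : ℕ)
    (hat : 2 * d = a * t) (ha : 2 ≤ a) (hae : Even a) (ht : 2 ≤ t) (r : ℕ) [Fact r.Prime]
    (hr2 : r ≠ 2) (hrp : r ≠ p)
    (hΩ : r ∣ Nat.card {D : Fin t → Submodule F (Fin d ⊕ Fin d → F) // IsSpDecomp d a t D} /
      Nat.factorial t)
    (i c : ℕ) (hi : i = orderOf (q : ZMod r)) (hc : c = if Even i then i else 2 * i) :
    (∀ x : ↥(Matrix.symplecticGroup (Fin d) F),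
      (∃ z : F, ((x ^ r : ↥(Matrix.symplecticGroup (Fin d) F)) :
        Matrix (Fin d ⊕ Fin d) (Fin d ⊕ Fin d) F) =
          z • (1 : Matrix (Fin d ⊕ Fin d) (Fin d ⊕ Fin d) F)) →
      (∀ z : F, (x : Matrix (Fin d ⊕ Fin d) (Fin d ⊕ Fin d) F) ≠
        z • (1 : Matrix (Fin d ⊕ Fin d) (Fin d ⊕ Fin d) F)) →
      ∃ D : Fin t → Submodule F (Fin d ⊕ Fin d → F), IsSpDecomp d a t D ∧
        ∃ σ : Equiv.Perm (Fin t), ∀ j,
          (D j).map (Matrix.toLin' (x : Matrix (Fin d ⊕ Fin d) (Fin d ⊕ Fin d) F)) = D (σ j)) ↔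
    (c ≤ a ∧ (2 * d) % c = t * (a % c)) := by
  have hc' : c = cOf (orderOf (q : ZMod r)) := by rw [hc, hi]; rfl
  obtain ⟨a', rfl⟩ : ∃ a', a = 2 * a' := by
    obtain ⟨k, hk⟩ := hae
    exact ⟨k, by omega⟩
  constructor
  · intro h
    have hcn : c ≤ 2 * d := by
      rw [hc']
      exact cOf_le_of_dvd_card_spdecomp hq d a' t hat (by omega) ht r hrp hΩ
    exact sp_nec hq d (2 * a') t hd hat ha ht r hr2 hrp c hc' hcn (fun x hx hns =>
      h x ⟨1, by
        rw [one_smul]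
        exact hx⟩ hns)
  · rintro hR x ⟨z, hz⟩ -
    exact sp_suff hq d (2 * a') t hd hat ha hae ht r hr2 hrp c hc' hR x z hz

end Cfsg.Agent.Lib.H24.Elus
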