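import Mathlib
import Cfsg.Agent.Lib.H24.ElusSpMain
import Cfsg.Agent.Lib.H13.SpPlanes
import Cfsg.Agent.Lib.H13.SympBlocks

set_option autoImplicit false

/-!
# Nondegenerate subspaces fixed by involutions in characteristic two (helper24)

* `exists_closed_subset`: subsets closed under an involution, of prescribed cardinality.
* `exists_nd_invariant_planes`: an isometry `t` with `t ^ 2 = 1` of a nondegenerate alternating
  space of dimension `2 d` fixes a nondegenerate `m`-space if `m ≡ 0 (mod 4)` or `d` is odd.
* `four_dvd_of_invariant`: for an involution `y = 1 + N` with `B v (N v) = 0` and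
  `ker N = range N`, every nondegenerate invariant subspace has dimension divisible by four.
-/

namespace Cfsg.Agent.Lib.H24.Elus

open Polynomial Module
open Cfsg.Agent.Lib.H13

section comb

theorem exists_closed_subset {ι : Type*} [DecidableEq ι] (π : ι → ι)
    (hπ : Function.Involutive π) :
    ∀ (n : ℕ) (T : Finset ι), T.card = n → (∀ i ∈ T, π i ∈ T) → ∀ a : ℕ, a ≤ T.card →
      (Even a ∨ Odd T.card) → ∃ S ⊆ T, (∀ i ∈ S, π i ∈ S) ∧ S.card = a := by
  intro n
  induction n using Nat.strong_induction_on with
  | _ n ih =>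
    intro T hTn hT a haT hpar
    by_cases hfix : ∀ i ∈ T, π i = i
    · obtain ⟨S, hS, hSa⟩ := Finset.exists_subset_card_eq haT
      exact ⟨S, hS, fun i hi => by rw [hfix i (hS hi)]; exact hi, hSa⟩
    · push Not at hfix
      obtain ⟨i, hiT, hi⟩ := hfix
      have hπiT : π i ∈ T := hT i hiT
      set T' := (T.erase i).erase (π i) with hT'
      have hT'card : T'.card + 2 = T.card := by
        have h1 : π i ∈ T.erase i := Finset.mem_erase.mpr ⟨hi, hπiT⟩
        rw [hT', Finset.card_erase_of_mem h1, Finset.card_erase_of_mem hiT]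
        have : 2 ≤ T.card := by
          have := Finset.card_pos.mpr ⟨_, h1⟩
          rw [Finset.card_erase_of_mem hiT] at this
          omega
        omega
      have hT'sub : T' ⊆ T := (Finset.erase_subset _ _).trans (Finset.erase_subset _ _)
      have hT'cl : ∀ j ∈ T', π j ∈ T' := by
        intro j hj
        rw [hT', Finset.mem_erase, Finset.mem_erase] at hj ⊢
        refine ⟨?_, ?_, hT j hj.2.2⟩
        · intro h
          exact hj.2.1 (hπ.injective h)
        · intro h
          apply hj.1
          rw [← hπ j, h]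
      have hiT' : i ∉ T' := by
        rw [hT', Finset.mem_erase, Finset.mem_erase]
        tauto
      have hπiT' : π i ∉ T' := by
        rw [hT', Finset.mem_erase]
        tauto
      by_cases ha2 : 2 ≤ a
      · obtain ⟨S', hS'T, hS'cl, hS'a⟩ := ih T'.card (by omega) T' rfl hT'cl (a - 2) (by omega)
          (by
            rcases hpar with h | h
            · left
              obtain ⟨k, hk⟩ := h
              exact ⟨k - 1, by omega⟩
            · right
              obtain ⟨k, hk⟩ := h
              exact ⟨k - 1, by omega⟩)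
        refine ⟨insert i (insert (π i) S'), ?_, ?_, ?_⟩
        · intro j hj
          rw [Finset.mem_insert, Finset.mem_insert] at hj
          rcases hj with rfl | rfl | hj
          · exact hiT
          · exact hπiT
          · exact hT'sub (hS'T hj)
        · intro j hj
          rw [Finset.mem_insert, Finset.mem_insert] at hj ⊢
          rcases hj with rfl | rfl | hj
          · right; left; rfl
          · left; exact hπ i
          · right; right; exact hS'cl j hj
        · have h1 : π i ∉ S' := fun h => hπiT' (hS'T h)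
          have h2 : i ∉ insert (π i) S' := by
            rw [Finset.mem_insert]
            rintro (h | h)
            · exact hi h.symm
            · exact hiT' (hS'T h)
          rw [Finset.card_insert_of_notMem h2, Finset.card_insert_of_notMem h1, hS'a]
          omega
      · push Not at ha2
        by_cases ha0 : a = 0
        · exact ⟨∅, Finset.empty_subset _, fun _ h => absurd h (Finset.notMem_empty _), by
            rw [Finset.card_empty, ha0]⟩
        · have ha1 : a = 1 := by omega
          have hodd : Odd T.card := by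
            rcases hpar with h | h
            · rw [ha1] at h
              exact absurd h (by decide)
            · exact h
          obtain ⟨S', hS'T, hS'cl, hS'a⟩ := ih T'.card (by omega) T' rfl hT'cl a (by
              obtain ⟨k, hk⟩ := hodd
              omega)
            (by
              right
              obtain ⟨k, hk⟩ := hodd
              exact ⟨k - 1, by omega⟩)
          exact ⟨S', hS'T.trans hT'sub, hS'cl, hS'a⟩

end comb

section planes

variable {F : Type*} [Field F] {V : Type*} [AddCommGroup V] [Module F V] [FiniteDimensional F V]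

theorem exists_nd_invariant_planes (B : LinearMap.BilinForm F V) (halt : ∀ v, B v v = 0)
    (hnd : ∀ v, (∀ w, B v w = 0) → v = 0) (t : V →ₗ[F] V)
    (hiso : ∀ u v, B (t u) (t v) = B u v) (ht : ∀ v, t (t v) = v) (d m : ℕ)
    (hV : finrank F V = 2 * d) (hme : Even m) (hmn : m ≤ 2 * d)
    (hcond : Odd d ∨ m % 4 = 0) :
    ∃ W : Submodule F V, finrank F W = m ∧ NDon B W ∧ ∀ v ∈ W, t v ∈ W := by
  classical
  obtain ⟨ι, hι, hdec, b, π, hsymp, hπ, hb⟩ := SpPlanes.planes_aux (1 : F) one_ne_zero (2 * d) B
    halt hnd t hiso (fun v => by rw [ht, one_smul]) hV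
  have hcard : Fintype.card ι = d := by
    have h1 := Module.finrank_eq_card_basis b
    rw [hV, Fintype.card_sum] at h1
    omega
  obtain ⟨a, ha⟩ := hme
  obtain ⟨S, -, hScl, hSa⟩ := exists_closed_subset π hπ (Fintype.card ι) Finset.univ
    Finset.card_univ (fun _ _ => Finset.mem_univ _) a (by rw [Finset.card_univ, hcard]; omega)
    (by
      rcases hcond with h | h
      · right
        rw [Finset.card_univ, hcard]
        exact h
      · left
        exact ⟨a / 2, by omega⟩)
  set c : ι → Fin 2 := fun i => if i ∈ S then 0 else 1 with hc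
  have hc0 : ∀ i, c i = 0 ↔ i ∈ S := by
    intro i
    simp only [hc]
    split_ifs with h
    · exact ⟨fun _ => h, fun _ => rfl⟩
    · exact ⟨fun h' => absurd h' (by decide), fun h' => absurd h' h⟩
  set W := DecompBasis.blk b (c ∘ Sum.elim id id) 0 with hW
  have hmemW : ∀ i ∈ S, b (Sum.inl i) ∈ W ∧ b (Sum.inr i) ∈ W := by
    intro i hi
    constructor
    · have := DecompBasis.mem_blk b (c ∘ Sum.elim id id) (Sum.inl i)
      have h2 : (c ∘ Sum.elim id id) (Sum.inl i) = 0 := (hc0 i).mpr hi
      rwa [h2] at this
    · have := DecompBasis.mem_blk b (c ∘ Sum.elim id id) (Sum.inr i)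
      have h2 : (c ∘ Sum.elim id id) (Sum.inr i) = 0 := (hc0 i).mpr hi
      rwa [h2] at this
  refine ⟨W, ?_, ?_, ?_⟩
  · rw [hW, DecompBasis.finrank_blk]
    have e : {k : ι ⊕ ι // (c ∘ Sum.elim id id) k = 0} ≃ {i // i ∈ S} ⊕ {i // i ∈ S} :=
      { toFun := fun k => match k with
          | ⟨.inl i, h⟩ => .inl ⟨i, (hc0 i).mp h⟩
          | ⟨.inr i, h⟩ => .inr ⟨i, (hc0 i).mp h⟩
        invFun := fun k => match k with
          | .inl ⟨i, h⟩ => ⟨.inl i, (hc0 i).mpr h⟩
          | .inr ⟨i, h⟩ => ⟨.inr i, (hc0 i).mpr h⟩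
        left_inv := by rintro ⟨i | i, h⟩ <;> rfl
        right_inv := by rintro (⟨i, h⟩ | ⟨i, h⟩) <;> rfl }
    rw [Fintype.card_congr e, Fintype.card_sum, Fintype.card_coe, hSa]
    omega
  · intro u hu h
    by_contra hne
    obtain ⟨v, hv, huv⟩ := SympBlocks.nondeg B halt b hsymp c hu hne
    exact huv (h v hv)
  · have hle : W.map t ≤ W := by
      rw [hW, DecompBasis.blk, Submodule.map_span_le]
      rintro _ ⟨k, hk, rfl⟩
      rw [Set.mem_setOf_eq] at hk
      rcases k with i | i
      · have hi : i ∈ S := (hc0 i).mp hk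
        obtain ⟨α, γ, h1⟩ := (hb i).1
        rw [h1]
        exact Submodule.add_mem _ (Submodule.smul_mem _ _ (hmemW _ (hScl i hi)).1)
          (Submodule.smul_mem _ _ (hmemW _ (hScl i hi)).2)
      · have hi : i ∈ S := (hc0 i).mp hk
        obtain ⟨β, δ, h1⟩ := (hb i).2
        rw [h1]
        exact Submodule.add_mem _ (Submodule.smul_mem _ _ (hmemW _ (hScl i hi)).1)
          (Submodule.smul_mem _ _ (hmemW _ (hScl i hi)).2)
    intro v hv
    exact hle (Submodule.mem_map_of_mem hv)

end planes

section four

variable {F : Type*} [Field F] {V : Type*} [AddCommGroup V] [Module F V] [FiniteDimensional F V]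
variable {B : LinearMap.BilinForm F V}

/-- a totally isotropic subspace of a nondegenerate subspace has at most half the dimension -/
theorem finrank_isotropic_le (halt : ∀ v, B v v = 0) (U K : Submodule F V) (hU : NDon B U)
    (hKU : K ≤ U) (hK : ∀ a ∈ K, ∀ b ∈ K, B a b = 0) : 2 * finrank F K ≤ finrank F U := by
  have hres : (B.restrict U).Nondegenerate := by
    constructor
    · intro w hw
      apply Subtype.ext
      apply hU w.1 w.2
      intro v hv
      have := hw ⟨v, hv⟩
      rw [LinearMap.BilinForm.restrict_apply, LinearMap.domRestrict_apply] at this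
      exact this
    · intro w hw
      apply Subtype.ext
      apply hU w.1 w.2
      intro v hv
      have := hw ⟨v, hv⟩
      rw [LinearMap.BilinForm.restrict_apply, LinearMap.domRestrict_apply] at this
      exact alt_swap_zero B halt this
  have h1 := LinearMap.BilinForm.finrank_orthogonal hres (K.comap U.subtype)
  have h2 : K.comap U.subtype ≤ (B.restrict U).orthogonal (K.comap U.subtype) := by
    intro x hx n hn
    show (B.restrict U) n x = 0
    rw [LinearMap.BilinForm.restrict_apply, LinearMap.domRestrict_apply]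
    exact hK _ hn _ hx
  have h3 := Submodule.finrank_mono h2
  have h4 : finrank F ↥(K.comap U.subtype) = finrank F K :=
    LinearEquiv.finrank_eq (Submodule.comapSubtypeEquivOfLe hKU)
  have h5 := Submodule.finrank_mono hKU
  omega

theorem four_dvd_of_invariant (halt : ∀ v, B v v = 0) (y N : End F V)
    (hiso : ∀ u v, B (y u) (y v) = B u v) (hyy : ∀ v, y (y v) = v) (hN : ∀ v, N v = y v - v)
    (hNN : ∀ v, N (N v) = 0) (hNalt : ∀ v, B v (N v) = 0)
    (hker : LinearMap.ker N ≤ LinearMap.range N) (W : Submodule F V)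
    (hWinv : ∀ v ∈ W, y v ∈ W) (hWnd : NDon B W) : 4 ∣ finrank F W := by
  have hself : ∀ u w, B (N u) w = B u (N w) := by
    intro u w
    rw [hN, hN, map_sub, map_sub, LinearMap.sub_apply]
    congr 1
    rw [← hiso (y u) w, hyy]
  have hKiso : ∀ a ∈ LinearMap.ker N, ∀ b ∈ LinearMap.ker N, B a b = 0 := by
    intro a ha b hb
    obtain ⟨b', rfl⟩ := hker hb
    rw [← hself, LinearMap.mem_ker.mp ha, LinearMap.map_zero₂]
  have hWN : ∀ v ∈ W, N v ∈ W := by
    intro v hv
    rw [hN]
    exact Submodule.sub_mem _ (hWinv v hv) hv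
  -- rank and nullity on `W`
  have hRK : W.map N ≤ W ⊓ LinearMap.ker N := by
    rintro _ ⟨v, hv, rfl⟩
    exact Submodule.mem_inf.mpr ⟨hWN v hv, LinearMap.mem_ker.mpr (hNN v)⟩
  have hrn := LinearMap.finrank_range_add_finrank_ker (N.domRestrict W)
  rw [LinearMap.range_domRestrict, LinearMap.ker_domRestrict] at hrn
  have hk : finrank F ↥((LinearMap.ker N).comap W.subtype) = finrank F ↥(W ⊓ LinearMap.ker N) := by
    rw [← Submodule.finrank_map_subtype_eq W, Submodule.map_comap_subtype]
  rw [hk] at hrn
  have h2K := finrank_isotropic_le halt W (W ⊓ LinearMap.ker N) hWnd inf_le_left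
    (fun a ha b hb => hKiso a (Submodule.mem_inf.mp ha).2 b (Submodule.mem_inf.mp hb).2)
  have hRle := Submodule.finrank_mono hRK
  -- a complement of the kernel
  obtain ⟨C₀, hC₀⟩ := Submodule.exists_isCompl (W ⊓ LinearMap.ker N)
  have hsup : (W ⊓ LinearMap.ker N) ⊔ (W ⊓ C₀) = W := by
    have h := sup_inf_assoc_of_le C₀ (inf_le_left : W ⊓ LinearMap.ker N ≤ W)
    rw [hC₀.sup_eq_top, top_inf_eq, inf_comm C₀ W] at h
    exact h.symm
  have hinf : (W ⊓ LinearMap.ker N) ⊓ (W ⊓ C₀) = ⊥ := by
    rw [eq_bot_iff, ← hC₀.inf_eq_bot]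
    exact inf_le_inf_left _ inf_le_right
  have hdimC := Submodule.finrank_sup_add_finrank_inf_eq (W ⊓ LinearMap.ker N) (W ⊓ C₀)
  rw [hsup, hinf, finrank_bot, add_zero] at hdimC
  -- the alternating form `β u v = B u (N v)` on the complement
  have hβalt : ∀ v, (B.compl₂ N) v v = 0 := fun v => by
    rw [LinearMap.compl₂_apply]
    exact hNalt v
  have hβnd : NDon (B.compl₂ N) (W ⊓ C₀) := by
    intro u hu h
    have huW : u ∈ W := (Submodule.mem_inf.mp hu).1
    have h1 : ∀ w ∈ W, B (N u) w = 0 := by
      intro w hw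
      rw [← hsup] at hw
      obtain ⟨k, hk, v, hv, rfl⟩ := Submodule.mem_sup.mp hw
      have h3 := h v hv
      rw [LinearMap.compl₂_apply] at h3
      rw [hself, map_add, LinearMap.mem_ker.mp (Submodule.mem_inf.mp hk).2, zero_add, h3]
    have h4 : N u = 0 := hWnd (N u) (hWN u huW) h1
    have h5 : u ∈ (W ⊓ LinearMap.ker N) ⊓ (W ⊓ C₀) :=
      Submodule.mem_inf.mpr ⟨Submodule.mem_inf.mpr ⟨huW, LinearMap.mem_ker.mpr h4⟩, hu⟩
    rw [hinf, Submodule.mem_bot] at h5
    exact h5
  obtain ⟨j, hj⟩ := even_finrank_of_NDon hβalt (W ⊓ C₀) hβnd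
  exact ⟨j, by omega⟩

end four

end Cfsg.Agent.Lib.H24.Elus
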