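import Mathlib
import Cfsg.Agent.Lib.H24.ElusTiTypes

set_option autoImplicit false

/-!
# Symplectic matrices of odd prime order with prescribed multiplicities (helper24)

`exists_sp_shape`: `ord_r q = 2 c'` even; a matrix of `Sp_{2(n + |T|)c'}(q)` of order dividing `r`
without fixed vectors whose multiplicities are `1` on `T` plus `n` on `s₁`.
-/

namespace Cfsg.Agent.Lib.H24.Elus

open Polynomial Module
open Cfsg.Agent.Lib.H13

section shape

variable {F : Type*} [Field F] [Fintype F] {p q : ℕ} [Fact p.Prime] [CharP F p]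

theorem exists_sp_shape [DecidableEq F] (hF : Fintype.card F = q) (r : ℕ) [Fact r.Prime]
    (hrp : r ≠ p) (hr2 : r ≠ 2) (c' : ℕ) (hc : 2 * c' = orderOf (q : ZMod r))
    (T : Finset (CycFactor.S r F)) (s₁ : CycFactor.S r F) (n : ℕ) :
    ∀ d, d = n * c' + T.card * c' → ∃ x : ↥(Matrix.symplecticGroup (Fin d) F),
      (x : Matrix (Fin d ⊕ Fin d) (Fin d ⊕ Fin d) F) ^ r = 1 ∧
      (∀ s : CycFactor.S r F, finrank F (LinearMap.ker (aeval (Matrix.toLin'
        (x : Matrix (Fin d ⊕ Fin d) (Fin d ⊕ Fin d) F)) s.1)) =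
          (if s = s₁ then n * (2 * c') else 0) + (if s ∈ T then 2 * c' else 0)) ∧
      finrank F (LinearMap.ker (aeval (Matrix.toLin'
        (x : Matrix (Fin d ⊕ Fin d) (Fin d ⊕ Fin d) F)) (X - 1 : F[X]))) = 0 := by
  induction n with
  | zero =>
    intro d hd
    obtain ⟨x, hx, hk, hf⟩ := exists_sp_types hF r hrp hr2 c' hc 0 T d (by omega)
    refine ⟨x, hx, ?_, by rw [hf]⟩
    intro s
    rw [hk s]
    simp
  | succ n ih =>
    intro d hd
    obtain ⟨x₁, hx₁, hk₁, hf₁⟩ := exists_sp_atom_type hF r hrp hr2 c' hc s₁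
    obtain ⟨x₂, hx₂, hk₂, hf₂⟩ := ih (n * c' + T.card * c') rfl
    obtain ⟨x, hx, hk⟩ := exists_sp_sum c' (n * c' + T.card * c') x₁ x₂ r hx₁ hx₂
    have hd' : d = c' + (n * c' + T.card * c') := by rw [hd]; ring
    subst hd'
    refine ⟨x, hx, ?_, ?_⟩
    · intro s
      rw [hk, hk₁, hk₂]
      by_cases hs : s = s₁
      · simp only [if_pos hs]
        ring
      · simp only [if_neg hs]
        ring
    · rw [hk, hf₁, hf₂]

end shape

end Cfsg.Agent.Lib.H24.Elus
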