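import Mathlib
import Cfsg.Agent.Lib.H24.ElusSpMain

set_option autoImplicit false

/-!
# Nondegenerate subspaces fixed by involutions in odd characteristic (helper24)

* `exists_nd_invariant_invol`: an isometry `y` with `y ^ 2 = 1` (characteristic not two) fixes
  nondegenerate subspaces of every even dimension.
* `exists_nd_invariant_neg`: the same for an isometry with `y ^ 2 = -1`.
-/

namespace Cfsg.Agent.Lib.H24.Elus

open Polynomial Module
open Cfsg.Agent.Lib.H13

section invol

variable {F : Type*} [Field F] {V : Type*} [AddCommGroup V] [Module F V]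
variable {B : LinearMap.BilinForm F V} {y : End F V}

/-- the plane spanned by a non-orthogonal pair -/
theorem plane_of_pair (halt : ∀ v, B v v = 0) (u v : V) (huv : B u v ≠ 0) :
    NDon B (Submodule.span F {u, v}) ∧ finrank F (Submodule.span F {u, v}) = 2 := by
  have hvu : B v u ≠ 0 := by
    rw [alt_swap B halt]
    exact neg_ne_zero.mpr huv
  constructor
  · intro w hw h
    obtain ⟨α, β, rfl⟩ := Submodule.mem_span_pair.mp hw
    have h1 := h u (Submodule.subset_span (by simp))
    have h2 := h v (Submodule.subset_span (by simp))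
    simp only [map_add, map_smul, LinearMap.add_apply, LinearMap.smul_apply, halt, smul_eq_mul,
      mul_zero, zero_add, add_zero] at h1 h2
    have hβ : β = 0 := by
      rcases mul_eq_zero.mp h1 with h | h
      · exact h
      · exact absurd h hvu
    have hα : α = 0 := by
      rcases mul_eq_zero.mp h2 with h | h
      · exact h
      · exact absurd h huv
    rw [hα, hβ, zero_smul, zero_smul, add_zero]
  · have hli : LinearIndependent F ![u, v] := by
      rw [LinearIndependent.pair_iff]
      intro s t hst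
      have h1 := congrArg (fun x => B x u) hst
      have h2 := congrArg (fun x => B x v) hst
      simp only [map_add, map_smul, LinearMap.add_apply, LinearMap.smul_apply, halt, smul_eq_mul,
        mul_zero, zero_add, add_zero, map_zero, LinearMap.zero_apply] at h1 h2
      constructor
      · rcases mul_eq_zero.mp h2 with h | h
        · exact h
        · exact absurd h huv
      · rcases mul_eq_zero.mp h1 with h | h
        · exact h
        · exact absurd h hvu
    have h := finrank_span_eq_card hli
    have hr : Set.range ![u, v] = {u, v} := by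
      ext x
      simp only [Matrix.range_cons, Matrix.range_empty, Set.union_empty, Set.mem_union,
        Set.mem_singleton_iff, Set.mem_insert_iff]
    rw [hr, Fintype.card_fin] at h
    exact h

variable [FiniteDimensional F V]

theorem exists_nd_invariant_invol (h2 : (2 : F) ≠ 0) (halt : ∀ v, B v v = 0)
    (hiso : ∀ u v, B (y u) (y v) = B u v) (hy : y ^ 2 = 1) (hndV : NDon B ⊤) (n m : ℕ)
    (hV : finrank F V = n) (hme : Even m) (hmn : m ≤ n) :
    ∃ W : Submodule F V, finrank F W = m ∧ NDon B W ∧ ∀ v ∈ W, y v ∈ W := by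
  haveI : Fact (Nat.Prime 2) := ⟨Nat.prime_two⟩
  have hrF : ((2 : ℕ) : F) ≠ 0 := by
    rw [Nat.cast_ofNat]
    exact h2
  set Fx := LinearMap.ker (aeval y (X - 1 : F[X])) with hFx
  set V' := LinearMap.ker (aeval y (cyclotomic 2 F)) with hV'
  have htopinv : ∀ v ∈ (⊤ : Submodule F V), y v ∈ (⊤ : Submodule F V) := fun _ _ =>
    Submodule.mem_top
  have hsplit := finrank_split_fix hrF hy ⊤ htopinv
  rw [top_inf_eq, top_inf_eq, finrank_top, hV] at hsplit
  replace hsplit : finrank F Fx + finrank F V' = n := hsplit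
  have hFxnd : NDon B Fx := by
    have := NDon_fix_part halt hiso hrF hy ⊤ htopinv hndV
    rwa [top_inf_eq] at this
  have hV'nd : NDon B V' := by
    have := NDon_cyc_part halt hiso hrF hy ⊤ htopinv hndV
    rwa [top_inf_eq] at this
  have hFxinv : ∀ P : Submodule F V, P ≤ Fx → ∀ v ∈ P, y v ∈ P := by
    intro P hP v hv
    rw [(mem_fix_iff v).mp (hP hv)]
    exact hv
  have hV'inv : ∀ R : Submodule F V, R ≤ V' → ∀ v ∈ R, y v ∈ R := by
    intro R hR v hv
    have h1 := hR hv
    rw [hV', LinearMap.mem_ker, cyclotomic_two, map_add, aeval_X, map_one, LinearMap.add_apply,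
      Module.End.one_apply] at h1
    have h3 : y v = -v := eq_neg_of_add_eq_zero_left h1
    rw [h3]
    exact Submodule.neg_mem _ hv
  obtain ⟨k, hk⟩ := hme
  by_cases hmf : m ≤ finrank F Fx
  · obtain ⟨P, hPle, hP, hPdim⟩ := peel_exists halt (peelClass_planes halt Fx) k Fx
      ⟨le_rfl, hFxnd⟩ (by omega)
    exact ⟨P, by rw [hPdim]; omega, hP.2, hFxinv P hP.1⟩
  · push Not at hmf
    obtain ⟨k₁, hk₁⟩ := even_finrank_of_NDon halt Fx hFxnd
    obtain ⟨R, hRle, hR, hRdim⟩ := peel_exists halt (peelClass_planes halt V') (k - k₁) V'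
      ⟨le_rfl, hV'nd⟩ (by omega)
    have hPR : ∀ u ∈ Fx, ∀ v ∈ R, B u v = 0 := fun u hu v hv =>
      fix_orth_cyc halt hiso hrF hy u v hu (hR.1 hv)
    refine ⟨Fx ⊔ R, ?_, NDon_sup B halt Fx R hFxnd hR.2 hPR, ?_⟩
    · have h := Submodule.finrank_sup_add_finrank_inf_eq Fx R
      rw [inf_eq_bot_of_orth B halt Fx R hFxnd hPR, finrank_bot, add_zero, hRdim] at h
      rw [h]
      omega
    · exact sup_invariant Fx R (hFxinv Fx le_rfl) (hV'inv R hR.1)

/-- isometries with square `-1` -/
theorem exists_nd_invariant_neg (h2 : (2 : F) ≠ 0) (halt : ∀ v, B v v = 0)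
    (hiso : ∀ u v, B (y u) (y v) = B u v) (hy : ∀ v, y (y v) = -v) (hndV : NDon B ⊤) (n m : ℕ)
    (hV : finrank F V = n) (hme : Even m) (hmn : m ≤ n) :
    ∃ W : Submodule F V, finrank F W = m ∧ NDon B W ∧ ∀ v ∈ W, y v ∈ W := by
  have hy4 : y ^ 4 = 1 := by
    apply LinearMap.ext
    intro v
    have : (y ^ 4) v = y (y (y (y v))) := by
      rw [show (4 : ℕ) = 1 + 1 + 1 + 1 from rfl, pow_succ, pow_succ, pow_succ, pow_one]
      rfl
    rw [this, hy, hy, neg_neg]
    rfl
  have hsymm : ∀ a b : V, B b (y a) = B a (y b) := by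
    intro a b
    rw [alt_swap B halt, ← hiso (y a) b, hy, map_neg, LinearMap.neg_apply, neg_neg]
  have hclass : PeelClass B (fun A => (∀ v ∈ A, y v ∈ A) ∧ NDon B A) 2 :=
    { pos := by norm_num
      bot := ⟨fun v hv => by
        rw [Submodule.mem_bot] at hv ⊢
        rw [hv, map_zero], NDon_bot B⟩
      nd := fun _ h => h.2
      perp := fun U A hU hA hAU => ⟨inf_orth_invariant hiso (by norm_num) hy4 U A hU.1 hA.1,
        NDon_perp_in B halt U A hU.2 hA.2 hAU⟩
      sup := fun A A' hA hA' horth => ⟨sup_invariant A A' hA.1 hA'.1,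
        NDon_sup B halt A A' hA.2 hA'.2 horth⟩
      atom := fun U hU hne => by
        obtain ⟨u, hu, hu0⟩ := (Submodule.ne_bot_iff U).mp hne
        obtain ⟨w, hw, huw⟩ : ∃ w ∈ U, B u w ≠ 0 := by
          by_contra hcon
          push Not at hcon
          exact hu0 (hU.2 u hu hcon)
        obtain ⟨w', hw'U, hw'⟩ : ∃ w' ∈ U, y w' = w :=
          ⟨-(y w), Submodule.neg_mem _ (hU.1 w hw), by rw [map_neg, hy, neg_neg]⟩
        have huw' : B u (y w') ≠ 0 := by rw [hw']; exact huw
        obtain ⟨v, hv, hvv⟩ : ∃ v ∈ U, B v (y v) ≠ 0 := by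
          by_cases h1 : B u (y u) ≠ 0
          · exact ⟨u, hu, h1⟩
          by_cases h3 : B w' (y w') ≠ 0
          · exact ⟨w', hw'U, h3⟩
          push Not at h1 h3
          refine ⟨u + w', U.add_mem hu hw'U, ?_⟩
          have e : B (u + w') (y (u + w')) = 2 * B u (y w') := by
            simp only [map_add, LinearMap.add_apply, h1, h3, hsymm u w']
            ring
          rw [e]
          exact mul_ne_zero h2 huw'
        obtain ⟨hnd, hdim⟩ := plane_of_pair halt v (y v) hvv
        refine ⟨Submodule.span F {v, y v}, ?_, ⟨?_, hnd⟩, hdim⟩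
        · rw [Submodule.span_le]
          intro x hx
          rcases hx with rfl | rfl
          · exact hv
          · exact hU.1 _ hv
        · intro x hx
          obtain ⟨α, β, rfl⟩ := Submodule.mem_span_pair.mp hx
          rw [map_add, map_smul, map_smul, hy]
          apply Submodule.add_mem
          · exact Submodule.smul_mem _ _ (Submodule.subset_span (by simp))
          · exact Submodule.smul_mem _ _ (Submodule.neg_mem _ (Submodule.subset_span (by simp))) }
  obtain ⟨k, hk⟩ := hme
  obtain ⟨A, -, hA, hAdim⟩ := peel_exists halt hclass k ⊤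
    ⟨fun _ _ => Submodule.mem_top, hndV⟩ (by rw [finrank_top, hV]; omega)
  exact ⟨A, by rw [hAdim]; omega, hA.2, hA.1⟩

end invol

end Cfsg.Agent.Lib.H24.Elus
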