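import Mathlib
import Cfsg.Agent.Lib.H24.ElusTiBasic
import Cfsg.Agent.Lib.H24.ElusNdC

set_option autoImplicit false

/-!
# Involutions modulo scalars and totally isotropic subspaces (helper24)

For an isometry `y` of a nondegenerate alternating space of dimension `2 d` in odd characteristic:
* `exists_ti_invol`: if `y ^ 2 = 1` then `y` fixes a totally isotropic `m`-space for all `m ≤ d`;
* `exists_ti_neg_split`: the same if `y ^ 2 = -1` and `-1` is a square;
* `exists_ti_neg_even`: the same if `y ^ 2 = -1` and `m` is even (over a finite field);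
* `even_finrank_of_neg`: if `y ^ 2 = -1` and `-1` is not a square, invariant subspaces have even
  dimension.
-/

namespace Cfsg.Agent.Lib.H24.Elus

open Polynomial Module

section two

variable {F : Type*} [Field F] {V : Type*} [AddCommGroup V] [Module F V] [FiniteDimensional F V]
  {B : LinearMap.BilinForm F V} {y : End F V}

omit [FiniteDimensional F V] in
theorem exists_le_finrank_eq' [FiniteDimensional F V] (U : Submodule F V) :
    ∀ m, m ≤ finrank F U → ∃ W : Submodule F V, W ≤ U ∧ finrank F W = m := by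
  intro m
  induction m with
  | zero =>
    intro _
    exact ⟨⊥, bot_le, finrank_bot F V⟩
  | succ m ih =>
    intro hm
    obtain ⟨W, hWU, hWm⟩ := ih (by omega)
    have hne : W ≠ U := by
      rintro rfl
      omega
    obtain ⟨v, hvU, hvW⟩ := SetLike.exists_of_lt (lt_of_le_of_ne hWU hne)
    have hvle : Submodule.span F {v} ≤ U := by
      rw [Submodule.span_le]
      intro x hx
      rw [Set.mem_singleton_iff] at hx
      rw [hx]
      exact hvU
    refine ⟨W ⊔ Submodule.span F {v}, sup_le hWU hvle, ?_⟩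
    have h := Submodule.finrank_sup_add_finrank_inf_eq W (Submodule.span F {v})
    have h0 : W ⊓ Submodule.span F {v} = ⊥ := by
      rw [eq_bot_iff]
      intro x hx
      rw [Submodule.mem_inf] at hx
      obtain ⟨c, rfl⟩ := Submodule.mem_span_singleton.mp hx.2
      rw [Submodule.mem_bot]
      by_cases hc : c = 0
      · rw [hc, zero_smul]
      · exfalso
        apply hvW
        have := W.smul_mem c⁻¹ hx.1
        rwa [smul_smul, inv_mul_cancel₀ hc, one_smul] at this
    have hv0 : v ≠ 0 := by
      rintro rfl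
      exact hvW W.zero_mem
    rw [h0, finrank_bot, add_zero, finrank_span_singleton hv0, hWm] at h
    exact h

/-- involutions -/
theorem exists_ti_invol (h2 : (2 : F) ≠ 0) (halt : ∀ v, B v v = 0)
    (hiso : ∀ u v, B (y u) (y v) = B u v) (hy : y ^ 2 = 1) (hndV : NDon B ⊤) (d m : ℕ)
    (hV : finrank F V = 2 * d) (hmd : m ≤ d) :
    ∃ W : Submodule F V, finrank F W = m ∧ TIon B W ∧ ∀ v ∈ W, y v ∈ W := by
  haveI : Fact (Nat.Prime 2) := ⟨Nat.prime_two⟩
  have hrF : ((2 : ℕ) : F) ≠ 0 := by
    rw [Nat.cast_ofNat]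
    exact h2
  obtain ⟨Fx, hFx⟩ : ∃ Fx, Fx = LinearMap.ker (aeval y (X - 1 : F[X])) := ⟨_, rfl⟩
  obtain ⟨V', hV'⟩ : ∃ V', V' = LinearMap.ker (aeval y (cyclotomic 2 F)) := ⟨_, rfl⟩
  have htopinv : ∀ v ∈ (⊤ : Submodule F V), y v ∈ (⊤ : Submodule F V) := fun _ _ =>
    Submodule.mem_top
  have hsplit := finrank_split_fix hrF hy ⊤ htopinv
  rw [top_inf_eq, top_inf_eq, finrank_top, hV, ← hFx, ← hV'] at hsplit
  have hFxnd : NDon B Fx := by
    have := NDon_fix_part halt hiso hrF hy ⊤ htopinv hndV
    rwa [top_inf_eq, ← hFx] at this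
  have hV'nd : NDon B V' := by
    have := NDon_cyc_part halt hiso hrF hy ⊤ htopinv hndV
    rwa [top_inf_eq, ← hV'] at this
  have hFxinv : ∀ P : Submodule F V, P ≤ Fx → ∀ v ∈ P, y v ∈ P := by
    intro P hP v hv
    have hv' := hP hv
    rw [hFx] at hv'
    rw [(mem_fix_iff v).mp hv']
    exact hv
  have hV'inv : ∀ R : Submodule F V, R ≤ V' → ∀ v ∈ R, y v ∈ R := by
    intro R hR v hv
    have h1 := hR hv
    rw [hV', LinearMap.mem_ker, cyclotomic_two, map_add, aeval_X, map_one, LinearMap.add_apply,
      Module.End.one_apply] at h1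
    have h3 : y v = -v := eq_neg_of_add_eq_zero_left h1
    rw [h3]
    exact Submodule.neg_mem _ hv
  have horth : ∀ u ∈ Fx, ∀ w ∈ V', B u w = 0 := by
    rw [hFx, hV']
    exact fun u hu w hw => fix_orth_cyc halt hiso hrF hy u w hu hw
  obtain ⟨a, ha⟩ := even_finrank_of_NDon halt Fx hFxnd
  obtain ⟨b, hb⟩ := even_finrank_of_NDon halt V' hV'nd
  obtain ⟨W₁, hW₁, hW₁ti, hW₁d⟩ := exists_ti_in_NDon B halt (min m a) Fx hFxnd (by
    have := min_le_right m a
    omega)
  obtain ⟨W₂, hW₂, hW₂ti, hW₂d⟩ := exists_ti_in_NDon B halt (m - min m a) V' hV'nd (by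
    rcases le_total m a with h | h
    · rw [min_eq_left h]
      omega
    · rw [min_eq_right h]
      omega)
  obtain ⟨hti, hdim⟩ := ti_sup B halt Fx V' W₁ W₂ hFxnd horth hW₁ hW₂ hW₁ti hW₂ti
  refine ⟨W₁ ⊔ W₂, ?_, hti, sup_invariant _ _ (hFxinv W₁ hW₁) (hV'inv W₂ hW₂)⟩
  rw [hdim, hW₁d, hW₂d]
  have := min_le_left m a
  omega

/-- isometries with square `-1`, when `-1` is a square -/
theorem exists_ti_neg_split (h2 : (2 : F) ≠ 0) (hiso : ∀ u v, B (y u) (y v) = B u v)
    (hy : ∀ v, y (y v) = -v) (ι : F) (hι : ι * ι = -1) (d m : ℕ)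
    (hV : finrank F V = 2 * d) (hmd : m ≤ d) :
    ∃ W : Submodule F V, finrank F W = m ∧ TIon B W ∧ ∀ v ∈ W, y v ∈ W := by
  -- the eigenspaces
  have key : ∀ κ : F, κ * κ = -1 → TIon B (LinearMap.ker (y - κ • (1 : End F V))) ∧
      ∀ W : Submodule F V, W ≤ LinearMap.ker (y - κ • (1 : End F V)) → ∀ v ∈ W, y v ∈ W := by
    intro κ hκ
    have hmem : ∀ v, v ∈ LinearMap.ker (y - κ • (1 : End F V)) → y v = κ • v := by
      intro v hv
      rw [LinearMap.mem_ker, LinearMap.sub_apply, LinearMap.smul_apply, Module.End.one_apply,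
        sub_eq_zero] at hv
      exact hv
    constructor
    · intro u hu v hv
      have h1 := hiso u v
      rw [hmem u hu, hmem v hv, map_smul, map_smul, LinearMap.smul_apply, smul_eq_mul, smul_eq_mul,
        ← mul_assoc, hκ] at h1
      have h3 : (2 : F) * B u v = 0 := by linear_combination -h1
      rcases mul_eq_zero.mp h3 with h | h
      · exact absurd h h2
      · exact h
    · intro W hW v hv
      rw [hmem v (hW hv)]
      exact W.smul_mem κ hv
  have hι' : (-ι) * (-ι) = -1 := by rw [neg_mul_neg, hι]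
  obtain ⟨hti₁, hinv₁⟩ := key ι hι
  obtain ⟨hti₂, hinv₂⟩ := key (-ι) hι'
  have hsup : LinearMap.ker (y - ι • (1 : End F V)) ⊔ LinearMap.ker (y - (-ι) • (1 : End F V)) =
      ⊤ := by
    rw [eq_top_iff]
    intro v _
    have hv : v = (2 : F)⁻¹ • (v - ι • y v) + (2 : F)⁻¹ • (v + ι • y v) := by
      rw [← smul_add]
      have : v - ι • y v + (v + ι • y v) = (2 : F) • v := by
        rw [two_smul]
        abel
      rw [this, smul_smul, inv_mul_cancel₀ h2, one_smul]
    rw [hv]
    apply Submodule.add_mem
    · apply Submodule.mem_sup_left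
      apply Submodule.smul_mem
      rw [LinearMap.mem_ker, LinearMap.sub_apply, LinearMap.smul_apply, Module.End.one_apply,
        map_sub, map_smul, hy, smul_sub, smul_smul, hι]
      rw [neg_smul, one_smul, smul_neg]
      abel
    · apply Submodule.mem_sup_right
      apply Submodule.smul_mem
      rw [LinearMap.mem_ker, LinearMap.sub_apply, LinearMap.smul_apply, Module.End.one_apply,
        map_add, map_smul, hy, smul_add, smul_smul, neg_mul, hι]
      rw [neg_neg, one_smul, smul_neg, neg_smul]
      abel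
  have hdim := Submodule.finrank_sup_add_finrank_inf_eq
    (LinearMap.ker (y - ι • (1 : End F V))) (LinearMap.ker (y - (-ι) • (1 : End F V)))
  rw [hsup, finrank_top, hV] at hdim
  rcases le_total d (finrank F ↥(LinearMap.ker (y - ι • (1 : End F V)))) with h | h
  · obtain ⟨W, hWle, hWm⟩ := exists_le_finrank_eq' (LinearMap.ker (y - ι • (1 : End F V))) m
      (by omega)
    exact ⟨W, hWm, TIon_mono B hWle hti₁, hinv₁ W hWle⟩
  · obtain ⟨W, hWle, hWm⟩ := exists_le_finrank_eq' (LinearMap.ker (y - (-ι) • (1 : End F V))) m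
      (by omega)
    exact ⟨W, hWm, TIon_mono B hWle hti₂, hinv₂ W hWle⟩

/-- the class of invariant nondegenerate subspaces of an isometry with square `-1` -/
theorem peelClass_neg (h2 : (2 : F) ≠ 0) (halt : ∀ v, B v v = 0)
    (hiso : ∀ u v, B (y u) (y v) = B u v) (hy : ∀ v, y (y v) = -v) :
    PeelClass B (fun A => (∀ v ∈ A, y v ∈ A) ∧ NDon B A) 2 := by
  have hy4 : y ^ 4 = 1 := by
    apply LinearMap.ext
    intro v
    have : (y ^ 4) v = y (y (y (y v))) := by
      rw [show (4 : ℕ) = 1 + 1 + 1 + 1 from rfl, pow_succ, pow_succ, pow_succ, pow_one]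
      rfl
    rw [this, hy, hy, neg_neg]
    rfl
  have hsymm : ∀ a b : V, B b (y a) = B a (y b) := by
    intro a b
    rw [alt_swap B halt, ← hiso (y a) b, hy, map_neg, LinearMap.neg_apply, neg_neg]
  exact
    { pos := by norm_num
      bot := ⟨fun v hv => by
        rw [Submodule.mem_bot] at hv ⊢
        rw [hv, map_zero], NDon_bot B⟩
      nd := fun _ h => h.2
      perp := fun U A hU hA hAU => ⟨inf_orth_invariant hiso (by norm_num) hy4 U A hU.1 hA.1,
        NDon_perp_in B halt U A hU.2 hA.2 hAU⟩
      sup := fun A A' hA hA' horth => ⟨sup_invariant A A' hA.1 hA'.1,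
        NDon_sup B halt A A' hA.2 hA'.2 horth⟩
      atom := fun U hU hne => by
        obtain ⟨u, hu, hu0⟩ := (Submodule.ne_bot_iff U).mp hne
        obtain ⟨w, hw, huw⟩ : ∃ w ∈ U, B u w ≠ 0 := by
          by_contra hcon
          push Not at hcon
          exact hu0 (hU.2 u hu hcon)
        obtain ⟨w', hw'U, hw'⟩ : ∃ w' ∈ U, y w' = w :=
          ⟨-(y w), Submodule.neg_mem _ (hU.1 w hw), by rw [map_neg, hy, neg_neg]⟩
        have huw' : B u (y w') ≠ 0 := by rw [hw']; exact huw
        obtain ⟨v, hv, hvv⟩ : ∃ v ∈ U, B v (y v) ≠ 0 := by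
          by_cases h1 : B u (y u) ≠ 0
          · exact ⟨u, hu, h1⟩
          by_cases h3 : B w' (y w') ≠ 0
          · exact ⟨w', hw'U, h3⟩
          push Not at h1 h3
          refine ⟨u + w', U.add_mem hu hw'U, ?_⟩
          have e : B (u + w') (y (u + w')) = 2 * B u (y w') := by
            simp only [map_add, LinearMap.add_apply, h1, h3, hsymm u w']
            ring
          rw [e]
          exact mul_ne_zero h2 huw'
        obtain ⟨hnd, hdim⟩ := plane_of_pair halt v (y v) hvv
        refine ⟨Submodule.span F {v, y v}, ?_, ⟨?_, hnd⟩, hdim⟩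
        · rw [Submodule.span_le]
          intro x hx
          rcases hx with rfl | rfl
          · exact hv
          · exact hU.1 _ hv
        · intro x hx
          obtain ⟨α, β, rfl⟩ := Submodule.mem_span_pair.mp hx
          rw [map_add, map_smul, map_smul, hy]
          apply Submodule.add_mem
          · exact Submodule.smul_mem _ _ (Submodule.subset_span (by simp))
          · exact Submodule.smul_mem _ _ (Submodule.neg_mem _ (Submodule.subset_span (by simp))) }

/-- invariant totally isotropic subspaces of an isometry with square `-1`, `-1` a nonsquare -/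
theorem exists_ti_neg_aux [Fintype F] (h2 : (2 : F) ≠ 0) (halt : ∀ v, B v v = 0)
    (hiso : ∀ u v, B (y u) (y v) = B u v) (hy : ∀ v, y (y v) = -v)
    (hns : ¬ IsSquare (-1 : F)) :
    ∀ (a' : ℕ) (U : Submodule F V), (∀ v ∈ U, y v ∈ U) → NDon B U → 4 * a' ≤ finrank F U →
      ∃ W : Submodule F V, W ≤ U ∧ (∀ v ∈ W, y v ∈ W) ∧ TIon B W ∧ finrank F W = 2 * a' := by
  have hclass := peelClass_neg h2 halt hiso hy
  have hy4 : y ^ 4 = 1 := by
    apply LinearMap.ext
    intro v
    have : (y ^ 4) v = y (y (y (y v))) := by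
      rw [show (4 : ℕ) = 1 + 1 + 1 + 1 from rfl, pow_succ, pow_succ, pow_succ, pow_one]
      rfl
    rw [this, hy, hy, neg_neg]
    rfl
  intro a'
  induction a' with
  | zero =>
    intro U _ _ _
    refine ⟨⊥, bot_le, ?_, TIon_bot B, by rw [finrank_bot]⟩
    intro v hv
    rw [Submodule.mem_bot] at hv ⊢
    rw [hv, map_zero]
  | succ a' ih =>
    intro U hU hnd hdim
    obtain ⟨H, hHU, ⟨hHinv, hHnd⟩, hHdim⟩ := peel_exists halt hclass 2 U ⟨hU, hnd⟩ (by omega)
    obtain ⟨u, huH, hu0, hu⟩ := exists_common_zero 1 (fun _ => B.compl₂ y) H (by omega)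
    have huy : B u (y u) = 0 := by
      have := hu 0
      rw [LinearMap.compl₂_apply] at this
      exact this
    have hyu : B (y u) u = 0 := alt_swap_zero B halt huy
    -- the plane spanned by `u` and `y u`
    have hZH : Submodule.span F {u, y u} ≤ H := by
      rw [Submodule.span_le]
      intro x hx
      rcases hx with rfl | rfl
      · exact huH
      · exact hHinv _ huH
    have hZinv : ∀ v ∈ Submodule.span F {u, y u}, y v ∈ Submodule.span F {u, y u} := by
      intro x hx
      obtain ⟨α, β, rfl⟩ := Submodule.mem_span_pair.mp hx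
      rw [map_add, map_smul, map_smul, hy]
      apply Submodule.add_mem
      · exact Submodule.smul_mem _ _ (Submodule.subset_span (by simp))
      · exact Submodule.smul_mem _ _ (Submodule.neg_mem _ (Submodule.subset_span (by simp)))
    have hZti : TIon B (Submodule.span F {u, y u}) := by
      intro a ha b hb
      obtain ⟨α, β, rfl⟩ := Submodule.mem_span_pair.mp ha
      obtain ⟨γ, δ, rfl⟩ := Submodule.mem_span_pair.mp hb
      simp only [map_add, map_smul, LinearMap.add_apply, LinearMap.smul_apply, halt, huy, hyu,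
        smul_eq_mul, mul_zero, add_zero]
    have hZdim : finrank F (Submodule.span F {u, y u}) = 2 := by
      have hli : LinearIndependent F ![u, y u] := by
        rw [LinearIndependent.pair_iff]
        intro s t hst
        have h1 := congrArg y hst
        rw [map_add, map_smul, map_smul, hy, map_zero] at h1
        have h3 : (s * s + t * t) • u = 0 := by
          have e : (s * s + t * t) • u = s • (s • u + t • y u) - t • (s • y u + t • -u) := by
            simp only [smul_add, smul_smul, add_smul, smul_neg]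
            rw [mul_comm t s]
            abel
          rw [e, hst, h1, smul_zero, smul_zero, sub_zero]
        have h4 : s * s + t * t = 0 := by
          rcases smul_eq_zero.mp h3 with h | h
          · exact h
          · exact absurd h hu0
        have ht : t = 0 := by
          by_contra ht
          apply hns
          refine ⟨s / t, ?_⟩
          field_simp
          linear_combination -h4
        rw [ht, mul_zero, add_zero] at h4
        exact ⟨mul_self_eq_zero.mp h4, ht⟩
      have h := finrank_span_eq_card hli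
      have hr : Set.range ![u, y u] = {u, y u} := by
        ext x
        simp only [Matrix.range_cons, Matrix.range_empty, Set.union_empty, Set.mem_union,
          Set.mem_singleton_iff, Set.mem_insert_iff]
      rw [hr, Fintype.card_fin] at h
      exact h
    have h1 := finrank_perp_in B halt U H hHnd hHU
    obtain ⟨W', hW'U, hW'inv, hW'ti, hW'dim⟩ := ih (U ⊓ B.orthogonal H)
      (inf_orth_invariant hiso (by norm_num) hy4 U H hU hHinv)
      (NDon_perp_in B halt U H hnd hHnd hHU) (by omega)
    obtain ⟨hti, hdim'⟩ := ti_sup B halt H (U ⊓ B.orthogonal H) (Submodule.span F {u, y u}) W'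
      hHnd (fun a ha w hw => (Submodule.mem_inf.mp hw).2 a ha) hZH hW'U hZti hW'ti
    refine ⟨Submodule.span F {u, y u} ⊔ W', sup_le (hZH.trans hHU) (hW'U.trans inf_le_left),
      sup_invariant _ _ hZinv hW'inv, hti, ?_⟩
    rw [hdim', hZdim, hW'dim]
    ring

/-- isometries with square `-1`, `m` even -/
theorem exists_ti_neg_even [Fintype F] (h2 : (2 : F) ≠ 0) (halt : ∀ v, B v v = 0)
    (hiso : ∀ u v, B (y u) (y v) = B u v) (hy : ∀ v, y (y v) = -v) (hndV : NDon B ⊤) (d m : ℕ)
    (hV : finrank F V = 2 * d) (hmd : m ≤ d) (hme : Even m) :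
    ∃ W : Submodule F V, finrank F W = m ∧ TIon B W ∧ ∀ v ∈ W, y v ∈ W := by
  by_cases hsq : IsSquare (-1 : F)
  · obtain ⟨ι, hι⟩ := hsq
    exact exists_ti_neg_split h2 hiso hy ι hι.symm d m hV hmd
  · obtain ⟨k, hk⟩ := hme
    obtain ⟨W, -, hWinv, hWti, hWdim⟩ := exists_ti_neg_aux h2 halt hiso hy hsq k ⊤
      (fun _ _ => Submodule.mem_top) hndV (by rw [finrank_top, hV]; omega)
    exact ⟨W, by rw [hWdim]; omega, hWti, hWinv⟩

omit [FiniteDimensional F V] in
/-- if `-1` is not a square, subspaces invariant under a map with square `-1` have even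
dimension -/
theorem even_finrank_of_neg (hy : ∀ v, y (y v) = -v) (hns : ¬ IsSquare (-1 : F))
    (W : Submodule F V) (hW : ∀ v ∈ W, y v ∈ W) : Even (finrank F W) := by
  by_contra hodd
  rw [Nat.not_even_iff_odd] at hodd
  apply hns
  have hsq : (y.restrict hW) * (y.restrict hW) = (-1 : F) • (1 : End F W) := by
    apply LinearMap.ext
    intro w
    apply Subtype.ext
    rw [Module.End.mul_apply, LinearMap.restrict_coe_apply, LinearMap.restrict_coe_apply, hy,
      LinearMap.smul_apply, Module.End.one_apply, neg_one_smul]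
    rfl
  have hdet := congrArg LinearMap.det hsq
  rw [map_mul, LinearMap.det_smul, map_one, mul_one, hodd.neg_one_pow] at hdet
  exact ⟨LinearMap.det (y.restrict hW), hdet.symm⟩

end two

end Cfsg.Agent.Lib.H24.Elus
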