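import Mathlib
import Cfsg.Agent.Lib.H24.ElusCount
import Cfsg.Agent.Lib.H13.FrameCount

set_option autoImplicit false

/-!
# Counting singular frames and totally singular subspaces, all characteristics (helper24)

Characteristic-free version of helper13's `QFrameCount` (singular part).  For a quadratic form `Q`
with nondegenerate polar form on a space of dimension `n` over the field with `q` elements, with
`Z = #{v | Q v = 0}`:

* `card_sing_perp`: `#{v ∈ W^⊥ | Q v = 0} + q^(n-1) = Z + q^(n-s-1)` for the span `W` of a singular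
  frame of length `s`;
* `card_sfr`: the number of singular frames of length `s` is
  `∏_{i<s} (Z + q^(n-i-1) - q^(n-1) - q^i)`;
* `card_tssub_mul`: `#{totally singular m-spaces} * ∏_{i<m} (q^m - q^i) = #{frames of length m}`.
-/

namespace Cfsg.Agent.Lib.H24.Oq

open Module QuadraticMap
open Cfsg.Agent.Lib.H24.Elus

section basic

variable {F V : Type*} [Field F] [AddCommGroup V] [Module F V] (Q : QuadraticForm F V)

theorem Q_add_eq (x y : V) : Q (x + y) = Q x + Q y + polar (⇑Q) x y := by
  unfold polar
  ring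

theorem polar_self_of_sing {u : V} (hu : Q u = 0) : polar (⇑Q) u u = 0 := by
  rw [polar_self, hu, smul_zero]

/-- singular frames: independent, pairwise orthogonal, singular vectors -/
def SFr {s : ℕ} (w : Fin s → V) : Prop :=
  LinearIndependent F w ∧ (∀ i j, polar (⇑Q) (w i) (w j) = 0) ∧ ∀ i, Q (w i) = 0

theorem polar_span_sfr_right {s : ℕ} (w : Fin s → V) (hw : SFr Q w) (i : Fin s) :
    ∀ z ∈ Submodule.span F (Set.range w), polar (⇑Q) (w i) z = 0 := by
  intro z hz
  induction hz using Submodule.span_induction with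
  | mem x hx => obtain ⟨j, rfl⟩ := hx; exact hw.2.1 i j
  | zero => exact polar_zero_right _ _
  | add a b _ _ iha ihb => rw [polar_add_right, iha, ihb, add_zero]
  | smul c a _ iha => rw [polar_smul_right, iha, smul_zero]

theorem polar_span_sfr {s : ℕ} (w : Fin s → V) (hw : SFr Q w) (y : V)
    (hy : y ∈ Submodule.span F (Set.range w)) :
    ∀ x ∈ Submodule.span F (Set.range w), polar (⇑Q) x y = 0 := by
  intro x hx
  induction hx using Submodule.span_induction with
  | mem x hx => obtain ⟨i, rfl⟩ := hx; exact polar_span_sfr_right Q w hw i y hy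
  | zero => exact polar_zero_left _ _
  | add a b _ _ iha ihb => rw [polar_add_left, iha, ihb, add_zero]
  | smul c a _ iha => rw [polar_smul_left, iha, smul_zero]

/-- `Q` vanishes on the span of a singular frame -/
theorem Q_span_sfr {s : ℕ} (w : Fin s → V) (hw : SFr Q w) :
    ∀ v ∈ Submodule.span F (Set.range w), Q v = 0 := by
  intro v hv
  induction hv using Submodule.span_induction with
  | mem x hx => obtain ⟨i, rfl⟩ := hx; exact hw.2.2 i
  | zero => exact map_zero Q
  | add x y hx hy ihx ihy =>
    rw [Q_add_eq, ihx, ihy, zero_add, zero_add]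
    exact polar_span_sfr Q w hw y hy x hx
  | smul c x hx ih => rw [QuadraticMap.map_smul, ih, smul_zero]

end basic

section count

variable {F V : Type*} [Field F] [Fintype F] [AddCommGroup V] [Module F V]
  [FiniteDimensional F V] (Q : QuadraticForm F V)

/-- the number of singular vectors (including zero) -/
noncomputable def Zc : ℕ := Nat.card {v : V // Q v = 0}

theorem mem_perp_iff {s : ℕ} (w : Fin s → V) (v : V) :
    v ∈ LinearMap.BilinForm.orthogonal (polarBilin Q) (Submodule.span F (Set.range w)) ↔
      ∀ i, polar (⇑Q) (w i) v = 0 := by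
  rw [LinearMap.BilinForm.mem_orthogonal_iff]
  constructor
  · intro h i
    exact h _ (Submodule.subset_span ⟨i, rfl⟩)
  · intro h u hu
    show polarBilin Q u v = 0
    induction hu using Submodule.span_induction with
    | mem x hx => obtain ⟨i, rfl⟩ := hx; exact h i
    | zero => simp
    | add x y _ _ hx hy => rw [map_add, LinearMap.add_apply, hx, hy, add_zero]
    | smul c x _ hx => rw [map_smul, LinearMap.smul_apply, hx, smul_zero]

theorem finrank_perp (hQ : (polarBilin Q).Nondegenerate) {s : ℕ} (w : Fin s → V)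
    (hw : LinearIndependent F w) :
    finrank F ↥(LinearMap.BilinForm.orthogonal (polarBilin Q)
      (Submodule.span F (Set.range w))) = finrank F V - s := by
  rw [LinearMap.BilinForm.finrank_orthogonal hQ, finrank_span_eq_card hw, Fintype.card_fin]

/-- shifting by a singular vector -/
theorem card_shift_zero (A : Submodule F V) (u : V) (hu : u ∈ A) (hQu : Q u = 0) :
    Nat.card {v : V // v ∈ A ∧ polar (⇑Q) u v ≠ 0 ∧ Q v = 0} * Fintype.card F =
      Nat.card {v : V // v ∈ A ∧ polar (⇑Q) u v ≠ 0} := by
  classical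
  haveI : Finite V := Module.finite_of_finite F
  rw [← Nat.card_eq_fintype_card (α := F), ← Nat.card_prod]
  have hpol : ∀ (v : V) (l : F), polar (⇑Q) u (v + l • u) = polar (⇑Q) u v := by
    intro v l
    rw [polar_add_right, polar_smul_right, polar_self_of_sing Q hQu, smul_zero, add_zero]
  have hQs : ∀ (v : V) (l : F), Q (v + l • u) = Q v + l * polar (⇑Q) u v := by
    intro v l
    rw [Q_add_eq, QuadraticMap.map_smul, polar_smul_right, hQu, polar_comm]
    simp
  apply Nat.card_eq_of_bijective
    (fun p : {v : V // v ∈ A ∧ polar (⇑Q) u v ≠ 0 ∧ Q v = 0} × F =>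
      (⟨p.1.1 + p.2 • u, A.add_mem p.1.2.1 (A.smul_mem _ hu), by
        rw [hpol]; exact p.1.2.2.1⟩ : {v : V // v ∈ A ∧ polar (⇑Q) u v ≠ 0}))
  constructor
  · rintro ⟨⟨v, hv, hv1, hv0⟩, l⟩ ⟨⟨v', hv', hv1', hv0'⟩, l'⟩ h
    have h0 : v + l • u = v' + l' • u := congrArg Subtype.val h
    have h1 := congrArg Q h0
    have h2 := congrArg (fun z => polar (⇑Q) u z) h0
    simp only [hpol] at h2
    rw [hQs, hQs, hv0, hv0', zero_add, zero_add, h2] at h1
    have hl : l = l' := mul_right_cancel₀ hv1' h1
    subst hl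
    have hv : v = v' := add_right_cancel h0
    subst hv
    rfl
  · rintro ⟨x, hx, hx1⟩
    refine ⟨⟨⟨x + (-(Q x / polar (⇑Q) u x)) • u, A.add_mem hx (A.smul_mem _ hu), ?_, ?_⟩,
      Q x / polar (⇑Q) u x⟩, ?_⟩
    · rw [hpol]; exact hx1
    · rw [hQs, neg_mul, div_mul_cancel₀ _ hx1, add_neg_cancel]
    · apply Subtype.ext
      show x + (-(Q x / polar (⇑Q) u x)) • u + (Q x / polar (⇑Q) u x) • u = x
      rw [add_assoc, ← add_smul, neg_add_cancel, zero_smul, add_zero]

/-- the extension step for singular frames -/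
theorem card_sfr_succ (s : ℕ) (N : ℕ)
    (hN : ∀ w : {w : Fin s → V // SFr Q w},
      Nat.card {v : V // (∀ i, polar (⇑Q) (w.1 i) v = 0) ∧ Q v = 0 ∧
        v ∉ Submodule.span F (Set.range w.1)} = N) :
    Nat.card {w : Fin (s + 1) → V // SFr Q w} = Nat.card {w : Fin s → V // SFr Q w} * N := by
  classical
  haveI : Finite V := Module.finite_of_finite F
  haveI : Fintype V := Fintype.ofFinite V
  let X := {w : Fin s → V // SFr Q w}
  let X' := {w : Fin (s + 1) → V // SFr Q w}
  let p : X' → X := fun w => ⟨Fin.init w.1, by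
    refine ⟨?_, fun i j => w.2.2.1 _ _, fun i => w.2.2.2 _⟩
    have := w.2.1.comp (Fin.castSucc : Fin s → Fin (s + 1)) (Fin.castSucc_injective s)
    exact this⟩
  show Nat.card X' = Nat.card X * N
  rw [Nat.card_congr (Equiv.sigmaFiberEquiv p).symm, Nat.card_sigma]
  have : ∀ w : X, Nat.card {w' : X' // p w' = w} = N := by
    intro w
    rw [← hN w]
    apply Nat.card_congr
    refine ⟨fun w' => ⟨w'.1.1 (Fin.last s), ?_, ?_, ?_⟩,
      fun v => ⟨⟨Fin.snoc w.1 v.1, ?_, ?_, ?_⟩, ?_⟩, ?_, ?_⟩
    · intro i
      have h3 : Fin.init w'.1.1 = w.1 := congrArg Subtype.val w'.2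
      have h2 : w.1 i = w'.1.1 i.castSucc := by
        rw [← h3]; rfl
      rw [h2]
      exact w'.1.2.2.1 _ _
    · exact w'.1.2.2.2 _
    · have h1 := w'.1.2.1
      rw [← Fin.snoc_init_self w'.1.1, linearIndependent_finSnoc] at h1
      have h2 : Fin.init w'.1.1 = w.1 := congrArg Subtype.val w'.2
      rw [h2] at h1
      exact h1.2
    · rw [linearIndependent_finSnoc]
      exact ⟨w.2.1, v.2.2.2⟩
    · have hv := v.2.1
      intro i j
      refine Fin.lastCases ?_ (fun i => ?_) i <;> refine Fin.lastCases ?_ (fun j => ?_) j <;>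
        simp only [Fin.snoc_last, Fin.snoc_castSucc]
      · exact polar_self_of_sing Q v.2.2.1
      · rw [polar_comm]; exact hv j
      · exact hv i
      · exact w.2.2.1 i j
    · intro i
      refine Fin.lastCases ?_ (fun i => ?_) i <;> simp only [Fin.snoc_last, Fin.snoc_castSucc]
      · exact v.2.2.1
      · exact w.2.2.2 i
    · apply Subtype.ext
      show Fin.init (Fin.snoc w.1 v.1 : Fin (s + 1) → V) = w.1
      exact Fin.init_snoc _ _
    · intro w'
      apply Subtype.ext
      apply Subtype.ext
      show Fin.snoc w.1 (w'.1.1 (Fin.last s)) = w'.1.1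
      have h2 : Fin.init w'.1.1 = w.1 := congrArg Subtype.val w'.2
      rw [← h2]
      exact Fin.snoc_init_self _
    · intro v
      apply Subtype.ext
      show (Fin.snoc w.1 v.1 : Fin (s + 1) → V) (Fin.last s) = v.1
      exact Fin.snoc_last _ _
  simp only [this]
  rw [Finset.sum_const, Finset.card_univ, smul_eq_mul, Nat.card_eq_fintype_card]

/-- cardinality of a relative complement -/
theorem card_and_not' {X : Type*} [Finite X] (P R : X → Prop) :
    Nat.card {v : X // P v ∧ ¬ R v} = Nat.card {v : X // P v} - Nat.card {v : X // P v ∧ R v} := by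
  classical
  haveI : Fintype X := Fintype.ofFinite X
  have h1 : Nat.card {v : X // P v ∧ ¬ R v} = Nat.card {a : {v : X // P v} // ¬ R a.1} := by
    apply Nat.card_congr
    exact ⟨fun v => ⟨⟨v.1, v.2.1⟩, v.2.2⟩, fun a => ⟨a.1.1, a.1.2, a.2⟩, fun _ => rfl, fun _ => rfl⟩
  have h2 : Nat.card {v : X // P v ∧ R v} = Nat.card {a : {v : X // P v} // R a.1} := by
    apply Nat.card_congr
    exact ⟨fun v => ⟨⟨v.1, v.2.1⟩, v.2.2⟩, fun a => ⟨a.1.1, a.1.2, a.2⟩, fun _ => rfl, fun _ => rfl⟩
  rw [h1, h2, Nat.card_eq_fintype_card, Nat.card_eq_fintype_card, Nat.card_eq_fintype_card,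
    Fintype.card_subtype_compl]

/-- the number of singular vectors orthogonal to a singular frame -/
theorem card_sing_perp (hQ : (polarBilin Q).Nondegenerate) (s : ℕ) :
    ∀ w : {w : Fin s → V // SFr Q w},
    Nat.card {v : V // (∀ i, polar (⇑Q) (w.1 i) v = 0) ∧ Q v = 0} +
        Fintype.card F ^ (finrank F V - 1) =
      Zc Q + Fintype.card F ^ (finrank F V - s - 1) := by
  classical
  haveI : Finite V := Module.finite_of_finite F
  have hq : 0 < Fintype.card F := Fintype.card_pos
  induction s with
  | zero =>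
    intro w
    rw [Nat.sub_zero]
    congr 1
    apply Nat.card_congr
    apply Equiv.subtypeEquivRight
    intro v
    constructor
    · exact fun h => h.2
    · exact fun h => ⟨fun i => i.elim0, h⟩
  | succ s ih =>
    intro w
    let w' : {w : Fin s → V // SFr Q w} := ⟨Fin.init w.1, by
      refine ⟨?_, fun i j => w.2.2.1 _ _, fun i => w.2.2.2 _⟩
      have := w.2.1.comp (Fin.castSucc : Fin s → Fin (s + 1)) (Fin.castSucc_injective s)
      exact this⟩
    have ih' := ih w'
    set u := w.1 (Fin.last s) with hu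
    set A := LinearMap.BilinForm.orthogonal (polarBilin Q) (Submodule.span F (Set.range w'.1))
      with hA
    set B := LinearMap.BilinForm.orthogonal (polarBilin Q) (Submodule.span F (Set.range w.1))
      with hB
    have hmemB : ∀ v, v ∈ B ↔ v ∈ A ∧ polar (⇑Q) u v = 0 := by
      intro v
      rw [hA, hB, mem_perp_iff, mem_perp_iff]
      constructor
      · intro h
        exact ⟨fun i => h i.castSucc, h (Fin.last s)⟩
      · rintro ⟨h1, h2⟩ i
        refine Fin.lastCases ?_ (fun i => ?_) i
        · exact h2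
        · exact h1 i
    have hBA : B ≤ A := fun v hv => ((hmemB v).mp hv).1
    have huA : u ∈ A := by
      rw [hA, mem_perp_iff]
      intro i
      exact w.2.2.1 _ _
    have hAd : finrank F ↥A = finrank F V - s := finrank_perp Q hQ w'.1 w'.2.1
    have hBd : finrank F ↥B = finrank F V - (s + 1) := finrank_perp Q hQ w.1 w.2.1
    have hWB : Submodule.span F (Set.range w.1) ≤ B := by
      rw [Submodule.span_le]
      rintro _ ⟨j, rfl⟩
      rw [SetLike.mem_coe, hB, mem_perp_iff]
      intro i
      exact w.2.2.1 i j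
    have hWd : finrank F ↥(Submodule.span F (Set.range w.1)) = s + 1 := by
      rw [finrank_span_eq_card w.2.1, Fintype.card_fin]
    have hle : s + 1 ≤ finrank F V - (s + 1) := by
      have := Submodule.finrank_mono hWB
      rw [hWd, hBd] at this
      exact this
    -- the shift count
    have hM := card_shift_zero Q A u huA (w.2.2.2 _)
    have hdiff : Nat.card {v : V // v ∈ A ∧ polar (⇑Q) u v ≠ 0} =
        Fintype.card F ^ (finrank F V - s) - Fintype.card F ^ (finrank F V - (s + 1)) := by
      rw [← hAd, ← hBd, ← Cfsg.Agent.Lib.H13.FrameCount.card_sdiff_submodule A B hBA]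
      apply Nat.card_congr
      apply Equiv.subtypeEquivRight
      intro v
      rw [hmemB]
      constructor
      · rintro ⟨h1, h2⟩
        exact ⟨h1, fun h => h2 h.2⟩
      · rintro ⟨h1, h2⟩
        exact ⟨h1, fun h => h2 ⟨h1, h⟩⟩
    obtain ⟨k, hk⟩ : ∃ k, finrank F V - (s + 1) = k + 1 := ⟨finrank F V - (s + 1) - 1, by omega⟩
    have hk' : finrank F V - s = k + 2 := by omega
    have hM' : Nat.card {v : V // v ∈ A ∧ polar (⇑Q) u v ≠ 0 ∧ Q v = 0} =
        Fintype.card F ^ (k + 1) - Fintype.card F ^ k := by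
      apply Nat.eq_of_mul_eq_mul_right hq
      rw [hM, hdiff, hk, hk', Nat.sub_mul, ← pow_succ, ← pow_succ]
    -- split the singular vectors of `A`
    have hsplit : Nat.card {v : V // (∀ i, polar (⇑Q) (w'.1 i) v = 0) ∧ Q v = 0} =
        Nat.card {v : V // (∀ i, polar (⇑Q) (w.1 i) v = 0) ∧ Q v = 0} +
        Nat.card {v : V // v ∈ A ∧ polar (⇑Q) u v ≠ 0 ∧ Q v = 0} := by
      have e0 : Nat.card {v : V // (∀ i, polar (⇑Q) (w'.1 i) v = 0) ∧ Q v = 0} =
          Nat.card {v : V // v ∈ A ∧ Q v = 0} := by
        apply Nat.card_congr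
        apply Equiv.subtypeEquivRight
        intro v
        rw [hA, mem_perp_iff]
      have e1 : Nat.card {v : V // (∀ i, polar (⇑Q) (w.1 i) v = 0) ∧ Q v = 0} =
          Nat.card {v : V // (v ∈ A ∧ Q v = 0) ∧ polar (⇑Q) u v = 0} := by
        apply Nat.card_congr
        apply Equiv.subtypeEquivRight
        intro v
        rw [← mem_perp_iff, ← hB, hmemB]
        tauto
      have e2 : Nat.card {v : V // v ∈ A ∧ polar (⇑Q) u v ≠ 0 ∧ Q v = 0} =
          Nat.card {v : V // (v ∈ A ∧ Q v = 0) ∧ ¬ polar (⇑Q) u v = 0} := by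
        apply Nat.card_congr
        apply Equiv.subtypeEquivRight
        intro v
        tauto
      rw [e0, e1, e2, card_and_not']
      have : Nat.card {v : V // (v ∈ A ∧ Q v = 0) ∧ polar (⇑Q) u v = 0} ≤
          Nat.card {v : V // v ∈ A ∧ Q v = 0} :=
        Nat.card_le_card_of_injective (fun v => ⟨v.1, v.2.1⟩)
          (fun a b h => Subtype.ext (by
            have := congrArg Subtype.val h
            exact this))
      omega
    rw [hsplit, hM'] at ih'
    have hk2 : finrank F V - s - 1 = k + 1 := by omega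
    have hk3 : finrank F V - (s + 1) - 1 = k := by omega
    rw [hk2] at ih'
    rw [hk3]
    have hpow : Fintype.card F ^ k ≤ Fintype.card F ^ (k + 1) :=
      Nat.pow_le_pow_right hq (by omega)
    omega

/-- the number of extensions of a singular frame -/
theorem card_ext_zero (hQ : (polarBilin Q).Nondegenerate) (s : ℕ)
    (w : {w : Fin s → V // SFr Q w}) :
    Nat.card {v : V // (∀ i, polar (⇑Q) (w.1 i) v = 0) ∧ Q v = 0 ∧
      v ∉ Submodule.span F (Set.range w.1)} =
      Zc Q + Fintype.card F ^ (finrank F V - s - 1) -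
        Fintype.card F ^ (finrank F V - 1) - Fintype.card F ^ s := by
  classical
  haveI : Finite V := Module.finite_of_finite F
  haveI : Fintype V := Fintype.ofFinite V
  have h1 := card_sing_perp Q hQ s w
  set W := Submodule.span F (Set.range w.1) with hW
  have hWd : finrank F ↥W = s := by
    rw [hW, finrank_span_eq_card w.2.1, Fintype.card_fin]
  have e1 : Nat.card {v : V // (∀ i, polar (⇑Q) (w.1 i) v = 0) ∧ Q v = 0 ∧ v ∉ W} =
      Nat.card {v : V // ((∀ i, polar (⇑Q) (w.1 i) v = 0) ∧ Q v = 0) ∧ ¬ v ∈ W} := by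
    apply Nat.card_congr
    apply Equiv.subtypeEquivRight
    intro v
    rw [and_assoc]
  have e2 : Nat.card {v : V // ((∀ i, polar (⇑Q) (w.1 i) v = 0) ∧ Q v = 0) ∧ v ∈ W} =
      Nat.card ↥W := by
    apply Nat.card_congr
    refine ⟨fun v => ⟨v.1, v.2.2⟩, fun v => ⟨v.1, ⟨?_, Q_span_sfr Q w.1 w.2 v.1 v.2⟩, v.2⟩,
      fun _ => rfl, fun _ => rfl⟩
    intro i
    exact polar_span_sfr_right Q w.1 w.2 i v.1 v.2
  rw [e1, card_and_not', e2, Nat.card_eq_fintype_card (α := ↥W),
    card_eq_pow_finrank (K := F) (V := ↥W), hWd]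
  omega

/-- the number of singular frames -/
theorem card_sfr (hQ : (polarBilin Q).Nondegenerate) (s : ℕ) :
    Nat.card {w : Fin s → V // SFr Q w} =
      ∏ i ∈ Finset.range s, (Zc Q +
        Fintype.card F ^ (finrank F V - i - 1) - Fintype.card F ^ (finrank F V - 1) -
        Fintype.card F ^ i) := by
  induction s with
  | zero =>
    rw [Finset.range_zero, Finset.prod_empty]
    haveI : Unique {w : Fin 0 → V // SFr Q w} :=
      { default := ⟨fun i => i.elim0, linearIndependent_empty_type, fun i => i.elim0,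
          fun i => i.elim0⟩
        uniq := fun e => Subtype.ext (funext fun i => i.elim0) }
    exact Nat.card_unique
  | succ s ih =>
    rw [card_sfr_succ Q s _ (card_ext_zero Q hQ s), ih, Finset.prod_range_succ]

/-- totally singular subspaces of dimension `m` -/
abbrev TsSub (m : ℕ) : Type _ :=
  {W : Submodule F V // finrank F W = m ∧ ∀ w ∈ W, Q w = 0}

/-- the span map -/
noncomputable def spanTS (m : ℕ) (s : {w : Fin m → V // SFr Q w}) : TsSub Q m :=
  ⟨Submodule.span F (Set.range s.1), by
    rw [finrank_span_eq_card s.2.1, Fintype.card_fin], Q_span_sfr Q s.1 s.2⟩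

theorem polar_zero_of_ts (W : Submodule F V) (hW : ∀ w ∈ W, Q w = 0) {u v : V} (hu : u ∈ W)
    (hv : v ∈ W) : polar (⇑Q) u v = 0 := by
  unfold polar
  rw [hW _ (W.add_mem hu hv), hW u hu, hW v hv]
  simp

/-- the fibre of the span map over `W` is the set of bases of `W` -/
noncomputable def tsSpanFibreEquiv (m : ℕ) (W : TsSub Q m) :
    {s : {w : Fin m → V // SFr Q w} // spanTS Q m s = W} ≃
      {t : Fin m → ↥W.1 // LinearIndependent F t} where
  toFun s := ⟨fun i => ⟨s.1.1 i, by
      have h : Submodule.span F (Set.range s.1.1) = W.1 := congrArg Subtype.val s.2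
      rw [← h]
      exact Submodule.subset_span (Set.mem_range_self i)⟩, by
    apply LinearIndependent.of_comp W.1.subtype
    exact s.1.2.1⟩
  invFun t := ⟨⟨fun i => (t.1 i : V), t.2.map' W.1.subtype (Submodule.ker_subtype _),
      fun i j => polar_zero_of_ts Q W.1 W.2.2 (t.1 i).2 (t.1 j).2,
      fun i => W.2.2 _ (t.1 i).2⟩, by
    apply Subtype.ext
    show Submodule.span F (Set.range fun i => (t.1 i : V)) = W.1
    have h1 : Submodule.span F (Set.range t.1) = ⊤ := by
      apply t.2.span_eq_top_of_card_eq_finrank'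
      rw [Fintype.card_fin, W.2.1]
    have h2 : (Set.range fun i => (t.1 i : V)) = W.1.subtype '' (Set.range t.1) := by
      rw [← Set.range_comp]
      rfl
    rw [h2, Submodule.span_image, h1, Submodule.map_top, Submodule.range_subtype]⟩
  left_inv s := by
    apply Subtype.ext
    apply Subtype.ext
    rfl
  right_inv t := by
    apply Subtype.ext
    rfl

theorem card_tssub_mul (m : ℕ) :
    Nat.card (TsSub Q m) * ∏ i : Fin m, (Fintype.card F ^ m - Fintype.card F ^ i.val) =
      Nat.card {w : Fin m → V // SFr Q w} := by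
  classical
  haveI : Finite V := finite_of_field F V
  haveI : Finite (Submodule F V) := finite_submodule
  haveI : Fintype (TsSub Q m) := Fintype.ofFinite _
  rw [Nat.card_congr (Equiv.sigmaFiberEquiv (spanTS Q m)).symm, Nat.card_sigma]
  have h : ∀ W : TsSub Q m, Nat.card {s : {w : Fin m → V // SFr Q w} // spanTS Q m s = W} =
      ∏ i : Fin m, (Fintype.card F ^ m - Fintype.card F ^ i.val) := by
    intro W
    rw [Nat.card_congr (tsSpanFibreEquiv Q m W)]
    haveI : Finite ↥W.1 := Finite.of_injective _ Subtype.val_injective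
    have := card_linearIndependent (K := F) (V := ↥W.1) (k := m) (by rw [W.2.1])
    rw [this, W.2.1]
  rw [Finset.sum_congr rfl (fun W _ => h W), Finset.sum_const, Finset.card_univ, smul_eq_mul,
    Nat.card_eq_fintype_card]

end count

end Cfsg.Agent.Lib.H24.Oq
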