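import Mathlib
import Cfsg.Agent.Lib.H24.OqCount
import Cfsg.Agent.Lib.H10.OrtNdC
import Cfsg.Agent.Lib.H13.StdForm
import Cfsg.Agent.S0289
import Cfsg.Agent.S0290
import Cfsg.Agent.S2616
import Cfsg.Agent.S0760
import Cfsg.Agent.Lib.H24.ElusTiTwo

set_option autoImplicit false

/-!
# Types of even-dimensional quadratic spaces over finite fields via the number of singular vectors
(helper24, all characteristics)

`IsSg Q k e` (`e = 0`: plus type, `e = 1`: minus type): `dim V = 2 k` and
`q * Z = q^(2k) + (-1)^e (q^(k+1) - q^k)` where `Z` is the number of singular vectors.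

* `exists_isSg`: every nondegenerate space of dimension `2 k` has a type;
* `exists_ts_of_isSg`, `ts_le_of_isSg`, `ts_extend`: the Witt index is `k - e`.
-/

namespace Cfsg.Agent.Lib.H24.Oq

open Module QuadraticMap
open Cfsg.Agent.Lib.H24.Elus Cfsg.Agent.Lib.H10.OrtNd

section sg

variable {F V : Type*} [Field F] [Fintype F] [AddCommGroup V] [Module F V]
  [FiniteDimensional F V] (Q : QuadraticForm F V)

/-- the type of an even-dimensional quadratic space, via the number of singular vectors -/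
def IsSg (k e : ℕ) : Prop :=
  finrank F V = 2 * k ∧
    ((e = 0 ∧ Fintype.card F * Zc Q + Fintype.card F ^ k =
        Fintype.card F ^ (2 * k) + Fintype.card F ^ (k + 1)) ∨
     (e = 1 ∧ Fintype.card F * Zc Q + Fintype.card F ^ (k + 1) =
        Fintype.card F ^ (2 * k) + Fintype.card F ^ k))

theorem IsSg.le_one {k e : ℕ} (h : IsSg Q k e) : e ≤ 1 := by
  rcases h.2 with h | h <;> omega

theorem Zc_pos : 0 < Zc Q := by
  haveI : Finite V := Module.finite_of_finite F
  unfold Zc
  exact Nat.card_pos_iff.mpr ⟨⟨⟨0, map_zero Q⟩⟩, inferInstance⟩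

/-- the minus type does not occur in dimension zero -/
theorem IsSg.e_le {k e : ℕ} (h : IsSg Q k e) : e ≤ k := by
  rcases h.2 with ⟨rfl, _⟩ | ⟨rfl, hZ⟩
  · omega
  · by_contra hk
    have hk0 : k = 0 := by omega
    subst hk0
    simp only [pow_zero, mul_zero, zero_add, pow_one] at hZ
    have hq : 2 ≤ Fintype.card F := Fintype.one_lt_card
    have := Nat.le_mul_of_pos_right (Fintype.card F) (Zc_pos Q)
    omega

theorem Zc_congr {V' : Type*} [AddCommGroup V'] [Module F V'] (φ : V ≃ₗ[F] V')
    (Q' : V' → F) (h : ∀ v, Q v = Q' (φ v)) :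
    Zc Q = Nat.card {c : V' // Q' c = 0} := by
  unfold Zc
  apply Nat.card_congr
  exact φ.toEquiv.subtypeEquiv (fun v => by rw [h v]; rfl)

theorem hab_of_irred (ζ : F) (hζ : ∀ t : F, t ^ 2 + t + ζ ≠ 0) :
    ∀ z₁ z₂ : F, z₁ ^ 2 + 1 * z₁ * z₂ + ζ * z₂ ^ 2 = 0 → z₁ = 0 ∧ z₂ = 0 := by
  intro z₁ z₂ h
  by_cases h2 : z₂ = 0
  · subst h2
    refine ⟨?_, rfl⟩
    have : z₁ ^ 2 = 0 := by linear_combination h
    exact pow_eq_zero_iff (by norm_num) |>.mp this
  · exfalso
    apply hζ (z₁ / z₂)
    field_simp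
    linear_combination h

/-- every nondegenerate even-dimensional quadratic space over a finite field has a type -/
theorem exists_isSg (hQ : (polarBilin Q).Nondegenerate) (k : ℕ) (hV : finrank F V = 2 * k) :
    ∃ e, IsSg Q k e := by
  have hq : 2 ≤ Fintype.card F := Fintype.one_lt_card
  rcases Nat.eq_zero_or_pos k with hk | hk
  · subst hk
    refine ⟨0, hV, Or.inl ⟨rfl, ?_⟩⟩
    have hsub : Subsingleton V := by
      rw [← Module.finrank_zero_iff (R := F)]
      omega
    have hZ : Zc Q = 1 := by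
      unfold Zc
      haveI : Unique {v : V // Q v = 0} :=
        { default := ⟨0, map_zero Q⟩
          uniq := fun v => Subtype.ext (Subsingleton.elim _ _) }
      exact Nat.card_unique
    rw [hZ]
    ring
  · rcases Cfsg.Agent.S2616.result hk hV Q hQ with ⟨b, h1, h2, h3⟩ | ⟨b, ζ, hζ, h1, h2, h3, h4, h5, h6, h7⟩
    · refine ⟨0, hV, Or.inl ⟨rfl, ?_⟩⟩
      have hiso := Cfsg.Agent.Lib.H13.eq_quadFormPlus_of_std Q b h1 h2 h3
      rw [Zc_congr Q b.equivFun (Cfsg.quadFormPlus k F) hiso, Cfsg.Agent.S0289.result rfl k hk]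
      obtain ⟨j, rfl⟩ : ∃ j, k = j + 1 := ⟨k - 1, by omega⟩
      have e1 : 2 * (j + 1) - 1 = 2 * j + 1 := by omega
      have e2 : j + 1 - 1 = j := by omega
      rw [e1, e2]
      have hle : Fintype.card F ^ j ≤ Fintype.card F ^ (j + 1) :=
        Nat.pow_le_pow_right (by omega) (by omega)
      have hle2 : Fintype.card F ^ (j + 1) ≤ Fintype.card F ^ (j + 1 + 1) :=
        Nat.pow_le_pow_right (by omega) (by omega)
      rw [Nat.mul_sub, Nat.mul_add, ← pow_succ', ← pow_succ', ← pow_succ']
      have e3 : 2 * j + 1 + 1 = 2 * (j + 1) := by ring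
      rw [e3]
      omega
    · refine ⟨1, hV, Or.inr ⟨rfl, ?_⟩⟩
      have hiso := Cfsg.Agent.Lib.H13.eq_quadFormMinus_of_std Q b ζ h1 h2 h3 h4 h5 h6 h7
      rw [Zc_congr Q b.equivFun (Cfsg.quadFormMinus (k - 1) F 1 ζ) hiso,
        Cfsg.Agent.S0290.result rfl k hk 1 ζ (hab_of_irred ζ hζ)]
      obtain ⟨j, rfl⟩ : ∃ j, k = j + 1 := ⟨k - 1, by omega⟩
      have e1 : 2 * (j + 1) - 1 = 2 * j + 1 := by omega
      have e2 : j + 1 - 1 = j := by omega
      rw [e1, e2]
      have hle : Fintype.card F ^ (j + 1) ≤ Fintype.card F ^ (2 * j + 1) :=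
        Nat.pow_le_pow_right (by omega) (by omega)
      rw [Nat.mul_sub, Nat.mul_add, ← pow_succ', ← pow_succ', ← pow_succ']
      have e3 : 2 * j + 1 + 1 = 2 * (j + 1) := by ring
      rw [e3]
      have hle3 : Fintype.card F ^ (j + 1 + 1) ≤ Fintype.card F ^ (2 * (j + 1)) :=
        Nat.pow_le_pow_right (by omega) (by omega)
      omega

/-- a totally singular subspace gives a singular frame -/
theorem sfr_of_ts (W : Submodule F V) (hW : TS Q W) :
    Nonempty {w : Fin (finrank F W) → V // SFr Q w} := by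
  let b := Module.finBasis F W
  refine ⟨⟨fun i => (b i : V), ?_, ?_, ?_⟩⟩
  · exact b.linearIndependent.map' W.subtype (Submodule.ker_subtype W)
  · intro i j
    exact polar_zero_of_ts Q W hW (b i).2 (b j).2
  · intro i
    exact hW _ (b i).2

/-- a singular frame gives a totally singular subspace -/
theorem ts_of_sfr {s : ℕ} (w : Fin s → V) (hw : SFr Q w) :
    ∃ W : Submodule F V, TS Q W ∧ finrank F W = s :=
  ⟨Submodule.span F (Set.range w), Q_span_sfr Q w hw, by
    rw [finrank_span_eq_card hw.1, Fintype.card_fin]⟩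

theorem zc_plus {j : ℕ} (h : Fintype.card F * Zc Q + Fintype.card F ^ (j + 1) =
    Fintype.card F ^ (2 * (j + 1)) + Fintype.card F ^ (j + 1 + 1)) :
    Zc Q + Fintype.card F ^ j = Fintype.card F ^ (2 * j + 1) + Fintype.card F ^ (j + 1) := by
  have hq : 0 < Fintype.card F := Fintype.card_pos
  apply Nat.eq_of_mul_eq_mul_left hq
  have e3 : 2 * (j + 1) = 2 * j + 1 + 1 := by ring
  rw [Nat.mul_add, Nat.mul_add, ← pow_succ', ← pow_succ', ← pow_succ', ← e3]
  exact h

theorem zc_minus {j : ℕ} (h : Fintype.card F * Zc Q + Fintype.card F ^ (j + 1 + 1) =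
    Fintype.card F ^ (2 * (j + 1)) + Fintype.card F ^ (j + 1)) :
    Zc Q + Fintype.card F ^ (j + 1) = Fintype.card F ^ (2 * j + 1) + Fintype.card F ^ j := by
  have hq : 0 < Fintype.card F := Fintype.card_pos
  apply Nat.eq_of_mul_eq_mul_left hq
  have e3 : 2 * (j + 1) = 2 * j + 1 + 1 := by ring
  rw [Nat.mul_add, Nat.mul_add, ← pow_succ', ← pow_succ', ← pow_succ', ← e3]
  exact h

/-- singular frames of length `k - e` exist, longer ones do not -/
theorem sfr_count_of_isSg (hQ : (polarBilin Q).Nondegenerate) {k e : ℕ} (h : IsSg Q k e) :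
    0 < Nat.card {w : Fin (k - e) → V // SFr Q w} ∧
      Nat.card {w : Fin (k - e + 1) → V // SFr Q w} = 0 := by
  have hq : 2 ≤ Fintype.card F := Fintype.one_lt_card
  have hq0 : 0 < Fintype.card F := by omega
  obtain ⟨hV, hZ⟩ := h
  rw [card_sfr Q hQ, card_sfr Q hQ, hV]
  rcases Nat.eq_zero_or_pos k with hk | hk
  · subst hk
    rcases hZ with ⟨rfl, hZ⟩ | ⟨rfl, hZ⟩
    · refine ⟨by simp, ?_⟩
      have hZ1 : Zc Q = 1 := by
        have : Fintype.card F * Zc Q = Fintype.card F * 1 := by
          simp only [pow_zero, mul_zero, zero_add, pow_one] at hZ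
          omega
        exact Nat.eq_of_mul_eq_mul_left hq0 this
      simp [hZ1]
    · exfalso
      simp only [pow_zero, mul_zero, zero_add, pow_one] at hZ
      have hZpos : 0 < Zc Q := by
        haveI : Finite V := Module.finite_of_finite F
        unfold Zc
        exact Nat.card_pos_iff.mpr ⟨⟨⟨0, map_zero Q⟩⟩, inferInstance⟩
      have := Nat.le_mul_of_pos_right (Fintype.card F) hZpos
      omega
  · obtain ⟨j, rfl⟩ : ∃ j, k = j + 1 := ⟨k - 1, by omega⟩
    have hmono : ∀ a b : ℕ, a ≤ b → Fintype.card F ^ a ≤ Fintype.card F ^ b :=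
      fun a b hab => Nat.pow_le_pow_right hq0 hab
    have hstrict : ∀ a : ℕ, 2 * Fintype.card F ^ a ≤ Fintype.card F ^ (a + 1) := by
      intro a
      rw [pow_succ']
      exact Nat.mul_le_mul_right _ hq
    rcases hZ with ⟨rfl, hZ⟩ | ⟨rfl, hZ⟩
    · have hZ' := zc_plus Q hZ
      constructor
      · apply Finset.prod_pos
        intro i hi
        rw [Finset.mem_range] at hi
        have e1 : 2 * (j + 1) - i - 1 = 2 * j + 1 - i := by omega
        have e2 : 2 * (j + 1) - 1 = 2 * j + 1 := by omega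
        rw [e1, e2]
        have h1 := hmono i (2 * j + 1 - i) (by omega)
        have h2 := hstrict j
        have h3 : 0 < Fintype.card F ^ j := Nat.pow_pos hq0
        omega
      · apply Finset.prod_eq_zero (i := j + 1) (by rw [Finset.mem_range]; omega)
        have e1 : 2 * (j + 1) - (j + 1) - 1 = j := by omega
        have e2 : 2 * (j + 1) - 1 = 2 * j + 1 := by omega
        rw [e1, e2]
        omega
    · have hZ' := zc_minus Q hZ
      constructor
      · apply Finset.prod_pos
        intro i hi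
        rw [Finset.mem_range] at hi
        have e1 : 2 * (j + 1) - i - 1 = 2 * j + 1 - i := by omega
        have e2 : 2 * (j + 1) - 1 = 2 * j + 1 := by omega
        rw [e1, e2]
        have h1 := hmono (j + 1 + 1) (2 * j + 1 - i) (by omega)
        have h2 := hstrict (j + 1)
        have h4 := hstrict j
        have h3 := hmono i j (by omega)
        have h5 : 0 < Fintype.card F ^ j := Nat.pow_pos hq0
        omega
      · apply Finset.prod_eq_zero (i := j) (by rw [Finset.mem_range]; omega)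
        have e1 : 2 * (j + 1) - j - 1 = j + 1 := by omega
        have e2 : 2 * (j + 1) - 1 = 2 * j + 1 := by omega
        rw [e1, e2]
        omega

/-- a totally singular subspace of dimension `k - e` -/
theorem exists_ts_of_isSg (hQ : (polarBilin Q).Nondegenerate) {k e : ℕ} (h : IsSg Q k e) :
    ∃ W : Submodule F V, TS Q W ∧ finrank F W = k - e := by
  haveI : Finite V := Module.finite_of_finite F
  have h1 := (sfr_count_of_isSg Q hQ h).1
  obtain ⟨w⟩ := (Nat.card_pos_iff.mp h1).1
  exact ts_of_sfr Q w.1 w.2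

/-- totally singular subspaces have dimension at most `k - e` -/
theorem ts_le_of_isSg (hQ : (polarBilin Q).Nondegenerate) {k e : ℕ} (h : IsSg Q k e)
    (W : Submodule F V) (hW : TS Q W) : finrank F W ≤ k - e := by
  haveI : Finite V := Module.finite_of_finite F
  by_contra hcon
  push Not at hcon
  obtain ⟨W', hW'W, hW'd⟩ := exists_le_finrank_eq' W (k - e + 1) (by omega)
  obtain ⟨w⟩ := sfr_of_ts Q W' (fun v hv => hW v (hW'W hv))
  rw [hW'd] at w
  have h2 := (sfr_count_of_isSg Q hQ h).2
  rcases Nat.card_eq_zero.mp h2 with h3 | h3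
  · exact h3.false w
  · exact h3.false

/-- every totally singular subspace extends to one of dimension `k - e` -/
theorem ts_extend (hQ : (polarBilin Q).Nondegenerate) {k e : ℕ} (h : IsSg Q k e)
    (W : Submodule F V) (hW : TS Q W) :
    ∃ M : Submodule F V, W ≤ M ∧ TS Q M ∧ finrank F M = k - e := by
  classical
  -- a totally singular subspace of maximal dimension containing `W`
  have hex : ∃ N, N ≤ k - e ∧ ∃ M : Submodule F V, W ≤ M ∧ TS Q M ∧ finrank F M = N :=
    ⟨finrank F W, ts_le_of_isSg Q hQ h W hW, W, le_rfl, hW, rfl⟩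
  obtain ⟨M, hWM, hM, hMd⟩ := (Nat.findGreatest_spec (P := fun N => ∃ M : Submodule F V,
    W ≤ M ∧ TS Q M ∧ finrank F M = N) hex.choose_spec.1 hex.choose_spec.2)
  have hmax : ∀ M' : Submodule F V, M ≤ M' → TS Q M' → M' = M := by
    intro M' hMM' hM'
    have h1 : finrank F M' ≤ Nat.findGreatest (fun N => ∃ M : Submodule F V,
        W ≤ M ∧ TS Q M ∧ finrank F M = N) (k - e) :=
      Nat.le_findGreatest (ts_le_of_isSg Q hQ h M' hM') ⟨M', hWM.trans hMM', hM', rfl⟩
    rw [← hMd] at h1
    exact (Submodule.eq_of_le_of_finrank_le hMM' h1).symm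
  obtain ⟨M₀, hM₀, hM₀d⟩ := exists_ts_of_isSg Q hQ h
  have h2 := Cfsg.Agent.S0760.le_of_maximal Q hQ M M₀ hM hM₀ hmax
  refine ⟨M, hWM, hM, ?_⟩
  have h3 := ts_le_of_isSg Q hQ h M hM
  omega

end sg

end Cfsg.Agent.Lib.H24.Oq
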