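import Mathlib
import Cfsg.Agent.Lib.H24.OqType
import Cfsg.Agent.S0287
import Cfsg.Agent.S0288

set_option autoImplicit false

/-!
# The standard forms and the number of totally singular subspaces (helper24)

* `isSg_plus`, `isSg_minus`: the types of `quadFormPlus`, `quadFormMinus`;
* `card_tssub_mul_g`: `#{t.s. m-spaces} * ∏_{i<m} (q^(m-i) - 1) = ∏_{i<m} g(i)` with
  `g(i) = (q^(d-i) ∓ 1)(q^(d-i-1) ± 1)`;
* `count_consequence`: a prime dividing the number of totally singular `m`-spaces (`m < d`) is not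
  the characteristic and divides some `g(j)`, `j < m`.
-/

namespace Cfsg.Agent.Lib.H24.Oq

open Module QuadraticMap
open Cfsg.Agent.Lib.H24.Elus Cfsg.Agent.Lib.H10.OrtNd Cfsg.Agent.Lib.H13

section std

variable {F : Type*} [Field F] [Fintype F]

theorem isSg_plus (d : ℕ) (hd : 1 ≤ d) : IsSg (plusQF F d) d 0 := by
  have hq : 2 ≤ Fintype.card F := Fintype.one_lt_card
  refine ⟨by rw [Module.finrank_fintype_fun_eq_card, Fintype.card_sum, Fintype.card_fin]; ring,
    Or.inl ⟨rfl, ?_⟩⟩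
  have hZ : Zc (plusQF F d) = Nat.card {v : Fin d ⊕ Fin d → F // Cfsg.quadFormPlus d F v = 0} := by
    unfold Zc
    apply Nat.card_congr
    apply Equiv.subtypeEquivRight
    intro v
    rw [plusQF_apply]
  rw [hZ, Cfsg.Agent.S0289.result rfl d hd]
  obtain ⟨j, rfl⟩ : ∃ j, d = j + 1 := ⟨d - 1, by omega⟩
  have e1 : 2 * (j + 1) - 1 = 2 * j + 1 := by omega
  have e2 : j + 1 - 1 = j := by omega
  rw [e1, e2]
  have hle : Fintype.card F ^ j ≤ Fintype.card F ^ (j + 1) :=
    Nat.pow_le_pow_right (by omega) (by omega)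
  have hle2 : Fintype.card F ^ (j + 1) ≤ Fintype.card F ^ (j + 1 + 1) :=
    Nat.pow_le_pow_right (by omega) (by omega)
  rw [Nat.mul_sub, Nat.mul_add, ← pow_succ', ← pow_succ', ← pow_succ']
  have e3 : 2 * j + 1 + 1 = 2 * (j + 1) := by ring
  rw [e3]
  omega

theorem isSg_minus (d : ℕ) (hd : 1 ≤ d) (a b : F)
    (hab : ∀ z₁ z₂ : F, z₁ ^ 2 + a * z₁ * z₂ + b * z₂ ^ 2 = 0 → z₁ = 0 ∧ z₂ = 0) :
    IsSg (minusQF F (d - 1) a b) d 1 := by
  have hq : 2 ≤ Fintype.card F := Fintype.one_lt_card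
  refine ⟨by
    rw [Module.finrank_fintype_fun_eq_card, Fintype.card_sum, Fintype.card_sum, Fintype.card_fin,
      Fintype.card_fin]
    omega, Or.inr ⟨rfl, ?_⟩⟩
  have hZ : Zc (minusQF F (d - 1) a b) =
      Nat.card {v : (Fin (d - 1) ⊕ Fin (d - 1)) ⊕ Fin 2 → F //
        Cfsg.quadFormMinus (d - 1) F a b v = 0} := by
    unfold Zc
    apply Nat.card_congr
    apply Equiv.subtypeEquivRight
    intro v
    rw [minusQF_apply]
  rw [hZ, Cfsg.Agent.S0290.result rfl d hd a b hab]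
  obtain ⟨j, rfl⟩ : ∃ j, d = j + 1 := ⟨d - 1, by omega⟩
  have e1 : 2 * (j + 1) - 1 = 2 * j + 1 := by omega
  have e2 : j + 1 - 1 = j := by omega
  rw [e1, e2]
  have hle : Fintype.card F ^ (j + 1) ≤ Fintype.card F ^ (2 * j + 1) :=
    Nat.pow_le_pow_right (by omega) (by omega)
  rw [Nat.mul_sub, Nat.mul_add, ← pow_succ', ← pow_succ', ← pow_succ']
  have e3 : 2 * j + 1 + 1 = 2 * (j + 1) := by ring
  rw [e3]
  have hle3 : Fintype.card F ^ (j + 1 + 1) ≤ Fintype.card F ^ (2 * (j + 1)) :=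
    Nat.pow_le_pow_right (by omega) (by omega)
  omega

end std

section arith

/-- the factor `g(i)` of the count of totally singular subspaces -/
def gFac (q d e i : ℕ) : ℕ :=
  if e = 0 then (q ^ (d - i) - 1) * (q ^ (d - i - 1) + 1)
  else (q ^ (d - i) + 1) * (q ^ (d - i - 1) - 1)

theorem fac_plus_arith (q a i : ℕ) (hq : 1 ≤ q) :
    q ^ i * ((q ^ (a + 1) - 1) * (q ^ a + 1)) + q ^ (2 * i + 2 * a + 1) + q ^ i + q ^ (i + a) =
      q ^ (2 * i + 2 * a + 1) + q ^ (i + a + 1) + q ^ (i + 2 * a + 1) := by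
  obtain ⟨s, hs⟩ : ∃ s, q ^ (a + 1) = s + 1 := ⟨q ^ (a + 1) - 1, by
    have := Nat.one_le_pow (a + 1) q hq
    omega⟩
  rw [show q ^ (i + a + 1) = q ^ i * q ^ (a + 1) by ring,
    show q ^ (i + 2 * a + 1) = q ^ i * q ^ a * q ^ (a + 1) by ring,
    show q ^ (i + a) = q ^ i * q ^ a by ring, hs, Nat.add_sub_cancel]
  ring

theorem fac_minus_arith (q a i : ℕ) (hq : 1 ≤ q) :
    q ^ i * ((q ^ (a + 1) + 1) * (q ^ a - 1)) + q ^ (i + a + 1) + q ^ i =
      q ^ (i + a) + q ^ (i + 2 * a + 1) := by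
  obtain ⟨t, ht⟩ : ∃ t, q ^ a = t + 1 := ⟨q ^ a - 1, by
    have := Nat.one_le_pow a q hq
    omega⟩
  rw [show q ^ (i + a + 1) = q ^ i * (q * q ^ a) by ring,
    show q ^ (i + 2 * a + 1) = q ^ i * (q * q ^ a * q ^ a) by ring,
    show q ^ (i + a) = q ^ i * q ^ a by ring,
    show q ^ (a + 1) = q * q ^ a by ring, ht, Nat.add_sub_cancel]
  ring

end arith

section count

variable {F V : Type*} [Field F] [Fintype F] [AddCommGroup V] [Module F V]
  [FiniteDimensional F V] (Q : QuadraticForm F V)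

/-- the `i`-th factor of the frame count -/
theorem fac_eq_gFac {d e : ℕ} (h : IsSg Q d e) (i : ℕ) (hi : i < d) :
    Zc Q + Fintype.card F ^ (finrank F V - i - 1) - Fintype.card F ^ (finrank F V - 1) -
        Fintype.card F ^ i = Fintype.card F ^ i * gFac (Fintype.card F) d e i := by
  have hq : 2 ≤ Fintype.card F := Fintype.one_lt_card
  have hq0 : 0 < Fintype.card F := by omega
  obtain ⟨hV, hZ⟩ := h
  rw [hV]
  obtain ⟨a, rfl⟩ : ∃ a, d = i + a + 1 := ⟨d - i - 1, by omega⟩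
  have e1 : 2 * (i + a + 1) - i - 1 = i + 2 * a + 1 := by omega
  have e2 : 2 * (i + a + 1) - 1 = 2 * i + 2 * a + 1 := by omega
  have e3 : i + a + 1 - i = a + 1 := by omega
  have e4 : a + 1 - 1 = a := by omega
  rw [e1, e2]
  unfold gFac
  rw [e3, e4]
  have hmono : ∀ x y : ℕ, x ≤ y → Fintype.card F ^ x ≤ Fintype.card F ^ y :=
    fun x y hxy => Nat.pow_le_pow_right hq0 hxy
  rcases hZ with ⟨rfl, hZ⟩ | ⟨rfl, hZ⟩
  · rw [if_pos rfl]
    have hZ' := zc_plus Q (j := i + a) hZ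
    have h1 := fac_plus_arith (Fintype.card F) a i (by omega)
    have e5 : 2 * (i + a) + 1 = 2 * i + 2 * a + 1 := by ring
    rw [e5] at hZ'
    have h2 := hmono (i + a) (i + a + 1) (by omega)
    omega
  · rw [if_neg (by omega)]
    have hZ' := zc_minus Q (j := i + a) hZ
    have h1 := fac_minus_arith (Fintype.card F) a i (by omega)
    have e5 : 2 * (i + a) + 1 = 2 * i + 2 * a + 1 := by ring
    rw [e5] at hZ'
    omega

/-- the number of totally singular `m`-spaces -/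
theorem card_tssub_mul_g (hQ : (polarBilin Q).Nondegenerate) {d e : ℕ} (h : IsSg Q d e) (m : ℕ)
    (hm : m ≤ d) :
    Nat.card (TsSub Q m) * ∏ i : Fin m, (Fintype.card F ^ (m - i.val) - 1) =
      ∏ i : Fin m, gFac (Fintype.card F) d e i.val := by
  have hq : 2 ≤ Fintype.card F := Fintype.one_lt_card
  have h1 := card_tssub_mul Q m
  rw [card_sfr Q hQ m, ← Fin.prod_univ_eq_prod_range (fun i => Zc Q +
    Fintype.card F ^ (finrank F V - i - 1) - Fintype.card F ^ (finrank F V - 1) -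
      Fintype.card F ^ i) m] at h1
  have hL : ∏ i : Fin m, (Fintype.card F ^ m - Fintype.card F ^ i.val) =
      (∏ i : Fin m, Fintype.card F ^ i.val) *
        ∏ i : Fin m, (Fintype.card F ^ (m - i.val) - 1) := by
    rw [← Finset.prod_mul_distrib]
    apply Finset.prod_congr rfl
    intro i _
    rw [Nat.mul_sub, mul_one, ← pow_add, Nat.add_sub_cancel' i.2.le]
  have hR : ∏ i : Fin m, (Zc Q + Fintype.card F ^ (finrank F V - i.val - 1) -
      Fintype.card F ^ (finrank F V - 1) - Fintype.card F ^ i.val) =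
      (∏ i : Fin m, Fintype.card F ^ i.val) *
        ∏ i : Fin m, gFac (Fintype.card F) d e i.val := by
    rw [← Finset.prod_mul_distrib]
    apply Finset.prod_congr rfl
    intro i _
    exact fac_eq_gFac Q h i.val (lt_of_lt_of_le i.2 hm)
  rw [hL, hR] at h1
  have hP : 0 < ∏ i : Fin m, Fintype.card F ^ i.val :=
    Finset.prod_pos (fun i _ => pos_of_ne_zero (pow_ne_zero _ (by omega)))
  apply Nat.eq_of_mul_eq_mul_left hP
  rw [← h1]
  ring

end count

section ord

theorem not_dvd_gFac_of_dvd {t q : ℕ} (ht : t.Prime) (hq0 : 0 < q) (htq : t ∣ q) (d e i : ℕ)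
    (hi : i + 2 ≤ d) : ¬ t ∣ gFac q d e i := by
  intro h
  have h1 : ∀ x : ℕ, 1 ≤ x → t ∣ q ^ x := fun x hx => htq.trans (dvd_pow_self q (by omega))
  have hone : ¬ t ∣ 1 := fun h => ht.one_lt.ne' (Nat.dvd_one.mp h)
  have hsub : ∀ x : ℕ, 1 ≤ x → ¬ t ∣ q ^ x - 1 := by
    intro x hx h2
    have h3 : q ^ x = (q ^ x - 1) + 1 := by
      have := Nat.one_le_pow x q hq0
      omega
    have h4 := h1 x hx
    rw [h3] at h4
    exact hone ((Nat.dvd_add_right h2).mp h4)
  have hadd : ∀ x : ℕ, 1 ≤ x → ¬ t ∣ q ^ x + 1 := by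
    intro x hx h2
    exact hone ((Nat.dvd_add_right (h1 x hx)).mp h2)
  unfold gFac at h
  split_ifs at h
  · rcases (Nat.Prime.dvd_mul ht).mp h with h2 | h2
    · exact hsub (d - i) (by omega) h2
    · exact hadd (d - i - 1) (by omega) h2
  · rcases (Nat.Prime.dvd_mul ht).mp h with h2 | h2
    · exact hadd (d - i) (by omega) h2
    · exact hsub (d - i - 1) (by omega) h2

variable {q r : ℕ} [Fact r.Prime]

theorem orderOf_dvd_of_dvd_pow_sub_one (hq0 : 0 < q) (x : ℕ) (h : r ∣ q ^ x - 1) :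
    orderOf (q : ZMod r) ∣ x := by
  have h1 : 1 ≤ q ^ x := Nat.one_le_pow x q hq0
  rw [← ZMod.natCast_eq_zero_iff, Nat.cast_sub h1, Nat.cast_pow, Nat.cast_one, sub_eq_zero] at h
  exact orderOf_dvd_iff_pow_eq_one.mpr h

theorem orderOf_of_dvd_pow_add_one (hr2 : r ≠ 2) (x : ℕ) (h : r ∣ q ^ x + 1) :
    orderOf (q : ZMod r) ∣ 2 * x ∧ ¬ orderOf (q : ZMod r) ∣ x := by
  have hr : r.Prime := Fact.out
  rw [← ZMod.natCast_eq_zero_iff, Nat.cast_add, Nat.cast_pow, Nat.cast_one] at h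
  have h1 : (q : ZMod r) ^ x = -1 := eq_neg_of_add_eq_zero_left h
  constructor
  · rw [orderOf_dvd_iff_pow_eq_one, mul_comm, pow_mul, h1]
    norm_num
  · intro h2
    rw [orderOf_dvd_iff_pow_eq_one, h1] at h2
    have h3 : ((2 : ℕ) : ZMod r) = 0 := by
      have : (1 : ZMod r) + 1 = 0 := by
        nth_rewrite 1 [← h2]
        exact neg_add_cancel 1
      rw [Nat.cast_ofNat, ← one_add_one_eq_two]
      exact this
    rw [ZMod.natCast_eq_zero_iff] at h3
    exact hr2 ((Nat.prime_dvd_prime_iff_eq hr Nat.prime_two).mp h3)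

/-- the arithmetic hypothesis extracted from `r ∣ #{totally singular m-spaces}` -/
def CHyp (i d e m : ℕ) : Prop :=
  ∃ j, j < m ∧ (i ∣ d - e - j ∨ (i ∣ 2 * (d - (1 - e) - j) ∧ ¬ i ∣ d - (1 - e) - j))

theorem chyp_of_dvd_gFac (hq0 : 0 < q) (hr2 : r ≠ 2) (d e m j : ℕ) (he : e ≤ 1) (hj : j < m)
    (h : r ∣ gFac q d e j) : CHyp (orderOf (q : ZMod r)) d e m := by
  have hr : r.Prime := Fact.out
  refine ⟨j, hj, ?_⟩
  unfold gFac at h
  rcases Nat.eq_zero_or_pos e with h0 | h0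
  · subst h0
    rw [if_pos rfl] at h
    rcases (Nat.Prime.dvd_mul hr).mp h with h2 | h2
    · left
      exact orderOf_dvd_of_dvd_pow_sub_one hq0 _ h2
    · right
      have e1 : d - (1 - 0) - j = d - j - 1 := by omega
      rw [e1]
      exact orderOf_of_dvd_pow_add_one hr2 _ h2
  · have h1 : e = 1 := by omega
    subst h1
    rw [if_neg (by omega)] at h
    rcases (Nat.Prime.dvd_mul hr).mp h with h2 | h2
    · right
      have e1 : d - (1 - 1) - j = d - j := by omega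
      rw [e1]
      exact orderOf_of_dvd_pow_add_one hr2 _ h2
    · left
      have e1 : d - 1 - j = d - j - 1 := by omega
      rw [e1]
      exact orderOf_dvd_of_dvd_pow_sub_one hq0 _ h2

end ord

section consequence

variable {F V : Type*} [Field F] [Fintype F] [AddCommGroup V] [Module F V]
  [FiniteDimensional F V] (Q : QuadraticForm F V) {p : ℕ} [Fact p.Prime] [CharP F p]

/-- a prime dividing the number of totally singular `m`-spaces, `m < d` -/
theorem count_consequence (hQ : (polarBilin Q).Nondegenerate) {d e : ℕ} (h : IsSg Q d e) (m : ℕ)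
    (hm : m + 1 ≤ d) (r : ℕ) [Fact r.Prime] (hr : r ∣ Nat.card (TsSub Q m)) :
    r ≠ p ∧ ∃ j, j < m ∧ r ∣ gFac (Fintype.card F) d e j := by
  have hrp : r.Prime := Fact.out
  have hpp : p.Prime := Fact.out
  have hq0 : 0 < Fintype.card F := Fintype.card_pos
  have key := card_tssub_mul_g Q hQ h m (by omega)
  have h3 : r ∣ ∏ i : Fin m, gFac (Fintype.card F) d e i.val := by
    rw [← key]
    exact Dvd.dvd.mul_right hr _
  obtain ⟨j, -, hj⟩ := (Prime.dvd_finsetProd_iff (Nat.Prime.prime hrp) _).mp h3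
  refine ⟨?_, j.val, j.2, hj⟩
  rintro rfl
  obtain ⟨n, -, hn⟩ := FiniteField.card F r
  have hrq : r ∣ Fintype.card F := by
    rw [hn]
    exact dvd_pow_self r n.pos.ne'
  have := j.2
  exact not_dvd_gFac_of_dvd hrp hq0 hrq d e j.val (by omega) hj

end consequence

end Cfsg.Agent.Lib.H24.Oq
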