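import Mathlib
import Cfsg.Agent.Lib.H11.UnitaryFrames
import Cfsg.Agent.Lib.H24.ElusSpIso

set_option autoImplicit false

/-!
# Reflexive sesquilinear forms on subspaces (helper24)

The hermitian analogue of `ElusSpForm`: for a sesquilinear form `B : V →ₛₗ[φ] V →ₗ[F] F` which is
reflexive (`B u v = 0 → B v u = 0`),
* `UND B U`: the restriction of `B` to `U` is nondegenerate; `UTI B W`: `W` is totally isotropic;
* orthogonal complements inside a subspace, orthogonal sums;
* `UPeelClass`: an abstract class of nondegenerate subspaces with atoms of dimension `c₀`.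
The orthogonal complement is `Cfsg.Agent.Lib.H11.UFrames.orth`.
-/

namespace Cfsg.Agent.Lib.H24.Uti

open Module
open Cfsg.Agent.Lib.H11.UFrames (orth mem_orth mem_orth_span)

section form

variable {F : Type*} [Field F] {φ : F →+* F} {V : Type*} [AddCommGroup V] [Module F V]

/-- the restriction of `B` to `U` is nondegenerate -/
def UND (B : V →ₛₗ[φ] V →ₗ[F] F) (U : Submodule F V) : Prop :=
  ∀ u ∈ U, (∀ v ∈ U, B u v = 0) → u = 0

/-- `W` is totally isotropic -/
def UTI (B : V →ₛₗ[φ] V →ₗ[F] F) (W : Submodule F V) : Prop :=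
  ∀ u ∈ W, ∀ v ∈ W, B u v = 0

variable (B : V →ₛₗ[φ] V →ₗ[F] F)

theorem UND_bot : UND B ⊥ := by
  intro u hu _
  exact (Submodule.mem_bot F).mp hu

theorem UTI_bot : UTI B ⊥ := by
  intro u hu v _
  rw [(Submodule.mem_bot F).mp hu, map_zero, LinearMap.zero_apply]

theorem UTI_mono {W W' : Submodule F V} (h : W ≤ W') (hW' : UTI B W') : UTI B W :=
  fun u hu v hv => hW' u (h hu) v (h hv)

theorem u_orth_sup (A A' : Submodule F V) (v : V) (h : ∀ u ∈ A, B u v = 0)
    (h' : ∀ u ∈ A', B u v = 0) : ∀ u ∈ A ⊔ A', B u v = 0 := by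
  intro u hu
  obtain ⟨a, ha, a', ha', rfl⟩ := Submodule.mem_sup.mp hu
  rw [map_add, LinearMap.add_apply, h a ha, h' a' ha', add_zero]

theorem u_inf_eq_bot_of_orth (hR : ∀ u v, B u v = 0 → B v u = 0) (A A' : Submodule F V)
    (hA : UND B A) (horth : ∀ u ∈ A, ∀ v ∈ A', B u v = 0) : A ⊓ A' = ⊥ := by
  rw [eq_bot_iff]
  intro x hx
  rw [Submodule.mem_inf] at hx
  rw [Submodule.mem_bot]
  apply hA x hx.1
  intro v hv
  exact hR _ _ (horth v hv x hx.2)

/-- the orthogonal sum of nondegenerate subspaces is nondegenerate -/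
theorem UND_sup (hR : ∀ u v, B u v = 0 → B v u = 0) (A A' : Submodule F V) (hA : UND B A)
    (hA' : UND B A') (horth : ∀ u ∈ A, ∀ v ∈ A', B u v = 0) : UND B (A ⊔ A') := by
  intro u hu h
  obtain ⟨a, ha, a', ha', rfl⟩ := Submodule.mem_sup.mp hu
  have h1 : a = 0 := by
    apply hA a ha
    intro v hv
    have := h v (Submodule.mem_sup_left hv)
    rw [map_add, LinearMap.add_apply, hR _ _ (horth v hv a' ha'), add_zero] at this
    exact this
  have h2 : a' = 0 := by
    apply hA' a' ha'
    intro v hv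
    have := h v (Submodule.mem_sup_right hv)
    rw [map_add, LinearMap.add_apply, horth a ha v hv, zero_add] at this
    exact this
  rw [h1, h2, add_zero]

/-- a nondegenerate subspace which is an orthogonal sum has nondegenerate summands -/
theorem UND_of_sup_orth (U A A' : Submodule F V) (hU : UND B U) (hAU : A ≤ U)
    (hsup : U ≤ A ⊔ A') (horth : ∀ u ∈ A, ∀ v ∈ A', B u v = 0) : UND B A := by
  intro u hu h
  apply hU u (hAU hu)
  intro v hv
  obtain ⟨a, ha, a', ha', rfl⟩ := Submodule.mem_sup.mp (hsup hv)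
  rw [map_add, h a ha, horth u hu a' ha', add_zero]

theorem u_disjoint_orth (hR : ∀ u v, B u v = 0 → B v u = 0) (D : Submodule F V)
    (hD : UND B D) : D ⊓ orth B D = ⊥ := by
  rw [eq_bot_iff]
  intro x hx
  rw [Submodule.mem_inf] at hx
  rw [Submodule.mem_bot]
  apply hD x hx.1
  intro v hv
  exact hR _ _ (hx.2 v hv)

section fd

variable [FiniteDimensional F V]

/-- the orthogonal complement has codimension at most the dimension -/
theorem finrank_le_add_orth (D : Submodule F V) :
    finrank F V ≤ finrank F D + finrank F (orth B D) := by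
  obtain ⟨k, hk⟩ : ∃ k, finrank F D = k := ⟨_, rfl⟩
  obtain ⟨b⟩ : Nonempty (Module.Basis (Fin k) F D) := ⟨Module.finBasisOfFinrankEq F D hk⟩
  obtain ⟨s, hs⟩ : ∃ s : Fin k → V, s = fun i => (b i : V) := ⟨_, rfl⟩
  have hspan : Submodule.span F (Set.range s) = D := by
    have h1 : Set.range s = D.subtype '' Set.range b := by
      rw [← Set.range_comp, hs]; rfl
    rw [h1, ← Submodule.map_span, b.span_eq, Submodule.map_subtype_top]
  obtain ⟨Ψ, hΨ⟩ : ∃ Ψ : V →ₗ[F] (Fin k → F), Ψ = LinearMap.pi (fun i => B (s i)) := ⟨_, rfl⟩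
  have hker : LinearMap.ker Ψ = orth B D := by
    ext v
    rw [LinearMap.mem_ker, ← hspan, mem_orth_span, hΨ]
    constructor
    · intro h i
      have := congrFun h i
      rwa [LinearMap.pi_apply] at this
    · intro h
      funext i
      rw [LinearMap.pi_apply]
      exact h i
  have h1 := LinearMap.finrank_range_add_finrank_ker Ψ
  have h2 : finrank F (LinearMap.range Ψ) ≤ k := by
    calc finrank F (LinearMap.range Ψ) ≤ finrank F (Fin k → F) := Submodule.finrank_le _
      _ = k := by simp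
  rw [hker] at h1
  rw [hk]
  omega

theorem u_sup_orth_eq_top (hR : ∀ u v, B u v = 0 → B v u = 0) (D : Submodule F V)
    (hD : UND B D) : D ⊔ orth B D = ⊤ := by
  apply Submodule.eq_top_of_finrank_eq
  have h := Submodule.finrank_sup_add_finrank_inf_eq D (orth B D)
  rw [u_disjoint_orth B hR D hD, finrank_bot, add_zero] at h
  have h1 := finrank_le_add_orth B D
  have h2 := Submodule.finrank_le (D ⊔ orth B D)
  omega

theorem u_sup_perp_in (hR : ∀ u v, B u v = 0 → B v u = 0) (U D : Submodule F V) (hD : UND B D)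
    (hDU : D ≤ U) : D ⊔ (U ⊓ orth B D) = U := by
  have h1 := u_sup_orth_eq_top B hR D hD
  have h2 := sup_inf_assoc_of_le (orth B D) hDU
  rw [h1, top_inf_eq, inf_comm] at h2
  exact h2.symm

theorem u_inf_perp_in (hR : ∀ u v, B u v = 0 → B v u = 0) (U D : Submodule F V)
    (hD : UND B D) : D ⊓ (U ⊓ orth B D) = ⊥ := by
  have h1 := u_disjoint_orth B hR D hD
  rw [eq_bot_iff, ← h1]
  exact inf_le_inf_left D inf_le_right

theorem u_finrank_perp_in (hR : ∀ u v, B u v = 0 → B v u = 0) (U D : Submodule F V)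
    (hD : UND B D) (hDU : D ≤ U) :
    finrank F D + finrank F ↥(U ⊓ orth B D) = finrank F U := by
  have h := Submodule.finrank_sup_add_finrank_inf_eq D (U ⊓ orth B D)
  rw [u_sup_perp_in B hR U D hD hDU, u_inf_perp_in B hR U D hD, finrank_bot, add_zero] at h
  exact h.symm

theorem UND_perp_in (hR : ∀ u v, B u v = 0 → B v u = 0) (U D : Submodule F V) (hU : UND B U)
    (hD : UND B D) (hDU : D ≤ U) : UND B (U ⊓ orth B D) := by
  apply UND_of_sup_orth B U (U ⊓ orth B D) D hU inf_le_left
  · rw [sup_comm, u_sup_perp_in B hR U D hD hDU]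
  · intro u hu v hv
    exact hR _ _ ((Submodule.mem_inf.mp hu).2 v hv)

/-- if no nonzero vector of `W` is orthogonal to `U`, then `W` imposes independent conditions
on `U` -/
theorem u_finrank_pair (hφ2 : ∀ x, φ (φ x) = x) (W U : Submodule F V)
    (hrad : ∀ w ∈ W, (∀ u ∈ U, B w u = 0) → w = 0) :
    finrank F W + finrank F ↥(U ⊓ orth B W) = finrank F U := by
  classical
  obtain ⟨k, hk⟩ : ∃ k, finrank F W = k := ⟨_, rfl⟩
  obtain ⟨b⟩ : Nonempty (Module.Basis (Fin k) F W) := ⟨Module.finBasisOfFinrankEq F W hk⟩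
  obtain ⟨s, hs⟩ : ∃ s : Fin k → V, s = fun i => (b i : V) := ⟨_, rfl⟩
  have hsW : ∀ i, s i ∈ W := fun i => by rw [hs]; exact (b i).2
  have hsLI : LinearIndependent F s := by
    rw [hs]; exact b.linearIndependent.map' W.subtype (Submodule.ker_subtype W)
  have hspan : Submodule.span F (Set.range s) = W := by
    have h1 : Set.range s = W.subtype '' Set.range b := by
      rw [← Set.range_comp, hs]; rfl
    rw [h1, ← Submodule.map_span, b.span_eq, Submodule.map_subtype_top]
  obtain ⟨Ψ, hΨ⟩ : ∃ Ψ : U →ₗ[F] (Fin k → F),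
      Ψ = (LinearMap.pi (fun i => B (s i))).domRestrict U := ⟨_, rfl⟩
  have hΨapp : ∀ (u : U) (i : Fin k), Ψ u i = B (s i) (u : V) := by
    intro u i
    rw [hΨ, LinearMap.domRestrict_apply, LinearMap.pi_apply]
  have hker : finrank F (LinearMap.ker Ψ) = finrank F ↥(U ⊓ orth B W) := by
    have : LinearMap.ker Ψ = Submodule.comap U.subtype (U ⊓ orth B W) := by
      ext u
      rw [LinearMap.mem_ker, Submodule.mem_comap, Submodule.mem_inf, ← hspan, mem_orth_span]
      constructor
      · intro h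
        refine ⟨u.2, fun i => ?_⟩
        have := congrFun h i
        rw [hΨapp] at this
        exact this
      · intro h
        funext i
        rw [hΨapp]
        exact h.2 i
    rw [this]
    exact (Submodule.comapSubtypeEquivOfLe (inf_le_left : U ⊓ orth B W ≤ U)).finrank_eq
  have hsurj : LinearMap.range Ψ = ⊤ := by
    by_contra hne
    obtain ⟨f, hf0, hf⟩ := Submodule.exists_dual_map_eq_bot_of_lt_top
      (lt_top_iff_ne_top.mpr hne) inferInstance
    have hfΨ : ∀ u : U, f (Ψ u) = 0 := by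
      intro u
      have : f (Ψ u) ∈ (LinearMap.range Ψ).map f :=
        Submodule.mem_map_of_mem (LinearMap.mem_range_self Ψ u)
      rw [hf] at this
      exact (Submodule.mem_bot F).mp this
    have hfx : ∀ x : Fin k → F, f x = ∑ i, f (Pi.single i 1) * x i := by
      intro x
      conv_lhs => rw [← Finset.univ_sum_single x]
      rw [map_sum]
      apply Finset.sum_congr rfl
      intro i _
      have : (Pi.single i (x i) : Fin k → F) = x i • Pi.single i 1 := by
        rw [← Pi.single_smul, smul_eq_mul, mul_one]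
      rw [this, map_smul, smul_eq_mul, mul_comm]
    have hw0 : ∑ i, φ (f (Pi.single i 1)) • s i = 0 := by
      apply hrad _ (Submodule.sum_mem _ (fun i _ => Submodule.smul_mem _ _ (hsW i)))
      intro u hu
      rw [map_sum, LinearMap.sum_apply]
      have := hfΨ ⟨u, hu⟩
      rw [hfx] at this
      rw [← this]
      apply Finset.sum_congr rfl
      intro i _
      rw [map_smulₛₗ, LinearMap.smul_apply, hφ2, hΨapp, smul_eq_mul]
    have hc := Fintype.linearIndependent_iff.mp hsLI _ hw0
    apply hf0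
    apply LinearMap.ext
    intro x
    rw [hfx, LinearMap.zero_apply]
    apply Finset.sum_eq_zero
    intro i _
    have h2 : f (Pi.single i 1) = 0 := by
      have := congrArg φ (hc i)
      rwa [hφ2, map_zero] at this
    rw [h2, zero_mul]
  have h1 := LinearMap.finrank_range_add_finrank_ker Ψ
  rw [hsurj, finrank_top, hker, Module.finrank_fintype_fun_eq_card, Fintype.card_fin] at h1
  rw [hk]
  omega

/-- a totally isotropic subspace of a nondegenerate subspace has at most half the dimension -/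
theorem UTI_finrank_le (hφ2 : ∀ x, φ (φ x) = x) (U W : Submodule F V)
    (hU : UND B U) (hWU : W ≤ U) (hW : UTI B W) : 2 * finrank F W ≤ finrank F U := by
  have h1 := u_finrank_pair B hφ2 W U (fun w hw h => hU w (hWU hw) h)
  have h2 : W ≤ U ⊓ orth B W := le_inf hWU (fun w hw v hv => hW v hv w hw)
  have h3 := Submodule.finrank_mono h2
  omega

/-- a perfect pairing between subspaces of equal dimension -/
theorem u_pairing_perfect (hφ2 : ∀ x, φ (φ x) = x) (hR : ∀ u v, B u v = 0 → B v u = 0)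
    (W W' : Submodule F V) (hdim : finrank F W = finrank F W')
    (hinj : ∀ w' ∈ W', (∀ w ∈ W, B w w' = 0) → w' = 0) :
    ∀ w ∈ W, (∀ w' ∈ W', B w w' = 0) → w = 0 := by
  have h1 := u_finrank_pair B hφ2 W' W (fun w' hw' h => hinj w' hw' (fun w hw => hR _ _ (h w hw)))
  have h2 : finrank F ↥(W ⊓ orth B W') = 0 := by omega
  intro w hw h
  have h3 : w ∈ W ⊓ orth B W' := Submodule.mem_inf.mpr ⟨hw, fun w' hw' => hR _ _ (h w' hw')⟩
  rw [Submodule.finrank_eq_zero.mp h2] at h3
  exact (Submodule.mem_bot F).mp h3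

/-- an abstract class of nondegenerate subspaces with atoms of dimension `c₀` -/
structure UPeelClass (Q : Submodule F V → Prop) (c₀ : ℕ) : Prop where
  pos : 0 < c₀
  bot : Q ⊥
  nd : ∀ U, Q U → UND B U
  perp : ∀ U A, Q U → Q A → A ≤ U → Q (U ⊓ orth B A)
  sup : ∀ A A', Q A → Q A' → (∀ u ∈ A, ∀ v ∈ A', B u v = 0) → Q (A ⊔ A')
  atom : ∀ U, Q U → U ≠ ⊥ → ∃ A, A ≤ U ∧ Q A ∧ finrank F A = c₀

variable {B}

theorem u_peel_dvd (hR : ∀ u v, B u v = 0 → B v u = 0) {Q : Submodule F V → Prop} {c₀ : ℕ}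
    (hQ : UPeelClass B Q c₀) : ∀ U, Q U → c₀ ∣ finrank F U := by
  intro U
  induction h : finrank F U using Nat.strong_induction_on generalizing U with
  | _ n ih =>
    intro hU
    by_cases hne : U = ⊥
    · rw [← h, hne, finrank_bot]
      exact dvd_zero _
    · obtain ⟨A, hAU, hA, hAc⟩ := hQ.atom U hU hne
      have h1 := u_finrank_perp_in B hR U A (hQ.nd A hA) hAU
      have h2 := ih (finrank F ↥(U ⊓ orth B A)) (by have := hQ.pos; omega)
        (U ⊓ orth B A) rfl (hQ.perp U A hU hA hAU)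
      rw [← h, ← h1, hAc]
      exact Dvd.dvd.add (dvd_refl _) h2

theorem u_peel_exists (hR : ∀ u v, B u v = 0 → B v u = 0) {Q : Submodule F V → Prop} {c₀ : ℕ}
    (hQ : UPeelClass B Q c₀) : ∀ (k : ℕ) (U : Submodule F V), Q U → k * c₀ ≤ finrank F U →
      ∃ A, A ≤ U ∧ Q A ∧ finrank F A = k * c₀ := by
  intro k
  induction k with
  | zero =>
    intro U _ _
    exact ⟨⊥, bot_le, hQ.bot, by rw [finrank_bot, zero_mul]⟩
  | succ k ih =>
    intro U hU hk
    have hpos := hQ.pos
    have hne : U ≠ ⊥ := by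
      rintro rfl
      rw [finrank_bot] at hk
      have : 0 < (k + 1) * c₀ := Nat.mul_pos (Nat.succ_pos k) hpos
      omega
    obtain ⟨A₀, hA₀U, hA₀, hA₀c⟩ := hQ.atom U hU hne
    have h1 := u_finrank_perp_in B hR U A₀ (hQ.nd A₀ hA₀) hA₀U
    have hk' : k * c₀ ≤ finrank F ↥(U ⊓ orth B A₀) := by
      have : (k + 1) * c₀ = k * c₀ + c₀ := by ring
      omega
    obtain ⟨A', hA'U, hA', hA'c⟩ := ih (U ⊓ orth B A₀) (hQ.perp U A₀ hU hA₀ hA₀U) hk'
    have horth : ∀ u ∈ A₀, ∀ v ∈ A', B u v = 0 := fun u hu v hv =>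
      (Submodule.mem_inf.mp (hA'U hv)).2 u hu
    refine ⟨A₀ ⊔ A', sup_le hA₀U (hA'U.trans inf_le_left), hQ.sup A₀ A' hA₀ hA' horth, ?_⟩
    have h2 := Submodule.finrank_sup_add_finrank_inf_eq A₀ A'
    rw [u_inf_eq_bot_of_orth B hR A₀ A' (hQ.nd A₀ hA₀) horth, finrank_bot, add_zero] at h2
    rw [h2, hA₀c, hA'c]
    ring

end fd

end form

end Cfsg.Agent.Lib.H24.Uti
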