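import Mathlib
import Cfsg.Agent.Lib.H24.UtiForm

set_option autoImplicit false

/-!
# Isometries of finite order of a hermitian form (helper24)

The hermitian analogue of `ElusSpIso`: for an isometry `y` with `y ^ r = 1` of a hermitian form
`B : V →ₛₗ[φ] V →ₗ[F] F` (`φ` an involution of `F`):
* the adjoint of a polynomial in `y` (`u_adj_aeval`, the coefficients are twisted by `φ`);
* invariance of orthogonal complements (`u_orth_invariant`);
* orthogonality of kernels of coprime polynomials (`u_ker_orth`);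
* the orthogonal splitting `U = (U ⊓ Fix) ⊥ (U ⊓ ker Φ_r(y))`.
-/

namespace Cfsg.Agent.Lib.H24.Uti

open Polynomial Module
open Cfsg.Agent.Lib.H11.UFrames (orth mem_orth)
open Cfsg.Agent.Lib.H24.Elus

section iso

variable {F : Type*} [Field F] {φ : F →+* F} {V : Type*} [AddCommGroup V] [Module F V]
variable (B : V →ₛₗ[φ] V →ₗ[F] F) (y : End F V)

theorem refl_of_symm (hS : B.IsSymm) : ∀ u v, B u v = 0 → B v u = 0 := by
  intro u v h
  rw [← hS.eq u v, h, map_zero]

/-- the adjoint of a polynomial -/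
theorem u_adj_aeval (y' : End F V) (hadj : ∀ u w, B (y u) w = B u (y' w)) (p : F[X]) (u w : V) :
    B (aeval y p u) w = B u (aeval y' (p.map φ) w) := by
  have hpow : ∀ (n : ℕ) (u w : V), B ((y ^ n) u) w = B u ((y' ^ n) w) := by
    intro n
    induction n with
    | zero => intro u w; rfl
    | succ n ih =>
      intro u w
      rw [pow_succ', Module.End.mul_apply, hadj, ih, pow_succ, Module.End.mul_apply]
  induction p using Polynomial.induction_on' with
  | add a b ha hb =>
    rw [Polynomial.map_add]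
    simp only [map_add, LinearMap.add_apply, ha, hb]
  | monomial n c =>
    rw [Polynomial.map_monomial, ← C_mul_X_pow_eq_monomial, ← C_mul_X_pow_eq_monomial, map_mul,
      map_mul, aeval_C, aeval_C, map_pow, map_pow, aeval_X, aeval_X]
    simp only [Module.End.mul_apply, Module.algebraMap_end_apply, map_smulₛₗ,
      LinearMap.smul_apply]
    rw [hpow, RingHom.id_apply]

variable {B y}

theorem u_pow_iso (hiso : ∀ u v, B (y u) (y v) = B u v) (k : ℕ) (u v : V) :
    B ((y ^ k) u) ((y ^ k) v) = B u v := by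
  induction k with
  | zero => rfl
  | succ k ih => rw [pow_succ', Module.End.mul_apply, Module.End.mul_apply, hiso, ih]

theorem u_adj_pow_pred (hiso : ∀ u v, B (y u) (y v) = B u v) {r : ℕ} (hr : 0 < r)
    (hy : y ^ r = 1) (u w : V) : B (y u) w = B u ((y ^ (r - 1)) w) := by
  conv_lhs => rw [← pow_pred_mul hr hy w]
  rw [hiso]

theorem u_adj_pow_pred' (hiso : ∀ u v, B (y u) (y v) = B u v) {r : ℕ} (hr : 0 < r)
    (hy : y ^ r = 1) (u w : V) : B ((y ^ (r - 1)) u) w = B u (y w) := by
  conv_rhs => rw [← pow_pred_mul hr hy u]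
  rw [hiso]

/-- the orthogonal complement of an invariant subspace is invariant -/
theorem u_orth_invariant (hiso : ∀ u v, B (y u) (y v) = B u v) {r : ℕ} (hr : 0 < r)
    (hy : y ^ r = 1) (U : Submodule F V) (hU : ∀ v ∈ U, y v ∈ U) :
    ∀ v ∈ orth B U, y v ∈ orth B U := by
  intro v hv u hu
  rw [← u_adj_pow_pred' hiso hr hy]
  exact hv _ (pow_mem_of_invariant y U hU (r - 1) u hu)

theorem u_inf_orth_invariant (hiso : ∀ u v, B (y u) (y v) = B u v) {r : ℕ} (hr : 0 < r)
    (hy : y ^ r = 1) (U A : Submodule F V) (hU : ∀ v ∈ U, y v ∈ U) (hA : ∀ v ∈ A, y v ∈ A) :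
    ∀ v ∈ U ⊓ orth B A, y v ∈ U ⊓ orth B A := by
  intro v hv
  rw [Submodule.mem_inf] at hv ⊢
  exact ⟨hU v hv.1, u_orth_invariant hiso hr hy A hA v hv.2⟩

/-- orthogonality of the kernels of coprime polynomials, the first of which is self-dual -/
theorem u_ker_orth (hS : B.IsSymm) (hφ2 : ∀ x, φ (φ x) = x) (y' : End F V)
    (hadj : ∀ u w, B (y u) w = B u (y' w))
    (p₁ p₂ : F[X]) (hcop : IsCoprime p₁ p₂)
    (hself : ∀ u, aeval y p₁ u = 0 → aeval y' (p₁.map φ) u = 0) (u w : V)
    (hu : aeval y p₁ u = 0) (hw : aeval y p₂ w = 0) : B u w = 0 := by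
  obtain ⟨a, b, hab⟩ := hcop
  have h1 : w = aeval y p₁ (aeval y a w) := by
    have h2 : w = aeval y (a * p₁) w + aeval y (b * p₂) w := by
      rw [← LinearMap.add_apply, ← map_add, hab, map_one, Module.End.one_apply]
    have h3 : aeval y (b * p₂) w = 0 := by
      rw [map_mul (aeval y), Module.End.mul_apply, hw, map_zero]
    have h4 : aeval y (a * p₁) w = aeval y p₁ (aeval y a w) := by
      rw [mul_comm a p₁, map_mul (aeval y), Module.End.mul_apply]
    rw [h3, h4, add_zero] at h2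
    exact h2
  have hadj' : ∀ u w, B (y' u) w = B u (y w) := by
    intro u w
    rw [← hS.eq w (y' u), ← hadj, hS.eq]
  have hmm : (p₁.map φ).map φ = p₁ := by
    rw [Polynomial.map_map]
    have : φ.comp φ = RingHom.id F := RingHom.ext hφ2
    rw [this, Polynomial.map_id]
  have h5 := u_adj_aeval B y' y hadj' (p₁.map φ) u (aeval y a w)
  rw [hmm] at h5
  rw [h1, ← h5, hself u hu, map_zero, LinearMap.zero_apply]

end iso

section cyc

variable {F : Type*} [Field F] {φ : F →+* F} {V : Type*} [AddCommGroup V] [Module F V]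
variable {B : V →ₛₗ[φ] V →ₗ[F] F} {y : End F V}

/-- the fixed space is orthogonal to the kernel of the cyclotomic polynomial -/
theorem u_fix_orth_cyc (hS : B.IsSymm) (hφ2 : ∀ x, φ (φ x) = x)
    (hiso : ∀ u v, B (y u) (y v) = B u v) {r : ℕ}
    [Fact r.Prime] (hr0 : (r : F) ≠ 0) (hy : y ^ r = 1) (u w : V)
    (hu : u ∈ LinearMap.ker (aeval y (X - 1 : F[X])))
    (hw : w ∈ LinearMap.ker (aeval y (cyclotomic r F))) : B u w = 0 := by
  have hr : 0 < r := (Fact.out : r.Prime).pos
  apply u_ker_orth hS hφ2 (y ^ (r - 1)) (u_adj_pow_pred hiso hr hy) (X - 1) (cyclotomic r F)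
    (isCoprime_sub_one_cyclotomic hr0) ?_ u w hu hw
  intro v hv
  have hv' : y v = v := (mem_fix_iff v).mp hv
  rw [Polynomial.map_sub, Polynomial.map_X, Polynomial.map_one, map_sub, aeval_X, map_one,
    LinearMap.sub_apply, Module.End.one_apply, pow_apply_of_fix v hv', sub_self]

variable [FiniteDimensional F V]

theorem UND_fix_part (hS : B.IsSymm) (hφ2 : ∀ x, φ (φ x) = x)
    (hiso : ∀ u v, B (y u) (y v) = B u v) {r : ℕ}
    [Fact r.Prime] (hr0 : (r : F) ≠ 0) (hy : y ^ r = 1) (U : Submodule F V)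
    (hU : ∀ v ∈ U, y v ∈ U) (hnd : UND B U) :
    UND B (U ⊓ LinearMap.ker (aeval y (X - 1 : F[X]))) := by
  apply UND_of_sup_orth B U _ (U ⊓ LinearMap.ker (aeval y (cyclotomic r F))) hnd inf_le_left
    (split_fix hr0 hy U hU)
  intro u hu w hw
  exact u_fix_orth_cyc hS hφ2 hiso hr0 hy u w (Submodule.mem_inf.mp hu).2
    (Submodule.mem_inf.mp hw).2

theorem UND_cyc_part (hS : B.IsSymm) (hφ2 : ∀ x, φ (φ x) = x)
    (hiso : ∀ u v, B (y u) (y v) = B u v) {r : ℕ}
    [Fact r.Prime] (hr0 : (r : F) ≠ 0) (hy : y ^ r = 1) (U : Submodule F V)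
    (hU : ∀ v ∈ U, y v ∈ U) (hnd : UND B U) :
    UND B (U ⊓ LinearMap.ker (aeval y (cyclotomic r F))) := by
  apply UND_of_sup_orth B U _ (U ⊓ LinearMap.ker (aeval y (X - 1 : F[X]))) hnd inf_le_left
  · rw [sup_comm]
    exact split_fix hr0 hy U hU
  · intro u hu w hw
    exact refl_of_symm B hS _ _ (u_fix_orth_cyc hS hφ2 hiso hr0 hy w u (Submodule.mem_inf.mp hw).2
      (Submodule.mem_inf.mp hu).2)

end cyc

end Cfsg.Agent.Lib.H24.Uti
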