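import Mathlib
import Cfsg.Agent.Lib.H24.UtiIso
import Cfsg.Agent.Lib.H24.ElusSpAtom
import Cfsg.Agent.Lib.H11.UnitaryInvol1

set_option autoImplicit false

/-!
# Homogeneous invariant subspaces of an isometry of a hermitian form (helper24)

Let `y` be an isometry of finite order of a hermitian form and `g` an irreducible polynomial of
degree `b`.  Invariant subspaces of `ker g(y)` have dimension divisible by `b`, cyclic subspaces
have dimension `b` and are nondegenerate or totally isotropic; every nonzero nondegenerate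
invariant subspace of `ker g(y)` contains a nondegenerate invariant subspace of dimension `b`
(`exists_nd_irred`), so that these subspaces form a `UPeelClass` (`uPeelClass_homog`).
-/

namespace Cfsg.Agent.Lib.H24.Uti

open Polynomial Module
open Cfsg.Agent.Lib.H11.UFrames (orth mem_orth)
open Cfsg.Agent.Lib.H24.Elus
open Cfsg.Agent.Lib.H13

section generic

variable {F : Type*} [Field F] {V : Type*} [AddCommGroup V] [Module F V] [Module.Finite F V]

/-- invariant subspaces killed by an irreducible polynomial have dimension divisible by its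
degree -/
theorem dvd_finrank_of_le_ker (y : End F V) (g : F[X]) (hg : Irreducible g) (W : Submodule F V)
    (hW : ∀ v ∈ W, y v ∈ W) (hWg : W ≤ LinearMap.ker (aeval y g)) :
    g.natDegree ∣ finrank F W := by
  apply SSClass.natDegree_dvd_finrank g hg (y.restrict hW)
  apply LinearMap.ext
  intro w
  apply Subtype.ext
  rw [aeval_restrict_apply]
  exact LinearMap.mem_ker.mp (hWg w.2)

/-- the cyclic subspace of a nonzero vector killed by an irreducible polynomial -/
theorem finrank_cycSub_irred (y : End F V) (g : F[X]) (hg : Irreducible g) (hgm : g.Monic) (u : V)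
    (hu0 : u ≠ 0) (hgu : aeval y g u = 0) : finrank F (cycSub y u) = g.natDegree := by
  have h1 := finrank_cycSub_le y u g hgm hgu
  have h2 := dvd_finrank_of_le_ker y g hg (cycSub y u) (cycSub_invariant y u)
    (cycSub_le_ker y u g hgu)
  have h3 : 0 < finrank F (cycSub y u) := by
    rw [Module.finrank_pos_iff_exists_ne_zero]
    exact ⟨⟨u, self_mem_cycSub y u⟩, fun h => hu0 (congrArg Subtype.val h)⟩
  exact le_antisymm h1 (Nat.le_of_dvd h3 h2)

/-- an invariant subspace of an irreducible one is trivial -/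
theorem eq_bot_or_eq_of_irred_gen (y : End F V) (g : F[X]) (hg : Irreducible g)
    (W R : Submodule F V) (hWg : W ≤ LinearMap.ker (aeval y g))
    (hWi : finrank F W = g.natDegree) (hR : ∀ v ∈ R, y v ∈ R) (hRW : R ≤ W) :
    R = ⊥ ∨ R = W := by
  have h1 := dvd_finrank_of_le_ker y g hg R hR (hRW.trans hWg)
  have h2 := Submodule.finrank_mono hRW
  rw [hWi] at h2
  by_cases h0 : finrank F R = 0
  · left
    exact Submodule.finrank_eq_zero.mp h0
  · right
    have h3 := Nat.le_of_dvd (Nat.pos_of_ne_zero h0) h1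
    exact Submodule.eq_of_le_of_finrank_eq hRW (by rw [hWi]; omega)

end generic

section herm

variable {F : Type*} [Field F] {φ : F →+* F} {V : Type*} [AddCommGroup V] [Module F V]
  [Module.Finite F V] {B : V →ₛₗ[φ] V →ₗ[F] F} {y : End F V}

/-- an irreducible invariant subspace is nondegenerate or totally isotropic -/
theorem u_ND_or_TI (hS : B.IsSymm) (hiso : ∀ u v, B (y u) (y v) = B u v) {N : ℕ} (hN : 0 < N)
    (hy : y ^ N = 1) (g : F[X]) (hg : Irreducible g)
    (W : Submodule F V) (hW : ∀ v ∈ W, y v ∈ W) (hWg : W ≤ LinearMap.ker (aeval y g))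
    (hWi : finrank F W = g.natDegree) : UND B W ∨ UTI B W := by
  have hR : ∀ v ∈ W ⊓ orth B W, y v ∈ W ⊓ orth B W :=
    u_inf_orth_invariant hiso hN hy W W hW hW
  rcases eq_bot_or_eq_of_irred_gen y g hg W (W ⊓ orth B W) hWg hWi hR inf_le_left with h | h
  · left
    intro u hu hu'
    have : u ∈ W ⊓ orth B W :=
      Submodule.mem_inf.mpr ⟨hu, fun v hv => refl_of_symm B hS _ _ (hu' v hv)⟩
    rw [h] at this
    exact (Submodule.mem_bot F).mp this
  · right
    intro u hu v hv
    have hv' : v ∈ W ⊓ orth B W := by rw [h]; exact hv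
    exact (Submodule.mem_inf.mp hv').2 u hu

/-- a nonzero nondegenerate subspace contains a nonisotropic vector -/
theorem exists_nonisotropic_in (hS : B.IsSymm) (hφne : φ ≠ RingHom.id F) (U : Submodule F V)
    (hU : UND B U) (hne : U ≠ ⊥) : ∃ w ∈ U, B w w ≠ 0 := by
  obtain ⟨u, hu, hu0⟩ := (Submodule.ne_bot_iff U).mp hne
  obtain ⟨v, hv, huv⟩ : ∃ v ∈ U, B u v ≠ 0 := by
    by_contra hcon
    push Not at hcon
    exact hu0 (hU u hu hcon)
  obtain ⟨c, d, hcd⟩ := Cfsg.Agent.Lib.H11.UInv.exists_nonisotropic B hS hφne u v huv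
  exact ⟨c • u + d • v, Submodule.add_mem _ (Submodule.smul_mem _ _ hu)
    (Submodule.smul_mem _ _ hv), hcd⟩

/-- a nondegenerate irreducible invariant subspace inside a nonzero nondegenerate invariant
subspace of `ker g(y)` -/
theorem exists_nd_irred (hS : B.IsSymm) (hφne : φ ≠ RingHom.id F)
    (hiso : ∀ u v, B (y u) (y v) = B u v) {N : ℕ} (hN : 0 < N) (hy : y ^ N = 1)
    (g : F[X]) (hg : Irreducible g) (hgm : g.Monic)
    (U : Submodule F V) (hUinv : ∀ v ∈ U, y v ∈ U) (hUg : U ≤ LinearMap.ker (aeval y g))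
    (hU : UND B U) (hne : U ≠ ⊥) :
    ∃ A : Submodule F V, A ≤ U ∧ (∀ v ∈ A, y v ∈ A) ∧ UND B A ∧ finrank F A = g.natDegree := by
  obtain ⟨w, hw, hww⟩ := exists_nonisotropic_in hS hφne U hU hne
  have hw0 : w ≠ 0 := by
    rintro rfl
    apply hww
    rw [map_zero]
  have hgw : aeval y g w = 0 := LinearMap.mem_ker.mp (hUg hw)
  have hdim := finrank_cycSub_irred y g hg hgm w hw0 hgw
  have hle : cycSub y w ≤ U := cycSub_le y w U hUinv hw
  refine ⟨cycSub y w, hle, cycSub_invariant y w, ?_, hdim⟩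
  rcases u_ND_or_TI hS hiso hN hy g hg (cycSub y w) (cycSub_invariant y w)
    (hle.trans hUg) hdim with h | h
  · exact h
  · exact absurd (h w (self_mem_cycSub y w) w (self_mem_cycSub y w)) hww

/-- nondegenerate invariant subspaces of `X ⊓ ker g(y)` form a class with atoms of dimension
`deg g` -/
theorem uPeelClass_homog (hS : B.IsSymm) (hφne : φ ≠ RingHom.id F)
    (hiso : ∀ u v, B (y u) (y v) = B u v) {N : ℕ} (hN : 0 < N) (hy : y ^ N = 1)
    (g : F[X]) (hg : Irreducible g) (hgm : g.Monic) (X : Submodule F V) :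
    UPeelClass B (fun A => A ≤ X ⊓ LinearMap.ker (aeval y g) ∧ (∀ v ∈ A, y v ∈ A) ∧ UND B A)
      g.natDegree where
  pos := hg.natDegree_pos
  bot := ⟨bot_le, fun v hv => by
    rw [Submodule.mem_bot] at hv ⊢
    rw [hv, map_zero], UND_bot B⟩
  nd := fun _ h => h.2.2
  perp := fun U A hU hA hAU => ⟨inf_le_left.trans hU.1,
    u_inf_orth_invariant hiso hN hy U A hU.2.1 hA.2.1,
    UND_perp_in B (refl_of_symm B hS) U A hU.2.2 hA.2.2 hAU⟩
  sup := fun A A' hA hA' horth => ⟨sup_le hA.1 hA'.1, sup_invariant A A' hA.2.1 hA'.2.1,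
    UND_sup B (refl_of_symm B hS) A A' hA.2.2 hA'.2.2 horth⟩
  atom := fun U hU hne => by
    obtain ⟨A, hAU, hAinv, hAnd, hAdim⟩ := exists_nd_irred hS hφne hiso hN hy g hg hgm U hU.2.1
      (hU.1.trans inf_le_right) hU.2.2 hne
    exact ⟨A, hAU, ⟨hAU.trans hU.1, hAinv, hAnd⟩, hAdim⟩

end herm

end Cfsg.Agent.Lib.H24.Uti
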