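import Mathlib
import Cfsg.Agent.Lib.H24.UtiHomog

set_option autoImplicit false

/-!
# Self-dual irreducible factors for unitary isometries of odd prime order (helper24)

Let `|F| = q²`, `φ x = x ^ q`, `r ≠ p` an odd prime and `i = ord_r q`.  For an isometry `y` of order
`r` of a hermitian form the adjoint of `s(y)` is `s^φ(y⁻¹)`.
* `u_self_dual`: if `i ≡ 2 (mod 4)` then `s(y) a = 0` implies `s^φ(y⁻¹) a = 0`;
* `u_ker_factor_data`, `UND_ker_factor`: the kernels of the irreducible factors are then mutually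
  orthogonal, and the homogeneous components of nondegenerate invariant subspaces are nondegenerate;
* `mod_four_of_UND_irred`: conversely a nonzero nondegenerate invariant subspace killed by an
  irreducible factor of the cyclotomic polynomial exists only if `i ≡ 2 (mod 4)`.
-/

namespace Cfsg.Agent.Lib.H24.Uti

open Polynomial Module
open Cfsg.Agent.Lib.H11.UFrames (orth mem_orth)
open Cfsg.Agent.Lib.H24.Elus
open Cfsg.Agent.Lib.H13

section frob

variable {F : Type*} [Field F] [Fintype F] {p q : ℕ} [Fact p.Prime] [CharP F p]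

theorem exists_q_eq_pow (hF : Fintype.card F = q ^ 2) : ∃ f, q = p ^ f := by
  obtain ⟨n, hp, hn⟩ := FiniteField.card F p
  rw [hF] at hn
  have : q ∣ p ^ (n : ℕ) := ⟨q, by rw [← hn, pow_two]⟩
  obtain ⟨k, -, hk⟩ := (Nat.dvd_prime_pow hp).mp this
  exact ⟨k, hk⟩

theorem q_pos (hF : Fintype.card F = q ^ 2) : 0 < q := by
  rcases Nat.eq_zero_or_pos q with h | h
  · rw [h] at hF
    have := Fintype.card_pos (α := F)
    omega
  · exact h

/-- the `q`-th power of a polynomial expression -/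
theorem aeval_pow_q_map (p : ℕ) [Fact p.Prime] [CharP F p] {q : ℕ}
    {A : Type*} [Ring A] [Algebra F A] (hF : Fintype.card F = q ^ 2)
    {φ : F →+* F} (hφ : ∀ x, φ x = x ^ q) (a : A) (g : F[X]) :
    aeval (a ^ q) (g.map φ) = (aeval a g) ^ q := by
  obtain ⟨f, hf⟩ := exists_q_eq_pow (p := p) hF
  haveI : ExpChar F p := ExpChar.prime Fact.out
  have hφ' : φ = iterateFrobenius F p f := by
    ext x
    rw [hφ, iterateFrobenius_def, hf]
  rw [← map_pow, hf, ← map_iterateFrobenius_expand p g f, map_expand, expand_aeval, ← hφ']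

theorem aeval_pow_card_pow_gen {A : Type*} [Ring A] [Algebra F A] (a : A) (m : ℕ) (g : F[X]) :
    aeval (a ^ (Fintype.card F ^ m)) g = (aeval a g) ^ (Fintype.card F ^ m) := by
  rw [← expand_aeval, expand_card_pow, map_pow]

/-- evaluation of the twisted polynomial at an odd Frobenius power -/
theorem aeval_odd_frob (p : ℕ) [Fact p.Prime] [CharP F p] {q : ℕ}
    {A : Type*} [Ring A] [Algebra F A] (hF : Fintype.card F = q ^ 2)
    {φ : F →+* F} (hφ : ∀ x, φ x = x ^ q) (a : A) (g : F[X]) (k : ℕ) :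
    aeval (a ^ (q * (q ^ 2) ^ k)) (g.map φ) = (aeval a g) ^ (q * (q ^ 2) ^ k) := by
  rw [pow_mul, ← hF, aeval_pow_card_pow_gen, aeval_pow_q_map p hF hφ, ← pow_mul]

end frob

section zmod

/-- the order of `q²` modulo `r` -/
theorem orderOf_sq (q r : ℕ) :
    orderOf ((q ^ 2 : ℕ) : ZMod r) = orderOf (q : ZMod r) / (orderOf (q : ZMod r)).gcd 2 := by
  rw [Nat.cast_pow]
  exact orderOf_pow' _ (by norm_num)

theorem orderOf_sq_of_even (q r : ℕ) (h : Even (orderOf (q : ZMod r))) :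
    orderOf ((q ^ 2 : ℕ) : ZMod r) = orderOf (q : ZMod r) / 2 := by
  rw [orderOf_sq]
  congr 1
  exact Nat.gcd_eq_right (even_iff_two_dvd.mp h)

theorem orderOf_sq_of_odd (q r : ℕ) (h : ¬ Even (orderOf (q : ZMod r))) :
    orderOf ((q ^ 2 : ℕ) : ZMod r) = orderOf (q : ZMod r) := by
  rw [orderOf_sq]
  have h1 : (orderOf (q : ZMod r)).gcd 2 = 1 :=
    Nat.coprime_comm.mp (Nat.coprime_two_left.mpr (Nat.not_even_iff_odd.mp h))
  rw [h1, Nat.div_one]

/-- `r ∣ q ^ (i / 2) + 1` and `i / 2` is odd when `i ≡ 2 (mod 4)` -/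
theorem exists_odd_half {q r : ℕ} [Fact r.Prime] (hi : orderOf (q : ZMod r) % 4 = 2) :
    ∃ t, orderOf (q : ZMod r) = 2 * (2 * t + 1) ∧ r ∣ q ^ (2 * t + 1) + 1 := by
  obtain ⟨t, ht⟩ : ∃ t, orderOf (q : ZMod r) = 4 * t + 2 := ⟨orderOf (q : ZMod r) / 4, by omega⟩
  refine ⟨t, by omega, ?_⟩
  have heven : Even (orderOf (q : ZMod r)) := ⟨2 * t + 1, by omega⟩
  have h := dvd_pow_half_add_one q r heven (by omega)
  have h2 : orderOf (q : ZMod r) / 2 = 2 * t + 1 := by omega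
  rwa [h2] at h

end zmod

section selfdual

variable {F : Type*} [Field F] [Fintype F] {p q : ℕ} [Fact p.Prime] [CharP F p]
  {φ : F →+* F} {V : Type*} [AddCommGroup V] [Module F V]

/-- for `ord_r q ≡ 2 (mod 4)` every polynomial in `y` is "self-dual" on its kernel -/
theorem u_self_dual (p : ℕ) [Fact p.Prime] [CharP F p] {q : ℕ}
    (hF : Fintype.card F = q ^ 2) (hφ : ∀ x, φ x = x ^ q) {r : ℕ} [Fact r.Prime]
    (hi : orderOf (q : ZMod r) % 4 = 2) (y : End F V) (hy : y ^ r = 1) (g : F[X]) (a : V)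
    (ha : aeval y g a = 0) : aeval (y ^ (r - 1)) (g.map φ) a = 0 := by
  have hr : r.Prime := Fact.out
  obtain ⟨t, -, hdvd⟩ := exists_odd_half hi
  have hq0 := q_pos hF
  -- `y ^ (r - 1) = y ^ (q ^ (2 t + 1))`
  have hpow : y ^ (r - 1) = y ^ (q * (q ^ 2) ^ t) := by
    have h1 : q * (q ^ 2) ^ t = q ^ (2 * t + 1) := by
      rw [← pow_mul, pow_succ, mul_comm]
    rw [h1]
    obtain ⟨k, hk⟩ := hdvd
    have h2 : y ^ (q ^ (2 * t + 1)) * y = 1 := by
      rw [← pow_succ, hk, pow_mul, hy, one_pow]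
    have h3 : y * y ^ (r - 1) = 1 := by
      rw [← pow_succ', Nat.sub_add_cancel hr.pos, hy]
    calc y ^ (r - 1) = (y ^ (q ^ (2 * t + 1)) * y) * y ^ (r - 1) := by rw [h2, one_mul]
      _ = y ^ (q ^ (2 * t + 1)) * (y * y ^ (r - 1)) := by rw [mul_assoc]
      _ = y ^ (q ^ (2 * t + 1)) := by rw [h3, mul_one]
  rw [hpow, aeval_odd_frob p hF hφ]
  obtain ⟨n, hn⟩ : ∃ n, q * (q ^ 2) ^ t = n + 1 :=
    ⟨q * (q ^ 2) ^ t - 1, by
      have : 0 < q * (q ^ 2) ^ t := Nat.mul_pos hq0 (Nat.pow_pos (Nat.pow_pos hq0))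
      omega⟩
  rw [hn, pow_succ, Module.End.mul_apply, ha, map_zero]

variable [Module.Finite F V] {B : V →ₛₗ[φ] V →ₗ[F] F} {y : End F V}

/-- for `ord_r q ≡ 2 (mod 4)` the kernels of the irreducible factors are mutually orthogonal -/
theorem u_ker_factor_data [DecidableEq F] (hF : Fintype.card F = q ^ 2) (hφ : ∀ x, φ x = x ^ q)
    (hφ2 : ∀ x, φ (φ x) = x) (hS : B.IsSymm) {r : ℕ} [Fact r.Prime]
    (hrp : r ≠ p) (hiso : ∀ u v, B (y u) (y v) = B u v) (hy : y ^ r = 1)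
    (hi : orderOf (q : ZMod r) % 4 = 2) (s : CycFactor.S r F) :
    ∃ g' : F[X], IsCoprime s.1 g' ∧ aeval y (s.1 * g') = 0 ∧
      ∀ a w, aeval y s.1 a = 0 → aeval y g' w = 0 → B a w = 0 := by
  have hr : r.Prime := Fact.out
  have hrF : (r : F) ≠ 0 := CycFactor.natCast_ne_zero hr hrp
  obtain ⟨g', hg'⟩ : s.1 ∣ (X ^ r - 1 : F[X]) :=
    (CycFactor.dvd_S s).trans ⟨X - 1, (cyclotomic_prime_mul_X_sub_one F r).symm⟩
  have hcop : IsCoprime s.1 g' := by
    apply Separable.isCoprime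
    rw [← hg']
    have := separable_X_pow_sub_C (1 : F) hrF one_ne_zero
    rwa [map_one] at this
  have hprod : aeval y (s.1 * g') = 0 := by
    rw [← hg']; exact aeval_pow_sub_one_of_pow hy
  refine ⟨g', hcop, hprod, fun a w ha hw => ?_⟩
  exact u_ker_orth hS hφ2 (y ^ (r - 1)) (u_adj_pow_pred hiso hr.pos hy) s.1 g' hcop
    (fun u hu => u_self_dual p hF hφ hi y hy s.1 u hu) a w ha hw

theorem UND_ker_factor [DecidableEq F] (hF : Fintype.card F = q ^ 2) (hφ : ∀ x, φ x = x ^ q)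
    (hφ2 : ∀ x, φ (φ x) = x) (hS : B.IsSymm) {r : ℕ} [Fact r.Prime]
    (hrp : r ≠ p) (hiso : ∀ u v, B (y u) (y v) = B u v) (hy : y ^ r = 1)
    (hi : orderOf (q : ZMod r) % 4 = 2) (s : CycFactor.S r F)
    (U : Submodule F V) (hU : ∀ v ∈ U, y v ∈ U) (hnd : UND B U) :
    UND B (U ⊓ LinearMap.ker (aeval y s.1)) := by
  obtain ⟨g', hcop, hprod, horth⟩ := u_ker_factor_data hF hφ hφ2 hS hrp hiso hy hi s
  apply UND_of_sup_orth B U _ (U ⊓ LinearMap.ker (aeval y g')) hnd inf_le_left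
    (split_coprime s.1 g' hcop hprod U hU)
  intro a ha w hw
  exact horth a w (LinearMap.mem_ker.mp (Submodule.mem_inf.mp ha).2)
    (LinearMap.mem_ker.mp (Submodule.mem_inf.mp hw).2)

end selfdual

end Cfsg.Agent.Lib.H24.Uti
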