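import Mathlib
import Cfsg.Agent.Lib.H24.UtiType

set_option autoImplicit false

/-!
# Nondegenerate irreducible constituents force `ord_r q ≡ 2 (mod 4)` (helper24)

Let `|F| = q²`, `φ x = x ^ q`, `r ≠ p` an odd prime, `s` an irreducible factor of the `r`-th
cyclotomic polynomial over `F`.
* `mod_four_of_dvd`: if `s` divides `s^φ(X^(r-1))` (the type `s` is self-dual) then
  `ord_r q ≡ 2 (mod 4)`; the proof counts the roots of `s^φ` in the field `F[X]/(s)`;
* `mod_four_of_UND_irred`: a nonzero nondegenerate invariant subspace of `ker s(y)` (for an isometry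
  `y` of order `r` of a hermitian form) exists only if `ord_r q ≡ 2 (mod 4)`.
-/

namespace Cfsg.Agent.Lib.H24.Uti

open Polynomial Module
open Cfsg.Agent.Lib.H11.UFrames (orth mem_orth)
open Cfsg.Agent.Lib.H24.Elus
open Cfsg.Agent.Lib.H13

section arith

/-- an element of `ZMod r` an odd power of which is `-1` has order `≡ 2 (mod 4)` -/
theorem mod_four_of_pow_eq_neg_one {r : ℕ} [Fact r.Prime] (hr2 : r ≠ 2) (x : ZMod r) (k : ℕ)
    (hx : x ^ (2 * k + 1) = -1) : orderOf x % 4 = 2 := by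
  have hr : r.Prime := Fact.out
  have hne : (-1 : ZMod r) ≠ 1 := by
    intro h
    have h2 : (2 : ZMod r) = 0 := by
      have : (1 : ZMod r) + 1 = 0 := by
        nth_rewrite 1 [← h]
        exact neg_add_cancel 1
      rw [← this]
      norm_num
    have h3 : ((2 : ℕ) : ZMod r) = 0 := by exact_mod_cast h2
    rw [ZMod.natCast_eq_zero_iff] at h3
    have := Nat.le_of_dvd (by norm_num) h3
    have := hr.two_le
    omega
  have h1 : x ^ (2 * (2 * k + 1)) = 1 := by
    rw [mul_comm, pow_mul, hx]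
    norm_num
  have hd1 : orderOf x ∣ 2 * (2 * k + 1) := orderOf_dvd_of_pow_eq_one h1
  have hd2 : ¬ orderOf x ∣ 2 * k + 1 := by
    intro h
    apply hne
    rw [← hx]
    exact orderOf_dvd_iff_pow_eq_one.mp h
  by_cases hodd : Odd (orderOf x)
  · exfalso
    apply hd2
    exact (Nat.Coprime.dvd_of_dvd_mul_left (Nat.coprime_two_right.mpr hodd) hd1)
  · rw [Nat.not_odd_iff_even] at hodd
    obtain ⟨d, hd⟩ := hodd
    have hd' : orderOf x = 2 * d := by omega
    rw [hd'] at hd1 hd2 ⊢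
    have h3 : d ∣ 2 * k + 1 := Nat.dvd_of_mul_dvd_mul_left (by norm_num) hd1
    have h4 : Odd d := Odd.of_dvd_nat ⟨k, rfl⟩ h3
    obtain ⟨e, he⟩ := h4
    omega

end arith

section roots

variable {F : Type*} [Field F] [Fintype F] {p q : ℕ} [Fact p.Prime] [CharP F p]

/-- a self-dual type exists only for `ord_r q ≡ 2 (mod 4)` -/
theorem mod_four_of_dvd [DecidableEq F] (hF : Fintype.card F = q ^ 2) {φ : F →+* F}
    (hφ : ∀ x, φ x = x ^ q) {r : ℕ} [Fact r.Prime] (hrp : r ≠ p) (hr2 : r ≠ 2)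
    (s : CycFactor.S r F) (hdvd : s.1 ∣ (s.1.map φ).comp (X ^ (r - 1))) :
    orderOf (q : ZMod r) % 4 = 2 := by
  classical
  have hr : r.Prime := Fact.out
  have hrF : (r : F) ≠ 0 := CycFactor.natCast_ne_zero hr hrp
  have hq0 := q_pos hF
  haveI : Fact (Irreducible s.1) := ⟨CycFactor.irreducible_S s⟩
  obtain ⟨ζ, hζ⟩ : ∃ ζ : AdjoinRoot s.1, ζ = AdjoinRoot.root s.1 := ⟨_, rfl⟩
  have hζs : aeval ζ s.1 = 0 := by
    rw [hζ, AdjoinRoot.aeval_eq, AdjoinRoot.mk_self]
  have hζcyc : aeval ζ (cyclotomic r F) = 0 := by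
    obtain ⟨g', hg'⟩ := CycFactor.dvd_S s
    have h1 := congrArg (aeval ζ) hg'
    rw [map_mul, hζs, zero_mul] at h1
    exact h1
  have hζr : ζ ^ r = 1 := by
    have h1 : aeval ζ (X ^ r - 1 : F[X]) = 0 := by
      rw [← cyclotomic_prime_mul_X_sub_one F r, map_mul, hζcyc, zero_mul]
    rw [map_sub, map_pow, aeval_X, map_one, sub_eq_zero] at h1
    exact h1
  have hζ1 : ζ ≠ 1 := by
    intro h
    rw [h] at hζcyc
    have h2 : aeval (1 : AdjoinRoot s.1) (cyclotomic r F) = algebraMap F (AdjoinRoot s.1) (r : F) := by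
      rw [← map_one (algebraMap F (AdjoinRoot s.1)), aeval_algebraMap_apply,
        coe_aeval_eq_eval, eval_one_cyclotomic_prime]
    rw [h2] at hζcyc
    exact hrF ((map_eq_zero _).mp hζcyc)
  have hord : orderOf ζ = r := orderOf_eq_prime hζr hζ1
  have hζ0 : ζ ≠ 0 := by
    rintro h
    rw [h, zero_pow hr.pos.ne'] at hζr
    exact zero_ne_one hζr
  have hpoweq : ∀ a b : ℕ, ζ ^ a = ζ ^ b → a ≡ b [MOD r] := by
    intro a b hab
    have h1 : (Units.mk0 ζ hζ0) ^ a = (Units.mk0 ζ hζ0) ^ b := by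
      apply Units.ext
      rw [Units.val_pow_eq_pow_val, Units.val_pow_eq_pow_val]
      exact hab
    rw [pow_eq_pow_iff_modEq, ← orderOf_units, Units.val_mk0, hord] at h1
    exact h1
  -- the twisted polynomial and its roots
  obtain ⟨g, hg⟩ : ∃ g, g = s.1.map φ := ⟨_, rfl⟩
  obtain ⟨b, hb⟩ : ∃ b, b = orderOf ((q ^ 2 : ℕ) : ZMod r) := ⟨_, rfl⟩
  have hgdeg : g.natDegree = b := by
    rw [hg, natDegree_map, CycFactor.natDegree_S hF hr hrp s, hb]
  have hroot : ∀ k : ℕ, aeval (ζ ^ (q * (q ^ 2) ^ k)) g = 0 := by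
    intro k
    rw [hg, aeval_odd_frob p hF hφ, hζs, zero_pow]
    exact (Nat.mul_pos hq0 (Nat.pow_pos (Nat.pow_pos hq0))).ne'
  have hroot' : aeval (ζ ^ (r - 1)) g = 0 := by
    obtain ⟨g', hg'⟩ := hdvd
    have h1 := congrArg (aeval ζ) hg'
    rw [map_mul, hζs, zero_mul, aeval_comp, map_pow, aeval_X, ← hg] at h1
    exact h1
  obtain ⟨gK, hgK⟩ : ∃ gK, gK = g.map (algebraMap F (AdjoinRoot s.1)) := ⟨_, rfl⟩
  have hgKdeg : gK.natDegree = b := by rw [hgK, natDegree_map, hgdeg]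
  have hgK0 : gK ≠ 0 := by
    intro h
    have hs0 : s.1.map φ ≠ 0 := by
      rw [Ne, Polynomial.map_eq_zero]
      exact (CycFactor.irreducible_S s).ne_zero
    rw [hgK, Polynomial.map_eq_zero, hg] at h
    exact hs0 h
  have hmem : ∀ x : AdjoinRoot s.1, aeval x g = 0 → x ∈ gK.roots := by
    intro x hx
    rw [mem_roots hgK0, IsRoot.def, hgK, eval_map_algebraMap]
    exact hx
  -- the `b` distinct roots
  have hqr : (q : ZMod r) ≠ 0 := by
    intro h
    rw [ZMod.natCast_eq_zero_iff] at h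
    obtain ⟨f, hf⟩ := exists_q_eq_pow (p := p) hF
    rw [hf] at h
    have := (Nat.prime_dvd_prime_iff_eq hr Fact.out).mp (hr.dvd_of_dvd_pow h)
    exact hrp this
  have hinj : Set.InjOn (fun k : ℕ => ζ ^ (q * (q ^ 2) ^ k)) (Finset.range b : Set ℕ) := by
    intro k hk l hl hkl
    simp only at hkl
    have h1 := (ZMod.natCast_eq_natCast_iff _ _ _).mpr (hpoweq _ _ hkl)
    push_cast at h1
    have h2 := mul_left_cancel₀ hqr h1
    have hb' : b = orderOf ((q : ZMod r) ^ 2) := by rw [hb, Nat.cast_pow]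
    rw [Finset.coe_range, hb'] at hk hl
    exact pow_injOn_Iio_orderOf hk hl h2
  obtain ⟨Z, hZ⟩ : ∃ Z, Z = (Finset.range b).image (fun k : ℕ => ζ ^ (q * (q ^ 2) ^ k)) :=
    ⟨_, rfl⟩
  have hZcard : Z.card = b := by
    rw [hZ, Finset.card_image_of_injOn hinj, Finset.card_range]
  have hZroots : ∀ x ∈ Z, x ∈ gK.roots := by
    intro x hx
    rw [hZ, Finset.mem_image] at hx
    obtain ⟨k, -, rfl⟩ := hx
    exact hmem _ (hroot k)
  have hin : ζ ^ (r - 1) ∈ Z := by
    by_contra hnot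
    have h1 : (insert (ζ ^ (r - 1)) Z).val ⊆ gK.roots := by
      intro x hx
      rw [Finset.mem_val, Finset.mem_insert] at hx
      rcases hx with rfl | hx
      · exact hmem _ hroot'
      · exact hZroots x hx
    have h2 := card_le_degree_of_subset_roots h1
    rw [Finset.card_insert_of_notMem hnot, hZcard, hgKdeg] at h2
    omega
  rw [hZ, Finset.mem_image] at hin
  obtain ⟨k, -, hk⟩ := hin
  have h1 := (ZMod.natCast_eq_natCast_iff _ _ _).mpr (hpoweq _ _ hk)
  rw [Nat.cast_mul, Nat.cast_pow, Nat.cast_pow, Nat.cast_sub hr.pos, ZMod.natCast_self, zero_sub,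
    Nat.cast_one, ← pow_mul, ← pow_succ'] at h1
  exact mod_four_of_pow_eq_neg_one hr2 (q : ZMod r) k h1

end roots

section geom

variable {F : Type*} [Field F] [Fintype F] {p q : ℕ} [Fact p.Prime] [CharP F p]
  {φ : F →+* F} {V : Type*} [AddCommGroup V] [Module F V] [Module.Finite F V]
  {B : V →ₛₗ[φ] V →ₗ[F] F} {y : End F V}

/-- a nonzero nondegenerate invariant subspace killed by an irreducible factor of the cyclotomic
polynomial exists only for `ord_r q ≡ 2 (mod 4)` -/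
theorem mod_four_of_UND_irred [DecidableEq F] (hF : Fintype.card F = q ^ 2)
    (hφ : ∀ x, φ x = x ^ q) (hφ2 : ∀ x, φ (φ x) = x) {r : ℕ} [Fact r.Prime] (hrp : r ≠ p)
    (hr2 : r ≠ 2) (hiso : ∀ u v, B (y u) (y v) = B u v) (hy : y ^ r = 1)
    (s : CycFactor.S r F) (Z : Submodule F V) (hZinv : ∀ v ∈ Z, y v ∈ Z)
    (hZs : Z ≤ LinearMap.ker (aeval y s.1)) (hZne : Z ≠ ⊥) (hZnd : UND B Z) :
    orderOf (q : ZMod r) % 4 = 2 := by
  have hr : r.Prime := Fact.out
  apply mod_four_of_dvd hF hφ hrp hr2 s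
  by_contra hnd
  obtain ⟨P, hP⟩ : ∃ P, P = (s.1.map φ).comp (X ^ (r - 1)) := ⟨_, rfl⟩
  rw [← hP] at hnd
  have hPy : ∀ z ∈ Z, aeval y P z = 0 := by
    intro z hz
    apply hZnd _ (aeval_mem_of_invariant y Z hZinv P z hz)
    intro w hw
    rw [hP, aeval_comp, map_pow, aeval_X]
    have hmm : (s.1.map φ).map φ = s.1 := by
      rw [Polynomial.map_map]
      have : φ.comp φ = RingHom.id F := RingHom.ext hφ2
      rw [this, Polynomial.map_id]
    rw [u_adj_aeval B (y ^ (r - 1)) y (u_adj_pow_pred' hiso hr.pos hy) (s.1.map φ) z w, hmm,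
      LinearMap.mem_ker.mp (hZs hw), map_zero]
  obtain ⟨a, b, hab⟩ := ((CycFactor.irreducible_S s).coprime_iff_not_dvd).mpr hnd
  apply hZne
  rw [eq_bot_iff]
  intro z hz
  rw [Submodule.mem_bot]
  have h1 : z = aeval y (a * s.1 + b * P) z := by
    rw [hab, map_one, Module.End.one_apply]
  rw [h1, map_add, LinearMap.add_apply, map_mul, map_mul, Module.End.mul_apply,
    Module.End.mul_apply, LinearMap.mem_ker.mp (hZs hz), hPy z hz, map_zero, map_zero, add_zero]

end geom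

end Cfsg.Agent.Lib.H24.Uti
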