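import Mathlib
import Cfsg.Agent.Lib.H24.UtiSD

set_option autoImplicit false

/-!
# Minimal nondegenerate invariant subspaces for unitary isometries of odd prime order (helper24)

Let `|F| = q²`, `r ≠ p` an odd prime, `i = ord_r q`, `b = ord_r q²` and `c = b` if
`i ≡ 2 (mod 4)`, `c = 2 b` otherwise (`cU`).  For an isometry `y` of order `r` of a hermitian form
every nonzero nondegenerate invariant subspace without fixed vectors contains a nondegenerate
invariant subspace of dimension `c` (`exists_atom_u`); consequently the non-fixed part of a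
nondegenerate invariant subspace has dimension divisible by `c` (`cdvd_finrank_cyc_part_u`).
-/

namespace Cfsg.Agent.Lib.H24.Uti

open Polynomial Module
open Cfsg.Agent.Lib.H11.UFrames (orth mem_orth)
open Cfsg.Agent.Lib.H24.Elus
open Cfsg.Agent.Lib.H13

/-- the dimension of the minimal nondegenerate invariant subspaces -/
noncomputable def cU (q r : ℕ) : ℕ :=
  if orderOf (q : ZMod r) % 4 = 2 then orderOf ((q ^ 2 : ℕ) : ZMod r)
  else 2 * orderOf ((q ^ 2 : ℕ) : ZMod r)

section atom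

variable {F : Type*} [Field F] [Fintype F] {p q : ℕ} [Fact p.Prime] [CharP F p]
  {φ : F →+* F} {V : Type*} [AddCommGroup V] [Module F V] [Module.Finite F V]
  {B : V →ₛₗ[φ] V →ₗ[F] F} {y : End F V}

/-- a totally isotropic irreducible invariant subspace lies in a nondegenerate invariant subspace
of twice the dimension -/
theorem exists_hyp_atom [DecidableEq F] (hF : Fintype.card F = q ^ 2)
    (hφ2 : ∀ x, φ (φ x) = x) (hS : B.IsSymm) {r : ℕ} [Fact r.Prime] (hrp : r ≠ p)
    (hiso : ∀ u v, B (y u) (y v) = B u v) (hy : y ^ r = 1)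
    (U : Submodule F V) (hU : ∀ v ∈ U, y v ∈ U) (hnd : UND B U)
    (hUc : U ≤ LinearMap.ker (aeval y (cyclotomic r F)))
    (W : Submodule F V) (hWU : W ≤ U) (hWinv : ∀ v ∈ W, y v ∈ W)
    (hWi : finrank F W = orderOf ((q ^ 2 : ℕ) : ZMod r)) (hWti : UTI B W) :
    ∃ A : Submodule F V, W ≤ A ∧ A ≤ U ∧ (∀ v ∈ A, y v ∈ A) ∧ UND B A ∧
      finrank F A = 2 * orderOf ((q ^ 2 : ℕ) : ZMod r) := by
  have hr : r.Prime := Fact.out
  have hrF : (r : F) ≠ 0 := CycFactor.natCast_ne_zero hr hrp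
  have hR := refl_of_symm B hS
  have hb0 : 0 < orderOf ((q ^ 2 : ℕ) : ZMod r) := CycFactor.orderOf_pos hF hr hrp
  -- the orthogonal complement of `W` in `U` and an invariant complement of it
  obtain ⟨N, hNdef⟩ : ∃ N, N = U ⊓ orth B W := ⟨_, rfl⟩
  have hNinv : ∀ v ∈ N, y v ∈ N := by
    rw [hNdef]
    exact u_inf_orth_invariant hiso hr.pos hy U W hU hWinv
  have hNne : N ≠ U := by
    intro h
    have hWne : W ≠ ⊥ := by
      intro h0
      rw [h0, finrank_bot] at hWi
      omega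
    obtain ⟨u, hu, hu0⟩ := (Submodule.ne_bot_iff W).mp hWne
    apply hu0
    apply hnd u (hWU hu)
    intro v hv
    rw [← h, hNdef] at hv
    exact (Submodule.mem_inf.mp hv).2 u hu
  obtain ⟨C, hCU, hCinv, hNC, hNCU⟩ := exists_invariant_compl_in hrF hy U N hU hNinv
    (by rw [hNdef]; exact inf_le_left)
  have hCne : C ≠ ⊥ := by
    rintro rfl
    rw [sup_bot_eq] at hNCU
    exact hNne hNCU
  -- the second irreducible subspace
  obtain ⟨s', hs'⟩ := exists_factor hF hrp hy C hCinv (hCU.trans hUc) hCne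
  obtain ⟨u', hu', hu'0⟩ := (Submodule.ne_bot_iff _).mp hs'
  rw [Submodule.mem_inf, LinearMap.mem_ker] at hu'
  obtain ⟨W', hW'def⟩ : ∃ W', W' = cycSub y u' := ⟨_, rfl⟩
  have hW'C : W' ≤ C := by rw [hW'def]; exact cycSub_le y u' C hCinv hu'.1
  have hW'inv : ∀ v ∈ W', y v ∈ W' := by rw [hW'def]; exact cycSub_invariant y u'
  have hW'i : finrank F W' = orderOf ((q ^ 2 : ℕ) : ZMod r) := by
    rw [hW'def]; exact finrank_cycSub hF hrp hy s' u' hu'0 hu'.2
  have hinj : ∀ w' ∈ W', (∀ w ∈ W, B w w' = 0) → w' = 0 := by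
    intro w' hw' h
    have h1 : w' ∈ N ⊓ C := by
      rw [hNdef]
      exact Submodule.mem_inf.mpr ⟨Submodule.mem_inf.mpr ⟨hCU (hW'C hw'), h⟩, hW'C hw'⟩
    rw [hNC] at h1
    exact (Submodule.mem_bot F).mp h1
  have hperf := u_pairing_perfect B hφ2 hR W W' (by rw [hWi, hW'i]) hinj
  refine ⟨W ⊔ W', le_sup_left, sup_le hWU (hW'C.trans hCU), sup_invariant W W' hWinv hW'inv,
    ?_, ?_⟩
  · intro a ha h
    obtain ⟨w, hw, w', hw', rfl⟩ := Submodule.mem_sup.mp ha
    have h1 : w' = 0 := by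
      apply hinj w' hw'
      intro w₁ hw₁
      have := h w₁ (Submodule.mem_sup_left hw₁)
      rw [map_add, LinearMap.add_apply, hWti w hw w₁ hw₁, zero_add] at this
      exact hR _ _ this
    have h2 : w = 0 := by
      apply hperf w hw
      intro w₁ hw₁
      have := h w₁ (Submodule.mem_sup_right hw₁)
      rw [h1, add_zero] at this
      exact this
    rw [h1, h2, add_zero]
  · have h := Submodule.finrank_sup_add_finrank_inf_eq W W'
    have h0 : W ⊓ W' = ⊥ := by
      rw [eq_bot_iff]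
      intro x hx
      rw [Submodule.mem_inf] at hx
      rw [Submodule.mem_bot]
      exact hinj x hx.2 (fun w hw => hWti w hw x hx.1)
    rw [h0, finrank_bot, add_zero, hWi, hW'i] at h
    rw [h]
    ring

theorem cU_pos (hF : Fintype.card F = q ^ 2) {r : ℕ} [Fact r.Prime] (hrp : r ≠ p) :
    0 < cU q r := by
  classical
  have hb0 : 0 < orderOf ((q ^ 2 : ℕ) : ZMod r) := CycFactor.orderOf_pos hF Fact.out hrp
  unfold cU
  split_ifs <;> omega

/-- every nonzero nondegenerate invariant subspace without fixed vectors contains a nondegenerate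
invariant subspace of dimension `c` -/
theorem exists_atom_u (hF : Fintype.card F = q ^ 2) (hφ : ∀ x, φ x = x ^ q)
    (hφ2 : ∀ x, φ (φ x) = x) (hφne : φ ≠ RingHom.id F) (hS : B.IsSymm) {r : ℕ} [Fact r.Prime]
    (hrp : r ≠ p) (hr2 : r ≠ 2)
    (hiso : ∀ u v, B (y u) (y v) = B u v) (hy : y ^ r = 1)
    (U : Submodule F V) (hU : ∀ v ∈ U, y v ∈ U) (hnd : UND B U)
    (hUc : U ≤ LinearMap.ker (aeval y (cyclotomic r F))) (hne : U ≠ ⊥) :
    ∃ A : Submodule F V, A ≤ U ∧ (∀ v ∈ A, y v ∈ A) ∧ UND B A ∧ finrank F A = cU q r := by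
  classical
  have hr : r.Prime := Fact.out
  obtain ⟨s, hs⟩ := exists_factor hF hrp hy U hU hUc hne
  have hsdeg := CycFactor.natDegree_S hF hr hrp s
  unfold cU
  by_cases hi : orderOf (q : ZMod r) % 4 = 2
  · rw [if_pos hi]
    obtain ⟨A, hAU, hAinv, hAnd, hAdim⟩ := exists_nd_irred hS hφne hiso hr.pos hy s.1
      (CycFactor.irreducible_S s) (CycFactor.monic_S s) (U ⊓ LinearMap.ker (aeval y s.1))
      (inf_ker_invariant U hU s.1) inf_le_right
      (UND_ker_factor hF hφ hφ2 hS hrp hiso hy hi s U hU hnd) hs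
    exact ⟨A, hAU.trans inf_le_left, hAinv, hAnd, by rw [hAdim, hsdeg]⟩
  · rw [if_neg hi]
    obtain ⟨u, hu, hu0⟩ := (Submodule.ne_bot_iff _).mp hs
    rw [Submodule.mem_inf, LinearMap.mem_ker] at hu
    have hWU : cycSub y u ≤ U := cycSub_le y u U hU hu.1
    have hWinv : ∀ v ∈ cycSub y u, y v ∈ cycSub y u := cycSub_invariant y u
    have hWi : finrank F (cycSub y u) = orderOf ((q ^ 2 : ℕ) : ZMod r) :=
      finrank_cycSub hF hrp hy s u hu0 hu.2
    have hWs : cycSub y u ≤ LinearMap.ker (aeval y s.1) := cycSub_le_ker y u s.1 hu.2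
    have hWne : cycSub y u ≠ ⊥ := by
      intro h0
      have := self_mem_cycSub y u
      rw [h0] at this
      exact hu0 ((Submodule.mem_bot F).mp this)
    have hWti : UTI B (cycSub y u) := by
      rcases u_ND_or_TI hS hiso hr.pos hy s.1 (CycFactor.irreducible_S s) (cycSub y u) hWinv hWs
        (by rw [hWi, hsdeg]) with h | h
      · exact absurd (mod_four_of_UND_irred hF hφ hφ2 hrp hr2 hiso hy s (cycSub y u) hWinv hWs
          hWne h) hi
      · exact h
    obtain ⟨A, -, hAU, hAinv, hAnd, hAdim⟩ := exists_hyp_atom hF hφ2 hS hrp hiso hy U hU hnd hUc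
      (cycSub y u) hWU hWinv hWi hWti
    exact ⟨A, hAU, hAinv, hAnd, hAdim⟩

/-- the class of nondegenerate invariant subspaces without fixed vectors -/
theorem uPeelClass_cyc (hF : Fintype.card F = q ^ 2) (hφ : ∀ x, φ x = x ^ q)
    (hφ2 : ∀ x, φ (φ x) = x) (hφne : φ ≠ RingHom.id F) (hS : B.IsSymm) {r : ℕ} [Fact r.Prime]
    (hrp : r ≠ p) (hr2 : r ≠ 2)
    (hiso : ∀ u v, B (y u) (y v) = B u v) (hy : y ^ r = 1) :
    UPeelClass B (fun A => A ≤ LinearMap.ker (aeval y (cyclotomic r F)) ∧ (∀ v ∈ A, y v ∈ A) ∧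
      UND B A) (cU q r) where
  pos := by
    classical
    exact cU_pos hF hrp
  bot := ⟨bot_le, fun v hv => by
    rw [Submodule.mem_bot] at hv ⊢
    rw [hv, map_zero], UND_bot B⟩
  nd := fun _ h => h.2.2
  perp := fun U A hU hA hAU => ⟨inf_le_left.trans hU.1,
    u_inf_orth_invariant hiso (Fact.out : r.Prime).pos hy U A hU.2.1 hA.2.1,
    UND_perp_in B (refl_of_symm B hS) U A hU.2.2 hA.2.2 hAU⟩
  sup := fun A A' hA hA' horth => ⟨sup_le hA.1 hA'.1, sup_invariant A A' hA.2.1 hA'.2.1,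
    UND_sup B (refl_of_symm B hS) A A' hA.2.2 hA'.2.2 horth⟩
  atom := fun U hU hne => by
    obtain ⟨A, hAU, hAinv, hAnd, hAc⟩ :=
      exists_atom_u hF hφ hφ2 hφne hS hrp hr2 hiso hy U hU.2.1 hU.2.2 hU.1 hne
    exact ⟨A, hAU, ⟨hAU.trans hU.1, hAinv, hAnd⟩, hAc⟩

theorem cdvd_finrank_cyc_part_u (hF : Fintype.card F = q ^ 2) (hφ : ∀ x, φ x = x ^ q)
    (hφ2 : ∀ x, φ (φ x) = x) (hφne : φ ≠ RingHom.id F) (hS : B.IsSymm) {r : ℕ} [Fact r.Prime]
    (hrp : r ≠ p) (hr2 : r ≠ 2)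
    (hiso : ∀ u v, B (y u) (y v) = B u v) (hy : y ^ r = 1)
    (U : Submodule F V) (hU : ∀ v ∈ U, y v ∈ U) (hnd : UND B U) :
    cU q r ∣ finrank F ↥(U ⊓ LinearMap.ker (aeval y (cyclotomic r F))) := by
  classical
  have hr : r.Prime := Fact.out
  exact u_peel_dvd (refl_of_symm B hS) (uPeelClass_cyc hF hφ hφ2 hφne hS hrp hr2 hiso hy) _
    ⟨inf_le_right, inf_ker_invariant U hU _,
      UND_cyc_part hS hφ2 hiso (CycFactor.natCast_ne_zero hr hrp) hy U hU hnd⟩

end atom

end Cfsg.Agent.Lib.H24.Uti
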