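import Mathlib
import Cfsg.Agent.Lib.H24.UtiAtom
import Cfsg.Agent.Lib.H11.UnitaryTI

set_option autoImplicit false

/-!
# Arithmetic of the order of `-q` modulo `r` and the number of totally isotropic subspaces (helper24)

* `b_eq_orderOf_sq`, `c_eq_cU`: the parameters `b`, `c` of the statement in terms of `ord_r q²` and
  `cU q r`;
* `cU_dvd_of_neg_pow`: `(-q) ^ d = 1` in `ZMod r` implies `cU q r ∣ d`; `neg_pow_cU`;
* `ti_count_consequence`: a prime divisor `r` of the number of totally isotropic `m`-spaces of the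
  `n`-dimensional unitary space is prime to `q` and `(-q) ^ d = 1` modulo `r` for some
  `n - 2 m + 1 ≤ d ≤ n`.
-/

namespace Cfsg.Agent.Lib.H24.Uti

open Cfsg.Agent.Lib.H24.Elus

section arith

theorem b_eq_orderOf_sq (q r i b : ℕ) (hi : i = orderOf (q : ZMod r))
    (hb : b = if Even i then i / 2 else i) : b = orderOf ((q ^ 2 : ℕ) : ZMod r) := by
  subst hi
  by_cases h : Even (orderOf (q : ZMod r))
  · rw [hb, if_pos h, orderOf_sq_of_even q r h]
  · rw [hb, if_neg h, orderOf_sq_of_odd q r h]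

theorem c_eq_cU (q r i c : ℕ) (hi : i = orderOf (q : ZMod r))
    (hc : c = if i % 4 = 0 then i else if i % 4 = 2 then i / 2 else 2 * i) : c = cU q r := by
  subst hi
  unfold cU
  by_cases h0 : orderOf (q : ZMod r) % 4 = 0
  · have he : Even (orderOf (q : ZMod r)) := ⟨orderOf (q : ZMod r) / 2, by omega⟩
    rw [hc, if_pos h0, if_neg (by omega), orderOf_sq_of_even q r he]
    omega
  · by_cases h2 : orderOf (q : ZMod r) % 4 = 2
    · have he : Even (orderOf (q : ZMod r)) := ⟨orderOf (q : ZMod r) / 2, by omega⟩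
      rw [hc, if_neg h0, if_pos h2, if_pos h2, orderOf_sq_of_even q r he]
    · have ho : ¬ Even (orderOf (q : ZMod r)) := by
        rintro ⟨k, hk⟩
        omega
      rw [hc, if_neg h0, if_neg h2, if_neg h2, orderOf_sq_of_odd q r ho]

variable {q r : ℕ} [Fact r.Prime]

theorem neg_one_ne_one_zmod (hr2 : r ≠ 2) : (-1 : ZMod r) ≠ 1 := by
  have hr : r.Prime := Fact.out
  intro h
  have h2 : ((2 : ℕ) : ZMod r) = 0 := by
    have : (1 : ZMod r) + 1 = 0 := by
      nth_rewrite 1 [← h]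
      exact neg_add_cancel 1
    rw [Nat.cast_ofNat, ← one_add_one_eq_two]
    exact this
  rw [ZMod.natCast_eq_zero_iff] at h2
  exact hr2 ((Nat.prime_dvd_prime_iff_eq hr Nat.prime_two).mp h2)

/-- `(-q) ^ d = 1` modulo `r` implies `cU q r ∣ d` -/
theorem cU_dvd_of_neg_pow (hr2 : r ≠ 2) (d : ℕ) (hd : (-(q : ZMod r)) ^ d = 1) :
    cU q r ∣ d := by
  have h1 : (q : ZMod r) ^ (2 * d) = 1 := by
    have h0 : (q : ZMod r) ^ (2 * d) = ((-(q : ZMod r)) ^ d) ^ 2 := by
      rw [← pow_mul, mul_comm d 2, pow_mul (-(q : ZMod r)), neg_sq, ← pow_mul]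
    rw [h0, hd, one_pow]
  have h2 : orderOf (q : ZMod r) ∣ 2 * d := orderOf_dvd_of_pow_eq_one h1
  unfold cU
  by_cases hi2 : orderOf (q : ZMod r) % 4 = 2
  · have he : Even (orderOf (q : ZMod r)) := ⟨orderOf (q : ZMod r) / 2, by omega⟩
    rw [if_pos hi2, orderOf_sq_of_even q r he]
    obtain ⟨k, hk⟩ := h2
    refine ⟨k, ?_⟩
    have h3 : orderOf (q : ZMod r) = 2 * (orderOf (q : ZMod r) / 2) := by omega
    rw [h3, mul_assoc] at hk
    exact Nat.eq_of_mul_eq_mul_left (by norm_num) hk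
  · rw [if_neg hi2]
    by_cases he : Even (orderOf (q : ZMod r))
    · rw [orderOf_sq_of_even q r he]
      have hi0 : orderOf (q : ZMod r) % 4 = 0 := by
        obtain ⟨k, hk⟩ := he
        omega
      have h3 : orderOf (q : ZMod r) = 2 * (orderOf (q : ZMod r) / 2) := by omega
      have h4 : orderOf (q : ZMod r) / 2 ∣ d := by
        obtain ⟨k, hk⟩ := h2
        refine ⟨k, ?_⟩
        rw [h3, mul_assoc] at hk
        exact Nat.eq_of_mul_eq_mul_left (by norm_num) hk
      have h5 : Even d := by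
        have : 2 ∣ orderOf (q : ZMod r) / 2 := by omega
        exact even_iff_two_dvd.mpr (this.trans h4)
      rw [← h3]
      apply orderOf_dvd_of_pow_eq_one
      rw [← hd, h5.neg_pow]
    · rw [orderOf_sq_of_odd q r he]
      have ho : Odd (orderOf (q : ZMod r)) := Nat.not_even_iff_odd.mp he
      have h3 : orderOf (q : ZMod r) ∣ d :=
        (Nat.Coprime.dvd_mul_left (Nat.coprime_two_right.mpr ho)).mp h2
      have h4 : (q : ZMod r) ^ d = 1 := orderOf_dvd_iff_pow_eq_one.mp h3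
      have h5 : Even d := by
        by_contra hodd
        have hodd' : Odd d := Nat.not_even_iff_odd.mp hodd
        rw [hodd'.neg_pow, h4] at hd
        exact neg_one_ne_one_zmod hr2 hd
      exact Nat.Coprime.mul_dvd_of_dvd_of_dvd (Nat.coprime_two_left.mpr ho)
        (even_iff_two_dvd.mp h5) h3

/-- `(-q) ^ c = 1` modulo `r` for `c = cU q r` -/
theorem neg_pow_cU (hi0 : 0 < orderOf (q : ZMod r)) : (-(q : ZMod r)) ^ cU q r = 1 := by
  unfold cU
  by_cases hi2 : orderOf (q : ZMod r) % 4 = 2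
  · have he : Even (orderOf (q : ZMod r)) := ⟨orderOf (q : ZMod r) / 2, by omega⟩
    rw [if_pos hi2, orderOf_sq_of_even q r he]
    have h1 := dvd_pow_half_add_one q r he hi0
    rw [← ZMod.natCast_eq_zero_iff, Nat.cast_add, Nat.cast_pow, Nat.cast_one] at h1
    have hodd : Odd (orderOf (q : ZMod r) / 2) := by
      rw [Nat.odd_iff]
      omega
    rw [hodd.neg_pow]
    linear_combination (-1 : ZMod r) * h1
  · rw [if_neg hi2]
    rw [Even.neg_pow ⟨orderOf ((q ^ 2 : ℕ) : ZMod r), by ring⟩, pow_mul, ← Nat.cast_pow]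
    exact pow_orderOf_eq_one _

end arith

section count

open Cfsg.Agent.Lib.H11.UFrames (isoNZ card_ti_mul)

variable {F : Type*} [Field F] [Fintype F] {p q : ℕ} [Fact p.Prime] [CharP F p]

theorem p_dvd_q (hF : Fintype.card F = q ^ 2) : p ∣ q := by
  obtain ⟨f, hf⟩ := exists_q_eq_pow (p := p) hF
  have h1 : 1 < Fintype.card F := Fintype.one_lt_card
  rcases Nat.eq_zero_or_pos f with h | h
  · rw [h, pow_zero] at hf
    rw [hF, hf] at h1
    omega
  · rw [hf]
    exact dvd_pow_self p h.ne'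

theorem not_dvd_isoNZ {t : ℕ} (ht : t.Prime) (hq0 : 0 < q) (htq : t ∣ q) (d : ℕ) (hd : 2 ≤ d) :
    ¬ t ∣ isoNZ q d := by
  intro h
  have h1 : ∀ e : ℕ, 1 ≤ e → t ∣ q ^ e := fun e he => htq.trans (dvd_pow_self q (by omega))
  have hone : ¬ t ∣ 1 := fun h => ht.one_lt.ne' (Nat.dvd_one.mp h)
  have hsub : ∀ e : ℕ, 1 ≤ e → ¬ t ∣ q ^ e - 1 := by
    intro e he h2
    have h3 : q ^ e = (q ^ e - 1) + 1 := by
      have := Nat.one_le_pow e q hq0
      omega
    have h4 := h1 e he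
    rw [h3] at h4
    exact hone ((Nat.dvd_add_right h2).mp h4)
  have hadd : ∀ e : ℕ, 1 ≤ e → ¬ t ∣ q ^ e + 1 := by
    intro e he h2
    exact hone ((Nat.dvd_add_right (h1 e he)).mp h2)
  unfold isoNZ at h
  split_ifs at h
  · rcases (Nat.Prime.dvd_mul ht).mp h with h2 | h2
    · exact hsub d (by omega) h2
    · exact hadd (d - 1) (by omega) h2
  · rcases (Nat.Prime.dvd_mul ht).mp h with h2 | h2
    · exact hadd d (by omega) h2
    · exact hsub (d - 1) (by omega) h2

/-- consequences of `r` dividing the number of totally isotropic `m`-spaces -/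
theorem ti_count_consequence (hF : Fintype.card F = q ^ 2) (n m : ℕ)
    (hmn : 2 * m ≤ n) (r : ℕ) [Fact r.Prime]
    (hrΩ : r ∣ Nat.card {W : Submodule F (Fin n → F) // Module.finrank F ↥W = m ∧
      (∀ u ∈ W, ∀ v ∈ W, Cfsg.hermForm n F q u v = 0)}) :
    r ≠ p ∧ ∃ d, n + 1 ≤ d + 2 * m ∧ d ≤ n ∧ 1 ≤ d ∧ (-(q : ZMod r)) ^ d = 1 := by
  have hr : r.Prime := Fact.out
  have hq0 : 0 < q := q_pos hF
  have key := card_ti_mul hF n m
  have hQ : 0 < ∏ i : Fin m, (q ^ 2) ^ (i : ℕ) :=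
    Finset.prod_pos (fun i _ => pow_pos (pow_pos hq0 2) _)
  have h1 : ∏ i : Fin m, ((q ^ 2) ^ m - (q ^ 2) ^ (i : ℕ)) =
      (∏ i : Fin m, (q ^ 2) ^ (i : ℕ)) * ∏ i : Fin m, ((q ^ 2) ^ (m - (i : ℕ)) - 1) := by
    rw [← Finset.prod_mul_distrib]
    apply Finset.prod_congr rfl
    intro i _
    have hi : (i : ℕ) + (m - (i : ℕ)) = m := by
      have := i.2
      omega
    rw [Nat.mul_sub, mul_one, ← pow_add, hi]
  have h2 : ∏ j : Fin m, ((q ^ 2) ^ (j : ℕ) * isoNZ q (n - 2 * j)) =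
      (∏ i : Fin m, (q ^ 2) ^ (i : ℕ)) * ∏ j : Fin m, isoNZ q (n - 2 * j) :=
    Finset.prod_mul_distrib
  rw [h1, h2, mul_left_comm] at key
  have key2 := Nat.eq_of_mul_eq_mul_left hQ key
  have h3 : r ∣ ∏ j : Fin m, isoNZ q (n - 2 * j) := by
    rw [← key2]
    exact Dvd.dvd.mul_right hrΩ _
  obtain ⟨j, -, hj⟩ := (Prime.dvd_finsetProd_iff (Nat.Prime.prime hr) _).mp h3
  have hj2 := j.2
  have hd2 : 2 ≤ n - 2 * (j : ℕ) := by omega
  have hrq : ¬ r ∣ q := fun h => not_dvd_isoNZ hr hq0 h _ hd2 hj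
  refine ⟨?_, ?_⟩
  · intro h
    apply hrq
    rw [h]
    exact p_dvd_q hF
  · obtain ⟨d, hd⟩ : ∃ d, d = n - 2 * (j : ℕ) := ⟨_, rfl⟩
    rw [← hd] at hj hd2
    have hcast : ∀ e : ℕ, r ∣ q ^ e - 1 → (q : ZMod r) ^ e = 1 := by
      intro e he
      rw [← ZMod.natCast_eq_zero_iff, Nat.cast_sub (Nat.one_le_pow e q hq0), Nat.cast_pow,
        Nat.cast_one, sub_eq_zero] at he
      exact he
    have hcast' : ∀ e : ℕ, r ∣ q ^ e + 1 → (q : ZMod r) ^ e = -1 := by
      intro e he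
      rw [← ZMod.natCast_eq_zero_iff, Nat.cast_add, Nat.cast_pow, Nat.cast_one] at he
      exact eq_neg_of_add_eq_zero_left he
    unfold isoNZ at hj
    split_ifs at hj with he
    · rcases (Nat.Prime.dvd_mul hr).mp hj with h | h
      · refine ⟨d, by omega, by omega, by omega, ?_⟩
        rw [he.neg_pow]
        exact hcast d h
      · refine ⟨d - 1, by omega, by omega, by omega, ?_⟩
        have hodd : Odd (d - 1) := by
          obtain ⟨k, hk⟩ := he
          exact ⟨k - 1, by omega⟩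
        rw [hodd.neg_pow, hcast' (d - 1) h, neg_neg]
    · have hodd : Odd d := Nat.not_even_iff_odd.mp he
      rcases (Nat.Prime.dvd_mul hr).mp hj with h | h
      · refine ⟨d, by omega, by omega, by omega, ?_⟩
        rw [hodd.neg_pow, hcast' d h, neg_neg]
      · refine ⟨d - 1, by omega, by omega, by omega, ?_⟩
        have hev : Even (d - 1) := by
          obtain ⟨k, hk⟩ := hodd
          exact ⟨k, by omega⟩
        rw [hev.neg_pow]
        exact hcast (d - 1) h

end count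

end Cfsg.Agent.Lib.H24.Uti
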