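import Mathlib
import Cfsg.Agent.Lib.H24.OqStd
import Cfsg.Agent.Lib.H13.OSS1
import Cfsg.Agent.Lib.H24.UtiOrd

set_option autoImplicit false

/-!
# Isometries of quadratic spaces: restriction, the type of the fixed space (helper24)

* `resQ Q U`: the restriction of `Q` to a subspace, nondegenerate if `NDon (PB Q) U`;
* `zc_modEq_fix`: `Z(V) ≡ Z(C_V(y)) (mod r)` for an isometry `y` with `y ^ r = 1`;
* `isSg_of_hyp_compl`: if `V = A ⊥ A'` and `A'` contains a totally singular subspace of half its
  dimension, then `A` has the type of `V`;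
* `sg_parity_of_modEq`: the type of a nondegenerate subspace of codimension `b * i` (`i = ord_r q`
  even) whose number of singular vectors is congruent to that of `V` modulo `r`.
-/

namespace Cfsg.Agent.Lib.H24.Oq

open Module QuadraticMap Polynomial
open Cfsg.Agent.Lib.H24.Elus Cfsg.Agent.Lib.H10.OrtNd

section res

variable {F V : Type*} [Field F] [AddCommGroup V] [Module F V] (Q : QuadraticForm F V)

/-- the restriction of a quadratic form to a subspace -/
noncomputable def resQ (U : Submodule F V) : QuadraticForm F ↥U := Q.comp U.subtype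

theorem resQ_apply (U : Submodule F V) (u : ↥U) : resQ Q U u = Q (u : V) := rfl

theorem polar_resQ (U : Submodule F V) (u v : ↥U) :
    polar (⇑(resQ Q U)) u v = polar (⇑Q) (u : V) (v : V) := rfl

theorem resQ_nondegenerate {U : Submodule F V} (hU : NDon (PB Q) U) :
    (polarBilin (resQ Q U)).Nondegenerate := by
  constructor
  · intro x hx
    apply Subtype.ext
    apply hU x x.2
    intro v hv
    exact hx ⟨v, hv⟩
  · intro y hy
    apply Subtype.ext
    apply hU y y.2
    intro v hv
    have := hy ⟨v, hv⟩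
    exact (PB_symm Q _ _).trans this

theorem NDon_top_of_nondegenerate (hQ : (polarBilin Q).Nondegenerate) : NDon (PB Q) ⊤ := by
  intro u _ h
  exact hQ.1 u (fun v => h v Submodule.mem_top)

theorem polar_iso (y : End F V) (hy : ∀ v, Q (y v) = Q v) (u v : V) :
    PB Q (y u) (y v) = PB Q u v := by
  show polar (⇑Q) (y u) (y v) = polar (⇑Q) u v
  unfold polar
  rw [← map_add, hy, hy, hy]

/-- a totally singular subspace of the restriction gives one of the ambient space -/
theorem ts_map_of_res (U : Submodule F V) (W : Submodule F ↥U) (hW : TS (resQ Q U) W) :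
    TS Q (W.map U.subtype) ∧ W.map U.subtype ≤ U ∧
      finrank F ↥(W.map U.subtype) = finrank F W := by
  refine ⟨?_, ?_, Submodule.finrank_map_subtype_eq U W⟩
  · rintro _ ⟨w, hw, rfl⟩
    exact hW w hw
  · rintro _ ⟨w, _, rfl⟩
    exact w.2

/-- a totally singular subspace inside `U` gives one of the restriction -/
theorem ts_comap_of_le (U W : Submodule F V) (hWU : W ≤ U) (hW : TS Q W) :
    TS (resQ Q U) (W.comap U.subtype) ∧ finrank F ↥(W.comap U.subtype) = finrank F W := by
  refine ⟨?_, (Submodule.comapSubtypeEquivOfLe hWU).finrank_eq⟩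
  intro w hw
  exact hW _ hw

end res

section congr

variable {F V : Type*} [Field F] [Fintype F] [AddCommGroup V] [Module F V]
  [FiniteDimensional F V] (Q : QuadraticForm F V)

/-- the number of singular vectors is congruent to that of the fixed space -/
theorem zc_modEq_fix (y : End F V) (hiso : ∀ v, Q (y v) = Q v) (r : ℕ) [Fact r.Prime]
    (hy : y ^ r = 1) :
    Zc Q ≡ Zc (resQ Q (LinearMap.ker (aeval y (X - 1 : F[X])))) [MOD r] := by
  classical
  haveI : Finite V := Module.finite_of_finite F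
  haveI : Fintype V := Fintype.ofFinite V
  set Fx := LinearMap.ker (aeval y (X - 1 : F[X])) with hFx
  let f : Function.End {v : V // Q v = 0} := fun v => ⟨y v.1, by rw [hiso]; exact v.2⟩
  have hfpow : ∀ k : ℕ, ∀ v : {v : V // Q v = 0}, ((f ^ k) v).1 = (y ^ k) v.1 := by
    intro k
    induction k with
    | zero => intro v; rfl
    | succ k ih =>
      intro v
      rw [pow_succ', pow_succ']
      show y ((f ^ k) v).1 = y ((y ^ k) v.1)
      rw [ih]
  have hfr : f ^ r ^ 1 = 1 := by
    rw [pow_one]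
    funext v
    apply Subtype.ext
    rw [hfpow, hy]
    rfl
  have hmod := Equiv.Perm.card_fixedPoints_modEq (p := r) (n := 1) hfr
  have e : ↥(Function.fixedPoints f) ≃ {u : ↥Fx // resQ Q Fx u = 0} :=
    { toFun := fun v => ⟨⟨v.1.1, by
          exact (mem_fix_iff v.1.1).mpr (congrArg Subtype.val v.2)⟩, v.1.2⟩
      invFun := fun u => ⟨⟨u.1.1, u.2⟩, by
          apply Subtype.ext
          show y u.1.1 = u.1.1
          exact (mem_fix_iff u.1.1).mp u.1.2⟩
      left_inv := fun v => rfl
      right_inv := fun u => rfl }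
  unfold Zc
  rw [Nat.card_eq_fintype_card, ← Nat.card_congr e, Nat.card_eq_fintype_card]
  exact hmod

end congr

section hyp

variable {F V : Type*} [Field F] [Fintype F] [AddCommGroup V] [Module F V]
  [FiniteDimensional F V] (Q : QuadraticForm F V)

/-- if `V = A ⊥ A'` and `A'` contains a totally singular subspace of half its dimension, then `A`
has the type of `V` -/
theorem isSg_of_hyp_compl (hQ : (polarBilin Q).Nondegenerate) {d e : ℕ} (h : IsSg Q d e)
    (A A' T₀ : Submodule F V) (hA : NDon (PB Q) A) (hA' : NDon (PB Q) A')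
    (horth : ∀ u ∈ A, ∀ w ∈ A', PB Q u w = 0) (hsup : A ⊔ A' = ⊤)
    (hT₀ : T₀ ≤ A') (hT₀ts : TS Q T₀) (f t₀ : ℕ) (hAf : finrank F A = 2 * f)
    (hT₀d : finrank F T₀ = t₀) (hA'd : finrank F A' = 2 * t₀) :
    IsSg (resQ Q A) f e := by
  have hinf : A ⊓ A' = ⊥ := inf_eq_bot_of_orthS (PB Q) (PB_symm Q) A A' hA horth
  have hdim : 2 * d = 2 * f + 2 * t₀ := by
    have h1 := Submodule.finrank_sup_add_finrank_inf_eq A A'
    rw [hsup, hinf, finrank_bot, add_zero, finrank_top, h.1, hAf, hA'd] at h1
    exact h1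
  obtain ⟨e', he'⟩ := exists_isSg (resQ Q A) (resQ_nondegenerate Q hA) f hAf
  have he'1 := he'.le_one
  have he1 := h.le_one
  have he'f := he'.e_le
  have hed := h.e_le
  suffices hee : e' = e by rw [← hee]; exact he'
  have hT₀A : ∀ u ∈ A, ∀ w ∈ T₀, PB Q u w = 0 := fun u hu w hw => horth u hu w (hT₀ hw)
  -- `e ≤ e'`
  have h1 : e ≤ e' := by
    obtain ⟨S₀, hS₀, hS₀d⟩ := exists_ts_of_isSg (resQ Q A) (resQ_nondegenerate Q hA) he'
    obtain ⟨hS, hSA, hSd⟩ := ts_map_of_res Q A S₀ hS₀
    have hts : TS Q (S₀.map A.subtype ⊔ T₀) := by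
      intro v hv
      obtain ⟨s, hs, t, ht, rfl⟩ := Submodule.mem_sup.mp hv
      rw [Q_add_eq, hS s hs, hT₀ts t ht, zero_add, zero_add]
      exact hT₀A s (hSA hs) t ht
    have hdisj : S₀.map A.subtype ⊓ T₀ = ⊥ := by
      rw [eq_bot_iff, ← hinf]
      exact inf_le_inf hSA hT₀
    have h2 := Submodule.finrank_sup_add_finrank_inf_eq (S₀.map A.subtype) T₀
    rw [hdisj, finrank_bot, add_zero, hSd, hS₀d, hT₀d] at h2
    have h3 := ts_le_of_isSg Q hQ h _ hts
    omega
  -- `e' ≤ e`
  have h2 : e' ≤ e := by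
    obtain ⟨M, hT₀M, hM, hMd⟩ := ts_extend Q hQ h T₀ hT₀ts
    -- `M = (M ⊓ A) ⊔ T₀`
    have hperp : A' ⊓ (PB Q).orthogonal T₀ = T₀ := by
      have h3 : T₀ ≤ A' ⊓ (PB Q).orthogonal T₀ := by
        intro v hv
        refine Submodule.mem_inf.mpr ⟨hT₀ hv, ?_⟩
        intro u hu
        exact polar_zero_of_ts Q T₀ hT₀ts hu hv
      have h4 : finrank F ↥(A' ⊓ (PB Q).orthogonal T₀) ≤ finrank F T₀ := by
        -- via the restriction of the form to `A'`
        have hndA' := resQ_nondegenerate Q hA'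
        have h5 := LinearMap.BilinForm.finrank_orthogonal hndA' (T₀.comap A'.subtype)
        have h6 : finrank F ↥(T₀.comap A'.subtype) = t₀ := by
          rw [(Submodule.comapSubtypeEquivOfLe hT₀).finrank_eq, hT₀d]
        have h7 : finrank F ↥(A' ⊓ (PB Q).orthogonal T₀) ≤
            finrank F ↥(LinearMap.BilinForm.orthogonal (polarBilin (resQ Q A')) (T₀.comap A'.subtype)) := by
          have hmap : A' ⊓ (PB Q).orthogonal T₀ ≤
              (LinearMap.BilinForm.orthogonal (polarBilin (resQ Q A')) (T₀.comap A'.subtype)).map A'.subtype := by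
            intro v hv
            obtain ⟨hvA', hvT⟩ := Submodule.mem_inf.mp hv
            refine ⟨⟨v, hvA'⟩, ?_, rfl⟩
            intro u hu
            exact hvT u.1 hu
          calc finrank F ↥(A' ⊓ (PB Q).orthogonal T₀)
              ≤ finrank F ↥((LinearMap.BilinForm.orthogonal (polarBilin (resQ Q A'))
                  (T₀.comap A'.subtype)).map A'.subtype) := Submodule.finrank_mono hmap
            _ = _ := Submodule.finrank_map_subtype_eq _ _
        rw [h6, hA'd] at h5
        rw [hT₀d]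
        omega
      exact (Submodule.eq_of_le_of_finrank_le h3 h4).symm
    have hMsplit : M ≤ (M ⊓ A) ⊔ T₀ := by
      intro v hv
      have hvtop : v ∈ A ⊔ A' := by rw [hsup]; exact Submodule.mem_top
      obtain ⟨a, ha, a', ha', rfl⟩ := Submodule.mem_sup.mp hvtop
      have ha'T : a' ∈ T₀ := by
        rw [← hperp]
        refine Submodule.mem_inf.mpr ⟨ha', ?_⟩
        intro u hu
        have h3 : PB Q u (a + a') = 0 := polar_zero_of_ts Q M hM (hT₀M hu) hv
        rw [map_add, PB_symm Q u a, hT₀A a ha u hu, zero_add] at h3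
        exact h3
      refine Submodule.mem_sup.mpr ⟨a, Submodule.mem_inf.mpr ⟨?_, ha⟩, a', ha'T, rfl⟩
      have : a = (a + a') - a' := by abel
      rw [this]
      exact M.sub_mem hv (hT₀M ha'T)
    have hdisj : (M ⊓ A) ⊓ T₀ = ⊥ := by
      rw [eq_bot_iff, ← hinf]
      exact inf_le_inf inf_le_right hT₀
    have h3 := Submodule.finrank_sup_add_finrank_inf_eq (M ⊓ A) T₀
    rw [hdisj, finrank_bot, add_zero, hT₀d] at h3
    have h4 := Submodule.finrank_mono hMsplit
    rw [hMd, h3] at h4
    -- `M ⊓ A` is totally singular in `A`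
    obtain ⟨hts, hdim'⟩ := ts_comap_of_le Q A (M ⊓ A) inf_le_right
      (fun v hv => hM v (Submodule.mem_inf.mp hv).1)
    have h5 := ts_le_of_isSg (resQ Q A) (resQ_nondegenerate Q hA) he' _ hts
    rw [hdim'] at h5
    omega
  omega

end hyp

section parity

variable {q r : ℕ} [Fact r.Prime]

/-- the defining equation of `IsSg` modulo `r` -/
theorem isSg_zmod {F V : Type*} [Field F] [Fintype F] [AddCommGroup V] [Module F V]
    [FiniteDimensional F V] (Q : QuadraticForm F V) (hF : Fintype.card F = q) {k e : ℕ}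
    (h : IsSg Q k e) :
    (q : ZMod r) * (Zc Q : ZMod r) =
      (q : ZMod r) ^ (2 * k) + (-1) ^ e * ((q : ZMod r) ^ (k + 1) - (q : ZMod r) ^ k) := by
  rcases h.2 with ⟨rfl, hZ⟩ | ⟨rfl, hZ⟩
  · rw [hF] at hZ
    have := congrArg (fun n : ℕ => (n : ZMod r)) hZ
    simp only [Nat.cast_add, Nat.cast_mul, Nat.cast_pow] at this
    linear_combination this
  · rw [hF] at hZ
    have := congrArg (fun n : ℕ => (n : ZMod r)) hZ
    simp only [Nat.cast_add, Nat.cast_mul, Nat.cast_pow] at this
    linear_combination this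

/-- the parity rule for the type of the fixed space, `ord_r q` even -/
theorem sg_parity_of_eq (hr2 : r ≠ 2) (hq : (q : ZMod r) ≠ 0) (h : ℕ)
    (hi : orderOf (q : ZMod r) = 2 * h) (hh : 0 < h) (Z : ZMod r) (d f b e e' : ℕ)
    (hd : d = f + b * h)
    (h1 : (q : ZMod r) * Z =
      (q : ZMod r) ^ (2 * d) + (-1) ^ e * ((q : ZMod r) ^ (d + 1) - (q : ZMod r) ^ d))
    (h2 : (q : ZMod r) * Z =
      (q : ZMod r) ^ (2 * f) + (-1) ^ e' * ((q : ZMod r) ^ (f + 1) - (q : ZMod r) ^ f)) :
    Even (e + b + e') := by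
  have hr : r.Prime := Fact.out
  set x := (q : ZMod r) with hx
  have hxi : x ^ (2 * h) = 1 := by rw [← hi]; exact pow_orderOf_eq_one x
  have hxh : x ^ h = -1 := by
    have h3 : x ^ h * x ^ h = 1 := by rw [← pow_add, ← two_mul, hxi]
    have h4 : x ^ h ≠ 1 := by
      intro h5
      have := orderOf_dvd_of_pow_eq_one h5
      rw [hi] at this
      have := Nat.le_of_dvd hh this
      omega
    rcases mul_self_eq_one_iff.mp h3 with h5 | h5
    · exact absurd h5 h4
    · exact h5
  have hx1 : x - 1 ≠ 0 := by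
    intro h5
    have h6 : x ^ 1 = 1 := by rw [pow_one]; exact sub_eq_zero.mp h5
    have := orderOf_dvd_of_pow_eq_one h6
    rw [hi] at this
    have := Nat.le_of_dvd one_pos this
    omega
  have hxd : x ^ d = x ^ f * (-1) ^ b := by
    rw [hd, pow_add, mul_comm b h, pow_mul, hxh]
  have hx2d : x ^ (2 * d) = x ^ (2 * f) := by
    have h5 : 2 * (f + b * h) = 2 * f + b * (2 * h) := by ring
    rw [hd, h5, pow_add, pow_mul' x b (2 * h), hxi, one_pow, mul_one]
  have hxd1 : x ^ (d + 1) = x ^ (f + 1) * (-1) ^ b := by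
    rw [pow_succ, hxd, pow_succ]
    ring
  rw [hx2d, hxd, hxd1] at h1
  have h3 : ((-1 : ZMod r) ^ e * (-1) ^ b - (-1) ^ e') * (x ^ f * (x - 1)) = 0 := by
    linear_combination h2 - h1
  have h4 : (-1 : ZMod r) ^ e * (-1) ^ b - (-1) ^ e' = 0 := by
    rcases mul_eq_zero.mp h3 with h5 | h5
    · exact h5
    · exfalso
      rcases mul_eq_zero.mp h5 with h6 | h6
      · exact pow_ne_zero f hq h6
      · exact hx1 h6
  have hne : (-1 : ZMod r) ≠ 1 := Cfsg.Agent.Lib.H24.Uti.neg_one_ne_one_zmod hr2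
  rw [← neg_one_pow_eq_one_iff_even hne, pow_add, pow_add]
  have h5 : (-1 : ZMod r) ^ e * (-1) ^ b = (-1) ^ e' := sub_eq_zero.mp h4
  rw [h5, ← pow_add, ← two_mul, pow_mul]
  norm_num

end parity

end Cfsg.Agent.Lib.H24.Oq
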