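import Mathlib
import Cfsg.Agent.Lib.H24.OqIso
import Cfsg.Agent.Lib.H24.ElusTiSuff

set_option autoImplicit false

/-!
# Isometries of odd prime order of even-dimensional quadratic spaces (helper24, all characteristics)

For an isometry `y` of a nondegenerate quadratic space `(V, Q)` of dimension `2 d` and type `e` over
the field with `q` elements, `y ^ r = 1`, `r` an odd prime different from the characteristic,
`i = ord_r q`:
* `ts_of_ti_cyc`: invariant totally isotropic subspaces of the non-fixed part are totally singular;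
* `struct_quad`: the fixed space is nondegenerate of dimension `2 f` and of type `e_F`, where
  `e_F = e` for `i` odd and `e_F ≡ e + b` for `i` even (`b i` the dimension of the non-fixed part);
* `exists_ts_invariant_quad`: invariant totally singular subspaces.
-/

namespace Cfsg.Agent.Lib.H24.Oq

open Module QuadraticMap Polynomial
open Cfsg.Agent.Lib.H24.Elus Cfsg.Agent.Lib.H10.OrtNd Cfsg.Agent.Lib.H13.OSS Cfsg.Agent.Lib.H13

section ts

variable {F V : Type*} [Field F] [AddCommGroup V] [Module F V] [FiniteDimensional F V]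
  (Q : QuadraticForm F V)

/-- invariant totally isotropic subspaces of the non-fixed part are totally singular -/
theorem ts_of_ti_cyc (y : End F V) (hiso : ∀ v, Q (y v) = Q v) (r : ℕ) [Fact r.Prime]
    (hr0 : (r : F) ≠ 0) (W : Submodule F V) (hW : ∀ v ∈ W, y v ∈ W)
    (hWc : W ≤ LinearMap.ker (aeval y (cyclotomic r F))) (hti : TIon (PB Q) W) : TS Q W := by
  obtain ⟨T, hT⟩ : ∃ T : End F V, T = y - 1 := ⟨_, rfl⟩
  have hTapp : ∀ v, T v = y v - v := fun v => by rw [hT]; rfl
  have hTW : ∀ v ∈ W, T v ∈ W := by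
    intro v hv
    rw [hTapp]
    exact Submodule.sub_mem _ (hW v hv) hv
  have hinj : Function.Injective (T.restrict hTW) := by
    rw [← LinearMap.ker_eq_bot, LinearMap.ker_eq_bot']
    intro a ha
    apply Subtype.ext
    have h1 : T a.1 = 0 := congrArg Subtype.val ha
    rw [hTapp] at h1
    have h2 : a.1 ∈ LinearMap.ker (aeval y (X - 1 : F[X])) ⊓
        LinearMap.ker (aeval y (cyclotomic r F)) :=
      Submodule.mem_inf.mpr ⟨(mem_fix_iff a.1).mpr (sub_eq_zero.mp h1), hWc a.2⟩
    rw [fix_inf_cyc hr0] at h2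
    exact (Submodule.mem_bot F).mp h2
  have hsurj : Function.Surjective (T.restrict hTW) := LinearMap.injective_iff_surjective.mp hinj
  intro w hw
  obtain ⟨u, hu⟩ := hsurj ⟨w, hw⟩
  have h1 : w = y u.1 - u.1 := by
    rw [← hTapp]
    exact (congrArg Subtype.val hu).symm
  have h2 : PB Q (y u.1) u.1 = 0 := hti _ (hW _ u.2) _ u.2
  have h3 : PB Q u.1 u.1 = 0 := hti _ u.2 _ u.2
  rw [PB_self] at h3
  rw [PB_apply] at h2
  have h4 : Q (y u.1) = Q (y u.1 - u.1) + Q u.1 + polar (⇑Q) (y u.1 - u.1) u.1 := by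
    have := Q_add_eq Q (y u.1 - u.1) u.1
    rwa [sub_add_cancel] at this
  rw [polar_sub_left, hiso] at h4
  have h5 : polar (⇑Q) u.1 u.1 = 2 * Q u.1 := by
    rw [QuadraticMap.polar_self, two_smul, two_mul]
  rw [h1]
  linear_combination -h4 - h2 + h5 + h3

end ts

section struct

variable {F V : Type*} [Field F] [Fintype F] {p q : ℕ} [Fact p.Prime] [CharP F p]
  [AddCommGroup V] [Module F V] [FiniteDimensional F V] (Q : QuadraticForm F V)

theorem natCast_card_ne_zero (hF : Fintype.card F = q) {r : ℕ} [Fact r.Prime] (hrp : r ≠ p) :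
    (q : ZMod r) ≠ 0 := by
  classical
  have hr : r.Prime := Fact.out
  have hi0 : 0 < orderOf (q : ZMod r) := CycFactor.orderOf_pos hF hr hrp
  intro h0
  rw [h0] at hi0
  have : orderOf (0 : ZMod r) = 0 := by
    rw [orderOf_eq_zero_iff']
    intro n hn
    rw [zero_pow hn.ne']
    exact zero_ne_one
  omega

/-- the structure of an isometry of odd prime order `r ≠ p` of a nondegenerate quadratic space of
dimension `2 d` and type `e` -/
theorem struct_quad (hF : Fintype.card F = q) {r : ℕ} [Fact r.Prime] (hrp : r ≠ p) (hr2 : r ≠ 2)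
    (hQ : (polarBilin Q).Nondegenerate) {d e : ℕ} (hsg : IsSg Q d e)
    (y : End F V) (hiso : ∀ v, Q (y v) = Q v) (hy : y ^ r = 1) :
    NDon (PB Q) (LinearMap.ker (aeval y (X - 1 : F[X]))) ∧
    NDon (PB Q) (LinearMap.ker (aeval y (cyclotomic r F))) ∧
    NDon (twB (PB Q) y r) (LinearMap.ker (aeval y (cyclotomic r F))) ∧
    (∀ u ∈ LinearMap.ker (aeval y (X - 1 : F[X])),
      ∀ w ∈ LinearMap.ker (aeval y (cyclotomic r F)), PB Q u w = 0) ∧
    ∃ f a eF, finrank F (LinearMap.ker (aeval y (X - 1 : F[X]))) = 2 * f ∧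
      finrank F (LinearMap.ker (aeval y (cyclotomic r F))) = cOf (orderOf (q : ZMod r)) * a ∧
      2 * f + cOf (orderOf (q : ZMod r)) * a = 2 * d ∧
      IsSg (resQ Q (LinearMap.ker (aeval y (X - 1 : F[X])))) f eF ∧
      (¬ Even (orderOf (q : ZMod r)) → eF = e) ∧
      (Even (orderOf (q : ZMod r)) → Even (e + a + eF)) := by
  classical
  have hr : r.Prime := Fact.out
  have hrF : (r : F) ≠ 0 := CycFactor.natCast_ne_zero hr hrp
  have hi0 : 0 < orderOf (q : ZMod r) := CycFactor.orderOf_pos hF hr hrp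
  have hsym := PB_symm Q
  have hisoB : ∀ u v, PB Q (y u) (y v) = PB Q u v := polar_iso Q y hiso
  have hndV : NDon (PB Q) ⊤ := NDon_top_of_nondegenerate Q hQ
  have htopinv : ∀ v ∈ (⊤ : Submodule F V), y v ∈ (⊤ : Submodule F V) := fun _ _ =>
    Submodule.mem_top
  have hsplit := finrank_split_fix hrF hy ⊤ htopinv
  rw [top_inf_eq, top_inf_eq, finrank_top, hsg.1] at hsplit
  have hFxnd : NDon (PB Q) (LinearMap.ker (aeval y (X - 1 : F[X]))) := by
    have := NDon_fix_partS hsym hisoB hrF hy ⊤ htopinv hndV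
    rwa [top_inf_eq] at this
  have hCynd : NDon (PB Q) (LinearMap.ker (aeval y (cyclotomic r F))) := by
    have := NDon_cyc_partS hsym hisoB hrF hy ⊤ htopinv hndV
    rwa [top_inf_eq] at this
  have hCyinv : ∀ v ∈ LinearMap.ker (aeval y (cyclotomic r F)),
      y v ∈ LinearMap.ker (aeval y (cyclotomic r F)) :=
    fun v hv => SSClass.ker_aeval_invariant y _ v hv
  have hCynd' := NDon_twB hrF hr2 hy _ hCyinv le_rfl hCynd
  have halt' := twB_alt hsym hisoB hr.pos hy
  have hiso' : ∀ u v, twB (PB Q) y r (y u) (y v) = twB (PB Q) y r u v := twB_iso hisoB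
  have hcdvd := cdvd_finrank_cyc_part hF hrp hr2 halt' hiso' hy _ hCyinv hCynd'
  rw [inf_idem] at hcdvd
  obtain ⟨a, ha⟩ := hcdvd
  have horth : ∀ u ∈ LinearMap.ker (aeval y (X - 1 : F[X])),
      ∀ w ∈ LinearMap.ker (aeval y (cyclotomic r F)), PB Q u w = 0 :=
    fun u hu w hw => fix_orth_cycS hsym hisoB hrF hy u w hu hw
  refine ⟨hFxnd, hCynd, hCynd', horth, ?_⟩
  obtain ⟨c'', hc''⟩ := cOf_even (orderOf (q : ZMod r))
  have hCydim : finrank F (LinearMap.ker (aeval y (cyclotomic r F))) = 2 * (c'' * a) := by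
    rw [ha, hc'']; ring
  obtain ⟨f, hf⟩ : ∃ f, f = d - c'' * a := ⟨_, rfl⟩
  have hFxdim : finrank F (LinearMap.ker (aeval y (X - 1 : F[X]))) = 2 * f := by omega
  have hdim : 2 * f + cOf (orderOf (q : ZMod r)) * a = 2 * d := by
    rw [← ha]; omega
  have hsup : LinearMap.ker (aeval y (X - 1 : F[X])) ⊔
      LinearMap.ker (aeval y (cyclotomic r F)) = ⊤ := by
    have := split_fix hrF hy ⊤ htopinv
    rw [top_inf_eq, top_inf_eq] at this
    exact top_le_iff.mp this
  by_cases heven : Even (orderOf (q : ZMod r))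
  · -- the congruence trick
    obtain ⟨eF, heF⟩ := exists_isSg (resQ Q (LinearMap.ker (aeval y (X - 1 : F[X]))))
      (resQ_nondegenerate Q hFxnd) f hFxdim
    refine ⟨f, a, eF, hFxdim, ha, hdim, heF, fun h => absurd heven h, fun _ => ?_⟩
    have hcOf : cOf (orderOf (q : ZMod r)) = orderOf (q : ZMod r) := by
      unfold cOf
      rw [if_pos heven]
    obtain ⟨h, hh⟩ := heven
    have hh2 : orderOf (q : ZMod r) = 2 * h := by omega
    have hc''h : c'' = h := by omega
    have hmod := zc_modEq_fix Q y hiso r hy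
    have hZ : (Zc Q : ZMod r) =
        (Zc (resQ Q (LinearMap.ker (aeval y (X - 1 : F[X])))) : ZMod r) :=
      (ZMod.natCast_eq_natCast_iff _ _ _).mpr hmod
    have h1 := isSg_zmod (r := r) Q hF hsg
    have h2 := isSg_zmod (r := r) (resQ Q (LinearMap.ker (aeval y (X - 1 : F[X])))) hF heF
    rw [← hZ] at h2
    exact sg_parity_of_eq hr2 (natCast_card_ne_zero hF hrp) h hh2 (by omega) _ d f a e eF
      (by
        have h3 : c'' * a = a * h := by rw [hc''h, mul_comm]
        rw [h3] at hCydim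
        omega) h1 h2
  · refine ⟨f, a, e, hFxdim, ha, hdim, ?_, fun _ => rfl, fun h => absurd h heven⟩
    have hcOf : cOf (orderOf (q : ZMod r)) = 2 * orderOf (q : ZMod r) := by
      unfold cOf
      rw [if_neg heven]
    have hc''i : c'' = orderOf (q : ZMod r) := by omega
    obtain ⟨W, hWC, hWinv, hWti', hWdim⟩ := exists_ti_cyc_odd hF hrp halt' hiso' hy heven a
      (LinearMap.ker (aeval y (cyclotomic r F))) le_rfl hCyinv hCynd'
      (by rw [ha, hcOf]; ring_nf; exact le_rfl)
    have hWti : TIon (PB Q) W := TIon_of_twB hrF hr2 hy W hWinv hWC hWti'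
    have hWts : TS Q W := ts_of_ti_cyc Q y hiso r hrF W hWinv hWC hWti
    exact isSg_of_hyp_compl Q hQ hsg _ _ W hFxnd hCynd horth hsup hWC hWts f
      (a * orderOf (q : ZMod r)) hFxdim hWdim (by rw [hCydim, hc''i, mul_comm a])

end struct

end Cfsg.Agent.Lib.H24.Oq
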