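import Mathlib
import Cfsg.Agent.Lib.H24.OqStruct
import Cfsg.Agent.Lib.H24.ElusNdB

set_option autoImplicit false

/-!
# Invariant totally singular subspaces of isometries of odd prime order (helper24)

With the notation of `struct_quad`:
* `suff_quad`: an invariant totally singular subspace of dimension `j i + s` for every
  `s ≤ f - e_F` and every admissible `j`;
* `nec_quad`: every invariant totally singular subspace has such a dimension, with `j` bounded by
  the multiplicities.
-/

namespace Cfsg.Agent.Lib.H24.Oq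

open Module QuadraticMap Polynomial
open Cfsg.Agent.Lib.H24.Elus Cfsg.Agent.Lib.H10.OrtNd Cfsg.Agent.Lib.H13.OSS Cfsg.Agent.Lib.H13

section suff

variable {F V : Type*} [Field F] [Fintype F] {p q : ℕ} [Fact p.Prime] [CharP F p]
  [AddCommGroup V] [Module F V] [FiniteDimensional F V] (Q : QuadraticForm F V)

theorem suff_quad (hF : Fintype.card F = q) {r : ℕ} [Fact r.Prime] (hrp : r ≠ p) (hr2 : r ≠ 2)
    (y : End F V) (hiso : ∀ v, Q (y v) = Q v) (hy : y ^ r = 1)
    (hFxnd : NDon (PB Q) (LinearMap.ker (aeval y (X - 1 : F[X]))))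
    (hCynd' : NDon (twB (PB Q) y r) (LinearMap.ker (aeval y (cyclotomic r F))))
    (horth : ∀ u ∈ LinearMap.ker (aeval y (X - 1 : F[X])),
      ∀ w ∈ LinearMap.ker (aeval y (cyclotomic r F)), PB Q u w = 0)
    (f a eF : ℕ)
    (hCydim : finrank F (LinearMap.ker (aeval y (cyclotomic r F))) =
      cOf (orderOf (q : ZMod r)) * a)
    (heF : IsSg (resQ Q (LinearMap.ker (aeval y (X - 1 : F[X])))) f eF)
    (j s : ℕ) (hs : s + eF ≤ f) (hjo : ¬ Even (orderOf (q : ZMod r)) → j ≤ a)
    (hje : Even (orderOf (q : ZMod r)) →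
      j = 0 ∨ 2 * j + (r - 1) / orderOf (q : ZMod r) ≤ a + 1) :
    ∃ W : Submodule F V, finrank F W = j * orderOf (q : ZMod r) + s ∧ TS Q W ∧
      ∀ v ∈ W, y v ∈ W := by
  classical
  have hr : r.Prime := Fact.out
  have hrF : (r : F) ≠ 0 := CycFactor.natCast_ne_zero hr hrp
  have hi0 : 0 < orderOf (q : ZMod r) := CycFactor.orderOf_pos hF hr hrp
  have hsym := PB_symm Q
  have hisoB : ∀ u v, PB Q (y u) (y v) = PB Q u v := polar_iso Q y hiso
  have halt' := twB_alt hsym hisoB hr.pos hy
  have hiso' : ∀ u v, twB (PB Q) y r (y u) (y v) = twB (PB Q) y r u v := twB_iso hisoB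
  have hCyinv : ∀ v ∈ LinearMap.ker (aeval y (cyclotomic r F)),
      y v ∈ LinearMap.ker (aeval y (cyclotomic r F)) :=
    fun v hv => SSClass.ker_aeval_invariant y _ v hv
  -- the part in the non-fixed space
  have hWc : ∃ Wc : Submodule F V, Wc ≤ LinearMap.ker (aeval y (cyclotomic r F)) ∧
      (∀ v ∈ Wc, y v ∈ Wc) ∧ TIon (twB (PB Q) y r) Wc ∧
      finrank F Wc = j * orderOf (q : ZMod r) := by
    by_cases heven : Even (orderOf (q : ZMod r))
    · have hcOf : cOf (orderOf (q : ZMod r)) = orderOf (q : ZMod r) := by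
        unfold cOf
        rw [if_pos heven]
      rw [hcOf] at hCydim
      rcases hje heven with h0 | hj
      · subst h0
        refine ⟨⊥, bot_le, ?_, TIon_bot _, by rw [finrank_bot, zero_mul]⟩
        intro v hv
        rw [Submodule.mem_bot] at hv ⊢
        rw [hv, map_zero]
      · have hcard := CycFactor.card_S (F := F) hF hr hrp
        have ht' : (r - 1) / orderOf (q : ZMod r) = Fintype.card (CycFactor.S r F) := by
          rw [← hcard]
          exact Nat.mul_div_cancel _ hi0
        rw [ht'] at hj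
        exact exists_ti_cyc_even hF hrp hr2 halt' hiso' hy heven j _ le_rfl hCyinv hCynd' (by
          rw [hCydim]
          calc orderOf (q : ZMod r) * (2 * j + Fintype.card (CycFactor.S r F))
              ≤ orderOf (q : ZMod r) * (a + 1) := Nat.mul_le_mul_left _ hj
            _ = orderOf (q : ZMod r) * a + orderOf (q : ZMod r) := by ring)
    · have hcOf : cOf (orderOf (q : ZMod r)) = 2 * orderOf (q : ZMod r) := by
        unfold cOf
        rw [if_neg heven]
      rw [hcOf] at hCydim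
      exact exists_ti_cyc_odd hF hrp halt' hiso' hy heven j _ le_rfl hCyinv hCynd' (by
        rw [hCydim]
        calc j * (2 * orderOf (q : ZMod r)) ≤ a * (2 * orderOf (q : ZMod r)) :=
              Nat.mul_le_mul_right _ (hjo heven)
          _ = 2 * orderOf (q : ZMod r) * a := by ring)
  obtain ⟨Wc, hWcC, hWcinv, hWcti', hWcdim⟩ := hWc
  have hWcti : TIon (PB Q) Wc := TIon_of_twB hrF hr2 hy Wc hWcinv hWcC hWcti'
  have hWcts : TS Q Wc := ts_of_ti_cyc Q y hiso r hrF Wc hWcinv hWcC hWcti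
  -- the part in the fixed space
  obtain ⟨S₀, hS₀, hS₀d⟩ := exists_ts_of_isSg _ (resQ_nondegenerate Q hFxnd) heF
  obtain ⟨S₁, hS₁le, hS₁d⟩ := exists_le_finrank_eq' S₀ s (by omega)
  have hS₁ : TS (resQ Q (LinearMap.ker (aeval y (X - 1 : F[X])))) S₁ :=
    fun w hw => hS₀ w (hS₁le hw)
  obtain ⟨hWfts, hWfle, hWfd⟩ := ts_map_of_res Q _ S₁ hS₁
  obtain ⟨Wf, hWf⟩ : ∃ Wf, Wf = S₁.map (LinearMap.ker (aeval y (X - 1 : F[X]))).subtype :=
    ⟨_, rfl⟩
  rw [← hWf] at hWfts hWfle hWfd
  have hWfinv : ∀ v ∈ Wf, y v ∈ Wf := by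
    intro v hv
    rw [(mem_fix_iff v).mp (hWfle hv)]
    exact hv
  have hdisj : Wf ⊓ Wc = ⊥ := by
    rw [eq_bot_iff, ← fix_inf_cyc (y := y) (r := r) hrF]
    exact inf_le_inf hWfle hWcC
  refine ⟨Wf ⊔ Wc, ?_, ?_, sup_invariant _ _ hWfinv hWcinv⟩
  · have h := Submodule.finrank_sup_add_finrank_inf_eq Wf Wc
    rw [hdisj, finrank_bot, add_zero, hWfd, hS₁d, hWcdim] at h
    omega
  · intro v hv
    obtain ⟨u, hu, w, hw, rfl⟩ := Submodule.mem_sup.mp hv
    rw [Q_add_eq, hWfts u hu, hWcts w hw, zero_add, zero_add]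
    exact horth u (hWfle hu) w (hWcC hw)

theorem nec_quad [DecidableEq F] (hF : Fintype.card F = q) {r : ℕ} [Fact r.Prime] (hrp : r ≠ p) (hr2 : r ≠ 2)
    (y : End F V) (hiso : ∀ v, Q (y v) = Q v) (hy : y ^ r = 1)
    (hFxnd : NDon (PB Q) (LinearMap.ker (aeval y (X - 1 : F[X]))))
    (hCynd' : NDon (twB (PB Q) y r) (LinearMap.ker (aeval y (cyclotomic r F))))
    (f a eF : ℕ)
    (hCydim : finrank F (LinearMap.ker (aeval y (cyclotomic r F))) =
      cOf (orderOf (q : ZMod r)) * a)
    (heF : IsSg (resQ Q (LinearMap.ker (aeval y (X - 1 : F[X])))) f eF)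
    (W : Submodule F V) (hW : ∀ v ∈ W, y v ∈ W) (hWts : TS Q W) :
    ∃ j s, finrank F W = j * orderOf (q : ZMod r) + s ∧ s + eF ≤ f ∧
      (¬ Even (orderOf (q : ZMod r)) → j ≤ a) ∧
      (Even (orderOf (q : ZMod r)) → j ≤ ∑ s : CycFactor.S r F,
        finrank F (LinearMap.ker (aeval y s.1)) / (2 * orderOf (q : ZMod r))) := by
  classical
  have hr : r.Prime := Fact.out
  have hrF : (r : F) ≠ 0 := CycFactor.natCast_ne_zero hr hrp
  have hi0 : 0 < orderOf (q : ZMod r) := CycFactor.orderOf_pos hF hr hrp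
  have hsym := PB_symm Q
  have hisoB : ∀ u v, PB Q (y u) (y v) = PB Q u v := polar_iso Q y hiso
  have halt' := twB_alt hsym hisoB hr.pos hy
  have hiso' : ∀ u v, twB (PB Q) y r (y u) (y v) = twB (PB Q) y r u v := twB_iso hisoB
  have hCyinv : ∀ v ∈ LinearMap.ker (aeval y (cyclotomic r F)),
      y v ∈ LinearMap.ker (aeval y (cyclotomic r F)) :=
    fun v hv => SSClass.ker_aeval_invariant y _ v hv
  have hWti : TIon (PB Q) W := fun u hu v hv => hWts.polar_eq_zero Q hu hv
  have hWti' : TIon (twB (PB Q) y r) W := TIon_twB W hW hWti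
  -- the fixed part
  obtain ⟨hts, hdim'⟩ := ts_comap_of_le Q (LinearMap.ker (aeval y (X - 1 : F[X])))
    (W ⊓ LinearMap.ker (aeval y (X - 1 : F[X]))) inf_le_right
    (fun v hv => hWts v (Submodule.mem_inf.mp hv).1)
  have hle := ts_le_of_isSg _ (resQ_nondegenerate Q hFxnd) heF _ hts
  rw [hdim'] at hle
  have heFf := heF.e_le
  by_cases heven : Even (orderOf (q : ZMod r))
  · have hirr := CycFactor.irreducible_fJ (F := F) (r := r)
    have hcop := CycFactor.coprime_fJ (F := F) hr hrp
    have hφ' : aeval y (∏ j, CycFactor.fJ (F := F) r j) = 0 := by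
      rw [CycFactor.prod_fJ hr hrp]; exact aeval_pow_sub_one_of_pow hy
    obtain ⟨hsum, hdvd⟩ := invariant_mults (CycFactor.fJ (F := F) r) hirr hcop y hφ' W hW
    rw [Fintype.sum_option] at hsum
    change finrank F ↥(W ⊓ LinearMap.ker (aeval y (X - 1 : F[X]))) +
      ∑ s : CycFactor.S r F, finrank F ↥(W ⊓ LinearMap.ker (aeval y s.1)) = finrank F W at hsum
    have hdvd' : ∀ s : CycFactor.S r F,
        orderOf (q : ZMod r) ∣ finrank F ↥(W ⊓ LinearMap.ker (aeval y s.1)) := by
      intro s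
      have := hdvd (some s)
      rwa [CycFactor.natDegree_fJ_some hF hr hrp s] at this
    have hbound : ∀ s : CycFactor.S r F,
        2 * finrank F ↥(W ⊓ LinearMap.ker (aeval y s.1)) ≤
          finrank F (LinearMap.ker (aeval y s.1)) := by
      intro s
      have hnd : NDon (twB (PB Q) y r) (LinearMap.ker (aeval y s.1)) := by
        have := NDon_ker_factor hF hrp halt' hiso' hy heven s _ hCyinv hCynd'
        rwa [inf_eq_right.mpr (cyc_ker_le s)] at this
      exact finrank_isotropic_le halt' _ _ hnd inf_le_right (TIon_mono _ inf_le_left hWti')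
    refine ⟨∑ s : CycFactor.S r F,
      finrank F ↥(W ⊓ LinearMap.ker (aeval y s.1)) / orderOf (q : ZMod r),
      finrank F ↥(W ⊓ LinearMap.ker (aeval y (X - 1 : F[X]))), ?_, by omega,
      fun h => absurd heven h, fun _ => ?_⟩
    · rw [← hsum, Finset.sum_mul, add_comm]
      congr 1
      apply Finset.sum_congr rfl
      intro s _
      exact (Nat.div_mul_cancel (hdvd' s)).symm
    · apply Finset.sum_le_sum
      intro s _
      rw [Nat.le_div_iff_mul_le (by omega)]
      calc finrank F ↥(W ⊓ LinearMap.ker (aeval y s.1)) / orderOf (q : ZMod r) *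
            (2 * orderOf (q : ZMod r))
          = 2 * (finrank F ↥(W ⊓ LinearMap.ker (aeval y s.1)) / orderOf (q : ZMod r) *
              orderOf (q : ZMod r)) := by ring
        _ = 2 * finrank F ↥(W ⊓ LinearMap.ker (aeval y s.1)) := by
            rw [Nat.div_mul_cancel (hdvd' s)]
        _ ≤ _ := hbound s
  · have hcOf : cOf (orderOf (q : ZMod r)) = 2 * orderOf (q : ZMod r) := by
      unfold cOf
      rw [if_neg heven]
    rw [hcOf] at hCydim
    have hsplit := finrank_split_fix hrF hy W hW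
    have hWCinv := inf_ker_invariant W hW (cyclotomic r F)
    obtain ⟨j, hj⟩ := dvd_finrank_of_le_cyc hF hrp hy _ hWCinv inf_le_right
    have hb := finrank_isotropic_le halt' _ (W ⊓ LinearMap.ker (aeval y (cyclotomic r F)))
      hCynd' inf_le_right (TIon_mono _ inf_le_left hWti')
    rw [hCydim, hj] at hb
    refine ⟨j, finrank F ↥(W ⊓ LinearMap.ker (aeval y (X - 1 : F[X]))), ?_, by omega,
      fun _ => ?_, fun h => absurd h heven⟩
    · rw [← hsplit, hj, mul_comm j]
      omega
    · have h1 : orderOf (q : ZMod r) * (2 * j) ≤ orderOf (q : ZMod r) * (2 * a) := by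
        calc orderOf (q : ZMod r) * (2 * j) = 2 * (orderOf (q : ZMod r) * j) := by ring
          _ ≤ 2 * orderOf (q : ZMod r) * a := hb
          _ = orderOf (q : ZMod r) * (2 * a) := by ring
      have := Nat.le_of_mul_le_mul_left h1 hi0
      omega

end suff

end Cfsg.Agent.Lib.H24.Oq
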