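import Mathlib
import Cfsg.Agent.Lib.H24.OqSuff
import Cfsg.Agent.Lib.H13.MinusClass
import Cfsg.Agent.Lib.H11.PSLGraph6
import Cfsg.Agent.Lib.H13.OmegaSum
import Cfsg.Agent.Lib.H13.AutPO1

set_option autoImplicit false

/-!
# Standard coordinates for quadratic spaces of given type; isometries as matrices (helper24)

* `IsSg.unique`, `isSg_of_equiv`;
* `minus_std_equiv`: all minus-type standard forms of a given dimension are isometric (all
  characteristics);
* `exists_std_plus`, `exists_std_minus`: coordinates for spaces of type `0` resp. `1`;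
* `exists_mat_of_isometry`: an isometry of an abstract space as a matrix;
* `mem_omegaGL_of_odd`: isometries of odd order lie in `Ω`.
-/

namespace Cfsg.Agent.Lib.H24.Oq

open Module QuadraticMap Polynomial
open Cfsg.Agent.Lib.H24.Elus Cfsg.Agent.Lib.H10.OrtNd Cfsg.Agent.Lib.H13

section uniq

variable {F V : Type*} [Field F] [Fintype F] [AddCommGroup V] [Module F V]
  [FiniteDimensional F V] (Q : QuadraticForm F V)

theorem IsSg.unique {k e k' e' : ℕ} (h : IsSg Q k e) (h' : IsSg Q k' e') : k = k' ∧ e = e' := by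
  have hk : k = k' := by
    have := h.1
    have := h'.1
    omega
  subst hk
  refine ⟨rfl, ?_⟩
  have hq : 2 ≤ Fintype.card F := Fintype.one_lt_card
  have hpos : 0 < Fintype.card F ^ k := Nat.pow_pos (by omega)
  have hlt : 2 * Fintype.card F ^ k ≤ Fintype.card F ^ (k + 1) := by
    rw [pow_succ']
    exact Nat.mul_le_mul_right _ hq
  rcases h.2 with ⟨rfl, hZ⟩ | ⟨rfl, hZ⟩ <;> rcases h'.2 with ⟨rfl, hZ'⟩ | ⟨rfl, hZ'⟩
  · rfl
  · omega
  · omega
  · rfl

theorem isSg_of_equiv {V' : Type*} [AddCommGroup V'] [Module F V'] [FiniteDimensional F V']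
    (φ : V ≃ₗ[F] V') (Q' : QuadraticForm F V') (h : ∀ v, Q v = Q' (φ v)) {k e : ℕ}
    (hs : IsSg Q' k e) : IsSg Q k e := by
  have hZ : Zc Q = Zc Q' := Zc_congr Q φ (⇑Q') h
  unfold IsSg
  rw [hZ, φ.finrank_eq]
  exact hs

end uniq

section minus

variable {F : Type*} [Field F] [Fintype F]

/-- all minus-type standard forms of a given dimension are isometric -/
theorem minus_std_equiv (k : ℕ) (a b ζ : F)
    (hab : ∀ z₁ z₂ : F, z₁ ^ 2 + a * z₁ * z₂ + b * z₂ ^ 2 = 0 → z₁ = 0 ∧ z₂ = 0)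
    (hζ : ∀ t : F, t ^ 2 + t + ζ ≠ 0) :
    ∃ φ : (MinusClass.IM k → F) ≃ₗ[F] (MinusClass.IM k → F), ∀ v,
      Cfsg.quadFormMinus k F 1 ζ (φ v) = Cfsg.quadFormMinus k F a b v := by
  by_cases h2 : (2 : F) = 0
  · haveI : CharP F 2 := CharTwo.of_one_ne_zero_of_two_eq_zero one_ne_zero h2
    exact MinusClass.minus_equiv k a b ζ hab hζ
  · obtain ⟨c, hc⟩ : ∃ c : F, c = (a - 1) / 2 := ⟨_, rfl⟩
    have hc2 : 2 * c + 1 = a := by rw [hc]; field_simp; ring
    obtain ⟨ζ', hζ'def⟩ : ∃ ζ' : F, ζ' = b - c ^ 2 - c := ⟨_, rfl⟩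
    have hζ' : ∀ t : F, t ^ 2 + t + ζ' ≠ 0 := by
      intro t ht
      have := (hab (t - c) 1 (by
        rw [← hc2]
        rw [hζ'def] at ht
        linear_combination ht)).2
      exact one_ne_zero this
    obtain ⟨e, he⟩ := Cfsg.Agent.Lib.H11.PSLGraph.minus_adjust k h2 ζ' ζ hζ' hζ
    refine ⟨(MinusClass.phiEquiv k c 1 one_ne_zero).trans e, fun v => ?_⟩
    rw [LinearEquiv.trans_apply, he, MinusClass.phiEquiv_apply]
    unfold Cfsg.quadFormMinus
    simp only [MinusClass.phiLin_inl, MinusClass.phiLin_zero, MinusClass.phiLin_one]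
    rw [hζ'def, ← hc2]
    ring

end minus

section std

variable {F V : Type*} [Field F] [Fintype F] [AddCommGroup V] [Module F V]
  [FiniteDimensional F V] (Q : QuadraticForm F V)

/-- coordinates for a space of plus type -/
theorem exists_std_plus (hQ : (polarBilin Q).Nondegenerate) {d : ℕ} (hd : 1 ≤ d)
    (h : IsSg Q d 0) :
    ∃ Φ : V ≃ₗ[F] (Fin d ⊕ Fin d → F), ∀ v, Q v = Cfsg.quadFormPlus d F (Φ v) := by
  rcases MinusClass.classify Q hQ hd h.1 with hp | ⟨ζ, hζ, Φ, hΦ⟩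
  · exact hp
  · exfalso
    have h1 : IsSg Q d 1 := by
      apply isSg_of_equiv Q Φ (minusQF F (d - 1) 1 ζ)
        (fun v => by rw [hΦ v, minusQF_apply])
      have := isSg_minus (F := F) d hd 1 ζ (hab_of_irred ζ hζ)
      exact this
    have := (IsSg.unique Q h h1).2
    omega

/-- coordinates for a space of minus type -/
theorem exists_std_minus (hQ : (polarBilin Q).Nondegenerate) {d : ℕ} (hd : 1 ≤ d)
    (h : IsSg Q d 1) (a b : F)
    (hab : ∀ z₁ z₂ : F, z₁ ^ 2 + a * z₁ * z₂ + b * z₂ ^ 2 = 0 → z₁ = 0 ∧ z₂ = 0) :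
    ∃ Φ : V ≃ₗ[F] ((Fin (d - 1) ⊕ Fin (d - 1)) ⊕ Fin 2 → F),
      ∀ v, Q v = Cfsg.quadFormMinus (d - 1) F a b (Φ v) := by
  rcases MinusClass.classify Q hQ hd h.1 with ⟨Φ, hΦ⟩ | ⟨ζ, hζ, Φ, hΦ⟩
  · exfalso
    have h1 : IsSg Q d 0 := by
      apply isSg_of_equiv Q Φ (plusQF F d) (fun v => by rw [hΦ v, plusQF_apply])
      exact isSg_plus (F := F) d hd
    have := (IsSg.unique Q h h1).2
    omega
  · obtain ⟨φ, hφ⟩ := minus_std_equiv (d - 1) a b ζ hab hζ
    refine ⟨Φ.trans φ.symm, fun v => ?_⟩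
    rw [hΦ v, LinearEquiv.trans_apply, ← hφ, LinearEquiv.apply_symm_apply]

end std

section mat

open Matrix

variable {F V : Type*} [Field F] [AddCommGroup V] [Module F V] [FiniteDimensional F V]
  {ι : Type} [Fintype ι] [DecidableEq ι]

/-- an isometry of finite order of an abstract quadratic space as an element of the isometry group
of the form in coordinates -/
theorem exists_mat_of_isometry (Q : V → F) (Q' : QuadraticForm F (ι → F))
    (E : V ≃ₗ[F] (ι → F)) (hEQ : ∀ v, Q v = Q' (E v))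
    (ψ : End F V) (n : ℕ) (hn : 0 < n) (hψn : ψ ^ n = 1) (hψ : ∀ v, Q (ψ v) = Q v) :
    ∃ x : GL ι F, x ∈ Cfsg.isometryGroup F ⇑Q' ∧ x ^ n = 1 ∧
      ∀ p : F[X], finrank F (LinearMap.ker (aeval (Matrix.toLin' (x : Matrix ι ι F)) p)) =
          finrank F (LinearMap.ker (aeval ψ p)) := by
  classical
  have h1 : ψ * ψ ^ (n - 1) = 1 := by rw [← pow_succ', Nat.sub_add_cancel hn, hψn]
  have h2 : ψ ^ (n - 1) * ψ = 1 := by rw [← pow_succ, Nat.sub_add_cancel hn, hψn]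
  obtain ⟨ψe, hψe⟩ : ∃ ψe : V ≃ₗ[F] V, ∀ v, ψe v = ψ v :=
    ⟨LinearEquiv.ofLinear ψ (ψ ^ (n - 1)) h1 h2, fun v => rfl⟩
  obtain ⟨g, hg⟩ : ∃ g : (ι → F) ≃ₗ[F] (ι → F), g = E.symm.trans (ψe.trans E) := ⟨_, rfl⟩
  have hgapp : ∀ w, g w = E (ψ (E.symm w)) := by
    intro w
    rw [hg, LinearEquiv.trans_apply, LinearEquiv.trans_apply, hψe]
  have hgQ : ∀ w, Q' (g w) = Q' w := by
    intro w
    have h3 := hEQ (ψ (E.symm w))
    rw [hψ, hEQ, E.apply_symm_apply, ← hgapp] at h3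
    exact h3.symm
  obtain ⟨x, hxmem, hmv⟩ : ∃ x : GL ι F, x ∈ Cfsg.isometryGroup F ⇑Q' ∧
      ∀ w, (x : Matrix ι ι F) *ᵥ w = g w :=
    ⟨_, (AutPO.elOfEquiv Q' g hgQ).2, fun w => AutPO.elOfEquiv_mulVec _ g hgQ w⟩
  have hlin : ∀ w, Matrix.toLin' (x : Matrix ι ι F) w = E (ψ (E.symm w)) := by
    intro w
    rw [Matrix.toLin'_apply, hmv, hgapp]
  have hpow : ∀ (k : ℕ) w, ((Matrix.toLin' (x : Matrix ι ι F)) ^ k) w =
        E ((ψ ^ k) (E.symm w)) := by
    intro k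
    induction k with
    | zero =>
      intro w
      rw [pow_zero, pow_zero, Module.End.one_apply, Module.End.one_apply, E.apply_symm_apply]
    | succ k ih =>
      intro w
      rw [pow_succ', Module.End.mul_apply, ih, hlin, E.symm_apply_apply, pow_succ',
        Module.End.mul_apply]
  refine ⟨x, hxmem, ?_, ?_⟩
  · apply Units.ext
    rw [Units.val_pow_eq_pow_val, Units.val_one]
    apply Matrix.toLin'.injective
    apply LinearMap.ext
    intro w
    rw [Matrix.toLin'_pow, hpow, hψn, Module.End.one_apply, E.apply_symm_apply, Matrix.toLin'_one]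
    rfl
  · intro p
    symm
    apply SSClass.finrank_ker_eq_of_equiv ψ _ E
    intro v
    rw [hlin, E.symm_apply_apply]

/-- isometries of odd order lie in `Ω` -/
theorem mem_omegaGL_of_odd [Fintype F] (Q : QuadraticForm F (ι → F))
    (hQ : (QuadraticMap.polarBilin Q).Nondegenerate) (hcard : 5 ≤ Fintype.card ι)
    (x : GL ι F) (hx : x ∈ Cfsg.isometryGroup F ⇑Q) (k : ℕ) (hk : Odd k) (hxk : x ^ k = 1) :
    x ∈ Cfsg.Geo.omegaGL ⇑Q := by
  obtain ⟨x', hx'⟩ : ∃ x' : ↥(Cfsg.isometryGroup F ⇑Q), x' = ⟨x, hx⟩ := ⟨_, rfl⟩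
  have hx'k : x' ^ k = 1 := by
    apply Subtype.ext
    rw [hx']
    exact hxk
  obtain ⟨j, hj⟩ := hk
  have hsq : ∀ y : ↥(Cfsg.isometryGroup F ⇑Q), y * y ∈ Cfsg.Omega F ⇑Q := by
    intro y
    by_cases h2 : (2 : F) = 0
    · haveI : CharP F 2 := CharTwo.of_one_ne_zero_of_two_eq_zero one_ne_zero h2
      haveI : Nonempty ι := by
        rw [← Fintype.card_pos_iff]
        omega
      exact OmegaSum.sq_mem_even Q hQ (Or.inr (by omega)) y
    · exact OmegaSum.sq_mem_odd Q hQ h2 (by omega) y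
  have h5 : x' ^ (j + 1) * x' ^ (j + 1) = x' := by
    rw [← pow_add]
    have : j + 1 + (j + 1) = k + 1 := by omega
    rw [this, pow_succ, hx'k, one_mul]
  have h7 : x' ∈ Cfsg.Omega F ⇑Q := by
    rw [← h5]
    exact hsq _
  refine ⟨x', h7, ?_⟩
  rw [hx']
  rfl

end mat

end Cfsg.Agent.Lib.H24.Oq
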