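import Mathlib
import Cfsg.Agent.Lib.H24.OqTestA
import Cfsg.Agent.Lib.H24.ElusTiTypes

set_option autoImplicit false

/-!
# Test elements of `Ω^±_{2d}(q)` from symplectic matrices via the twist (helper24)

* `twQ B y`: the quadratic form `v ↦ B (y v) v`, whose polar form is the twist of `B`;
* `exists_iso_of_isSg`: nondegenerate quadratic spaces of the same dimension and type are
  isometric;
* `exists_typed_space`: spaces of every type;
* `exists_test_quad`, `exists_test_omega`: from a symplectic matrix of odd prime order `r` without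
  fixed vectors to an element of `Ω` of a standard quadratic space with the same kernel dimensions
  and a fixed space of prescribed dimension.
-/

namespace Cfsg.Agent.Lib.H24.Oq

open Module QuadraticMap Polynomial
open Cfsg.Agent.Lib.H24.Elus Cfsg.Agent.Lib.H10.OrtNd Cfsg.Agent.Lib.H13.OSS Cfsg.Agent.Lib.H13

section tw

variable {F V : Type*} [Field F] [AddCommGroup V] [Module F V]

/-- the quadratic form `v ↦ B (y v) v` -/
noncomputable def twQ (B : LinearMap.BilinForm F V) (y : End F V) : QuadraticForm F V :=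
  LinearMap.BilinMap.toQuadraticMap (B.compl₁₂ y LinearMap.id)

variable {B : LinearMap.BilinForm F V} {y : End F V}

theorem twQ_apply (v : V) : twQ B y v = B (y v) v := by
  unfold twQ
  rw [LinearMap.BilinMap.toQuadraticMap_apply, LinearMap.compl₁₂_apply, LinearMap.id_apply]

theorem polar_twQ (halt : ∀ v, B v v = 0) (hiso : ∀ u v, B (y u) (y v) = B u v) {r : ℕ}
    (hr : 0 < r) (hy : y ^ r = 1) (u v : V) : polar (⇑(twQ B y)) u v = twB B y r u v := by
  unfold polar
  rw [twQ_apply, twQ_apply, twQ_apply, twB_apply, adj_pow_pred' hiso hr hy, alt_swap B halt u (y v)]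
  simp only [map_add, LinearMap.add_apply]
  ring

theorem twQ_iso (hiso : ∀ u v, B (y u) (y v) = B u v) (v : V) : twQ B y (y v) = twQ B y v := by
  rw [twQ_apply, twQ_apply, hiso]

end tw

section iso

variable {F V V' : Type*} [Field F] [Fintype F] [AddCommGroup V] [Module F V]
  [FiniteDimensional F V] [AddCommGroup V'] [Module F V'] [FiniteDimensional F V']

/-- nondegenerate quadratic spaces of the same dimension and type are isometric -/
theorem exists_iso_of_isSg (Q : QuadraticForm F V) (Q' : QuadraticForm F V')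
    (hQ : (polarBilin Q).Nondegenerate) (hQ' : (polarBilin Q').Nondegenerate) {d e : ℕ}
    (hd : 1 ≤ d) (h : IsSg Q d e) (h' : IsSg Q' d e) :
    ∃ Φ : V ≃ₗ[F] V', ∀ v, Q v = Q' (Φ v) := by
  have he := h.le_one
  rcases Nat.eq_zero_or_pos e with h0 | h0
  · subst h0
    obtain ⟨Φ, hΦ⟩ := exists_std_plus Q hQ hd h
    obtain ⟨Φ', hΦ'⟩ := exists_std_plus Q' hQ' hd h'
    refine ⟨Φ.trans Φ'.symm, fun v => ?_⟩
    rw [hΦ v, hΦ', LinearEquiv.trans_apply, LinearEquiv.apply_symm_apply]
  · have h1 : e = 1 := by omega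
    subst h1
    rcases MinusClass.classify Q' hQ' hd h'.1 with ⟨Φ, hΦ⟩ | ⟨ζ, hζ, Φ', hΦ'⟩
    · exfalso
      have h1 : IsSg Q' d 0 := by
        apply isSg_of_equiv Q' Φ (plusQF F d) (fun v => by rw [hΦ v, plusQF_apply])
        exact isSg_plus (F := F) d hd
      have := (IsSg.unique Q' h' h1).2
      omega
    · obtain ⟨Φ, hΦ⟩ := exists_std_minus Q hQ hd h 1 ζ (hab_of_irred ζ hζ)
      refine ⟨Φ.trans Φ'.symm, fun v => ?_⟩
      rw [hΦ v, hΦ', LinearEquiv.trans_apply, LinearEquiv.apply_symm_apply]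

end iso

section typed

variable {F : Type*} [Field F] [Fintype F]

/-- an anisotropic binary form -/
theorem exists_aniso : ∃ a b : F, ∀ z₁ z₂ : F, z₁ ^ 2 + a * z₁ * z₂ + b * z₂ ^ 2 = 0 →
    z₁ = 0 ∧ z₂ = 0 := by
  by_cases h2 : (2 : F) = 0
  · haveI : CharP F 2 := CharTwo.of_one_ne_zero_of_two_eq_zero one_ne_zero h2
    have hex : ∃ ζ : F, ∀ t : F, t ^ 2 + t + ζ ≠ 0 := by
      by_contra h
      push Not at h
      have htop : (MinusClass.asHom F).range = ⊤ := by
        rw [eq_top_iff]
        intro z _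
        obtain ⟨t, ht⟩ := h z
        exact ⟨t, by rw [MinusClass.asHom_apply]; linear_combination ht - z * h2⟩
      have h3 := MinusClass.index_range_asHom (F := F)
      rw [htop, AddSubgroup.index_top] at h3
      omega
    obtain ⟨ζ, hζ⟩ := hex
    exact ⟨1, ζ, hab_of_irred ζ hζ⟩
  · have hchar : ringChar F ≠ 2 := by
      intro h
      haveI : CharP F 2 := by rw [← h]; exact ringChar.charP F
      exact h2 CharTwo.two_eq_zero
    obtain ⟨n, hn⟩ := FiniteField.exists_nonsquare hchar
    refine ⟨0, -n, ?_⟩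
    intro z₁ z₂ h
    by_cases hz : z₂ = 0
    · subst hz
      refine ⟨?_, rfl⟩
      have : z₁ ^ 2 = 0 := by linear_combination h
      exact pow_eq_zero_iff (by norm_num) |>.mp this
    · exfalso
      apply hn
      refine ⟨z₁ / z₂, ?_⟩
      field_simp
      linear_combination -h

/-- spaces of every type -/
theorem exists_typed_space (f eF : ℕ) (heF : eF ≤ 1) (heFf : eF ≤ f) :
    ∃ (ι₂ : Type) (_ : Fintype ι₂) (_ : DecidableEq ι₂) (Q₂ : QuadraticForm F (ι₂ → F)),
      (polarBilin Q₂).Nondegenerate ∧ IsSg Q₂ f eF := by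
  rcases Nat.eq_zero_or_pos eF with h0 | h0
  · subst h0
    refine ⟨Fin f ⊕ Fin f, inferInstance, inferInstance, plusQF F f,
      Cfsg.Agent.S0287.nondeg f, ?_⟩
    rcases Nat.eq_zero_or_pos f with hf | hf
    · subst hf
      obtain ⟨e, he⟩ := exists_isSg (plusQF F 0) (Cfsg.Agent.S0287.nondeg 0) 0 (by
        rw [Module.finrank_fintype_fun_eq_card]; simp)
      have := he.e_le
      have h0 : e = 0 := by omega
      rw [h0] at he
      exact he
    · exact isSg_plus f hf
  · have h1 : eF = 1 := by omega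
    subst h1
    obtain ⟨a, b, hab⟩ := exists_aniso (F := F)
    exact ⟨(Fin (f - 1) ⊕ Fin (f - 1)) ⊕ Fin 2, inferInstance, inferInstance,
      minusQF F (f - 1) a b, Cfsg.Agent.S0288.nondeg a b hab (f - 1), isSg_minus f heFf a b hab⟩

end typed

end Cfsg.Agent.Lib.H24.Oq
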