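import Mathlib
import Cfsg.Agent.Lib.H24.OqTestB

set_option autoImplicit false

/-!
# Test elements of `Ω^±_{2d}(q)` from symplectic matrices via the twist, II (helper24)
-/

namespace Cfsg.Agent.Lib.H24.Oq

open Module QuadraticMap Polynomial
open Cfsg.Agent.Lib.H24.Elus Cfsg.Agent.Lib.H10.OrtNd Cfsg.Agent.Lib.H13.OSS Cfsg.Agent.Lib.H13

section test

variable {F : Type*} [Field F] [Fintype F] {p q : ℕ} [Fact p.Prime] [CharP F p]

theorem prodMap_id_pow' {V₁ V₂ : Type*} [AddCommGroup V₁] [Module F V₁] [AddCommGroup V₂]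
    [Module F V₂] (y₁ : End F V₁) (n : ℕ) (v : V₁ × V₂) :
    ((y₁.prodMap (LinearMap.id : End F V₂)) ^ n) v = ((y₁ ^ n) v.1, v.2) := by
  induction n generalizing v with
  | zero => rfl
  | succ n ih =>
    rw [pow_succ, Module.End.mul_apply, ih, pow_succ, Module.End.mul_apply]
    rfl

/-- the orthogonal sum of the twist of a symplectic matrix of order `r` without fixed vectors and
a quadratic space with the identity -/
theorem exists_test_quad [DecidableEq F] (r : ℕ) [Fact r.Prime]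
    (hrp : r ≠ p) (hr2 : r ≠ 2) (d' : ℕ)
    (x₀ : ↥(Matrix.symplecticGroup (Fin d') F))
    (hx₀ : (x₀ : Matrix (Fin d' ⊕ Fin d') (Fin d' ⊕ Fin d') F) ^ r = 1)
    (hfix : finrank F (LinearMap.ker (aeval (Matrix.toLin'
      (x₀ : Matrix (Fin d' ⊕ Fin d') (Fin d' ⊕ Fin d') F)) (X - 1 : F[X]))) = 0)
    {V₂ : Type*} [AddCommGroup V₂] [Module F V₂] [FiniteDimensional F V₂]
    (Q₂ : QuadraticForm F V₂) (hQ₂ : (polarBilin Q₂).Nondegenerate) {f eF : ℕ}
    (h₂ : IsSg Q₂ f eF) :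
    ∃ (Q : QuadraticForm F ((Fin d' ⊕ Fin d' → F) × V₂))
      (ψ : End F ((Fin d' ⊕ Fin d' → F) × V₂)),
      (polarBilin Q).Nondegenerate ∧ ψ ^ r = 1 ∧ (∀ v, Q (ψ v) = Q v) ∧
      (∀ s : CycFactor.S r F, finrank F (LinearMap.ker (aeval ψ s.1)) =
          finrank F (LinearMap.ker (aeval (Matrix.toLin'
            (x₀ : Matrix (Fin d' ⊕ Fin d') (Fin d' ⊕ Fin d') F)) s.1))) ∧
      IsSg (resQ Q (LinearMap.ker (aeval ψ (X - 1 : F[X])))) f eF := by
  have hr : r.Prime := Fact.out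
  have hrF : (r : F) ≠ 0 := CycFactor.natCast_ne_zero hr hrp
  obtain ⟨y₁, hy₁def⟩ : ∃ y₁ : End F (Fin d' ⊕ Fin d' → F),
      y₁ = Matrix.toLin' (x₀ : Matrix (Fin d' ⊕ Fin d') (Fin d' ⊕ Fin d') F) := ⟨_, rfl⟩
  rw [← hy₁def] at hfix ⊢
  have hy₁ : y₁ ^ r = 1 := by
    rw [hy₁def, ← Matrix.toLin'_pow, hx₀, Matrix.toLin'_one]
    rfl
  have hiso₀ : ∀ u v, stdB d' (y₁ u) (y₁ v) = stdB (F := F) d' u v := by
    rw [hy₁def]
    exact sp_iso d' x₀
  have halt₀ := stdB_alt (F := F) d'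
  have htopinv : ∀ v ∈ (⊤ : Submodule F (Fin d' ⊕ Fin d' → F)), y₁ v ∈ (⊤ : Submodule F _) :=
    fun _ _ => Submodule.mem_top
  have hCytop : LinearMap.ker (aeval y₁ (cyclotomic r F)) = ⊤ := by
    apply Submodule.eq_top_of_finrank_eq
    have hsplit := finrank_split_fix hrF hy₁ ⊤ htopinv
    rw [top_inf_eq, top_inf_eq, finrank_top, hfix, zero_add] at hsplit
    exact hsplit
  have hFxbot : LinearMap.ker (aeval y₁ (X - 1 : F[X])) = ⊥ := Submodule.finrank_eq_zero.mp hfix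
  have hnd₁ : NDon (twB (stdB d') y₁ r) ⊤ :=
    NDon_twB hrF hr2 hy₁ ⊤ htopinv (by rw [hCytop]) (stdB_NDon_top d')
  have hpol₁ : ∀ u v, polar (⇑(twQ (stdB (F := F) d') y₁)) u v = twB (stdB d') y₁ r u v :=
    polar_twQ halt₀ hiso₀ hr.pos hy₁
  obtain ⟨Q, hQ⟩ : ∃ Q : QuadraticForm F ((Fin d' ⊕ Fin d' → F) × V₂),
      Q = (twQ (stdB d') y₁).prod Q₂ := ⟨_, rfl⟩
  have hQapp : ∀ v, Q v = twQ (stdB d') y₁ v.1 + Q₂ v.2 := fun v => by
    rw [hQ]; rfl
  have hpol : ∀ u v, polar (⇑Q) u v = twB (stdB d') y₁ r u.1 v.1 + polar (⇑Q₂) u.2 v.2 := by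
    intro u v
    rw [← hpol₁]
    unfold polar
    rw [hQapp, hQapp, hQapp]
    simp only [Prod.fst_add, Prod.snd_add]
    ring
  have hnd : ∀ u, (∀ w, polar (⇑Q) u w = 0) → u = 0 := by
    intro u hu
    have h1 : u.1 = 0 := by
      apply hnd₁ u.1 Submodule.mem_top
      intro w _
      have := hu (w, 0)
      rw [hpol] at this
      simpa using this
    have h3 : u.2 = 0 := by
      apply hQ₂.1
      intro w
      have := hu (0, w)
      rw [hpol] at this
      simpa using this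
    exact Prod.ext h1 h3
  have hQnd : (polarBilin Q).Nondegenerate := by
    constructor
    · intro u hu
      exact hnd u hu
    · intro u hu
      apply hnd u
      intro w
      rw [polar_comm]
      exact hu w
  obtain ⟨ψ, hψdef⟩ : ∃ ψ : End F ((Fin d' ⊕ Fin d' → F) × V₂),
      ψ = y₁.prodMap (LinearMap.id : End F V₂) := ⟨_, rfl⟩
  have hψapp : ∀ v, ψ v = (y₁ v.1, v.2) := fun v => by rw [hψdef]; rfl
  have hψr : ψ ^ r = 1 := by
    apply LinearMap.ext
    intro v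
    rw [hψdef, prodMap_id_pow', hy₁]
    rfl
  have hψQ : ∀ v, Q (ψ v) = Q v := by
    intro v
    rw [hQapp, hQapp, hψapp]
    show twQ (stdB d') y₁ (y₁ v.1) + Q₂ v.2 = _
    rw [twQ_iso hiso₀]
  have hidtop : LinearMap.ker (aeval (LinearMap.id : End F V₂)
      (CycFactor.fJ (F := F) r none)) = ⊤ := by
    show LinearMap.ker (aeval (LinearMap.id : End F V₂) (X - 1 : F[X])) = ⊤
    have h1 : aeval (LinearMap.id : End F V₂) (X - 1 : F[X]) = 0 := by
      rw [map_sub, aeval_X, map_one]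
      exact sub_self _
    rw [h1, LinearMap.ker_zero]
  refine ⟨Q, ψ, hQnd, hψr, hψQ, ?_, ?_⟩
  · intro s
    rw [hψdef, finrank_ker_aeval_prodMap]
    have := ker_fJ_eq_bot_of_top hr hrp (LinearMap.id : End F V₂) none (some s)
      (by simp) hidtop
    change LinearMap.ker (aeval (LinearMap.id : End F V₂) s.1) = ⊥ at this
    rw [this, finrank_bot, add_zero]
  · -- the fixed space is `0 × V₂`
    have hmem : ∀ v : (Fin d' ⊕ Fin d' → F) × V₂,
        v ∈ LinearMap.ker (aeval ψ (X - 1 : F[X])) ↔ v.1 = 0 := by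
      intro v
      rw [mem_fix_iff, hψapp]
      constructor
      · intro h
        have h1 : y₁ v.1 = v.1 := congrArg Prod.fst h
        have h2 : v.1 ∈ LinearMap.ker (aeval y₁ (X - 1 : F[X])) := (mem_fix_iff v.1).mpr h1
        rw [hFxbot] at h2
        exact (Submodule.mem_bot F).mp h2
      · intro h
        apply Prod.ext
        · show y₁ v.1 = v.1
          rw [h, map_zero]
        · rfl
    let φ : ↥(LinearMap.ker (aeval ψ (X - 1 : F[X]))) ≃ₗ[F] V₂ :=
      LinearEquiv.ofBijective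
        ((LinearMap.snd F (Fin d' ⊕ Fin d' → F) V₂).comp
          (LinearMap.ker (aeval ψ (X - 1 : F[X]))).subtype) (by
        constructor
        · rw [← LinearMap.ker_eq_bot, LinearMap.ker_eq_bot']
          intro v hv
          apply Subtype.ext
          have h1 : v.1.2 = 0 := hv
          have h2 : v.1.1 = 0 := (hmem v.1).mp v.2
          exact Prod.ext h2 h1
        · intro w
          exact ⟨⟨(0, w), (hmem (0, w)).mpr rfl⟩, rfl⟩)
    apply isSg_of_equiv _ φ Q₂ _ h₂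
    intro v
    have h2 : v.1.1 = 0 := (hmem v.1).mp v.2
    show Q v.1 = Q₂ v.1.2
    rw [hQapp, h2, map_zero, zero_add]

/-- from a symplectic matrix of order `r` without fixed vectors to an element of `Ω` of a
quadratic space of dimension `2 d` and type `e` with the same kernel dimensions and a fixed space
of dimension `2 f` -/
theorem exists_test_omega [DecidableEq F] (hF : Fintype.card F = q) (r : ℕ) [Fact r.Prime]
    (hrp : r ≠ p) (hr2 : r ≠ 2) {ι : Type} [Fintype ι] [DecidableEq ι]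
    (Q' : QuadraticForm F (ι → F)) (hQ' : (polarBilin Q').Nondegenerate) {d e : ℕ}
    (hsg' : IsSg Q' d e) (hd : 3 ≤ d) (d' f eF : ℕ) (hdim : d = d' + f) (heF : eF ≤ 1)
    (heFf : eF ≤ f)
    (x₀ : ↥(Matrix.symplecticGroup (Fin d') F))
    (hx₀ : (x₀ : Matrix (Fin d' ⊕ Fin d') (Fin d' ⊕ Fin d') F) ^ r = 1)
    (hfix : finrank F (LinearMap.ker (aeval (Matrix.toLin'
      (x₀ : Matrix (Fin d' ⊕ Fin d') (Fin d' ⊕ Fin d') F)) (X - 1 : F[X]))) = 0)
    (hpo : ¬ Even (orderOf (q : ZMod r)) → eF = e)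
    (hpe : Even (orderOf (q : ZMod r)) → ∀ a, orderOf (q : ZMod r) * a = 2 * d' →
      Even (e + a + eF)) :
    ∃ x : GL ι F, x ∈ Cfsg.Geo.omegaGL ⇑Q' ∧ x ^ r = 1 ∧
      (∀ s : CycFactor.S r F, finrank F (LinearMap.ker (aeval (Matrix.toLin'
        (x : Matrix ι ι F)) s.1)) =
          finrank F (LinearMap.ker (aeval (Matrix.toLin'
            (x₀ : Matrix (Fin d' ⊕ Fin d') (Fin d' ⊕ Fin d') F)) s.1))) ∧
      finrank F (LinearMap.ker (aeval (Matrix.toLin' (x : Matrix ι ι F)) (X - 1 : F[X]))) =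
        2 * f := by
  have hr : r.Prime := Fact.out
  obtain ⟨ι₂, _, _, Q₂, hQ₂, h₂⟩ := exists_typed_space (F := F) f eF heF heFf
  obtain ⟨Q, ψ, hQnd, hψr, hψQ, hker, hFsg⟩ :=
    exists_test_quad r hrp hr2 d' x₀ hx₀ hfix Q₂ hQ₂ h₂
  have hV : finrank F ((Fin d' ⊕ Fin d' → F) × (ι₂ → F)) = 2 * d := by
    rw [Module.finrank_prod, finrank_std, h₂.1, hdim]
    ring
  obtain ⟨e', he'⟩ := exists_isSg Q hQnd d hV
  obtain ⟨-, -, -, -, f', a', eF', hFxdim, hCydim, hdim', hsgF, hodd, heven⟩ :=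
    struct_quad Q hF hrp hr2 hQnd he' ψ hψQ hψr
  obtain ⟨hff, hee⟩ := IsSg.unique _ hsgF hFsg
  subst hff
  subst hee
  have he'1 := he'.le_one
  have he1 := hsg'.le_one
  have hee' : e' = e := by
    by_cases hi : Even (orderOf (q : ZMod r))
    · have hcOf : cOf (orderOf (q : ZMod r)) = orderOf (q : ZMod r) := by
        unfold cOf
        rw [if_pos hi]
      rw [hcOf] at hdim'
      obtain ⟨k₁, hk₁⟩ := heven hi
      obtain ⟨k₂, hk₂⟩ := hpe hi a' (by omega)
      omega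
    · rw [← hodd hi, hpo hi]
  subst hee'
  obtain ⟨Φ, hΦ⟩ := exists_iso_of_isSg Q Q' hQnd hQ' (by omega) he' hsg'
  obtain ⟨x, hxmem, hxr, hkerx⟩ := exists_mat_of_isometry (⇑Q) Q' Φ hΦ ψ r hr.pos hψr hψQ
  have hcard : 5 ≤ Fintype.card ι := by
    have := hsg'.1
    rw [Module.finrank_fintype_fun_eq_card] at this
    omega
  have hoddr : Odd r := by
    rcases hr.eq_two_or_odd' with h | h
    · exact absurd h hr2
    · exact h
  refine ⟨x, mem_omegaGL_of_odd Q' hQ' hcard x hxmem r hoddr hxr, hxr, ?_, ?_⟩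
  · intro s
    rw [hkerx, hker]
  · rw [hkerx, hFxdim]

end test

end Cfsg.Agent.Lib.H24.Oq
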