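import Mathlib
import Cfsg.Agent.Lib.H24.OqTestC
import Cfsg.Agent.Lib.H24.OqShape

set_option autoImplicit false

/-!
# `Ω^±_{2d}(q)` on totally singular `m`-spaces, odd `r ≠ p`: reduction to arithmetic (helper24)

* `GoodOdd`, `GoodEven`: the arithmetic conditions in terms of the possible structures;
* `suff_good`: they suffice for every isometry of order `r` to fix a totally singular `m`-space;
* `nec_good_odd`, `nec_good_even`: they are necessary (test elements).
-/

namespace Cfsg.Agent.Lib.H24.Oq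

open Module QuadraticMap Polynomial
open Cfsg.Agent.Lib.H24.Elus Cfsg.Agent.Lib.H10.OrtNd Cfsg.Agent.Lib.H13.OSS Cfsg.Agent.Lib.H13

/-- the arithmetic condition, `ord_r q` odd -/
def GoodOdd (i d m e : ℕ) : Prop :=
  ∀ a f, f + i * a = d → 1 ≤ a → e ≤ f → ∃ j s, j ≤ a ∧ s + e ≤ f ∧ j * i + s = m

/-- the arithmetic condition, `ord_r q` even -/
def GoodEven (i t d m e : ℕ) : Prop :=
  ∀ b f eF, 2 * f + i * b = 2 * d → 1 ≤ b → eF ≤ 1 → eF ≤ f → Even (e + b + eF) →
    ∃ j s, (j = 0 ∨ 2 * j + t ≤ b + 1) ∧ s + eF ≤ f ∧ j * i + s = m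

theorem sum_shape_le {S : Type*} [Fintype S] [DecidableEq S] (T : Finset S) (s₁ : S) (n i : ℕ)
    (hi : 0 < i) :
    ∑ s : S, ((if s = s₁ then n * i else 0) + (if s ∈ T then i else 0)) / (2 * i) ≤
      (n + 1) / 2 := by
  rw [Finset.sum_eq_single_of_mem s₁ (Finset.mem_univ _)]
  · rw [if_pos rfl]
    calc (n * i + if s₁ ∈ T then i else 0) / (2 * i) ≤ (n * i + i) / (2 * i) := by
          apply Nat.div_le_div_right
          split_ifs <;> omega
      _ = ((n + 1) * i) / (2 * i) := by rw [Nat.add_mul, one_mul]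
      _ = (n + 1) / 2 := Nat.mul_div_mul_right _ _ hi
  · intro s _ hs
    rw [if_neg hs, zero_add]
    apply Nat.div_eq_of_lt
    split_ifs <;> omega

section suff

variable {F V : Type*} [Field F] [Fintype F] {p q : ℕ} [Fact p.Prime] [CharP F p]
  [AddCommGroup V] [Module F V] [FiniteDimensional F V] (Q : QuadraticForm F V)

/-- sufficiency of the arithmetic conditions -/
theorem suff_good (hF : Fintype.card F = q) {r : ℕ} [Fact r.Prime] (hrp : r ≠ p) (hr2 : r ≠ 2)
    (hQ : (polarBilin Q).Nondegenerate) {d e : ℕ} (hsg : IsSg Q d e) (m : ℕ) (hm : m + 1 ≤ d)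
    (hgo : ¬ Even (orderOf (q : ZMod r)) → GoodOdd (orderOf (q : ZMod r)) d m e)
    (hge : Even (orderOf (q : ZMod r)) →
      GoodEven (orderOf (q : ZMod r)) ((r - 1) / orderOf (q : ZMod r)) d m e)
    (y : End F V) (hiso : ∀ v, Q (y v) = Q v) (hy : y ^ r = 1) :
    ∃ W : Submodule F V, finrank F W = m ∧ TS Q W ∧ ∀ v ∈ W, y v ∈ W := by
  classical
  have hr : r.Prime := Fact.out
  have hi0 : 0 < orderOf (q : ZMod r) := CycFactor.orderOf_pos hF hr hrp
  obtain ⟨hFxnd, hCynd, hCynd', horth, f, a, eF, hFxdim, hCydim, hdim, hsgF, hodd, heven⟩ :=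
    struct_quad Q hF hrp hr2 hQ hsg y hiso hy
  have he1 := hsg.le_one
  have heF1 := hsgF.le_one
  have heFf := hsgF.e_le
  suffices hkey : ∃ j s, s + eF ≤ f ∧ (¬ Even (orderOf (q : ZMod r)) → j ≤ a) ∧
      (Even (orderOf (q : ZMod r)) →
        j = 0 ∨ 2 * j + (r - 1) / orderOf (q : ZMod r) ≤ a + 1) ∧
      j * orderOf (q : ZMod r) + s = m by
    obtain ⟨j, s, hs, hjo, hje, hjs⟩ := hkey
    obtain ⟨W, hWd, hWts, hWinv⟩ := suff_quad Q hF hrp hr2 y hiso hy hFxnd hCynd' horth f a eF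
      hCydim hsgF j s hs hjo hje
    exact ⟨W, by rw [hWd, hjs], hWts, hWinv⟩
  rcases Nat.eq_zero_or_pos a with ha | ha
  · subst ha
    rw [mul_zero, add_zero] at hdim
    have hfd : f = d := by omega
    refine ⟨0, m, ?_, fun _ => le_rfl, fun _ => Or.inl rfl, by omega⟩
    by_cases hi : Even (orderOf (q : ZMod r))
    · obtain ⟨k₁, hk₁⟩ := heven hi
      omega
    · rw [hodd hi]
      omega
  · by_cases hi : Even (orderOf (q : ZMod r))
    · have hcOf : cOf (orderOf (q : ZMod r)) = orderOf (q : ZMod r) := by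
        unfold cOf
        rw [if_pos hi]
      rw [hcOf] at hdim
      obtain ⟨j, s, hj, hs, hjs⟩ := hge hi a f eF hdim ha heF1 heFf (heven hi)
      exact ⟨j, s, hs, fun h => absurd hi h, fun _ => hj, hjs⟩
    · have hcOf : cOf (orderOf (q : ZMod r)) = 2 * orderOf (q : ZMod r) := by
        unfold cOf
        rw [if_neg hi]
      rw [hcOf] at hdim
      have heFe := hodd hi
      subst heFe
      obtain ⟨j, s, hj, hs, hjs⟩ := hgo hi a f (by
        have : 2 * orderOf (q : ZMod r) * a = 2 * (orderOf (q : ZMod r) * a) := by ring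
        omega) ha heFf
      exact ⟨j, s, hs, fun _ => hj, fun h => absurd h hi, hjs⟩

end suff

section nec

variable {F : Type*} [Field F] [Fintype F] {p q : ℕ} [Fact p.Prime] [CharP F p]
  {ι : Type} [Fintype ι] [DecidableEq ι] (Q' : QuadraticForm F (ι → F))

/-- every nontrivial element of `Ω` with `x ^ r = 1` fixes a totally singular `m`-space -/
def AllFixTS (m r : ℕ) : Prop :=
  ∀ x : GL ι F, x ∈ Cfsg.Geo.omegaGL ⇑Q' → x ^ r = 1 → x ≠ 1 →
    ∃ W : Submodule F (ι → F), finrank F W = m ∧ TS Q' W ∧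
      ∀ v ∈ W, Matrix.toLin' (x : Matrix ι ι F) v ∈ W

theorem nec_core [DecidableEq F] (hF : Fintype.card F = q) {r : ℕ} [Fact r.Prime] (hrp : r ≠ p)
    (hr2 : r ≠ 2) (hQ' : (polarBilin Q').Nondegenerate) {d e : ℕ} (hsg' : IsSg Q' d e) (m : ℕ)
    (hall : AllFixTS Q' m r) (x : GL ι F) (hx : x ∈ Cfsg.Geo.omegaGL ⇑Q') (hxr : x ^ r = 1)
    (f : ℕ) (hf : f < d)
    (hfix : finrank F (LinearMap.ker (aeval (Matrix.toLin' (x : Matrix ι ι F))
      (X - 1 : F[X]))) = 2 * f) :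
    ∃ a eF j s, 2 * f + cOf (orderOf (q : ZMod r)) * a = 2 * d ∧ eF ≤ 1 ∧ eF ≤ f ∧
      (¬ Even (orderOf (q : ZMod r)) → eF = e) ∧
      (Even (orderOf (q : ZMod r)) → Even (e + a + eF)) ∧
      m = j * orderOf (q : ZMod r) + s ∧ s + eF ≤ f ∧
      (¬ Even (orderOf (q : ZMod r)) → j ≤ a) ∧
      (Even (orderOf (q : ZMod r)) → j ≤ ∑ s : CycFactor.S r F,
        finrank F (LinearMap.ker (aeval (Matrix.toLin' (x : Matrix ι ι F)) s.1)) /
          (2 * orderOf (q : ZMod r))) := by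
  have hr : r.Prime := Fact.out
  have hx1 : x ≠ 1 := by
    rintro rfl
    have h2 : aeval (Matrix.toLin' ((1 : GL ι F) : Matrix ι ι F)) (X - 1 : F[X]) = 0 := by
      rw [map_sub, aeval_X, map_one, Units.val_one, Matrix.toLin'_one]
      exact sub_self _
    rw [h2, LinearMap.ker_zero, finrank_top, hsg'.1] at hfix
    omega
  obtain ⟨W, hWm, hWts, hWinv⟩ := hall x hx hxr hx1
  obtain ⟨y, hy⟩ : ∃ y, y = Matrix.toLin' (x : Matrix ι ι F) := ⟨_, rfl⟩
  rw [← hy] at hfix hWinv ⊢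
  have hyr : y ^ r = 1 := by
    rw [hy, ← Matrix.toLin'_pow, ← Units.val_pow_eq_pow_val, hxr, Units.val_one,
      Matrix.toLin'_one]
    rfl
  have hxiso : x ∈ Cfsg.isometryGroup F ⇑Q' := by
    obtain ⟨g, -, rfl⟩ := hx
    exact g.2
  have hyiso : ∀ v, Q' (y v) = Q' v := by
    intro v
    rw [hy, Matrix.toLin'_apply]
    exact (AutPO.mem_iso_iff (Q := Q') x).mp hxiso v
  obtain ⟨hFxnd, hCynd, hCynd', horth, f', a, eF, hFxdim, hCydim, hdim, hsgF, hodd, heven⟩ :=
    struct_quad Q' hF hrp hr2 hQ' hsg' y hyiso hyr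
  have hff : f' = f := by omega
  subst hff
  obtain ⟨j, s, hjs, hs, hjo, hje⟩ := nec_quad Q' hF hrp hr2 y hyiso hyr hFxnd hCynd' f' a eF
    hCydim hsgF W hWinv hWts
  exact ⟨a, eF, j, s, hdim, hsgF.le_one, hsgF.e_le, hodd, heven, by rw [← hWm, hjs], hs, hjo,
    hje⟩

/-- necessity, `ord_r q` odd -/
theorem nec_good_odd (hF : Fintype.card F = q) {r : ℕ} [Fact r.Prime] (hrp : r ≠ p)
    (hr2 : r ≠ 2) (hQ' : (polarBilin Q').Nondegenerate) {d e : ℕ} (hsg' : IsSg Q' d e)
    (hd : 3 ≤ d) (m : ℕ) (hall : AllFixTS Q' m r) (hi : ¬ Even (orderOf (q : ZMod r))) :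
    GoodOdd (orderOf (q : ZMod r)) d m e := by
  classical
  have hr : r.Prime := Fact.out
  have hi0 : 0 < orderOf (q : ZMod r) := CycFactor.orderOf_pos hF hr hrp
  have hcOf : cOf (orderOf (q : ZMod r)) = 2 * orderOf (q : ZMod r) := by
    unfold cOf
    rw [if_neg hi]
  intro a f hdim ha hef
  obtain ⟨x₀, hx₀, hfix₀⟩ := exists_sp_test hF r hrp hr2 (orderOf (q : ZMod r)) hcOf.symm 0 a
    (a * orderOf (q : ZMod r) + 0) rfl
  obtain ⟨x, hxΩ, hxr, -, hxfix⟩ := exists_test_omega hF r hrp hr2 Q' hQ' hsg' hd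
    (a * orderOf (q : ZMod r) + 0) f e (by rw [← hdim, mul_comm]; omega) hsg'.le_one hef x₀ hx₀
    (by rw [hfix₀]) (fun _ => rfl) (fun h => absurd h hi)
  have hapos : 0 < orderOf (q : ZMod r) * a := Nat.mul_pos hi0 ha
  obtain ⟨a', eF, j, s, hdim', -, -, hodd, -, hjs, hs, hjo, -⟩ :=
    nec_core Q' hF hrp hr2 hQ' hsg' m hall x hxΩ hxr f (by omega) hxfix
  rw [hcOf] at hdim'
  have haa : a' = a := by
    have h1 : 2 * orderOf (q : ZMod r) * a' = 2 * orderOf (q : ZMod r) * a := by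
      have : 2 * orderOf (q : ZMod r) * a = 2 * (orderOf (q : ZMod r) * a) := by ring
      omega
    exact Nat.eq_of_mul_eq_mul_left (by omega) h1
  rw [hodd hi] at hs
  exact ⟨j, s, haa ▸ hjo hi, hs, hjs.symm⟩

/-- necessity, `ord_r q` even -/
theorem nec_good_even (hF : Fintype.card F = q) {r : ℕ} [Fact r.Prime] (hrp : r ≠ p)
    (hr2 : r ≠ 2) (hQ' : (polarBilin Q').Nondegenerate) {d e : ℕ} (hsg' : IsSg Q' d e)
    (hd : 3 ≤ d) (m : ℕ) (hall : AllFixTS Q' m r) (hi : Even (orderOf (q : ZMod r))) :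
    GoodEven (orderOf (q : ZMod r)) ((r - 1) / orderOf (q : ZMod r)) d m e := by
  classical
  have hr : r.Prime := Fact.out
  have hi0 : 0 < orderOf (q : ZMod r) := CycFactor.orderOf_pos hF hr hrp
  have hcOf : cOf (orderOf (q : ZMod r)) = orderOf (q : ZMod r) := by
    unfold cOf
    rw [if_pos hi]
  obtain ⟨c', hc'⟩ := hi
  have hc : 2 * c' = orderOf (q : ZMod r) := by omega
  have hcard := CycFactor.card_S (F := F) hF hr hrp
  obtain ⟨t, ht⟩ : ∃ t, t = Fintype.card (CycFactor.S r F) := ⟨_, rfl⟩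
  rw [← ht] at hcard
  have ht' : (r - 1) / orderOf (q : ZMod r) = t := by
    rw [← hcard]
    exact Nat.mul_div_cancel _ hi0
  rw [ht']
  have ht0 : 0 < t := by
    rcases Nat.eq_zero_or_pos t with h | h
    · rw [h, zero_mul] at hcard
      have := hr.two_le
      omega
    · exact h
  intro b f eF hdim hb heF heFf hpar
  obtain ⟨s₁⟩ : Nonempty (CycFactor.S r F) := by
    rw [← Fintype.card_pos_iff, ← ht]
    exact ht0
  obtain ⟨T, -, hT⟩ := Finset.exists_subset_card_eq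
    (s := (Finset.univ : Finset (CycFactor.S r F))) (n := min b t) (by
      rw [Finset.card_univ, ← ht]; exact min_le_right _ _)
  obtain ⟨n, hn⟩ : ∃ n, n = b - min b t := ⟨_, rfl⟩
  have hnb : n + min b t = b := by
    have := min_le_left b t
    omega
  obtain ⟨x₀, hx₀, hk₀, hfix₀⟩ := exists_sp_shape hF r hrp hr2 c' hc T s₁ n
    (n * c' + T.card * c') rfl
  have hd' : n * c' + T.card * c' = b * c' := by
    rw [hT, ← Nat.add_mul, hnb]
  have hdd : d = b * c' + f := by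
    have : orderOf (q : ZMod r) * b = 2 * (b * c') := by rw [← hc]; ring
    omega
  obtain ⟨x, hxΩ, hxr, hxk, hxfix⟩ := exists_test_omega hF r hrp hr2 Q' hQ' hsg' hd
    (n * c' + T.card * c') f eF (by rw [hd']; exact hdd) heF heFf x₀ hx₀
    (by rw [hfix₀]) (fun h => absurd ⟨c', hc'⟩ h) (fun _ a' ha' => by
      have h1 : orderOf (q : ZMod r) * a' = orderOf (q : ZMod r) * b := by
        rw [ha', hd', ← hc]; ring
      rw [Nat.eq_of_mul_eq_mul_left hi0 h1]
      exact hpar)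
  have hbpos : 0 < b * c' := Nat.mul_pos hb (by omega)
  obtain ⟨a', eF', j, s, hdim', heF'1, -, -, heven, hjs, hs, -, hje⟩ :=
    nec_core Q' hF hrp hr2 hQ' hsg' m hall x hxΩ hxr f (by omega) hxfix
  rw [hcOf] at hdim'
  have haa : a' = b := by
    have h1 : orderOf (q : ZMod r) * a' = orderOf (q : ZMod r) * b := by omega
    exact Nat.eq_of_mul_eq_mul_left hi0 h1
  rw [haa] at heven
  have hee : eF' = eF := by
    obtain ⟨k₁, hk₁⟩ := heven ⟨c', hc'⟩
    obtain ⟨k₂, hk₂⟩ := hpar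
    omega
  subst hee
  refine ⟨j, s, ?_, hs, hjs.symm⟩
  have hj := hje ⟨c', hc'⟩
  have hsum : ∑ s : CycFactor.S r F,
      finrank F (LinearMap.ker (aeval (Matrix.toLin' (x : Matrix ι ι F)) s.1)) /
        (2 * orderOf (q : ZMod r)) ≤ (n + 1) / 2 := by
    have h1 : ∀ s : CycFactor.S r F,
        finrank F (LinearMap.ker (aeval (Matrix.toLin' (x : Matrix ι ι F)) s.1)) =
          (if s = s₁ then n * orderOf (q : ZMod r) else 0) +
            (if s ∈ T then orderOf (q : ZMod r) else 0) := by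
      intro s
      rw [hxk, hk₀, hc]
    rw [Finset.sum_congr rfl (fun s _ => by rw [h1 s])]
    exact sum_shape_le T s₁ n _ hi0
  have hj' : j ≤ (n + 1) / 2 := hj.trans hsum
  rcases le_total b t with hbt | hbt
  · left
    rw [min_eq_left hbt] at hn
    omega
  · right
    rw [min_eq_right hbt] at hn
    omega

end nec

end Cfsg.Agent.Lib.H24.Oq
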