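import Mathlib
import Cfsg.Agent.Lib.H24.OqNec

set_option autoImplicit false

/-!
# `Ω^±_{2d}(q)` on totally singular `m`-spaces, odd `r ≠ p`: the arithmetic (helper24)

The conditions `GoodOdd` and `GoodEven` in terms of `n' = ⌊2d / i⌋`, `k = 2d mod c`, `m' = ⌊m / i⌋`,
`ℓ = m mod i`, `t = (r - 1) / i`.
-/

namespace Cfsg.Agent.Lib.H24.Oq

theorem divmod_of_eq {i n C R : ℕ} (hi : 0 < i) (h : n = i * C + R) (hR : R < i) :
    n / i = C ∧ n % i = R := by
  constructor
  · rw [h, Nat.mul_add_div hi, Nat.div_eq_of_lt hR, add_zero]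
  · rw [h, Nat.mul_add_mod, Nat.mod_eq_of_lt hR]

section odd

theorem goodOdd_of_cond (i d m e : ℕ) (hi : 0 < i) (hmd : m + 1 ≤ d)
    (hc : (e = 0 ∧ m % i ≤ d % i) ∨ (e = 1 ∧ (d % i = 0 ∨ m % i < d % i))) :
    GoodOdd i d m e := by
  intro a f hdim ha hef
  have hfmod : f % i = d % i := by rw [← hdim, Nat.add_mul_mod_self_left]
  have hfge : f % i ≤ f := Nat.mod_le _ _
  have hm := Nat.div_add_mod m i
  have hl : m % i < i := Nat.mod_lt _ hi
  rcases le_total (m / i) a with hle | hle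
  · refine ⟨m / i, m % i, hle, ?_, by rw [mul_comm]; exact hm⟩
    rcases hc with ⟨rfl, h⟩ | ⟨rfl, h | h⟩
    · omega
    · have h1 : i ∣ f := Nat.dvd_of_mod_eq_zero (by omega)
      have := Nat.le_of_dvd (by omega) h1
      omega
    · omega
  · have h1 : a * i ≤ (m / i) * i := Nat.mul_le_mul_right _ hle
    have h2 : (m / i) * i ≤ m := Nat.div_mul_le_self m i
    have h3 : i * a = a * i := mul_comm _ _
    have he : e ≤ 1 := by rcases hc with ⟨rfl, _⟩ | ⟨rfl, _⟩ <;> omega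
    exact ⟨a, m - a * i, le_rfl, by omega, by omega⟩

theorem cond_of_goodOdd (i d m e : ℕ) (hi : 0 < i) (hodd : Odd i) (he : e ≤ 1) (hm : 1 ≤ m)
    (hmd : m + 1 ≤ d) (hg : GoodOdd i d m e) (hch : CHyp i d e m) :
    i ≤ m ∧ ((e = 0 ∧ m % i ≤ d % i) ∨ (e = 1 ∧ (d % i = 0 ∨ m % i < d % i))) := by
  obtain ⟨j₀, hj₀, hdiv⟩ := hch
  have hcop : Nat.Coprime i 2 := Odd.coprime_two_right hodd
  have hdiv' : i ∣ d - e - j₀ := by
    rcases hdiv with h | ⟨h1, h2⟩
    · exact h
    · exact absurd ((Nat.Coprime.dvd_mul_left hcop).mp h1) h2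
  obtain ⟨c, hc⟩ := hdiv'
  have hc1 : 1 ≤ c := by
    rcases Nat.eq_zero_or_pos c with h | h
    · rw [h, mul_zero] at hc
      omega
    · exact h
  have hic : i ≤ i * c := Nat.le_mul_of_pos_right i hc1
  have hdd : d = i * c + (e + j₀) := by omega
  have hdi : i ≤ d := by omega
  have ha1 : 1 ≤ d / i := (Nat.one_le_div_iff hi).mpr hdi
  have hdm := Nat.mod_add_div d i
  have hkl : d % i < i := Nat.mod_lt _ hi
  have hmodd : d % i = (e + j₀) % i := by rw [hdd, Nat.mul_add_mod]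
  have hmm := Nat.div_add_mod m i
  have hl : m % i < i := Nat.mod_lt _ hi
  -- the consequence of a test with `s < i`
  have key : ∀ j s, s < i → j * i + s = m → s = m % i := by
    intro j s hs hjs
    rw [← hjs, mul_comm, Nat.mul_add_mod, Nat.mod_eq_of_lt hs]
  rcases Nat.eq_zero_or_pos e with h0 | h0
  · subst h0
    obtain ⟨j, s, hja, hs, hjs⟩ := hg (d / i) (d % i) hdm ha1 (by omega)
    have hsl := key j s (by omega) hjs
    refine ⟨?_, Or.inl ⟨rfl, by omega⟩⟩
    by_contra hlt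
    push Not at hlt
    rw [Nat.mod_eq_of_lt hlt] at hsl
    rw [Nat.mod_eq_of_lt (by omega : 0 + j₀ < i)] at hmodd
    omega
  · have h1 : e = 1 := by omega
    subst h1
    rcases Nat.eq_zero_or_pos (d % i) with hk0 | hkpos
    · refine ⟨?_, Or.inr ⟨rfl, Or.inl hk0⟩⟩
      rw [hk0] at hmodd
      have h2 : i ∣ 1 + j₀ := Nat.dvd_of_mod_eq_zero hmodd.symm
      have := Nat.le_of_dvd (by omega) h2
      omega
    · obtain ⟨j, s, hja, hs, hjs⟩ := hg (d / i) (d % i) hdm ha1 (by omega)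
      have hsl := key j s (by omega) hjs
      refine ⟨?_, Or.inr ⟨rfl, Or.inr (by omega)⟩⟩
      by_contra hlt
      push Not at hlt
      rw [Nat.mod_eq_of_lt hlt] at hsl
      rw [Nat.mod_eq_of_lt (by omega : 1 + j₀ < i)] at hmodd
      omega

end odd

section even

variable (i t d m e : ℕ)

/-- the test `b = n'` -/
theorem good_even_T0 (hi : 0 < i) (hie : Even i) (hg : GoodEven i t d m e)
    (hN1 : 1 ≤ 2 * d / i) (hval : ¬ (2 * d % i = 0 ∧ (e + 2 * d / i) % 2 = 1)) :
    (m / i = 0 ∨ 2 * (m / i) + t ≤ 2 * d / i + 1) ∧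
      2 * (m % i) + 2 * ((e + 2 * d / i) % 2) ≤ 2 * d % i := by
  obtain ⟨h, hh⟩ := hie
  have hNk := Nat.div_add_mod (2 * d) i
  have hk : 2 * d % i < i := Nat.mod_lt _ hi
  generalize hN : 2 * d / i = N at hNk hk hval hN1 ⊢
  generalize hkdef : 2 * d % i = k at hNk hk hval hN1 ⊢
  have hprod : i * N = 2 * (h * N) := by rw [hh]; ring
  obtain ⟨j, s, hj, hs, hjs⟩ := hg N (k / 2) ((e + N) % 2) (by omega) hN1 (by omega) (by omega)
    (Nat.even_iff.mpr (by omega))
  have hsi : s < i := by omega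
  obtain ⟨hjM, hsl⟩ := divmod_of_eq hi (by rw [← hjs]; ring : m = i * j + s) hsi
  rw [hjM, hsl]
  omega

/-- the test `b = n' - 1` -/
theorem good_even_T1 (hi : 0 < i) (hie : Even i) (hg : GoodEven i t d m e)
    (hN2 : 2 ≤ 2 * d / i) :
    (m / i = 0 ∨ 2 * (m / i) + t ≤ 2 * d / i) ∧
      2 * (m % i) + 2 * ((e + 2 * d / i + 1) % 2) ≤ i + 2 * d % i := by
  obtain ⟨h, hh⟩ := hie
  have hNk := Nat.div_add_mod (2 * d) i
  have hk : 2 * d % i < i := Nat.mod_lt _ hi
  generalize hN : 2 * d / i = N at hNk hk hN2 ⊢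
  generalize hkdef : 2 * d % i = k at hNk hk hN2 ⊢
  obtain ⟨N', rfl⟩ : ∃ N', N = N' + 1 := ⟨N - 1, by omega⟩
  have hprod : i * (N' + 1) = 2 * (h * N') + i := by rw [hh]; ring
  have hprod' : i * N' = 2 * (h * N') := by rw [hh]; ring
  obtain ⟨j, s, hj, hs, hjs⟩ := hg N' ((i + k) / 2) ((e + (N' + 1) + 1) % 2) (by omega)
    (by omega) (by omega) (by omega) (Nat.even_iff.mpr (by omega))
  have hsi : s < i := by omega
  obtain ⟨hjM, hsl⟩ := divmod_of_eq hi (by rw [← hjs]; ring : m = i * j + s) hsi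
  rw [hjM, hsl]
  omega

/-- the test `b = n' - 2` -/
theorem good_even_T2 (hi : 0 < i) (hie : Even i) (hg : GoodEven i t d m e)
    (hN3 : 3 ≤ 2 * d / i) :
    (m / i = 0 ∨ 2 * (m / i) + t + 1 ≤ 2 * d / i) ∨
      (1 ≤ m / i ∧ (m / i = 1 ∨ 2 * (m / i) + t ≤ 2 * d / i + 1) ∧
        2 * (m % i) + 2 * ((e + 2 * d / i) % 2) ≤ 2 * d % i) := by
  obtain ⟨h, hh⟩ := hie
  have hNk := Nat.div_add_mod (2 * d) i
  have hk : 2 * d % i < i := Nat.mod_lt _ hi
  generalize hN : 2 * d / i = N at hNk hk hN3 ⊢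
  generalize hkdef : 2 * d % i = k at hNk hk hN3 ⊢
  obtain ⟨N', rfl⟩ : ∃ N', N = N' + 2 := ⟨N - 2, by omega⟩
  have hprod : i * (N' + 2) = 2 * (h * N') + 2 * i := by rw [hh]; ring
  have hprod' : i * N' = 2 * (h * N') := by rw [hh]; ring
  obtain ⟨j, s, hj, hs, hjs⟩ := hg N' (i + k / 2) ((e + (N' + 2)) % 2) (by omega)
    (by omega) (by omega) (by omega) (Nat.even_iff.mpr (by omega))
  rcases Nat.lt_or_ge s i with hsi | hsi
  · obtain ⟨hjM, hsl⟩ := divmod_of_eq hi (by rw [← hjs]; ring : m = i * j + s) hsi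
    left
    rw [hjM]
    omega
  · obtain ⟨s', rfl⟩ : ∃ s', s = i + s' := ⟨s - i, by omega⟩
    have hs'i : s' < i := by omega
    obtain ⟨hjM, hsl⟩ := divmod_of_eq hi (by rw [← hjs]; ring : m = i * (j + 1) + s') hs'i
    right
    rw [hjM, hsl]
    omega

theorem le_of_goodEven (hi : 0 < i) (hie : Even i) (he : e ≤ 1) (hm : 1 ≤ m)
    (hmd : m + 1 ≤ d) (hg : GoodEven i t d m e) (hch : CHyp i d e m) : i ≤ m := by
  by_contra hlt
  push Not at hlt
  have hM : m / i = 0 := Nat.div_eq_of_lt hlt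
  have hl : m % i = m := Nat.mod_eq_of_lt hlt
  obtain ⟨j₀, hj₀, hdiv⟩ := hch
  have hi2 : 2 ≤ i := by obtain ⟨h, hh⟩ := hie; omega
  have hrep : ∃ C e', 1 ≤ C ∧ e' ≤ 1 ∧ (e' + e + C) % 2 = 0 ∧
      2 * d = i * C + (2 * e' + 2 * j₀) := by
    rcases hdiv with h | ⟨h1, h2⟩
    · obtain ⟨c, hc⟩ := h
      have hc1 : 1 ≤ c := by
        rcases Nat.eq_zero_or_pos c with h | h
        · rw [h, mul_zero] at hc
          omega
        · exact h
      have h3 : i * (2 * c) = 2 * (i * c) := by ring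
      exact ⟨2 * c, e, by omega, he, by omega, by omega⟩
    · obtain ⟨c, hc⟩ := h1
      have hcodd : c % 2 = 1 := by
        by_contra hce
        apply h2
        obtain ⟨c', hc'⟩ : ∃ c', c = 2 * c' := ⟨c / 2, by omega⟩
        have h3 : i * c = 2 * (i * c') := by rw [hc']; ring
        exact ⟨c', by omega⟩
      exact ⟨c, 1 - e, by omega, by omega, by omega, by omega⟩
  obtain ⟨C, e', hC1, he'1, hpar, h2d⟩ := hrep
  rcases Nat.lt_or_ge (2 * e' + 2 * j₀) i with hsmall | hbig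
  · obtain ⟨hN, hk⟩ := divmod_of_eq hi h2d hsmall
    have T0 := good_even_T0 i t d m e hi hie hg (by rw [hN]; exact hC1)
      (by rw [hN, hk]; omega)
    rw [hN, hk, hM, hl] at T0
    omega
  · have h3 : i * (C + 1) = i * C + i := by ring
    obtain ⟨hN, hk⟩ := divmod_of_eq hi
      (by omega : 2 * d = i * (C + 1) + (2 * e' + 2 * j₀ - i)) (by omega)
    by_cases hv : 2 * e' + 2 * j₀ - i = 0 ∧ e' = 0
    · have T1 := good_even_T1 i t d m e hi hie hg (by rw [hN]; omega)
      rw [hN, hk, hM, hl] at T1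
      omega
    · have T0 := good_even_T0 i t d m e hi hie hg (by rw [hN]; omega)
        (by rw [hN, hk]; omega)
      rw [hN, hk, hM, hl] at T0
      omega

theorem cond_of_goodEven (hi : 0 < i) (hie : Even i) (ht : 0 < t) (he : e ≤ 1) (hm : 1 ≤ m)
    (hmd : m + 1 ≤ d) (hg : GoodEven i t d m e) (hch : CHyp i d e m) :
    i ≤ m ∧ t + 2 * (m / i) ≤ 2 * d / i ∧
      ((2 * (m % i) ≤ i ∧ 2 * d % i = 0 ∧ (e + 2 * d / i) % 2 = 1 ∧
          t + 2 * (m / i) < 2 * d / i) ∨
       (2 * (m % i) ≤ 2 * d % i ∧ (e + 2 * d / i) % 2 = 0) ∨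
       (2 * (m % i) < 2 * d % i ∧ (e + 2 * d / i) % 2 = 1)) := by
  have him := le_of_goodEven i t d m e hi hie he hm hmd hg hch
  have hM1 : 1 ≤ m / i := Nat.div_pos him hi
  have hN2 : 2 ≤ 2 * d / i := (Nat.le_div_iff_mul_le hi).mpr (by omega)
  have T1 := good_even_T1 i t d m e hi hie hg hN2
  have hN : t + 2 * (m / i) ≤ 2 * d / i := by omega
  have hN3 : 3 ≤ 2 * d / i := by omega
  refine ⟨him, hN, ?_⟩
  by_cases hv : 2 * d % i = 0 ∧ (e + 2 * d / i) % 2 = 1
  · have T2 := good_even_T2 i t d m e hi hie hg hN3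
    left
    omega
  · have T0 := good_even_T0 i t d m e hi hie hg (by omega) hv
    omega

theorem goodEven_of_cond (hi : 0 < i) (hie : Even i) (him : i ≤ m)
    (hN : t + 2 * (m / i) ≤ 2 * d / i)
    (hc : (2 * (m % i) ≤ i ∧ 2 * d % i = 0 ∧ (e + 2 * d / i) % 2 = 1 ∧
          t + 2 * (m / i) < 2 * d / i) ∨
       (2 * (m % i) ≤ 2 * d % i ∧ (e + 2 * d / i) % 2 = 0) ∨
       (2 * (m % i) < 2 * d % i ∧ (e + 2 * d / i) % 2 = 1)) :
    GoodEven i t d m e := by
  obtain ⟨h, hh⟩ := hie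
  have hi2 : 2 ≤ i := by omega
  have hNk := Nat.div_add_mod (2 * d) i
  have hk : 2 * d % i < i := Nat.mod_lt _ hi
  have hMl := Nat.div_add_mod m i
  have hl : m % i < i := Nat.mod_lt _ hi
  have hM1 : 1 ≤ m / i := Nat.div_pos him hi
  generalize hNdef : 2 * d / i = N at hNk hN hc
  generalize hkdef : 2 * d % i = k at hNk hk hc
  generalize hMdef : m / i = M at hMl hN hc hM1
  generalize hldef : m % i = ℓ at hMl hl hc
  have hkeven : k % 2 = 0 := by
    have hprod : i * N = 2 * (h * N) := by rw [hh]; ring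
    omega
  intro b f eF hdim hb heF heFf hpar
  obtain ⟨kp, hkp⟩ := hpar
  -- `b ≤ N`
  have hbN : b ≤ N := by
    by_contra hcon
    push Not at hcon
    have h1 : i * (N + 1) ≤ i * b := Nat.mul_le_mul_left _ hcon
    have h2 : i * (N + 1) = i * N + i := by ring
    omega
  obtain ⟨J, hJ⟩ : ∃ J, J = if b ≤ t then 0 else (b + 1 - t) / 2 := ⟨_, rfl⟩
  have hJ0 : b ≤ t → J = 0 := fun hbt => by rw [hJ, if_pos hbt]
  have hJ1 : t < b → J = (b + 1 - t) / 2 := fun hbt => by rw [hJ, if_neg (by omega)]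
  -- the final inequality in terms of `w`
  have final : ∀ w P, P = i * w → (e + N + w + eF) % 2 = 0 →
      ((2 * ℓ ≤ i ∧ k = 0 ∧ (e + N) % 2 = 1 ∧ 1 ≤ w) ∨ (2 * ℓ ≤ k ∧ (e + N) % 2 = 0) ∨
        (2 * ℓ < k ∧ (e + N) % 2 = 1)) → 2 * ℓ + 2 * eF ≤ P + k := by
    intro w P hP hparw hcw
    rcases w with _ | _ | w
    · rw [mul_zero] at hP
      omega
    · rw [zero_add, mul_one] at hP
      omega
    · have h1 : i * (w + 1 + 1) = i * w + 2 * i := by ring
      rw [h1] at hP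
      omega
  rcases le_or_gt M J with hMJ | hJM
  · -- `j = M`, `s = ℓ`
    obtain ⟨w, hw⟩ : ∃ w, N = b + w := ⟨N - b, by omega⟩
    have hprod : i * N = i * b + i * w := by rw [hw]; ring
    refine ⟨M, ℓ, ?_, ?_, by rw [mul_comm]; exact hMl⟩
    · rcases le_or_gt b t with hbt | hbt
      · have := hJ0 hbt
        omega
      · have := hJ1 hbt
        right
        omega
    · have hfin := final w (i * w) rfl (by omega) (by
        rcases hc with ⟨h1, h2, h3, h4⟩ | h | h
        · left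
          refine ⟨h1, h2, h3, ?_⟩
          by_contra hw0
          have hw0' : w = 0 := by omega
          rw [hw0', mul_zero] at hprod
          omega
        · right; left; exact h
        · right; right; exact h)
      omega
  · -- `j = J`, `s = m - J i`
    have hJi : J * i ≤ M * i := Nat.mul_le_mul_right _ hJM.le
    have hMi : i * M = M * i := mul_comm _ _
    have hge : b + 2 * M ≤ N + 2 * J := by
      rcases le_or_gt b t with hbt | hbt
      · have := hJ0 hbt
        omega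
      · have := hJ1 hbt
        omega
    obtain ⟨w, hw⟩ : ∃ w, N + 2 * J = b + 2 * M + w := ⟨N + 2 * J - (b + 2 * M), by omega⟩
    have hprod : i * N + 2 * (J * i) = i * b + 2 * (M * i) + i * w := by
      have h1 : i * (N + 2 * J) = i * (b + 2 * M + w) := by rw [hw]
      calc i * N + 2 * (J * i) = i * (N + 2 * J) := by ring
        _ = i * (b + 2 * M + w) := h1
        _ = _ := by ring
    refine ⟨J, m - J * i, ?_, ?_, by omega⟩
    · rcases le_or_gt b t with hbt | hbt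
      · left
        exact hJ0 hbt
      · right
        have := hJ1 hbt
        omega
    · have hfin := final w (i * w) rfl (by omega) (by
        rcases hc with ⟨h1, h2, h3, h4⟩ | h | h
        · left
          refine ⟨h1, h2, h3, ?_⟩
          rcases le_or_gt b t with hbt | hbt
          · have := hJ0 hbt
            omega
          · have := hJ1 hbt
            omega
        · right; left; exact h
        · right; right; exact h)
      omega

end even

end Cfsg.Agent.Lib.H24.Oq
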