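import Mathlib
import Cfsg.Agent.Lib.H24.OqArith

set_option autoImplicit false

/-!
# `Ω^±_{2d}(q)` on totally singular `m`-spaces: the case of odd `r` (helper24)
-/

namespace Cfsg.Agent.Lib.H24.Oq

open Module QuadraticMap Polynomial Matrix
open Cfsg.Agent.Lib.H24.Elus Cfsg.Agent.Lib.H10.OrtNd Cfsg.Agent.Lib.H13.OSS Cfsg.Agent.Lib.H13

section norm

variable {F : Type*} [Field F] {ι : Type} [Fintype ι] [DecidableEq ι]
  (Q' : QuadraticForm F (ι → F))

theorem exists_nonsing_vec (hQ' : (polarBilin Q').Nondegenerate) [Nonempty ι] :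
    ∃ v, Q' v ≠ 0 := by
  by_contra hcon
  push Not at hcon
  obtain ⟨i₀⟩ := (inferInstance : Nonempty ι)
  have h1 : (Pi.single i₀ (1 : F) : ι → F) = 0 := by
    apply hQ'.1
    intro w
    rw [polarBilin_apply_apply]
    unfold polar
    rw [hcon, hcon, hcon]
    ring
  have := congrFun h1 i₀
  rw [Pi.single_eq_same, Pi.zero_apply] at this
  exact one_ne_zero this

/-- a scalar isometry is `± 1` -/
theorem scalar_sq_of_iso (hQ' : (polarBilin Q').Nondegenerate) [Nonempty ι] (z : F)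
    (h : ∀ v, Q' (z • v) = Q' v) : z * z = 1 := by
  obtain ⟨v, hv⟩ := exists_nonsing_vec Q' hQ'
  have h1 := h v
  rw [QuadraticMap.map_smul, smul_eq_mul] at h1
  have h2 : (z * z - 1) * Q' v = 0 := by linear_combination h1
  rcases mul_eq_zero.mp h2 with h3 | h3
  · linear_combination h3
  · exact absurd h3 hv

theorem iso_of_mem_omegaGL (x : GL ι F) (hx : x ∈ Cfsg.Geo.omegaGL ⇑Q') :
    ∀ v, Q' ((x : Matrix ι ι F) *ᵥ v) = Q' v := by
  have hxiso : x ∈ Cfsg.isometryGroup F ⇑Q' := by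
    obtain ⟨g, -, rfl⟩ := hx
    exact g.2
  exact (AutPO.mem_iso_iff (Q := Q') x).mp hxiso

/-- normalizing an element with `x ^ r` scalar, `r` odd -/
theorem normalize_quad (hQ' : (polarBilin Q').Nondegenerate) [Nonempty ι] (r : ℕ)
    [Fact r.Prime] (hr2 : r ≠ 2) (x : GL ι F) (hx : x ∈ Cfsg.Geo.omegaGL ⇑Q') (z : F)
    (hz : ((x ^ r : GL ι F) : Matrix ι ι F) = z • 1) :
    ∃ y : End F (ι → F), y ^ r = 1 ∧ (∀ v, Q' (y v) = Q' v) ∧
      ∀ W : Submodule F (ι → F), (∀ v ∈ W, y v ∈ W) →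
        ∀ v ∈ W, Matrix.toLin' (x : Matrix ι ι F) v ∈ W := by
  have hr : r.Prime := Fact.out
  have hxr : x ^ r ∈ Cfsg.Geo.omegaGL ⇑Q' := Subgroup.pow_mem _ hx r
  have hzz : z * z = 1 := by
    apply scalar_sq_of_iso Q' hQ' z
    intro v
    have := iso_of_mem_omegaGL Q' (x ^ r) hxr v
    rw [hz, Matrix.smul_mulVec, Matrix.one_mulVec] at this
    exact this
  have hz0 : z ≠ 0 := by
    rintro rfl
    rw [mul_zero] at hzz
    exact zero_ne_one hzz
  have hzr : z ^ (r + 1) = 1 := by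
    have hodd : r % 2 = 1 := by
      rcases hr.eq_two_or_odd with h | h
      · exact absurd h hr2
      · exact h
    have : r + 1 = 2 * ((r + 1) / 2) := by omega
    rw [this, pow_mul, pow_two, hzz, one_pow]
  obtain ⟨y₀, hy₀def⟩ : ∃ y₀, y₀ = Matrix.toLin' (x : Matrix ι ι F) := ⟨_, rfl⟩
  rw [← hy₀def]
  have hy₀r : y₀ ^ r = z • 1 := by
    rw [hy₀def, ← Matrix.toLin'_pow, ← Units.val_pow_eq_pow_val, hz, map_smul,
      Matrix.toLin'_one]
    rfl
  refine ⟨z • y₀, ?_, ?_, ?_⟩
  · rw [_root_.smul_pow, hy₀r, smul_smul, ← pow_succ, hzr, one_smul]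
  · intro v
    rw [LinearMap.smul_apply, QuadraticMap.map_smul, smul_eq_mul, hzz, one_mul, hy₀def,
      Matrix.toLin'_apply]
    exact iso_of_mem_omegaGL Q' x hx v
  · intro W hW v hv
    have h5 := hW v hv
    rw [LinearMap.smul_apply] at h5
    have h6 := Submodule.smul_mem W z⁻¹ h5
    rwa [smul_smul, inv_mul_cancel₀ hz0, one_smul] at h6

end norm

section main

variable {F : Type*} [Field F] [Fintype F] {p q : ℕ} [Fact p.Prime] [CharP F p]
  {ι : Type} [Fintype ι] [DecidableEq ι] (Q' : QuadraticForm F (ι → F))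

/-- the elements of odd prime order `r ≠ p` of `Ω(Q')` all fix a totally singular `m`-space iff
the arithmetic conditions hold -/
theorem ts_odd_main (hF : Fintype.card F = q) (hQ' : (polarBilin Q').Nondegenerate) {d e : ℕ}
    (hsg' : IsSg Q' d e) (hd : 3 ≤ d) (m : ℕ) (hmd : m + 1 ≤ d) (r : ℕ) [Fact r.Prime]
    (hr2 : r ≠ 2) (hrp : r ≠ p) :
    (∀ x : GL ι F, x ∈ Cfsg.Geo.omegaGL ⇑Q' →
      (∃ z : F, ((x ^ r : GL ι F) : Matrix ι ι F) = z • (1 : Matrix ι ι F)) →
      (∀ z : F, (x : Matrix ι ι F) ≠ z • (1 : Matrix ι ι F)) →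
      ∃ W : Submodule F (ι → F), finrank F W = m ∧ TS Q' W ∧
        ∀ v ∈ W, Matrix.toLin' (x : Matrix ι ι F) v ∈ W) ↔
    ((¬ Even (orderOf (q : ZMod r)) → GoodOdd (orderOf (q : ZMod r)) d m e) ∧
      (Even (orderOf (q : ZMod r)) →
        GoodEven (orderOf (q : ZMod r)) ((r - 1) / orderOf (q : ZMod r)) d m e)) := by
  have hr : r.Prime := Fact.out
  haveI : Nonempty ι := by
    rw [← Fintype.card_pos_iff]
    have := hsg'.1
    rw [Module.finrank_fintype_fun_eq_card] at this
    omega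
  constructor
  · intro h
    have hall : AllFixTS Q' m r := by
      intro x hx hxr hx1
      apply h x hx ⟨1, by rw [hxr, Units.val_one, one_smul]⟩
      intro z hz
      have hzz : z * z = 1 := by
        apply scalar_sq_of_iso Q' hQ' z
        intro v
        have := iso_of_mem_omegaGL Q' x hx v
        rw [hz, Matrix.smul_mulVec, Matrix.one_mulVec] at this
        exact this
      have hzr : z ^ r = 1 := by
        have h1 : ((x ^ r : GL ι F) : Matrix ι ι F) = z ^ r • 1 := by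
          rw [Units.val_pow_eq_pow_val, hz, _root_.smul_pow, one_pow]
        rw [hxr, Units.val_one] at h1
        obtain ⟨i₀⟩ := (inferInstance : Nonempty ι)
        have h2 := congrFun (congrFun h1 i₀) i₀
        rw [Matrix.one_apply_eq, Matrix.smul_apply, Matrix.one_apply_eq, smul_eq_mul,
          mul_one] at h2
        exact h2.symm
      have hz1 : z = 1 := by
        have hodd : r % 2 = 1 := by
          rcases hr.eq_two_or_odd with h | h
          · exact absurd h hr2
          · exact h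
        have h3 : r = 2 * (r / 2) + 1 := by omega
        rw [h3, pow_succ, pow_mul, pow_two, hzz, one_pow, one_mul] at hzr
        exact hzr
      apply hx1
      apply Units.ext
      rw [hz, hz1, one_smul, Units.val_one]
    exact ⟨fun hi => nec_good_odd Q' hF hrp hr2 hQ' hsg' hd m hall hi,
      fun hi => nec_good_even Q' hF hrp hr2 hQ' hsg' hd m hall hi⟩
  · rintro ⟨hgo, hge⟩ x hx ⟨z, hz⟩ -
    obtain ⟨y, hyr, hyiso, hyW⟩ := normalize_quad Q' hQ' r hr2 x hx z hz
    obtain ⟨W, hWm, hWts, hWinv⟩ := suff_good Q' hF hrp hr2 hQ' hsg' m hmd hgo hge y hyiso hyr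
    exact ⟨W, hWm, hWts, hyW W hWinv⟩

end main

end Cfsg.Agent.Lib.H24.Oq
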