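import Mathlib
import Cfsg.Agent.Lib.H24.OqTestA
import Cfsg.Agent.Lib.H24.OqMainOdd
import Cfsg.Agent.Lib.H29.Orth

set_option autoImplicit false

/-!
# Rotations of order three of elliptic planes in characteristic two, as elements of `Ω` (helper24)

* `exists_omega_of_odd`: an isometry of odd order, given as an endomorphism, is the action of an
  element of `Ω`;
* `rot Q z y`: for `Q z = Q y = polar Q z y = 1` in characteristic two, the isometry of order three
  which maps `z ↦ y ↦ z + y` and fixes the orthogonal complement of `⟨z, y⟩` pointwise.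
-/

namespace Cfsg.Agent.Lib.H24.Tn

open Module Matrix QuadraticMap
open Cfsg.Agent.Lib.H13

variable {ι : Type} [Fintype ι] [DecidableEq ι] {F : Type*} [Field F]
variable (Q : QuadraticForm F (ι → F))

/-- an isometry of odd order is induced by an element of `Ω` -/
theorem exists_omega_of_odd [Fintype F] (hQ : (QuadraticMap.polarBilin Q).Nondegenerate)
    (hcard : 5 ≤ Fintype.card ι) (y : End F (ι → F)) (hiso : ∀ v, Q (y v) = Q v) (r : ℕ)
    (hr : Odd r) (hyr : y ^ r = 1) :
    ∃ x : GL ι F, x ∈ Cfsg.Geo.omegaGL ⇑Q ∧ ∀ v, (x : Matrix ι ι F) *ᵥ v = y v := by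
  have hr0 : 0 < r := by
    obtain ⟨k, hk⟩ := hr
    omega
  have h1 : y * y ^ (r - 1) = 1 := by rw [← pow_succ', Nat.sub_add_cancel hr0, hyr]
  have h2 : y ^ (r - 1) * y = 1 := by rw [← pow_succ, Nat.sub_add_cancel hr0, hyr]
  obtain ⟨g, hg⟩ : ∃ g : (ι → F) ≃ₗ[F] (ι → F), ∀ v, g v = y v :=
    ⟨LinearEquiv.ofLinear y (y ^ (r - 1)) h1 h2, fun v => rfl⟩
  have hgQ : ∀ w, Q (g w) = Q w := by
    intro w
    rw [hg, hiso]
  obtain ⟨x, hxmem, hmv⟩ : ∃ x : GL ι F, x ∈ Cfsg.isometryGroup F ⇑Q ∧
      ∀ w, (x : Matrix ι ι F) *ᵥ w = y w :=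
    ⟨_, (AutPO.elOfEquiv Q g hgQ).2, fun w => by
      rw [AutPO.elOfEquiv_mulVec _ g hgQ w, hg]⟩
  have hlin : Matrix.toLin' (x : Matrix ι ι F) = y := by
    apply LinearMap.ext
    intro w
    rw [Matrix.toLin'_apply, hmv]
  have hxr : x ^ r = 1 := by
    apply Units.ext
    rw [Units.val_pow_eq_pow_val, Units.val_one]
    apply Matrix.toLin'.injective
    rw [Matrix.toLin'_pow, hlin, hyr, Matrix.toLin'_one]
    rfl
  exact ⟨x, Cfsg.Agent.Lib.H24.Oq.mem_omegaGL_of_odd Q hQ hcard x hxmem r hr hxr, hmv⟩

/-- the rotation -/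
noncomputable def rot (z y : ι → F) : End F (ι → F) where
  toFun t := t + polar Q t y • (z + y) + polar Q t z • z
  map_add' a b := by
    rw [polar_add_left, polar_add_left]
    module
  map_smul' c a := by
    rw [polar_smul_left, polar_smul_left, RingHom.id_apply, smul_eq_mul, smul_eq_mul]
    module

theorem rot_apply (z y t : ι → F) :
    rot Q z y t = t + polar Q t y • (z + y) + polar Q t z • z := rfl

section props

variable {Q}
variable {z y : ι → F} (h2 : (2 : F) = 0) (hz : Q z = 1) (hy : Q y = 1) (hzy : polar Q z y = 1)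

include h2 in
theorem polar_self_zero (v : ι → F) : polar Q v v = 0 := by
  rw [Cfsg.Agent.Lib.H29.Orth.polar_self', h2, zero_mul]

include h2 hz hy hzy in
theorem Q_rot (t : ι → F) : Q (rot Q z y t) = Q t := by
  have hyz : polar Q y z = 1 := by rw [polar_comm, hzy]
  have hzz := polar_self_zero (Q := Q) h2 z
  have hyy := polar_self_zero (Q := Q) h2 y
  simp only [rot_apply, QuadraticMap.map_add (⇑Q), QuadraticMap.map_smul, polar_add_left,
    polar_add_right, polar_smul_left, polar_smul_right, smul_eq_mul, hz, hy, hzy, hyz, hzz, hyy]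
  linear_combination (2 * polar Q t y * polar Q t y + polar Q t z * polar Q t z +
    polar Q t y * polar Q t z) * h2

include h2 hzy in
theorem polar_rot_y (t : ι → F) : polar Q (rot Q z y t) y = polar Q t z := by
  have hyy := polar_self_zero (Q := Q) h2 y
  rw [rot_apply, polar_add_left, polar_add_left, polar_smul_left, polar_smul_left, polar_add_left,
    hzy, hyy, smul_eq_mul, smul_eq_mul]
  linear_combination polar Q t y * h2

include h2 hzy in
theorem polar_rot_z (t : ι → F) : polar Q (rot Q z y t) z = polar Q t y + polar Q t z := by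
  have hyz : polar Q y z = 1 := by rw [polar_comm, hzy]
  have hzz := polar_self_zero (Q := Q) h2 z
  rw [rot_apply, polar_add_left, polar_add_left, polar_smul_left, polar_smul_left, polar_add_left,
    hyz, hzz, smul_eq_mul, smul_eq_mul]
  ring

include h2 hzy in
theorem rot_rot (t : ι → F) :
    rot Q z y (rot Q z y t) = t + (polar Q t y + polar Q t z) • (z + y) + polar Q t y • z := by
  rw [rot_apply, polar_rot_y h2 hzy, polar_rot_z h2 hzy, rot_apply]
  linear_combination (norm := module) h2 • (polar Q t z • z)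

include h2 hzy in
theorem rot_pow_three : rot Q z y ^ 3 = 1 := by
  apply LinearMap.ext
  intro t
  rw [pow_succ, pow_two, Module.End.mul_apply, Module.End.mul_apply, Module.End.one_apply,
    rot_rot h2 hzy, polar_rot_y h2 hzy, polar_rot_z h2 hzy, rot_apply]
  linear_combination (norm := module) h2 • ((polar Q t y + polar Q t z) • (z + y) +
    polar Q t z • z)

end props

end Cfsg.Agent.Lib.H24.Tn
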