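import Mathlib
import Cfsg.Agent.Lib.H24.TnA
import Cfsg.Agent.Lib.H29.Tensor

set_option autoImplicit false

/-!
# The tensor structure `F^ι ≅ F^2 ⊗ F^(n₂)` over the field with two elements (helper24)

`phi e P (u, w) = e₀ ⊗ u + e₁ ⊗ w`, the element `G0` of order three (`ω ⊗ 1`).
-/

namespace Cfsg.Agent.Lib.H24.Tn

open Cfsg.Geo Matrix QuadraticMap Module
open Cfsg.Agent.Lib.H29.Tensor Cfsg.Agent.Lib.H29.Orth

section F2

variable {F : Type*} [Field F] [Fintype F]

theorem f2_two (hq : Fintype.card F = 2) : (2 : F) = 0 := by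
  have := Nat.cast_card_eq_zero F
  rw [hq] at this
  exact_mod_cast this

theorem f2_cases (hq : Fintype.card F = 2) (x : F) : x = 0 ∨ x = 1 := by
  classical
  have hcard : ({0, 1} : Finset F).card = 2 := by
    rw [Finset.card_insert_of_notMem, Finset.card_singleton]
    simp
  have huniv : ({0, 1} : Finset F) = Finset.univ :=
    Finset.eq_univ_of_card _ (by rw [hcard, hq])
  have := Finset.mem_univ x
  rw [← huniv] at this
  simpa using this

theorem f2_eq_one (hq : Fintype.card F = 2) {x : F} (hx : x ≠ 0) : x = 1 := by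
  rcases f2_cases hq x with h | h
  · exact absurd h hx
  · exact h

/-- matrices in `GL₂(𝔽₂)` commute with `ω` or invert it -/
theorem gl2_key (hq : Fintype.card F = 2) (p q r s : F) (hdet : p * s - q * r ≠ 0) :
    (q = r ∧ s = p + q) ∨ (s = p ∧ q = p + r) := by
  have h2 := f2_two hq
  have h11 : (1 : F) + 1 = 0 := by rw [← h2]; norm_num
  rcases f2_cases hq p with rfl | rfl <;> rcases f2_cases hq q with rfl | rfl <;>
    rcases f2_cases hq r with rfl | rfl <;> rcases f2_cases hq s with rfl | rfl <;>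
    simp [h11] at hdet ⊢

end F2

section tensor

variable {ι : Type} [Fintype ι] [DecidableEq ι] {F : Type*} [Field F] {n₂ : ℕ}
variable (e : ι ≃ Fin 2 × Fin n₂) (P : GL ι F)

/-- `u ↦ a ⊗ u` -/
noncomputable def tauL (a : Fin 2 → F) : (Fin n₂ → F) →ₗ[F] (ι → F) where
  toFun z := tau e P a z
  map_add' := tau_add_right e P a
  map_smul' c z := tau_smul_right e P c a z

/-- the first basis vector -/
def e0 : Fin 2 → F := ![1, 0]

/-- the second basis vector -/
def e1 : Fin 2 → F := ![0, 1]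

/-- `(u, w) ↦ e₀ ⊗ u + e₁ ⊗ w` -/
noncomputable def phi : ((Fin n₂ → F) × (Fin n₂ → F)) →ₗ[F] (ι → F) :=
  (tauL e P e0).coprod (tauL e P e1)

theorem phi_apply (u w : Fin n₂ → F) : phi e P (u, w) = tau e P e0 u + tau e P e1 w := rfl

theorem tau_eq_phi (a : Fin 2 → F) (z : Fin n₂ → F) :
    tau e P a z = phi e P (a 0 • z, a 1 • z) := by
  rw [phi_apply, tau_smul_right, tau_smul_right, ← tau_smul_left, ← tau_smul_left, ← tau_add_left]
  congr 1
  ext i
  fin_cases i <;> simp [e0, e1]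

theorem phi_bijective : Function.Bijective (phi e P : _ → ι → F) := by
  have hpt : ∀ (u w : Fin n₂ → F) (i : Fin 2) (j : Fin n₂),
      (pt (e0 : Fin 2 → F) u + pt e1 w) (i, j) = if i = 0 then u j else w j := by
    intro u w i j
    fin_cases i <;> simp [pt, e0, e1]
  have hphi : ∀ u w : Fin n₂ → F,
      phi e P (u, w) = (P : Matrix ι ι F) *ᵥ ((pt e0 u + pt e1 w) ∘ e) := by
    intro u w
    rw [phi_apply]
    unfold tau
    rw [← Matrix.mulVec_add]
    rfl
  constructor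
  · rw [← LinearMap.ker_eq_bot, LinearMap.ker_eq_bot']
    rintro ⟨u, w⟩ h
    rw [hphi] at h
    have h1 : ((pt e0 u + pt e1 w) ∘ e : ι → F) = 0 := by
      have h0 : ((P⁻¹ : GL ι F) : Matrix ι ι F) *ᵥ ((P : Matrix ι ι F) *ᵥ
          ((pt e0 u + pt e1 w) ∘ e)) = ((P⁻¹ : GL ι F) : Matrix ι ι F) *ᵥ 0 := by rw [h]
      rwa [gl_inv_mulVec, Matrix.mulVec_zero] at h0
    have h3 : ∀ (i : Fin 2) (j : Fin n₂), (pt (e0 : Fin 2 → F) u + pt e1 w) (i, j) = 0 := by
      intro i j
      have := congrFun h1 (e.symm (i, j))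
      rwa [Function.comp_apply, e.apply_symm_apply] at this
    have hu : u = 0 := by
      ext j
      have := h3 0 j
      rwa [hpt, if_pos rfl] at this
    have hw : w = 0 := by
      ext j
      have := h3 1 j
      rwa [hpt, if_neg (by decide)] at this
    rw [hu, hw]
    rfl
  · intro v
    obtain ⟨x, hx⟩ : ∃ x : Fin 2 × Fin n₂ → F,
        x = (((P⁻¹ : GL ι F) : Matrix ι ι F) *ᵥ v) ∘ e.symm := ⟨_, rfl⟩
    refine ⟨(fun j => x (0, j), fun j => x (1, j)), ?_⟩
    rw [hphi]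
    have h1 : (pt (e0 : Fin 2 → F) (fun j => x (0, j)) + pt e1 (fun j => x (1, j))) = x := by
      ext ⟨i, j⟩
      rw [hpt]
      fin_cases i <;> simp
    rw [h1, hx]
    have h2 : ((((P⁻¹ : GL ι F) : Matrix ι ι F) *ᵥ v) ∘ e.symm) ∘ e =
        ((P⁻¹ : GL ι F) : Matrix ι ι F) *ᵥ v := by
      ext i
      simp
    rw [h2, gl_mulVec_inv]

/-- `phi` as an equivalence -/
noncomputable def Phi : ((Fin n₂ → F) × (Fin n₂ → F)) ≃ₗ[F] (ι → F) :=
  LinearEquiv.ofBijective (phi e P) (phi_bijective e P)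

theorem Phi_apply (x : (Fin n₂ → F) × (Fin n₂ → F)) : Phi e P x = phi e P x := rfl

theorem exists_phi (v : ι → F) : ∃ u w : Fin n₂ → F, v = phi e P (u, w) := by
  obtain ⟨⟨u, w⟩, h⟩ := (phi_bijective e P).2 v
  exact ⟨u, w, h.symm⟩

theorem phi_inj {u w u' w' : Fin n₂ → F} (h : phi e P (u, w) = phi e P (u', w')) :
    u = u' ∧ w = w' := by
  have := (phi_bijective e P).1 h
  exact ⟨congrArg Prod.fst this, congrArg Prod.snd this⟩

/-- `(u, w) ↦ (w, u + w)` -/
def S0 : End F ((Fin n₂ → F) × (Fin n₂ → F)) :=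
  (LinearMap.snd F _ _).prod (LinearMap.fst F _ _ + LinearMap.snd F _ _)

/-- `ω ⊗ 1` -/
noncomputable def G0 : End F (ι → F) :=
  (phi e P) ∘ₗ S0 ∘ₗ (Phi e P).symm.toLinearMap

theorem G0_phi (u w : Fin n₂ → F) : G0 e P (phi e P (u, w)) = phi e P (w, u + w) := by
  have h1 : (Phi e P).symm (phi e P (u, w)) = (u, w) := by
    rw [← Phi_apply]
    exact LinearEquiv.symm_apply_apply _ _
  show phi e P (S0 ((Phi e P).symm (phi e P (u, w)))) = _
  rw [h1]
  rfl

end tensor

end Cfsg.Agent.Lib.H24.Tn
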