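import Mathlib
import Cfsg.Agent.Lib.H24.TnB
import Cfsg.Agent.Lib.H29.OrthFrame

set_option autoImplicit false
set_option linter.unusedSectionVars false

/-!
# Non-maximality of stabilisers of orthogonal decompositions: glue lemmas (helper24)

* `not_maximal_of_set`: an intermediate subgroup from a set of vectors which is invariant under
  the stabiliser of the decomposition;
* `exists_block_of_stab`, `not_mem_block`: tools to see that an element does not permute the
  blocks;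
* `plus_of_isometric`: the plus type is invariant under isometries of subspaces;
* `exists_rotGL`: the rotation of order three as an element of `Ω`.
-/

namespace Cfsg.Agent.Lib.H24.Dn

open Module Matrix QuadraticMap
open Cfsg.Agent.Lib.H29.Orth Cfsg.Agent.Lib.H24.Tn

variable {ι : Type} [Fintype ι] [DecidableEq ι] {F : Type*} [Field F]
variable (Q : QuadraticForm F (ι → F))

/-- an element of the stabiliser of a decomposition maps block vectors to block vectors -/
theorem exists_block_of_stab {t : ℕ} (D : Fin t → Submodule F (ι → F)) {g : GL ι F}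
    (hg : g ∈ Cfsg.Geo.decompositionStabilizer D) (i : Fin t) {x : ι → F} (hx : x ∈ D i) :
    ∃ i', (g : Matrix ι ι F) *ᵥ x ∈ D i' := by
  obtain ⟨σ, hσ⟩ := hg
  refine ⟨σ i, ?_⟩
  rw [← hσ i]
  exact ⟨x, hx, by rw [Matrix.toLin'_apply]⟩

/-- a vector which is not orthogonal to vectors of two different blocks lies in no block -/
theorem not_mem_block {t : ℕ} (D : Fin t → Submodule F (ι → F))
    (horth : ∀ i i', i ≠ i' → ∀ x ∈ D i, ∀ y ∈ D i', polar Q x y = 0)
    (y : ι → F) {i1 i2 : Fin t} (h12 : i1 ≠ i2) (c1 c2 : ι → F) (hc1 : c1 ∈ D i1)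
    (hc2 : c2 ∈ D i2) (h1 : polar Q y c1 ≠ 0) (h2 : polar Q y c2 ≠ 0) (i : Fin t) : y ∉ D i := by
  intro hy
  have e1 : i = i1 := by
    by_contra hne
    exact h1 (horth i i1 hne y hy c1 hc1)
  have e2 : i = i2 := by
    by_contra hne
    exact h2 (horth i i2 hne y hy c2 hc2)
  exact h12 (e1.symm.trans e2)

/-- the glue lemma -/
theorem not_maximal_of_set {t : ℕ} (D : Fin t → Submodule F (ι → F)) (S : Set (ι → F))
    (hS : ∀ g ∈ Cfsg.Geo.decompositionStabilizer D ⊓ Cfsg.Geo.omegaGL (⇑Q), ∀ v ∈ S,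
      (g : Matrix ι ι F) *ᵥ v ∈ S)
    (g h : GL ι F) (hgΩ : g ∈ Cfsg.Geo.omegaGL (⇑Q)) (hgS : g ∈ setStab S)
    (hgD : g ∉ Cfsg.Geo.decompositionStabilizer D)
    (hhΩ : h ∈ Cfsg.Geo.omegaGL (⇑Q)) (hhS : h ∉ setStab S) :
    ∃ K : Subgroup (GL ι F), Cfsg.Geo.decompositionStabilizer D ⊓ Cfsg.Geo.omegaGL (⇑Q) < K ∧
      K < Cfsg.Geo.omegaGL (⇑Q) := by
  refine ⟨setStab S ⊓ Cfsg.Geo.omegaGL (⇑Q), ?_, ?_⟩
  · rw [SetLike.lt_iff_le_and_exists]
    refine ⟨le_inf (le_setStab S _ hS) inf_le_right, g, Subgroup.mem_inf.mpr ⟨hgS, hgΩ⟩, ?_⟩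
    intro hcon
    exact hgD (Subgroup.mem_inf.mp hcon).1
  · rw [SetLike.lt_iff_le_and_exists]
    refine ⟨inf_le_right, h, hhΩ, ?_⟩
    intro hcon
    exact hhS (Subgroup.mem_inf.mp hcon).1

/-- the set of block vectors whose norm satisfies a given condition is invariant under the
stabiliser of the decomposition in `Ω` -/
theorem blockSet_invariant {t : ℕ} (D : Fin t → Submodule F (ι → F)) (P : F → Prop)
    (g : GL ι F) (hg : g ∈ Cfsg.Geo.decompositionStabilizer D ⊓ Cfsg.Geo.omegaGL (⇑Q))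
    (v : ι → F) (hv : v ∈ {x : ι → F | P (Q x) ∧ ∃ i, x ∈ D i}) :
    (g : Matrix ι ι F) *ᵥ v ∈ {x : ι → F | P (Q x) ∧ ∃ i, x ∈ D i} := by
  obtain ⟨hP, i, hi⟩ := hv
  obtain ⟨hgD, hgΩ⟩ := Subgroup.mem_inf.mp hg
  have hgI := (mem_isometryGroup_iff Q g).mp (omegaGL_le_isometryGroup Q hgΩ)
  refine ⟨by rw [hgI]; exact hP, exists_block_of_stab D hgD i hi⟩

/-- the plus type is invariant under isometries of subspaces -/
theorem plus_of_isometric (Q' : (ι → F) → F) (W W' : Submodule F (ι → F))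
    (hiso : Cfsg.Geo.AreIsometricFor Q' W W') (hW : Cfsg.Geo.IsPlusTypeOn Q' W) :
    Cfsg.Geo.IsPlusTypeOn Q' W' := by
  obtain ⟨φ, hφ⟩ := hiso
  obtain ⟨U, hUW, hUs, hUd⟩ := hW
  refine ⟨((U.comap W.subtype).map (φ : W →ₗ[F] W')).map W'.subtype, ?_, ?_, ?_⟩
  · rintro _ ⟨y, -, rfl⟩
    exact y.2
  · rintro _ ⟨_, ⟨x, hx, rfl⟩, rfl⟩
    show Q' ((φ x : W') : ι → F) = 0
    rw [hφ]
    exact hUs _ hx
  · have e1 : finrank F (((U.comap W.subtype).map (φ : W →ₗ[F] W')).map W'.subtype)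
        = finrank F ((U.comap W.subtype).map (φ : W →ₗ[F] W')) :=
      LinearEquiv.finrank_eq (Submodule.equivMapOfInjective _ W'.injective_subtype _).symm
    have e2 : finrank F ((U.comap W.subtype).map (φ : W →ₗ[F] W'))
        = finrank F (U.comap W.subtype) :=
      LinearEquiv.finrank_eq (Submodule.equivMapOfInjective _ φ.injective _).symm
    have e3 : finrank F (U.comap W.subtype) = finrank F U :=
      LinearEquiv.finrank_eq (Submodule.comapSubtypeEquivOfLe hUW)
    rw [e1, e2, e3, hUd]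
    exact LinearEquiv.finrank_eq φ

/-- the rotation of order three as an element of `Ω` -/
theorem exists_rotGL [Fintype F] (hQ : (QuadraticMap.polarBilin Q).Nondegenerate)
    (hcard : 5 ≤ Fintype.card ι) (h2 : (2 : F) = 0) (z y : ι → F) (hz : Q z = 1) (hy : Q y = 1)
    (hzy : polar Q z y = 1) :
    ∃ x : GL ι F, x ∈ Cfsg.Geo.omegaGL (⇑Q) ∧
      (∀ v, (x : Matrix ι ι F) *ᵥ v = rot Q z y v) ∧
      ∀ v, ((x⁻¹ : GL ι F) : Matrix ι ι F) *ᵥ v = rot Q z y (rot Q z y v) := by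
  obtain ⟨x, hxΩ, hx⟩ := exists_omega_of_odd Q hQ hcard (rot Q z y)
    (Q_rot h2 hz hy hzy) 3 (by decide) (rot_pow_three h2 hzy)
  refine ⟨x, hxΩ, hx, ?_⟩
  intro v
  have h3 : rot Q z y (rot Q z y (rot Q z y v)) = v := by
    have := LinearMap.congr_fun (rot_pow_three (Q := Q) h2 hzy) v
    rw [pow_succ, pow_two, Module.End.mul_apply, Module.End.mul_apply, Module.End.one_apply]
      at this
    exact this
  conv_lhs => rw [← h3, ← hx]
  rw [gl_inv_mulVec]

end Cfsg.Agent.Lib.H24.Dn
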