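/-
EO project (even-dimensional orthogonal rows), phase 2, small-`q` class-2 exclusions: general tools.  (helper24)
* `iSupIndep_of_orthogonal`, `isNondegenerateMDecomposition_of_orthogonal`: pairwise orthogonal non-degenerate
  subspaces of the right total dimension form a non-degenerate decomposition;
* `mem_decompositionStabilizer_of_perm`: a matrix mapping every member of an independent family onto a member
  stabilises the family;
* `frame_isOrthogonalMDecomposition`, `mem_decompositionStabilizer_frame`: frames of pairwise orthogonal vectors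
  of one non-zero norm.
-/
import Mathlib
import Cfsg.Prelude.Def_GeometricClasses
import Cfsg.Agent.Lib.H24.ElusImpCoord

set_option autoImplicit false

namespace Cfsg.Agent.Lib.H24.EOP2

open Cfsg Cfsg.Geo Module
open scoped MatrixGroups Matrix

variable {ι : Type} [Fintype ι] [DecidableEq ι] {F : Type*} [Field F]

/-- `f y ·` as a linear functional. -/
def rightLin {f : (ι → F) → (ι → F) → F} (hf : IsBilinearForm f) (y : ι → F) : (ι → F) →ₗ[F] F where
  toFun x := f y x
  map_add' := hf.add_right y
  map_smul' c x := by simp [hf.smul_right]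

theorem rightLin_apply {f : (ι → F) → (ι → F) → F} (hf : IsBilinearForm f) (y x : ι → F) :
    rightLin hf y x = f y x := rfl

/-- pairwise orthogonal non-degenerate subspaces are independent -/
theorem iSupIndep_of_orthogonal {f : (ι → F) → (ι → F) → F} (hf : IsBilinearForm f) {κ : Type*}
    (E : κ → Submodule F (ι → F)) (hnd : ∀ a, IsNondegenerateOn f (E a))
    (horth : ∀ a b, a ≠ b → AreOrthogonalFor f (E a) (E b)) : iSupIndep E := by
  intro a
  rw [Submodule.disjoint_def]
  intro x hxa hxs
  by_contra hx0
  obtain ⟨⟨y, hy, hyx⟩, _⟩ := hnd a x hxa hx0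
  apply hyx
  have hle : (⨆ (j) (_ : j ≠ a), E j) ≤ LinearMap.ker (rightLin hf y) := by
    refine iSup_le fun j => iSup_le fun hj => ?_
    intro z hz
    rw [LinearMap.mem_ker]
    exact horth a j (Ne.symm hj) y hy z hz
  exact LinearMap.mem_ker.1 (hle hxs)

/-- pairwise orthogonal non-degenerate subspaces of equal dimension whose dimensions add up to the dimension of
the space form a non-degenerate decomposition -/
theorem isNondegenerateMDecomposition_of_orthogonal {f : (ι → F) → (ι → F) → F} (hf : IsBilinearForm f)
    {r k' : ℕ} (hr : 2 ≤ r) (hk : 0 < k') (E : Fin r → Submodule F (ι → F))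
    (hdim : ∀ a, finrank F (E a) = k') (hcard : r * k' = Fintype.card ι)
    (hnd : ∀ a, IsNondegenerateOn f (E a))
    (horth : ∀ a b, a ≠ b → AreOrthogonalFor f (E a) (E b)) :
    IsNondegenerateMDecomposition f k' E := by
  have hind := iSupIndep_of_orthogonal hf E hnd horth
  refine ⟨⟨hr, hk, hdim, hind, ?_⟩, hnd, horth⟩
  apply Submodule.eq_top_of_finrank_eq
  rw [Cfsg.Agent.Lib.H24.Elus.finrank_iSup_eq_sum E hind, Finset.sum_congr rfl (fun a _ => hdim a),
    Finset.sum_const, Finset.card_univ, Fintype.card_fin, smul_eq_mul, hcard,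
    Module.finrank_fintype_fun_eq_card]

theorem toLin'_gl_injective (g : GL ι F) :
    Function.Injective (Matrix.toLin' (g : Matrix ι ι F)) := by
  intro x y hxy
  have h1 := congrArg (Matrix.toLin' ((g⁻¹ : GL ι F) : Matrix ι ι F)) hxy
  simp only [Matrix.toLin'_apply, Matrix.mulVec_mulVec, ← Units.val_mul, inv_mul_cancel, Units.val_one,
    Matrix.one_mulVec] at h1
  exact h1

/-- a matrix mapping every member of an independent family of non-zero subspaces onto a member stabilises the
family -/
theorem mem_decompositionStabilizer_of_perm {r : ℕ} (E : Fin r → Submodule F (ι → F)) (hind : iSupIndep E)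
    (hne : ∀ a, E a ≠ ⊥) (g : GL ι F)
    (h : ∀ a, ∃ b, (E a).map (Matrix.toLin' (g : Matrix ι ι F)) = E b) :
    g ∈ decompositionStabilizer E := by
  choose σ hσ using h
  have hinj : Function.Injective σ := by
    intro a a' haa
    have h1 : (E a).map (Matrix.toLin' (g : Matrix ι ι F)) =
        (E a').map (Matrix.toLin' (g : Matrix ι ι F)) := by rw [hσ a, hσ a', haa]
    have h2 : E a = E a' := Submodule.map_injective_of_injective (toLin'_gl_injective g) h1
    by_contra hne'
    have h3 : Disjoint (E a) (E a') := hind.pairwiseDisjoint hne'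
    rw [← h2, disjoint_self] at h3
    exact hne a h3
  exact ⟨Equiv.ofBijective σ (Finite.injective_iff_bijective.1 hinj), hσ⟩

theorem map_span_singleton_gl (g : GL ι F) (w : ι → F) :
    (Submodule.span F {w}).map (Matrix.toLin' (g : Matrix ι ι F)) =
      Submodule.span F {(g : Matrix ι ι F) *ᵥ w} := by
  rw [Submodule.map_span, Set.image_singleton, Matrix.toLin'_apply]

theorem quad_zero {Q : (ι → F) → F} (hQ : IsNondegenerateQuadraticForm Q) : Q 0 = 0 := by
  have := hQ.smul 0 0
  rw [zero_smul] at this
  rw [this]; ring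

theorem polar_self_eq {Q : (ι → F) → F} (hQ : IsNondegenerateQuadraticForm Q) (v : ι → F) :
    QuadraticMap.polar Q v v = 2 * Q v := by
  have h1 : Q (v + v) = 4 * Q v := by
    have : v + v = (2 : F) • v := by rw [two_smul]
    rw [this, hQ.smul]; ring
  unfold QuadraticMap.polar
  rw [h1]; ring

/-- `Q` of a linear combination of pairwise orthogonal vectors -/
theorem quad_sum_orth {Q : (ι → F) → F} (hQ : IsNondegenerateQuadraticForm Q) {κ : Type*} [DecidableEq κ]
    (s : Finset κ) (w : κ → (ι → F)) (a : κ → F)
    (horth : ∀ i ∈ s, ∀ j ∈ s, i ≠ j → QuadraticMap.polar Q (w i) (w j) = 0) :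
    Q (∑ i ∈ s, a i • w i) = ∑ i ∈ s, a i ^ 2 * Q (w i) := by
  induction s using Finset.induction_on with
  | empty => simp [quad_zero hQ]
  | insert i s hi ih =>
    rw [Finset.sum_insert hi, Finset.sum_insert hi]
    have hpol : QuadraticMap.polar Q (a i • w i) (∑ j ∈ s, a j • w j) = 0 := by
      have : ∀ s' : Finset κ, s' ⊆ s →
          QuadraticMap.polar Q (a i • w i) (∑ j ∈ s', a j • w j) = 0 := by
        intro s' hs'
        induction s' using Finset.induction_on with
        | empty =>
          rw [Finset.sum_empty]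
          have := hQ.polar_bilinear.smul_right 0 (a i • w i) 0
          rw [zero_smul, zero_mul] at this
          exact this
        | insert j s'' hj ih' =>
          rw [Finset.sum_insert hj, hQ.polar_bilinear.add_right, ih' (fun x hx => hs' (Finset.mem_insert_of_mem hx)),
            hQ.polar_bilinear.smul_left, hQ.polar_bilinear.smul_right,
            horth i (Finset.mem_insert_self i s) j (Finset.mem_insert_of_mem (hs' (Finset.mem_insert_self j s'')))
              (by rintro rfl; exact hi (hs' (Finset.mem_insert_self _ _)))]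
          ring
      exact this s (Finset.Subset.refl s)
    have hadd : Q (a i • w i + ∑ j ∈ s, a j • w j) =
        Q (a i • w i) + Q (∑ j ∈ s, a j • w j) +
          QuadraticMap.polar Q (a i • w i) (∑ j ∈ s, a j • w j) := by
      unfold QuadraticMap.polar; ring
    rw [hadd, hpol, add_zero, hQ.smul,
      ih (fun x hx y hy hxy => horth x (Finset.mem_insert_of_mem hx) y (Finset.mem_insert_of_mem hy) hxy)]

/-- a frame of pairwise orthogonal vectors of one non-zero norm is a decomposition into isometric
non-degenerate lines -/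
theorem frame_isOrthogonalMDecomposition {Q : (ι → F) → F} (hQ : IsNondegenerateQuadraticForm Q)
    (h2 : (2 : F) ≠ 0) {r : ℕ} (hr : 2 ≤ r) (hcard : r = Fintype.card ι) (w : Fin r → (ι → F)) (c : F)
    (hc : c ≠ 0) (hw : ∀ a, Q (w a) = c)
    (horth : ∀ a b, a ≠ b → QuadraticMap.polar Q (w a) (w b) = 0) :
    IsOrthogonalMDecomposition Q 1 (fun a => Submodule.span F {w a}) := by
  have hw0 : ∀ a, w a ≠ 0 := by
    intro a h0
    have := hw a
    rw [h0, quad_zero hQ] at this
    exact hc this.symm
  have hpb := hQ.polar_bilinear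
  refine ⟨isNondegenerateMDecomposition_of_orthogonal hpb hr one_pos _
    (fun a => finrank_span_singleton (hw0 a)) (by rw [mul_one]; exact hcard) ?_ ?_, ?_⟩
  · intro a x hx hx0
    obtain ⟨l, rfl⟩ := Submodule.mem_span_singleton.1 hx
    have hl : l ≠ 0 := by
      rintro rfl
      exact hx0 (zero_smul _ _)
    have hne : QuadraticMap.polar Q (w a) (l • w a) ≠ 0 := by
      rw [hpb.smul_right, polar_self_eq hQ, hw a]
      exact mul_ne_zero hl (mul_ne_zero h2 hc)
    have hne' : QuadraticMap.polar Q (l • w a) (w a) ≠ 0 := by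
      rw [hpb.smul_left, polar_self_eq hQ, hw a]
      exact mul_ne_zero hl (mul_ne_zero h2 hc)
    exact ⟨⟨w a, Submodule.mem_span_singleton_self _, hne⟩, ⟨w a, Submodule.mem_span_singleton_self _, hne'⟩⟩
  · intro a b hab x hx y hy
    obtain ⟨l, rfl⟩ := Submodule.mem_span_singleton.1 hx
    obtain ⟨m, rfl⟩ := Submodule.mem_span_singleton.1 hy
    rw [hpb.smul_left, hpb.smul_right, horth a b hab]
    ring
  · intro a b
    refine ⟨(LinearEquiv.toSpanNonzeroSingleton F (ι → F) (w a) (hw0 a)).symm.trans
      (LinearEquiv.toSpanNonzeroSingleton F (ι → F) (w b) (hw0 b)), fun x => ?_⟩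
    obtain ⟨l, hl⟩ := Submodule.mem_span_singleton.1 x.2
    have hx : x = LinearEquiv.toSpanNonzeroSingleton F (ι → F) (w a) (hw0 a) l := by
      apply Subtype.ext
      rw [LinearEquiv.toSpanNonzeroSingleton_apply]
      exact hl.symm
    rw [hx, LinearEquiv.trans_apply, LinearEquiv.symm_apply_apply]
    simp only [LinearEquiv.toSpanNonzeroSingleton_apply]
    rw [hQ.smul, hQ.smul, hw a, hw b]

/-- a matrix mapping every frame vector to a non-zero multiple of a frame vector stabilises the frame -/
theorem mem_decompositionStabilizer_frame {r : ℕ} (w : Fin r → (ι → F))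
    (hind : iSupIndep (fun a => Submodule.span F {w a})) (hw0 : ∀ a, w a ≠ 0) (g : GL ι F)
    (h : ∀ a, ∃ b, ∃ ε : F, ε ≠ 0 ∧ (g : Matrix ι ι F) *ᵥ w a = ε • w b) :
    g ∈ decompositionStabilizer (fun a => Submodule.span F {w a}) := by
  refine mem_decompositionStabilizer_of_perm _ hind ?_ g ?_
  · intro a h0
    rw [Submodule.span_singleton_eq_bot] at h0
    exact hw0 a h0
  · intro a
    obtain ⟨b, ε, hε, hga⟩ := h a
    refine ⟨b, ?_⟩
    show (Submodule.span F {w a}).map (Matrix.toLin' (g : Matrix ι ι F)) = Submodule.span F {w b}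
    rw [map_span_singleton_gl, hga]
    exact Submodule.span_singleton_smul_eq (IsUnit.mk0 ε hε) (w b)

end Cfsg.Agent.Lib.H24.EOP2
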