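import Mathlib
import Cfsg.Agent.Lib.H24.DnA

set_option autoImplicit false
set_option linter.unusedSectionVars false

/-!
# Frames of vectors of equal norm in the blocks of an orthogonal decomposition, odd
characteristic (helper24)

`frame_not_maximal_gen`: generalisation of helper29's `frame_not_maximal` to arbitrary fields of
characteristic not two in which `1` is a sum of four squares `c₁² + c₂² + c₃² + c₄²` with
`c₁c₂ ≠ 0 ≠ c₁c₃`; the frame need not span the blocks.
-/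

namespace Cfsg.Agent.Lib.H24.Dn

open Module Matrix QuadraticMap
open Cfsg.Agent.Lib.H29.Orth

variable {ι : Type} [Fintype ι] [DecidableEq ι] {F : Type*} [Field F]

theorem frame_not_maximal_gen (Q : QuadraticForm F (ι → F)) (h2 : (2 : F) ≠ 0)
    {t k : ℕ} (hk : 1 ≤ k) (ht : 5 ≤ t)
    (D : Fin t → Submodule F (ι → F))
    (horth : ∀ i i', i ≠ i' → ∀ x ∈ D i, ∀ y ∈ D i', polar Q x y = 0)
    (d : F) (hd : d ≠ 0) (e : Fin t → Fin k → (ι → F))
    (heD : ∀ i j, e i j ∈ D i) (heQ : ∀ i j, Q (e i j) = d)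
    (heo : ∀ i j j', j ≠ j' → polar Q (e i j) (e i j') = 0)
    (hS : ∀ i, ∀ x ∈ D i, Q x = d → ∃ j, x = e i j ∨ x = -e i j)
    (c : Fin t → (ι → F)) (hcD : ∀ i, c i ∈ D i) (hce : ∀ i, polar Q (c i) (e i ⟨0, hk⟩) = 0)
    (hcc : ∀ i, polar Q (c i) (c i) ≠ 0)
    (c1 c2 c3 c4 : F) (hsq : c1 * c1 + c2 * c2 + c3 * c3 + c4 * c4 = 1) (h12 : c1 * c2 ≠ 0)
    (h13 : c1 * c3 ≠ 0) :
    ∃ K : Subgroup (GL ι F), Cfsg.Geo.decompositionStabilizer D ⊓ Cfsg.Geo.omegaGL (⇑Q) < K ∧
      K < Cfsg.Geo.omegaGL (⇑Q) := by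
  classical
  have h2d : 2 * d ≠ 0 := mul_ne_zero h2 hd
  -- polar values on the frame
  have polC : ∀ i j, polar Q (e i j) (e i j) = 2 * d := by
    intro i j
    rw [polar_self', heQ]
  have polD : ∀ i j i' j', (i ≠ i' ∨ j ≠ j') → polar Q (e i j) (e i' j') = 0 := by
    intro i j i' j' h
    by_cases hi : i = i'
    · subst hi
      rcases h with h | h
      · exact absurd rfl h
      · exact heo i j j' h
    · exact horth i i' hi _ (heD i j) _ (heD i' j')
  have Qadd : ∀ x y : ι → F, Q (x + y) = Q x + Q y + polar Q x y := QuadraticMap.map_add (⇑Q)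
  have Qsub : ∀ x y : ι → F, Q (x - y) = Q x + Q y - polar Q x y := by
    intro x y
    rw [sub_eq_add_neg, Qadd, QuadraticMap.map_neg, polar_neg_right]
    ring
  -- the set of frame vectors
  set S : Set (ι → F) := {x | (fun a => a = d) (Q x) ∧ ∃ i, x ∈ D i} with hSdef
  have hSneg : ∀ x ∈ S, -x ∈ S := by
    rintro x ⟨h1, i, hi⟩
    exact ⟨by show Q (-x) = d; rw [QuadraticMap.map_neg]; exact h1, i, (D i).neg_mem hi⟩
  have heS : ∀ i j, e i j ∈ S := fun i j => ⟨heQ i j, i, heD i j⟩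
  have hS' : ∀ x ∈ S, ∃ i j, x = e i j ∨ x = -e i j := by
    rintro x ⟨hx, i, hi⟩
    obtain ⟨j, hj⟩ := hS i x hi hx
    exact ⟨i, j, hj⟩
  -- reflections swapping two frame vectors stabilise `S`
  have hswap : ∀ i i' j j', i ≠ i' → ∀ hx : Q (e i j - e i' j') ≠ 0,
      refl Q (e i j - e i' j') hx ∈ setStab S := by
    intro i i' j j' hii' hx
    have hQx : Q (e i j - e i' j') = 2 * d := by
      rw [Qsub, heQ, heQ, polD i j i' j' (Or.inl hii')]
      ring
    have key : ∀ i₀ j₀, ((refl Q (e i j - e i' j') hx : GL ι F) : Matrix ι ι F) *ᵥ (e i₀ j₀) ∈ S := by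
      intro i₀ j₀
      rw [refl_mulVec, hQx, polar_sub_right]
      by_cases h1 : i₀ = i ∧ j₀ = j
      · obtain ⟨rfl, rfl⟩ := h1
        rw [polC, polD i₀ j₀ i' j' (Or.inl hii'), sub_zero, inv_mul_cancel₀ h2d, one_smul]
        have : e i₀ j₀ - (e i₀ j₀ - e i' j') = e i' j' := by abel
        rw [this]
        exact heS _ _
      · by_cases h2' : i₀ = i' ∧ j₀ = j'
        · obtain ⟨rfl, rfl⟩ := h2'
          rw [polC, polD i₀ j₀ i j (Or.inl (Ne.symm hii')), zero_sub, mul_neg,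
            inv_mul_cancel₀ h2d, neg_smul, one_smul]
          have : e i₀ j₀ - -(e i j - e i₀ j₀) = e i j := by abel
          rw [this]
          exact heS _ _
        · have e1 : polar Q (e i₀ j₀) (e i j) = 0 := by
            apply polD
            by_contra hcon
            push Not at hcon
            exact h1 hcon
          have e2 : polar Q (e i₀ j₀) (e i' j') = 0 := by
            apply polD
            by_contra hcon
            push Not at hcon
            exact h2' hcon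
          rw [e1, e2, sub_zero, mul_zero, zero_smul, sub_zero]
          exact heS _ _
    have key2 : ∀ v ∈ S, ((refl Q (e i j - e i' j') hx : GL ι F) : Matrix ι ι F) *ᵥ v ∈ S := by
      intro v hv
      obtain ⟨i₀, j₀, rfl | rfl⟩ := hS' v hv
      · exact key i₀ j₀
      · rw [Matrix.mulVec_neg]
        exact hSneg _ (key i₀ j₀)
    apply mem_setStab_of S _ key2
    rw [refl_inv]
    exact key2
  -- indices
  let i1 : Fin t := ⟨0, by omega⟩
  let i2 : Fin t := ⟨1, by omega⟩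
  let i3 : Fin t := ⟨2, by omega⟩
  let i4 : Fin t := ⟨3, by omega⟩
  let i5 : Fin t := ⟨4, by omega⟩
  let j0 : Fin k := ⟨0, hk⟩
  have n12 : i1 ≠ i2 := by simp [i1, i2, Fin.ext_iff]
  have n13 : i1 ≠ i3 := by simp [i1, i3, Fin.ext_iff]
  have n14 : i1 ≠ i4 := by simp [i1, i4, Fin.ext_iff]
  have n15 : i1 ≠ i5 := by simp [i1, i5, Fin.ext_iff]
  have n23 : i2 ≠ i3 := by simp [i2, i3, Fin.ext_iff]
  have n24 : i2 ≠ i4 := by simp [i2, i4, Fin.ext_iff]
  have n25 : i2 ≠ i5 := by simp [i2, i5, Fin.ext_iff]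
  have n34 : i3 ≠ i4 := by simp [i3, i4, Fin.ext_iff]
  have n35 : i3 ≠ i5 := by simp [i3, i5, Fin.ext_iff]
  have n45 : i4 ≠ i5 := by simp [i4, i5, Fin.ext_iff]
  -- the element of `K` outside the stabiliser of `D`
  have hQx : Q (e i1 j0 - e i2 j0) = 2 * d := by
    rw [Qsub, heQ, heQ, polD _ _ _ _ (Or.inl n12)]; ring
  have hQy : Q (e i3 j0 - e i4 j0) = 2 * d := by
    rw [Qsub, heQ, heQ, polD _ _ _ _ (Or.inl n34)]; ring
  have hx0 : Q (e i1 j0 - e i2 j0) ≠ 0 := by rw [hQx]; exact h2d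
  have hy0 : Q (e i3 j0 - e i4 j0) ≠ 0 := by rw [hQy]; exact h2d
  have hxy : Q (e i1 j0 - e i2 j0 - (e i3 j0 - e i4 j0)) ≠ 0 := by
    rw [Qsub, hQx, hQy]
    simp only [polar_sub_left, polar_sub_right, polD _ _ _ _ (Or.inl n13),
      polD _ _ _ _ (Or.inl n14), polD _ _ _ _ (Or.inl n23), polD _ _ _ _ (Or.inl n24)]
    intro h0
    apply mul_ne_zero h2 h2d
    linear_combination h0
  have hgΩ := refl_mul_refl_mem_omega Q _ _ hx0 hy0 (by rw [hQx, hQy]) hxy
  -- the element of `Ω` outside `K`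
  have hQX : Q (c1 • e i1 j0 + c2 • e i2 j0 + c3 • e i3 j0 + c4 • e i4 j0) = d := by
    simp only [Qadd, QuadraticMap.map_smul, heQ, polar_add_left, polar_smul_left, polar_smul_right,
      polD _ _ _ _ (Or.inl n12), polD _ _ _ _ (Or.inl n13),
      polD _ _ _ _ (Or.inl n14), polD _ _ _ _ (Or.inl n23), polD _ _ _ _ (Or.inl n24),
      polD _ _ _ _ (Or.inl n34), smul_eq_mul]
    linear_combination d * hsq
  have hX0 : Q (c1 • e i1 j0 + c2 • e i2 j0 + c3 • e i3 j0 + c4 • e i4 j0) ≠ 0 := by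
    rw [hQX]; exact hd
  have hY0 : Q (e i5 j0) ≠ 0 := by rw [heQ]; exact hd
  have hpXY : polar Q (c1 • e i1 j0 + c2 • e i2 j0 + c3 • e i3 j0 + c4 • e i4 j0) (e i5 j0)
      = 0 := by
    simp only [polar_add_left, polar_smul_left, polD _ _ _ _ (Or.inl n15),
      polD _ _ _ _ (Or.inl n25), polD _ _ _ _ (Or.inl n35), polD _ _ _ _ (Or.inl n45), smul_eq_mul]
    ring
  have hXY : Q (c1 • e i1 j0 + c2 • e i2 j0 + c3 • e i3 j0 + c4 • e i4 j0 - e i5 j0) ≠ 0 := by
    rw [Qsub, hQX, heQ, hpXY, sub_zero, ← two_mul]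
    exact h2d
  have hhΩ := refl_mul_refl_mem_omega Q _ _ hX0 hY0 (by rw [hQX, heQ]) hXY
  refine not_maximal_of_set Q D S (blockSet_invariant Q D (fun a => a = d)) (refl Q _ hx0 * refl Q _ hy0)
    (refl Q _ hX0 * refl Q _ hY0) hgΩ
    (mul_mem (hswap _ _ _ _ n12 hx0) (hswap _ _ _ _ n34 hy0)) ?_ hhΩ ?_
  · intro hcon
    -- images of two vectors of the first block
    have im1 : ((refl Q _ hx0 * refl Q _ hy0 : GL ι F) : Matrix ι ι F) *ᵥ (e i1 j0) = e i2 j0 := by
      rw [gl_mul_mulVec, refl_mulVec, refl_mulVec, hQx, hQy]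
      have e1 : polar Q (e i1 j0) (e i3 j0 - e i4 j0) = 0 := by
        rw [polar_sub_right, polD _ _ _ _ (Or.inl n13), polD _ _ _ _ (Or.inl n14), sub_zero]
      rw [e1, mul_zero, zero_smul, sub_zero]
      have e2 : polar Q (e i1 j0) (e i1 j0 - e i2 j0) = 2 * d := by
        rw [polar_sub_right, polC, polD _ _ _ _ (Or.inl n12), sub_zero]
      rw [e2, inv_mul_cancel₀ h2d, one_smul]
      abel
    have im2 : ((refl Q _ hx0 * refl Q _ hy0 : GL ι F) : Matrix ι ι F) *ᵥ (c i1) = c i1 := by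
      rw [gl_mul_mulVec, refl_mulVec, refl_mulVec, hQx, hQy]
      have e1 : polar Q (c i1) (e i3 j0 - e i4 j0) = 0 := by
        rw [polar_sub_right, horth _ _ n13 _ (hcD i1) _ (heD _ _),
          horth _ _ n14 _ (hcD i1) _ (heD _ _), sub_zero]
      rw [e1, mul_zero, zero_smul, sub_zero]
      have e2 : polar Q (c i1) (e i1 j0 - e i2 j0) = 0 := by
        rw [polar_sub_right, hce i1, horth _ _ n12 _ (hcD i1) _ (heD _ _), sub_zero]
      rw [e2, mul_zero, zero_smul, sub_zero]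
    obtain ⟨σ, hσ⟩ := hcon
    have m1 : e i2 j0 ∈ D (σ i1) := by
      rw [← hσ i1]
      refine ⟨e i1 j0, heD _ _, ?_⟩
      rw [Matrix.toLin'_apply]
      exact im1
    have m2 : c i1 ∈ D (σ i1) := by
      rw [← hσ i1]
      refine ⟨c i1, hcD _, ?_⟩
      rw [Matrix.toLin'_apply]
      exact im2
    have hσ1 : σ i1 = i2 := by
      by_contra hne
      have := horth _ _ hne _ m1 _ (heD i2 j0)
      rw [polC] at this
      exact h2d this
    rw [hσ1] at m2
    exact hcc i1 (horth _ _ n12 _ (hcD i1) _ m2)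
  · intro hst
    have himg := mulVec_mem_of_mem_setStab hst (heS i1 j0)
    rw [gl_mul_mulVec, refl_mulVec, refl_mulVec, polD _ _ _ _ (Or.inl n15), mul_zero, zero_smul,
      sub_zero, hQX] at himg
    have e1 : polar Q (e i1 j0) (c1 • e i1 j0 + c2 • e i2 j0 + c3 • e i3 j0 + c4 • e i4 j0)
        = c1 * (2 * d) := by
      simp only [polar_add_right, polar_smul_right, polC, polD _ _ _ _ (Or.inl n12),
        polD _ _ _ _ (Or.inl n13), polD _ _ _ _ (Or.inl n14), smul_eq_mul]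
      ring
    rw [e1] at himg
    have e2 : d⁻¹ * (c1 * (2 * d)) = 2 * c1 := by field_simp
    rw [e2] at himg
    obtain ⟨-, i, hi⟩ := himg
    have p2 : polar Q (e i1 j0 - (2 * c1) • (c1 • e i1 j0 + c2 • e i2 j0 + c3 • e i3 j0
        + c4 • e i4 j0)) (e i2 j0) = -(2 * (2 * d)) * (c1 * c2) := by
      simp only [polar_sub_left, polar_smul_left, polar_add_left, polC, polD _ _ _ _ (Or.inl n12),
        polD _ _ _ _ (Or.inl n23.symm), polD _ _ _ _ (Or.inl n24.symm), smul_eq_mul]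
      ring
    have p3 : polar Q (e i1 j0 - (2 * c1) • (c1 • e i1 j0 + c2 • e i2 j0 + c3 • e i3 j0
        + c4 • e i4 j0)) (e i3 j0) = -(2 * (2 * d)) * (c1 * c3) := by
      simp only [polar_sub_left, polar_smul_left, polar_add_left, polC, polD _ _ _ _ (Or.inl n13),
        polD _ _ _ _ (Or.inl n23), polD _ _ _ _ (Or.inl n34.symm), smul_eq_mul]
      ring
    have hne : -(2 * (2 * d)) ≠ 0 := neg_ne_zero.mpr (mul_ne_zero h2 h2d)
    refine not_mem_block Q D horth _ n23 (e i2 j0) (e i3 j0) (heD _ _) (heD _ _) ?_ ?_ i hi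
    · rw [p2]
      exact mul_ne_zero hne h12
    · rw [p3]
      exact mul_ne_zero hne h13

end Cfsg.Agent.Lib.H24.Dn
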