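import Mathlib
import Cfsg.Agent.Lib.H24.DnB

set_option autoImplicit false
set_option linter.unusedSectionVars false

/-!
# Decompositions into hyperbolic planes over the fields with three and five elements
(helper24)
-/

namespace Cfsg.Agent.Lib.H24.Dn

open Module Matrix QuadraticMap
open Cfsg.Agent.Lib.H29.Orth

variable {ι : Type} [Fintype ι] [DecidableEq ι] {F : Type*} [Field F]

/-- hyperbolic bases of the blocks of a decomposition into planes of plus type -/
theorem exists_hyp_bases (Q : QuadraticForm F (ι → F)) {t : ℕ} (D : Fin t → Submodule F (ι → F))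
    (hD : Cfsg.Geo.IsOrthogonalMDecomposition (⇑Q) 2 D)
    (hplus : ∀ i, Cfsg.Geo.IsPlusTypeOn (⇑Q) (D i)) :
    ∃ u v : Fin t → (ι → F), (∀ i, u i ∈ D i) ∧ (∀ i, v i ∈ D i) ∧ (∀ i, Q (u i) = 0) ∧
      (∀ i, Q (v i) = 0) ∧ (∀ i, polar Q (u i) (v i) = 1) ∧
      ∀ i, ∀ x ∈ D i, ∃ α β : F, x = α • u i + β • v i := by
  have hall : ∀ i, ∃ u v : ι → F, u ∈ D i ∧ v ∈ D i ∧ Q u = 0 ∧ Q v = 0 ∧ polar Q u v = 1 ∧
      ∀ x ∈ D i, ∃ α β : F, x = α • u + β • v := fun i =>
    exists_hyperbolic_basis Q (D i) (hD.decomp.decomp.finrank_eq i) (hD.decomp.nondegenerate i)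
      (hplus i)
  choose u v h1 h2 h3 h4 h5 h6 using hall
  exact ⟨u, v, h1, h2, h3, h4, h5, h6⟩

theorem Q_hyp (Q : QuadraticForm F (ι → F)) {u v : ι → F} (hu : Q u = 0) (hv : Q v = 0)
    (huv : polar Q u v = 1) (α β : F) : Q (α • u + β • v) = α * β := by
  rw [QuadraticMap.map_add (⇑Q), QuadraticMap.map_smul, QuadraticMap.map_smul, hu, hv,
    polar_smul_left, polar_smul_right, huv, smul_eq_mul, smul_eq_mul, smul_eq_mul, smul_eq_mul]
  ring

theorem polar_hyp (Q : QuadraticForm F (ι → F)) {u v : ι → F} (hu : Q u = 0) (hv : Q v = 0)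
    (huv : polar Q u v = 1) (α β α' β' : F) :
    polar Q (α • u + β • v) (α' • u + β' • v) = α * β' + β * α' := by
  have hvu : polar Q v u = 1 := by rw [polar_comm, huv]
  simp only [polar_add_left, polar_add_right, polar_smul_left, polar_smul_right, polar_self', hu,
    hv, huv, hvu, smul_eq_mul]
  ring

section F3

variable [Fintype F]

/-- decompositions into hyperbolic planes over the field with three elements -/
theorem decomp_f3_plus (hq : Fintype.card F = 3) (Q : QuadraticForm F (ι → F)) {t : ℕ}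
    (ht : 5 ≤ t) (D : Fin t → Submodule F (ι → F))
    (hD : Cfsg.Geo.IsOrthogonalMDecomposition (⇑Q) 2 D)
    (hplus : ∀ i, Cfsg.Geo.IsPlusTypeOn (⇑Q) (D i)) :
    ∃ K : Subgroup (GL ι F), Cfsg.Geo.decompositionStabilizer D ⊓ Cfsg.Geo.omegaGL (⇑Q) < K ∧
      K < Cfsg.Geo.omegaGL (⇑Q) := by
  have h3 := f3_three (F := F) hq
  have h2 := f3_two_ne (F := F) hq
  obtain ⟨u, v, huD, hvD, hu, hv, huv, hsp⟩ := exists_hyp_bases Q D hD hplus
  have horth : ∀ i i', i ≠ i' → ∀ x ∈ D i, ∀ y ∈ D i', polar Q x y = 0 :=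
    fun i i' hne x hx y hy => hD.decomp.orthogonal i i' hne x hx y hy
  have hone : ∀ w : ι → F, (1 : F) • w + (1 : F) • w = w + w := by
    intro w; rw [one_smul]
  refine frame_not_maximal_gen Q h2 (k := 1) le_rfl ht D horth 1 one_ne_zero
    (fun i _ => (1 : F) • u i + (1 : F) • v i) ?_ ?_ ?_ ?_
    (fun i => (1 : F) • u i + (-1 : F) • v i) ?_ ?_ ?_ 1 1 1 1 ?_ ?_ ?_
  · intro i _
    exact (D i).add_mem ((D i).smul_mem _ (huD i)) ((D i).smul_mem _ (hvD i))
  · intro i _
    rw [Q_hyp Q (hu i) (hv i) (huv i)]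
    ring
  · intro i j j' hne
    exact absurd (Subsingleton.elim j j') hne
  · intro i x hx hQx
    obtain ⟨α, β, rfl⟩ := hsp i x hx
    rw [Q_hyp Q (hu i) (hv i) (huv i)] at hQx
    refine ⟨0, ?_⟩
    rcases f3_cases hq α with rfl | rfl | rfl
    · rw [zero_mul] at hQx
      exact absurd hQx.symm one_ne_zero
    · rw [one_mul] at hQx
      left
      rw [hQx]
    · right
      have : β = -1 := by linear_combination -hQx
      rw [this]
      module
  · intro i
    exact (D i).add_mem ((D i).smul_mem _ (huD i)) ((D i).smul_mem _ (hvD i))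
  · intro i
    rw [polar_hyp Q (hu i) (hv i) (huv i)]
    ring
  · intro i
    rw [polar_hyp Q (hu i) (hv i) (huv i)]
    intro h0
    apply h2
    linear_combination -h0
  · linear_combination h3
  · simp
  · simp

end F3

section F5

variable [Fintype F]

theorem f5_five (hq : Fintype.card F = 5) : (5 : F) = 0 := by
  have := Nat.cast_card_eq_zero F
  rw [hq] at this
  exact_mod_cast this

theorem f5_two_ne (hq : Fintype.card F = 5) : (2 : F) ≠ 0 := by
  intro h
  have : (1 : F) = 0 := by linear_combination f5_five hq - 2 * h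
  exact one_ne_zero this

theorem f5_cases (hq : Fintype.card F = 5) {x : F} (hx : x ≠ 0) :
    x = 1 ∨ x = -1 ∨ x = 2 ∨ x = -2 := by
  have h4 : x ^ 4 = 1 := by
    have := FiniteField.pow_card_sub_one_eq_one x hx
    rwa [hq] at this
  have h5 := f5_five (F := F) hq
  have : (x - 1) * ((x + 1) * ((x - 2) * (x + 2))) = 0 := by
    linear_combination h4 + (1 - x ^ 2) * h5
  rcases mul_eq_zero.mp this with h | h
  · left; linear_combination h
  · rcases mul_eq_zero.mp h with h | h
    · right; left; linear_combination h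
    · rcases mul_eq_zero.mp h with h | h
      · right; right; left; linear_combination h
      · right; right; right; linear_combination h

/-- decompositions into hyperbolic planes over the field with five elements -/
theorem decomp_f5_plus (hq : Fintype.card F = 5) (Q : QuadraticForm F (ι → F)) {t : ℕ}
    (ht : 5 ≤ t) (D : Fin t → Submodule F (ι → F))
    (hD : Cfsg.Geo.IsOrthogonalMDecomposition (⇑Q) 2 D)
    (hplus : ∀ i, Cfsg.Geo.IsPlusTypeOn (⇑Q) (D i)) :
    ∃ K : Subgroup (GL ι F), Cfsg.Geo.decompositionStabilizer D ⊓ Cfsg.Geo.omegaGL (⇑Q) < K ∧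
      K < Cfsg.Geo.omegaGL (⇑Q) := by
  have h5 := f5_five (F := F) hq
  have h2 := f5_two_ne (F := F) hq
  obtain ⟨u, v, huD, hvD, hu, hv, huv, hsp⟩ := exists_hyp_bases Q D hD hplus
  have horth : ∀ i i', i ≠ i' → ∀ x ∈ D i, ∀ y ∈ D i', polar Q x y = 0 :=
    fun i i' hne x hx y hy => hD.decomp.orthogonal i i' hne x hx y hy
  refine frame_not_maximal_gen Q h2 (k := 2) (by norm_num) ht D horth 1 one_ne_zero
    (fun i j => if j = 0 then (1 : F) • u i + (1 : F) • v i else (2 : F) • u i + (3 : F) • v i)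
    ?_ ?_ ?_ ?_
    (fun i => (2 : F) • u i + (3 : F) • v i) ?_ ?_ ?_ 1 2 1 0 ?_ ?_ ?_
  · intro i j
    split_ifs
    · exact (D i).add_mem ((D i).smul_mem _ (huD i)) ((D i).smul_mem _ (hvD i))
    · exact (D i).add_mem ((D i).smul_mem _ (huD i)) ((D i).smul_mem _ (hvD i))
  · intro i j
    split_ifs
    · rw [Q_hyp Q (hu i) (hv i) (huv i)]
      ring
    · rw [Q_hyp Q (hu i) (hv i) (huv i)]
      linear_combination h5
  · intro i j j' hne
    fin_cases j <;> fin_cases j'
    · exact absurd rfl hne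
    · simp only [Fin.zero_eta, Fin.mk_one, if_true, one_ne_zero, if_false]
      rw [polar_hyp Q (hu i) (hv i) (huv i)]
      linear_combination h5
    · simp only [Fin.zero_eta, Fin.mk_one, if_true, one_ne_zero, if_false]
      rw [polar_hyp Q (hu i) (hv i) (huv i)]
      linear_combination h5
    · exact absurd rfl hne
  · intro i x hx hQx
    obtain ⟨α, β, rfl⟩ := hsp i x hx
    rw [Q_hyp Q (hu i) (hv i) (huv i)] at hQx
    have hα : α ≠ 0 := by
      rintro rfl
      rw [zero_mul] at hQx
      exact one_ne_zero hQx.symm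
    rcases f5_cases hq hα with rfl | rfl | rfl | rfl
    · refine ⟨0, Or.inl ?_⟩
      have : β = 1 := by linear_combination hQx
      rw [this]
      simp
    · refine ⟨0, Or.inr ?_⟩
      have : β = -1 := by linear_combination -hQx
      rw [this]
      simp only [if_true]
      module
    · refine ⟨1, Or.inl ?_⟩
      have : β = 3 := by linear_combination 3 * hQx - β * h5
      rw [this]
      simp
    · refine ⟨1, Or.inr ?_⟩
      have : β = -3 := by linear_combination (-3) * hQx - β * h5
      rw [this]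
      simp only [one_ne_zero, if_false]
      module
  · intro i
    exact (D i).add_mem ((D i).smul_mem _ (huD i)) ((D i).smul_mem _ (hvD i))
  · intro i
    have e0 : ((⟨0, by norm_num⟩ : Fin 2) = 0) := rfl
    simp only [e0, if_true]
    rw [polar_hyp Q (hu i) (hv i) (huv i)]
    linear_combination h5
  · intro i
    rw [polar_hyp Q (hu i) (hv i) (huv i)]
    intro h0
    apply h2
    linear_combination h0 - 2 * h5
  · linear_combination h5
  · simpa using h2
  · simp

end F5

end Cfsg.Agent.Lib.H24.Dn
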