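/-
EO project (even-dimensional orthogonal rows), phase 2, small-`q` class-2 exclusions, part a (helper24):
decompositions into planes whose vectors of one norm form an orthogonal frame.
* `card_eq_of_isMDecomposition`: `t * k = |ι|`;
* `frame_of_blocks`: if every block `D i` (a plane) contains two orthogonal vectors `w0 i`, `w1 i` of norm `c ≠ 0`
  such that every vector of norm `c` of the block is one of `± w0 i`, `± w1 i`, then the `2 t` lines through
  these vectors form an orthogonal decomposition into isometric lines which is stabilised by every isometry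
  stabilising `D`;
* `c2_minus_q3` (**E2c**): `q = 3`, anisotropic planes;  `c2_plus_q5` (**E2e**): `q = 5`, hyperbolic planes.
-/
import Cfsg.Agent.Lib.H24.AschEO2Gen
import Cfsg.Agent.Lib.H24.AschOBasic
import Cfsg.Agent.Lib.H24.DnC

set_option autoImplicit false

namespace Cfsg.Agent.Lib.H24.EOP2

open Cfsg Cfsg.Geo Module
open scoped MatrixGroups Matrix

variable {ι : Type} [Fintype ι] [DecidableEq ι] {F : Type*} [Field F]

theorem card_eq_of_isMDecomposition {t k : ℕ} {D : Fin t → Submodule F (ι → F)}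
    (hD : IsMDecomposition k D) : t * k = Fintype.card ι := by
  have h1 := Cfsg.Agent.Lib.H24.Elus.finrank_iSup_eq_sum D hD.indep
  rw [hD.iSup_eq_top, finrank_top, Module.finrank_fintype_fun_eq_card,
    Finset.sum_congr rfl (fun a _ => hD.finrank_eq a), Finset.sum_const, Finset.card_univ,
    Fintype.card_fin, smul_eq_mul] at h1
  exact h1.symm

/-- an isometry stabilising a decomposition maps block vectors to block vectors of the same norm -/
theorem exists_block_of_mem {Q : (ι → F) → F} {t : ℕ} (D : Fin t → Submodule F (ι → F)) {g : GL ι F}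
    (hg : g ∈ decompositionStabilizer D ⊓ isometryGroup F Q) (i : Fin t) {x : ι → F} (hx : x ∈ D i) :
    ∃ i', (g : Matrix ι ι F) *ᵥ x ∈ D i' ∧ Q ((g : Matrix ι ι F) *ᵥ x) = Q x := by
  obtain ⟨⟨σ, hσ⟩, hgI⟩ := Subgroup.mem_inf.1 hg
  refine ⟨σ i, ?_, ?_⟩
  · rw [← hσ i]
    exact ⟨x, hx, by rw [Matrix.toLin'_apply]⟩
  · exact (Cfsg.Agent.Lib.H24.Asch.mem_isometryGroup_iff Q g).1 hgI x

theorem frame_of_blocks {Q : (ι → F) → F} (hQ : IsNondegenerateQuadraticForm Q) (h2 : (2 : F) ≠ 0) {t : ℕ}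
    (D : Fin t → Submodule F (ι → F)) (hD : IsOrthogonalMDecomposition Q 2 D) (c : F) (hc : c ≠ 0)
    (w0 w1 : Fin t → (ι → F)) (h0D : ∀ i, w0 i ∈ D i) (h1D : ∀ i, w1 i ∈ D i)
    (h0 : ∀ i, Q (w0 i) = c) (h1 : ∀ i, Q (w1 i) = c)
    (h01 : ∀ i, QuadraticMap.polar Q (w0 i) (w1 i) = 0)
    (hall : ∀ i, ∀ x ∈ D i, Q x = c → x = w0 i ∨ x = - w0 i ∨ x = w1 i ∨ x = - w1 i)
    {r : ℕ} (hr : r = t * 2) :
    ∃ D1 : Fin r → Submodule F (ι → F), IsOrthogonalMDecomposition Q 1 D1 ∧
      decompositionStabilizer D ⊓ isometryGroup F Q ≤ decompositionStabilizer D1 := by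
  subst hr
  have hpb := hQ.polar_bilinear
  have hcard : t * 2 = Fintype.card ι := card_eq_of_isMDecomposition hD.decomp.decomp
  have ht : 2 ≤ t := hD.decomp.decomp.two_le
  set wv : Fin t → Fin 2 → (ι → F) := fun i j => if j = 0 then w0 i else w1 i with hwv
  set p : Fin (t * 2) ≃ Fin t × Fin 2 := finProdFinEquiv.symm with hp
  set W : Fin (t * 2) → (ι → F) := fun a => wv (p a).1 (p a).2 with hW
  have hwvD : ∀ i j, wv i j ∈ D i := by
    intro i j
    simp only [hwv]
    split_ifs
    · exact h0D i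
    · exact h1D i
  have hwvQ : ∀ i j, Q (wv i j) = c := by
    intro i j
    simp only [hwv]
    split_ifs
    · exact h0 i
    · exact h1 i
  have hwvorth : ∀ i j j', j ≠ j' → QuadraticMap.polar Q (wv i j) (wv i j') = 0 := by
    intro i j j' hjj
    simp only [hwv]
    have hj : j = 0 ∨ j = 1 := by omega
    have hj' : j' = 0 ∨ j' = 1 := by omega
    rcases hj with rfl | rfl <;> rcases hj' with rfl | rfl
    · exact absurd rfl hjj
    · simp [h01 i]
    · simp only [Fin.isValue, one_ne_zero, ↓reduceIte]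
      rw [QuadraticMap.polar_comm]; exact h01 i
    · exact absurd rfl hjj
  have hWorth : ∀ a b, a ≠ b → QuadraticMap.polar Q (W a) (W b) = 0 := by
    intro a b hab
    by_cases h1 : (p a).1 = (p b).1
    · have h2' : (p a).2 ≠ (p b).2 := by
        intro h2'
        exact hab (p.injective (Prod.ext h1 h2'))
      simp only [hW]
      rw [h1]
      exact hwvorth _ _ _ h2'
    · exact hD.decomp.orthogonal _ _ h1 _ (hwvD _ _) _ (hwvD _ _)
  have hdec := frame_isOrthogonalMDecomposition hQ h2 (by omega) hcard W c hc (fun a => hwvQ _ _) hWorth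
  refine ⟨_, hdec, ?_⟩
  intro g hg
  have hW0 : ∀ a, W a ≠ 0 := by
    intro a h0'
    have := hwvQ (p a).1 (p a).2
    simp only [hW] at h0'
    rw [h0', quad_zero hQ] at this
    exact hc this.symm
  refine mem_decompositionStabilizer_frame W hdec.decomp.decomp.indep hW0 g ?_
  intro a
  obtain ⟨i', hi', hQ'⟩ := exists_block_of_mem D hg (p a).1 (hwvD (p a).1 (p a).2)
  rw [hwvQ] at hQ'
  have hW' : ∀ j : Fin 2, W (p.symm (i', j)) = wv i' j := by
    intro j
    simp only [hW, Equiv.apply_symm_apply]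
  rcases hall i' _ hi' hQ' with h | h | h | h
  · exact ⟨p.symm (i', 0), 1, one_ne_zero, by rw [hW', one_smul]; exact h⟩
  · exact ⟨p.symm (i', 0), -1, neg_ne_zero.2 one_ne_zero, by rw [hW', neg_one_smul]; exact h⟩
  · exact ⟨p.symm (i', 1), 1, one_ne_zero, by rw [hW', one_smul]; simpa [hwv] using h⟩
  · exact ⟨p.symm (i', 1), -1, neg_ne_zero.2 one_ne_zero, by rw [hW', neg_one_smul]; simpa [hwv] using h⟩

end Cfsg.Agent.Lib.H24.EOP2

namespace Cfsg.Agent.Lib.H24.EOP2

open Cfsg Cfsg.Geo Module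
open scoped MatrixGroups Matrix

variable {ι : Type} [Fintype ι] [DecidableEq ι] {F : Type*} [Field F]

theorem quad_add {Q : (ι → F) → F} (u v : ι → F) :
    Q (u + v) = Q u + Q v + QuadraticMap.polar Q u v := by
  unfold QuadraticMap.polar; ring

theorem quad_comb_orth {Q : (ι → F) → F} (hQ : IsNondegenerateQuadraticForm Q) {x y : ι → F}
    (hxy : QuadraticMap.polar Q x y = 0) (a b : F) :
    Q (a • x + b • y) = a ^ 2 * Q x + b ^ 2 * Q y := by
  rw [quad_add (Q := Q), hQ.smul, hQ.smul, hQ.polar_bilinear.smul_left, hQ.polar_bilinear.smul_right, hxy]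
  ring

/-- a plane without non-zero singular vectors is not of plus type, and conversely -/
theorem aniso_of_not_plus {Q : (ι → F) → F} (hQ : IsNondegenerateQuadraticForm Q) (W : Submodule F (ι → F))
    (hdim : finrank F W = 2) (hminus : ¬ IsPlusTypeOn Q W) : ∀ x ∈ W, Q x = 0 → x = 0 := by
  intro x hx hQx
  by_contra hx0
  apply hminus
  refine ⟨Submodule.span F {x}, ?_, ?_, ?_⟩
  · rw [Submodule.span_singleton_le_iff_mem]; exact hx
  · intro w hw
    obtain ⟨l, rfl⟩ := Submodule.mem_span_singleton.1 hw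
    rw [hQ.smul, hQx, mul_zero]
  · rw [finrank_span_singleton hx0, hdim]

/-- an orthogonal basis of a plane through a given non-singular vector -/
theorem exists_orth_basis_plane {Q : (ι → F) → F} (hQ : IsNondegenerateQuadraticForm Q) (h2 : (2 : F) ≠ 0)
    (W : Submodule F (ι → F)) (hdim : finrank F W = 2) (x : ι → F) (hx : x ∈ W) (hQx : Q x ≠ 0) :
    ∃ y ∈ W, y ≠ 0 ∧ QuadraticMap.polar Q x y = 0 ∧ (∀ s t : F, s • x + t • y = 0 → s = 0 ∧ t = 0) ∧
      ∀ d ∈ W, ∃ a b : F, d = a • x + b • y := by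
  have hpb := hQ.polar_bilinear
  have hx0 : x ≠ 0 := by
    rintro rfl
    exact hQx (quad_zero hQ)
  have hlt : Submodule.span F {x} < W := by
    refine lt_of_le_of_ne ((Submodule.span_singleton_le_iff_mem _ _).2 hx) ?_
    intro h
    have := finrank_span_singleton (K := F) hx0
    rw [h, hdim] at this
    omega
  obtain ⟨z, hzW, hz⟩ := SetLike.exists_of_lt hlt
  set y : ι → F := z - (QuadraticMap.polar Q x z * (2 * Q x)⁻¹) • x with hy
  have hyW : y ∈ W := W.sub_mem hzW (W.smul_mem _ hx)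
  have h2Q : 2 * Q x ≠ 0 := mul_ne_zero h2 hQx
  have hxy : QuadraticMap.polar Q x y = 0 := by
    have h1 : y = z + (-(QuadraticMap.polar Q x z * (2 * Q x)⁻¹)) • x := by
      rw [hy, neg_smul, sub_eq_add_neg]
    rw [h1, hpb.add_right, hpb.smul_right, polar_self_eq hQ]
    field_simp
    ring
  have hy0 : y ≠ 0 := by
    intro h0
    apply hz
    rw [hy, sub_eq_zero] at h0
    rw [h0]
    exact Submodule.smul_mem _ _ (Submodule.mem_span_singleton_self x)
  have hind : ∀ s t : F, s • x + t • y = 0 → s = 0 ∧ t = 0 := by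
    intro s t hst
    have h1 : QuadraticMap.polar Q x (s • x + t • y) = s * (2 * Q x) := by
      rw [hpb.add_right, hpb.smul_right, hpb.smul_right, hxy, polar_self_eq hQ]; ring
    rw [hst] at h1
    have h0 : QuadraticMap.polar Q x 0 = 0 := by
      have := hpb.smul_right 0 x 0
      rw [zero_smul, zero_mul] at this
      exact this
    rw [h0] at h1
    have hs : s = 0 := by
      rcases mul_eq_zero.1 h1.symm with h | h
      · exact h
      · exact absurd h h2Q
    refine ⟨hs, ?_⟩
    rw [hs, zero_smul, zero_add] at hst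
    rcases smul_eq_zero.1 hst with h | h
    · exact h
    · exact absurd h hy0
  exact ⟨y, hyW, hy0, hxy, hind, fun d hd =>
    Cfsg.Agent.Lib.H29.Orth.span_pair' W hdim x y hx hyW hind d hd⟩

section F3

variable [Fintype F]

/-- `q = 3`: the vectors of norm `1` of an anisotropic plane form an orthogonal frame. -/
theorem exists_frame_aniso_f3 (hq : Fintype.card F = 3) {Q : (ι → F) → F}
    (hQ : IsNondegenerateQuadraticForm Q) (W : Submodule F (ι → F)) (hdim : finrank F W = 2)
    (haniso : ∀ x ∈ W, Q x = 0 → x = 0) :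
    ∃ w0 w1 : ι → F, w0 ∈ W ∧ w1 ∈ W ∧ Q w0 = 1 ∧ Q w1 = 1 ∧ QuadraticMap.polar Q w0 w1 = 0 ∧
      ∀ x ∈ W, Q x = 1 → x = w0 ∨ x = -w0 ∨ x = w1 ∨ x = -w1 := by
  have h3 : (3 : F) = 0 := Cfsg.Agent.Lib.H29.Orth.f3_three hq
  have h2 : (2 : F) ≠ 0 := Cfsg.Agent.Lib.H29.Orth.f3_two_ne hq
  have hpb := hQ.polar_bilinear
  have hWne : W ≠ ⊥ := by
    rintro rfl
    simp at hdim
  obtain ⟨x, hxW, hx0⟩ := (Submodule.ne_bot_iff W).1 hWne
  have hQx : Q x ≠ 0 := fun h => hx0 (haniso x hxW h)
  obtain ⟨y, hyW, hy0, hxy, hind, hsp⟩ := exists_orth_basis_plane hQ h2 W hdim x hxW hQx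
  have hQy : Q y ≠ 0 := fun h => hy0 (haniso y hyW h)
  have hform : ∀ a b : F, Q (a • x + b • y) = a ^ 2 * Q x + b ^ 2 * Q y := quad_comb_orth hQ hxy
  have hyx : QuadraticMap.polar Q y x = 0 := by rw [QuadraticMap.polar_comm]; exact hxy
  rcases Cfsg.Agent.Lib.H29.Orth.f3_cases hq (Q x) with hx1 | hx1 | hx1
  · exact absurd hx1 hQx
  · rcases Cfsg.Agent.Lib.H29.Orth.f3_cases hq (Q y) with hy1 | hy1 | hy1
    · exact absurd hy1 hQy
    · -- Q x = 1, Q y = 1
      refine ⟨x, y, hxW, hyW, hx1, hy1, hxy, ?_⟩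
      intro d hd hQd
      obtain ⟨a, b, rfl⟩ := hsp d hd
      rw [hform, hx1, hy1] at hQd
      rcases Cfsg.Agent.Lib.H29.Orth.f3_cases hq a with rfl | rfl | rfl <;>
        rcases Cfsg.Agent.Lib.H29.Orth.f3_cases hq b with rfl | rfl | rfl
      · exfalso; apply one_ne_zero (α := F); linear_combination -hQd
      · right; right; left; simp
      · right; right; right; simp
      · left; simp
      · exfalso; apply one_ne_zero (α := F); linear_combination hQd
      · exfalso; apply one_ne_zero (α := F); linear_combination hQd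
      · right; left; simp
      · exfalso; apply one_ne_zero (α := F); linear_combination hQd
      · exfalso; apply one_ne_zero (α := F); linear_combination hQd
    · -- Q x = 1, Q y = -1 : x + y singular
      exfalso
      have h0 : Q ((1 : F) • x + (1 : F) • y) = 0 := by rw [hform, hx1, hy1]; ring
      have := haniso _ (W.add_mem (W.smul_mem _ hxW) (W.smul_mem _ hyW)) h0
      exact one_ne_zero (hind 1 1 this).1
  · rcases Cfsg.Agent.Lib.H29.Orth.f3_cases hq (Q y) with hy1 | hy1 | hy1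
    · exact absurd hy1 hQy
    · exfalso
      have h0 : Q ((1 : F) • x + (1 : F) • y) = 0 := by rw [hform, hx1, hy1]; ring
      have := haniso _ (W.add_mem (W.smul_mem _ hxW) (W.smul_mem _ hyW)) h0
      exact one_ne_zero (hind 1 1 this).1
    · -- Q x = -1, Q y = -1
      refine ⟨(1 : F) • x + (1 : F) • y, (1 : F) • x + (-1 : F) • y,
        W.add_mem (W.smul_mem _ hxW) (W.smul_mem _ hyW), W.add_mem (W.smul_mem _ hxW) (W.smul_mem _ hyW),
        ?_, ?_, ?_, ?_⟩
      · rw [hform, hx1, hy1]; linear_combination -h3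
      · rw [hform, hx1, hy1]; linear_combination -h3
      · simp only [hpb.add_left, hpb.add_right, hpb.smul_left, hpb.smul_right, polar_self_eq hQ, hxy, hyx,
          hx1, hy1]
        ring
      · intro d hd hQd
        obtain ⟨a, b, rfl⟩ := hsp d hd
        rw [hform, hx1, hy1] at hQd
        rcases Cfsg.Agent.Lib.H29.Orth.f3_cases hq a with rfl | rfl | rfl <;>
          rcases Cfsg.Agent.Lib.H29.Orth.f3_cases hq b with rfl | rfl | rfl
        · exfalso; apply one_ne_zero (α := F); linear_combination -hQd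
        · exfalso; apply one_ne_zero (α := F); linear_combination hQd + h3
        · exfalso; apply one_ne_zero (α := F); linear_combination hQd + h3
        · exfalso; apply one_ne_zero (α := F); linear_combination hQd + h3
        · left; rfl
        · right; right; left; rfl
        · exfalso; apply one_ne_zero (α := F); linear_combination hQd + h3
        · right; right; right
          rw [neg_add, ← neg_smul, ← neg_smul, neg_neg]
        · right; left
          rw [neg_add, ← neg_smul, ← neg_smul]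

/-- **E2c**: `q = 3`, planes of minus type. -/
theorem c2_minus_q3 (hq : Fintype.card F = 3) {Q : (ι → F) → F} (hQ : IsNondegenerateQuadraticForm Q)
    {t : ℕ} (D : Fin t → Submodule F (ι → F)) (hD : IsOrthogonalMDecomposition Q 2 D)
    (hminus : ∀ i, ¬ IsPlusTypeOn Q (D i)) {r : ℕ} (hr : r = t * 2) :
    ∃ D1 : Fin r → Submodule F (ι → F), IsOrthogonalMDecomposition Q 1 D1 ∧
      decompositionStabilizer D ⊓ isometryGroup F Q ≤ decompositionStabilizer D1 := by
  have h2 : (2 : F) ≠ 0 := Cfsg.Agent.Lib.H29.Orth.f3_two_ne hq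
  have hall : ∀ i, ∃ w0 w1 : ι → F, w0 ∈ D i ∧ w1 ∈ D i ∧ Q w0 = 1 ∧ Q w1 = 1 ∧
      QuadraticMap.polar Q w0 w1 = 0 ∧ ∀ x ∈ D i, Q x = 1 → x = w0 ∨ x = -w0 ∨ x = w1 ∨ x = -w1 :=
    fun i => exists_frame_aniso_f3 hq hQ (D i) (hD.decomp.decomp.finrank_eq i)
      (aniso_of_not_plus hQ (D i) (hD.decomp.decomp.finrank_eq i) (hminus i))
  choose w0 w1 h0D h1D h0 h1 h01 hx using hall
  exact frame_of_blocks hQ h2 D hD 1 one_ne_zero w0 w1 h0D h1D h0 h1 h01 hx hr

end F3

section F5

variable [Fintype F]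

open Cfsg.Agent.Lib.H29.Orth Cfsg.Agent.Lib.H24.Dn in
/-- `q = 5`: the vectors of norm `1` of a hyperbolic plane form an orthogonal frame. -/
theorem exists_frame_hyp_f5 (hq : Fintype.card F = 5) {Q : (ι → F) → F}
    (hQ : IsNondegenerateQuadraticForm Q) (W : Submodule F (ι → F)) (hdim : finrank F W = 2)
    (hnd : IsNondegenerateOn (QuadraticMap.polar Q) W) (hplus : IsPlusTypeOn Q W) :
    ∃ w0 w1 : ι → F, w0 ∈ W ∧ w1 ∈ W ∧ Q w0 = 1 ∧ Q w1 = 1 ∧ QuadraticMap.polar Q w0 w1 = 0 ∧
      ∀ x ∈ W, Q x = 1 → x = w0 ∨ x = -w0 ∨ x = w1 ∨ x = -w1 := by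
  have h5 : (5 : F) = 0 := f5_five hq
  obtain ⟨u, v, huW, hvW, hu, hv, huv, hsp⟩ := exists_hyperbolic_basis (toQF Q hQ) W hdim hnd hplus
  have hform : ∀ α β : F, Q (α • u + β • v) = α * β := fun α β => Q_hyp (toQF Q hQ) hu hv huv α β
  have hpol : ∀ α β α' β' : F, QuadraticMap.polar Q (α • u + β • v) (α' • u + β' • v) = α * β' + β * α' :=
    fun α β α' β' => polar_hyp (toQF Q hQ) hu hv huv α β α' β'
  refine ⟨(1 : F) • u + (1 : F) • v, (2 : F) • u + (3 : F) • v,
    W.add_mem (W.smul_mem _ huW) (W.smul_mem _ hvW), W.add_mem (W.smul_mem _ huW) (W.smul_mem _ hvW),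
    ?_, ?_, ?_, ?_⟩
  · rw [hform]; ring
  · rw [hform]; linear_combination h5
  · rw [hpol]; linear_combination h5
  · intro d hd hQd
    obtain ⟨α, β, rfl⟩ := hsp d hd
    rw [hform] at hQd
    have hα : α ≠ 0 := by
      rintro rfl
      rw [zero_mul] at hQd
      exact one_ne_zero hQd.symm
    rcases f5_cases hq hα with rfl | rfl | rfl | rfl
    · left
      have : β = 1 := by linear_combination hQd
      rw [this]
    · right; left
      have : β = -1 := by linear_combination -hQd
      rw [this, neg_add, ← neg_smul, ← neg_smul]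
    · right; right; left
      have : β = 3 := by linear_combination 3 * hQd - β * h5
      rw [this]
    · right; right; right
      have : β = -3 := by linear_combination -3 * hQd - β * h5
      rw [this, neg_add, ← neg_smul, ← neg_smul]

/-- **E2e**: `q = 5`, planes of plus type. -/
theorem c2_plus_q5 (hq : Fintype.card F = 5) {Q : (ι → F) → F} (hQ : IsNondegenerateQuadraticForm Q)
    {t : ℕ} (D : Fin t → Submodule F (ι → F)) (hD : IsOrthogonalMDecomposition Q 2 D)
    (hplus : ∀ i, IsPlusTypeOn Q (D i)) {r : ℕ} (hr : r = t * 2) :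
    ∃ D1 : Fin r → Submodule F (ι → F), IsOrthogonalMDecomposition Q 1 D1 ∧
      decompositionStabilizer D ⊓ isometryGroup F Q ≤ decompositionStabilizer D1 := by
  have h2 : (2 : F) ≠ 0 := Cfsg.Agent.Lib.H24.Dn.f5_two_ne hq
  have hall : ∀ i, ∃ w0 w1 : ι → F, w0 ∈ D i ∧ w1 ∈ D i ∧ Q w0 = 1 ∧ Q w1 = 1 ∧
      QuadraticMap.polar Q w0 w1 = 0 ∧ ∀ x ∈ D i, Q x = 1 → x = w0 ∨ x = -w0 ∨ x = w1 ∨ x = -w1 :=
    fun i => exists_frame_hyp_f5 hq hQ (D i) (hD.decomp.decomp.finrank_eq i)
      (hD.decomp.nondegenerate i) (hplus i)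
  choose w0 w1 h0D h1D h0 h1 h01 hx using hall
  exact frame_of_blocks hQ h2 D hD 1 one_ne_zero w0 w1 h0D h1D h0 h1 h01 hx hr

end F5

end Cfsg.Agent.Lib.H24.EOP2
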