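import Mathlib
import Cfsg.Agent.Lib.H24.DnC

set_option autoImplicit false
set_option linter.unusedSectionVars false

/-!
# Decompositions into hyperbolic planes over the field with two elements (helper24)

The intermediate subgroup is the stabiliser in `Ω` of the sum of the non-singular vectors of the
blocks.
-/

namespace Cfsg.Agent.Lib.H24.Dn

open Module Matrix QuadraticMap
open Cfsg.Agent.Lib.H29.Orth Cfsg.Agent.Lib.H24.Tn

variable {ι : Type} [Fintype ι] [DecidableEq ι] {F : Type*} [Field F]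

theorem polar_sum_left' (Q : QuadraticForm F (ι → F)) {κ : Type*} (x : ι → F) (s : Finset κ)
    (f : κ → ι → F) : polar Q (∑ j ∈ s, f j) x = ∑ j ∈ s, polar Q (f j) x := by
  rw [polar_comm, polar_sum_right']
  exact Finset.sum_congr rfl fun j _ => polar_comm _ _ _

/-- decompositions into hyperbolic planes over the field with two elements -/
theorem decomp_f2_plus [Fintype F] (hq : Fintype.card F = 2) (Q : QuadraticForm F (ι → F))
    (hQ : (QuadraticMap.polarBilin Q).Nondegenerate) (hcard : 5 ≤ Fintype.card ι) {t : ℕ}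
    (ht : 3 ≤ t) (D : Fin t → Submodule F (ι → F))
    (hD : Cfsg.Geo.IsOrthogonalMDecomposition (⇑Q) 2 D)
    (hplus : ∀ i, Cfsg.Geo.IsPlusTypeOn (⇑Q) (D i)) :
    ∃ K : Subgroup (GL ι F), Cfsg.Geo.decompositionStabilizer D ⊓ Cfsg.Geo.omegaGL (⇑Q) < K ∧
      K < Cfsg.Geo.omegaGL (⇑Q) := by
  classical
  have h2 := f2_two (F := F) hq
  have h11 : (1 : F) + 1 = 0 := by rw [← h2]; norm_num
  obtain ⟨u, v, huD, hvD, hu, hv, huv, hsp⟩ := exists_hyp_bases Q D hD hplus
  have horth : ∀ i i', i ≠ i' → ∀ x ∈ D i, ∀ y ∈ D i', polar Q x y = 0 :=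
    fun i i' hne x hx y hy => hD.decomp.orthogonal i i' hne x hx y hy
  have hvu : ∀ i, polar Q (v i) (u i) = 1 := fun i => by rw [polar_comm, huv]
  have pself : ∀ x : ι → F, polar Q x x = 0 := polar_self_zero (Q := Q) h2
  have Qadd : ∀ x y : ι → F, Q (x + y) = Q x + Q y + polar Q x y := QuadraticMap.map_add (⇑Q)
  -- the non-singular vectors of the blocks
  set a : Fin t → (ι → F) := fun i => u i + v i with ha
  have haD : ∀ i, a i ∈ D i := fun i => (D i).add_mem (huD i) (hvD i)
  have hQa : ∀ i, Q (a i) = 1 := by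
    intro i
    rw [ha, Qadd, hu, hv, huv]
    ring
  have hau : ∀ i, polar Q (a i) (u i) = 1 := by
    intro i
    simp only [ha, polar_add_left, pself, hvu, zero_add]
  have hav : ∀ i, polar Q (a i) (v i) = 1 := by
    intro i
    simp only [ha, polar_add_left, pself, huv, add_zero]
  have huniq : ∀ i, ∀ x ∈ D i, Q x = 1 → x = a i := by
    intro i x hx hQx
    obtain ⟨α, β, rfl⟩ := hsp i x hx
    rw [Q_hyp Q (hu i) (hv i) (huv i)] at hQx
    have hα : α = 1 := by
      apply f2_eq_one hq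
      rintro rfl
      rw [zero_mul] at hQx
      exact one_ne_zero hQx.symm
    have hβ : β = 1 := by
      apply f2_eq_one hq
      rintro rfl
      rw [mul_zero] at hQx
      exact one_ne_zero hQx.symm
    rw [hα, hβ, one_smul, one_smul]
  set vs : ι → F := ∑ i, a i with hvs
  have pvs : ∀ j, ∀ w ∈ D j, polar Q vs w = polar Q (a j) w := by
    intro j w hw
    rw [hvs, polar_sum_left']
    apply Finset.sum_eq_single j
    · intro i _ hne
      exact horth i j hne _ (haD i) _ hw
    · intro h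
      exact absurd (Finset.mem_univ j) h
  -- invariance
  have hinv : ∀ g ∈ Cfsg.Geo.decompositionStabilizer D ⊓ Cfsg.Geo.omegaGL (⇑Q),
      ∀ x ∈ ({vs} : Set (ι → F)), (g : Matrix ι ι F) *ᵥ x ∈ ({vs} : Set (ι → F)) := by
    intro g hg x hx
    rw [Set.mem_singleton_iff] at hx ⊢
    subst hx
    obtain ⟨⟨σ, hσ⟩, hgΩ⟩ := Subgroup.mem_inf.mp hg
    have hgI := (mem_isometryGroup_iff Q g).mp (omegaGL_le_isometryGroup Q hgΩ)
    have himg : ∀ i, (g : Matrix ι ι F) *ᵥ a i = a (σ i) := by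
      intro i
      apply huniq
      · rw [← hσ i]
        exact ⟨a i, haD i, by rw [Matrix.toLin'_apply]⟩
      · rw [hgI, hQa]
    rw [hvs, Matrix.mulVec_sum]
    rw [Finset.sum_congr rfl fun i _ => himg i]
    exact Equiv.sum_comp σ a
  -- indices
  let i1 : Fin t := ⟨0, by omega⟩
  let i2 : Fin t := ⟨1, by omega⟩
  let i3 : Fin t := ⟨2, by omega⟩
  have n12 : i1 ≠ i2 := by simp [i1, i2, Fin.ext_iff]
  have n13 : i1 ≠ i3 := by simp [i1, i3, Fin.ext_iff]
  have n23 : i2 ≠ i3 := by simp [i2, i3, Fin.ext_iff]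
  have o12 : ∀ x ∈ D i1, ∀ y ∈ D i2, polar Q x y = 0 := horth i1 i2 n12
  have o13 : ∀ x ∈ D i1, ∀ y ∈ D i3, polar Q x y = 0 := horth i1 i3 n13
  have o23 : ∀ x ∈ D i2, ∀ y ∈ D i3, polar Q x y = 0 := horth i2 i3 n23
  have o21 : ∀ x ∈ D i2, ∀ y ∈ D i1, polar Q x y = 0 := horth i2 i1 n12.symm
  have o31 : ∀ x ∈ D i3, ∀ y ∈ D i1, polar Q x y = 0 := horth i3 i1 n13.symm
  have o32 : ∀ x ∈ D i3, ∀ y ∈ D i2, polar Q x y = 0 := horth i3 i2 n23.symm
  -- the element `g`
  have hQy : Q (u i1 + u i2 + a i3) = 1 := by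
    rw [Qadd, Qadd, hu, hu, hQa, o12 _ (huD _) _ (huD _), polar_add_left,
      o13 _ (huD _) _ (haD _), o23 _ (huD _) _ (haD _)]
    ring
  have hzy : polar Q (a i1) (u i1 + u i2 + a i3) = 1 := by
    rw [polar_add_right, polar_add_right, hau, o12 _ (haD _) _ (huD _), o13 _ (haD _) _ (haD _)]
    ring
  obtain ⟨g, hgΩ, hg, hginv⟩ := exists_rotGL Q hQ hcard h2 (a i1) (u i1 + u i2 + a i3) (hQa i1)
    hQy hzy
  have hgvs : rot Q (a i1) (u i1 + u i2 + a i3) vs = vs := by
    have e1 : polar Q vs (a i1) = 0 := by rw [pvs i1 _ (haD i1), pself]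
    have e2 : polar Q vs (u i1 + u i2 + a i3) = 0 := by
      rw [polar_add_right, polar_add_right, pvs i1 _ (huD i1), pvs i2 _ (huD i2),
        pvs i3 _ (haD i3), hau, hau, pself]
      linear_combination h2
    rw [rot_apply, e1, e2, zero_smul, zero_smul, add_zero, add_zero]
  -- the element `h`
  have hQy' : Q (u i1 + a i2) = 1 := by
    rw [Qadd, hu, hQa, o12 _ (huD _) _ (haD _)]
    ring
  have hzy' : polar Q (a i1) (u i1 + a i2) = 1 := by
    rw [polar_add_right, hau, o12 _ (haD _) _ (haD _)]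
    ring
  obtain ⟨h, hhΩ, hh, -⟩ := exists_rotGL Q hQ hcard h2 (a i1) (u i1 + a i2) (hQa i1) hQy' hzy'
  refine not_maximal_of_set Q D {vs} hinv g h hgΩ ?_ ?_ hhΩ ?_
  · apply mem_setStab_of
    · intro x hx
      rw [Set.mem_singleton_iff] at hx ⊢
      rw [hx, hg, hgvs]
    · intro x hx
      rw [Set.mem_singleton_iff] at hx ⊢
      rw [hx, hginv, hgvs, hgvs]
  · intro hcon
    obtain ⟨i', hi'⟩ := exists_block_of_stab D hcon i1 (haD i1)
    have himg : (g : Matrix ι ι F) *ᵥ a i1 = u i1 + u i2 + a i3 := by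
      rw [hg, rot_apply, hzy, pself, zero_smul, one_smul, add_zero]
      linear_combination (norm := module) h2 • a i1
    rw [himg] at hi'
    refine not_mem_block Q D horth _ n12 (v i1) (v i2) (hvD _) (hvD _) ?_ ?_ i' hi'
    · rw [polar_add_left, polar_add_left, huv, o21 _ (huD _) _ (hvD _), o31 _ (haD _) _ (hvD _)]
      simp
    · rw [polar_add_left, polar_add_left, huv, o12 _ (huD _) _ (hvD _), o32 _ (haD _) _ (hvD _)]
      simp
  · intro hcon
    have himg := mulVec_mem_of_mem_setStab hcon (Set.mem_singleton vs)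
    rw [Set.mem_singleton_iff, hh, rot_apply] at himg
    have e1 : polar Q vs (a i1) = 0 := by rw [pvs i1 _ (haD i1), pself]
    have e2 : polar Q vs (u i1 + a i2) = 1 := by
      rw [polar_add_right, pvs i1 _ (huD i1), pvs i2 _ (haD i2), hau, pself, add_zero]
    rw [e1, e2, zero_smul, one_smul, add_zero] at himg
    have h0 : a i1 + (u i1 + a i2) = 0 := by
      have := himg
      rwa [add_eq_left] at this
    have := congrArg (fun w => polar Q w (u i2)) h0
    simp only [polar_add_left, polar_zero_left, o12 _ (haD _) _ (huD _),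
      o12 _ (huD _) _ (huD _), hau] at this
    simp at this

end Cfsg.Agent.Lib.H24.Dn
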