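/-
EO project (even-dimensional orthogonal rows), phase 2, small-`q` class-2 exclusions, part b (helper24):
`q = 2`, decompositions into hyperbolic planes: the sum of the non-singular vectors of the blocks is fixed
(**E2a**).
-/
import Cfsg.Agent.Lib.H24.AschEO2C2a
import Cfsg.Agent.Lib.H24.DnD

set_option autoImplicit false

namespace Cfsg.Agent.Lib.H24.EOP2

open Cfsg Cfsg.Geo Module
open scoped MatrixGroups Matrix

variable {ι : Type} [Fintype ι] [DecidableEq ι] {F : Type*} [Field F] [Fintype F]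

theorem natCast_eq_zero_iff_even_f2 (hq : Fintype.card F = 2) (t : ℕ) : ((t : ℕ) : F) = 0 ↔ Even t := by
  have h2 : (2 : F) = 0 := Cfsg.Agent.Lib.H24.Tn.f2_two hq
  constructor
  · intro h
    by_contra hodd
    rw [Nat.not_even_iff_odd] at hodd
    obtain ⟨k, rfl⟩ := hodd
    push_cast at h
    rw [h2, zero_mul, zero_add] at h
    exact one_ne_zero h
  · rintro ⟨k, rfl⟩
    push_cast
    linear_combination (k : F) * h2

open Cfsg.Agent.Lib.H29.Orth Cfsg.Agent.Lib.H24.Dn Cfsg.Agent.Lib.H24.Tn in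
/-- **E2a**: `q = 2`, planes of plus type: the sum of the non-singular vectors of the blocks is fixed. -/
theorem c2_plus_q2 (hq : Fintype.card F = 2) {Q : (ι → F) → F} (hQ : IsNondegenerateQuadraticForm Q)
    {t : ℕ} (D : Fin t → Submodule F (ι → F)) (hD : IsOrthogonalMDecomposition Q 2 D)
    (hplus : ∀ i, IsPlusTypeOn Q (D i)) :
    ∃ v : ι → F, v ≠ 0 ∧ Q v = (t : F) ∧
      decompositionStabilizer D ⊓ isometryGroup F Q ≤ subspaceStabilizer (Submodule.span F {v}) := by
  classical
  have h2 := f2_two (F := F) hq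
  obtain ⟨u, v, huD, hvD, hu, hv, huv, hsp⟩ := exists_hyp_bases (toQF Q hQ) D hD hplus
  have hform : ∀ i (α β : F), Q (α • u i + β • v i) = α * β :=
    fun i α β => Q_hyp (toQF Q hQ) (hu i) (hv i) (huv i) α β
  set a : Fin t → (ι → F) := fun i => u i + v i with ha
  have haD : ∀ i, a i ∈ D i := fun i => (D i).add_mem (huD i) (hvD i)
  have hQa : ∀ i, Q (a i) = 1 := by
    intro i
    have := hform i 1 1
    rw [one_smul, one_smul, one_mul] at this
    exact this
  have huniq : ∀ i, ∀ x ∈ D i, Q x = 1 → x = a i := by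
    intro i x hx hQx
    obtain ⟨α, β, rfl⟩ := hsp i x hx
    rw [hform] at hQx
    have hα : α = 1 := by
      apply f2_eq_one hq
      rintro rfl
      rw [zero_mul] at hQx
      exact one_ne_zero hQx.symm
    have hβ : β = 1 := by
      apply f2_eq_one hq
      rintro rfl
      rw [mul_zero] at hQx
      exact one_ne_zero hQx.symm
    rw [hα, hβ, one_smul, one_smul]
  set vs : ι → F := ∑ i, a i with hvs
  have horth : ∀ i ∈ (Finset.univ : Finset (Fin t)), ∀ j ∈ (Finset.univ : Finset (Fin t)), i ≠ j →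
      QuadraticMap.polar Q (a i) (a j) = 0 :=
    fun i _ j _ hij => hD.decomp.orthogonal i j hij _ (haD i) _ (haD j)
  have hQvs : Q vs = (t : F) := by
    have := quad_sum_orth hQ Finset.univ a (fun _ => (1 : F)) horth
    simp only [one_smul, one_pow, one_mul, hQa, Finset.sum_const, Finset.card_univ, Fintype.card_fin,
      nsmul_eq_mul, mul_one] at this
    exact this
  have hfix : ∀ g ∈ decompositionStabilizer D ⊓ isometryGroup F Q, (g : Matrix ι ι F) *ᵥ vs = vs := by
    intro g hg
    obtain ⟨⟨σ, hσ⟩, hgI⟩ := Subgroup.mem_inf.mp hg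
    have hgQ := (Cfsg.Agent.Lib.H24.Asch.mem_isometryGroup_iff Q g).1 hgI
    have himg : ∀ i, (g : Matrix ι ι F) *ᵥ a i = a (σ i) := by
      intro i
      apply huniq
      · rw [← hσ i]
        exact ⟨a i, haD i, by rw [Matrix.toLin'_apply]⟩
      · rw [hgQ, hQa]
    rw [hvs, Matrix.mulVec_sum]
    rw [Finset.sum_congr rfl fun i _ => himg i]
    exact Equiv.sum_comp σ a
  have hvs0 : vs ≠ 0 := by
    intro h0
    have ht : 2 ≤ t := hD.decomp.decomp.two_le
    have := (iSupIndep_iff_finsetSum_eq_zero_imp_eq_zero D).mp hD.decomp.decomp.indep Finset.univ a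
      (fun i _ => haD i) h0 ⟨0, by omega⟩ (Finset.mem_univ _)
    have h1 := hQa ⟨0, by omega⟩
    rw [this, quad_zero hQ] at h1
    exact zero_ne_one h1
  refine ⟨vs, hvs0, hQvs, ?_⟩
  intro g hg
  have hginv : g⁻¹ ∈ decompositionStabilizer D ⊓ isometryGroup F Q := Subgroup.inv_mem _ hg
  refine mem_subspaceStabilizer_of _ g ?_ ?_
  · intro x hx
    obtain ⟨l, rfl⟩ := Submodule.mem_span_singleton.1 hx
    rw [Matrix.mulVec_smul, hfix g hg]
    exact Submodule.smul_mem _ _ (Submodule.mem_span_singleton_self _)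
  · intro x hx
    obtain ⟨l, rfl⟩ := Submodule.mem_span_singleton.1 hx
    rw [Matrix.mulVec_smul, hfix g⁻¹ hginv]
    exact Submodule.smul_mem _ _ (Submodule.mem_span_singleton_self _)

end Cfsg.Agent.Lib.H24.EOP2
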