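/-
EO project (even-dimensional orthogonal rows), phase 2, small-`q` class-2 exclusions, part c (helper24):
orthogonal families of non-singular vectors: independence, spans, isometries between spans.
-/
import Cfsg.Agent.Lib.H24.AschEO2C2a

set_option autoImplicit false

namespace Cfsg.Agent.Lib.H24.EOP2

open Cfsg Cfsg.Geo Module
open scoped MatrixGroups Matrix

variable {ι : Type} [Fintype ι] [DecidableEq ι] {F : Type*} [Field F]

/-- `f · y` as a linear functional. -/
def leftLin {f : (ι → F) → (ι → F) → F} (hf : IsBilinearForm f) (y : ι → F) : (ι → F) →ₗ[F] F where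
  toFun x := f x y
  map_add' a b := hf.add_left a b y
  map_smul' c x := by simp [hf.smul_left]

theorem polar_sum_right {Q : (ι → F) → F} (hQ : IsNondegenerateQuadraticForm Q) {κ : Type*} (s : Finset κ)
    (x : ι → F) (w : κ → (ι → F)) :
    QuadraticMap.polar Q x (∑ i ∈ s, w i) = ∑ i ∈ s, QuadraticMap.polar Q x (w i) :=
  map_sum (rightLin hQ.polar_bilinear x) w s

theorem polar_sum_left {Q : (ι → F) → F} (hQ : IsNondegenerateQuadraticForm Q) {κ : Type*} (s : Finset κ)
    (x : ι → F) (w : κ → (ι → F)) :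
    QuadraticMap.polar Q (∑ i ∈ s, w i) x = ∑ i ∈ s, QuadraticMap.polar Q (w i) x :=
  map_sum (leftLin hQ.polar_bilinear x) w s

theorem polar_comb_right {Q : (ι → F) → F} (hQ : IsNondegenerateQuadraticForm Q) {κ : Type*} [Fintype κ]
    [DecidableEq κ] (w : κ → (ι → F)) (horth : ∀ i j, i ≠ j → QuadraticMap.polar Q (w i) (w j) = 0)
    (c : κ → F) (j : κ) :
    QuadraticMap.polar Q (w j) (∑ i, c i • w i) = c j * (2 * Q (w j)) := by
  rw [polar_sum_right hQ, Finset.sum_eq_single j]
  · rw [hQ.polar_bilinear.smul_right, polar_self_eq hQ]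
  · intro i _ hij
    rw [hQ.polar_bilinear.smul_right, horth j i (Ne.symm hij), mul_zero]
  · intro h
    exact absurd (Finset.mem_univ j) h

/-- pairwise orthogonal non-singular vectors are linearly independent (`2 ≠ 0`) -/
theorem linearIndependent_of_orth {Q : (ι → F) → F} (hQ : IsNondegenerateQuadraticForm Q) (h2 : (2 : F) ≠ 0)
    {κ : Type*} [Fintype κ] [DecidableEq κ] (w : κ → (ι → F)) (hw : ∀ i, Q (w i) ≠ 0)
    (horth : ∀ i j, i ≠ j → QuadraticMap.polar Q (w i) (w j) = 0) : LinearIndependent F w := by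
  rw [Fintype.linearIndependent_iff]
  intro c hc j
  have h1 := polar_comb_right hQ w horth c j
  rw [hc] at h1
  have h0 : QuadraticMap.polar Q (w j) 0 = 0 := by
    have := hQ.polar_bilinear.smul_right 0 (w j) 0
    rw [zero_smul, zero_mul] at this
    exact this
  rw [h0] at h1
  rcases mul_eq_zero.1 h1.symm with h | h
  · exact h
  · exact absurd h (mul_ne_zero h2 (hw j))

theorem finrank_span_range_of_orth {Q : (ι → F) → F} (hQ : IsNondegenerateQuadraticForm Q)
    (h2 : (2 : F) ≠ 0) {t : ℕ} (w : Fin t → (ι → F)) (hw : ∀ i, Q (w i) ≠ 0)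
    (horth : ∀ i j, i ≠ j → QuadraticMap.polar Q (w i) (w j) = 0) :
    finrank F (Submodule.span F (Set.range w)) = t := by
  rw [finrank_span_eq_card (linearIndependent_of_orth hQ h2 w hw horth), Fintype.card_fin]

/-- the span of an orthogonal family of non-singular vectors is non-degenerate -/
theorem nondegenerateOn_span_of_orth {Q : (ι → F) → F} (hQ : IsNondegenerateQuadraticForm Q)
    (h2 : (2 : F) ≠ 0) {t : ℕ} (w : Fin t → (ι → F)) (hw : ∀ i, Q (w i) ≠ 0)
    (horth : ∀ i j, i ≠ j → QuadraticMap.polar Q (w i) (w j) = 0) :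
    IsNondegenerateOn (QuadraticMap.polar Q) (Submodule.span F (Set.range w)) := by
  intro x hx hx0
  obtain ⟨c, rfl⟩ := (Submodule.mem_span_range_iff_exists_fun F).1 hx
  obtain ⟨j, hj⟩ : ∃ j, c j ≠ 0 := by
    by_contra hcon
    push Not at hcon
    apply hx0
    simp [hcon]
  have h1 := polar_comb_right hQ w horth c j
  have hne : QuadraticMap.polar Q (w j) (∑ i, c i • w i) ≠ 0 := by
    rw [h1]
    exact mul_ne_zero hj (mul_ne_zero h2 (hw j))
  have hmem : w j ∈ Submodule.span F (Set.range w) := Submodule.subset_span ⟨j, rfl⟩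
  refine ⟨⟨w j, hmem, hne⟩, ⟨w j, hmem, ?_⟩⟩
  rw [QuadraticMap.polar_comm]
  exact hne

/-- spans of two orthogonal families with the same norms are isometric -/
theorem areIsometricFor_span_of_orth {Q : (ι → F) → F} (hQ : IsNondegenerateQuadraticForm Q)
    (h2 : (2 : F) ≠ 0) {t : ℕ} (w w' : Fin t → (ι → F)) (hw : ∀ i, Q (w i) ≠ 0)
    (horth : ∀ i j, i ≠ j → QuadraticMap.polar Q (w i) (w j) = 0)
    (horth' : ∀ i j, i ≠ j → QuadraticMap.polar Q (w' i) (w' j) = 0)
    (hnorm : ∀ i, Q (w' i) = Q (w i)) :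
    AreIsometricFor Q (Submodule.span F (Set.range w)) (Submodule.span F (Set.range w')) := by
  have hw' : ∀ i, Q (w' i) ≠ 0 := fun i => by rw [hnorm]; exact hw i
  set b := Basis.span (linearIndependent_of_orth hQ h2 w hw horth) with hb
  set b' := Basis.span (linearIndependent_of_orth hQ h2 w' hw' horth') with hb'
  refine ⟨b.equiv b' (Equiv.refl _), fun x => ?_⟩
  have hx : (x : ι → F) = ∑ i, b.repr x i • w i := by
    conv_lhs => rw [← b.sum_repr x]
    rw [Submodule.coe_sum]
    refine Finset.sum_congr rfl fun i _ => ?_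
    rw [Submodule.coe_smul, hb, Basis.span_apply]
  have hex : ((b.equiv b' (Equiv.refl _) x : Submodule.span F (Set.range w')) : ι → F) =
      ∑ i, b.repr x i • w' i := by
    conv_lhs => rw [← b.sum_repr x]
    rw [map_sum, Submodule.coe_sum]
    refine Finset.sum_congr rfl fun i _ => ?_
    rw [map_smul, Basis.equiv_apply, Equiv.refl_apply, Submodule.coe_smul, hb', Basis.span_apply]
  rw [hex, hx, quad_sum_orth hQ _ _ _ (fun i _ j _ hij => horth' i j hij),
    quad_sum_orth hQ _ _ _ (fun i _ j _ hij => horth i j hij)]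
  exact Finset.sum_congr rfl fun i _ => by rw [hnorm]

/-- an invertible matrix mapping a subspace into itself maps it onto itself -/
theorem map_eq_of_forall_mem (g : GL ι F) (W : Submodule F (ι → F))
    (h : ∀ x ∈ W, (g : Matrix ι ι F) *ᵥ x ∈ W) : W.map (Matrix.toLin' (g : Matrix ι ι F)) = W := by
  apply Submodule.eq_of_le_of_finrank_eq
  · rintro _ ⟨x, hx, rfl⟩
    rw [Matrix.toLin'_apply]
    exact h x hx
  · exact (LinearEquiv.finrank_eq (Submodule.equivMapOfInjective _ (toLin'_gl_injective g) W)).symm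

end Cfsg.Agent.Lib.H24.EOP2
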