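/-
EO project (even-dimensional orthogonal rows), phase 2, small-`q` class-2 exclusions, part d (helper24):
`q = 3`, decompositions into hyperbolic planes (**E2b**): the lines of norm `1` and the lines of norm `-1` span two
complementary non-degenerate subspaces; they are isometric iff the number of blocks is even.
-/
import Cfsg.Agent.Lib.H24.AschEO2C2c

set_option autoImplicit false

namespace Cfsg.Agent.Lib.H24.EOP2

open Cfsg Cfsg.Geo Module
open scoped MatrixGroups Matrix

variable {ι : Type} [Fintype ι] [DecidableEq ι] {F : Type*} [Field F] [Fintype F]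

/-- `q = 3`: the orthogonal sum of `2s` lines of norm `1` is isometric to the orthogonal sum of `2s` lines of norm
`-1`. -/
theorem areIsometricFor_even_f3 (hq : Fintype.card F = 3) {Q : (ι → F) → F}
    (hQ : IsNondegenerateQuadraticForm Q) {s : ℕ} (p m : Fin (s + s) → (ι → F))
    (hp : ∀ i, Q (p i) = 1) (hm : ∀ i, Q (m i) = -1)
    (horthp : ∀ i j, i ≠ j → QuadraticMap.polar Q (p i) (p j) = 0)
    (horthm : ∀ i j, i ≠ j → QuadraticMap.polar Q (m i) (m j) = 0) :
    AreIsometricFor Q (Submodule.span F (Set.range p)) (Submodule.span F (Set.range m)) := by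
  have h3 : (3 : F) = 0 := Cfsg.Agent.Lib.H29.Orth.f3_three hq
  have h2 : (2 : F) ≠ 0 := Cfsg.Agent.Lib.H29.Orth.f3_two_ne hq
  have hpb := hQ.polar_bilinear
  have hG : ∀ x y, QuadraticMap.polar Q (m x) (m y) = if x = y then -2 else 0 := by
    intro x y
    split_ifs with h
    · subst h; rw [polar_self_eq hQ, hm]; ring
    · exact horthm x y h
  -- the general vector `m x + ε • m y`
  have hQgen : ∀ (x y : Fin (s + s)) (ε : F), x ≠ y → ε ^ 2 = 1 → Q (m x + ε • m y) = 1 := by
    intro x y ε hxy hε
    rw [quad_add (Q := Q), hQ.smul, hε, hm, hm, hpb.smul_right, horthm x y hxy]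
    linear_combination -h3
  have hPgen : ∀ (x y x' y' : Fin (s + s)) (ε ε' : F),
      QuadraticMap.polar Q (m x + ε • m y) (m x' + ε' • m y') =
        (if x = x' then -2 else 0) + ε' * (if x = y' then -2 else 0) + ε * (if y = x' then -2 else 0) +
          ε * ε' * (if y = y' then -2 else 0) := by
    intro x y x' y' ε ε'
    simp only [hpb.add_left, hpb.add_right, hpb.smul_left, hpb.smul_right, hG]
    ring
  have hne : ∀ j j' : Fin s, Fin.castAdd s j ≠ Fin.natAdd s j' := by
    intro j j' h
    have := congrArg Fin.val h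
    simp at this
    omega
  have hcc : ∀ j j' : Fin s, j ≠ j' → Fin.castAdd s j ≠ Fin.castAdd s j' :=
    fun j j' h h' => h (Fin.castAdd_injective _ _ h')
  have hnn : ∀ j j' : Fin s, j ≠ j' → Fin.natAdd s j ≠ Fin.natAdd s j' :=
    fun j j' h h' => h (Fin.natAdd_injective _ _ h')
  set c : Fin (s + s) → (ι → F) := fun a =>
    Fin.addCases (motive := fun _ => ι → F) (fun j => m (Fin.castAdd s j) + (1 : F) • m (Fin.natAdd s j))
      (fun j => m (Fin.castAdd s j) + (-1 : F) • m (Fin.natAdd s j)) a with hc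
  have hcl : ∀ j, c (Fin.castAdd s j) = m (Fin.castAdd s j) + (1 : F) • m (Fin.natAdd s j) :=
    fun j => by simp only [hc, Fin.addCases_left]
  have hcr : ∀ j, c (Fin.natAdd s j) = m (Fin.castAdd s j) + (-1 : F) • m (Fin.natAdd s j) :=
    fun j => by simp only [hc, Fin.addCases_right]
  have hQc : ∀ a, Q (c a) = 1 := by
    intro a
    refine Fin.addCases (fun j => ?_) (fun j => ?_) a
    · rw [hcl]; exact hQgen _ _ _ (hne j j) (by ring)
    · rw [hcr]; exact hQgen _ _ _ (hne j j) (by ring)
  have horthc : ∀ a b, a ≠ b → QuadraticMap.polar Q (c a) (c b) = 0 := by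
    intro a b
    refine Fin.addCases (fun j => ?_) (fun j => ?_) a <;> refine Fin.addCases (fun j' => ?_) (fun j' => ?_) b
    · intro hab
      have hjj : j ≠ j' := fun h => hab (by rw [h])
      rw [hcl, hcl, hPgen, if_neg (hcc j j' hjj), if_neg (hne j j'), if_neg (Ne.symm (hne j' j)),
        if_neg (hnn j j' hjj)]
      ring
    · intro _
      rw [hcl, hcr, hPgen]
      by_cases hjj : j = j'
      · subst hjj
        rw [if_pos rfl, if_neg (hne j j), if_neg (Ne.symm (hne j j)), if_pos rfl]
        ring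
      · rw [if_neg (hcc j j' hjj), if_neg (hne j j'), if_neg (Ne.symm (hne j' j)), if_neg (hnn j j' hjj)]
        ring
    · intro _
      rw [hcr, hcl, hPgen]
      by_cases hjj : j = j'
      · subst hjj
        rw [if_pos rfl, if_neg (hne j j), if_neg (Ne.symm (hne j j)), if_pos rfl]
        ring
      · rw [if_neg (hcc j j' hjj), if_neg (hne j j'), if_neg (Ne.symm (hne j' j)), if_neg (hnn j j' hjj)]
        ring
    · intro hab
      have hjj : j ≠ j' := fun h => hab (by rw [h])
      rw [hcr, hcr, hPgen, if_neg (hcc j j' hjj), if_neg (hne j j'), if_neg (Ne.symm (hne j' j)),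
        if_neg (hnn j j' hjj)]
      ring
  have hcm : ∀ a, c a ∈ Submodule.span F (Set.range m) := by
    intro a
    refine Fin.addCases (fun j => ?_) (fun j => ?_) a
    · rw [hcl]
      exact Submodule.add_mem _ (Submodule.subset_span ⟨_, rfl⟩)
        (Submodule.smul_mem _ _ (Submodule.subset_span ⟨_, rfl⟩))
    · rw [hcr]
      exact Submodule.add_mem _ (Submodule.subset_span ⟨_, rfl⟩)
        (Submodule.smul_mem _ _ (Submodule.subset_span ⟨_, rfl⟩))
  have hQc0 : ∀ a, Q (c a) ≠ 0 := fun a => by rw [hQc]; exact one_ne_zero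
  have hQm0 : ∀ a, Q (m a) ≠ 0 := fun a => by rw [hm]; exact neg_ne_zero.2 one_ne_zero
  have hQp0 : ∀ a, Q (p a) ≠ 0 := fun a => by rw [hp]; exact one_ne_zero
  have hspan : Submodule.span F (Set.range c) = Submodule.span F (Set.range m) := by
    apply Submodule.eq_of_le_of_finrank_eq
    · rw [Submodule.span_le]
      rintro _ ⟨a, rfl⟩
      exact hcm a
    · rw [finrank_span_range_of_orth hQ h2 c hQc0 horthc, finrank_span_range_of_orth hQ h2 m hQm0 horthm]
  rw [← hspan]
  exact areIsometricFor_span_of_orth hQ h2 p c hQp0 horthp horthc (fun a => by rw [hQc, hp])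

/-- an isometry between subspaces preserves the polar form -/
theorem polar_of_isometric {Q : (ι → F) → F} {W W' : Submodule F (ι → F)} (e : W ≃ₗ[F] W')
    (he : ∀ w : W, Q ((e w : W') : ι → F) = Q (w : ι → F)) (x y : W) :
    QuadraticMap.polar Q ((e x : W') : ι → F) ((e y : W') : ι → F) =
      QuadraticMap.polar Q (x : ι → F) (y : ι → F) := by
  unfold QuadraticMap.polar
  rw [← Submodule.coe_add, ← map_add, he, he, he, Submodule.coe_add]

/-- `q = 3`: the orthogonal sum of an odd number `t` of lines of norm `1` is not isometric to the orthogonal sum of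
`t` lines of norm `-1`. -/
theorem not_areIsometricFor_odd_f3 (hq : Fintype.card F = 3) {Q : (ι → F) → F}
    (hQ : IsNondegenerateQuadraticForm Q) {t : ℕ} (ht : Odd t) (p m : Fin t → (ι → F))
    (hp : ∀ i, Q (p i) = 1) (hm : ∀ i, Q (m i) = -1)
    (horthp : ∀ i j, i ≠ j → QuadraticMap.polar Q (p i) (p j) = 0)
    (horthm : ∀ i j, i ≠ j → QuadraticMap.polar Q (m i) (m j) = 0) :
    ¬ AreIsometricFor Q (Submodule.span F (Set.range p)) (Submodule.span F (Set.range m)) := by
  have h3 : (3 : F) = 0 := Cfsg.Agent.Lib.H29.Orth.f3_three hq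
  have h2 : (2 : F) ≠ 0 := Cfsg.Agent.Lib.H29.Orth.f3_two_ne hq
  have hpb := hQ.polar_bilinear
  rintro ⟨e, he⟩
  have hpmem : ∀ i, p i ∈ Submodule.span F (Set.range p) := fun i => Submodule.subset_span ⟨i, rfl⟩
  have hex : ∀ i, ∃ c : Fin t → F, ∑ j, c j • m j =
      ((e ⟨p i, hpmem i⟩ : Submodule.span F (Set.range m)) : ι → F) :=
    fun i => (Submodule.mem_span_range_iff_exists_fun F).1 (e ⟨p i, hpmem i⟩).2
  choose A hA using hex
  have hrel : ∀ i k, ∑ j, A i j * A k j = if i = k then -1 else 0 := by
    intro i k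
    have h1 := polar_of_isometric e he ⟨p i, hpmem i⟩ ⟨p k, hpmem k⟩
    rw [← hA i, ← hA k] at h1
    simp only [] at h1
    rw [polar_sum_left hQ] at h1
    have h4 : ∀ j, QuadraticMap.polar Q (A i j • m j) (∑ l, A k l • m l) = A i j * (A k j * (2 * (-1))) := by
      intro j
      rw [hpb.smul_left, polar_comb_right hQ m horthm (A k) j, hm]
    rw [Finset.sum_congr rfl (fun j _ => h4 j)] at h1
    have h5 : ∑ j, A i j * (A k j * (2 * (-1))) = (∑ j, A i j * A k j) * (-2) := by
      rw [Finset.sum_mul]
      exact Finset.sum_congr rfl fun j _ => by ring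
    rw [h5] at h1
    by_cases hik : i = k
    · subst hik
      rw [if_pos rfl]
      rw [polar_self_eq hQ, hp] at h1
      have h6 : ((∑ j, A i j * A i j) + 1) * (-2) = 0 := by linear_combination h1
      rcases mul_eq_zero.1 h6 with h | h
      · linear_combination h
      · exact absurd (neg_eq_zero.1 h) h2
    · rw [if_neg hik]
      rw [horthp i k hik] at h1
      rcases mul_eq_zero.1 h1 with h | h
      · exact h
      · exact absurd (neg_eq_zero.1 h) h2
  set M : Matrix (Fin t) (Fin t) F := Matrix.of A with hM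
  have hMM : M * M.transpose = -1 := by
    ext i k
    rw [Matrix.mul_apply, Matrix.neg_apply, Matrix.one_apply]
    simp only [hM, Matrix.transpose_apply, Matrix.of_apply]
    rw [hrel]
    split_ifs <;> simp
  have hdet : M.det * M.det = -1 := by
    have := congrArg Matrix.det hMM
    rw [Matrix.det_mul, Matrix.det_transpose, Matrix.det_neg, Matrix.det_one, Fintype.card_fin,
      ht.neg_one_pow, mul_one] at this
    exact this
  rcases Cfsg.Agent.Lib.H29.Orth.f3_cases hq M.det with h | h | h
  · rw [h, mul_zero] at hdet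
    exact one_ne_zero (neg_eq_zero.1 hdet.symm)
  · rw [h, mul_one] at hdet
    apply h2
    linear_combination hdet
  · rw [h] at hdet
    apply h2
    linear_combination hdet

theorem areIsometricFor_refl {Q : (ι → F) → F} (W : Submodule F (ι → F)) : AreIsometricFor Q W W :=
  ⟨LinearEquiv.refl F W, fun _ => rfl⟩

theorem areIsometricFor_symm {Q : (ι → F) → F} {W W' : Submodule F (ι → F)} (h : AreIsometricFor Q W W') :
    AreIsometricFor Q W' W := by
  obtain ⟨e, he⟩ := h
  refine ⟨e.symm, fun w => ?_⟩
  have := he (e.symm w)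
  rw [LinearEquiv.apply_symm_apply] at this
  exact this.symm

open Cfsg.Agent.Lib.H29.Orth Cfsg.Agent.Lib.H24.Dn in
/-- **E2b**: `q = 3`, planes of plus type. -/
theorem c2_plus_q3 (hq : Fintype.card F = 3) {Q : (ι → F) → F} (hQ : IsNondegenerateQuadraticForm Q)
    {t : ℕ} (D : Fin t → Submodule F (ι → F)) (hD : IsOrthogonalMDecomposition Q 2 D)
    (hplus : ∀ i, IsPlusTypeOn Q (D i)) :
    ∃ D2 : Fin 2 → Submodule F (ι → F), IsNondegenerateMDecomposition (QuadraticMap.polar Q) t D2 ∧
      decompositionStabilizer D ⊓ isometryGroup F Q ≤ decompositionStabilizer D2 ∧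
      (Even t → IsOrthogonalMDecomposition Q t D2) ∧ (Odd t → ¬ AreIsometricFor Q (D2 0) (D2 1)) := by
  classical
  have h3 : (3 : F) = 0 := f3_three hq
  have h2 : (2 : F) ≠ 0 := f3_two_ne hq
  have hpb := hQ.polar_bilinear
  have ht : 2 ≤ t := hD.decomp.decomp.two_le
  have hcard : t * 2 = Fintype.card ι := card_eq_of_isMDecomposition hD.decomp.decomp
  obtain ⟨u, v, huD, hvD, hu, hv, huv, hsp⟩ := exists_hyp_bases (toQF Q hQ) D hD hplus
  have hform : ∀ i (α β : F), Q (α • u i + β • v i) = α * β :=
    fun i α β => Q_hyp (toQF Q hQ) (hu i) (hv i) (huv i) α β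
  have hpol : ∀ i (α β α' β' : F),
      QuadraticMap.polar Q (α • u i + β • v i) (α' • u i + β' • v i) = α * β' + β * α' :=
    fun i α β α' β' => polar_hyp (toQF Q hQ) (hu i) (hv i) (huv i) α β α' β'
  set p : Fin t → (ι → F) := fun i => (1 : F) • u i + (1 : F) • v i with hp
  set m : Fin t → (ι → F) := fun i => (1 : F) • u i + (-1 : F) • v i with hm
  have hpD : ∀ i, p i ∈ D i := fun i => (D i).add_mem ((D i).smul_mem _ (huD i)) ((D i).smul_mem _ (hvD i))
  have hmD : ∀ i, m i ∈ D i := fun i => (D i).add_mem ((D i).smul_mem _ (huD i)) ((D i).smul_mem _ (hvD i))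
  have hQp : ∀ i, Q (p i) = 1 := fun i => by simp only [hp]; rw [hform]; ring
  have hQm : ∀ i, Q (m i) = -1 := fun i => by simp only [hm]; rw [hform]; ring
  have hQp0 : ∀ i, Q (p i) ≠ 0 := fun i => by rw [hQp]; exact one_ne_zero
  have hQm0 : ∀ i, Q (m i) ≠ 0 := fun i => by rw [hQm]; exact neg_ne_zero.2 one_ne_zero
  have horthp : ∀ i j, i ≠ j → QuadraticMap.polar Q (p i) (p j) = 0 :=
    fun i j hij => hD.decomp.orthogonal i j hij _ (hpD i) _ (hpD j)
  have horthm : ∀ i j, i ≠ j → QuadraticMap.polar Q (m i) (m j) = 0 :=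
    fun i j hij => hD.decomp.orthogonal i j hij _ (hmD i) _ (hmD j)
  have hpm : ∀ i j, QuadraticMap.polar Q (p i) (m j) = 0 := by
    intro i j
    by_cases hij : i = j
    · subst hij
      simp only [hp, hm]
      rw [hpol]; ring
    · exact hD.decomp.orthogonal i j hij _ (hpD i) _ (hmD j)
  have hnormp : ∀ i, ∀ x ∈ D i, Q x = 1 → x = p i ∨ x = -p i := by
    intro i x hx hQx
    obtain ⟨α, β, rfl⟩ := hsp i x hx
    rw [hform] at hQx
    rcases f3_cases hq α with rfl | rfl | rfl
    · rw [zero_mul] at hQx; exact absurd hQx.symm one_ne_zero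
    · left
      have : β = 1 := by linear_combination hQx
      rw [this]
    · right
      have : β = -1 := by linear_combination -hQx
      rw [this]
      simp only [hp]
      rw [neg_add, ← neg_smul, ← neg_smul]
  have hnormm : ∀ i, ∀ x ∈ D i, Q x = -1 → x = m i ∨ x = -m i := by
    intro i x hx hQx
    obtain ⟨α, β, rfl⟩ := hsp i x hx
    rw [hform] at hQx
    rcases f3_cases hq α with rfl | rfl | rfl
    · rw [zero_mul] at hQx
      exact absurd (neg_eq_zero.1 hQx.symm) one_ne_zero
    · left
      have : β = -1 := by linear_combination hQx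
      rw [this]
    · right
      have : β = 1 := by linear_combination -hQx
      rw [this]
      simp only [hm]
      rw [neg_add, ← neg_smul, ← neg_smul, neg_neg]
  set Wp : Submodule F (ι → F) := Submodule.span F (Set.range p) with hWp
  set Wm : Submodule F (ι → F) := Submodule.span F (Set.range m) with hWm
  set D2 : Fin 2 → Submodule F (ι → F) := ![Wp, Wm] with hD2
  have hD20 : D2 0 = Wp := rfl
  have hD21 : D2 1 = Wm := rfl
  have horthW : AreOrthogonalFor (QuadraticMap.polar Q) Wp Wm := by
    intro x hx y hy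
    obtain ⟨c, rfl⟩ := (Submodule.mem_span_range_iff_exists_fun F).1 hx
    obtain ⟨d, rfl⟩ := (Submodule.mem_span_range_iff_exists_fun F).1 hy
    rw [polar_sum_left hQ]
    refine Finset.sum_eq_zero fun i _ => ?_
    rw [polar_sum_right hQ]
    refine Finset.sum_eq_zero fun j _ => ?_
    rw [hpb.smul_left, hpb.smul_right, hpm, mul_zero, mul_zero]
  have horthW' : AreOrthogonalFor (QuadraticMap.polar Q) Wm Wp := by
    intro x hx y hy
    rw [QuadraticMap.polar_comm]
    exact horthW y hy x hx
  have hdec : IsNondegenerateMDecomposition (QuadraticMap.polar Q) t D2 := by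
    refine isNondegenerateMDecomposition_of_orthogonal hpb le_rfl (by omega) D2 ?_
      (by rw [mul_comm]; exact hcard) ?_ ?_
    · intro a
      fin_cases a
      · exact finrank_span_range_of_orth hQ h2 p hQp0 horthp
      · exact finrank_span_range_of_orth hQ h2 m hQm0 horthm
    · intro a
      fin_cases a
      · exact nondegenerateOn_span_of_orth hQ h2 p hQp0 horthp
      · exact nondegenerateOn_span_of_orth hQ h2 m hQm0 horthm
    · intro a b hab
      fin_cases a <;> fin_cases b
      · exact absurd rfl hab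
      · exact horthW
      · exact horthW'
      · exact absurd rfl hab
  refine ⟨D2, hdec, ?_, ?_, ?_⟩
  · intro g hg
    have hgp : ∀ x ∈ Wp, (g : Matrix ι ι F) *ᵥ x ∈ Wp := by
      intro x hx
      obtain ⟨c, rfl⟩ := (Submodule.mem_span_range_iff_exists_fun F).1 hx
      rw [Matrix.mulVec_sum]
      refine Submodule.sum_mem _ fun i _ => ?_
      rw [Matrix.mulVec_smul]
      refine Submodule.smul_mem _ _ ?_
      obtain ⟨i', hi', hQ'⟩ := exists_block_of_mem D hg i (hpD i)
      rw [hQp] at hQ'
      rcases hnormp i' _ hi' hQ' with h | h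
      · rw [h]; exact Submodule.subset_span ⟨i', rfl⟩
      · rw [h]; exact Submodule.neg_mem _ (Submodule.subset_span ⟨i', rfl⟩)
    have hgm : ∀ x ∈ Wm, (g : Matrix ι ι F) *ᵥ x ∈ Wm := by
      intro x hx
      obtain ⟨c, rfl⟩ := (Submodule.mem_span_range_iff_exists_fun F).1 hx
      rw [Matrix.mulVec_sum]
      refine Submodule.sum_mem _ fun i _ => ?_
      rw [Matrix.mulVec_smul]
      refine Submodule.smul_mem _ _ ?_
      obtain ⟨i', hi', hQ'⟩ := exists_block_of_mem D hg i (hmD i)
      rw [hQm] at hQ'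
      rcases hnormm i' _ hi' hQ' with h | h
      · rw [h]; exact Submodule.subset_span ⟨i', rfl⟩
      · rw [h]; exact Submodule.neg_mem _ (Submodule.subset_span ⟨i', rfl⟩)
    refine ⟨1, fun a => ?_⟩
    fin_cases a
    · exact map_eq_of_forall_mem g Wp hgp
    · exact map_eq_of_forall_mem g Wm hgm
  · rintro ⟨s, rfl⟩
    have hiso := areIsometricFor_even_f3 hq hQ p m hQp hQm horthp horthm
    refine ⟨hdec, fun a b => ?_⟩
    fin_cases a <;> fin_cases b
    · exact areIsometricFor_refl _
    · exact hiso
    · exact areIsometricFor_symm hiso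
    · exact areIsometricFor_refl _
  · intro hodd
    exact not_areIsometricFor_odd_f3 hq hQ hodd p m hQp hQm horthp horthm

end Cfsg.Agent.Lib.H24.EOP2
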