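import Mathlib
import Cfsg.Agent.Lib.H24.DnD

set_option autoImplicit false
set_option linter.unusedSectionVars false

/-!
# Decompositions into hyperbolic planes over the field with four elements (helper24)

The intermediate subgroup is the stabiliser in `Ω` of the additive group generated by the vectors
of norm one of the blocks (a form of the space over the field with two elements).
-/

namespace Cfsg.Agent.Lib.H24.Dn

open Module Matrix QuadraticMap
open Cfsg.Agent.Lib.H29.Orth Cfsg.Agent.Lib.H24.Tn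

variable {ι : Type} [Fintype ι] [DecidableEq ι] {F : Type*} [Field F]

section F4

variable [Fintype F]

theorem f4_two (hq : Fintype.card F = 4) : (2 : F) = 0 := by
  have := Nat.cast_card_eq_zero F
  rw [hq] at this
  have h4 : (2 : F) * 2 = 0 := by
    have : (4 : F) = 0 := by exact_mod_cast this
    linear_combination this
  exact mul_self_eq_zero.mp h4

theorem f4_cube (hq : Fintype.card F = 4) {x : F} (hx : x ≠ 0) : x ^ 3 = 1 := by
  have := FiniteField.pow_card_sub_one_eq_one x hx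
  rwa [hq] at this

theorem f4_add_inv (hq : Fintype.card F = 4) {c d : F} (hcd : c * d = 1) :
    c + d = 0 ∨ c + d = 1 := by
  have h2 := f4_two (F := F) hq
  have hc : c ≠ 0 := by
    rintro rfl
    rw [zero_mul] at hcd
    exact one_ne_zero hcd.symm
  have h3 := f4_cube hq hc
  have hd : d = c ^ 2 := by
    linear_combination (-d) * h3 + c ^ 2 * hcd
  have hfac : (c - 1) * (c ^ 2 + c + 1) = 0 := by linear_combination h3
  rcases mul_eq_zero.mp hfac with h | h
  · left
    rw [hd]
    have : c = 1 := by linear_combination h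
    rw [this]
    linear_combination h2
  · right
    rw [hd]
    linear_combination h - h2

theorem f4_exists (hq : Fintype.card F = 4) : ∃ ω : F, ω ≠ 0 ∧ ω ≠ 1 := by
  obtain ⟨a, b, c, hab, hac, hbc⟩ := Fintype.two_lt_card_iff.mp (by rw [hq]; norm_num : 2 < Fintype.card F)
  by_cases ha : a ≠ 0 ∧ a ≠ 1
  · exact ⟨a, ha⟩
  by_cases hb : b ≠ 0 ∧ b ≠ 1
  · exact ⟨b, hb⟩
  refine ⟨c, ?_, ?_⟩
  · rintro rfl
    have ha' : a = 1 := by
      by_contra h
      exact ha ⟨hac, h⟩
    have hb' : b = 1 := by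
      by_contra h
      exact hb ⟨hbc, h⟩
    exact hab (ha'.trans hb'.symm)
  · rintro rfl
    have ha' : a = 0 := by
      by_contra h
      exact ha ⟨h, hac⟩
    have hb' : b = 0 := by
      by_contra h
      exact hb ⟨h, hbc⟩
    exact hab (ha'.trans hb'.symm)

end F4

/-- a rotation whose defining vectors lie in an additive subgroup on which the polar form takes
values in `{0, 1}` preserves this subgroup -/
theorem rot_mem_of_binary (Q : QuadraticForm F (ι → F)) (A : AddSubgroup (ι → F))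
    (hA : ∀ x ∈ A, ∀ y ∈ A, polar Q x y = 0 ∨ polar Q x y = 1) {z y : ι → F} (hz : z ∈ A)
    (hy : y ∈ A) {x : ι → F} (hx : x ∈ A) : rot Q z y x ∈ A := by
  rw [rot_apply]
  have key : ∀ (c : F) (w : ι → F), w ∈ A → (c = 0 ∨ c = 1) → c • w ∈ A := by
    rintro c w hw (rfl | rfl)
    · rw [zero_smul]; exact A.zero_mem
    · rw [one_smul]; exact hw
  exact A.add_mem (A.add_mem hx (key _ _ (A.add_mem hz hy) (hA x hx y hy)))
    (key _ _ hz (hA x hx z hz))

/-- decompositions into hyperbolic planes over the field with four elements -/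
theorem decomp_f4_plus [Fintype F] (hq : Fintype.card F = 4) (Q : QuadraticForm F (ι → F))
    (hQ : (QuadraticMap.polarBilin Q).Nondegenerate) (hcard : 5 ≤ Fintype.card ι) {t : ℕ}
    (ht : 3 ≤ t) (D : Fin t → Submodule F (ι → F))
    (hD : Cfsg.Geo.IsOrthogonalMDecomposition (⇑Q) 2 D)
    (hplus : ∀ i, Cfsg.Geo.IsPlusTypeOn (⇑Q) (D i)) :
    ∃ K : Subgroup (GL ι F), Cfsg.Geo.decompositionStabilizer D ⊓ Cfsg.Geo.omegaGL (⇑Q) < K ∧
      K < Cfsg.Geo.omegaGL (⇑Q) := by
  classical
  have h2 := f4_two (F := F) hq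
  have h11 : (1 : F) + 1 = 0 := by rw [← h2]; norm_num
  obtain ⟨ω, hω0, hω1⟩ := f4_exists (F := F) hq
  have hω3 := f4_cube hq hω0
  have hω : ω ^ 2 + ω = 1 := by
    have hfac : (ω - 1) * (ω ^ 2 + ω + 1) = 0 := by linear_combination hω3
    rcases mul_eq_zero.mp hfac with h | h
    · exact absurd (by linear_combination h) hω1
    · linear_combination h - h2
  obtain ⟨u, v, huD, hvD, hu, hv, huv, hsp⟩ := exists_hyp_bases Q D hD hplus
  have horth : ∀ i i', i ≠ i' → ∀ x ∈ D i, ∀ y ∈ D i', polar Q x y = 0 :=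
    fun i i' hne x hx y hy => hD.decomp.orthogonal i i' hne x hx y hy
  have hvu : ∀ i, polar Q (v i) (u i) = 1 := fun i => by rw [polar_comm, huv]
  have pself : ∀ x : ι → F, polar Q x x = 0 := polar_self_zero (Q := Q) h2
  have Qadd : ∀ x y : ι → F, Q (x + y) = Q x + Q y + polar Q x y := QuadraticMap.map_add (⇑Q)
  -- the vectors of norm one
  set S1 : Set (ι → F) := {x | (fun a => a = 1) (Q x) ∧ ∃ i, x ∈ D i} with hS1
  set A : AddSubgroup (ι → F) := AddSubgroup.closure S1 with hA
  have hbin1 : ∀ s ∈ S1, ∀ s' ∈ S1, polar Q s s' = 0 ∨ polar Q s s' = 1 := by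
    rintro s ⟨hQs, i, hi⟩ s' ⟨hQs', i', hi'⟩
    by_cases hii : i = i'
    · subst hii
      obtain ⟨α, β, rfl⟩ := hsp i s hi
      obtain ⟨α', β', rfl⟩ := hsp i s' hi'
      have e1 : α * β = 1 := by rw [← Q_hyp Q (hu i) (hv i) (huv i)]; exact hQs
      have e2 : α' * β' = 1 := by rw [← Q_hyp Q (hu i) (hv i) (huv i)]; exact hQs'
      rw [polar_hyp Q (hu i) (hv i) (huv i)]
      apply f4_add_inv hq
      linear_combination α' * β' * e1 + e2
    · left
      exact horth i i' hii _ hi _ hi'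
  have binadd : ∀ c d : F, (c = 0 ∨ c = 1) → (d = 0 ∨ d = 1) → (c + d = 0 ∨ c + d = 1) := by
    rintro c d (rfl | rfl) (rfl | rfl)
    · left; ring
    · right; ring
    · right; ring
    · left; exact h11
  have binneg : ∀ c : F, (c = 0 ∨ c = 1) → (-c = 0 ∨ -c = 1) := by
    rintro c (rfl | rfl)
    · left; ring
    · right; linear_combination -h11
  have hbin2 : ∀ x ∈ A, ∀ s' ∈ S1, polar Q x s' = 0 ∨ polar Q x s' = 1 := by
    intro x hx s' hs'
    induction hx using AddSubgroup.closure_induction with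
    | mem s hs => exact hbin1 s hs s' hs'
    | zero => left; exact polar_zero_left _ _
    | add a b _ _ iha ihb =>
      rw [polar_add_left]
      exact binadd _ _ iha ihb
    | neg a _ iha =>
      rw [polar_neg_left]
      exact binneg _ iha
  have hbin : ∀ x ∈ A, ∀ y ∈ A, polar Q x y = 0 ∨ polar Q x y = 1 := by
    intro x hx y hy
    induction hy using AddSubgroup.closure_induction with
    | mem s hs => exact hbin2 x hx s hs
    | zero => left; exact polar_zero_right _ _
    | add a b _ _ iha ihb =>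
      rw [polar_add_right]
      exact binadd _ _ iha ihb
    | neg a _ iha =>
      rw [polar_neg_right]
      exact binneg _ iha
  -- invariance
  have hinv : ∀ g ∈ Cfsg.Geo.decompositionStabilizer D ⊓ Cfsg.Geo.omegaGL (⇑Q),
      ∀ x ∈ (A : Set (ι → F)), (g : Matrix ι ι F) *ᵥ x ∈ (A : Set (ι → F)) := by
    intro g hg x hx
    have hx' : x ∈ A := hx
    show (g : Matrix ι ι F) *ᵥ x ∈ A
    induction hx' using AddSubgroup.closure_induction with
    | mem s hs =>
      exact AddSubgroup.subset_closure (blockSet_invariant Q D (fun a => a = 1) g hg s hs)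
    | zero => rw [Matrix.mulVec_zero]; exact A.zero_mem
    | add a b ha' hb' iha ihb =>
      rw [Matrix.mulVec_add]
      exact A.add_mem (iha ha') (ihb hb')
    | neg a ha' iha =>
      rw [Matrix.mulVec_neg]
      exact A.neg_mem (iha ha')
  -- the frame
  obtain ⟨w, hw⟩ : ∃ w : Fin t → (ι → F), ∀ i, w i = (1 : F) • u i + (1 : F) • v i :=
    ⟨_, fun _ => rfl⟩
  obtain ⟨w', hw'⟩ : ∃ w' : Fin t → (ι → F), ∀ i, w' i = ω • u i + ω ^ 2 • v i :=
    ⟨_, fun _ => rfl⟩
  have hwD : ∀ i, w i ∈ D i := fun i => by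
    rw [hw]
    exact (D i).add_mem ((D i).smul_mem _ (huD i)) ((D i).smul_mem _ (hvD i))
  have hw'D : ∀ i, w' i ∈ D i := fun i => by
    rw [hw']
    exact (D i).add_mem ((D i).smul_mem _ (huD i)) ((D i).smul_mem _ (hvD i))
  have hQw : ∀ i, Q (w i) = 1 := by
    intro i
    rw [hw, Q_hyp Q (hu i) (hv i) (huv i)]
    ring
  have hQw' : ∀ i, Q (w' i) = 1 := by
    intro i
    rw [hw', Q_hyp Q (hu i) (hv i) (huv i)]
    linear_combination hω3
  have hww' : ∀ i, polar Q (w i) (w' i) = 1 := by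
    intro i
    rw [hw, hw', polar_hyp Q (hu i) (hv i) (huv i)]
    linear_combination hω
  have hw'w : ∀ i, polar Q (w' i) (w i) = 1 := fun i => by rw [polar_comm, hww']
  have hwS : ∀ i, w i ∈ S1 := fun i => ⟨hQw i, i, hwD i⟩
  have hw'S : ∀ i, w' i ∈ S1 := fun i => ⟨hQw' i, i, hw'D i⟩
  have hwA : ∀ i, w i ∈ A := fun i => AddSubgroup.subset_closure (hwS i)
  have hw'A : ∀ i, w' i ∈ A := fun i => AddSubgroup.subset_closure (hw'S i)
  -- indices
  let i1 : Fin t := ⟨0, by omega⟩
  let i2 : Fin t := ⟨1, by omega⟩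
  let i3 : Fin t := ⟨2, by omega⟩
  have n12 : i1 ≠ i2 := by simp [i1, i2, Fin.ext_iff]
  have n13 : i1 ≠ i3 := by simp [i1, i3, Fin.ext_iff]
  have n23 : i2 ≠ i3 := by simp [i2, i3, Fin.ext_iff]
  have o12 : ∀ x ∈ D i1, ∀ y ∈ D i2, polar Q x y = 0 := horth i1 i2 n12
  have o13 : ∀ x ∈ D i1, ∀ y ∈ D i3, polar Q x y = 0 := horth i1 i3 n13
  have o23 : ∀ x ∈ D i2, ∀ y ∈ D i3, polar Q x y = 0 := horth i2 i3 n23
  have o21 : ∀ x ∈ D i2, ∀ y ∈ D i1, polar Q x y = 0 := horth i2 i1 n12.symm
  have o31 : ∀ x ∈ D i3, ∀ y ∈ D i1, polar Q x y = 0 := horth i3 i1 n13.symm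
  have o32 : ∀ x ∈ D i3, ∀ y ∈ D i2, polar Q x y = 0 := horth i3 i2 n23.symm
  -- the element `g`
  have hQy : Q (w' i1 + w i2 + w i3) = 1 := by
    rw [Qadd, Qadd, hQw', hQw, hQw, o12 _ (hw'D _) _ (hwD _), polar_add_left,
      o13 _ (hw'D _) _ (hwD _), o23 _ (hwD _) _ (hwD _)]
    linear_combination h2
  have hzy : polar Q (w i1) (w' i1 + w i2 + w i3) = 1 := by
    rw [polar_add_right, polar_add_right, hww', o12 _ (hwD _) _ (hwD _),
      o13 _ (hwD _) _ (hwD _)]
    ring
  obtain ⟨g, hgΩ, hg, hginv⟩ := exists_rotGL Q hQ hcard h2 (w i1) (w' i1 + w i2 + w i3) (hQw i1)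
    hQy hzy
  have hyA : w' i1 + w i2 + w i3 ∈ A := A.add_mem (A.add_mem (hw'A _) (hwA _)) (hwA _)
  -- the element `h`
  have hQy' : Q (w' i1 + u i2) = 1 := by
    rw [Qadd, hQw', hu, o12 _ (hw'D _) _ (huD _)]
    ring
  have hzy' : polar Q (w i1) (w' i1 + u i2) = 1 := by
    rw [polar_add_right, hww', o12 _ (hwD _) _ (huD _)]
    ring
  obtain ⟨h, hhΩ, hh, -⟩ := exists_rotGL Q hQ hcard h2 (w i1) (w' i1 + u i2) (hQw i1) hQy' hzy'
  refine not_maximal_of_set Q D (A : Set (ι → F)) hinv g h hgΩ ?_ ?_ hhΩ ?_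
  · apply mem_setStab_of
    · intro x hx
      rw [hg]
      exact rot_mem_of_binary Q A hbin (hwA i1) hyA hx
    · intro x hx
      rw [hginv]
      exact rot_mem_of_binary Q A hbin (hwA i1) hyA (rot_mem_of_binary Q A hbin (hwA i1) hyA hx)
  · intro hcon
    obtain ⟨i', hi'⟩ := exists_block_of_stab D hcon i1 (hwD i1)
    have himg : (g : Matrix ι ι F) *ᵥ w i1 = w' i1 + w i2 + w i3 := by
      rw [hg, rot_apply, hzy, pself, zero_smul, one_smul, add_zero]
      linear_combination (norm := module) h2 • w i1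
    rw [himg] at hi'
    refine not_mem_block Q D horth _ n23 (w' i2) (w' i3) (hw'D _) (hw'D _) ?_ ?_ i' hi'
    · rw [polar_add_left, polar_add_left, hww', o12 _ (hw'D _) _ (hw'D _),
        o32 _ (hwD _) _ (hw'D _)]
      simp
    · rw [polar_add_left, polar_add_left, hww', o13 _ (hw'D _) _ (hw'D _),
        o23 _ (hwD _) _ (hw'D _)]
      simp
  · intro hcon
    have himg : (h : Matrix ι ι F) *ᵥ w' i2 ∈ A := mulVec_mem_of_mem_setStab hcon (hw'A i2)
    rw [hh, rot_apply] at himg
    have e1 : polar Q (w' i2) (w i1) = 0 := o21 _ (hw'D _) _ (hwD _)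
    have e2 : polar Q (w' i2) (w' i1 + u i2) = ω ^ 2 := by
      rw [polar_add_right, o21 _ (hw'D _) _ (hw'D _), hw']
      simp only [polar_add_left, polar_smul_left, pself, hvu, smul_eq_mul]
      ring
    rw [e1, e2, zero_smul, add_zero] at himg
    have key := hbin _ himg _ (hwA i1)
    have e3 : polar Q (w' i2 + ω ^ 2 • (w i1 + (w' i1 + u i2))) (w i1) = ω ^ 2 := by
      rw [polar_add_left, polar_smul_left, polar_add_left, polar_add_left, e1, pself, hw'w,
        o21 _ (huD _) _ (hwD _), smul_eq_mul]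
      ring
    rw [e3] at key
    rcases key with h0 | h0
    · exact hω0 (pow_eq_zero_iff (by norm_num) |>.mp h0)
    · have hfac : (ω - 1) * (ω - 1) = 0 := by linear_combination h0 + (1 - ω) * h2
      have h1 : ω - 1 = 0 := mul_self_eq_zero.mp hfac
      exact hω1 (sub_eq_zero.mp h1)

end Cfsg.Agent.Lib.H24.Dn
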