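/-
EO project (even-dimensional orthogonal rows), phase 2, small-`q` class-2 exclusions, part f (helper24):
**E2d**: `q = 4`, planes of plus type.  The vectors of norm `1` of a hyperbolic plane `⟨e, f⟩` over `𝔽₄` are
`e + f`, `ω e + ω² f`, `ω² e + ω f`; together with `0` they form an `𝔽₂`-plane.  The sum of these `𝔽₂`-planes is an
`𝔽₂`-form of the space on which `Q` takes its values in `𝔽₂`, and it is stabilised by every isometry stabilising
the decomposition.
-/
import Cfsg.Agent.Lib.H24.AschEO2C4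
import Cfsg.Agent.Lib.H24.DnE
import Cfsg.Agent.Lib.H28.AschP2E8e

set_option autoImplicit false

namespace Cfsg.Agent.Lib.H24.EOP2

open Cfsg Cfsg.Geo Module
open scoped MatrixGroups Matrix

variable {ι : Type} [Fintype ι] [DecidableEq ι] {F : Type*} [Field F]

/-- a matrix mapping the columns of `P` to `F₀`-rational vectors lies in the subfield group -/
theorem mem_subfieldSubgroup_of_rat (F₀ : Subfield F) (P g : GL ι F)
    (hg : ∀ j, ∃ u : ι → F, (∀ i, u i ∈ F₀) ∧
      (g : Matrix ι ι F) *ᵥ ((P : Matrix ι ι F) *ᵥ Pi.single j 1) = (P : Matrix ι ι F) *ᵥ u) :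
    g ∈ subfieldSubgroup F₀ P := by
  choose u hu hgu using hg
  obtain ⟨M, hM⟩ : ∃ M : GL ι F, M = P⁻¹ * g * P := ⟨_, rfl⟩
  have hMcol : ∀ j, M.1 *ᵥ Pi.single j 1 = u j := by
    intro j
    rw [hM, Units.val_mul, Units.val_mul, ← Matrix.mulVec_mulVec, ← Matrix.mulVec_mulVec, hgu j,
      Matrix.mulVec_mulVec, ← Units.val_mul, inv_mul_cancel, Units.val_one, Matrix.one_mulVec]
  have hMij : ∀ i j, M.1 i j = u j i := by
    intro i j
    rw [← hMcol j, Matrix.mulVec_single_one]
    rfl
  let M₀ : Matrix ι ι F₀ := fun i j => ⟨M.1 i j, by rw [hMij]; exact hu j i⟩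
  have hmap : M₀.map (F₀.subtype : F₀ →+* F) = M.1 := by
    ext i j; rfl
  have hdet : M₀.det ≠ 0 := by
    intro h
    have h1 : (F₀.subtype : F₀ →+* F) M₀.det = 0 := by rw [h, map_zero]
    rw [RingHom.map_det, RingHom.mapMatrix_apply, hmap] at h1
    have h2 : IsUnit M.1.det := (Matrix.isUnit_iff_isUnit_det _).1 M.isUnit
    exact h2.ne_zero h1
  unfold subfieldSubgroup
  rw [Subgroup.mem_map]
  refine ⟨M, Subgroup.mem_sup_left ⟨Matrix.GeneralLinearGroup.mkOfDetNeZero M₀ hdet, ?_⟩, ?_⟩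
  · apply Units.ext
    exact hmap
  · simp only [MulEquiv.coe_toMonoidHom, MulAut.conj_apply]
    rw [hM]; group

section F4

variable [Fintype F]

open Cfsg.Agent.Lib.H29.Orth Cfsg.Agent.Lib.H24.Dn Cfsg.Agent.Lib.H28.AschP2E8

theorem f4_cases (hq : Fintype.card F = 4) {ω : F} (hω : ω ^ 2 + ω + 1 = 0) {α : F} (hα : α ≠ 0) :
    α = 1 ∨ α = ω ∨ α = ω ^ 2 := by
  have h3 := f4_cube hq hα
  have : (α - 1) * ((α - ω) * (α - ω ^ 2)) = 0 := by
    linear_combination h3 + (-α ^ 2 + ω * α - ω + 1) * hω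
  rcases mul_eq_zero.1 this with h | h
  · left; linear_combination h
  · rcases mul_eq_zero.1 h with h | h
    · right; left; linear_combination h
    · right; right; linear_combination h

/-- **E2d**: `q = 4`, planes of plus type ⇒ an `𝔽₂`-structure carrying `Q`. -/
theorem c2_plus_q4 (hq : Fintype.card F = 4) {Q : (ι → F) → F} (hQ : IsNondegenerateQuadraticForm Q)
    {t : ℕ} (D : Fin t → Submodule F (ι → F)) (hD : IsOrthogonalMDecomposition Q 2 D)
    (hplus : ∀ i, IsPlusTypeOn Q (D i)) :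
    ∃ (F₀ : Subfield F) (P : GL ι F), Fintype.card F = Nat.card F₀ ^ 2 ∧
      IsQuadFormRationalStructure Q F₀ P ∧
      decompositionStabilizer D ⊓ isometryGroup F Q ≤ subfieldSubgroup F₀ P := by
  classical
  have h2 : (2 : F) = 0 := f4_two hq
  obtain ⟨ω, hω0, hω1, hω⟩ := exists_omega hq
  have hpb := hQ.polar_bilinear
  have pself : ∀ x : ι → F, QuadraticMap.polar Q x x = 0 := fun x => by
    rw [polar_self_eq hQ, h2, zero_mul]
  have hcard : t * 2 = Fintype.card ι := card_eq_of_isMDecomposition hD.decomp.decomp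
  have hall : ∀ i, ∃ e f : ι → F, e ∈ D i ∧ f ∈ D i ∧ Q e = 0 ∧ Q f = 0 ∧ QuadraticMap.polar Q e f = 1 ∧
      ∀ x ∈ D i, ∃ α β : F, x = α • e + β • f :=
    fun i => exists_hyperbolic_basis (toQF Q hQ) (D i) (hD.decomp.decomp.finrank_eq i)
      (hD.decomp.nondegenerate i) (hplus i)
  choose e f heD hfD hQe hQf hef hsp using hall
  have hform : ∀ i (α β : F), Q (α • e i + β • f i) = α * β :=
    fun i α β => Q_hyp (toQF Q hQ) (hQe i) (hQf i) (hef i) α β
  have hpol : ∀ i (α β α' β' : F),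
      QuadraticMap.polar Q (α • e i + β • f i) (α' • e i + β' • f i) = α * β' + β * α' :=
    fun i α β α' β' => polar_hyp (toQF Q hQ) (hQe i) (hQf i) (hef i) α β α' β'
  -- the `𝔽₂`-basis
  set b0 : Fin t → (ι → F) := fun i => (1 : F) • e i + (1 : F) • f i with hb0
  set b1 : Fin t → (ι → F) := fun i => ω • e i + ω ^ 2 • f i with hb1
  have hb0D : ∀ i, b0 i ∈ D i := fun i =>
    (D i).add_mem ((D i).smul_mem _ (heD i)) ((D i).smul_mem _ (hfD i))
  have hb1D : ∀ i, b1 i ∈ D i := fun i =>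
    (D i).add_mem ((D i).smul_mem _ (heD i)) ((D i).smul_mem _ (hfD i))
  have hQb0 : ∀ i, Q (b0 i) = 1 := fun i => by
    simp only [hb0]; rw [hform]; ring
  have hQb1 : ∀ i, Q (b1 i) = 1 := fun i => by
    simp only [hb1]; rw [hform]; linear_combination (ω - 1) * hω
  have hb01 : ∀ i, QuadraticMap.polar Q (b0 i) (b1 i) = 1 := fun i => by
    simp only [hb0, hb1]; rw [hpol]; linear_combination hω - h2
  have hb10 : ∀ i, QuadraticMap.polar Q (b1 i) (b0 i) = 1 := fun i => by
    rw [QuadraticMap.polar_comm]; exact hb01 i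
  have e1 : (1 : F) + ω = ω ^ 2 := by linear_combination (-1 : F) * hω + (1 + ω) * h2
  have e2 : (1 : F) + ω ^ 2 = ω := by linear_combination hω - ω * h2
  have hnorm : ∀ i, ∀ x ∈ D i, Q x = 1 → x = b0 i ∨ x = b1 i ∨ x = b0 i + b1 i := by
    intro i x hx hQx
    obtain ⟨α, β, rfl⟩ := hsp i x hx
    rw [hform] at hQx
    have hα : α ≠ 0 := by
      rintro rfl
      rw [zero_mul] at hQx
      exact zero_ne_one hQx
    rcases f4_cases hq hω hα with hα1 | hα1 | hα1
    · left
      rw [hα1] at hQx ⊢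
      have : β = 1 := by linear_combination hQx
      rw [this]
    · right; left
      rw [hα1] at hQx ⊢
      have : β = ω ^ 2 := by linear_combination ω ^ 2 * hQx - β * (ω - 1) * hω
      rw [this]
    · right; right
      rw [hα1] at hQx ⊢
      have : β = ω := by linear_combination ω * hQx - β * (ω - 1) * hω
      rw [this]
      simp only [hb0, hb1]
      have h3 : ω ^ 2 • e i + ω • f i = ((1 : F) + ω) • e i + ((1 : F) + ω ^ 2) • f i := by rw [e1, e2]
      rw [h3]
      module
  set bb : Fin t → Fin 2 → (ι → F) := fun i a => if a = 0 then b0 i else b1 i with hbb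
  have two_cases : ∀ a : Fin 2, a = 0 ∨ a = 1 := fun a => by omega
  have hne1 : ∀ a : Fin 2, a ≠ a + 1 := by decide
  have hflip2 : ∀ a b : Fin 2, a ≠ b → a = b + 1 := by decide
  have hbbD : ∀ i a, bb i a ∈ D i := by
    intro i a
    simp only [hbb]
    split_ifs
    · exact hb0D i
    · exact hb1D i
  have hQbb : ∀ i a, Q (bb i a) = 1 := by
    intro i a
    simp only [hbb]
    split_ifs
    · exact hQb0 i
    · exact hQb1 i
  have hbbne : ∀ i a a', a ≠ a' → QuadraticMap.polar Q (bb i a) (bb i a') = 1 := by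
    intro i a a' haa
    rcases two_cases a with rfl | rfl <;> rcases two_cases a' with rfl | rfl
    · exact absurd rfl haa
    · simp only [hbb, Fin.isValue, one_ne_zero, ↓reduceIte]; exact hb01 i
    · simp only [hbb, Fin.isValue, one_ne_zero, ↓reduceIte]; exact hb10 i
    · exact absurd rfl haa
  -- the index equivalence
  have hcard' : Fintype.card ι = Fintype.card (Fin t × Fin 2) := by
    rw [Fintype.card_prod, Fintype.card_fin, Fintype.card_fin, hcard]
  set φ : ι ≃ Fin t × Fin 2 := Fintype.equivOfCardEq hcard' with hφ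
  set B : ι → (ι → F) := fun j => bb (φ j).1 (φ j).2 with hB
  set flip : ι → ι := fun j => φ.symm ((φ j).1, (φ j).2 + 1) with hflip
  have hBgram : ∀ k j, QuadraticMap.polar Q (B k) (B (flip j)) = if k = j then 1 else 0 := by
    intro k j
    have hfj : φ (flip j) = ((φ j).1, (φ j).2 + 1) := by simp only [hflip, Equiv.apply_symm_apply]
    simp only [hB]
    rw [hfj]
    split_ifs with hkj
    · rw [hkj]
      exact hbbne _ _ _ (hne1 _)
    · by_cases h1 : (φ k).1 = (φ j).1
      · have h2' : (φ k).2 ≠ (φ j).2 := by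
          intro h2'
          exact hkj (φ.injective (Prod.ext h1 h2'))
        have h3 : (φ k).2 = (φ j).2 + 1 := hflip2 _ _ h2'
        rw [h1, h3]
        exact pself _
      · exact hD.decomp.orthogonal _ _ h1 _ (hbbD _ _) _ (hbbD _ _)
  have hBli : LinearIndependent F B := by
    rw [Fintype.linearIndependent_iff]
    intro c hc j
    have h1 := polar_sum_left hQ Finset.univ (B (flip j)) (fun k => c k • B k)
    rw [hc] at h1
    have h0 : QuadraticMap.polar Q 0 (B (flip j)) = 0 := by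
      have := hpb.smul_left 0 0 (B (flip j))
      rw [zero_smul, zero_mul] at this
      exact this
    rw [h0, Finset.sum_eq_single j] at h1
    · rw [hpb.smul_left, hBgram, if_pos rfl, mul_one] at h1
      exact h1.symm
    · intro k _ hkj
      rw [hpb.smul_left, hBgram, if_neg hkj, mul_zero]
    · intro h
      exact absurd (Finset.mem_univ j) h
  set Pm : Matrix ι ι F := Matrix.of fun r k => B k r with hPm
  have hPu : IsUnit Pm := by
    rw [← Matrix.linearIndependent_cols_iff_isUnit]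
    have : Pm.col = B := by
      funext k r
      rfl
    rw [this]
    exact hBli
  have hPmul : ∀ u : ι → F, Pm *ᵥ u = ∑ k, u k • B k := by
    intro u
    funext r
    rw [Matrix.mulVec, dotProduct, Finset.sum_apply]
    refine Finset.sum_congr rfl fun k _ => ?_
    rw [Pi.smul_apply, smul_eq_mul, mul_comm]
    rfl
  have hPsingle : ∀ j, Pm *ᵥ Pi.single j 1 = B j := by
    intro j
    rw [hPmul, Finset.sum_eq_single j]
    · rw [Pi.single_eq_same, one_smul]
    · intro k _ hkj
      rw [Pi.single_eq_of_ne hkj, zero_smul]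
    · intro h
      exact absurd (Finset.mem_univ j) h
  set F₀ := primeSub hq with hF₀
  have hP : (hPu.unit : Matrix ι ι F) = Pm := IsUnit.unit_spec hPu
  refine ⟨F₀, hPu.unit, by rw [natCard_primeSub hq, hq]; norm_num, ?_, ?_⟩
  · -- the rational structure
    intro u hu
    rw [hP, hPmul]
    have hsum : ∑ k, u k • B k =
        ∑ i : Fin t, (1 : F) • (u (φ.symm (i, 0)) • bb i 0 + u (φ.symm (i, 1)) • bb i 1) := by
      rw [Fintype.sum_equiv φ (fun k => u k • B k) (fun p => u (φ.symm p) • bb p.1 p.2)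
        (fun k => by simp only [hB, Equiv.symm_apply_apply]), Fintype.sum_prod_type]
      refine Finset.sum_congr rfl fun i _ => ?_
      rw [Fin.sum_univ_two, one_smul]
    rw [hsum, quad_sum_orth hQ]
    · refine F₀.sum_mem fun i _ => ?_
      rw [quad_smul_add_smul hQ, hQbb, hQbb, hbbne i 0 1 (by decide)]
      have m0 := hu (φ.symm (i, 0))
      have m1 := hu (φ.symm (i, 1))
      exact F₀.mul_mem (pow_mem F₀.one_mem 2) (F₀.add_mem (F₀.add_mem (F₀.mul_mem (pow_mem m0 2) F₀.one_mem)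
        (F₀.mul_mem (pow_mem m1 2) F₀.one_mem)) (F₀.mul_mem (F₀.mul_mem m0 m1) F₀.one_mem))
    · intro i _ i' _ hii
      exact hD.decomp.orthogonal i i' hii _
        ((D i).add_mem ((D i).smul_mem _ (hbbD i 0)) ((D i).smul_mem _ (hbbD i 1))) _
        ((D i').add_mem ((D i').smul_mem _ (hbbD i' 0)) ((D i').smul_mem _ (hbbD i' 1)))
  · -- the stabiliser
    intro g hg
    obtain ⟨⟨σ, hσ⟩, hgI⟩ := Subgroup.mem_inf.1 hg
    have hgQ := (Cfsg.Agent.Lib.H24.Asch.mem_isometryGroup_iff Q g).1 hgI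
    have hgD : ∀ i, ∀ x ∈ D i, (g : Matrix ι ι F) *ᵥ x ∈ D (σ i) := by
      intro i x hx
      rw [← hσ i]
      exact ⟨x, hx, by rw [Matrix.toLin'_apply]⟩
    have hsingle_mem : ∀ k : ι, ∀ i, (Pi.single k (1 : F) : ι → F) i ∈ F₀ := by
      intro k i
      rw [Pi.single_apply]
      split_ifs
      · exact F₀.one_mem
      · exact F₀.zero_mem
    have hB0 : ∀ i, B (φ.symm (i, 0)) = b0 i := fun i => by
      simp only [hB, Equiv.apply_symm_apply, hbb, ↓reduceIte]
    have hB1 : ∀ i, B (φ.symm (i, 1)) = b1 i := fun i => by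
      simp only [hB, Equiv.apply_symm_apply, hbb, Fin.isValue, one_ne_zero, ↓reduceIte]
    apply mem_subfieldSubgroup_of_rat F₀ hPu.unit g
    intro j
    rw [hP, hPsingle]
    set i := (φ j).1 with hi
    rcases hnorm (σ i) _ (hgD i _ (hbbD i (φ j).2)) (by rw [hgQ]; exact hQbb _ _) with h | h | h
    · exact ⟨Pi.single (φ.symm (σ i, 0)) 1, hsingle_mem _, by rw [hPsingle, hB0]; exact h⟩
    · exact ⟨Pi.single (φ.symm (σ i, 1)) 1, hsingle_mem _, by rw [hPsingle, hB1]; exact h⟩
    · refine ⟨Pi.single (φ.symm (σ i, 0)) 1 + Pi.single (φ.symm (σ i, 1)) 1, fun r => ?_, ?_⟩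
      · rw [Pi.add_apply]
        exact F₀.add_mem (hsingle_mem _ _) (hsingle_mem _ _)
      · rw [Matrix.mulVec_add, hPsingle, hPsingle, hB0, hB1]
        exact h

/-- **E2d** in the form of the class-5 item of the rows (`ζ = 1`, `r = 2`). -/
theorem c2_plus_q4_one (hq : Fintype.card F = 4) {Q : (ι → F) → F} (hQ : IsNondegenerateQuadraticForm Q)
    {t : ℕ} (D : Fin t → Submodule F (ι → F)) (hD : IsOrthogonalMDecomposition Q 2 D)
    (hplus : ∀ i, IsPlusTypeOn Q (D i)) :
    ∃ (F₀ : Subfield F) (r : ℕ) (P : GL ι F) (ζ : F), r.Prime ∧ Fintype.card F = Nat.card F₀ ^ r ∧ ζ ≠ 0 ∧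
      IsQuadFormRationalStructure (fun v : ι → F => ζ * Q v) F₀ P ∧
      decompositionStabilizer D ⊓ isometryGroup F Q ≤ subfieldSubgroup F₀ P := by
  obtain ⟨F₀, P, h1, h2, h3⟩ := c2_plus_q4 hq hQ D hD hplus
  refine ⟨F₀, 2, P, 1, Nat.prime_two, h1, one_ne_zero, ?_, h3⟩
  intro u hu
  show (1 : F) * Q _ ∈ F₀
  rw [one_mul]
  exact h2 u hu

end F4

end Cfsg.Agent.Lib.H24.EOP2
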