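import Mathlib
import Cfsg.Agent.Lib.H24.ElusCount
import Cfsg.Agent.Lib.H24.ElusSpForm

set_option autoImplicit false

/-!
# Counting totally isotropic subspaces of an alternating space (helper24)

`card_tisub_mul`: for a nondegenerate alternating form on a space of dimension `n` over the field
with `q` elements, `#{W totally isotropic | dim W = m} * ∏_{i<m} (q^m - q^i) =
∏_{j<m} (q^(n-j) - q^j)`; consequently a prime dividing the number of totally isotropic `m`-spaces
divides `q^(n-2j) - 1` for some `j < m` (`exists_of_dvd_card_tisub`).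
-/

namespace Cfsg.Agent.Lib.H24.Elus

open Module

section ticount

variable {F : Type*} [Field F] [Fintype F] {V : Type*} [AddCommGroup V] [Module F V]
  [Module.Finite F V]
variable (B : LinearMap.BilinForm F V)

/-- linearly independent, pairwise orthogonal tuples -/
abbrev TiSeq (m : ℕ) : Type _ :=
  {s : Fin m → V // LinearIndependent F s ∧ ∀ i j, B (s i) (s j) = 0}

/-- totally isotropic subspaces of dimension `m` -/
abbrev TiSub (m : ℕ) : Type _ :=
  {W : Submodule F V // finrank F W = m ∧ ∀ u ∈ W, ∀ v ∈ W, B u v = 0}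

omit [Fintype F] [Module.Finite F V] in
theorem span_isotropic {m : ℕ} (s : Fin m → V) (h : ∀ i j, B (s i) (s j) = 0) :
    ∀ u ∈ Submodule.span F (Set.range s), ∀ v ∈ Submodule.span F (Set.range s), B u v = 0 := by
  have h1 : ∀ i, ∀ v ∈ Submodule.span F (Set.range s), B (s i) v = 0 := by
    intro i v hv
    have hle : Submodule.span F (Set.range s) ≤ LinearMap.ker (B (s i)) := by
      rw [Submodule.span_le]
      rintro _ ⟨j, rfl⟩
      rw [SetLike.mem_coe, LinearMap.mem_ker]
      exact h i j
    exact LinearMap.mem_ker.mp (hle hv)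
  intro u hu v hv
  have hle : Submodule.span F (Set.range s) ≤ LinearMap.ker (B.flip v) := by
    rw [Submodule.span_le]
    rintro _ ⟨j, rfl⟩
    rw [SetLike.mem_coe, LinearMap.mem_ker]
    exact h1 j v hv
  have := hle hu
  rw [LinearMap.mem_ker] at this
  exact this

/-- dropping the first vector -/
def tiTail (m : ℕ) (s : TiSeq B (m + 1)) : TiSeq B m :=
  ⟨Fin.tail s.1, (linearIndependent_finSucc.mp s.2.1).1, fun i j => s.2.2 i.succ j.succ⟩

/-- the fibre of `tiTail` -/
noncomputable def tiFibreEquiv (halt : ∀ v, B v v = 0) (m : ℕ) (s : TiSeq B m) :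
    {s' : TiSeq B (m + 1) // tiTail B m s' = s} ≃
      {v : V // v ∈ B.orthogonal (Submodule.span F (Set.range s.1)) ∧
        v ∉ Submodule.span F (Set.range s.1)} where
  toFun s' := ⟨s'.1.1 0, by
    have hs : Fin.tail s'.1.1 = s.1 := congrArg Subtype.val s'.2
    constructor
    · rw [← hs]
      intro n hn
      have hle : Submodule.span F (Set.range (Fin.tail s'.1.1)) ≤
          LinearMap.ker (B.flip (s'.1.1 0)) := by
        rw [Submodule.span_le]
        rintro _ ⟨i, rfl⟩
        rw [SetLike.mem_coe, LinearMap.mem_ker]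
        exact s'.1.2.2 i.succ 0
      have := hle hn
      rw [LinearMap.mem_ker] at this
      exact this
    · rw [← hs]
      exact (linearIndependent_finSucc.mp s'.1.2.1).2⟩
  invFun v := ⟨⟨(Fin.cons v.1 s.1 : Fin (m + 1) → V), linearIndependent_finCons.mpr ⟨s.2.1, v.2.2⟩, by
      intro i j
      refine Fin.cases ?_ (fun i' => ?_) i <;> refine Fin.cases ?_ (fun j' => ?_) j
      · simp only [Fin.cons_zero]
        exact halt _
      · simp only [Fin.cons_zero, Fin.cons_succ]
        exact alt_swap_zero B halt (v.2.1 _ (Submodule.subset_span (Set.mem_range_self j')))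
      · simp only [Fin.cons_zero, Fin.cons_succ]
        exact v.2.1 _ (Submodule.subset_span (Set.mem_range_self i'))
      · simp only [Fin.cons_succ]
        exact s.2.2 i' j'⟩, by
    apply Subtype.ext
    show Fin.tail (Fin.cons v.1 s.1 : Fin (m + 1) → V) = s.1
    exact Fin.tail_cons _ _⟩
  left_inv s' := by
    apply Subtype.ext
    apply Subtype.ext
    show (Fin.cons (s'.1.1 0) s.1 : Fin (m + 1) → V) = s'.1.1
    have hs : Fin.tail s'.1.1 = s.1 := congrArg Subtype.val s'.2
    rw [← hs]
    exact Fin.cons_self_tail _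
  right_inv v := by
    apply Subtype.ext
    show (Fin.cons v.1 s.1 : Fin (m + 1) → V) 0 = v.1
    exact Fin.cons_zero _ _

omit [Fintype F] [Module.Finite F V] in
theorem nondegenerate_of_alt (halt : ∀ v, B v v = 0) (hnd : ∀ v, (∀ w, B v w = 0) → v = 0) :
    B.Nondegenerate := by
  constructor
  · intro v hv
    exact hnd v hv
  · intro v hv
    exact hnd v (fun w => alt_swap_zero B halt (hv w))

theorem card_tiFibre (halt : ∀ v, B v v = 0) (hnd : ∀ v, (∀ w, B v w = 0) → v = 0) (m : ℕ)
    (s : TiSeq B m) :
    Nat.card {v : V // v ∈ B.orthogonal (Submodule.span F (Set.range s.1)) ∧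
        v ∉ Submodule.span F (Set.range s.1)} =
      Fintype.card F ^ (finrank F V - m) - Fintype.card F ^ m := by
  haveI : Finite V := finite_of_field F V
  set U := Submodule.span F (Set.range s.1) with hU
  have hUm : finrank F U = m := by rw [hU, finrank_span_eq_card s.2.1, Fintype.card_fin]
  have hUti := span_isotropic B s.1 s.2.2
  have hUO : (U : Set V) ⊆ (B.orthogonal U : Set V) := fun u hu n hn => hUti n hn u hu
  have hO : finrank F (B.orthogonal U) = finrank F V - m := by
    rw [LinearMap.BilinForm.finrank_orthogonal (nondegenerate_of_alt B halt hnd), hUm]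
  have h1 : Nat.card {v : V // v ∈ B.orthogonal U ∧ v ∉ U} =
      ((B.orthogonal U : Set V) \ (U : Set V)).ncard := by
    rw [← Nat.card_coe_set_eq]
    rfl
  have h2 := Set.ncard_sdiff_add_ncard_of_subset hUO (Set.toFinite _)
  have h3 : (B.orthogonal U : Set V).ncard = Fintype.card F ^ (finrank F V - m) := by
    rw [← Nat.card_coe_set_eq]
    show Nat.card ↥(B.orthogonal U) = _
    rw [Module.natCard_eq_pow_finrank (K := F), hO, Nat.card_eq_fintype_card]
  have h4 : (U : Set V).ncard = Fintype.card F ^ m := by
    rw [← Nat.card_coe_set_eq]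
    show Nat.card ↥U = _
    rw [Module.natCard_eq_pow_finrank (K := F), hUm, Nat.card_eq_fintype_card]
  rw [h1]
  omega

theorem card_tiSeq (halt : ∀ v, B v v = 0) (hnd : ∀ v, (∀ w, B v w = 0) → v = 0) (m : ℕ) :
    Nat.card (TiSeq B m) =
      ∏ j : Fin m, (Fintype.card F ^ (finrank F V - j.val) - Fintype.card F ^ j.val) := by
  haveI : Finite V := finite_of_field F V
  induction m with
  | zero =>
    rw [Finset.univ_eq_empty, Finset.prod_empty]
    haveI : Unique (TiSeq B 0) :=
      { default := ⟨Fin.elim0, linearIndependent_empty_type, fun i => i.elim0⟩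
        uniq := fun s => Subtype.ext (Subsingleton.elim _ _) }
    exact Nat.card_unique
  | succ m ih =>
    haveI : Fintype (TiSeq B m) := Fintype.ofFinite _
    rw [Nat.card_congr (Equiv.sigmaFiberEquiv (tiTail B m)).symm, Nat.card_sigma,
      Finset.sum_congr rfl (fun s _ => (Nat.card_congr (tiFibreEquiv B halt m s)).trans
        (card_tiFibre B halt hnd m s)), Finset.sum_const, Finset.card_univ, smul_eq_mul,
      ← Nat.card_eq_fintype_card, ih, Fin.prod_univ_castSucc]
    rfl

/-- the span map -/
noncomputable def spanTI (m : ℕ) (s : TiSeq B m) : TiSub B m :=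
  ⟨Submodule.span F (Set.range s.1), by
    rw [finrank_span_eq_card s.2.1, Fintype.card_fin], span_isotropic B s.1 s.2.2⟩

/-- the fibre of the span map over `W` is the set of bases of `W` -/
noncomputable def tiSpanFibreEquiv (m : ℕ) (W : TiSub B m) :
    {s : TiSeq B m // spanTI B m s = W} ≃ {t : Fin m → ↥W.1 // LinearIndependent F t} where
  toFun s := ⟨fun i => ⟨s.1.1 i, by
      have h : Submodule.span F (Set.range s.1.1) = W.1 := congrArg Subtype.val s.2
      rw [← h]
      exact Submodule.subset_span (Set.mem_range_self i)⟩, by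
    apply LinearIndependent.of_comp W.1.subtype
    exact s.1.2.1⟩
  invFun t := ⟨⟨fun i => (t.1 i : V), t.2.map' W.1.subtype (Submodule.ker_subtype _),
      fun i j => W.2.2 _ (t.1 i).2 _ (t.1 j).2⟩, by
    apply Subtype.ext
    show Submodule.span F (Set.range fun i => (t.1 i : V)) = W.1
    have h1 : Submodule.span F (Set.range t.1) = ⊤ := by
      apply t.2.span_eq_top_of_card_eq_finrank'
      rw [Fintype.card_fin, W.2.1]
    have h2 : (Set.range fun i => (t.1 i : V)) = W.1.subtype '' (Set.range t.1) := by
      rw [← Set.range_comp]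
      rfl
    rw [h2, Submodule.span_image, h1, Submodule.map_top, Submodule.range_subtype]⟩
  left_inv s := by
    apply Subtype.ext
    apply Subtype.ext
    rfl
  right_inv t := by
    apply Subtype.ext
    rfl

theorem card_tisub_mul (halt : ∀ v, B v v = 0) (hnd : ∀ v, (∀ w, B v w = 0) → v = 0) (m : ℕ) :
    Nat.card (TiSub B m) * ∏ i : Fin m, (Fintype.card F ^ m - Fintype.card F ^ i.val) =
      ∏ j : Fin m, (Fintype.card F ^ (finrank F V - j.val) - Fintype.card F ^ j.val) := by
  classical
  haveI : Finite V := finite_of_field F V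
  haveI : Finite (Submodule F V) := finite_submodule
  haveI : Fintype (TiSub B m) := Fintype.ofFinite _
  rw [← card_tiSeq B halt hnd m,
    Nat.card_congr (Equiv.sigmaFiberEquiv (spanTI B m)).symm, Nat.card_sigma]
  have h : ∀ W : TiSub B m, Nat.card {s : TiSeq B m // spanTI B m s = W} =
      ∏ i : Fin m, (Fintype.card F ^ m - Fintype.card F ^ i.val) := by
    intro W
    rw [Nat.card_congr (tiSpanFibreEquiv B m W)]
    haveI : Finite ↥W.1 := Finite.of_injective _ Subtype.val_injective
    have := card_linearIndependent (K := F) (V := ↥W.1) (k := m) (by rw [W.2.1])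
    rw [this, W.2.1]
  rw [Finset.sum_congr rfl (fun W _ => h W), Finset.sum_const, Finset.card_univ, smul_eq_mul,
    Nat.card_eq_fintype_card]

/-- a prime dividing the number of totally isotropic `m`-spaces -/
theorem exists_of_dvd_card_tisub (halt : ∀ v, B v v = 0) (hnd : ∀ v, (∀ w, B v w = 0) → v = 0)
    (m : ℕ) (hm : 2 * m ≤ finrank F V) (r : ℕ) (hr : r.Prime) (h : r ∣ Nat.card (TiSub B m)) :
    ∃ j, j < m ∧ r ∣ Fintype.card F ^ (finrank F V - 2 * j) - 1 := by
  have hq : 2 ≤ Fintype.card F := Fintype.one_lt_card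
  have h1 := card_tisub_mul B halt hnd m
  have hL : ∏ i : Fin m, (Fintype.card F ^ m - Fintype.card F ^ i.val) =
      (∏ i : Fin m, Fintype.card F ^ i.val) *
        ∏ i : Fin m, (Fintype.card F ^ (m - i.val) - 1) := by
    rw [← Finset.prod_mul_distrib]
    apply Finset.prod_congr rfl
    intro i _
    rw [Nat.mul_sub, mul_one, ← pow_add, Nat.add_sub_cancel' i.2.le]
  have hR : ∏ j : Fin m, (Fintype.card F ^ (finrank F V - j.val) - Fintype.card F ^ j.val) =
      (∏ i : Fin m, Fintype.card F ^ i.val) *
        ∏ j : Fin m, (Fintype.card F ^ (finrank F V - 2 * j.val) - 1) := by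
    rw [← Finset.prod_mul_distrib]
    apply Finset.prod_congr rfl
    intro j _
    have hj : j.val + (finrank F V - 2 * j.val) = finrank F V - j.val := by
      have := j.2
      omega
    rw [Nat.mul_sub, mul_one, ← pow_add, hj]
  rw [hL, hR] at h1
  have hQ : 0 < ∏ i : Fin m, Fintype.card F ^ i.val :=
    Finset.prod_pos (fun i _ => pos_of_ne_zero (pow_ne_zero _ (by omega)))
  have h2 : Nat.card (TiSub B m) * ∏ i : Fin m, (Fintype.card F ^ (m - i.val) - 1) =
      ∏ j : Fin m, (Fintype.card F ^ (finrank F V - 2 * j.val) - 1) := by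
    apply Nat.eq_of_mul_eq_mul_left hQ
    rw [← h1]
    ring
  have h3 : r ∣ ∏ j : Fin m, (Fintype.card F ^ (finrank F V - 2 * j.val) - 1) := by
    rw [← h2]
    exact h.mul_right _
  obtain ⟨j, -, hj⟩ := (Prime.dvd_finset_prod_iff hr.prime _).mp h3
  exact ⟨j.val, j.2, hj⟩

end ticount

end Cfsg.Agent.Lib.H24.Elus
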