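import Mathlib
import Cfsg.Agent.Lib.H24.DnE

set_option autoImplicit false
set_option linter.unusedSectionVars false

/-!
# Four-dimensional spaces of plus type: hyperbolic bases, and the pair of elliptic planes over
the field with two elements (helper24)
-/

namespace Cfsg.Agent.Lib.H24.Dn

open Module Matrix QuadraticMap
open Cfsg.Agent.Lib.H29.Orth Cfsg.Agent.Lib.H24.Tn

variable {ι : Type} [Fintype ι] [DecidableEq ι] {F : Type*} [Field F]

/-- a family of as many vectors as the dimension which is linearly independent spans -/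
theorem span_of_indep4 (W : Submodule F (ι → F)) (hW : finrank F W = 4) (b : Fin 4 → ι → F)
    (hbW : ∀ j, b j ∈ W) (hind : ∀ c : Fin 4 → F, ∑ j, c j • b j = 0 → ∀ j, c j = 0) :
    ∀ x ∈ W, ∃ c : Fin 4 → F, x = ∑ j, c j • b j := by
  have li : LinearIndependent F (fun j => (⟨b j, hbW j⟩ : W)) := by
    rw [Fintype.linearIndependent_iff]
    intro g hg
    apply hind
    have := congrArg Subtype.val hg
    simpa using this
  have htop := li.span_eq_top_of_card_eq_finrank' (by simp [hW])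
  intro x hx
  have hmem : (⟨x, hx⟩ : W) ∈ Submodule.span F (Set.range fun j => (⟨b j, hbW j⟩ : W)) := by
    rw [htop]; trivial
  obtain ⟨c, hc⟩ := (Submodule.mem_span_range_iff_exists_fun F).mp hmem
  refine ⟨c, ?_⟩
  have := congrArg Subtype.val hc
  simpa using this.symm

/-- a non-degenerate four-dimensional space of plus type has a hyperbolic basis -/
theorem exists_hyperbolic_basis4 (Q : QuadraticForm F (ι → F)) (W : Submodule F (ι → F))
    (hdim : finrank F W = 4) (hW : Cfsg.Geo.IsNondegenerateOn (polar (⇑Q)) W)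
    (hplus : Cfsg.Geo.IsPlusTypeOn (⇑Q) W) :
    ∃ u1 v1 u2 v2 : ι → F, u1 ∈ W ∧ v1 ∈ W ∧ u2 ∈ W ∧ v2 ∈ W ∧ Q u1 = 0 ∧ Q v1 = 0 ∧ Q u2 = 0 ∧
      Q v2 = 0 ∧ polar Q u1 v1 = 1 ∧ polar Q u2 v2 = 1 ∧ polar Q u1 u2 = 0 ∧ polar Q u1 v2 = 0 ∧
      polar Q v1 u2 = 0 ∧ polar Q v1 v2 = 0 ∧
      ∀ x ∈ W, ∃ α1 β1 α2 β2 : F, x = α1 • u1 + β1 • v1 + α2 • u2 + β2 • v2 := by
  obtain ⟨U, hUW, hUs, hUd⟩ := hplus
  have hU2 : finrank F U = 2 := by omega
  have hUne : U ≠ ⊥ := by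
    rintro rfl
    simp at hU2
  obtain ⟨u1, hu1U, hu10⟩ := (Submodule.ne_bot_iff U).mp hUne
  have hu1W := hUW hu1U
  have hQu1 : Q u1 = 0 := hUs u1 hu1U
  have p11 : polar Q u1 u1 = 0 := by rw [polar_self', hQu1, mul_zero]
  -- the partner of `u1`
  obtain ⟨x, hxW, hx⟩ := (hW u1 hu1W hu10).2
  have h1 : polar Q u1 ((polar Q u1 x)⁻¹ • x) = 1 := by
    rw [polar_smul_right, smul_eq_mul, inv_mul_cancel₀ hx]
  have hx1W : (polar Q u1 x)⁻¹ • x ∈ W := W.smul_mem _ hxW
  generalize (polar Q u1 x)⁻¹ • x = x1 at h1 hx1W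
  have hQv1 : Q (x1 + (-(Q x1)) • u1) = 0 := by
    rw [QuadraticMap.map_add (⇑Q), QuadraticMap.map_smul, hQu1, polar_smul_right, polar_comm, h1]
    simp
  have hu1v1 : polar Q u1 (x1 + (-(Q x1)) • u1) = 1 := by
    rw [polar_add_right, polar_smul_right, p11, h1]
    simp
  have hv1W : x1 + (-(Q x1)) • u1 ∈ W := W.add_mem hx1W (W.smul_mem _ hu1W)
  generalize x1 + (-(Q x1)) • u1 = v1 at hQv1 hu1v1 hv1W
  have hv1u1 : polar Q v1 u1 = 1 := by rw [polar_comm, hu1v1]
  have p22 : polar Q v1 v1 = 0 := by rw [polar_self', hQv1, mul_zero]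
  -- a second singular vector, orthogonal to `v1`
  let f : U →ₗ[F] F := (polarBilin Q v1).comp U.subtype
  have hker : LinearMap.ker f ≠ ⊥ := by
    apply LinearMap.ker_ne_bot_of_finrank_lt
    rw [Module.finrank_self, hU2]
    norm_num
  obtain ⟨u2', hu2ker, hu2'0⟩ := (Submodule.ne_bot_iff _).mp hker
  obtain ⟨u2, hu2U⟩ := u2'
  have hu20 : u2 ≠ 0 := fun h => hu2'0 (Subtype.ext h)
  have hv1u2 : polar Q v1 u2 = 0 := LinearMap.mem_ker.mp hu2ker
  have hu2W := hUW hu2U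
  have hQu2 : Q u2 = 0 := hUs u2 hu2U
  have p33 : polar Q u2 u2 = 0 := by rw [polar_self', hQu2, mul_zero]
  have hu1u2 : polar Q u1 u2 = 0 := by
    have := hUs _ (U.add_mem hu1U hu2U)
    rw [QuadraticMap.map_add (⇑Q), hQu1, hQu2, zero_add, zero_add] at this
    exact this
  have hu2u1 : polar Q u2 u1 = 0 := by rw [polar_comm, hu1u2]
  have hu2v1 : polar Q u2 v1 = 0 := by rw [polar_comm, hv1u2]
  -- the partner of `u2`
  obtain ⟨y, hyW, hy⟩ := (hW u2 hu2W hu20).2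
  have h2 : polar Q u2 ((polar Q u2 y)⁻¹ • y) = 1 := by
    rw [polar_smul_right, smul_eq_mul, inv_mul_cancel₀ hy]
  have hy1W : (polar Q u2 y)⁻¹ • y ∈ W := W.smul_mem _ hyW
  generalize (polar Q u2 y)⁻¹ • y = y1 at h2 hy1W
  have hy2W : y1 + (-(polar Q y1 v1)) • u1 + (-(polar Q y1 u1)) • v1 ∈ W :=
    W.add_mem (W.add_mem hy1W (W.smul_mem _ hu1W)) (W.smul_mem _ hv1W)
  have e1 : polar Q u1 (y1 + (-(polar Q y1 v1)) • u1 + (-(polar Q y1 u1)) • v1) = 0 := by
    rw [polar_add_right, polar_add_right, polar_smul_right, polar_smul_right, p11, hu1v1,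
      polar_comm Q u1 y1]
    simp
  have e2 : polar Q v1 (y1 + (-(polar Q y1 v1)) • u1 + (-(polar Q y1 u1)) • v1) = 0 := by
    rw [polar_add_right, polar_add_right, polar_smul_right, polar_smul_right, p22, hv1u1,
      polar_comm Q v1 y1]
    simp
  have e3 : polar Q u2 (y1 + (-(polar Q y1 v1)) • u1 + (-(polar Q y1 u1)) • v1) = 1 := by
    rw [polar_add_right, polar_add_right, polar_smul_right, polar_smul_right, hu2u1, hu2v1, h2]
    simp
  generalize y1 + (-(polar Q y1 v1)) • u1 + (-(polar Q y1 u1)) • v1 = y2 at hy2W e1 e2 e3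
  have hQv2 : Q (y2 + (-(Q y2)) • u2) = 0 := by
    rw [QuadraticMap.map_add (⇑Q), QuadraticMap.map_smul, hQu2, polar_smul_right, polar_comm, e3]
    simp
  have hu2v2 : polar Q u2 (y2 + (-(Q y2)) • u2) = 1 := by
    rw [polar_add_right, polar_smul_right, p33, e3]
    simp
  have hu1v2 : polar Q u1 (y2 + (-(Q y2)) • u2) = 0 := by
    rw [polar_add_right, polar_smul_right, hu1u2, e1]
    simp
  have hv1v2 : polar Q v1 (y2 + (-(Q y2)) • u2) = 0 := by
    rw [polar_add_right, polar_smul_right, hv1u2, e2]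
    simp
  have hv2W : y2 + (-(Q y2)) • u2 ∈ W := W.add_mem hy2W (W.smul_mem _ hu2W)
  generalize y2 + (-(Q y2)) • u2 = v2 at hQv2 hu2v2 hu1v2 hv1v2 hv2W
  have hv2u2 : polar Q v2 u2 = 1 := by rw [polar_comm, hu2v2]
  have hv2u1 : polar Q v2 u1 = 0 := by rw [polar_comm, hu1v2]
  have hv2v1 : polar Q v2 v1 = 0 := by rw [polar_comm, hv1v2]
  have p44 : polar Q v2 v2 = 0 := by rw [polar_self', hQv2, mul_zero]
  refine ⟨u1, v1, u2, v2, hu1W, hv1W, hu2W, hv2W, hQu1, hQv1, hQu2, hQv2, hu1v1, hu2v2, hu1u2,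
    hu1v2, hv1u2, hv1v2, ?_⟩
  intro x hx
  obtain ⟨c, hc⟩ := span_of_indep4 W hdim ![u1, v1, u2, v2] (by
    intro j; fin_cases j <;> simp [hu1W, hv1W, hu2W, hv2W]) (by
    intro c hc
    rw [Fin.sum_univ_four] at hc
    simp only [Matrix.cons_val_zero, Matrix.cons_val_one, Matrix.cons_val] at hc
    have k0 := congrArg (fun w => polar Q w v1) hc
    have k1 := congrArg (fun w => polar Q w u1) hc
    have k2 := congrArg (fun w => polar Q w v2) hc
    have k3 := congrArg (fun w => polar Q w u2) hc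
    simp only [polar_add_left, polar_smul_left, polar_zero_left, smul_eq_mul, p11, p22, p33, p44,
      hu1v1, hv1u1, hu2v2, hv2u2, hu1u2, hu2u1, hu1v2, hv2u1, hv1u2, hu2v1, hv1v2, hv2v1,
      mul_zero, mul_one, add_zero, zero_add] at k0 k1 k2 k3
    intro j
    fin_cases j
    · exact k0
    · exact k1
    · exact k2
    · exact k3) x hx
  refine ⟨c 0, c 1, c 2, c 3, ?_⟩
  rw [hc, Fin.sum_univ_four]
  simp

end Cfsg.Agent.Lib.H24.Dn
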