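import Mathlib
import Cfsg.Agent.Lib.H24.DnF
import Cfsg.Agent.Lib.H13.OUni1

set_option autoImplicit false
set_option linter.unusedSectionVars false

/-!
# Decompositions into four-dimensional spaces of plus type over the field with two elements
(helper24)

Every block is the orthogonal sum of two elliptic planes whose non-zero vectors are the
non-singular vectors of the block; the intermediate subgroup is the stabiliser in `Ω` of the set of
non-singular vectors of the blocks.
-/

namespace Cfsg.Agent.Lib.H24.Dn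

open Module Matrix QuadraticMap
open Cfsg.Agent.Lib.H29.Orth Cfsg.Agent.Lib.H24.Tn

variable {ι : Type} [Fintype ι] [DecidableEq ι] {F : Type*} [Field F]

/-- the two elliptic planes of a four-dimensional space of plus type over `𝔽₂` -/
theorem exists_elliptic_pair [Fintype F] (hq : Fintype.card F = 2) (Q : QuadraticForm F (ι → F))
    (W : Submodule F (ι → F)) (hdim : finrank F W = 4)
    (hW : Cfsg.Geo.IsNondegenerateOn (polar (⇑Q)) W) (hplus : Cfsg.Geo.IsPlusTypeOn (⇑Q) W) :
    ∃ p q p' q' : ι → F, p ∈ W ∧ q ∈ W ∧ p' ∈ W ∧ q' ∈ W ∧ Q p = 1 ∧ Q q = 1 ∧ Q p' = 1 ∧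
      Q q' = 1 ∧ polar Q p q = 1 ∧ polar Q p' q' = 1 ∧ polar Q p p' = 0 ∧ polar Q p q' = 0 ∧
      polar Q q p' = 0 ∧ polar Q q q' = 0 ∧
      ∀ x ∈ W, Q x = 1 → x = p ∨ x = q ∨ x = p + q ∨ x = p' ∨ x = q' ∨ x = p' + q' := by
  have h2 := f2_two (F := F) hq
  have h11 : (1 : F) + 1 = 0 := by rw [← h2]; norm_num
  obtain ⟨u1, v1, u2, v2, hu1W, hv1W, hu2W, hv2W, hQu1, hQv1, hQu2, hQv2, hu1v1, hu2v2, hu1u2,
    hu1v2, hv1u2, hv1v2, hsp⟩ := exists_hyperbolic_basis4 Q W hdim hW hplus
  have pself : ∀ x : ι → F, polar Q x x = 0 := polar_self_zero (Q := Q) h2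
  have hv1u1 : polar Q v1 u1 = 1 := by rw [polar_comm, hu1v1]
  have hv2u2 : polar Q v2 u2 = 1 := by rw [polar_comm, hu2v2]
  have hu2u1 : polar Q u2 u1 = 0 := by rw [polar_comm, hu1u2]
  have hv2u1 : polar Q v2 u1 = 0 := by rw [polar_comm, hu1v2]
  have hu2v1 : polar Q u2 v1 = 0 := by rw [polar_comm, hv1u2]
  have hv2v1 : polar Q v2 v1 = 0 := by rw [polar_comm, hv1v2]
  have Qadd : ∀ x y : ι → F, Q (x + y) = Q x + Q y + polar Q x y := QuadraticMap.map_add (⇑Q)
  refine ⟨u1 + v1, u2 + v2 + u1, u2 + v2, u1 + v1 + u2, W.add_mem hu1W hv1W,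
    W.add_mem (W.add_mem hu2W hv2W) hu1W, W.add_mem hu2W hv2W,
    W.add_mem (W.add_mem hu1W hv1W) hu2W, ?_, ?_, ?_, ?_, ?_, ?_, ?_, ?_, ?_, ?_, ?_⟩
  · rw [Qadd, hQu1, hQv1, hu1v1]; ring
  · rw [Qadd, Qadd, hQu2, hQv2, hQu1, hu2v2, polar_add_left, hu2u1, hv2u1]; ring
  · rw [Qadd, hQu2, hQv2, hu2v2]; ring
  · rw [Qadd, Qadd, hQu1, hQv1, hQu2, hu1v1, polar_add_left, hu1u2, hv1u2]; ring
  · simp only [polar_add_left, polar_add_right, pself, hu1u2, hu1v2, hv1u2, hv1v2, hv1u1]
    ring
  · simp only [polar_add_left, polar_add_right, pself, hu2u1, hu2v1, hv2u1, hv2v1, hv2u2]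
    ring
  · simp only [polar_add_left, polar_add_right, hu1u2, hu1v2, hv1u2, hv1v2]
    ring
  · simp only [polar_add_left, polar_add_right, pself, hu1u2, hv1u2, hu1v1, hv1u1]
    first | linear_combination h2 | ring1
  · simp only [polar_add_left, polar_add_right, pself, hu2v2, hv2u2, hu1u2, hu1v2]
    first | linear_combination h2 | ring1
  · simp only [polar_add_left, polar_add_right, pself, hu2u1, hu2v1, hv2u1, hv2v1, hv2u2, hu1v1,
      hu1u2]
    first | linear_combination h2 | ring1
  · intro x hx hQx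
    obtain ⟨α1, β1, α2, β2, rfl⟩ := hsp x hx
    have hQ' : α1 * β1 + α2 * β2 = 1 := by
      rw [← hQx]
      simp only [Qadd, QuadraticMap.map_smul, polar_add_left, polar_smul_left, polar_smul_right,
        hQu1, hQv1, hQu2, hQv2, hu1v1, hu2v2, hu1u2, hu1v2, hv1u2, hv1v2, smul_eq_mul]
      ring
    rcases f2_cases hq α1 with rfl | rfl <;> rcases f2_cases hq β1 with rfl | rfl <;>
      rcases f2_cases hq α2 with rfl | rfl <;> rcases f2_cases hq β2 with rfl | rfl <;>
      simp only [mul_zero, zero_mul, mul_one, add_zero, zero_add, h11, zero_ne_one,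
        one_ne_zero] at hQ'
    · -- (0,0,1,1)
      right; right; right; left
      simp
    · -- (0,1,1,1) = p + q
      right; right; left
      simp only [zero_smul, one_smul, zero_add]
      linear_combination (norm := module) (-h2) • u1
    · -- (1,0,1,1) = q
      right; left
      simp only [zero_smul, one_smul, add_zero]
      abel
    · -- (1,1,0,0) = p
      left
      simp
    · -- (1,1,0,1) = p' + q'
      right; right; right; right; right
      simp only [zero_smul, one_smul, add_zero]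
      linear_combination (norm := module) (-h2) • u2
    · -- (1,1,1,0) = q'
      right; right; right; right; left
      simp

end Cfsg.Agent.Lib.H24.Dn
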