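/-
EO project (even-dimensional orthogonal rows), phase 2, small-`q` class-2 exclusions, part e (helper24):
**E4**: `q = 2`, blocks of dimension 4 and plus type.  Every block is the orthogonal sum of its two elliptic planes
(the non-singular vectors of the block are the non-zero vectors of these two planes), and an isometry stabilising
the decomposition permutes the `2 t` planes.
-/
import Cfsg.Agent.Lib.H24.AschEO2C2c
import Cfsg.Agent.Lib.H24.DnG

set_option autoImplicit false

namespace Cfsg.Agent.Lib.H24.EOP2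

open Cfsg Cfsg.Geo Module
open scoped MatrixGroups Matrix

variable {ι : Type} [Fintype ι] [DecidableEq ι] {F : Type*} [Field F]

theorem quad_smul_add_smul {Q : (ι → F) → F} (hQ : IsNondegenerateQuadraticForm Q) (u v : ι → F) (α β : F) :
    Q (α • u + β • v) = α ^ 2 * Q u + β ^ 2 * Q v + α * β * QuadraticMap.polar Q u v := by
  rw [quad_add (Q := Q), hQ.smul, hQ.smul, hQ.polar_bilinear.smul_left, hQ.polar_bilinear.smul_right]
  ring

theorem polar_pair_pair {Q : (ι → F) → F} (hQ : IsNondegenerateQuadraticForm Q) (u v u' v' : ι → F)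
    (α β α' β' : F) :
    QuadraticMap.polar Q (α • u + β • v) (α' • u' + β' • v') =
      α * α' * QuadraticMap.polar Q u u' + α * β' * QuadraticMap.polar Q u v' +
        β * α' * QuadraticMap.polar Q v u' + β * β' * QuadraticMap.polar Q v v' := by
  have hb := hQ.polar_bilinear
  simp only [hb.add_left, hb.add_right, hb.smul_left, hb.smul_right]
  ring

theorem mem_span_pair_iff (u v x : ι → F) :
    x ∈ Submodule.span F (Set.range ![u, v]) ↔ ∃ α β : F, x = α • u + β • v := by
  rw [Submodule.mem_span_range_iff_exists_fun]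
  constructor
  · rintro ⟨c, hc⟩
    refine ⟨c 0, c 1, ?_⟩
    rw [← hc, Fin.sum_univ_two]
    rfl
  · rintro ⟨α, β, rfl⟩
    refine ⟨![α, β], ?_⟩
    rw [Fin.sum_univ_two]
    rfl

/-- planes with bases having the same Gram data are isometric -/
theorem areIsometricFor_span_pair {Q : (ι → F) → F} (hQ : IsNondegenerateQuadraticForm Q) {u v u' v' : ι → F}
    (hli : LinearIndependent F ![u, v]) (hli' : LinearIndependent F ![u', v'])
    (hu : Q u' = Q u) (hv : Q v' = Q v)
    (huv : QuadraticMap.polar Q u' v' = QuadraticMap.polar Q u v) :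
    AreIsometricFor Q (Submodule.span F (Set.range ![u, v])) (Submodule.span F (Set.range ![u', v'])) := by
  set b := Basis.span hli with hb
  set b' := Basis.span hli' with hb'
  refine ⟨b.equiv b' (Equiv.refl _), fun x => ?_⟩
  have hx : (x : ι → F) = b.repr x 0 • u + b.repr x 1 • v := by
    conv_lhs => rw [← b.sum_repr x]
    rw [Fin.sum_univ_two, Submodule.coe_add, Submodule.coe_smul, Submodule.coe_smul, hb, Basis.span_apply,
      Basis.span_apply]
    rfl
  have hex : ((b.equiv b' (Equiv.refl _) x : Submodule.span F (Set.range ![u', v'])) : ι → F) =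
      b.repr x 0 • u' + b.repr x 1 • v' := by
    conv_lhs => rw [← b.sum_repr x]
    rw [map_sum, Fin.sum_univ_two, map_smul, map_smul, Basis.equiv_apply, Basis.equiv_apply,
      Equiv.refl_apply, Equiv.refl_apply, Submodule.coe_add, Submodule.coe_smul, Submodule.coe_smul, hb',
      Basis.span_apply, Basis.span_apply]
    rfl
  rw [hex, hx, quad_smul_add_smul hQ, quad_smul_add_smul hQ, hu, hv, huv]

/-- an invertible matrix mapping a subspace into a subspace of the same dimension maps it onto it -/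
theorem map_eq_of_forall_mem' (g : GL ι F) (W W' : Submodule F (ι → F)) (hdim : finrank F W = finrank F W')
    (h : ∀ x ∈ W, (g : Matrix ι ι F) *ᵥ x ∈ W') : W.map (Matrix.toLin' (g : Matrix ι ι F)) = W' := by
  apply Submodule.eq_of_le_of_finrank_eq
  · rintro _ ⟨x, hx, rfl⟩
    rw [Matrix.toLin'_apply]
    exact h x hx
  · rw [← hdim]
    exact (LinearEquiv.finrank_eq (Submodule.equivMapOfInjective _ (toLin'_gl_injective g) W)).symm

section F2

variable [Fintype F]

open Cfsg.Agent.Lib.H29.Orth Cfsg.Agent.Lib.H24.Dn Cfsg.Agent.Lib.H24.Tn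

/-- elliptic pairs over `𝔽₂`: `Q u = Q v = f (u, v) = 1` -/
theorem linearIndependent_elliptic (hq : Fintype.card F = 2) {Q : (ι → F) → F}
    (hQ : IsNondegenerateQuadraticForm Q) {u v : ι → F} (huv : QuadraticMap.polar Q u v = 1) :
    LinearIndependent F ![u, v] := by
  have h2 := f2_two (F := F) hq
  have pself : ∀ x : ι → F, QuadraticMap.polar Q x x = 0 := fun x => by
    rw [polar_self_eq hQ, h2, zero_mul]
  rw [LinearIndependent.pair_iff]
  intro s t hst
  have h1 : QuadraticMap.polar Q (s • u + t • v) ((1 : F) • u + (0 : F) • v) = 0 := by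
    rw [hst]
    have := hQ.polar_bilinear.smul_left 0 0 ((1 : F) • u + (0 : F) • v)
    rw [zero_smul, zero_mul] at this
    exact this
  have h3 : QuadraticMap.polar Q (s • u + t • v) ((0 : F) • u + (1 : F) • v) = 0 := by
    rw [hst]
    have := hQ.polar_bilinear.smul_left 0 0 ((0 : F) • u + (1 : F) • v)
    rw [zero_smul, zero_mul] at this
    exact this
  rw [polar_pair_pair hQ, pself, pself, huv] at h1 h3
  have hvu : QuadraticMap.polar Q v u = 1 := by rw [QuadraticMap.polar_comm]; exact huv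
  rw [hvu] at h1 h3
  constructor
  · linear_combination h3
  · linear_combination h1

theorem elliptic_norm (hq : Fintype.card F = 2) {Q : (ι → F) → F}
    (hQ : IsNondegenerateQuadraticForm Q) {u v : ι → F} (hu : Q u = 1) (hv : Q v = 1)
    (huv : QuadraticMap.polar Q u v = 1) (α β : F) (h : α • u + β • v ≠ 0) : Q (α • u + β • v) = 1 := by
  have h2 := f2_two (F := F) hq
  rw [quad_smul_add_smul hQ, hu, hv, huv]
  rcases f2_cases hq α with rfl | rfl <;> rcases f2_cases hq β with rfl | rfl
  · simp at h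
  · ring
  · ring
  · linear_combination h2

/-- **E4**: `q = 2`, blocks of dimension 4 and plus type ⇒ `2 t` minus-type planes. -/
theorem c4_plus_q2 (hq : Fintype.card F = 2) {Q : (ι → F) → F} (hQ : IsNondegenerateQuadraticForm Q)
    {t : ℕ} (D : Fin t → Submodule F (ι → F)) (hD : IsOrthogonalMDecomposition Q 4 D)
    (hplus : ∀ i, IsPlusTypeOn Q (D i)) {r : ℕ} (hr : r = t * 2) :
    ∃ D2 : Fin r → Submodule F (ι → F), IsOrthogonalMDecomposition Q 2 D2 ∧
      (∀ a, ¬ IsPlusTypeOn Q (D2 a)) ∧
      decompositionStabilizer D ⊓ isometryGroup F Q ≤ decompositionStabilizer D2 := by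
  subst hr
  have h2 := f2_two (F := F) hq
  have hpb := hQ.polar_bilinear
  have pself : ∀ x : ι → F, QuadraticMap.polar Q x x = 0 := fun x => by
    rw [polar_self_eq hQ, h2, zero_mul]
  have hcard : t * 4 = Fintype.card ι := card_eq_of_isMDecomposition hD.decomp.decomp
  have ht : 2 ≤ t := hD.decomp.decomp.two_le
  have hall : ∀ i, ∃ p q p' q' : ι → F, p ∈ D i ∧ q ∈ D i ∧ p' ∈ D i ∧ q' ∈ D i ∧ Q p = 1 ∧
      Q q = 1 ∧ Q p' = 1 ∧ Q q' = 1 ∧ QuadraticMap.polar Q p q = 1 ∧ QuadraticMap.polar Q p' q' = 1 ∧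
      QuadraticMap.polar Q p p' = 0 ∧ QuadraticMap.polar Q p q' = 0 ∧ QuadraticMap.polar Q q p' = 0 ∧
      QuadraticMap.polar Q q q' = 0 ∧
      ∀ x ∈ D i, Q x = 1 → x = p ∨ x = q ∨ x = p + q ∨ x = p' ∨ x = q' ∨ x = p' + q' :=
    fun i => exists_elliptic_pair hq (toQF Q hQ) (D i) (hD.decomp.decomp.finrank_eq i)
      (hD.decomp.nondegenerate i) (hplus i)
  choose p q p' q' hpD hqD hp'D hq'D hQp hQq hQp' hQq' hpq hp'q' hpp' hpq' hqp' hqq' hstr using hall
  set uu : Fin t → Fin 2 → (ι → F) := fun i a => if a = 0 then p i else p' i with huu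
  set vv : Fin t → Fin 2 → (ι → F) := fun i a => if a = 0 then q i else q' i with hvv
  set E : Fin t → Fin 2 → Submodule F (ι → F) :=
    fun i a => Submodule.span F (Set.range ![uu i a, vv i a]) with hE
  have two_cases : ∀ a : Fin 2, a = 0 ∨ a = 1 := fun a => by omega
  have huD : ∀ i a, uu i a ∈ D i := by
    intro i a
    simp only [huu]
    split_ifs
    · exact hpD i
    · exact hp'D i
  have hvD : ∀ i a, vv i a ∈ D i := by
    intro i a
    simp only [hvv]
    split_ifs
    · exact hqD i
    · exact hq'D i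
  have hQu : ∀ i a, Q (uu i a) = 1 := by
    intro i a
    simp only [huu]
    split_ifs
    · exact hQp i
    · exact hQp' i
  have hQv : ∀ i a, Q (vv i a) = 1 := by
    intro i a
    simp only [hvv]
    split_ifs
    · exact hQq i
    · exact hQq' i
  have huv : ∀ i a, QuadraticMap.polar Q (uu i a) (vv i a) = 1 := by
    intro i a
    simp only [huu, hvv]
    split_ifs
    · exact hpq i
    · exact hp'q' i
  have hcross : ∀ i a b, a ≠ b → QuadraticMap.polar Q (uu i a) (uu i b) = 0 ∧
      QuadraticMap.polar Q (uu i a) (vv i b) = 0 ∧ QuadraticMap.polar Q (vv i a) (uu i b) = 0 ∧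
      QuadraticMap.polar Q (vv i a) (vv i b) = 0 := by
    intro i a b hab
    rcases two_cases a with rfl | rfl <;> rcases two_cases b with rfl | rfl
    · exact absurd rfl hab
    · simp only [huu, hvv, Fin.isValue, one_ne_zero, ↓reduceIte]
      exact ⟨hpp' i, hpq' i, hqp' i, hqq' i⟩
    · simp only [huu, hvv, Fin.isValue, one_ne_zero, ↓reduceIte]
      refine ⟨?_, ?_, ?_, ?_⟩
      · rw [QuadraticMap.polar_comm]; exact hpp' i
      · rw [QuadraticMap.polar_comm]; exact hqp' i
      · rw [QuadraticMap.polar_comm]; exact hpq' i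
      · rw [QuadraticMap.polar_comm]; exact hqq' i
    · exact absurd rfl hab
  have hED : ∀ i a, E i a ≤ D i := by
    intro i a
    simp only [hE]
    rw [Submodule.span_le]
    rintro _ ⟨j, rfl⟩
    rcases two_cases j with rfl | rfl
    · exact huD i a
    · exact hvD i a
  have huE : ∀ i a, uu i a ∈ E i a := fun i a => Submodule.subset_span ⟨0, rfl⟩
  have hvE : ∀ i a, vv i a ∈ E i a := fun i a => Submodule.subset_span ⟨1, rfl⟩
  have hli : ∀ i a, LinearIndependent F ![uu i a, vv i a] := fun i a =>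
    linearIndependent_elliptic hq hQ (huv i a)
  have hEdim : ∀ i a, finrank F (E i a) = 2 := by
    intro i a
    show finrank F (Submodule.span F (Set.range ![uu i a, vv i a])) = 2
    rw [finrank_span_eq_card (hli i a), Fintype.card_fin]
  have hEorth : ∀ i a b, a ≠ b → AreOrthogonalFor (QuadraticMap.polar Q) (E i a) (E i b) := by
    intro i a b hab x hx y hy
    obtain ⟨α, β, rfl⟩ := (mem_span_pair_iff _ _ _).1 hx
    obtain ⟨α', β', rfl⟩ := (mem_span_pair_iff _ _ _).1 hy
    obtain ⟨c1, c2, c3, c4⟩ := hcross i a b hab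
    rw [polar_pair_pair hQ, c1, c2, c3, c4]
    ring
  have hEstr : ∀ i, ∀ x ∈ D i, Q x = 1 → ∃ a, x ∈ E i a := by
    intro i x hx hQx
    have e0u : uu i 0 = p i := by simp [huu]
    have e0v : vv i 0 = q i := by simp [hvv]
    have e1u : uu i 1 = p' i := by simp [huu]
    have e1v : vv i 1 = q' i := by simp [hvv]
    rcases hstr i x hx hQx with rfl | rfl | rfl | rfl | rfl | rfl
    · exact ⟨0, by rw [← e0u]; exact huE i 0⟩
    · exact ⟨0, by rw [← e0v]; exact hvE i 0⟩
    · exact ⟨0, by rw [← e0u, ← e0v]; exact (E i 0).add_mem (huE i 0) (hvE i 0)⟩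
    · exact ⟨1, by rw [← e1u]; exact huE i 1⟩
    · exact ⟨1, by rw [← e1v]; exact hvE i 1⟩
    · exact ⟨1, by rw [← e1u, ← e1v]; exact (E i 1).add_mem (huE i 1) (hvE i 1)⟩
  have hEnd : ∀ i a, IsNondegenerateOn (QuadraticMap.polar Q) (E i a) := by
    intro i a x hx hx0
    obtain ⟨α, β, rfl⟩ := (mem_span_pair_iff _ _ _).1 hx
    have hvu : QuadraticMap.polar Q (vv i a) (uu i a) = 1 := by
      rw [QuadraticMap.polar_comm]; exact huv i a
    have e1 : QuadraticMap.polar Q (α • uu i a + β • vv i a) ((1 : F) • uu i a + (0 : F) • vv i a) = β := by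
      rw [polar_pair_pair hQ, pself, pself, huv, hvu]; ring
    have e2 : QuadraticMap.polar Q (α • uu i a + β • vv i a) ((0 : F) • uu i a + (1 : F) • vv i a) = α := by
      rw [polar_pair_pair hQ, pself, pself, huv, hvu]; ring
    have m1 : (1 : F) • uu i a + (0 : F) • vv i a ∈ E i a :=
      (E i a).add_mem ((E i a).smul_mem _ (huE i a)) ((E i a).smul_mem _ (hvE i a))
    have m2 : (0 : F) • uu i a + (1 : F) • vv i a ∈ E i a :=
      (E i a).add_mem ((E i a).smul_mem _ (huE i a)) ((E i a).smul_mem _ (hvE i a))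
    by_cases hβ : β = 0
    · have hα : α ≠ 0 := by
        rintro rfl
        apply hx0
        rw [hβ, zero_smul, zero_smul, add_zero]
      exact ⟨⟨_, m2, by rw [QuadraticMap.polar_comm, e2]; exact hα⟩, ⟨_, m2, by rw [e2]; exact hα⟩⟩
    · exact ⟨⟨_, m1, by rw [QuadraticMap.polar_comm, e1]; exact hβ⟩, ⟨_, m1, by rw [e1]; exact hβ⟩⟩
  -- the reindexed family
  set pp : Fin (t * 2) ≃ Fin t × Fin 2 := finProdFinEquiv.symm with hpp
  set EE : Fin (t * 2) → Submodule F (ι → F) := fun a => E (pp a).1 (pp a).2 with hEE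
  have hEEorth : ∀ a b, a ≠ b → AreOrthogonalFor (QuadraticMap.polar Q) (EE a) (EE b) := by
    intro a b hab
    by_cases h1 : (pp a).1 = (pp b).1
    · have h2' : (pp a).2 ≠ (pp b).2 := by
        intro h2'
        exact hab (pp.injective (Prod.ext h1 h2'))
      simp only [hEE]
      rw [h1]
      exact hEorth _ _ _ h2'
    · intro x hx y hy
      exact hD.decomp.orthogonal _ _ h1 x (hED _ _ hx) y (hED _ _ hy)
  have hdec : IsNondegenerateMDecomposition (QuadraticMap.polar Q) 2 EE :=
    isNondegenerateMDecomposition_of_orthogonal hpb (by omega) (by norm_num) EE (fun a => hEdim _ _)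
      (by omega) (fun a => hEnd _ _) hEEorth
  have hiso : ∀ a b, AreIsometricFor Q (EE a) (EE b) := by
    intro a b
    simp only [hEE, hE]
    exact areIsometricFor_span_pair hQ (hli _ _) (hli _ _) (by rw [hQu, hQu]) (by rw [hQv, hQv])
      (by rw [huv, huv])
  refine ⟨EE, ⟨hdec, hiso⟩, ?_, ?_⟩
  · -- minus type
    intro a ⟨U, hUE, hUs, hUd⟩
    have hU1 : finrank F U = 1 := by
      have h2' : finrank F (EE a) = 2 := hEdim (pp a).1 (pp a).2
      rw [h2'] at hUd
      omega
    have hUne : U ≠ ⊥ := by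
      rintro rfl
      simp at hU1
    obtain ⟨x, hxU, hx0⟩ := (Submodule.ne_bot_iff U).mp hUne
    obtain ⟨α, β, rfl⟩ := (mem_span_pair_iff _ _ _).1 (hUE hxU)
    have := elliptic_norm hq hQ (hQu _ _) (hQv _ _) (huv _ _) α β hx0
    rw [hUs _ hxU] at this
    exact zero_ne_one this
  · -- the stabiliser
    intro g hg
    obtain ⟨⟨σ, hσ⟩, hgI⟩ := Subgroup.mem_inf.1 hg
    have hgQ := (Cfsg.Agent.Lib.H24.Asch.mem_isometryGroup_iff Q g).1 hgI
    have hgD : ∀ i, ∀ x ∈ D i, (g : Matrix ι ι F) *ᵥ x ∈ D (σ i) := by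
      intro i x hx
      rw [← hσ i]
      exact ⟨x, hx, by rw [Matrix.toLin'_apply]⟩
    have hEne : ∀ a, EE a ≠ ⊥ := by
      intro a h0
      have := hEdim (pp a).1 (pp a).2
      simp only [hEE] at h0
      rw [h0, finrank_bot] at this
      omega
    refine mem_decompositionStabilizer_of_perm EE hdec.decomp.indep hEne g ?_
    intro a
    set i := (pp a).1 with hi
    set a0 := (pp a).2 with ha0
    obtain ⟨b, hb⟩ := hEstr (σ i) _ (hgD i _ (huD i a0)) (by rw [hgQ]; exact hQu i a0)
    obtain ⟨b', hb'⟩ := hEstr (σ i) _ (hgD i _ (hvD i a0)) (by rw [hgQ]; exact hQv i a0)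
    have hbb : b' = b := by
      by_contra hne
      have h0 := hEorth (σ i) b b' (Ne.symm hne) _ hb _ hb'
      rw [Cfsg.Agent.Lib.H24.Asch.polar_isometry Q g hgI, huv] at h0
      exact one_ne_zero h0
    rw [hbb] at hb'
    refine ⟨pp.symm (σ i, b), ?_⟩
    have hEEb : EE (pp.symm (σ i, b)) = E (σ i) b := by
      simp only [hEE, Equiv.apply_symm_apply]
    rw [hEEb]
    apply map_eq_of_forall_mem' g (EE a) (E (σ i) b)
    · exact (hEdim (pp a).1 (pp a).2).trans (hEdim _ _).symm
    · intro x hx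
      obtain ⟨α, β, rfl⟩ := (mem_span_pair_iff _ _ _).1 hx
      rw [Matrix.mulVec_add, Matrix.mulVec_smul, Matrix.mulVec_smul]
      exact (E (σ i) b).add_mem ((E (σ i) b).smul_mem _ hb) ((E (σ i) b).smul_mem _ hb')

end F2

end Cfsg.Agent.Lib.H24.EOP2
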