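/-
EO project phase 2 (helper24): **EO2-E3** `exists_lines_of_minus_planes` with the EXACT signature of
tools/blueprints/EO2_sigs.lean - a wrapper of `c2_minus_q3` (Lib/H24/AschEO2C2a.lean); also the analogous
exact-`Fin n` wrappers of `c2_plus_q5` (E2e: `q = 5`, plus-type planes ⇒ isometric lines).
-/
import Cfsg.Agent.Lib.H24.AschEO2C2a

set_option autoImplicit false

namespace Cfsg.Agent.Lib.H24.EOP2

open Cfsg Cfsg.Geo
open scoped MatrixGroups Matrix

variable {F : Type*} [Field F] [Fintype F] {n : ℕ}

/-- **EO2-E3**: `q = 3`, isometric minus-type planes ⇒ an orthogonal frame of isometric lines. -/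
theorem exists_lines_of_minus_planes (hq : Fintype.card F = 3) (Q : (Fin n → F) → F) (hQ : IsNondegenerateQuadraticForm Q)
    {t : ℕ} (D : Fin t → Submodule F (Fin n → F)) (hD : IsOrthogonalMDecomposition Q 2 D)
    (hminus : ∀ i, ¬ IsPlusTypeOn Q (D i)) :
    ∃ D' : Fin n → Submodule F (Fin n → F), IsOrthogonalMDecomposition Q 1 D' ∧
      decompositionStabilizer D ⊓ isometryGroup F Q ≤ decompositionStabilizer D' := by
  have hn : n = t * 2 := by
    have := card_eq_of_isMDecomposition hD.decomp.decomp
    rw [Fintype.card_fin] at this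
    exact this.symm
  exact c2_minus_q3 hq hQ D hD hminus hn

/-- `q = 5`, isometric plus-type planes ⇒ an orthogonal frame of isometric lines (exact `Fin n` form). -/
theorem exists_lines_of_plus_planes_q5 (hq : Fintype.card F = 5) (Q : (Fin n → F) → F) (hQ : IsNondegenerateQuadraticForm Q)
    {t : ℕ} (D : Fin t → Submodule F (Fin n → F)) (hD : IsOrthogonalMDecomposition Q 2 D)
    (hplus : ∀ i, IsPlusTypeOn Q (D i)) :
    ∃ D' : Fin n → Submodule F (Fin n → F), IsOrthogonalMDecomposition Q 1 D' ∧
      decompositionStabilizer D ⊓ isometryGroup F Q ≤ decompositionStabilizer D' := by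
  have hn : n = t * 2 := by
    have := card_eq_of_isMDecomposition hD.decomp.decomp
    rw [Fintype.card_fin] at this
    exact this.symm
  exact c2_plus_q5 hq hQ D hD hplus hn

end Cfsg.Agent.Lib.H24.EOP2
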