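/-
EO project phase 2 (helper24), **EO2-H2a**: `q` odd, a quadratic form whose polar form is a tensor product of
symmetric forms in dimensions `3` and `n₂`, the second factor not of plus type, is not of plus type
(`V = D₀ ⊥ D₁ ⊥ D₂` with the `D_j` similar to the second factor: minus ⊥ minus = plus, plus ⊥ minus = minus).
-/
import Cfsg.Agent.Lib.H29.SymmF3
import Cfsg.Agent.Lib.H13.OES4
import Cfsg.Agent.Lib.H13.HypPairs

set_option autoImplicit false

namespace Cfsg.Agent.Lib.H24.EOP2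

open Matrix Cfsg Cfsg.Geo Module
open Cfsg.Agent.Lib.H29.Tensor Cfsg.Agent.Lib.H29.SymmF3 Cfsg.Agent.Lib.H29.Orth
open Cfsg.Agent.Lib.H24.Elus
open Cfsg.Agent.Lib.H13.OES
open Cfsg.Agent.Lib.H13.OSS
open Cfsg.Agent.Lib.H10.OrtNd (PB TS PlusOn PB_apply PB_symm PB_self TS_mono)

section scale

variable {F : Type*} [Field F] {V : Type*} [AddCommGroup V] [Module F V]

/-- scaling a quadratic form does not change its type -/
theorem plusOn_smul_iff (Q : QuadraticForm F V) (s : F) (hs : s ≠ 0) (W : Submodule F V) :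
    PlusOn (s • Q) W ↔ PlusOn Q W := by
  constructor
  · rintro ⟨U, hUW, hU, hd⟩
    refine ⟨U, hUW, ?_, hd⟩
    intro w hw
    have := hU w hw
    rw [QuadraticMap.smul_apply, smul_eq_mul] at this
    rcases mul_eq_zero.mp this with h | h
    · exact absurd h hs
    · exact h
  · rintro ⟨U, hUW, hU, hd⟩
    refine ⟨U, hUW, ?_, hd⟩
    intro w hw
    rw [QuadraticMap.smul_apply, hU w hw, smul_zero]

end scale

variable {ι : Type} [Fintype ι] [DecidableEq ι] {F : Type*} [Field F] [Fintype F]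

/-- **EO2-H2a**: `q` odd, `Q` with polar form `f₁ ⊗ f₂`, `f₁` symmetric on `F^3`, `f₂` symmetric not of plus type:
`Q` is not of plus type -/
theorem not_plus_of_sym_tensor_three (hodd : Odd (Fintype.card F)) (Q : (ι → F) → F)
    (hQ : IsNondegenerateQuadraticForm Q) (n₂ : ℕ) (e : ι ≃ Fin 3 × Fin n₂) (P : GL ι F)
    (f₁ : (Fin 3 → F) → (Fin 3 → F) → F) (f₂ : (Fin n₂ → F) → (Fin n₂ → F) → F)
    (h₁ : IsSymmetricForm f₁) (h₂ : IsSymmetricForm f₂)
    (hT : IsTensorFormStructure id (QuadraticMap.polar Q) f₁ f₂ e P)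
    (hmin : ¬ IsPlusTypeOn (fun v : Fin n₂ → F => f₂ v v) ⊤) : ¬ IsPlusTypeOn Q ⊤ := by
  classical
  have h2 : (2 : F) ≠ 0 := Cfsg.Agent.Lib.H13.HypPairs.two_ne_zero_of_odd_card rfl hodd
  have hcard : Fintype.card ι = 3 * n₂ := by
    rw [Fintype.card_congr e, Fintype.card_prod, Fintype.card_fin, Fintype.card_fin]
  rcases Nat.even_or_odd n₂ with hev | hod
  swap
  · rintro ⟨U, -, -, hU⟩
    rw [finrank_top, Module.finrank_fintype_fun_eq_card, hcard] at hU
    obtain ⟨k, hk⟩ := hod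
    omega
  obtain ⟨c, hc0, hform⟩ := hT
  obtain ⟨b, hbo, hbd, -⟩ := exists_orth_basis_symm h2 f₁ h₁ (by simp : Fintype.card (Fin 3) = 3)
  obtain ⟨Q', hQ'def⟩ : ∃ Q' : QuadraticForm F (ι → F), Q' = toQF Q hQ := ⟨_, rfl⟩
  have hQ'app : ∀ v, Q' v = Q v := fun v => by rw [hQ'def]; rfl
  have hQ' : (QuadraticMap.polarBilin Q').Nondegenerate := by
    rw [hQ'def]; exact toQF_nondegenerate Q hQ
  have hPB : ∀ u v, PB Q' u v = QuadraticMap.polar Q u v := fun u v => by
    rw [PB_apply, hQ'def]; rfl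
  obtain ⟨q₂, hq₂def⟩ : ∃ q₂ : QuadraticForm F (Fin n₂ → F), q₂ = qfOfSymm f₂ h₂ := ⟨_, rfl⟩
  have hq₂app : ∀ w, q₂ w = f₂ w w := fun w => by rw [hq₂def]; rfl
  have hq₂pol : ∀ w w', QuadraticMap.polar q₂ w w' = 2 * f₂ w w' := fun w w' => by
    rw [hq₂def]; exact polar_qfOfSymm f₂ h₂ w w'
  have hQpol : ∀ v, Q v = (2 : F)⁻¹ * QuadraticMap.polar Q v v := by
    intro v
    have h : QuadraticMap.polar Q v v = 2 * Q v := by
      unfold QuadraticMap.polar
      have hv : v + v = (2 : F) • v := (two_smul F v).symm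
      rw [hv, hQ.smul]
      ring
    rw [h, ← mul_assoc, inv_mul_cancel₀ h2, one_mul]
  have hft := fun u u' z z' => form_tau e P h₁.bilinear h₂.bilinear c hform u u' z z'
  -- the three blocks
  let T : Fin 3 → ((Fin n₂ → F) →ₗ[F] (ι → F)) := fun j =>
    { toFun := fun w => tau e P (b j) w
      map_add' := tau_add_right e P (b j)
      map_smul' := fun a w => by
        rw [tau_smul_right]
        rfl }
  have hTapp : ∀ j w, T j w = tau e P (b j) w := fun j w => rfl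
  obtain ⟨s, hsdef⟩ : ∃ s : Fin 3 → F, s = fun j => (2 : F)⁻¹ * (c * f₁ (b j) (b j)) := ⟨_, rfl⟩
  have hs0 : ∀ j, s j ≠ 0 := by
    intro j
    rw [hsdef]
    exact mul_ne_zero (inv_ne_zero h2) (mul_ne_zero hc0 (hbd j))
  have hTQ : ∀ j w, Q' (T j w) = (s j • q₂) w := by
    intro j w
    rw [hQ'app, hTapp, hQpol, hft, QuadraticMap.smul_apply, hq₂app, hsdef, smul_eq_mul]
    ring
  have hnd : ∀ j, (QuadraticMap.polarBilin (s j • q₂)).Nondegenerate := by
    intro j
    apply nondeg_of_NDon_top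
    intro u _ hu
    by_contra hu0
    obtain ⟨x, hx⟩ := (h₂.nondegenerate u hu0).2
    have := hu x Submodule.mem_top
    rw [PB_apply, QuadraticMap.coeFn_smul, QuadraticMap.polar_smul, hq₂pol, smul_eq_mul] at this
    exact mul_ne_zero (hs0 j) (mul_ne_zero h2 hx) this
  have hinj : ∀ j, Function.Injective (T j) := by
    intro j
    rw [injective_iff_map_eq_zero]
    intro w hw
    apply NDon_top_of (s j • q₂) (hnd j) w Submodule.mem_top
    intro w' _
    rw [← PB_of_isometric Q' (s j • q₂) (T j) (hTQ j), hw, map_zero, LinearMap.zero_apply]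
  obtain ⟨D, hDdef⟩ : ∃ D : Fin 3 → Submodule F (ι → F), D = fun j => LinearMap.range (T j) :=
    ⟨_, rfl⟩
  have hDj : ∀ j, D j = LinearMap.range (T j) := fun j => by rw [hDdef]
  have hND : ∀ j, NDon (PB Q') (D j) := by
    intro j
    rw [hDj]
    exact NDon_range Q' (s j • q₂) (T j) (hTQ j) (hinj j) (hnd j)
  have hminus : ∀ j, ¬ PlusOn Q' (D j) := by
    intro j
    rw [hDj, PlusOn_range_iff Q' (s j • q₂) (T j) (hTQ j) (hinj j), plusOn_smul_iff q₂ (s j) (hs0 j)]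
    intro hp
    apply hmin
    obtain ⟨U, hUW, hU, hd⟩ := hp
    refine ⟨U, hUW, ?_, hd⟩
    intro w hw
    have := hU w hw
    rw [hq₂app] at this
    exact this
  have hfr : ∀ j, finrank F (D j) = n₂ := by
    intro j
    rw [hDj, LinearMap.finrank_range_of_inj (hinj j), Module.finrank_fintype_fun_eq_card,
      Fintype.card_fin]
  have horth : ∀ j j', j ≠ j' → ∀ u ∈ D j, ∀ v ∈ D j', PB Q' u v = 0 := by
    intro j j' hne u hu v hv
    rw [hDj] at hu hv
    obtain ⟨w, rfl⟩ := hu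
    obtain ⟨w', rfl⟩ := hv
    rw [hPB, hTapp, hTapp, hft, hbo j j' hne]
    ring
  have hrefl := PB_refl Q'
  have hA : NDon (PB Q') (D 0 ⊔ D 1) :=
    NDon_supR (PB Q') hrefl (D 0) (D 1) (hND 0) (hND 1) (horth 0 1 (by decide))
  have hAp : PlusOn Q' (D 0 ⊔ D 1) :=
    PlusOn_sup_of_not Q' (n₂ + n₂) (D 0) (D 1) (by rw [hfr, hfr]) (hND 0) (hND 1)
      (horth 0 1 (by decide)) (by rw [hfr]; exact hev) (by rw [hfr]; exact hev) (hminus 0) (hminus 1)
  have horthA : ∀ u ∈ D 0 ⊔ D 1, ∀ v ∈ D 2, PB Q' u v = 0 := by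
    intro u hu v hv
    obtain ⟨a, ha, a', ha', rfl⟩ := Submodule.mem_sup.mp hu
    rw [map_add, LinearMap.add_apply, horth 0 2 (by decide) a ha v hv,
      horth 1 2 (by decide) a' ha' v hv, add_zero]
  have hsup : (D 0 ⊔ D 1) ⊔ D 2 = ⊤ := by
    apply Submodule.eq_top_of_finrank_eq
    have h1 := Submodule.finrank_sup_add_finrank_inf_eq (D 0) (D 1)
    have h2' := Submodule.finrank_sup_add_finrank_inf_eq (D 0 ⊔ D 1) (D 2)
    rw [inf_eq_bot_of_orthR (PB Q') hrefl (D 0) (D 1) (hND 0) (horth 0 1 (by decide)), finrank_bot,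
      hfr, hfr] at h1
    rw [inf_eq_bot_of_orthR (PB Q') hrefl (D 0 ⊔ D 1) (D 2) hA horthA, finrank_bot, hfr] at h2'
    rw [Module.finrank_fintype_fun_eq_card, hcard]
    omega
  have hfin := not_PlusOn_top Q' hQ' (D 0 ⊔ D 1) (D 2) hA (hND 2) horthA hsup hAp (hminus 2)
  intro hp
  apply hfin
  obtain ⟨U, hUW, hU, hd⟩ := hp
  refine ⟨U, hUW, ?_, hd⟩
  intro w hw
  rw [hQ'app]
  exact hU w hw

end Cfsg.Agent.Lib.H24.EOP2
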