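/-
EO project phase 2 (helper24), **EO2-H2b**, part 1: the model `(M₂(F), det)` of the four-dimensional quadratic space of
plus type.  Index type `Fin 2 × Fin 2`, `detQ X = X₀₀ X₁₁ - X₀₁ X₁₀`.  The product of two reflections is a Kronecker
product `C ⊗ E` (`X ↦ C X Eᵀ`), hence (Cartan-Dieudonné) so is every isometry of determinant one.
-/
import Cfsg.Agent.Lib.H4.Orth
import Cfsg.Agent.Lib.H11.ConfOrth6

set_option autoImplicit false

namespace Cfsg.Agent.Lib.H24.EOP2

open Matrix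
open scoped Kronecker MatrixGroups

variable {F : Type*} [Field F]

/-- the index type of `2 × 2` matrices -/
abbrev K4 := Fin 2 × Fin 2

/-- the determinant as a quadratic form on `F^(2×2)` -/
noncomputable def detQ (F : Type*) [Field F] : QuadraticForm F (K4 → F) :=
  QuadraticMap.linMulLin (LinearMap.proj (0, 0)) (LinearMap.proj (1, 1)) -
    QuadraticMap.linMulLin (LinearMap.proj (0, 1)) (LinearMap.proj (1, 0))

theorem detQ_apply (X : K4 → F) : detQ F X = X (0, 0) * X (1, 1) - X (0, 1) * X (1, 0) := by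
  simp [detQ]

theorem detQ_polar (X Y : K4 → F) : QuadraticMap.polar (detQ F) X Y =
    X (0, 0) * Y (1, 1) + Y (0, 0) * X (1, 1) - X (0, 1) * Y (1, 0) - Y (0, 1) * X (1, 0) := by
  unfold QuadraticMap.polar
  rw [detQ_apply, detQ_apply, detQ_apply]
  simp only [Pi.add_apply]
  ring

theorem detQ_nondegenerate : (QuadraticMap.polarBilin (detQ F)).Nondegenerate := by
  rw [Cfsg.Agent.Lib.H13.nondegenerate_polar_iff]
  intro X h
  funext ⟨i, j⟩
  have h00 := h (Pi.single (1, 1) 1)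
  have h11 := h (Pi.single (0, 0) 1)
  have h01 := h (Pi.single (1, 0) 1)
  have h10 := h (Pi.single (0, 1) 1)
  rw [detQ_polar] at h00 h11 h01 h10
  simp at h00 h11 h01 h10
  fin_cases i <;> fin_cases j
  · exact h00
  · exact h01
  · exact h10
  · exact h11

theorem kron_mulVec_apply (C E : Matrix (Fin 2) (Fin 2) F) (X : K4 → F) (i j : Fin 2) :
    ((C ⊗ₖ E) *ᵥ X) (i, j) = ∑ k, ∑ l, C i k * E j l * X (k, l) := by
  rw [Matrix.mulVec, dotProduct, Fintype.sum_prod_type]
  rfl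

/-- the product of two reflections of `(M₂(F), det)` is a Kronecker product -/
theorem refl_mul_refl_eq_kron (Z W : K4 → F) (hZ : detQ F Z ≠ 0) (hW : detQ F W ≠ 0) :
    ∃ C E : Matrix (Fin 2) (Fin 2) F,
      Cfsg.reflectionMatrix (⇑(detQ F)) Z * Cfsg.reflectionMatrix (⇑(detQ F)) W = C ⊗ₖ E := by
  have hZ' : Z (0, 0) * Z (1, 1) - Z (0, 1) * Z (1, 0) ≠ 0 := by rw [← detQ_apply]; exact hZ
  have hW' : W (0, 0) * W (1, 1) - W (0, 1) * W (1, 0) ≠ 0 := by rw [← detQ_apply]; exact hW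
  refine ⟨(detQ F W)⁻¹ • !![Z (0,0) * W (1,1) - Z (0,1) * W (1,0), - Z (0,0) * W (0,1) + Z (0,1) * W (0,0);
      Z (1,0) * W (1,1) - Z (1,1) * W (1,0), - Z (1,0) * W (0,1) + Z (1,1) * W (0,0)],
    (detQ F Z)⁻¹ • !![W (1,1) * Z (0,0) - W (0,1) * Z (1,0), - W (1,0) * Z (0,0) + W (0,0) * Z (1,0);
      W (1,1) * Z (0,1) - W (0,1) * Z (1,1), - W (1,0) * Z (0,1) + W (0,0) * Z (1,1)], ?_⟩
  apply Matrix.toLin'.injective
  apply LinearMap.ext
  intro X
  rw [Matrix.toLin'_apply, Matrix.toLin'_apply, ← Matrix.mulVec_mulVec,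
    Cfsg.Agent.Lib.H4.reflectionMatrix_mulVec, Cfsg.Agent.Lib.H4.reflectionMatrix_mulVec]
  funext ⟨i, j⟩
  rw [kron_mulVec_apply]
  simp only [Fin.sum_univ_two, Pi.sub_apply, Pi.smul_apply, smul_eq_mul, detQ_polar, detQ_apply,
    Matrix.smul_apply, Matrix.of_apply, Matrix.cons_val', Matrix.cons_val_zero, Matrix.cons_val_one]
  fin_cases i <;> fin_cases j <;> simp <;> field_simp <;> ring

/-- a product of an even number of reflections of `(M₂(F), det)` is a Kronecker product -/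
theorem refl_list_eq_kron (k : ℕ) : ∀ vs : List (K4 → F), vs.length = 2 * k → (∀ v ∈ vs, detQ F v ≠ 0) →
    ∃ C E : Matrix (Fin 2) (Fin 2) F,
      (vs.map (fun v => Cfsg.reflectionMatrix (⇑(detQ F)) v)).prod = C ⊗ₖ E := by
  induction k with
  | zero =>
    intro vs hlen _
    have : vs = [] := List.length_eq_zero_iff.1 (by simpa using hlen)
    subst this
    exact ⟨1, 1, by simp⟩
  | succ k ih =>
    intro vs hlen hvs
    match vs, hlen, hvs with
    | [], hlen, _ => simp at hlen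
    | [_], hlen, _ =>
      simp only [List.length_singleton] at hlen
      omega
    | Z :: W :: rest, hlen, hvs =>
      have hrest : rest.length = 2 * k := by
        simp only [List.length_cons] at hlen
        omega
      obtain ⟨C₁, E₁, h1⟩ := refl_mul_refl_eq_kron Z W (hvs Z List.mem_cons_self)
        (hvs W (List.mem_cons_of_mem _ List.mem_cons_self))
      obtain ⟨C₂, E₂, h2⟩ := ih rest hrest
        (fun v hv => hvs v (List.mem_cons_of_mem _ (List.mem_cons_of_mem _ hv)))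
      refine ⟨C₁ * C₂, E₁ * E₂, ?_⟩
      rw [List.map_cons, List.map_cons, List.prod_cons, List.prod_cons, ← mul_assoc, h1, h2,
        ← Matrix.mul_kronecker_mul]

/-- **`SO₄⁺ = SL₂ ∘ SL₂`**: an isometry of `(M₂(F), det)` of determinant one is a Kronecker product. -/
theorem so_model_kron [Fintype F] (h2 : (2 : F) ≠ 0) (g : GL K4 F)
    (hg : g ∈ Cfsg.isometryGroup F (⇑(detQ F))) (hdet : (g : Matrix K4 K4 F).det = 1) :
    ∃ C E : Matrix (Fin 2) (Fin 2) F, (g : Matrix K4 K4 F) = C ⊗ₖ E := by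
  obtain ⟨vs, hvs, hrep⟩ := Cfsg.Agent.Lib.H11.ConfOrth.exists_refl_list (detQ F) detQ_nondegenerate h2 g hg
  have hd := Cfsg.Agent.Lib.H13.PlusTS.det_refl_list (detQ F) vs hvs
  rw [← hrep, hdet] at hd
  have heven : Even vs.length := (Cfsg.Agent.Lib.H11.ConfOrth.neg_one_pow_eq_one_iff h2 _).1 hd.symm
  obtain ⟨k, hk⟩ := heven
  obtain ⟨C, E, h⟩ := refl_list_eq_kron k vs (by omega) hvs
  exact ⟨C, E, by rw [hrep, h]⟩

end Cfsg.Agent.Lib.H24.EOP2
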