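/-
EO project phase 2 (helper24), **EO2-H2b**, part 2: a symmetric form `f₂` of plus type on `F^4` (`q` odd) is the model
`(M₂(F), det)` in suitable coordinates `R`, and every isometry of `f₂` of determinant one is `R (C ⊗ E) R⁻¹`.
-/
import Cfsg.Agent.Lib.H24.AschEO2H2b1
import Cfsg.Agent.Lib.H24.DnF
import Cfsg.Agent.Lib.H29.SymmF3
import Cfsg.Agent.Lib.H29.Tensor

set_option autoImplicit false

namespace Cfsg.Agent.Lib.H24.EOP2

open Matrix Cfsg Cfsg.Geo Module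
open scoped Kronecker MatrixGroups
open Cfsg.Agent.Lib.H29.SymmF3 Cfsg.Agent.Lib.H29.Tensor

variable {F : Type*} [Field F]

/-- `Fin 4 ≃ Fin 2 × Fin 2` -/
def e22 : Fin 4 ≃ K4 := (finProdFinEquiv : Fin 2 × Fin 2 ≃ Fin (2 * 2)).symm

theorem detQ_eq_half_polar (h2 : (2 : F) ≠ 0) (X : K4 → F) :
    detQ F X = 2⁻¹ * QuadraticMap.polar (detQ F) X X := by
  rw [detQ_polar, detQ_apply]
  field_simp
  ring

theorem isBilinearForm_half_polar_detQ :
    IsBilinearForm (fun X Y : K4 → F => 2⁻¹ * QuadraticMap.polar (detQ F) X Y) := by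
  refine ⟨?_, ?_, ?_, ?_⟩
  · intro x y v
    simp only [QuadraticMap.polar_add_left]
    ring
  · intro c x v
    simp only [QuadraticMap.polar_smul_left, smul_eq_mul]
    ring
  · intro v x y
    simp only [QuadraticMap.polar_add_right]
    ring
  · intro c v x
    simp only [QuadraticMap.polar_smul_right, smul_eq_mul]
    ring

/-- the model coordinates of a symmetric form of plus type in dimension four -/
theorem exists_model_of_plus (h2 : (2 : F) ≠ 0) (f₂ : (Fin 4 → F) → (Fin 4 → F) → F)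
    (hf : IsSymmetricForm f₂) (hpl : IsPlusTypeOn (fun v : Fin 4 → F => f₂ v v) ⊤) :
    ∃ R : GL (Fin 4) F, ∀ X Y : K4 → F,
      f₂ ((R : Matrix (Fin 4) (Fin 4) F) *ᵥ (X ∘ e22)) ((R : Matrix (Fin 4) (Fin 4) F) *ᵥ (Y ∘ e22)) =
        2⁻¹ * QuadraticMap.polar (detQ F) X Y := by
  classical
  set Q₂ := qfOfSymm f₂ hf with hQ₂
  have hfr : finrank F (⊤ : Submodule F (Fin 4 → F)) = 4 := by
    rw [finrank_top, Module.finrank_fintype_fun_eq_card, Fintype.card_fin]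
  have hnd : IsNondegenerateOn (QuadraticMap.polar (⇑Q₂)) (⊤ : Submodule F (Fin 4 → F)) := by
    intro w _ hw
    obtain ⟨⟨x, hx⟩, ⟨y, hy⟩⟩ := hf.nondegenerate w hw
    refine ⟨⟨x, trivial, ?_⟩, ⟨y, trivial, ?_⟩⟩
    · rw [polar_qfOfSymm]; exact mul_ne_zero h2 hx
    · rw [polar_qfOfSymm]; exact mul_ne_zero h2 hy
  obtain ⟨u1, v1, u2, v2, -, -, -, -, hu1, hv1, hu2, hv2, h11, h22, hu1u2, hu1v2, hv1u2, hv1v2, hsp⟩ :=
    Cfsg.Agent.Lib.H24.Dn.exists_hyperbolic_basis4 Q₂ ⊤ hfr hnd hpl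
  have F2 : ∀ x y, f₂ x y = 2⁻¹ * QuadraticMap.polar (⇑Q₂) x y := by
    intro x y
    rw [polar_qfOfSymm]
    field_simp
  have hb := hf.bilinear
  -- values of `f₂`
  have a11 : f₂ u1 u1 = 0 := hu1
  have a22 : f₂ v1 v1 = 0 := hv1
  have a33 : f₂ u2 u2 = 0 := hu2
  have a44 : f₂ v2 v2 = 0 := hv2
  have a12 : f₂ u1 v1 = 2⁻¹ := by rw [F2, h11, mul_one]
  have a13 : f₂ u1 u2 = 0 := by rw [F2, hu1u2, mul_zero]
  have a14 : f₂ u1 v2 = 0 := by rw [F2, hu1v2, mul_zero]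
  have a23 : f₂ v1 u2 = 0 := by rw [F2, hv1u2, mul_zero]
  have a24 : f₂ v1 v2 = 0 := by rw [F2, hv1v2, mul_zero]
  have a34 : f₂ u2 v2 = 2⁻¹ := by rw [F2, h22, mul_one]
  have a21 : f₂ v1 u1 = 2⁻¹ := by rw [hf.symm, a12]
  have a31 : f₂ u2 u1 = 0 := by rw [hf.symm, a13]
  have a41 : f₂ v2 u1 = 0 := by rw [hf.symm, a14]
  have a32 : f₂ u2 v1 = 0 := by rw [hf.symm, a23]
  have a42 : f₂ v2 v1 = 0 := by rw [hf.symm, a24]
  have a43 : f₂ v2 u2 = 2⁻¹ := by rw [hf.symm, a34]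
  -- the basis indexed by `Fin 2 × Fin 2`
  set bvec : K4 → (Fin 4 → F) := fun p =>
    if p = (0, 0) then u1 else if p = (1, 1) then v1 else if p = (0, 1) then u2 else (-1 : F) • v2 with hbvec
  have b00 : bvec (0, 0) = u1 := by simp [hbvec]
  have b11 : bvec (1, 1) = v1 := by simp [hbvec]
  have b01 : bvec (0, 1) = u2 := by simp [hbvec]
  have b10 : bvec (1, 0) = (-1 : F) • v2 := by simp [hbvec]
  have hG : ∀ p p', f₂ (bvec p) (bvec p') =
      2⁻¹ * QuadraticMap.polar (detQ F) (Pi.single p 1) (Pi.single p' 1) := by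
    rintro ⟨i, j⟩ ⟨k, l⟩
    rw [detQ_polar]
    fin_cases i <;> fin_cases j <;> fin_cases k <;> fin_cases l <;>
      simp only [Fin.zero_eta, Fin.mk_one, Fin.isValue, b00, b11, b01, b10, hb.smul_left, hb.smul_right,
        a11, a12, a13, a14, a21, a22, a23, a24, a31, a32, a33, a34, a41, a42, a43, a44] <;>
      simp [Pi.single_apply]
  -- spanning
  have hspan : ⊤ ≤ Submodule.span F (Set.range (fun k : Fin 4 => bvec (e22 k))) := by
    intro x _
    obtain ⟨α1, β1, α2, β2, rfl⟩ := hsp x trivial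
    have m : ∀ p, bvec p ∈ Submodule.span F (Set.range (fun k : Fin 4 => bvec (e22 k))) := by
      intro p
      exact Submodule.subset_span ⟨e22.symm p, by simp⟩
    have h4 : v2 = (-1 : F) • bvec (1, 0) := by rw [b10, smul_smul]; simp
    rw [← b00, ← b11, ← b01, h4]
    exact Submodule.add_mem _ (Submodule.add_mem _ (Submodule.add_mem _ (Submodule.smul_mem _ _ (m _))
      (Submodule.smul_mem _ _ (m _))) (Submodule.smul_mem _ _ (m _)))
      (Submodule.smul_mem _ _ (Submodule.smul_mem _ _ (m _)))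
  have hli : LinearIndependent F (fun k : Fin 4 => bvec (e22 k)) :=
    linearIndependent_of_top_le_span_of_card_eq_finrank hspan
      (by rw [Fintype.card_fin, Module.finrank_fintype_fun_eq_card, Fintype.card_fin])
  set Rm : Matrix (Fin 4) (Fin 4) F := Matrix.of fun r k => bvec (e22 k) r with hRm
  have hRu : IsUnit Rm := by
    rw [← Matrix.linearIndependent_cols_iff_isUnit]
    have : Rm.col = fun k : Fin 4 => bvec (e22 k) := by
      funext k r
      rfl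
    rw [this]
    exact hli
  have hRsingle : ∀ p : K4, Rm *ᵥ ((Pi.single p (1 : F) : K4 → F) ∘ e22) = bvec p := by
    intro p
    have : ((Pi.single p (1 : F) : K4 → F) ∘ e22) = Pi.single (e22.symm p) 1 := by
      funext k
      simp only [Function.comp_apply, Pi.single_apply]
      congr 1
      rw [eq_iff_iff]
      constructor
      · intro h; rw [← h, Equiv.symm_apply_apply]
      · intro h; rw [h, Equiv.apply_symm_apply]
    rw [this, Matrix.mulVec_single_one]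
    funext r
    show bvec (e22 (e22.symm p)) r = bvec p r
    rw [Equiv.apply_symm_apply]
  refine ⟨hRu.unit, ?_⟩
  have hRval : (hRu.unit : Matrix (Fin 4) (Fin 4) F) = Rm := IsUnit.unit_spec hRu
  rw [hRval]
  -- both sides are bilinear forms with the same Gram matrix
  have hbil : IsBilinearForm (fun X Y : K4 → F => f₂ (Rm *ᵥ (X ∘ e22)) (Rm *ᵥ (Y ∘ e22))) := by
    refine ⟨?_, ?_, ?_, ?_⟩
    · intro x y v
      show f₂ (Rm *ᵥ ((x + y) ∘ e22)) _ = _
      have : (x + y) ∘ e22 = x ∘ e22 + y ∘ e22 := rfl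
      rw [this, Matrix.mulVec_add, hb.add_left]
    · intro c x v
      show f₂ (Rm *ᵥ ((c • x) ∘ e22)) _ = _
      have : (c • x) ∘ e22 = c • (x ∘ e22) := rfl
      rw [this, Matrix.mulVec_smul, hb.smul_left]
    · intro v x y
      show f₂ _ (Rm *ᵥ ((x + y) ∘ e22)) = _
      have : (x + y) ∘ e22 = x ∘ e22 + y ∘ e22 := rfl
      rw [this, Matrix.mulVec_add, hb.add_right]
    · intro c v x
      show f₂ _ (Rm *ᵥ ((c • x) ∘ e22)) = _
      have : (c • x) ∘ e22 = c • (x ∘ e22) := rfl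
      rw [this, Matrix.mulVec_smul, hb.smul_right]
  intro X Y
  have e1 := form_eq_gram hbil X Y
  have e2 := form_eq_gram (isBilinearForm_half_polar_detQ (F := F)) X Y
  have hgram : gramMatrix (fun X Y : K4 → F => f₂ (Rm *ᵥ (X ∘ e22)) (Rm *ᵥ (Y ∘ e22))) =
      gramMatrix (fun X Y : K4 → F => 2⁻¹ * QuadraticMap.polar (detQ F) X Y) := by
    ext p p'
    show f₂ (Rm *ᵥ ((Pi.single p (1 : F) : K4 → F) ∘ e22)) (Rm *ᵥ ((Pi.single p' (1 : F) : K4 → F) ∘ e22)) = _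
    rw [hRsingle, hRsingle, hG]
    rfl
  calc f₂ (Rm *ᵥ (X ∘ e22)) (Rm *ᵥ (Y ∘ e22)) = _ := e1
    _ = _ := by rw [hgram]
    _ = 2⁻¹ * QuadraticMap.polar (detQ F) X Y := e2.symm

/-- an isometry of determinant one of a symmetric form of plus type in dimension four is a Kronecker product in
the model coordinates -/
theorem exists_kron_of_isometry [Fintype F] (h2 : (2 : F) ≠ 0) (f₂ : (Fin 4 → F) → (Fin 4 → F) → F)
    (R : GL (Fin 4) F)
    (hR : ∀ X Y : K4 → F,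
      f₂ ((R : Matrix (Fin 4) (Fin 4) F) *ᵥ (X ∘ e22)) ((R : Matrix (Fin 4) (Fin 4) F) *ᵥ (Y ∘ e22)) =
        2⁻¹ * QuadraticMap.polar (detQ F) X Y)
    (B : GL (Fin 4) F)
    (hB : ∀ x y, f₂ ((B : Matrix (Fin 4) (Fin 4) F) *ᵥ x) ((B : Matrix (Fin 4) (Fin 4) F) *ᵥ y) = f₂ x y)
    (hdet : (B : Matrix (Fin 4) (Fin 4) F).det = 1) :
    ∃ C E : Matrix (Fin 2) (Fin 2) F,
      (B : Matrix (Fin 4) (Fin 4) F) * (R : Matrix (Fin 4) (Fin 4) F) =
        (R : Matrix (Fin 4) (Fin 4) F) * (C ⊗ₖ E).submatrix e22 e22 := by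
  classical
  obtain ⟨M, hM⟩ : ∃ M : GL (Fin 4) F, M = R⁻¹ * B * R := ⟨_, rfl⟩
  have hRM : (R : Matrix (Fin 4) (Fin 4) F) * (M : Matrix (Fin 4) (Fin 4) F) =
      (B : Matrix (Fin 4) (Fin 4) F) * (R : Matrix (Fin 4) (Fin 4) F) := by
    rw [← Units.val_mul, ← Units.val_mul, hM]
    congr 1
    group
  have hMdet : (M : Matrix (Fin 4) (Fin 4) F).det = 1 := by
    have h1 : (R : Matrix (Fin 4) (Fin 4) F).det * (M : Matrix (Fin 4) (Fin 4) F).det =
        (R : Matrix (Fin 4) (Fin 4) F).det * 1 := by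
      rw [← Matrix.det_mul, hRM, Matrix.det_mul, hdet, one_mul, mul_one]
    have hRd : (R : Matrix (Fin 4) (Fin 4) F).det ≠ 0 :=
      ((Matrix.isUnit_iff_isUnit_det _).1 R.isUnit).ne_zero
    exact mul_left_cancel₀ hRd h1
  set B₀m : Matrix K4 K4 F := (M : Matrix (Fin 4) (Fin 4) F).submatrix e22.symm e22.symm with hB₀m
  have hdet₀ : B₀m.det = 1 := by
    rw [hB₀m, Matrix.det_submatrix_equiv_self, hMdet]
  set B₀ : GL K4 F := Matrix.GeneralLinearGroup.mkOfDetNeZero B₀m (by rw [hdet₀]; exact one_ne_zero)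
    with hB₀
  have hB₀val : (B₀ : Matrix K4 K4 F) = B₀m := rfl
  have hact : ∀ X : K4 → F, (B₀m *ᵥ X) ∘ e22 = (M : Matrix (Fin 4) (Fin 4) F) *ᵥ (X ∘ e22) := by
    intro X
    rw [hB₀m, Matrix.submatrix_mulVec_equiv]
    funext k
    simp
  have hdetQ : ∀ Y : K4 → F, detQ F Y =
      f₂ ((R : Matrix (Fin 4) (Fin 4) F) *ᵥ (Y ∘ e22)) ((R : Matrix (Fin 4) (Fin 4) F) *ᵥ (Y ∘ e22)) := by
    intro Y
    rw [hR, ← detQ_eq_half_polar h2]
  have hmem : B₀ ∈ Cfsg.isometryGroup F (⇑(detQ F)) := by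
    rw [Cfsg.Agent.Lib.H29.Orth.mem_isometryGroup_iff]
    intro X
    rw [hB₀val, hdetQ, hact, Matrix.mulVec_mulVec, hRM, ← Matrix.mulVec_mulVec, hB, ← hdetQ]
  obtain ⟨C, E, hCE⟩ := so_model_kron h2 B₀ hmem (by rw [hB₀val]; exact hdet₀)
  refine ⟨C, E, ?_⟩
  rw [← hRM]
  congr 1
  rw [← hCE, hB₀val, hB₀m, Matrix.submatrix_submatrix]
  simp

end Cfsg.Agent.Lib.H24.EOP2
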