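/-
EO project phase 2 (helper24), **EO2-H2b**, part 3: auxiliary lemmas for the regrouping
`F^3 ⊗ F^4 = F^3 ⊗ (F^2 ⊗ F^2) = F^2 ⊗ (F^3 ⊗ F^2) = F^2 ⊗ F^6`.
-/
import Cfsg.Agent.Lib.H24.AschEO2H2b2
import Cfsg.Agent.Lib.H8.AschSM4a
import Cfsg.Agent.Lib.H25.AschSP2E2d

set_option autoImplicit false

namespace Cfsg.Agent.Lib.H24.EOP2

open Matrix Cfsg Cfsg.Geo Module
open scoped Kronecker MatrixGroups
open Cfsg.Agent.Lib.H29.Tensor

variable {F : Type*} [Field F]

/-- two bilinear forms agreeing on the standard basis vectors are equal -/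
theorem bilin_ext_single {κ : Type} [Fintype κ] [DecidableEq κ] {f g : (κ → F) → (κ → F) → F}
    (hf : IsBilinearForm f) (hg : IsBilinearForm g)
    (h : ∀ p p', f (Pi.single p 1) (Pi.single p' 1) = g (Pi.single p 1) (Pi.single p' 1)) (x y : κ → F) :
    f x y = g x y := by
  rw [form_eq_gram hf, form_eq_gram hg]
  have : gramMatrix f = gramMatrix g := by
    ext p p'
    exact h p p'
  rw [this]

/-- the Gram matrix of a non-degenerate bilinear form is invertible -/
theorem det_gramMatrix_ne_zero {m : ℕ} (f : (Fin m → F) → (Fin m → F) → F) (hb : IsBilinearForm f)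
    (hnd : IsNondegenerateForm f) : (gramMatrix f).det ≠ 0 := by
  have hinj : Function.Injective (gramMatrix f).mulVec := by
    intro v w hvw
    by_contra hne
    have hd : v - w ≠ 0 := sub_ne_zero.2 hne
    obtain ⟨⟨x, hx⟩, -⟩ := hnd (v - w) hd
    apply hx
    rw [Cfsg.Agent.Lib.H25.AschSP2.bilin_eq_gram f hb, Matrix.mulVec_sub, hvw, sub_self, dotProduct_zero]
  have hu : IsUnit (gramMatrix f) := Matrix.mulVec_injective_iff_isUnit.1 hinj
  exact ((Matrix.isUnit_iff_isUnit_det _).1 hu).ne_zero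

/-- `Fin 6 ≃ Fin 3 × Fin 2` -/
def e32 : Fin 6 ≃ Fin 3 × Fin 2 := (finProdFinEquiv : Fin 3 × Fin 2 ≃ Fin (3 * 2)).symm

/-- the regrouping `Fin 3 × Fin 4 ≃ Fin 2 × Fin 6` -/
def e326 : Fin 3 × Fin 4 ≃ Fin 2 × Fin 6 where
  toFun p := ((e22 p.2).1, e32.symm (p.1, (e22 p.2).2))
  invFun q := ((e32 q.2).1, e22.symm (q.1, (e32 q.2).2))
  left_inv p := by simp
  right_inv q := by simp

theorem e326_apply (i : Fin 3) (k : Fin 4) : e326 (i, k) = ((e22 k).1, e32.symm (i, (e22 k).2)) := rfl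

theorem e326_symm_apply (i : Fin 2) (j : Fin 6) :
    e326.symm (i, j) = ((e32 j).1, e22.symm (i, (e32 j).2)) := rfl

/-- the standard alternating matrix -/
def J2 (F : Type*) [Field F] : Matrix (Fin 2) (Fin 2) F := !![0, 1; -1, 0]

theorem J2_transpose : (J2 F)ᵀ = - J2 F := by
  ext i j
  fin_cases i <;> fin_cases j <;> simp [J2]

theorem J2_det : (J2 F).det = 1 := by
  simp [J2, Matrix.det_fin_two]

theorem polar_detQ_single (p p' : K4) :
    QuadraticMap.polar (detQ F) (Pi.single p 1) (Pi.single p' 1) = J2 F p.1 p'.1 * J2 F p.2 p'.2 := by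
  obtain ⟨i, j⟩ := p
  obtain ⟨k, l⟩ := p'
  rw [detQ_polar]
  fin_cases i <;> fin_cases j <;> fin_cases k <;> fin_cases l <;> simp [J2, Pi.single_apply]

theorem comp_single_equiv {κ κ' : Type} [DecidableEq κ] [DecidableEq κ'] (ε : κ ≃ κ') (p : κ') :
    ((Pi.single p (1 : F) : κ' → F) ∘ ε) = Pi.single (ε.symm p) 1 := by
  funext k
  simp only [Function.comp_apply, Pi.single_apply]
  congr 1
  rw [eq_iff_iff]
  constructor
  · intro h; rw [← h, Equiv.symm_apply_apply]
  · intro h; rw [h, Equiv.apply_symm_apply]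

theorem single_prod_eq_pt {n₁ n₂ : ℕ} (i : Fin n₁) (k : Fin n₂) :
    (Pi.single (i, k) (1 : F) : Fin n₁ × Fin n₂ → F) = pt (Pi.single i 1) (Pi.single k 1) := by
  funext ⟨a, b⟩
  simp only [pt, Pi.single_apply, Prod.mk.injEq]
  by_cases h1 : a = i <;> by_cases h2 : b = k <;> simp [h1, h2]

theorem formOfGram_single {κ : Type} [Fintype κ] [DecidableEq κ] (G : Matrix κ κ F) (p p' : κ) :
    formOfGram id G (Pi.single p 1) (Pi.single p' 1) = G p p' := by
  unfold formOfGram
  rw [Finset.sum_eq_single p]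
  · rw [Finset.sum_eq_single p']
    · simp
    · intro b _ hb
      simp [Pi.single_apply, hb]
    · intro h; exact absurd (Finset.mem_univ _) h
  · intro a _ ha
    apply Finset.sum_eq_zero
    intro b _
    simp [Pi.single_apply, ha]
  · intro h; exact absurd (Finset.mem_univ _) h

theorem isBilinearForm_formOfGram {κ : Type} [Fintype κ] [DecidableEq κ] (G : Matrix κ κ F) :
    IsBilinearForm (formOfGram id G) :=
  (Cfsg.Agent.Lib.H8.AschS.rep_formOfGram G).bilinear

end Cfsg.Agent.Lib.H24.EOP2
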