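/-
EO project phase 2 (helper24), **EO2-H2b**: `q` odd, symmetric ⊗ symmetric in dimensions `3` and `4` with the second
factor of plus type.  The members of the tensor product subgroup lying in `Ω(Q)` lie in a tensor product subgroup
`Sp₂ ⊗ Sp₆` (`F^4 = F^2 ⊗ F^2`, `SO₄⁺ = SL₂ ∘ SL₂`): `O₃ ⊗ O₄⁺ ∩ Ω ≤ Sp₂ ⊗ Sp₆`.
-/
import Cfsg.Agent.Lib.H24.AschEO2H2b3
import Cfsg.Agent.Lib.H11.SpTen1
import Cfsg.Agent.Lib.H24.AschEO2Gen
import Cfsg.Agent.Lib.H24.AschOBasic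

set_option autoImplicit false

namespace Cfsg.Agent.Lib.H24.EOP2

open Matrix Cfsg Cfsg.Geo Module
open scoped Kronecker MatrixGroups
open Cfsg.Agent.Lib.H29.Tensor

variable {ι : Type} [Fintype ι] [DecidableEq ι] {F : Type*} [Field F]

/-- the coordinates of the regrouped tensor structure -/
theorem regroup_mulVec (e : ι ≃ Fin 3 × Fin 4) (P t : GL ι F) (R : Matrix (Fin 4) (Fin 4) F)
    (ht : (t : Matrix ι ι F) = ((1 : Matrix (Fin 3) (Fin 3) F) ⊗ₖ R).submatrix e e)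
    (z : Fin 2 × Fin 6 → F) :
    ((P * t : GL ι F) : Matrix ι ι F) *ᵥ (z ∘ (e.trans e326)) =
      (P : Matrix ι ι F) *ᵥ ((((1 : Matrix (Fin 3) (Fin 3) F) ⊗ₖ R) *ᵥ (z ∘ e326)) ∘ e) := by
  rw [Units.val_mul, ← Matrix.mulVec_mulVec, ht, Matrix.submatrix_mulVec_equiv]
  have : (z ∘ (e.trans e326)) ∘ e.symm = z ∘ e326 := by
    funext p
    simp
  rw [this]

/-- the regrouped coordinates of a standard basis vector -/
theorem regroup_single (e : ι ≃ Fin 3 × Fin 4) (P t : GL ι F) (R : Matrix (Fin 4) (Fin 4) F)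
    (ht : (t : Matrix ι ι F) = ((1 : Matrix (Fin 3) (Fin 3) F) ⊗ₖ R).submatrix e e)
    (i : Fin 2) (j : Fin 6) :
    ((P * t : GL ι F) : Matrix ι ι F) *ᵥ ((Pi.single (i, j) (1 : F) : Fin 2 × Fin 6 → F) ∘ (e.trans e326)) =
      tau e P (Pi.single (e32 j).1 1) (R *ᵥ ((Pi.single (i, (e32 j).2) (1 : F) : K4 → F) ∘ e22)) := by
  rw [regroup_mulVec e P t R ht, comp_single_equiv, e326_symm_apply, single_prod_eq_pt, kron_pt,
    Matrix.one_mulVec, comp_single_equiv]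
  rfl

theorem isBilinearForm_const_mul {κ : Type} [Fintype κ] [DecidableEq κ] {f : (κ → F) → (κ → F) → F}
    (hf : IsBilinearForm f) (c : F) : IsBilinearForm (fun x y => c * f x y) := by
  refine ⟨?_, ?_, ?_, ?_⟩
  · intro x y v
    show c * f (x + y) v = c * f x v + c * f y v
    rw [hf.add_left]; ring
  · intro a x v
    show c * f (a • x) v = a * (c * f x v)
    rw [hf.smul_left]; ring
  · intro v x y
    show c * f v (x + y) = c * f v x + c * f v y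
    rw [hf.add_right]; ring
  · intro a v x
    show c * f v (a • x) = a * (c * f v x)
    rw [hf.smul_right]; ring

section main

variable [Fintype F]

open Cfsg.Agent.Lib.H8.AschS in
open Cfsg.Agent.Lib.H25.AschSP2 (PhiL PhiL_apply) in
/-- the regrouped tensor structure: forms -/
theorem regroup_forms (h2 : (2 : F) ≠ 0) (Q : (ι → F) → F) (hQ : IsNondegenerateQuadraticForm Q)
    (e : ι ≃ Fin 3 × Fin 4) (P t : GL ι F)
    (f₁ : (Fin 3 → F) → (Fin 3 → F) → F) (f₂ : (Fin 4 → F) → (Fin 4 → F) → F)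
    (h₁ : IsSymmetricForm f₁) (h₂ : IsSymmetricForm f₂) (c : F) (hc0 : c ≠ 0)
    (hform : ∀ x y : Fin 3 × Fin 4 → F,
      QuadraticMap.polar Q ((P : Matrix ι ι F) *ᵥ (x ∘ e)) ((P : Matrix ι ι F) *ᵥ (y ∘ e)) =
        c * formOfGram id (gramMatrix f₁ ⊗ₖ gramMatrix f₂) x y)
    (R : GL (Fin 4) F)
    (hR : ∀ X Y : K4 → F,
      f₂ ((R : Matrix (Fin 4) (Fin 4) F) *ᵥ (X ∘ e22)) ((R : Matrix (Fin 4) (Fin 4) F) *ᵥ (Y ∘ e22)) =
        2⁻¹ * QuadraticMap.polar (detQ F) X Y)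
    (ht : (t : Matrix ι ι F) =
      ((1 : Matrix (Fin 3) (Fin 3) F) ⊗ₖ (R : Matrix (Fin 4) (Fin 4) F)).submatrix e e) :
    IsSymplecticForm (formOfGram id (J2 F)) ∧
    IsSymplecticForm (formOfGram id ((gramMatrix f₁ ⊗ₖ J2 F).submatrix e32 e32)) ∧
    IsTensorFormStructure id (QuadraticMap.polar Q) (formOfGram id (J2 F))
      (formOfGram id ((gramMatrix f₁ ⊗ₖ J2 F).submatrix e32 e32)) (e.trans e326) (P * t) ∧
    ∀ (x₁ : Fin 2 → F) (x₂ : Fin 6 → F),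
      Q (((P * t : GL ι F) : Matrix ι ι F) *ᵥ ((fun a : Fin 2 × Fin 6 => x₁ a.1 * x₂ a.2) ∘ (e.trans e326))) = 0 := by
  classical
  have hpb := hQ.polar_bilinear
  set G₁ := gramMatrix f₁ with hG₁
  set G₆ : Matrix (Fin 6) (Fin 6) F := (G₁ ⊗ₖ J2 F).submatrix e32 e32 with hG₆
  have hG₁symm : G₁ᵀ = G₁ := by
    ext i j
    exact h₁.symm _ _
  have hG₁det : G₁.det ≠ 0 := det_gramMatrix_ne_zero f₁ h₁.bilinear h₁.nondegenerate
  have hG₆T : G₆ᵀ = -G₆ := by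
    rw [hG₆, Matrix.transpose_submatrix, kron_transpose, hG₁symm, J2_transpose]
    ext a b
    simp [Matrix.kroneckerMap_apply]
  have hG₆det : IsUnit G₆.det := by
    rw [hG₆, Matrix.det_submatrix_equiv_self, Matrix.det_kronecker, J2_det, one_pow, mul_one]
    exact (pow_ne_zero _ hG₁det).isUnit
  have hs₁ : IsSymplecticForm (formOfGram id (J2 F)) :=
    isSymplecticForm_formOfGram h2 (J2 F) J2_transpose (by rw [J2_det]; exact isUnit_one)
  have hs₂ : IsSymplecticForm (formOfGram id G₆) := isSymplecticForm_formOfGram h2 G₆ hG₆T hG₆det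
  have hstruct : ∀ z z' : Fin 2 × Fin 6 → F,
      QuadraticMap.polar Q (((P * t : GL ι F) : Matrix ι ι F) *ᵥ (z ∘ (e.trans e326)))
        (((P * t : GL ι F) : Matrix ι ι F) *ᵥ (z' ∘ (e.trans e326))) =
      (c * 2⁻¹) * formOfGram id (J2 F ⊗ₖ G₆) z z' := by
    have hbf : IsBilinearForm (fun z z' : Fin 2 × Fin 6 → F =>
        QuadraticMap.polar Q (PhiL (e.trans e326) (P * t) z) (PhiL (e.trans e326) (P * t) z')) := by
      refine ⟨?_, ?_, ?_, ?_⟩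
      · intro x y v
        simp only [map_add]
        exact hpb.add_left _ _ _
      · intro a x v
        simp only [map_smul]
        exact hpb.smul_left _ _ _
      · intro v x y
        simp only [map_add]
        exact hpb.add_right _ _ _
      · intro a v x
        simp only [map_smul]
        exact hpb.smul_right _ _ _
    have hbg : IsBilinearForm (fun z z' : Fin 2 × Fin 6 → F =>
        (c * 2⁻¹) * formOfGram id (J2 F ⊗ₖ G₆) z z') :=
      isBilinearForm_const_mul (isBilinearForm_formOfGram _) _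
    intro z z'
    refine bilin_ext_single hbf hbg ?_ z z'
    rintro ⟨i, j⟩ ⟨i', j'⟩
    show QuadraticMap.polar Q
        (((P * t : GL ι F) : Matrix ι ι F) *ᵥ ((Pi.single (i, j) (1 : F) : Fin 2 × Fin 6 → F) ∘ (e.trans e326)))
        (((P * t : GL ι F) : Matrix ι ι F) *ᵥ ((Pi.single (i', j') (1 : F) : Fin 2 × Fin 6 → F) ∘ (e.trans e326))) =
      (c * 2⁻¹) * formOfGram id (J2 F ⊗ₖ G₆) (Pi.single (i, j) 1) (Pi.single (i', j') 1)
    rw [regroup_single e P t _ ht, regroup_single e P t _ ht,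
      form_tau e P h₁.bilinear h₂.bilinear c hform, hR, polar_detQ_single, formOfGram_single]
    simp only [Matrix.kroneckerMap_apply, hG₆, Matrix.submatrix_apply, hG₁]
    show c * (gramMatrix f₁ (e32 j).1 (e32 j').1 * (2⁻¹ * (J2 F i i' * J2 F (e32 j).2 (e32 j').2))) = _
    ring
  refine ⟨hs₁, hs₂, ⟨c * 2⁻¹, mul_ne_zero hc0 (inv_ne_zero h2), ?_⟩, ?_⟩
  · intro z z'
    rw [gramMatrix_formOfGram, gramMatrix_formOfGram]
    exact hstruct z z'
  · intro x₁ x₂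
    have h1 := hstruct (pt x₁ x₂) (pt x₁ x₂)
    rw [formOfGram_pt, hs₁.alternating, zero_mul, mul_zero, polar_self_eq hQ] at h1
    rcases mul_eq_zero.1 h1 with h | h
    · exact absurd h h2
    · exact h

/-- matrix-level regrouping of Kronecker products -/
theorem regroup_kron (A : Matrix (Fin 3) (Fin 3) F) (C E : Matrix (Fin 2) (Fin 2) F) :
    A ⊗ₖ ((C ⊗ₖ E).submatrix e22 e22) =
      (C ⊗ₖ ((A ⊗ₖ E).submatrix e32 e32)).submatrix e326 e326 := by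
  ext ⟨i, k⟩ ⟨i', k'⟩
  simp only [Matrix.kroneckerMap_apply, Matrix.submatrix_apply, e326_apply, Equiv.apply_symm_apply]
  ring

open Cfsg.Agent.Lib.H11.SpTen in
/-- the regrouped tensor structure: members -/
theorem regroup_mem (e : ι ≃ Fin 3 × Fin 4) (P t : GL ι F) (R : GL (Fin 4) F)
    (ht : (t : Matrix ι ι F) =
      ((1 : Matrix (Fin 3) (Fin 3) F) ⊗ₖ (R : Matrix (Fin 4) (Fin 4) F)).submatrix e e)
    (g : GL ι F) (A : GL (Fin 3) F) (Bm : Matrix (Fin 4) (Fin 4) F)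
    (hmat : (g : Matrix ι ι F) = (P : Matrix ι ι F) *
      ((A : Matrix (Fin 3) (Fin 3) F) ⊗ₖ Bm).submatrix e e * ((P⁻¹ : GL ι F) : Matrix ι ι F))
    (C' : GL (Fin 2) F) (E : Matrix (Fin 2) (Fin 2) F) (hE : E.det ≠ 0)
    (hBR : Bm * (R : Matrix (Fin 4) (Fin 4) F) =
      (R : Matrix (Fin 4) (Fin 4) F) * ((C' : Matrix (Fin 2) (Fin 2) F) ⊗ₖ E).submatrix e22 e22) :
    g ∈ tensorProductSubgroup 2 6 (e.trans e326) (P * t) := by
  classical
  set Am : Matrix (Fin 3) (Fin 3) F := (A : Matrix (Fin 3) (Fin 3) F) with hAm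
  set Cm : Matrix (Fin 2) (Fin 2) F := (C' : Matrix (Fin 2) (Fin 2) F) with hCm
  set Rm : Matrix (Fin 4) (Fin 4) F := (R : Matrix (Fin 4) (Fin 4) F) with hRm
  set A₆m : Matrix (Fin 6) (Fin 6) F := (Am ⊗ₖ E).submatrix e32 e32 with hA₆m
  have hAdet : Am.det ≠ 0 := ((Matrix.isUnit_iff_isUnit_det _).1 A.isUnit).ne_zero
  have hA₆det : A₆m.det ≠ 0 := by
    rw [hA₆m, Matrix.det_submatrix_equiv_self, Matrix.det_kronecker]
    exact mul_ne_zero (pow_ne_zero _ hAdet) (pow_ne_zero _ hE)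
  set A₆ : GL (Fin 6) F := Matrix.GeneralLinearGroup.mkOfDetNeZero A₆m hA₆det with hA₆
  have hA₆val : (A₆ : Matrix (Fin 6) (Fin 6) F) = A₆m := rfl
  apply mem_of_kron' (e.trans e326) (P * t) C' A₆ g
  rw [hA₆val, ← hCm]
  set K : Matrix ι ι F := (Cm ⊗ₖ A₆m).submatrix (e.trans e326) (e.trans e326) with hK
  have h1 : ((Am ⊗ₖ Bm).submatrix e e) * (t : Matrix ι ι F) = (t : Matrix ι ι F) * K := by
    rw [ht, Matrix.submatrix_mul_equiv, ← Matrix.mul_kronecker_mul, Matrix.mul_one, hBR,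
      show Am ⊗ₖ (Rm * (Cm ⊗ₖ E).submatrix e22 e22) =
        ((1 : Matrix (Fin 3) (Fin 3) F) * Am) ⊗ₖ (Rm * (Cm ⊗ₖ E).submatrix e22 e22) by rw [Matrix.one_mul],
      Matrix.mul_kronecker_mul, regroup_kron, ← hA₆m, hK, ← Matrix.submatrix_mul_equiv _ _ e e e]
    congr 1
  have key : (g : Matrix ι ι F) * ((P * t : GL ι F) : Matrix ι ι F) =
      ((P * t : GL ι F) : Matrix ι ι F) * K := by
    rw [Units.val_mul, hmat]
    calc (P : Matrix ι ι F) * (Am ⊗ₖ Bm).submatrix e e * ((P⁻¹ : GL ι F) : Matrix ι ι F) *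
          ((P : Matrix ι ι F) * (t : Matrix ι ι F))
        = (P : Matrix ι ι F) * (Am ⊗ₖ Bm).submatrix e e *
          ((((P⁻¹ : GL ι F) : Matrix ι ι F) * (P : Matrix ι ι F)) * (t : Matrix ι ι F)) := by
          simp only [Matrix.mul_assoc]
      _ = (P : Matrix ι ι F) * ((Am ⊗ₖ Bm).submatrix e e * (t : Matrix ι ι F)) := by
          rw [← Units.val_mul, inv_mul_cancel, Units.val_one, Matrix.one_mul, Matrix.mul_assoc]
      _ = (P : Matrix ι ι F) * (t : Matrix ι ι F) * K := by rw [h1, Matrix.mul_assoc]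
  calc (g : Matrix ι ι F) = (g : Matrix ι ι F) * (((P * t : GL ι F) : Matrix ι ι F) *
        (((P * t)⁻¹ : GL ι F) : Matrix ι ι F)) := by
        rw [← Units.val_mul, mul_inv_cancel, Units.val_one, Matrix.mul_one]
    _ = ((P * t : GL ι F) : Matrix ι ι F) * K * (((P * t)⁻¹ : GL ι F) : Matrix ι ι F) := by
        rw [← Matrix.mul_assoc, key]

open Cfsg.Agent.Lib.H11.SpTen Cfsg.Agent.Lib.H29.Orth in
/-- **EO2-H2b**: `O₃ ⊗ O₄⁺ ∩ Ω ≤ Sp₂ ⊗ Sp₆`. -/
theorem tensor_three_four_le (hodd : Odd (Fintype.card F)) (Q : (ι → F) → F)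
    (hQ : IsNondegenerateQuadraticForm Q) (e : ι ≃ Fin 3 × Fin 4) (P : GL ι F)
    (f₁ : (Fin 3 → F) → (Fin 3 → F) → F) (f₂ : (Fin 4 → F) → (Fin 4 → F) → F)
    (h₁ : IsSymmetricForm f₁) (h₂ : IsSymmetricForm f₂)
    (hT : IsTensorFormStructure id (QuadraticMap.polar Q) f₁ f₂ e P)
    (hpl : IsPlusTypeOn (fun v : Fin 4 → F => f₂ v v) ⊤) :
    ∃ (e' : ι ≃ Fin 2 × Fin 6) (P' : GL ι F) (g₁ : (Fin 2 → F) → (Fin 2 → F) → F)
      (g₂ : (Fin 6 → F) → (Fin 6 → F) → F),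
      IsSymplecticForm g₁ ∧ IsSymplecticForm g₂ ∧
      IsTensorFormStructure id (QuadraticMap.polar Q) g₁ g₂ e' P' ∧
      (∀ (x₁ : Fin 2 → F) (x₂ : Fin 6 → F),
        Q ((P' : Matrix ι ι F) *ᵥ ((fun a : Fin 2 × Fin 6 => x₁ a.1 * x₂ a.2) ∘ e')) = 0) ∧
      tensorProductSubgroup 3 4 e P ⊓ omegaGL Q ≤ tensorProductSubgroup 2 6 e' P' := by
  classical
  have h2 : (2 : F) ≠ 0 := Cfsg.Agent.Lib.H13.HypPairs.two_ne_zero_of_odd_card rfl hodd
  obtain ⟨c, hc0, hform⟩ := hT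
  obtain ⟨R, hR⟩ := exists_model_of_plus h2 f₂ h₂ hpl
  set Rm : Matrix (Fin 4) (Fin 4) F := (R : Matrix (Fin 4) (Fin 4) F) with hRm
  have hRdet : Rm.det ≠ 0 := ((Matrix.isUnit_iff_isUnit_det _).1 R.isUnit).ne_zero
  have htdet : (((1 : Matrix (Fin 3) (Fin 3) F) ⊗ₖ Rm).submatrix e e).det ≠ 0 := by
    rw [Matrix.det_submatrix_equiv_self, Matrix.det_kronecker, Matrix.det_one, one_pow, one_mul]
    exact pow_ne_zero _ hRdet
  obtain ⟨t, ht⟩ : ∃ t : GL ι F, (t : Matrix ι ι F) =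
      ((1 : Matrix (Fin 3) (Fin 3) F) ⊗ₖ Rm).submatrix e e :=
    ⟨Matrix.GeneralLinearGroup.mkOfDetNeZero _ htdet, rfl⟩
  obtain ⟨hs₁, hs₂, hstr, hpure⟩ := regroup_forms h2 Q hQ e P t f₁ f₂ h₁ h₂ c hc0 hform R hR ht
  refine ⟨e.trans e326, P * t, _, _, hs₁, hs₂, hstr, hpure, ?_⟩
  intro g hg
  obtain ⟨hgT, hgΩ⟩ := Subgroup.mem_inf.1 hg
  have hcard : 2 ≤ Fintype.card ι := by
    rw [Fintype.card_congr e, Fintype.card_prod, Fintype.card_fin, Fintype.card_fin]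
    norm_num
  have hsO := Cfsg.Agent.Lib.H11.ConfOrth.omegaGL_le_sO (toQF Q hQ) (toQF_nondegenerate Q hQ) h2 hcard hgΩ
  obtain ⟨hgI, hgdet⟩ := (Cfsg.Agent.Lib.H11.ConfOrth.mem_sO_iff (toQF Q hQ) g).1 hsO
  obtain ⟨A, B, hmat⟩ := exists_kron_of_mem' e P g hgT
  set Am : Matrix (Fin 3) (Fin 3) F := (A : Matrix (Fin 3) (Fin 3) F) with hAm
  set Bm : Matrix (Fin 4) (Fin 4) F := (B : Matrix (Fin 4) (Fin 4) F) with hBm
  have hAdet0 : Am.det ≠ 0 := ((Matrix.isUnit_iff_isUnit_det _).1 A.isUnit).ne_zero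
  have hBdet0 : Bm.det ≠ 0 := ((Matrix.isUnit_iff_isUnit_det _).1 B.isUnit).ne_zero
  -- the action on pure tensors
  have hact : ∀ (u : Fin 3 → F) (z : Fin 4 → F),
      (g : Matrix ι ι F) *ᵥ tau e P u z = tau e P (Am *ᵥ u) (Bm *ᵥ z) := by
    intro u z
    unfold tau
    rw [hmat, ← Matrix.mulVec_mulVec, ← Matrix.mulVec_mulVec, Matrix.mulVec_mulVec _ _ (P : Matrix ι ι F),
      ← Units.val_mul, inv_mul_cancel, Units.val_one, Matrix.one_mulVec, Matrix.submatrix_mulVec_equiv]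
    have : (pt u z ∘ e) ∘ e.symm = pt u z := by
      funext p
      simp
    rw [this, kron_pt]
  have hstar : ∀ (u u' : Fin 3 → F) (z z' : Fin 4 → F),
      f₁ (Am *ᵥ u) (Am *ᵥ u') * f₂ (Bm *ᵥ z) (Bm *ᵥ z') = f₁ u u' * f₂ z z' := by
    intro u u' z z'
    have h1 := Cfsg.Agent.Lib.H24.Asch.polar_isometry Q g hgI (tau e P u z) (tau e P u' z')
    rw [hact, hact, form_tau e P h₁.bilinear h₂.bilinear c hform,
      form_tau e P h₁.bilinear h₂.bilinear c hform] at h1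
    exact mul_left_cancel₀ hc0 h1
  -- both factors are similitudes
  obtain ⟨u₀, u₀', hu₀⟩ : ∃ u u' : Fin 3 → F, f₁ u u' ≠ 0 := by
    have hne : (Pi.single 0 1 : Fin 3 → F) ≠ 0 := by
      intro h
      have := congrFun h 0
      simp at this
    obtain ⟨-, ⟨x, hx⟩⟩ := h₁.nondegenerate _ hne
    exact ⟨_, x, hx⟩
  obtain ⟨z₀, z₀', hz₀⟩ : ∃ z z' : Fin 4 → F, f₂ z z' ≠ 0 := by
    have hne : (Pi.single 0 1 : Fin 4 → F) ≠ 0 := by
      intro h
      have := congrFun h 0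
      simp at this
    obtain ⟨-, ⟨x, hx⟩⟩ := h₂.nondegenerate _ hne
    exact ⟨_, x, hx⟩
  have hne := hstar u₀ u₀' z₀ z₀'
  have hne1 : f₁ (Am *ᵥ u₀) (Am *ᵥ u₀') ≠ 0 := by
    intro h0
    rw [h0, zero_mul] at hne
    exact mul_ne_zero hu₀ hz₀ hne.symm
  obtain ⟨μ, hμ⟩ : ∃ μ : F, μ = f₁ (Am *ᵥ u₀) (Am *ᵥ u₀') / f₁ u₀ u₀' := ⟨_, rfl⟩
  have hμ0 : μ ≠ 0 := by rw [hμ]; exact div_ne_zero hne1 hu₀
  have hBsim : ∀ z z' : Fin 4 → F, f₂ (Bm *ᵥ z) (Bm *ᵥ z') = μ⁻¹ * f₂ z z' := by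
    intro z z'
    have h := hstar u₀ u₀' z z'
    rw [hμ, inv_div]
    field_simp
    linear_combination h
  have hAsim : ∀ u u' : Fin 3 → F, f₁ (Am *ᵥ u) (Am *ᵥ u') = μ * f₁ u u' := by
    intro u u'
    have h := hstar u u' z₀ z₀'
    rw [hBsim] at h
    have h' : (f₁ (Am *ᵥ u) (Am *ᵥ u') - μ * f₁ u u') * f₂ z₀ z₀' = 0 := by
      have h3 : μ * (f₁ (Am *ᵥ u) (Am *ᵥ u') * (μ⁻¹ * f₂ z₀ z₀')) = μ * (f₁ u u' * f₂ z₀ z₀') := by rw [h]
      have h4 : μ * (f₁ (Am *ᵥ u) (Am *ᵥ u') * (μ⁻¹ * f₂ z₀ z₀')) =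
          f₁ (Am *ᵥ u) (Am *ᵥ u') * f₂ z₀ z₀' * (μ * μ⁻¹) := by ring
      rw [h4, mul_inv_cancel₀ hμ0] at h3
      linear_combination h3
    rcases mul_eq_zero.1 h' with h'' | h''
    · linear_combination h''
    · exact absurd h'' hz₀
  -- determinants
  set G₁ := gramMatrix f₁ with hG₁
  set G₂ := gramMatrix f₂ with hG₂
  have hG₁det : G₁.det ≠ 0 := det_gramMatrix_ne_zero f₁ h₁.bilinear h₁.nondegenerate
  have hG₂det : G₂.det ≠ 0 := det_gramMatrix_ne_zero f₂ h₂.bilinear h₂.nondegenerate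
  have hmatA : Amᵀ * G₁ * Am = μ • G₁ := by
    ext i j
    rw [← Cfsg.Agent.Lib.H25.AschSP2.mulVec_single_dot, ← Cfsg.Agent.Lib.H25.AschSP2.bilin_eq_gram f₁ h₁.bilinear,
      hAsim]
    rfl
  have hmatB : Bmᵀ * G₂ * Bm = μ⁻¹ • G₂ := by
    ext i j
    rw [← Cfsg.Agent.Lib.H25.AschSP2.mulVec_single_dot, ← Cfsg.Agent.Lib.H25.AschSP2.bilin_eq_gram f₂ h₂.bilinear,
      hBsim]
    rfl
  have hAdet : Am.det ^ 2 = μ ^ 3 := by
    have h := congrArg Matrix.det hmatA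
    rw [Matrix.det_mul, Matrix.det_mul, Matrix.det_transpose, Matrix.det_smul, Fintype.card_fin] at h
    have h' : (Am.det ^ 2 - μ ^ 3) * G₁.det = 0 := by linear_combination h
    rcases mul_eq_zero.1 h' with h'' | h''
    · linear_combination h''
    · exact absurd h'' hG₁det
  have hBdet : Bm.det ^ 2 = μ⁻¹ ^ 4 := by
    have h := congrArg Matrix.det hmatB
    rw [Matrix.det_mul, Matrix.det_mul, Matrix.det_transpose, Matrix.det_smul, Fintype.card_fin] at h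
    have h' : (Bm.det ^ 2 - μ⁻¹ ^ 4) * G₂.det = 0 := by linear_combination h
    rcases mul_eq_zero.1 h' with h'' | h''
    · linear_combination h''
    · exact absurd h'' hG₂det
  have hdetg : Am.det ^ 4 * Bm.det ^ 3 = 1 := by
    have h := hgdet
    rw [hmat, Matrix.det_mul, Matrix.det_mul, Matrix.det_submatrix_equiv_self, Matrix.det_kronecker,
      Fintype.card_fin, Fintype.card_fin] at h
    have hP : (P : Matrix ι ι F).det * ((P⁻¹ : GL ι F) : Matrix ι ι F).det = 1 := by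
      rw [← Matrix.det_mul, ← Units.val_mul, mul_inv_cancel, Units.val_one, Matrix.det_one]
    calc Am.det ^ 4 * Bm.det ^ 3 = ((P : Matrix ι ι F).det * ((P⁻¹ : GL ι F) : Matrix ι ι F).det) *
          (Am.det ^ 4 * Bm.det ^ 3) := by rw [hP, one_mul]
      _ = 1 := by linear_combination h
  -- `det B = μ⁻²`
  have hBdet' : Bm.det * μ ^ 2 = 1 := by
    have e1 : Am.det ^ 4 = μ ^ 6 := by
      calc Am.det ^ 4 = (Am.det ^ 2) ^ 2 := by ring
        _ = μ ^ 6 := by rw [hAdet]; ring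
    have e2 : Bm.det ^ 3 = Bm.det * μ⁻¹ ^ 4 := by
      calc Bm.det ^ 3 = Bm.det * Bm.det ^ 2 := by ring
        _ = _ := by rw [hBdet]
    rw [e1, e2] at hdetg
    have e3 : μ ^ 6 * (Bm.det * μ⁻¹ ^ 4) = Bm.det * μ ^ 2 := by
      field_simp
    rw [e3] at hdetg
    exact hdetg
  -- the scalar `s` with `s² = μ⁻¹`
  obtain ⟨s, hs⟩ : ∃ s : F, s = μ / Am.det := ⟨_, rfl⟩
  have hs0 : s ≠ 0 := by rw [hs]; exact div_ne_zero hμ0 hAdet0
  have hs2 : s ^ 2 = μ⁻¹ := by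
    rw [hs, div_pow, hAdet]
    field_simp
  -- the isometry `s⁻¹ B`
  have hB'det : (s⁻¹ • Bm).det = 1 := by
    rw [Matrix.det_smul, Fintype.card_fin]
    have : s⁻¹ ^ 4 = μ ^ 2 := by
      calc s⁻¹ ^ 4 = ((s ^ 2)⁻¹) ^ 2 := by rw [inv_pow, inv_pow]; ring
        _ = μ ^ 2 := by rw [hs2, inv_inv]
    rw [this, mul_comm]
    exact hBdet'
  obtain ⟨B', hB'⟩ : ∃ B' : GL (Fin 4) F, (B' : Matrix (Fin 4) (Fin 4) F) = s⁻¹ • Bm :=
    ⟨Matrix.GeneralLinearGroup.mkOfDetNeZero _ (by rw [hB'det]; exact one_ne_zero), rfl⟩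
  have hB'iso : ∀ x y : Fin 4 → F,
      f₂ ((B' : Matrix (Fin 4) (Fin 4) F) *ᵥ x) ((B' : Matrix (Fin 4) (Fin 4) F) *ᵥ y) = f₂ x y := by
    intro x y
    rw [hB', Matrix.smul_mulVec, Matrix.smul_mulVec, h₂.bilinear.smul_left, h₂.bilinear.smul_right, hBsim,
      ← hs2]
    field_simp
  obtain ⟨C, E, hCE⟩ := exists_kron_of_isometry h2 f₂ R hR B' hB'iso (by rw [hB', hB'det])
  rw [hB'] at hCE
  -- invertibility of `C` and `E`
  have hCEdet : (C ⊗ₖ E).det ≠ 0 := by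
    intro h0
    have h := congrArg Matrix.det hCE
    rw [Matrix.det_mul, Matrix.det_mul, Matrix.det_submatrix_equiv_self, h0, mul_zero, hB'det, one_mul] at h
    exact hRdet h
  rw [Matrix.det_kronecker, Fintype.card_fin] at hCEdet
  have hCdet : C.det ≠ 0 := by
    intro h0
    rw [h0] at hCEdet
    simp at hCEdet
  have hEdet : E.det ≠ 0 := by
    intro h0
    rw [h0] at hCEdet
    simp at hCEdet
  have hsCdet : (s • C).det ≠ 0 := by
    rw [Matrix.det_smul]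
    exact mul_ne_zero (pow_ne_zero _ hs0) hCdet
  obtain ⟨C', hC'⟩ : ∃ C' : GL (Fin 2) F, (C' : Matrix (Fin 2) (Fin 2) F) = s • C :=
    ⟨Matrix.GeneralLinearGroup.mkOfDetNeZero _ hsCdet, rfl⟩
  have hBR : Bm * Rm = Rm * ((C' : Matrix (Fin 2) (Fin 2) F) ⊗ₖ E).submatrix e22 e22 := by
    have e1 : Bm = s • (s⁻¹ • Bm) := by rw [smul_smul, mul_inv_cancel₀ hs0, one_smul]
    have e3 : ((s • C) ⊗ₖ E).submatrix e22 e22 = s • (C ⊗ₖ E).submatrix e22 e22 := by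
      ext i j
      simp [Matrix.kroneckerMap_apply, mul_assoc]
    rw [e1, Matrix.smul_mul, hCE, hC', e3, Matrix.mul_smul]
  exact regroup_mem e P t R ht g A Bm hmat C' E hEdet hBR

end main

end Cfsg.Agent.Lib.H24.EOP2
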