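import Mathlib
import Cfsg.Agent.Lib.H13.OES4
import Cfsg.Agent.S0750

set_option autoImplicit false

/-!
# Nondegenerate subspaces of given type of an even-dimensional quadratic space (helper24)

Basic tools for `PΩ^±_{2d}(q)` acting on nondegenerate hyperbolic / elliptic `m`-spaces
(S5974, S5988, S5990), on top of helper13's `OES` library (`PlusOn` language):

* `NdT Q m τ W`: `W` is a nondegenerate `m`-space which is of plus type iff `τ`;
* transport of `NDon`, `PlusOn` along injective isometric maps;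
* `exists_typed_sub`: nondegenerate subspaces of prescribed dimension and type inside a
  nondegenerate subspace;
* the predicates of the statements in terms of `NdT`.
-/

namespace Cfsg.Agent.Lib.H24.On

open Polynomial Module
open Cfsg.Agent.Lib.H24.Elus
open Cfsg.Agent.Lib.H13
open Cfsg.Agent.Lib.H13.OES
open Cfsg.Agent.Lib.H10.OrtNd (PB TS PlusOn PB_apply PB_symm PB_self TS_mono)

section defs

variable {F : Type*} [Field F] {V : Type*} [AddCommGroup V] [Module F V]

/-- `W` is a nondegenerate `m`-space, of plus type iff `τ` -/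
def NdT (Q : QuadraticForm F V) (m : ℕ) (τ : Prop) (W : Submodule F V) : Prop :=
  finrank F W = m ∧ NDon (PB Q) W ∧ (PlusOn Q W ↔ τ)

theorem PlusOn_bot (Q : QuadraticForm F V) : PlusOn Q (⊥ : Submodule F V) :=
  ⟨⊥, le_rfl, TS_bot Q, by rw [finrank_bot]⟩

end defs

section transport

variable {F : Type*} [Field F] {V : Type*} [AddCommGroup V] [Module F V]
  {V' : Type*} [AddCommGroup V'] [Module F V']

theorem PlusOn_iff_restr [FiniteDimensional F V] (Q : QuadraticForm F V) (U : Submodule F V) :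
    PlusOn Q U ↔ PlusOn (restrQ Q U) ⊤ := by
  have h := PlusOn_range_iff Q (restrQ Q U) U.subtype (fun _ => rfl)
    (Submodule.injective_subtype U)
  rwa [Submodule.range_subtype] at h

theorem NDon_iff_restr (Q : QuadraticForm F V) (U : Submodule F V) :
    NDon (PB Q) U ↔ (QuadraticMap.polarBilin (restrQ Q U)).Nondegenerate := by
  constructor
  · exact nondeg_restrQ Q
  · intro h
    have := NDon_range Q (restrQ Q U) U.subtype (fun _ => rfl) (Submodule.injective_subtype U) h
    rwa [Submodule.range_subtype] at this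

/-- the map induced on a subspace by an isometric map -/
theorem PlusOn_map_iff [FiniteDimensional F V'] (Q : QuadraticForm F V) (Q' : QuadraticForm F V')
    (f : V' →ₗ[F] V) (hf : ∀ v, Q (f v) = Q' v) (hinj : Function.Injective f)
    (U' : Submodule F V') : PlusOn Q (U'.map f) ↔ PlusOn Q' U' := by
  rw [PlusOn_iff_restr Q' U']
  have h := PlusOn_range_iff Q (restrQ Q' U') (f ∘ₗ U'.subtype) (fun v => hf _)
    (hinj.comp (Submodule.injective_subtype U'))
  rwa [LinearMap.range_comp, Submodule.range_subtype] at h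

theorem NDon_map_iff (Q : QuadraticForm F V) (Q' : QuadraticForm F V')
    (f : V' →ₗ[F] V) (hf : ∀ v, Q (f v) = Q' v) (hinj : Function.Injective f)
    (U' : Submodule F V') : NDon (PB Q) (U'.map f) ↔ NDon (PB Q') U' := by
  constructor
  · intro h u hu hu0
    have h1 : f u = 0 := by
      apply h (f u) (Submodule.mem_map_of_mem hu)
      rintro _ ⟨w, hw, rfl⟩
      rw [PB_of_isometric Q Q' f hf]
      exact hu0 w hw
    exact hinj (by rw [h1, map_zero])
  · rintro h _ ⟨u, hu, rfl⟩ hu0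
    have h1 : u = 0 := by
      apply h u hu
      intro w hw
      rw [← PB_of_isometric Q Q' f hf]
      exact hu0 (f w) (Submodule.mem_map_of_mem hw)
    rw [h1, map_zero]

theorem finrank_map_inj (f : V' →ₗ[F] V) (hinj : Function.Injective f) (U' : Submodule F V') :
    finrank F (U'.map f) = finrank F U' :=
  (LinearEquiv.finrank_eq (Submodule.equivMapOfInjective f hinj U')).symm

end transport

section typed

variable {F : Type*} [Field F] [Fintype F] {V : Type*} [AddCommGroup V] [Module F V]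
  [FiniteDimensional F V]

/-- nondegenerate subspaces of prescribed dimension and type inside a nondegenerate subspace -/
theorem exists_typed_sub (Q : QuadraticForm F V) (C : Submodule F V) (hC : NDon (PB Q) C)
    (f : ℕ) (hf : finrank F C = 2 * f) (j : ℕ) (τ : Prop) (hj : j ≤ f) (h0 : j = 0 → τ)
    (hff : j = f → (τ ↔ PlusOn Q C)) :
    ∃ W : Submodule F V, W ≤ C ∧ finrank F W = 2 * j ∧ NDon (PB Q) W ∧ (PlusOn Q W ↔ τ) := by
  classical
  rcases Nat.eq_zero_or_pos j with hj0 | hj0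
  · subst hj0
    refine ⟨⊥, bot_le, by rw [finrank_bot], NDon_bot _, ?_⟩
    exact ⟨fun _ => h0 rfl, fun _ => PlusOn_bot Q⟩
  rcases Nat.lt_or_ge j f with hlt | hge
  · obtain ⟨Q₁, hQ₁, hτ₁⟩ := exists_space_of_type (F := F) j hj0 τ
    obtain ⟨Q₂, hQ₂, hτ₂⟩ := exists_space_of_type (F := F) (f - j) (by omega) (τ ↔ PlusOn Q C)
    have hfr₁ : finrank F (Fin (2 * j) → F) = 2 * j := by
      rw [Module.finrank_fintype_fun_eq_card, Fintype.card_fin]
    have hfr₂ : finrank F (Fin (2 * (f - j)) → F) = 2 * (f - j) := by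
      rw [Module.finrank_fintype_fun_eq_card, Fintype.card_fin]
    have hP : PlusOn (Q₁.prod Q₂) ⊤ ↔ PlusOn (restrQ Q C) ⊤ := by
      rw [PlusOn_prod_iff Q₁ Q₂ hQ₁ hQ₂ (by rw [hfr₁]; exact ⟨j, by ring⟩)
        (by rw [hfr₂]; exact ⟨f - j, by ring⟩), hτ₁, hτ₂, ← PlusOn_iff_restr]
      tauto
    obtain ⟨Φ, hΦ⟩ := iso_of_same_type (Q₁.prod Q₂) (restrQ Q C) (nondeg_prod Q₁ Q₂ hQ₁ hQ₂)
      (nondeg_restrQ Q hC) f (by omega) (by rw [Module.finrank_prod, hfr₁, hfr₂]; omega) hf hP
    obtain ⟨g, hg⟩ : ∃ g : (Fin (2 * j) → F) →ₗ[F] V,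
        g = C.subtype ∘ₗ
          ((Φ : ((Fin (2 * j) → F) × (Fin (2 * (f - j)) → F)) →ₗ[F] ↥C) ∘ₗ
            LinearMap.inl F (Fin (2 * j) → F) (Fin (2 * (f - j)) → F)) := ⟨_, rfl⟩
    have hgapp : ∀ v, g v = ((Φ (v, 0) : ↥C) : V) := by
      intro v
      rw [hg]
      rfl
    have hgQ : ∀ v, Q (g v) = Q₁ v := by
      intro v
      rw [hgapp, ← restrQ_apply, hΦ, QuadraticMap.prod_apply, map_zero, add_zero]
    have hginj : Function.Injective g := by
      intro u v huv
      rw [hgapp, hgapp] at huv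
      have := Φ.injective (Subtype.ext huv)
      exact (Prod.mk.inj this).1
    refine ⟨LinearMap.range g, ?_, ?_, NDon_range Q Q₁ g hgQ hginj hQ₁, ?_⟩
    · rintro _ ⟨v, rfl⟩
      rw [hgapp]
      exact (Φ (v, 0)).2
    · rw [LinearMap.finrank_range_of_inj hginj, hfr₁]
    · rw [PlusOn_range_iff Q Q₁ g hgQ hginj, hτ₁]
  · have hjf : j = f := by omega
    refine ⟨C, le_rfl, by rw [hf, hjf], hC, (hff hjf).symm⟩

end typed

section statements

variable {F : Type*} [Field F] {ι : Type} (Q : QuadraticForm F (ι → F))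

/-- the predicate of S5974 -/
theorem ndT_true_iff (m : ℕ) (W : Submodule F (ι → F)) :
    (finrank F ↥W = m ∧ (∀ u ∈ W, u ≠ 0 → ∃ v ∈ W, QuadraticMap.polar (⇑Q) u v ≠ 0) ∧
      ∃ U : Submodule F (ι → F), U ≤ W ∧ 2 * finrank F ↥U = m ∧ ∀ u ∈ U, Q u = 0) ↔
    NdT Q m True W := by
  unfold NdT
  constructor
  · rintro ⟨h1, h2, U, hUW, hUd, hU⟩
    refine ⟨h1, ?_, ?_⟩
    · intro u hu h0
      by_contra hne
      obtain ⟨v, hv, hv0⟩ := h2 u hu hne
      exact hv0 (h0 v hv)
    · exact ⟨fun _ => trivial, fun _ => ⟨U, hUW, hU, by rw [hUd, h1]⟩⟩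
  · rintro ⟨h1, h2, h3⟩
    obtain ⟨U, hUW, hU, hUd⟩ := h3.mpr trivial
    refine ⟨h1, ?_, U, hUW, by rw [hUd, h1], hU⟩
    intro u hu hne
    by_contra hcon
    push Not at hcon
    exact hne (h2 u hu hcon)

/-- the predicate of S5988 and S5990 -/
theorem ndT_false_iff (m : ℕ) (W : Submodule F (ι → F)) :
    (finrank F ↥W = m ∧ Cfsg.Geo.IsNondegenerateOn (QuadraticMap.polar (⇑Q)) W ∧
      ¬ Cfsg.Geo.IsPlusTypeOn (⇑Q) W) ↔ NdT Q m False W := by
  unfold NdT Cfsg.Geo.IsNondegenerateOn Cfsg.Geo.IsPlusTypeOn Cfsg.Geo.IsTotallySingularQuad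
  constructor
  · rintro ⟨h1, h2, h3⟩
    refine ⟨h1, ?_, ?_⟩
    · intro u hu h0
      by_contra hne
      obtain ⟨-, v, hv, hv0⟩ := h2 u hu hne
      exact hv0 (h0 v hv)
    · exact ⟨fun h => h3 h, fun h => h.elim⟩
  · rintro ⟨h1, h2, h3⟩
    refine ⟨h1, ?_, fun h => h3.mp h⟩
    intro u hu hne
    have : ∃ v ∈ W, QuadraticMap.polar (⇑Q) u v ≠ 0 := by
      by_contra hcon
      push Not at hcon
      exact hne (h2 u hu hcon)
    obtain ⟨v, hv, hv0⟩ := this
    exact ⟨⟨v, hv, by rw [QuadraticMap.polar_comm]; exact hv0⟩, v, hv, hv0⟩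

end statements

end Cfsg.Agent.Lib.H24.On
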