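/-
EO project phase 2 (helper24), **EO2-T7**: an odd number of pairwise orthogonal minus-type blocks of even dimension
gives minus type (any finite index type; exact `Fin n` signature of `tools/blueprints/EO2_sigs.lean` is an instance).
More generally the sum of the blocks indexed by `s` is of plus type iff `s.card` is even.
-/
import Cfsg.Agent.Lib.H6.AschEO2T5a
import Cfsg.Agent.Lib.H29.Orth

set_option autoImplicit false

namespace Cfsg.Agent.Lib.H24.EOP2

open Cfsg Cfsg.Geo Module
open Cfsg.Agent.Lib.H24.Elus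
open Cfsg.Agent.Lib.H13.OES
open Cfsg.Agent.Lib.H13.OSS
open Cfsg.Agent.Lib.H10.OrtNd (PB TS PlusOn PB_apply PB_symm PB_self TS_mono)
open Cfsg.Agent.Lib.H29.Orth

variable {ι : Type} [Fintype ι] [DecidableEq ι] {F : Type*} [Field F] [Fintype F]

/-- Prelude non-degeneracy on a subspace in the `NDon` language -/
theorem ndon_of_isNondegenerateOn (Q : QuadraticForm F (ι → F)) (W : Submodule F (ι → F))
    (h : IsNondegenerateOn (QuadraticMap.polar (⇑Q)) W) : NDon (PB Q) W := by
  intro u hu hu0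
  by_contra hne
  obtain ⟨-, ⟨x, hx, hxu⟩⟩ := h u hu hne
  apply hxu
  have := hu0 x hx
  rwa [PB_apply] at this

/-- the type of a partial sum of pairwise orthogonal minus-type blocks of even dimension -/
theorem minus_blocks_partial (Q : QuadraticForm F (ι → F)) {t : ℕ} (k : ℕ) (hk : Even k)
    (D : Fin t → Submodule F (ι → F)) (hfr : ∀ i, finrank F (D i) = k)
    (hnd : ∀ i, NDon (PB Q) (D i)) (horth : ∀ i j, i ≠ j → ∀ u ∈ D i, ∀ v ∈ D j, PB Q u v = 0)
    (hminus : ∀ i, ¬ PlusOn Q (D i)) (s : Finset (Fin t)) :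
    NDon (PB Q) (⨆ i ∈ s, D i) ∧ finrank F ↥(⨆ i ∈ s, D i) = k * s.card ∧
      (PlusOn Q (⨆ i ∈ s, D i) ↔ Even s.card) := by
  classical
  have hrefl := PB_refl Q
  induction s using Finset.induction_on with
  | empty =>
    have hbot : (⨆ i ∈ (∅ : Finset (Fin t)), D i) = ⊥ := by simp
    rw [hbot, Finset.card_empty, mul_zero, finrank_bot]
    exact ⟨NDon_bot (PB Q), rfl, fun _ => Even.zero, fun _ => ⟨⊥, le_rfl, TS_bot Q, by rw [finrank_bot]⟩⟩
  | insert a s ha ih =>
    obtain ⟨ihnd, ihfr, ihp⟩ := ih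
    rw [Finset.iSup_insert, Finset.card_insert_of_notMem ha]
    have horthA : ∀ u ∈ D a, ∀ v ∈ ⨆ i ∈ s, D i, PB Q u v = 0 := by
      have hle : (⨆ i ∈ s, D i) ≤ (PB Q).orthogonal (D a) := by
        apply iSup₂_le
        intro i hi v hv
        rw [LinearMap.BilinForm.mem_orthogonal_iff]
        intro u hu
        exact horth a i (fun h => ha (h ▸ hi)) u hu v hv
      intro u hu v hv
      exact (LinearMap.BilinForm.mem_orthogonal_iff.1 (hle hv)) u hu
    refine ⟨NDon_supR (PB Q) hrefl _ _ (hnd a) ihnd horthA, ?_, ?_⟩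
    · have h1 := Submodule.finrank_sup_add_finrank_inf_eq (D a) (⨆ i ∈ s, D i)
      rw [inf_eq_bot_of_orthR (PB Q) hrefl _ _ (hnd a) horthA, finrank_bot, hfr, ihfr] at h1
      rw [mul_add, mul_one]
      omega
    · rw [Cfsg.Agent.Lib.H6.EOP2.plus_sup_iff Q (D a) (⨆ i ∈ s, D i) (hnd a) ihnd horthA
        (by rw [hfr]; exact hk) (by rw [ihfr]; exact hk.mul_right _), ihp, Nat.even_add_one]
      constructor
      · intro h he
        exact hminus a (h.2 he)
      · intro h
        exact ⟨fun hp => absurd hp (hminus a), fun he => absurd he h⟩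

/-- **EO2-T7**, any finite index type -/
theorem not_plus_of_odd_minus_blocks (Q : (ι → F) → F) (hQ : IsNondegenerateQuadraticForm Q) {t : ℕ}
    (k : ℕ) (ht : Odd t) (hk : Even k) (D : Fin t → Submodule F (ι → F))
    (hD : IsOrthogonalMDecomposition Q k D) (hminus : ∀ i, ¬ IsPlusTypeOn Q (D i)) :
    ¬ IsPlusTypeOn Q ⊤ := by
  classical
  have h := minus_blocks_partial (toQF Q hQ) k hk D hD.decomp.decomp.finrank_eq
    (fun i => ndon_of_isNondegenerateOn (toQF Q hQ) (D i) (hD.decomp.nondegenerate i))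
    (fun i j hij u hu v hv => hD.decomp.orthogonal i j hij u hu v hv) hminus Finset.univ
  obtain ⟨-, -, hp⟩ := h
  have htop : (⨆ i ∈ (Finset.univ : Finset (Fin t)), D i) = ⊤ := by
    simp only [Finset.mem_univ, iSup_pos]
    exact hD.decomp.decomp.iSup_eq_top
  rw [htop, Finset.card_univ, Fintype.card_fin] at hp
  intro hplus
  exact (Nat.not_even_iff_odd.2 ht) (hp.1 hplus)

end Cfsg.Agent.Lib.H24.EOP2
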