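import Cfsg.Agent.Lib.H13.HSDefs

/-!
# S2536 piece P2 STAB : stabilizers in the symmetric group (helper24)

Exact signatures of `tools/blueprints/S2536_sigs.lean`, section P2:
`card_stabilizer_set`, `index_stabilizer_set`, `card_stabilizer_point`, `hall_setRes`,
`hall_ptRes`, `ptRes_eq_stabilizer`, `ptRes_eq_stabilizer_set`.
-/

set_option linter.unusedSectionVars false

namespace Cfsg.Agent.Lib.H24.HS

open Equiv MulAction Cfsg.Agent.Lib.H13.HS
open scoped Pointwise

variable {α : Type*} [Finite α] {π : Set ℕ} {H : Subgroup (Perm α)}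

omit [Finite α] in
theorem p2_range_subtypeCongrHom (s : Set α) [DecidablePred (· ∈ s)] :
    (Equiv.Perm.subtypeCongrHom (· ∈ s)).range = stabilizer (Perm α) s := by
  ext g
  constructor
  · rintro ⟨⟨e1, e2⟩, rfl⟩
    rw [mem_stabilizer_set]
    intro b
    show (Equiv.Perm.subtypeCongr e1 e2) b ∈ s ↔ b ∈ s
    by_cases hb : b ∈ s
    · rw [Equiv.Perm.subtypeCongr.left_apply _ _ hb]
      exact ⟨fun _ => hb, fun _ => (e1 ⟨b, hb⟩).2⟩
    · rw [Equiv.Perm.subtypeCongr.right_apply _ _ hb]
      exact ⟨fun h => absurd h (e2 ⟨b, hb⟩).2, fun h => absurd h hb⟩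
  · intro hg
    rw [mem_stabilizer_set] at hg
    have h1 : ∀ x, g x ∈ s ↔ x ∈ s := hg
    have h2 : ∀ x, ¬ (g x ∈ s) ↔ ¬ (x ∈ s) := fun x => not_congr (h1 x)
    refine ⟨(g.subtypePerm h1, g.subtypePerm h2), ?_⟩
    ext x
    show (Equiv.Perm.subtypeCongr _ _) x = g x
    by_cases hx : x ∈ s
    · rw [Equiv.Perm.subtypeCongr.left_apply _ _ hx]; rfl
    · rw [Equiv.Perm.subtypeCongr.right_apply _ _ hx]; rfl

theorem card_stabilizer_set (s : Set α) :
    Nat.card (stabilizer (Perm α) s) = (s.ncard).factorial * (sᶜ.ncard).factorial := by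
  classical
  rw [← p2_range_subtypeCongrHom s]
  have e : (Perm {a // a ∈ s} × Perm {a // ¬ a ∈ s}) ≃ (Equiv.Perm.subtypeCongrHom (· ∈ s)).range :=
    Equiv.ofInjective _ (Equiv.Perm.subtypeCongrHom_injective (· ∈ s))
  rw [← Nat.card_congr e, Nat.card_prod, Nat.card_perm, Nat.card_perm]
  congr 2

theorem index_stabilizer_set (s : Set α) :
    (stabilizer (Perm α) s).index = (Nat.card α).choose s.ncard := by
  have h1 := Subgroup.index_mul_card (stabilizer (Perm α) s)
  rw [card_stabilizer_set, Nat.card_perm] at h1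
  have h2 : s.ncard + sᶜ.ncard = Nat.card α :=
    Set.ncard_add_ncard_compl s (Set.toFinite s) (Set.toFinite _)
  have h3 := Nat.add_choose_mul_factorial_mul_factorial sᶜ.ncard s.ncard
  rw [add_comm, h2] at h3
  have hpos : 0 < (s.ncard).factorial * (sᶜ.ncard).factorial :=
    Nat.mul_pos (Nat.factorial_pos _) (Nat.factorial_pos _)
  apply Nat.eq_of_mul_eq_mul_right hpos
  rw [h1, ← h3]
  ring

theorem card_stabilizer_point (a : α) :
    Nat.card (stabilizer (Perm α) a) = (Nat.card α - 1).factorial := by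
  rw [← stabilizer_singleton, card_stabilizer_set]
  have h2 : ({a} : Set α).ncard + ({a} : Set α)ᶜ.ncard = Nat.card α :=
    Set.ncard_add_ncard_compl _ (Set.toFinite _) (Set.toFinite _)
  rw [Set.ncard_singleton] at h2 ⊢
  have : ({a} : Set α)ᶜ.ncard = Nat.card α - 1 := by omega
  rw [this]; simp


theorem p2_hall_subgroupOf {G : Type*} [Group G] {H K : Subgroup G}
    (hH : Cfsg.IsPiHall π H) (hHK : H ≤ K) : Cfsg.IsPiHall π (H.subgroupOf K) := by
  rw [isPiHall_iff] at hH ⊢
  refine ⟨?_, ?_⟩
  · rw [Nat.card_congr (Subgroup.subgroupOfEquivOfLe hHK).toEquiv]; exact hH.1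
  · intro p hp hpπ hdvd
    exact hH.2 p hp hpπ (dvd_trans hdvd (Subgroup.relIndex_dvd_index_of_le hHK))

theorem p2_hall_map {G Q : Type*} [Group G] [Group Q] {H : Subgroup G} (φ : G →* Q)
    (hφ : Function.Surjective φ) (hH : Cfsg.IsPiHall π H) : Cfsg.IsPiHall π (H.map φ) := by
  rw [isPiHall_iff] at hH ⊢
  refine ⟨?_, ?_⟩
  · intro p hp hdvd
    exact hH.1 p hp (dvd_trans hdvd (Subgroup.card_map_dvd H φ))
  · intro p hp hpπ hdvd
    exact hH.2 p hp hpπ (dvd_trans hdvd (Subgroup.index_map_dvd H hφ))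

theorem hall_setRes (hH : Cfsg.IsPiHall π H) {s : Set α} (hs : H ≤ stabilizer (Perm α) s) :
    Cfsg.IsPiHall π (setRes H s) := by
  unfold setRes
  refine p2_hall_map _ ?_ (p2_hall_subgroupOf hH hs)
  exact Equiv.Perm.stabilizer.surjective_toPerm s

omit [Finite α] in
theorem p2_range_ofSubtype (a : α) :
    (@Equiv.Perm.ofSubtype α (fun x => x ≠ a) (Classical.decPred _)).range
      = stabilizer (Perm α) a := by
  let _ : DecidablePred (fun x : α => x ≠ a) := Classical.decPred _
  ext g
  constructor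
  · rintro ⟨σ, rfl⟩
    rw [mem_stabilizer_iff]
    exact Equiv.Perm.ofSubtype_apply_of_not_mem σ (by simp)
  · intro hg
    rw [mem_stabilizer_iff] at hg
    have hga : g a = a := hg
    have hp : ∀ x, (fun x => x ≠ a) (g x) ↔ (fun x => x ≠ a) x := by
      intro x
      show g x ≠ a ↔ x ≠ a
      constructor
      · intro h1 h2; exact h1 (by rw [h2, hga])
      · intro h1 h2; exact h1 (g.injective (by rw [h2, hga]))
    refine ⟨g.subtypePerm hp, ?_⟩
    apply Equiv.Perm.ofSubtype_subtypePerm hp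
    intro x hx h2
    exact hx (by rw [h2, hga])

theorem hall_ptRes (hH : Cfsg.IsPiHall π H) (htr : IsPretransitive H α) (a : α) :
    Cfsg.IsPiHall π (ptRes H a) := by
  rw [isPiHall_iff] at hH ⊢
  set f : Perm {x : α // x ≠ a} →* Perm α :=
    @Equiv.Perm.ofSubtype α (fun x => x ≠ a) (Classical.decPred _) with hf
  have hfinj : Function.Injective f :=
    @Equiv.Perm.ofSubtype_injective α (fun x => x ≠ a) (Classical.decPred _)
  refine ⟨?_, ?_⟩
  · -- card
    intro p hp hdvd
    apply hH.1 p hp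
    refine dvd_trans hdvd ?_
    let j : (ptRes H a) →* H :=
      { toFun := fun x => ⟨f x.1, x.2⟩
        map_one' := by ext : 1; simp
        map_mul' := by intro x y; ext : 1; simp }
    refine Subgroup.card_dvd_of_injective j ?_
    intro x y hxy
    have : f x.1 = f y.1 := congrArg Subtype.val hxy
    exact Subtype.ext (hfinj this)
  · -- index
    have hidx : (ptRes H a).index = H.index := by
      unfold ptRes
      rw [Subgroup.index_comap, p2_range_ofSubtype a]
      set K := stabilizer (Perm α) a with hK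
      have h1 : (H ⊓ K).relIndex K * K.index = (H ⊓ K).index :=
        Subgroup.relIndex_mul_index inf_le_right
      have h2 : (H ⊓ K).relIndex H * H.index = (H ⊓ K).index :=
        Subgroup.relIndex_mul_index inf_le_left
      rw [Subgroup.inf_relIndex_right] at h1
      rw [Subgroup.inf_relIndex_left] at h2
      have h3 : K.index = Nat.card α := index_stabilizer_of_transitive (Perm α) a
      have h4 : K.relIndex H = Nat.card α := by
        have : K.subgroupOf H = stabilizer H a := by
          ext h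
          rw [Subgroup.mem_subgroupOf, mem_stabilizer_iff, mem_stabilizer_iff]
          rfl
        rw [Subgroup.relIndex, this]
        exact index_stabilizer_of_transitive H a
      rw [h3] at h1
      rw [h4] at h2
      have hpos : 0 < Nat.card α := by
        have : Nonempty α := ⟨a⟩
        exact Nat.card_pos
      apply Nat.eq_of_mul_eq_mul_left hpos
      rw [h2, ← h1, mul_comm]
    rw [hidx]; exact hH.2

omit [Finite α] in
theorem p2_fix_iff {a : α} (g : Perm α) (hga : g a = a) (x : α) :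
    (fun x => x ≠ a) (g x) ↔ (fun x => x ≠ a) x := by
  show g x ≠ a ↔ x ≠ a
  constructor
  · intro h1 h2; exact h1 (by rw [h2, hga])
  · intro h1 h2; exact h1 (g.injective (by rw [h2, hga]))

omit [Finite α] in
theorem p2_mem_iff {a : α} (g : Perm α) (hga : g a = a) :
    g ∈ H ↔ g.subtypePerm (p2_fix_iff g hga) ∈ ptRes H a := by
  unfold ptRes
  rw [Subgroup.mem_comap]
  let _ : DecidablePred (fun x : α => x ≠ a) := Classical.decPred _
  have : @Equiv.Perm.ofSubtype α (fun x => x ≠ a) (Classical.decPred _)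
      (g.subtypePerm (p2_fix_iff g hga)) = g := by
    apply Equiv.Perm.ofSubtype_subtypePerm
    intro x hx h2
    exact hx (by rw [h2, hga])
  rw [this]

theorem ptRes_eq_stabilizer {a : α} {b : {x : α // x ≠ a}}
    (h : ptRes H a = stabilizer (Perm {x : α // x ≠ a}) b) :
    ∀ g : Perm α, g a = a → (g ∈ H ↔ g (b : α) = b) := by
  intro g hga
  rw [p2_mem_iff g hga, h, mem_stabilizer_iff]
  rw [Subtype.ext_iff]
  rfl

theorem ptRes_eq_stabilizer_set {a : α} {t : Set {x : α // x ≠ a}}
    (h : ptRes H a = stabilizer (Perm {x : α // x ≠ a}) t) :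
    ∀ g : Perm α, g a = a → (g ∈ H ↔ g • (Subtype.val '' t) = Subtype.val '' t) := by
  intro g hga
  rw [p2_mem_iff g hga, h, mem_stabilizer_iff]
  set σ : Perm {x : α // x ≠ a} := g.subtypePerm (p2_fix_iff g hga) with hσ
  have key : g • (Subtype.val '' t) = Subtype.val '' (σ • t) := by
    ext x
    simp only [Set.mem_smul_set, Set.mem_image]
    constructor
    · rintro ⟨y, ⟨z, hz, rfl⟩, rfl⟩
      exact ⟨σ z, ⟨z, hz, rfl⟩, rfl⟩
    · rintro ⟨w, ⟨z, hz, rfl⟩, rfl⟩
      exact ⟨z.1, ⟨z, hz, rfl⟩, rfl⟩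
  rw [key]
  exact ((Set.image_injective.mpr Subtype.val_injective).eq_iff).symm

end Cfsg.Agent.Lib.H24.HS
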