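import Cfsg.Agent.Lib.H13.HSDefs2
import Cfsg.Agent.Lib.H24.HSP2

/-!
# S2535 piece A2 : point stabilizers of transitive Hall subgroups of `A_n` (helper24)

Exact signatures of `tools/blueprints/S2535_sigs.lean`: `alt_ptRes`, `alt_transport_point`,
`alt_transport_set`.
-/

set_option linter.unusedSectionVars false
set_option linter.unusedVariables false

namespace Cfsg.Agent.Lib.H24.HS

open Equiv MulAction Cfsg.Agent.Lib.H13.HS
open scoped Pointwise

/-- membership in `altSub` in terms of the sign, for any instances. -/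
theorem a2_mem_altSub_iff {α : Type*} [Fintype α] [DecidableEq α] (g : Perm α) :
    g ∈ altSub α ↔ Equiv.Perm.sign g = 1 := by
  rw [altSub_eq α, Equiv.Perm.mem_alternatingGroup]

/-- `A_{n-1}` is the preimage of `A_n` under extension by the identity. -/
theorem a2_altSub_comap {α : Type*} [Finite α] (a : α) :
    (altSub α).comap (ptLift a) = altSub {x : α // x ≠ a} := by
  classical
  have : Fintype α := Fintype.ofFinite α
  ext σ
  rw [Subgroup.mem_comap, a2_mem_altSub_iff, a2_mem_altSub_iff]
  have : Equiv.Perm.sign (ptLift a σ) = Equiv.Perm.sign σ := by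
    unfold ptLift
    have h := @Equiv.Perm.sign_ofSubtype α _ _ (fun x => x ≠ a) (Classical.decPred _) _ σ
    convert h
  rw [this]

/-- index bookkeeping for the passage to a point stabilizer. -/
theorem a2_relIndex_inf {G : Type*} [Group G] {M A K : Subgroup G} (hMA : M ≤ A) {n : ℕ} (hn : 0 < n)
    (h1 : (M ⊓ K).relIndex M = n) (h2 : (A ⊓ K).relIndex A = n) :
    M.relIndex (A ⊓ K) = M.relIndex A := by
  have e1 : M.relIndex (A ⊓ K) = (M ⊓ K).relIndex (A ⊓ K) := by
    rw [← Subgroup.inf_relIndex_right M (A ⊓ K)]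
    congr 1
    rw [← inf_assoc, inf_eq_left.mpr hMA]
  have c1 : (M ⊓ K).relIndex (A ⊓ K) * (A ⊓ K).relIndex A = (M ⊓ K).relIndex A :=
    Subgroup.relIndex_mul_relIndex _ _ _ (inf_le_inf_right K hMA) inf_le_left
  have c2 : (M ⊓ K).relIndex M * M.relIndex A = (M ⊓ K).relIndex A :=
    Subgroup.relIndex_mul_relIndex _ _ _ inf_le_left hMA
  rw [h2] at c1
  rw [h1] at c2
  rw [e1]
  apply Nat.eq_of_mul_eq_mul_left hn
  rw [c2, ← c1, mul_comm]

/-- the relative index of a point stabilizer in a transitive subgroup. -/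
theorem a2_relIndex_stab {α : Type*} [Finite α] (M : Subgroup (Perm α)) (htr : IsPretransitive M α)
    (a : α) : (M ⊓ stabilizer (Perm α) a).relIndex M = Nat.card α := by
  rw [Subgroup.inf_relIndex_left]
  have : (stabilizer (Perm α) a).subgroupOf M = stabilizer M a := by
    ext h
    rw [Subgroup.mem_subgroupOf, mem_stabilizer_iff, mem_stabilizer_iff]
    rfl
  rw [Subgroup.relIndex, this]
  exact index_stabilizer_of_transitive M a

theorem alt_ptRes {α : Type*} [Finite α] {π : Set ℕ} {M : Subgroup (Perm α)}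
    (hM : Cfsg.IsPiHallOf π M (altSub α)) (htr : IsPretransitive M α) (h3 : 3 ≤ Nat.card α) (a : α) :
    Cfsg.IsPiHallOf π (ptRes M a) (altSub {x : α // x ≠ a}) := by
  obtain ⟨hMA, hcard, hidx⟩ := hM
  have hfinj : Function.Injective (ptLift a) :=
    @Equiv.Perm.ofSubtype_injective α (fun x => x ≠ a) (Classical.decPred _)
  refine ⟨?_, ?_, ?_⟩
  · rw [← a2_altSub_comap a, ptRes_eq_comap]
    exact Subgroup.comap_mono hMA
  · intro p hp hdvd
    apply hcard p hp
    refine dvd_trans hdvd ?_
    let j : (ptRes M a) →* M :=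
      { toFun := fun x => ⟨ptLift a x.1, x.2⟩
        map_one' := by ext : 1; simp
        map_mul' := by intro x y; ext : 1; simp }
    refine Subgroup.card_dvd_of_injective j ?_
    intro x y hxy
    have : ptLift a x.1 = ptLift a y.1 := congrArg Subtype.val hxy
    exact Subtype.ext (hfinj this)
  · have hAtr : IsPretransitive (altSub α) α := by
      constructor
      intro x y
      obtain ⟨g, hg⟩ := htr.exists_smul_eq x y
      exact ⟨⟨g.1, hMA g.2⟩, hg⟩
    have hidx' : (ptRes M a).relIndex (altSub {x : α // x ≠ a}) = M.relIndex (altSub α) := by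
      rw [← a2_altSub_comap a, ptRes_eq_comap, Subgroup.relIndex_comap, Subgroup.map_comap_eq]
      have hr : (ptLift a).range = stabilizer (Perm α) a := p2_range_ofSubtype a
      rw [hr, inf_comm]
      have hpos : 0 < Nat.card α := by
        have : Nonempty α := ⟨a⟩
        exact Nat.card_pos
      exact a2_relIndex_inf hMA hpos (a2_relIndex_stab M htr a) (a2_relIndex_stab _ hAtr a)
    rw [hidx']
    exact hidx

/-- for `g` fixing `a`: `g ∈ A_n` iff its restriction to the other points is in `A_{n-1}`. -/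
theorem a2_mem_altSub_subtypePerm {α : Type*} [Finite α] {a : α} (g : Perm α) (hga : g a = a) :
    g ∈ altSub α ↔
      (g.subtypePerm (p2_fix_iff g hga) : Perm {x : α // x ≠ a}) ∈ altSub {x : α // x ≠ a} := by
  have := p2_mem_iff (H := altSub α) g hga
  rw [this, ptRes_eq_comap, a2_altSub_comap]

theorem alt_transport_point {α : Type*} [Finite α] {M : Subgroup (Perm α)} (hMA : M ≤ altSub α) {a : α}
    {b : {x : α // x ≠ a}}
    (heq : ptRes M a = stabilizer (Perm {x : α // x ≠ a}) b ⊓ altSub {x : α // x ≠ a}) :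
    ∀ g : Perm α, g a = a → (g ∈ M ↔ g (b : α) = b ∧ g ∈ altSub α) := by
  intro g hga
  rw [p2_mem_iff g hga, heq, Subgroup.mem_inf, mem_stabilizer_iff, ← a2_mem_altSub_subtypePerm g hga]
  refine and_congr ?_ Iff.rfl
  rw [Subtype.ext_iff]
  rfl

theorem alt_transport_set {α : Type*} [Finite α] {M : Subgroup (Perm α)} (hMA : M ≤ altSub α) {a : α}
    {t : Set {x : α // x ≠ a}}
    (heq : ptRes M a = stabilizer (Perm {x : α // x ≠ a}) t ⊓ altSub {x : α // x ≠ a}) :
    ∀ g : Perm α, g a = a →
      (g ∈ M ↔ g • (Subtype.val '' t) = Subtype.val '' t ∧ g ∈ altSub α) := by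
  intro g hga
  rw [p2_mem_iff g hga, heq, Subgroup.mem_inf, mem_stabilizer_iff, ← a2_mem_altSub_subtypePerm g hga]
  refine and_congr ?_ Iff.rfl
  set σ : Perm {x : α // x ≠ a} := g.subtypePerm (p2_fix_iff g hga) with hσ
  have key : g • (Subtype.val '' t) = Subtype.val '' (σ • t) := by
    ext x
    simp only [Set.mem_smul_set, Set.mem_image]
    constructor
    · rintro ⟨y, ⟨z, hz, rfl⟩, rfl⟩
      exact ⟨σ z, ⟨z, hz, rfl⟩, rfl⟩
    · rintro ⟨w, ⟨z, hz, rfl⟩, rfl⟩
      exact ⟨z.1, ⟨z, hz, rfl⟩, rfl⟩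
  rw [key]
  exact ((Set.image_injective.mpr Subtype.val_injective).eq_iff).symm

end Cfsg.Agent.Lib.H24.HS
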