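import Cfsg.Agent.Lib.H13.HSDefs2
import Cfsg.Agent.Lib.H24.HSA2

/-!
# S2535 piece A4 : intransitive Hall subgroups of `A_n`, invariant set of size `≥ 2` (helper24)

Exact signatures of `tools/blueprints/S2535_sigs.lean`: `alt_setRes`, `alt_piFree_choose`.
-/

set_option linter.unusedSectionVars false
set_option linter.unusedVariables false

namespace Cfsg.Agent.Lib.H24.HS

open Equiv MulAction Cfsg.Agent.Lib.H13.HS
open scoped Pointwise

/-- a swap of two points outside `s` stabilizes `s`. -/
theorem a4_swap_mem_stabilizer {α : Type*} [DecidableEq α] {s : Set α} {x y : α}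
    (hx : x ∉ s) (hy : y ∉ s) : Equiv.swap x y ∈ stabilizer (Perm α) s := by
  rw [mem_stabilizer_set]
  intro b
  show Equiv.swap x y b ∈ s ↔ b ∈ s
  by_cases hbx : b = x
  · subst hbx
    rw [Equiv.swap_apply_left]
    exact ⟨fun h => absurd h hy, fun h => absurd h hx⟩
  · by_cases hby : b = y
    · subst hby
      rw [Equiv.swap_apply_right]
      exact ⟨fun h => absurd h hx, fun h => absurd h hy⟩
    · rw [Equiv.swap_apply_of_ne_of_ne hbx hby]

/-- a swap of two points inside `s` stabilizes `s`. -/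
theorem a4_swap_mem_stabilizer' {α : Type*} [DecidableEq α] {s : Set α} {x y : α}
    (hx : x ∈ s) (hy : y ∈ s) : Equiv.swap x y ∈ stabilizer (Perm α) s := by
  rw [mem_stabilizer_set]
  intro b
  show Equiv.swap x y b ∈ s ↔ b ∈ s
  by_cases hbx : b = x
  · subst hbx
    rw [Equiv.swap_apply_left]
    exact ⟨fun _ => hx, fun _ => hy⟩
  · by_cases hby : b = y
    · subst hby
      rw [Equiv.swap_apply_right]
      exact ⟨fun _ => hy, fun _ => hx⟩
    · rw [Equiv.swap_apply_of_ne_of_ne hbx hby]

/-- swaps are odd. -/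
theorem a4_swap_notMem_altSub {α : Type*} [Finite α] [DecidableEq α] {x y : α} (h : x ≠ y) :
    Equiv.swap x y ∉ altSub α := by
  have : Fintype α := Fintype.ofFinite α
  rw [a2_mem_altSub_iff, Equiv.Perm.sign_swap h]
  decide

/-- the product of two odd permutations is even. -/
theorem a4_mul_mem_altSub {α : Type*} [Finite α] {g w : Perm α} (hg : g ∉ altSub α)
    (hw : w ∉ altSub α) : g * w ∈ altSub α := by
  classical
  have : Fintype α := Fintype.ofFinite α
  rw [a2_mem_altSub_iff] at hg hw ⊢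
  rw [map_mul]
  rcases Int.units_eq_one_or (Equiv.Perm.sign g) with h1 | h1
  · exact absurd h1 hg
  · rcases Int.units_eq_one_or (Equiv.Perm.sign w) with h2 | h2
    · exact absurd h2 hw
    · rw [h1, h2]; decide

theorem a4_altSub_normal {α : Type*} [Finite α] : (altSub α).Normal := by
  unfold altSub
  infer_instance

theorem a4_altSub_index {α : Type*} [Finite α] (h : 2 ≤ Nat.card α) : (altSub α).index = 2 := by
  classical
  have : Fintype α := Fintype.ofFinite α
  have : Nontrivial α := by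
    rw [← Finite.one_lt_card_iff_nontrivial]
    omega
  rw [altSub_eq α]
  exact alternatingGroup.index_eq_two

/-- `A ∩ Stab s` maps onto `Sym s` when `sᶜ` has two points. -/
theorem a4_surj {α : Type*} [Finite α] {s : Set α} (h2 : 2 ≤ sᶜ.ncard) (σ : Perm s) :
    ∃ k : stabilizer (Perm α) s, (k : Perm α) ∈ altSub α ∧
      MulAction.toPermHom (stabilizer (Perm α) s) s k = σ := by
  classical
  obtain ⟨k, hk⟩ := Equiv.Perm.stabilizer.surjective_toPerm s σ
  by_cases hkA : (k : Perm α) ∈ altSub α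
  · exact ⟨k, hkA, hk⟩
  · obtain ⟨x, y, hx, hy, hxy⟩ := (Set.one_lt_ncard_iff (Set.toFinite _)).mp
      (show 1 < sᶜ.ncard by omega)
    have hw : Equiv.swap x y ∈ stabilizer (Perm α) s := a4_swap_mem_stabilizer hx hy
    refine ⟨k * ⟨Equiv.swap x y, hw⟩, ?_, ?_⟩
    · exact a4_mul_mem_altSub hkA (a4_swap_notMem_altSub hxy)
    · rw [map_mul]
      have h1 : MulAction.toPermHom (stabilizer (Perm α) s) s ⟨Equiv.swap x y, hw⟩ = 1 := by
        ext z
        show ((Equiv.swap x y) (z : α)) = (z : α)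
        apply Equiv.swap_apply_of_ne_of_ne
        · rintro rfl; exact hx z.2
        · rintro rfl; exact hy z.2
      rw [h1, mul_one]
      exact hk

theorem alt_setRes {α : Type*} [Finite α] {π : Set ℕ} {M : Subgroup (Perm α)}
    (hM : Cfsg.IsPiHallOf π M (altSub α)) {s : Set α} (hs : M ≤ stabilizer (Perm α) s)
    (h2 : 2 ≤ sᶜ.ncard) : Cfsg.IsPiHall π (setRes M s) := by
  obtain ⟨hMA, hcard, hidx⟩ := hM
  set K := stabilizer (Perm α) s with hK
  set φ := MulAction.toPermHom K s with hφ
  rw [isPiHall_iff]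
  refine ⟨?_, ?_⟩
  · intro p hp hdvd
    apply hcard p hp
    refine dvd_trans hdvd ?_
    unfold setRes
    refine dvd_trans (Subgroup.card_map_dvd _ _) ?_
    rw [Nat.card_congr (Subgroup.subgroupOfEquivOfLe hs).toEquiv]
  · -- the index
    set AK := altSub α ⊓ K with hAK
    have hMAK : M ≤ AK := le_inf hMA hs
    let ψ : AK →* Perm s := φ.comp (Subgroup.inclusion (inf_le_right : AK ≤ K))
    have hψ : Function.Surjective ψ := by
      intro σ
      obtain ⟨k, hkA, hk⟩ := a4_surj h2 σ
      exact ⟨⟨k.1, ⟨hkA, k.2⟩⟩, hk⟩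
    have hmap : setRes M s = (M.subgroupOf AK).map ψ := by
      unfold setRes
      ext σ
      constructor
      · rintro ⟨y, hy, rfl⟩
        have hyM : (y : Perm α) ∈ M := hy
        exact ⟨⟨y.1, hMAK hyM⟩, hyM, rfl⟩
      · rintro ⟨x, hx, rfl⟩
        have hxM : (x : Perm α) ∈ M := hx
        exact ⟨⟨x.1, hs hxM⟩, hxM, rfl⟩
    intro p hp hpπ hdvd
    apply hidx p hp hpπ
    rw [hmap] at hdvd
    have d1 : ((M.subgroupOf AK).map ψ).index ∣ (M.subgroupOf AK).index :=
      Subgroup.index_map_dvd _ hψ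
    have d2 : M.relIndex AK ∣ M.relIndex (altSub α) :=
      Dvd.intro _ (Subgroup.relIndex_mul_relIndex M AK (altSub α) hMAK inf_le_left)
    exact dvd_trans hdvd (dvd_trans d1 d2)

theorem alt_piFree_choose {α : Type*} [Finite α] {π : Set ℕ} {M : Subgroup (Perm α)}
    (hM : Cfsg.IsPiHallOf π M (altSub α)) (h3 : 3 ≤ Nat.card α) {s : Set α}
    (hs : M ≤ stabilizer (Perm α) s) : PiFree π ((Nat.card α).choose s.ncard) := by
  classical
  obtain ⟨hMA, hcard, hidx⟩ := hM
  set K := stabilizer (Perm α) s with hK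
  set A := altSub α with hA
  have : A.Normal := a4_altSub_normal
  -- `K` contains an odd permutation
  have hodd : ¬ K ≤ A := by
    have hsum : s.ncard + sᶜ.ncard = Nat.card α :=
      Set.ncard_add_ncard_compl s (Set.toFinite s) (Set.toFinite _)
    intro hKA
    by_cases h1 : 1 < s.ncard
    · obtain ⟨x, y, hx, hy, hxy⟩ := (Set.one_lt_ncard_iff (Set.toFinite _)).mp h1
      exact a4_swap_notMem_altSub hxy (hKA (a4_swap_mem_stabilizer' hx hy))
    · have h1' : 1 < sᶜ.ncard := by omega
      obtain ⟨x, y, hx, hy, hxy⟩ := (Set.one_lt_ncard_iff (Set.toFinite _)).mp h1'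
      exact a4_swap_notMem_altSub hxy (hKA (a4_swap_mem_stabilizer hx hy))
  have hAi : A.index = 2 := a4_altSub_index (by omega)
  have hrel : A.relIndex K = 2 := by
    have hd : A.relIndex K ∣ 2 := hAi ▸ Subgroup.relIndex_dvd_index_of_normal A K
    have hne : A.relIndex K ≠ 1 := fun h => hodd (Subgroup.relIndex_eq_one.mp h)
    rcases (Nat.dvd_prime Nat.prime_two).mp hd with h | h
    · exact absurd h hne
    · exact h
  have e1 : (A ⊓ K).relIndex K * K.index = (A ⊓ K).index :=
    Subgroup.relIndex_mul_index inf_le_right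
  have e2 : (A ⊓ K).relIndex A * A.index = (A ⊓ K).index :=
    Subgroup.relIndex_mul_index inf_le_left
  rw [Subgroup.inf_relIndex_right, hrel] at e1
  rw [Subgroup.inf_relIndex_left, hAi] at e2
  have e3 : K.relIndex A = K.index := by omega
  have hKi : K.index = (Nat.card α).choose s.ncard := index_stabilizer_set s
  rw [← hKi, ← e3]
  -- `K.relIndex A = (A ⊓ K).relIndex A` divides `M.relIndex A`
  have hMAK : M ≤ A ⊓ K := le_inf hMA hs
  have d2 : (A ⊓ K).relIndex A ∣ M.relIndex A :=
    Dvd.intro_left _ (Subgroup.relIndex_mul_relIndex M (A ⊓ K) A hMAK inf_le_left)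
  rw [Subgroup.inf_relIndex_left] at d2
  intro p hp hpπ hdvd
  exact hidx p hp hpπ (dvd_trans hdvd d2)

end Cfsg.Agent.Lib.H24.HS
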