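import Cfsg.Agent.Lib.H13.HSDefs2
import Cfsg.Agent.Lib.H24.HSA4

/-!
# S2535 piece A3 : Hall subgroups of `A_n` with a fixed point (helper24)

Exact signatures of `tools/blueprints/S2535_sigs.lean`: `alt_ptRes_of_fixed`,
`piFree_card_of_fixed`, `hall_ptLift`, `le_map_ptLift`.
-/

set_option linter.unusedSectionVars false
set_option linter.unusedVariables false

namespace Cfsg.Agent.Lib.H24.HS

open Equiv MulAction Cfsg.Agent.Lib.H13.HS
open scoped Pointwise

theorem a3_ptLift_injective {α : Type*} (a : α) : Function.Injective (ptLift a) :=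
  @Equiv.Perm.ofSubtype_injective α (fun x => x ≠ a) (Classical.decPred _)

theorem a3_range_ptLift {α : Type*} (a : α) : (ptLift a).range = stabilizer (Perm α) a :=
  p2_range_ofSubtype a

/-- for `g` fixing `a`, `g` is the lift of its restriction. -/
theorem a3_ptLift_subtypePerm {α : Type*} {a : α} (g : Perm α) (hga : g a = a) :
    ptLift a (g.subtypePerm (p2_fix_iff g hga)) = g := by
  unfold ptLift
  let _ : DecidablePred (fun x : α => x ≠ a) := Classical.decPred _
  apply Equiv.Perm.ofSubtype_subtypePerm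
  intro x hx h2
  exact hx (by rw [h2, hga])

theorem alt_ptRes_of_fixed {α : Type*} [Finite α] {π : Set ℕ} {M : Subgroup (Perm α)}
    (hM : Cfsg.IsPiHallOf π M (altSub α)) (x : α) (hx : M ≤ stabilizer (Perm α) x) :
    Cfsg.IsPiHallOf π (ptRes M x) (altSub {y : α // y ≠ x}) := by
  obtain ⟨hMA, hcard, hidx⟩ := hM
  refine ⟨?_, ?_, ?_⟩
  · rw [← a2_altSub_comap x, ptRes_eq_comap]
    exact Subgroup.comap_mono hMA
  · intro p hp hdvd
    apply hcard p hp
    refine dvd_trans hdvd ?_
    let j : (ptRes M x) →* M :=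
      { toFun := fun y => ⟨ptLift x y.1, y.2⟩
        map_one' := by ext : 1; simp
        map_mul' := by intro y z; ext : 1; simp }
    refine Subgroup.card_dvd_of_injective j ?_
    intro y z hyz
    have : ptLift x y.1 = ptLift x z.1 := congrArg Subtype.val hyz
    exact Subtype.ext (a3_ptLift_injective x this)
  · have hidx' : (ptRes M x).relIndex (altSub {y : α // y ≠ x}) ∣ M.relIndex (altSub α) := by
      rw [← a2_altSub_comap x, ptRes_eq_comap, Subgroup.relIndex_comap, Subgroup.map_comap_eq,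
        a3_range_ptLift]
      exact Dvd.intro _ (Subgroup.relIndex_mul_relIndex M _ (altSub α) (le_inf hx hMA) inf_le_right)
    intro p hp hpπ hdvd
    exact hidx p hp hpπ (dvd_trans hdvd hidx')

theorem piFree_card_of_fixed {α : Type*} [Finite α] {π : Set ℕ} {M : Subgroup (Perm α)}
    (hM : Cfsg.IsPiHallOf π M (altSub α)) (h3 : 3 ≤ Nat.card α) (x : α)
    (hx : M ≤ stabilizer (Perm α) x) : PiFree π (Nat.card α) := by
  have hs : M ≤ stabilizer (Perm α) ({x} : Set α) := by
    rw [stabilizer_singleton]; exact hx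
  have := alt_piFree_choose hM h3 hs
  rwa [Set.ncard_singleton, Nat.choose_one_right] at this

theorem hall_ptLift {α : Type*} [Finite α] {π : Set ℕ} (x : α) (hn : PiFree π (Nat.card α))
    {M₁ : Subgroup (Perm {y : α // y ≠ x})} (h₁ : Cfsg.IsPiHall π M₁) :
    Cfsg.IsPiHall π (M₁.map (ptLift x)) := by
  rw [isPiHall_iff] at h₁ ⊢
  refine ⟨?_, ?_⟩
  · intro p hp hdvd
    exact h₁.1 p hp (dvd_trans hdvd (Subgroup.card_map_dvd _ _))
  · intro p hp hpπ hdvd
    rw [Subgroup.index_map_of_injective _ (a3_ptLift_injective x), a3_range_ptLift,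
      index_stabilizer_of_transitive (Perm α) x] at hdvd
    rcases (Nat.Prime.dvd_mul hp).mp hdvd with h | h
    · exact h₁.2 p hp hpπ h
    · exact hn p hp hpπ h

theorem le_map_ptLift {α : Type*} [Finite α] {M : Subgroup (Perm α)} (x : α)
    (hx : M ≤ stabilizer (Perm α) x) {M₁ : Subgroup (Perm {y : α // y ≠ x})}
    (h : ptRes M x ≤ M₁) : M ≤ M₁.map (ptLift x) := by
  intro g hg
  have hgx : g x = x := mem_stabilizer_iff.mp (hx hg)
  refine ⟨g.subtypePerm (p2_fix_iff g hgx), h ((p2_mem_iff g hgx).mp hg), ?_⟩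
  exact a3_ptLift_subtypePerm g hgx

end Cfsg.Agent.Lib.H24.HS
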