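import Cfsg.Agent.Lib.H24.SimsMODX
import Cfsg.Agent.Lib.H10.SimsLOC3

/-!
# S3685 / S3385, piece (MOD): the fields `W_eq`, `W_norm`, `comm_le_W` of `Setup.Mod` in exact field form
(helper24; multiplicative, on the interface `Setup.Bent`, `Setup.Loc`, `Setup.Con` + helper10's `loc_extra`)
-/

set_option autoImplicit false

namespace Cfsg.Agent.Lib.H24.Sims

open scoped Pointwise commutatorElement
open Cfsg.Agent.Lib.H5.Sims

variable {G : Type*} [Group G]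

/-- product decomposition in `A ⊔ B` when `B` normalises `A` -/
theorem exists_mul_of_mem_sup_normalizer {A B : Subgroup G}
    (hn : B ≤ Subgroup.normalizer (A : Set G)) {x : G} (hx : x ∈ A ⊔ B) :
    ∃ a ∈ A, ∃ b ∈ B, x = a * b := by
  let K : Subgroup G :=
    { carrier := {x | ∃ a ∈ A, ∃ b ∈ B, x = a * b}
      one_mem' := ⟨1, A.one_mem, 1, B.one_mem, by simp⟩
      mul_mem' := by
        rintro _ _ ⟨a, ha, b, hb, rfl⟩ ⟨a', ha', b', hb', rfl⟩
        refine ⟨a * (b * a' * b⁻¹), A.mul_mem ha (conj_mem_of_le_normalizer hn hb ha'),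
          b * b', B.mul_mem hb hb', ?_⟩
        simp [mul_assoc]
      inv_mem' := by
        rintro _ ⟨a, ha, b, hb, rfl⟩
        refine ⟨b⁻¹ * a⁻¹ * b, ?_, b⁻¹, B.inv_mem hb, ?_⟩
        · have := conj_mem_of_le_normalizer hn (B.inv_mem hb) (A.inv_mem ha)
          rwa [inv_inv] at this
        · simp [mul_assoc] }
  have hA : A ≤ K := fun a ha => ⟨a, ha, 1, B.one_mem, by simp⟩
  have hB : B ≤ K := fun b hb => ⟨1, A.one_mem, b, hb, by simp⟩
  exact (sup_le hA hB) hx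

theorem not_mem_of_orderOf_three {H : Subgroup G} (h2 : IsPGroup 2 H) {t : G}
    (ht3 : orderOf t = 3) : t ∉ H := by
  intro ht
  obtain ⟨k, hk⟩ := h2 ⟨t, ht⟩
  have hk' : t ^ (2 ^ k) = 1 := by
    have := congrArg Subtype.val hk
    simpa using this
  have hd : 3 ∣ 2 ^ k := by
    rw [← ht3]; exact orderOf_dvd_of_pow_eq_one hk'
  have : 3 ∣ 2 := Nat.Prime.dvd_of_dvd_pow Nat.prime_three hd
  omega

theorem le_conj_inv_smul_of_conj_mem {x : G} {A N : Subgroup G}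
    (h : ∀ a ∈ A, x * a * x⁻¹ ∈ N) : A ≤ MulAut.conj x⁻¹ • N := by
  intro a ha
  rw [mem_conj_smul, inv_inv]
  exact h a ha

/-- conjugating commutator elements -/
theorem conj_commutatorElement (p a b : G) :
    p * ⁅a, b⁆ * p⁻¹ = ⁅p * a * p⁻¹, p * b * p⁻¹⁆ := by
  simp [commutatorElement_def, mul_assoc]

namespace Con

variable [Finite G] (S : Setup G)

theorem Vj_abelian (hC : S.Con) (j : ℤ) : Comm (S.Vj j) (S.Vj j) :=
  fun a ha b hb => hC.V_comm_Q j a ha b (hC.V_le_Q j hb)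

theorem Qj_isPGroup (hb : S.Bent) (j : ℤ) : IsPGroup 2 (S.Qj j) := by
  have h2 := isPGroup_of_isSyl S hb (S.isSyl_Tj j)
  exact h2.to_le (S.Qj_le_right j)

/-- `M = Q_j ⟨t⟩` is normal in `P_j` -/
theorem Qt_normal (hb : S.Bent) (hL : S.Loc) (j : ℤ) (t : G) (ht : t ∈ S.Pj j) (ht3 : orderOf t = 3) :
    S.Pj j ≤ Subgroup.normalizer ((S.Qj j ⊔ Subgroup.zpowers t : Subgroup G) : Set G) := by
  obtain ⟨_, _, _, hc3⟩ := Cfsg.Agent.Lib.H10.Sims.loc_extra S hb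
  rw [← hL.sup_three j (S.Tj j) (S.isSyl_Tj j) t ht ht3]
  refine sup_le ?_ ((le_sup_right).trans Subgroup.le_normalizer)
  apply le_normalizer_of_conj_mem
  intro x hx n hn
  by_cases hxQ : x ∈ S.Qj j
  · have hxN : x ∈ S.Qj j ⊔ Subgroup.zpowers t := le_sup_left (a := S.Qj j) hxQ
    exact Subgroup.mul_mem _ (Subgroup.mul_mem _ hxN hn) (Subgroup.inv_mem _ hxN)
  · have hq := hc3 j (S.Tj j) (S.isSyl_Tj j) x hx hxQ t ht ht3
    have hxP : x ∈ S.Pj j := S.Tj_le_left j hx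
    have hle : S.Qj j ⊔ Subgroup.zpowers t ≤ MulAut.conj x⁻¹ • (S.Qj j ⊔ Subgroup.zpowers t) := by
      refine sup_le ?_ ?_
      · apply le_conj_inv_smul_of_conj_mem
        intro a ha
        exact le_sup_left (a := S.Qj j) (conj_mem_of_le_normalizer (hL.Q_norm j) hxP ha)
      · rw [Subgroup.zpowers_le, mem_conj_smul, inv_inv]
        have e : x * t * x⁻¹ = (x * t * x⁻¹ * t) * t⁻¹ := by simp [mul_assoc]
        rw [e]
        exact Subgroup.mul_mem _ (le_sup_left (a := S.Qj j) hq)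
          (Subgroup.inv_mem _ (le_sup_right (b := Subgroup.zpowers t) (Subgroup.mem_zpowers t)))
    have := hle hn
    rwa [mem_conj_smul, inv_inv] at this

/-- every element of order 3 of `P_j` lies in `Q_j ⟨t⟩` -/
theorem three_mem_Qt (hb : S.Bent) (hL : S.Loc) (j : ℤ) (t : G) (ht : t ∈ S.Pj j) (ht3 : orderOf t = 3)
    (t' : G) (ht' : t' ∈ S.Pj j) (ht3' : orderOf t' = 3) : t' ∈ S.Qj j ⊔ Subgroup.zpowers t := by
  apply hL.three_mem j _ (sup_le (S.Qj_le j) (Subgroup.zpowers_le.2 ht)) (Qt_normal S hb hL j t ht ht3)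
    _ t' ht' ht3'
  intro hle
  exact not_mem_of_orderOf_three (Qj_isPGroup S hb j) ht3
    (hle (le_sup_right (b := Subgroup.zpowers t) (Subgroup.mem_zpowers t)))

theorem comm_mem_V (hC : S.Con) (j : ℤ) {v p : G} (hv : v ∈ S.Vj j) (hp : p ∈ S.Pj j) :
    ⁅v, p⁆ ∈ S.Vj j := by
  rw [commutatorElement_def]
  have h1 : p * v⁻¹ * p⁻¹ ∈ S.Vj j := conj_mem_of_le_normalizer (hC.V_norm j) hp (Subgroup.inv_mem _ hv)
  have := Subgroup.mul_mem _ hv h1
  simpa [mul_assoc] using this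

theorem W_le (hb : S.Bent) (hL : S.Loc) (hC : S.Con) (j : ℤ) (t : G) (ht : t ∈ S.Pj j) (ht3 : orderOf t = 3)
    (t' : G) (ht' : t' ∈ S.Pj j) (ht3' : orderOf t' = 3) :
    ⁅S.Vj j, Subgroup.zpowers t'⁆ ≤ ⁅S.Vj j, Subgroup.zpowers t⁆ := by
  rw [Subgroup.commutator_le]
  intro v hv y hy
  have hyN : y ∈ S.Qj j ⊔ Subgroup.zpowers t :=
    (Subgroup.zpowers_le.2 (three_mem_Qt S hb hL j t ht ht3 t' ht' ht3')) hy
  have hn : Subgroup.zpowers t ≤ Subgroup.normalizer (S.Qj j : Set G) :=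
    (Subgroup.zpowers_le.2 ht).trans (hL.Q_norm j)
  obtain ⟨a, ha, b, hb', rfl⟩ := exists_mul_of_mem_sup_normalizer hn hyN
  have hbP : b ∈ S.Pj j := (Subgroup.zpowers_le.2 ht) hb'
  have hva : v * a = a * v := hC.V_comm_Q j v hv a ha
  have hcV : ⁅v, b⁆ ∈ S.Vj j := comm_mem_V S hC j hv hbP
  have hca : ⁅v, b⁆ * a = a * ⁅v, b⁆ := hC.V_comm_Q j _ hcV a ha
  have e : ⁅v, a * b⁆ = ⁅v, b⁆ := by
    have e1 : ⁅v, a * b⁆ = a * ⁅v, b⁆ * a⁻¹ := by
      rw [commutatorElement_def, commutatorElement_def]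
      calc v * (a * b) * v⁻¹ * (a * b)⁻¹ = (v * a) * b * v⁻¹ * b⁻¹ * a⁻¹ := by simp [mul_assoc]
        _ = (a * v) * b * v⁻¹ * b⁻¹ * a⁻¹ := by rw [hva]
        _ = a * (v * b * v⁻¹ * b⁻¹) * a⁻¹ := by simp [mul_assoc]
    rw [e1, ← hca, mul_inv_cancel_right]
  rw [e]
  exact Subgroup.commutator_mem_commutator hv hb'

/-- field `W_eq` of `Setup.Mod` -/
theorem mod_W_eq (hb : S.Bent) (hL : S.Loc) (hC : S.Con) :
    ∀ j : ℤ, ∀ t ∈ S.Pj j, orderOf t = 3 → ∀ t' ∈ S.Pj j, orderOf t' = 3 →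
      ⁅S.Vj j, Subgroup.zpowers t⁆ = ⁅S.Vj j, Subgroup.zpowers t'⁆ :=
  fun j t ht ht3 t' ht' ht3' =>
    le_antisymm (W_le S hb hL hC j t' ht' ht3' t ht ht3) (W_le S hb hL hC j t ht ht3 t' ht' ht3')

/-- field `W_norm` of `Setup.Mod` -/
theorem mod_W_norm (hb : S.Bent) (hL : S.Loc) (hC : S.Con) :
    ∀ j : ℤ, ∀ t ∈ S.Pj j, orderOf t = 3 →
      S.Pj j ≤ Subgroup.normalizer ((⁅S.Vj j, Subgroup.zpowers t⁆ : Subgroup G) : Set G) := by
  intro j t ht ht3
  apply le_normalizer_of_conj_mem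
  intro p hp w hw
  have hle : ⁅S.Vj j, Subgroup.zpowers t⁆ ≤ MulAut.conj p⁻¹ • ⁅S.Vj j, Subgroup.zpowers t⁆ := by
    rw [Subgroup.commutator_le]
    intro v hv y hy
    rw [mem_conj_smul, inv_inv, conj_commutatorElement]
    have hv' : p * v * p⁻¹ ∈ S.Vj j := conj_mem_of_le_normalizer (hC.V_norm j) hp hv
    have ht' : p * t * p⁻¹ ∈ S.Pj j := Subgroup.mul_mem _ (Subgroup.mul_mem _ hp ht) (Subgroup.inv_mem _ hp)
    have ht3' : orderOf (p * t * p⁻¹) = 3 := by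
      rw [← ht3]
      have := orderOf_injective (MulAut.conj p).toMonoidHom (MulAut.conj p).injective t
      simpa [MulAut.conj_apply] using this
    have hy' : p * y * p⁻¹ ∈ Subgroup.zpowers (p * t * p⁻¹) := by
      obtain ⟨k, rfl⟩ := Subgroup.mem_zpowers_iff.1 hy
      rw [Subgroup.mem_zpowers_iff]
      refine ⟨k, ?_⟩
      have := map_zpow (MulAut.conj p).toMonoidHom t k
      simpa [MulAut.conj_apply] using this.symm
    rw [mod_W_eq S hb hL hC j t ht ht3 (p * t * p⁻¹) ht' ht3']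
    exact Subgroup.commutator_mem_commutator hv' hy'
  have := hle hw
  rwa [mem_conj_smul, inv_inv] at this

end Con

end Cfsg.Agent.Lib.H24.Sims
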