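import Cfsg.Agent.Lib.H24.SimsMODW

/-!
# S3685 / S3385, piece (MOD): the field `comm_le_W` of `Setup.Mod` in exact field form (helper24)
-/

set_option autoImplicit false

namespace Cfsg.Agent.Lib.H24.Sims

open scoped Pointwise commutatorElement
open Cfsg.Agent.Lib.H5.Sims

variable {G : Type*} [Group G]

theorem zpowers_inf_eq_bot {X : Subgroup G} (h2 : IsPGroup 2 X) {t : G} (ht3 : orderOf t = 3) :
    Subgroup.zpowers t ⊓ X = ⊥ := by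
  rw [eq_bot_iff]
  rintro y ⟨hy1, hy2⟩
  rw [Subgroup.mem_bot]
  have h1 : orderOf y ∣ 3 := by rw [← ht3]; exact orderOf_dvd_of_mem_zpowers hy1
  obtain ⟨k, hk⟩ := h2 ⟨y, hy2⟩
  have hk' : y ^ (2 ^ k) = 1 := by simpa using congrArg Subtype.val hk
  have h2' : orderOf y ∣ 2 ^ k := orderOf_dvd_of_pow_eq_one hk'
  have hc : Nat.Coprime 3 (2 ^ k) := Nat.Coprime.pow_right k (by decide)
  have h3 := Nat.dvd_gcd h1 h2'
  rw [hc.gcd_eq_one] at h3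
  exact orderOf_eq_one_iff.1 (Nat.dvd_one.1 h3)

theorem mul_injective_of_disjoint {A B : Subgroup G} (h : A ⊓ B = ⊥) {a a' b b' : G}
    (ha : a ∈ A) (ha' : a' ∈ A) (hb : b ∈ B) (hb' : b' ∈ B) (hab : a * b = a' * b') :
    a = a' ∧ b = b' := by
  have h1 : a'⁻¹ * a = b' * b⁻¹ := by
    calc a'⁻¹ * a = a'⁻¹ * (a * b) * b⁻¹ := by simp [mul_assoc]
      _ = a'⁻¹ * (a' * b') * b⁻¹ := by rw [hab]
      _ = b' * b⁻¹ := by simp
  have hm : a'⁻¹ * a ∈ A ⊓ B :=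
    ⟨A.mul_mem (A.inv_mem ha') ha, by rw [h1]; exact B.mul_mem hb' (B.inv_mem hb)⟩
  rw [h, Subgroup.mem_bot] at hm
  have haa : a = a' := (inv_mul_eq_one.1 hm).symm
  refine ⟨haa, ?_⟩
  rw [haa] at hab
  exact mul_left_cancel hab

namespace Con

variable [Finite G] (S : Setup G)

/-- `P_j = ⟨t⟩ X` for a Sylow 2-subgroup `X` and `t` of order 3 -/
theorem exists_zpow_mul (hb : S.Bent) (j : ℤ) (X : Subgroup G) (hX : S.IsSyl j X)
    (t : G) (ht : t ∈ S.Pj j) (ht3 : orderOf t = 3) :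
    ∀ p ∈ S.Pj j, ∃ b ∈ Subgroup.zpowers t, ∃ x ∈ X, p = b * x := by
  have h2 := isPGroup_of_isSyl S hb hX
  have hd := zpowers_inf_eq_bot h2 ht3
  let f : (Subgroup.zpowers t) × X → S.Pj j := fun q =>
    ⟨(q.1 : G) * q.2, (S.Pj j).mul_mem (Subgroup.zpowers_le.2 ht q.1.2) (hX.1 q.2.2)⟩
  have hinj : Function.Injective f := by
    rintro ⟨a, b⟩ ⟨a', b'⟩ hab
    have hab' : (a : G) * b = a' * b' := congrArg Subtype.val hab
    obtain ⟨h1, h2⟩ := mul_injective_of_disjoint hd a.2 a'.2 b.2 b'.2 hab'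
    exact Prod.ext (Subtype.ext h1) (Subtype.ext h2)
  have hcard : Nat.card (S.Pj j) ≤ Nat.card ((Subgroup.zpowers t) × X) := by
    rw [Nat.card_prod, Nat.card_zpowers, ht3, hX.2, S.card_Pj_eq j]
  have hbij := hinj.bijective_of_nat_card_le hcard
  intro p hp
  obtain ⟨⟨b, x⟩, hq⟩ := hbij.2 ⟨p, hp⟩
  exact ⟨b, b.2, x, x.2, (congrArg Subtype.val hq).symm⟩

/-- the Sylow 2-subgroups of `P_j` are the `⟨t⟩`-conjugates of one of them -/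
theorem syl_eq_conj_zpow (hb : S.Bent) (hL : S.Loc) (j : ℤ) (X X' : Subgroup G) (hX : S.IsSyl j X)
    (hX' : S.IsSyl j X') (t : G) (ht : t ∈ S.Pj j) (ht3 : orderOf t = 3) :
    ∃ b ∈ Subgroup.zpowers t, MulAut.conj b • X = X' := by
  obtain ⟨p, hp, hpX⟩ := hL.syl_conj j X X' hX hX'
  obtain ⟨b, hb', x, hx, rfl⟩ := exists_zpow_mul S hb j X hX t ht ht3 p hp
  refine ⟨b, hb', ?_⟩
  rw [← hpX, map_mul, mul_smul, conj_smul_self hx]

theorem W_le_V (hC : S.Con) (j : ℤ) (t : G) (ht : t ∈ S.Pj j) :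
    ⁅S.Vj j, Subgroup.zpowers t⁆ ≤ S.Vj j := by
  rw [Subgroup.commutator_le]
  intro v hv y hy
  exact comm_mem_V S hC j hv (Subgroup.zpowers_le.2 ht hy)

theorem zOf_le_sup_W (hb : S.Bent) (hL : S.Loc) (hC : S.Con) (j : ℤ) (X X' : Subgroup G)
    (hX : S.IsSyl j X) (hX' : S.IsSyl j X') (t : G) (ht : t ∈ S.Pj j) (ht3 : orderOf t = 3) :
    zOf X' ≤ zOf X ⊔ ⁅S.Vj j, Subgroup.zpowers t⁆ := by
  obtain ⟨b, hb', hbX⟩ := syl_eq_conj_zpow S hb hL j X X' hX hX' t ht ht3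
  rw [← hbX, zOf_conj_smul]
  intro y hy
  rw [mem_conj_smul] at hy
  have hzV : b⁻¹ * y * b ∈ S.Vj j := hC.Z_le_V j X hX hy
  have hc : ⁅b⁻¹ * y * b, b⁆ ∈ ⁅S.Vj j, Subgroup.zpowers t⁆ :=
    Subgroup.commutator_mem_commutator hzV hb'
  have e : y = ⁅b⁻¹ * y * b, b⁆⁻¹ * (b⁻¹ * y * b) := by
    rw [commutatorElement_inv, commutatorElement_def]
    simp [mul_assoc]
  rw [e]
  exact Subgroup.mul_mem _ (le_sup_right (b := ⁅S.Vj j, Subgroup.zpowers t⁆) (Subgroup.inv_mem _ hc))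
    (le_sup_left (a := zOf X) hy)

theorem Vj_le_sup_W (hb : S.Bent) (hL : S.Loc) (hC : S.Con) (j : ℤ) (X : Subgroup G)
    (hX : S.IsSyl j X) (t : G) (ht : t ∈ S.Pj j) (ht3 : orderOf t = 3) :
    S.Vj j ≤ zOf X ⊔ ⁅S.Vj j, Subgroup.zpowers t⁆ := by
  apply iSup_le
  intro g
  have : MulAut.conj (g : G) • S.Zj j = zOf (MulAut.conj (g : G) • S.Tj j) := (zOf_conj_smul _ _).symm
  rw [this]
  exact zOf_le_sup_W S hb hL hC j X _ hX (isSyl_conj S (S.isSyl_Tj j) g.2) t ht ht3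

/-- field `comm_le_W` of `Setup.Mod` -/
theorem mod_comm_le_W (hb : S.Bent) (hL : S.Loc) (hC : S.Con) :
    ∀ (j : ℤ) (X : Subgroup G), S.IsSyl j X → ∀ t ∈ S.Pj j, orderOf t = 3 →
      ⁅S.Vj j, X⁆ ≤ ⁅S.Vj j, Subgroup.zpowers t⁆ := by
  intro j X hX t ht ht3
  rw [Subgroup.commutator_le]
  intro v hv x hx
  have hxP : x ∈ S.Pj j := hX.1 hx
  have hWV := W_le_V S hC j t ht
  have hcomm : Comm (zOf X) ⁅S.Vj j, Subgroup.zpowers t⁆ := fun a ha b hb' =>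
    Vj_abelian S hC j a (hC.Z_le_V j X hX ha) b (hWV hb')
  obtain ⟨z, hz, w, hw, rfl⟩ := exists_mul_of_mem_sup hcomm (Vj_le_sup_W S hb hL hC j X hX t ht ht3 hv)
  have hzV : z ∈ S.Vj j := hC.Z_le_V j X hX hz
  have hwV : w ∈ S.Vj j := hWV hw
  have hzx : x * z = z * x := comm_zOf hx hz
  have hcV : ⁅w, x⁆ ∈ S.Vj j := comm_mem_V S hC j hwV hxP
  have hzc : z * ⁅w, x⁆ = ⁅w, x⁆ * z := Vj_abelian S hC j z hzV _ hcV
  have e : ⁅z * w, x⁆ = ⁅w, x⁆ := by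
    have hzx' : z⁻¹ * x⁻¹ = x⁻¹ * z⁻¹ := by
      rw [← mul_inv_rev, ← mul_inv_rev, hzx]
    have e1 : ⁅z * w, x⁆ = z * ⁅w, x⁆ * z⁻¹ := by
      rw [commutatorElement_def, commutatorElement_def]
      calc z * w * x * (z * w)⁻¹ * x⁻¹ = z * w * x * w⁻¹ * (z⁻¹ * x⁻¹) := by simp [mul_assoc]
        _ = z * w * x * w⁻¹ * (x⁻¹ * z⁻¹) := by rw [hzx']
        _ = z * (w * x * w⁻¹ * x⁻¹) * z⁻¹ := by simp [mul_assoc]
    rw [e1, hzc, mul_inv_cancel_right]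
  rw [e]
  have hn := mod_W_norm S hb hL hC j t ht ht3
  have h1 : x * w⁻¹ * x⁻¹ ∈ ⁅S.Vj j, Subgroup.zpowers t⁆ :=
    conj_mem_of_le_normalizer hn hxP (Subgroup.inv_mem _ hw)
  have := Subgroup.mul_mem _ hw h1
  rw [commutatorElement_def]
  simpa [mul_assoc] using this

end Con

end Cfsg.Agent.Lib.H24.Sims
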