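import Cfsg.Agent.Lib.H24.SimsCON

/-!
# S3685 / S3385, piece (MOD), cross-conjugation part (helper24, for helper25's `mod`)

`conj_Vj`, `conj_commutator`, `mod_cards` (statement of board post #6945).
-/

set_option autoImplicit false

namespace Cfsg.Agent.Lib.H24.Sims

open scoped Pointwise
open Cfsg.Agent.Lib.H5.Sims

variable {G : Type*} [Group G]

/-- (b) conjugation commutes with commutator subgroups -/
theorem conj_commutator (g : G) (A B : Subgroup G) :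
    MulAut.conj g • ⁅A, B⁆ = ⁅MulAut.conj g • A, MulAut.conj g • B⁆ := by
  rw [Subgroup.pointwise_smul_def, Subgroup.pointwise_smul_def, Subgroup.pointwise_smul_def]
  exact Subgroup.map_commutator _ _ _

theorem conj_smul_le_of_le_inv {g : G} {A B : Subgroup G} (h : A ≤ MulAut.conj g⁻¹ • B) :
    MulAut.conj g • A ≤ B := by
  intro x hx
  rw [mem_conj_smul] at hx
  have := h hx
  rw [mem_conj_smul, inv_inv] at this
  have e : g * (g⁻¹ * x * g) * g⁻¹ = x := by simp [mul_assoc]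
  rwa [e] at this

theorem conj_Vj_le (S : Setup G) (i j : ℤ) : MulAut.conj (S.h ^ i) • S.Vj j ≤ S.Vj (i + j) := by
  apply conj_smul_le_of_le_inv
  have hP := S.conj_Pj i j
  have hZ := S.conj_Zj i j
  generalize S.h ^ i = g at hP hZ
  apply iSup_le
  intro p x hx
  rw [mem_conj_smul, inv_inv]
  have hmem : g * x * g⁻¹ ∈ MulAut.conj (g * (p : G) * g⁻¹) • S.Zj (i + j) := by
    rw [mem_conj_smul] at hx ⊢
    rw [← hZ, mem_conj_smul]
    have e : g⁻¹ * ((g * (p : G) * g⁻¹)⁻¹ * (g * x * g⁻¹) * (g * (p : G) * g⁻¹)) * g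
        = (p : G)⁻¹ * x * p := by simp [mul_assoc]
    rw [e]; exact hx
  have hp : g * (p : G) * g⁻¹ ∈ S.Pj (i + j) := by
    rw [← hP]; exact conj_mem_conj_smul p.2
  exact (le_iSup (fun q : S.Pj (i + j) => MulAut.conj (q : G) • S.Zj (i + j)) ⟨_, hp⟩) hmem

/-- (a) `V_j` is carried along the chain -/
theorem conj_Vj (S : Setup G) (i j : ℤ) : MulAut.conj (S.h ^ i) • S.Vj j = S.Vj (i + j) := by
  apply le_antisymm (conj_Vj_le S i j)
  have h := conj_Vj_le S (-i) (i + j)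
  rw [neg_add_cancel_left] at h
  intro x hx
  rw [mem_conj_smul]
  apply h
  rw [mem_conj_smul, zpow_neg, inv_inv]
  have e : S.h ^ i * ((S.h ^ i)⁻¹ * x * S.h ^ i) * (S.h ^ i)⁻¹ = x := by simp [mul_assoc]
  rw [e]; exact hx

/-- the product set of two commuting subgroups -/
theorem exists_mul_of_mem_sup {A B : Subgroup G} (hAB : Comm A B) {x : G} (hx : x ∈ A ⊔ B) :
    ∃ a ∈ A, ∃ b ∈ B, x = a * b := by
  let K : Subgroup G :=
    { carrier := {x | ∃ a ∈ A, ∃ b ∈ B, x = a * b}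
      one_mem' := ⟨1, A.one_mem, 1, B.one_mem, by simp⟩
      mul_mem' := by
        rintro _ _ ⟨a, ha, b, hb, rfl⟩ ⟨a', ha', b', hb', rfl⟩
        refine ⟨a * a', A.mul_mem ha ha', b * b', B.mul_mem hb hb', ?_⟩
        have := hAB a' ha' b hb
        calc a * b * (a' * b') = a * (b * a') * b' := by simp [mul_assoc]
          _ = a * (a' * b) * b' := by rw [this]
          _ = a * a' * (b * b') := by simp [mul_assoc]
      inv_mem' := by
        rintro _ ⟨a, ha, b, hb, rfl⟩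
        refine ⟨a⁻¹, A.inv_mem ha, b⁻¹, B.inv_mem hb, ?_⟩
        have := hAB a⁻¹ (A.inv_mem ha) b⁻¹ (B.inv_mem hb)
        rw [mul_inv_rev, this] }
  have hA : A ≤ K := fun a ha => ⟨a, ha, 1, B.one_mem, by simp⟩
  have hB : B ≤ K := fun b hb => ⟨1, A.one_mem, b, hb, by simp⟩
  exact (sup_le hA hB) hx

theorem card_sup_le_mul [Finite G] {A B : Subgroup G} (hAB : Comm A B) :
    Nat.card ↥(A ⊔ B) ≤ Nat.card A * Nat.card B := by
  rw [← Nat.card_prod]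
  refine Nat.card_le_card_of_surjective
    (fun p : A × B => (⟨(p.1 : G) * (p.2 : G),
      (A ⊔ B).mul_mem (le_sup_left (a := A) p.1.2) (le_sup_right (b := B) p.2.2)⟩ : ↥(A ⊔ B))) ?_
  rintro ⟨x, hx⟩
  obtain ⟨a, ha, b, hb, rfl⟩ := exists_mul_of_mem_sup hAB hx
  exact ⟨(⟨a, ha⟩, ⟨b, hb⟩), rfl⟩

theorem card_sup_eq_mul [Finite G] {A B : Subgroup G} (hAB : Comm A B) (hd : A ⊓ B = ⊥) :
    Nat.card ↥(A ⊔ B) = Nat.card A * Nat.card B :=
  le_antisymm (card_sup_le_mul hAB) (card_mul_card_le le_sup_left le_sup_right hd)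

/-- `zOf X` is abelian -/
theorem comm_of_le_zOf {X A B : Subgroup G} (hA : A ≤ zOf X) (hB : B ≤ zOf X) : Comm A B := by
  intro a ha b hb
  exact comm_zOf (zOf_le X (hA ha)) (hB hb)

variable [Finite G]

/-- card of the commutator `[V_j, X]` does not depend on the Sylow subgroup `X` nor on `j` -/
theorem card_comm_eq (S : Setup G) (hL : S.Loc) (hC : S.Con) (j : ℤ) (X : Subgroup G)
    (hX : S.IsSyl j X) : Nat.card ↥⁅S.Vj j, X⁆ = Nat.card ↥⁅S.Vj 0, S.Tj 0⁆ := by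
  obtain ⟨x, hx, hxX⟩ := hL.syl_conj j (S.Tj j) X (S.isSyl_Tj j) hX
  have hV : MulAut.conj x • S.Vj j = S.Vj j := conj_smul_eq_of_mem_normalizer (hC.V_norm j hx)
  have h1 : ⁅S.Vj j, X⁆ = MulAut.conj x • ⁅S.Vj j, S.Tj j⁆ := by
    rw [conj_commutator, hV, hxX]
  have hVj := conj_Vj S j 0
  have hTj := S.conj_Tj j 0
  rw [add_zero] at hVj hTj
  have h2 : ⁅S.Vj j, S.Tj j⁆ = MulAut.conj (S.h ^ j) • ⁅S.Vj 0, S.Tj 0⁆ := by
    rw [conj_commutator, hVj, hTj]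
  rw [h1, Setup.card_conj_smul, h2, Setup.card_conj_smul]

theorem card_Yj (S : Setup G) (j : ℤ) : Nat.card (S.Yj j) = Nat.card (S.Yj 0) := by
  have := S.conj_Yj j 0
  rw [add_zero] at this
  rw [← this]; exact Setup.card_conj_smul _ _

/-- (c): the cardinality fields `card_comm`, `card_Y_le` of `Mod` (and `|Y_j| = |Y_0|`) from `Z_eq`, `Y_disj` -/
theorem mod_cards (S : Setup G) (hb : S.Bent) (hL : S.Loc) (hC : S.Con)
    (hZ : ∀ (j : ℤ) (X : Subgroup G), S.IsSyl j X → zOf X = S.Yj j ⊔ ⁅S.Vj j, X⁆)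
    (hd : ∀ (j : ℤ) (X : Subgroup G), S.IsSyl j X → S.Yj j ⊓ ⁅S.Vj j, X⁆ = ⊥) :
    (∀ (j : ℤ) (X : Subgroup G), S.IsSyl j X → Nat.card ↥⁅S.Vj j, X⁆ = Nat.card ↥⁅S.Vj 0, S.Tj 0⁆) ∧
      Nat.card (S.Yj 0) ≤ Nat.card ↥⁅S.Vj 0, S.Tj 0⁆ ∧
      ∀ j : ℤ, Nat.card (S.Yj j) = Nat.card (S.Yj 0) := by
  refine ⟨card_comm_eq S hL hC, ?_, card_Yj S⟩
  -- `T_0` is a Sylow subgroup of `P_1`
  have hs1 : S.IsSyl 1 (S.Tj 0) := by
    have := S.isSyl_Tj_succ 0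
    rwa [zero_add] at this
  have hZ1 := hZ 1 (S.Tj 0) hs1
  have hd1 := hd 1 (S.Tj 0) hs1
  have hc1 := card_comm_eq S hL hC 1 (S.Tj 0) hs1
  -- `|Z_0| = |Y_1| c`
  have hcomm : Comm (S.Yj 1) ⁅S.Vj 1, S.Tj 0⁆ :=
    comm_of_le_zOf (X := S.Tj 0) (by rw [hZ1]; exact le_sup_left) (by rw [hZ1]; exact le_sup_right)
  have hcard : Nat.card ↥(zOf (S.Tj 0)) = Nat.card (S.Yj 1) * Nat.card ↥⁅S.Vj 0, S.Tj 0⁆ := by
    rw [← hc1, ← card_sup_eq_mul hcomm hd1, ← hZ1]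
  -- `Y_0 Y_1 ≤ Z_0` with `Y_0 ∩ Y_1 = 1`
  have hY0 : S.Yj 0 ≤ zOf (S.Tj 0) := hC.Y_le_Z 0 (S.Tj 0) (S.isSyl_Tj 0)
  have hY1 : S.Yj 1 ≤ zOf (S.Tj 0) := hC.Y_le_Z 1 (S.Tj 0) hs1
  have hne : S.Pj 0 ≠ S.Pj 1 := by
    have := hL.P_ne 0
    rwa [zero_add] at this
  have hinf : S.Yj 0 ⊓ S.Yj 1 = ⊥ := hC.Y_inf 0 1 hne
  have hle := card_mul_card_le hY0 hY1 hinf
  rw [hcard, card_Yj S 1] at hle
  have hpos : 0 < Nat.card (S.Yj 0) := Nat.card_pos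
  rw [mul_comm] at hle
  exact Nat.le_of_mul_le_mul_left hle hpos

end Cfsg.Agent.Lib.H24.Sims
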