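import Cfsg.Agent.Lib.H5.Sims.Defs

/-!
# S3685 / S3385, piece (CON): section 4 of `tools/blueprints/S3685.md` (helper24)
-/

set_option autoImplicit false

namespace Cfsg.Agent.Lib.H24.Sims

open scoped Pointwise
open Cfsg.Agent.Lib.H5.Sims

variable {G : Type*} [Group G]

theorem conj_smul_eq_of_mem_normalizer {g : G} {X : Subgroup G}
    (hg : g ∈ Subgroup.normalizer (X : Set G)) : MulAut.conj g • X = X := by
  ext x
  rw [mem_conj_smul]
  have hg' : g⁻¹ ∈ Subgroup.normalizer (X : Set G) := inv_mem hg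
  rw [Subgroup.mem_normalizer_iff] at hg'
  have := hg' x
  rw [inv_inv] at this
  exact this.symm

theorem le_normalizer_of_conj_mem {P X : Subgroup G} (h : ∀ p ∈ P, ∀ x ∈ X, p * x * p⁻¹ ∈ X) :
    P ≤ Subgroup.normalizer (X : Set G) := by
  intro p hp
  rw [Subgroup.mem_normalizer_iff]
  intro x
  constructor
  · exact h p hp x
  · intro hx
    have := h p⁻¹ (inv_mem hp) _ hx
    simpa [mul_assoc] using this

theorem conj_mem_of_le_normalizer {P X : Subgroup G} (h : P ≤ Subgroup.normalizer (X : Set G))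
    {p x : G} (hp : p ∈ P) (hx : x ∈ X) : p * x * p⁻¹ ∈ X :=
  ((Subgroup.mem_normalizer_iff.1 (h hp)) x).1 hx

theorem conj_smul_self {x : G} {X : Subgroup G} (hx : x ∈ X) : MulAut.conj x • X = X :=
  conj_smul_eq_of_mem_normalizer (Subgroup.le_normalizer hx)

/-- elements of `H` commute with `zOf H` -/
theorem comm_zOf {H : Subgroup G} {y z : G} (hy : y ∈ H) (hz : z ∈ zOf H) : y * z = z * y :=
  (mem_zOf.1 hz).2.2 y hy

theorem le_normalizer_zOf (H : Subgroup G) : H ≤ Subgroup.normalizer (zOf H : Set G) := by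
  apply le_normalizer_of_conj_mem
  intro p hp x hx
  rw [comm_zOf hp hx, mul_inv_cancel_right]
  exact hx

/-- normaliser of a conjugate -/
theorem mem_normalizer_conj_smul {g x : G} {X : Subgroup G} :
    g ∈ Subgroup.normalizer ((MulAut.conj x • X : Subgroup G) : Set G) ↔
      x⁻¹ * g * x ∈ Subgroup.normalizer (X : Set G) := by
  rw [Subgroup.mem_normalizer_iff, Subgroup.mem_normalizer_iff]
  constructor
  · intro h y
    have := h (x * y * x⁻¹)
    rw [mem_conj_smul, mem_conj_smul] at this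
    have e1 : x⁻¹ * (x * y * x⁻¹) * x = y := by simp [mul_assoc]
    have e2 : x⁻¹ * (g * (x * y * x⁻¹) * g⁻¹) * x = x⁻¹ * g * x * y * (x⁻¹ * g * x)⁻¹ := by
      simp [mul_assoc]
    rw [e1, e2] at this
    exact this
  · intro h y
    rw [mem_conj_smul, mem_conj_smul]
    have := h (x⁻¹ * y * x)
    have e2 : x⁻¹ * g * x * (x⁻¹ * y * x) * (x⁻¹ * g * x)⁻¹ = x⁻¹ * (g * y * g⁻¹) * x := by
      simp [mul_assoc]
    rw [e2] at this
    exact this

theorem zOf_ne_bot [Finite G] {H : Subgroup G} (h2 : IsPGroup 2 H) (hne : H ≠ ⊥) : zOf H ≠ ⊥ := by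
  have : Fact (Nat.Prime 2) := ⟨Nat.prime_two⟩
  have hnt : Nontrivial H := (Subgroup.nontrivial_iff_ne_bot H).2 hne
  have hcn : Nontrivial (Subgroup.center H) := h2.center_nontrivial
  have hc2 : IsPGroup 2 (Subgroup.center H) := h2.to_subgroup _
  obtain ⟨n, hn⟩ := hc2.exists_card_eq
  have hn0 : n ≠ 0 := by
    intro h0
    rw [h0, pow_zero] at hn
    have := Finite.one_lt_card (α := Subgroup.center H)
    omega
  have hdvd : 2 ∣ Nat.card (Subgroup.center H) := by rw [hn]; exact dvd_pow_self 2 hn0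
  obtain ⟨z, hz⟩ := exists_prime_orderOf_dvd_card' 2 hdvd
  intro hbot
  have hzm : ((z : H) : G) ∈ zOf H := by
    refine ⟨(z : H).2, ?_, ?_⟩
    · have h1 : z ^ 2 = 1 := by rw [← hz]; exact pow_orderOf_eq_one z
      have h2' : ((z ^ 2 : Subgroup.center H) : H) = 1 := by rw [h1]; rfl
      have h3 : (((z : H) ^ 2 : H) : G) = 1 := by
        have : ((z : H) ^ 2 : H) = 1 := by simpa using h2'
        rw [this]; rfl
      simpa using h3
    · intro y hy
      have hc := Subgroup.mem_center_iff.1 z.2 ⟨y, hy⟩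
      exact congrArg Subtype.val hc
  rw [hbot, Subgroup.mem_bot] at hzm
  have : z = 1 := by
    apply Subtype.ext; apply Subtype.ext; exact hzm
  rw [this, orderOf_one] at hz
  omega


theorem centralizer_le_normalizer' (X : Subgroup G) :
    Subgroup.centralizer (X : Set G) ≤ Subgroup.normalizer (X : Set G) := by
  apply le_normalizer_of_conj_mem
  intro p hp x hx
  rw [Subgroup.mem_centralizer_iff] at hp
  have := hp x hx
  rw [← this, mul_inv_cancel_right]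
  exact hx

theorem mem_normalizer_of_comm {t : G} {X : Subgroup G} (h : ∀ x ∈ X, t * x = x * t) :
    t ∈ Subgroup.normalizer (X : Set G) :=
  centralizer_le_normalizer' X (Subgroup.mem_centralizer_iff.2 (fun x hx => (h x hx).symm))

/-- `C_P(X)` is normal in `P` when `X` is -/
theorem cent_inf_normal {P X : Subgroup G} (hn : P ≤ Subgroup.normalizer (X : Set G)) :
    P ≤ Subgroup.normalizer ((Subgroup.centralizer (X : Set G) ⊓ P : Subgroup G) : Set G) := by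
  apply le_normalizer_of_conj_mem
  intro p hp n hn'
  refine ⟨Subgroup.mem_centralizer_iff.2 ?_, P.mul_mem (P.mul_mem hp hn'.2) (P.inv_mem hp)⟩
  intro x hx
  have hx' : p⁻¹ * x * p ∈ X := by
    have := conj_mem_of_le_normalizer hn (P.inv_mem hp) hx
    rwa [inv_inv] at this
  have hc := (Subgroup.mem_centralizer_iff.1 hn'.1) _ hx'
  calc x * (p * n * p⁻¹) = p * ((p⁻¹ * x * p) * n) * p⁻¹ := by simp [mul_assoc]
    _ = p * (n * (p⁻¹ * x * p)) * p⁻¹ := by rw [hc]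
    _ = p * n * p⁻¹ * x := by simp [mul_assoc]

theorem card_mul_card_le [Finite G] {A B T : Subgroup G} (hA : A ≤ T) (hB : B ≤ T) (h : A ⊓ B = ⊥) :
    Nat.card A * Nat.card B ≤ Nat.card T := by
  rw [← Nat.card_prod]
  refine Nat.card_le_card_of_injective
    (fun p : A × B => (⟨(p.1 : G) * (p.2 : G), T.mul_mem (hA p.1.2) (hB p.2.2)⟩ : T)) ?_
  rintro ⟨a, b⟩ ⟨a', b'⟩ hab
  have hab' : (a : G) * b = a' * b' := congrArg Subtype.val hab
  have h1 : (a' : G)⁻¹ * a = b' * (b : G)⁻¹ := by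
    calc (a' : G)⁻¹ * a = (a' : G)⁻¹ * ((a : G) * b) * (b : G)⁻¹ := by simp [mul_assoc]
      _ = (a' : G)⁻¹ * ((a' : G) * b') * (b : G)⁻¹ := by rw [hab']
      _ = b' * (b : G)⁻¹ := by simp
  have hm : (a' : G)⁻¹ * a ∈ A ⊓ B :=
    ⟨A.mul_mem (A.inv_mem a'.2) a.2, by rw [h1]; exact B.mul_mem b'.2 (B.inv_mem b.2)⟩
  rw [h, Subgroup.mem_bot] at hm
  have ha : (a : G) = a' := by
    have := inv_mul_eq_one.1 hm
    exact this.symm
  have hb : (b : G) = b' := by
    rw [ha] at hab'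
    exact mul_left_cancel hab'
  exact Prod.ext (Subtype.ext ha) (Subtype.ext hb)

namespace Con

variable [Finite G] (S : Setup G)

theorem isSyl_conj {j : ℤ} {X : Subgroup G} (hX : S.IsSyl j X) {x : G} (hx : x ∈ S.Pj j) :
    S.IsSyl j (MulAut.conj x • X) := by
  refine ⟨?_, ?_⟩
  · intro y hy
    rw [mem_conj_smul] at hy
    have h1 := hX.1 hy
    have := (S.Pj j).mul_mem ((S.Pj j).mul_mem hx h1) (inv_mem hx)
    simpa [mul_assoc] using this
  · rw [Setup.card_conj_smul]; exact hX.2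

theorem isPGroup_of_isSyl (hb : S.Bent) {j : ℤ} {X : Subgroup G} (hX : S.IsSyl j X) : IsPGroup 2 X := by
  have : Fact (Nat.Prime 2) := ⟨Nat.prime_two⟩
  obtain ⟨n, hn⟩ := hb.two.exists_card_eq
  exact IsPGroup.of_card (n := n) (by rw [hX.2, hn])

theorem ne_bot_of_isSyl (hb : S.Bent) {j : ℤ} {X : Subgroup G} (hX : S.IsSyl j X) : X ≠ ⊥ := by
  intro h
  have h1 : Nat.card X = 1 := by rw [h]; exact Subgroup.card_bot
  have h2 : Nat.card (S.Tj 0) = 1 := by rw [← hX.2, h1]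
  exact hb.ne_bot (Subgroup.card_eq_one.1 h2)

/-- `Q_j` lies in every Sylow 2-subgroup of `P_j` -/
theorem Qj_le_syl (hL : S.Loc) {j : ℤ} {X : Subgroup G} (hX : S.IsSyl j X) : S.Qj j ≤ X := by
  by_cases h : X = S.Tj j
  · rw [h]; exact S.Qj_le_right j
  · have := hL.syl_inf j X (S.Tj j) hX (S.isSyl_Tj j) h
    rw [← this]; exact inf_le_left

/-- shifting a counterexample to (4a) along the chain -/
theorem cQ_shift {j : ℤ} {x : G} (hx : x ∈ S.Pj j) (hc : ∀ q ∈ S.Qj j, x * q = q * x)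
    (hn : x ∉ S.Qj j) (k : ℤ) :
    ∃ x' ∈ S.Pj k, (∀ q ∈ S.Qj k, x' * q = q * x') ∧ x' ∉ S.Qj k := by
  have hP := S.conj_Pj (k - j) j
  have hQ := S.conj_Qj (k - j) j
  rw [sub_add_cancel] at hP hQ
  generalize S.h ^ (k - j) = g at hP hQ
  refine ⟨g * x * g⁻¹, ?_, ?_, ?_⟩
  · rw [← hP]; exact conj_mem_conj_smul hx
  · intro q hq
    rw [← hQ, mem_conj_smul] at hq
    have := hc _ hq
    calc g * x * g⁻¹ * q = g * (x * (g⁻¹ * q * g)) * g⁻¹ := by simp [mul_assoc]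
      _ = g * ((g⁻¹ * q * g) * x) * g⁻¹ := by rw [this]
      _ = q * (g * x * g⁻¹) := by simp [mul_assoc]
  · intro hmem
    rw [← hQ, mem_conj_smul] at hmem
    apply hn
    have e : g⁻¹ * (g * x * g⁻¹) * g = x := by simp [mul_assoc]
    rwa [e] at hmem

theorem three_comm_Q (hL : S.Loc) {k : ℤ} {x : G} (hx : x ∈ S.Pj k)
    (hc : ∀ q ∈ S.Qj k, x * q = q * x) (hn : x ∉ S.Qj k)
    {t : G} (ht : t ∈ S.Pj k) (ht3 : orderOf t = 3) : ∀ q ∈ S.Qj k, t * q = q * t := by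
  have hnot : ¬ (Subgroup.centralizer (S.Qj k : Set G) ⊓ S.Pj k) ≤ S.Qj k := by
    intro hle
    apply hn
    apply hle
    exact ⟨Subgroup.mem_centralizer_iff.2 (fun q hq => (hc q hq).symm), hx⟩
  have hN := hL.three_mem k (Subgroup.centralizer (S.Qj k : Set G) ⊓ S.Pj k) inf_le_right
    (cent_inf_normal (hL.Q_norm k)) hnot t ht ht3
  intro q hq
  exact ((Subgroup.mem_centralizer_iff.1 hN.1) q hq).symm

theorem cQ (hL : S.Loc) (h8 : 8 ≤ Nat.card (S.Tj 0)) :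
    ∀ j : ℤ, ∀ x ∈ S.Pj j, (∀ q ∈ S.Qj j, x * q = q * x) → x ∈ S.Qj j := by
  intro j x hx hc
  by_contra hn
  obtain ⟨x1, hx1, hc1, hn1⟩ := cQ_shift S hx hc hn (j + 1)
  obtain ⟨t, ht, ht3⟩ := hL.exists_three j
  obtain ⟨t', ht', ht3'⟩ := hL.exists_three (j + 1)
  have htc := three_comm_Q S hL hx hc hn ht ht3
  have htc' := three_comm_Q S hL hx1 hc1 hn1 ht' ht3'
  have hT : S.Tj j ≤ Subgroup.normalizer ((S.Qj j ⊓ S.Qj (j + 1) : Subgroup G) : Set G) := by
    apply le_normalizer_of_conj_mem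
    intro p hp y hy
    exact ⟨conj_mem_of_le_normalizer (hL.Q_norm j) (S.Tj_le_left j hp) hy.1,
      conj_mem_of_le_normalizer (hL.Q_norm (j + 1)) (S.Tj_le_right j hp) hy.2⟩
  have h1 : S.Pj j ≤ Subgroup.normalizer ((S.Qj j ⊓ S.Qj (j + 1) : Subgroup G) : Set G) := by
    rw [← hL.sup_three j (S.Tj j) (S.isSyl_Tj j) t ht ht3]
    exact sup_le hT (Subgroup.zpowers_le.2 (mem_normalizer_of_comm (fun y hy => htc y hy.1)))
  have h2 : S.Pj (j + 1) ≤ Subgroup.normalizer ((S.Qj j ⊓ S.Qj (j + 1) : Subgroup G) : Set G) := by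
    rw [← hL.sup_three (j + 1) (S.Tj j) (S.isSyl_Tj_succ j) t' ht' ht3']
    exact sup_le hT (Subgroup.zpowers_le.2 (mem_normalizer_of_comm (fun y hy => htc' y hy.2)))
  have hbot : S.Qj j ⊓ S.Qj (j + 1) = ⊥ :=
    S.no_common_normal_Pj j (j + 1) _ (inf_le_left.trans (S.Qj_le j)) h1 h2 (hL.P_ne j)
  have hQ1 : S.Qj (j + 1) ≤ S.Tj j := by
    have := S.Qj_le_left (j + 1); rwa [add_sub_cancel_right] at this
  have hcard := card_mul_card_le (S.Qj_le_right j) hQ1 hbot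
  rw [S.card_Tj j] at hcard
  have e1 := hL.cardQ j
  have e2 := hL.cardQ (j + 1)
  have hab : Nat.card (S.Qj j) = Nat.card (S.Qj (j + 1)) := by omega
  rw [← hab] at hcard
  have h4 : 4 ≤ Nat.card (S.Qj j) := by omega
  have := Nat.mul_le_mul_right (Nat.card (S.Qj j)) h4
  omega

section fields

variable (hL : S.Loc)
  (hcQ : ∀ j : ℤ, ∀ x ∈ S.Pj j, (∀ q ∈ S.Qj j, x * q = q * x) → x ∈ S.Qj j)

include hL hcQ

theorem zOf_le_zOf_Q {j : ℤ} {X : Subgroup G} (hX : S.IsSyl j X) : zOf X ≤ zOf (S.Qj j) := by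
  intro z hz
  have hzX := mem_zOf.1 hz
  have hQX := Qj_le_syl S hL hX
  have hzQ : z ∈ S.Qj j := hcQ j z (hX.1 hzX.1) (fun q hq => (hzX.2.2 q (hQX hq)).symm)
  exact ⟨hzQ, hzX.2.1, fun y hy => hzX.2.2 y (hQX hy)⟩

theorem Vj_le_zOf_Q (j : ℤ) : S.Vj j ≤ zOf (S.Qj j) := by
  apply iSup_le
  intro g
  have : MulAut.conj (g : G) • S.Zj j = zOf (MulAut.conj (g : G) • S.Tj j) := (zOf_conj_smul _ _).symm
  rw [this]
  exact zOf_le_zOf_Q S hL hcQ (isSyl_conj S (S.isSyl_Tj j) g.2)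

omit hL hcQ in
theorem V_norm (j : ℤ) : S.Pj j ≤ Subgroup.normalizer (S.Vj j : Set G) := by
  apply le_normalizer_of_conj_mem
  intro p hp v hv
  have hle : S.Vj j ≤ MulAut.conj p⁻¹ • S.Vj j := by
    apply iSup_le
    intro g x hx
    rw [mem_conj_smul, inv_inv]
    have hmem : p * x * p⁻¹ ∈ MulAut.conj (p * (g : G)) • S.Zj j := by
      rw [mem_conj_smul] at hx ⊢
      have e : (p * (g : G))⁻¹ * (p * x * p⁻¹) * (p * (g : G)) = (g : G)⁻¹ * x * g := by
        simp [mul_assoc]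
      rw [e]; exact hx
    exact (le_iSup (fun g : S.Pj j => MulAut.conj (g : G) • S.Zj j)
      ⟨p * (g : G), (S.Pj j).mul_mem hp g.2⟩) hmem
  have := hle hv
  rwa [mem_conj_smul, inv_inv] at this

omit hcQ in
theorem Z_le_V {j : ℤ} {X : Subgroup G} (hX : S.IsSyl j X) : zOf X ≤ S.Vj j := by
  obtain ⟨x, hx, hxX⟩ := hL.syl_conj j (S.Tj j) X (S.isSyl_Tj j) hX
  rw [← hxX, zOf_conj_smul]
  exact le_iSup (fun g : S.Pj j => MulAut.conj (g : G) • S.Zj j) ⟨x, hx⟩

theorem Y_le_Z {j : ℤ} {X : Subgroup G} (hX : S.IsSyl j X) : S.Yj j ≤ zOf X := by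
  intro y hy
  have hy' := mem_zOf.1 hy
  have hyQ : y ∈ S.Qj j := hcQ j y hy'.1 (fun q hq => (hy'.2.2 q (S.Qj_le j hq)).symm)
  exact ⟨Qj_le_syl S hL hX hyQ, hy'.2.1, fun x hx => hy'.2.2 x (hX.1 hx)⟩

omit hcQ in
/-- (Act) for `T_j` -/
theorem act_T (hb : S.Bent) (j : ℤ) : ¬ S.Pj j ≤ Subgroup.normalizer (S.Zj j : Set G) := by
  intro hn
  -- shift to `j + 1`
  have hn1 : S.Pj (j + 1) ≤ Subgroup.normalizer (S.Zj (j + 1) : Set G) := by
    have hP := S.conj_Pj 1 j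
    have hZ := S.conj_Zj 1 j
    rw [add_comm] at hP hZ
    intro g hg
    rw [← hZ, mem_normalizer_conj_smul]
    apply hn
    rw [← hP, mem_conj_smul] at hg
    exact hg
  obtain ⟨p, hp, hpT⟩ := hL.syl_conj (j + 1) (S.Tj (j + 1)) (S.Tj j) (S.isSyl_Tj (j + 1))
    (S.isSyl_Tj_succ j)
  have hZeq : S.Zj j = S.Zj (j + 1) := by
    have h1 : S.Zj j = MulAut.conj p • S.Zj (j + 1) := by
      show zOf (S.Tj j) = MulAut.conj p • zOf (S.Tj (j + 1))
      rw [← zOf_conj_smul, hpT]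
    rw [h1]
    exact conj_smul_eq_of_mem_normalizer (hn1 hp)
  have hbot : S.Zj j = ⊥ := by
    apply S.no_common_normal_Pj j (j + 1) (S.Zj j) ((S.Zj_le j).trans (S.Tj_le_left j)) hn
      _ (hL.P_ne j)
    rw [hZeq]; exact hn1
  exact zOf_ne_bot (isPGroup_of_isSyl S hb (S.isSyl_Tj j)) (ne_bot_of_isSyl S hb (S.isSyl_Tj j)) hbot

omit hcQ in
theorem act (hb : S.Bent) {j : ℤ} {X : Subgroup G} (hX : S.IsSyl j X) :
    ¬ S.Pj j ≤ Subgroup.normalizer (zOf X : Set G) := by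
  intro hn
  obtain ⟨x, hx, hxX⟩ := hL.syl_conj j (S.Tj j) X (S.isSyl_Tj j) hX
  apply act_T S hL hb j
  intro g hg
  have h1 : x * g * x⁻¹ ∈ S.Pj j := (S.Pj j).mul_mem ((S.Pj j).mul_mem hx hg) ((S.Pj j).inv_mem hx)
  have h2 := hn h1
  rw [← hxX, zOf_conj_smul, mem_normalizer_conj_smul] at h2
  have e : x⁻¹ * (x * g * x⁻¹) * x = g := by simp [mul_assoc]
  rw [e] at h2
  exact h2

omit hcQ in
theorem cV (hb : S.Bent) : ∀ j : ℤ, ∀ x ∈ S.Pj j, (∀ v ∈ S.Vj j, x * v = v * x) → x ∈ S.Qj j := by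
  intro j x hx hc
  by_contra hn
  have hnot : ¬ (Subgroup.centralizer (S.Vj j : Set G) ⊓ S.Pj j) ≤ S.Qj j := by
    intro hle
    apply hn
    apply hle
    exact ⟨Subgroup.mem_centralizer_iff.2 (fun q hq => (hc q hq).symm), hx⟩
  obtain ⟨t, ht, ht3⟩ := hL.exists_three j
  have hN := hL.three_mem j (Subgroup.centralizer (S.Vj j : Set G) ⊓ S.Pj j) inf_le_right
    (cent_inf_normal (V_norm S j)) hnot t ht ht3
  apply act_T S hL hb j
  rw [← hL.sup_three j (S.Tj j) (S.isSyl_Tj j) t ht ht3]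
  refine sup_le (le_normalizer_zOf _) (Subgroup.zpowers_le.2 (mem_normalizer_of_comm ?_))
  intro z hz
  exact ((Subgroup.mem_centralizer_iff.1 hN.1) z (Z_le_V S hL (S.isSyl_Tj j) hz)).symm

omit hcQ in
theorem key (hb : S.Bent) (j : ℤ) (X X' : Subgroup G) (hX : S.IsSyl j X) (hX' : S.IsSyl j X')
    (hne : X ≠ X') (s : G) (hs : s ∈ X) (hsQ : s ∉ S.Qj j) : ∃ z ∈ zOf X', s * z ≠ z * s := by
  by_contra hcon0
  have hcon : ∀ z ∈ zOf X', s * z = z * s := by
    intro z hz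
    by_contra h
    exact hcon0 ⟨z, hz, h⟩
  have hsP : s ∈ S.Pj j := hX.1 hs
  have hX'' : S.IsSyl j (MulAut.conj s • X') := isSyl_conj S hX' hsP
  have hne' : X' ≠ MulAut.conj s • X' := by
    intro he
    have hsX' : s ∈ X' := hL.syl_selfnorm j X' hX' s hsP he.symm
    apply hsQ
    rw [← hL.syl_inf j X X' hX hX' hne]
    exact ⟨hs, hsX'⟩
  have hZ : zOf (MulAut.conj s • X') = zOf X' := by
    rw [zOf_conj_smul]
    exact conj_smul_eq_of_mem_normalizer (mem_normalizer_of_comm hcon)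
  apply act S hL hb hX'
  rw [← hL.syl_sup j X' (MulAut.conj s • X') hX' hX'' hne']
  refine sup_le (le_normalizer_zOf _) ?_
  have := le_normalizer_zOf (MulAut.conj s • X')
  rwa [hZ] at this

end fields

omit [Finite G] in
theorem Y_inf' [Finite G] (i j : ℤ) (hne : S.Pj i ≠ S.Pj j) : S.Yj i ⊓ S.Yj j = ⊥ := by
  have h1 : S.Pj i ≤ Subgroup.normalizer ((S.Yj i ⊓ S.Yj j : Subgroup G) : Set G) := by
    apply le_normalizer_of_conj_mem
    intro p hp x hx
    have := (mem_zOf.1 hx.1).2.2 p hp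
    rw [this, mul_inv_cancel_right]
    exact hx
  have h2 : S.Pj j ≤ Subgroup.normalizer ((S.Yj i ⊓ S.Yj j : Subgroup G) : Set G) := by
    apply le_normalizer_of_conj_mem
    intro p hp x hx
    have := (mem_zOf.1 hx.2).2.2 p hp
    rw [this, mul_inv_cancel_right]
    exact hx
  exact S.no_common_normal_Pj i j _ (inf_le_left.trans (S.Yj_le i)) h1 h2 hne

end Con

/-- **(CON)**: section 4 of the blueprint. -/
theorem con [Finite G] (S : Setup G) (hb : S.Bent) (hL : S.Loc) (h8 : 8 ≤ Nat.card (S.Tj 0)) : S.Con := by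
  have hcQ := Con.cQ S hL h8
  refine
    { cQ := hcQ
      Z_le_Q := fun j X hX => (Con.zOf_le_zOf_Q S hL hcQ hX).trans (zOf_le _)
      Z_comm_Q := fun j X hX a ha b hb' => (comm_zOf (Con.Qj_le_syl S hL hX hb') ha).symm
      Z_ne_bot := fun j => zOf_ne_bot (Con.isPGroup_of_isSyl S hb (S.isSyl_Tj j))
        (Con.ne_bot_of_isSyl S hb (S.isSyl_Tj j))
      V_le_Q := fun j => (Con.Vj_le_zOf_Q S hL hcQ j).trans (zOf_le _)
      V_comm_Q := fun j a ha b hb' => (comm_zOf hb' (Con.Vj_le_zOf_Q S hL hcQ j ha)).symm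
      V_sq := fun j v hv => (mem_zOf.1 (Con.Vj_le_zOf_Q S hL hcQ j hv)).2.1
      V_norm := fun j => Con.V_norm S j
      Z_le_V := fun j X hX => Con.Z_le_V S hL hX
      Y_le_Z := fun j X hX => Con.Y_le_Z S hL hcQ hX
      act := fun j X hX => Con.act S hL hb hX
      cV := Con.cV S hL hb
      key := Con.key S hL hb
      Y_inf := fun i j hne => Con.Y_inf' S i j hne }

end Cfsg.Agent.Lib.H24.Sims
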