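import Cfsg.Agent.Lib.H14.SuzM.Cov3

/-!
# S2048 (helper14 blueprint): piece P3 `cover3_facts` (helper24, twin)
-/

set_option autoImplicit false
set_option maxRecDepth 100000

namespace Cfsg.Agent.Lib.H24.SuzM

open Cfsg.Agent.Lib.H14.SuzM
open Cfsg.Agent.Lib.H17.SuzGlue (gen idx rels relW)

theorem mk_word3 (w : List ℕ) :
    PresentedGroup.mk covRels3 (FreeGroup.mk (w.map fun x => (gen x, true))) = wv pc3 w := by
  induction w with
  | nil => rfl
  | cons x w ih =>
    rw [wv_cons, ← ih]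
    show PresentedGroup.mk covRels3 (FreeGroup.mk ([(gen x, true)] ++ _)) = _
    rw [← FreeGroup.mul_mk, map_mul]
    rfl

theorem rel3_one : ∀ w ∈ covW3, wv pc3 w = 1 := by
  intro w hw
  rw [← mk_word3]
  exact PresentedGroup.one_of_mem ⟨w, hw, rfl⟩

theorem relW_cases : ∀ w ∈ relW, w ∈ relW.eraseIdx 24 ∨ w = zw := by decide

theorem mem_cov_of_erase {w : List ℕ} (h : w ∈ relW.eraseIdx 24) : w ∈ covW3 :=
  List.mem_append_left _ (List.mem_append_left _ h)

theorem pc3_idx (x : ℕ) : pc3 x = pc3 (idx (gen x)) := by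
  unfold pc3
  rw [Cfsg.Agent.Lib.H17.SuzGlue.gen_idx]

theorem pc3_sq_lt : ∀ i < 7, pc3 i * pc3 i = 1 := by
  intro i hi
  have h : [i, i] ∈ relW.eraseIdx 24 := by
    interval_cases i <;> decide
  have := rel3_one _ (mem_cov_of_erase h)
  simpa [wv] using this

theorem pc3_sq (x : ℕ) : pc3 x * pc3 x = 1 := by
  rw [pc3_idx]
  exact pc3_sq_lt _ (Cfsg.Agent.Lib.H17.SuzGlue.idx_lt _)

/-- the value of the reversed word, for involutions -/
theorem wv_reverse {Γ : Type*} [Group Γ] (g : ℕ → Γ) (hg : ∀ x, g x * g x = 1) (w : List ℕ) :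
    wv g w.reverse = (wv g w)⁻¹ := by
  induction w with
  | nil => simp [wv]
  | cons x w ih =>
    rw [List.reverse_cons, wv_append, ih, wv_cons, wv_cons, wv_nil, mul_one, mul_inv_rev]
    congr 1
    exact (inv_eq_of_mul_eq_one_right (hg x)).symm

theorem z3_comm_lt : ∀ i < 7, z3 * pc3 i = pc3 i * z3 := by
  intro i hi
  have h : zw ++ [i] ++ zw.reverse ++ [i] ∈ covW3 :=
    List.mem_append_left _ (List.mem_append_right _
      (List.mem_map.mpr ⟨i, List.mem_range.mpr hi, rfl⟩))
  have h1 := rel3_one _ h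
  rw [wv_append, wv_append, wv_append, wv_reverse pc3 pc3_sq, wv_cons, wv_nil, mul_one] at h1
  -- z * x * z⁻¹ * x = 1
  have hx : (pc3 i)⁻¹ = pc3 i := inv_eq_of_mul_eq_one_right (pc3_sq i)
  have h2 : z3 * pc3 i * z3⁻¹ = (pc3 i)⁻¹ := eq_inv_of_mul_eq_one_left h1
  rw [hx] at h2
  calc z3 * pc3 i = (z3 * pc3 i * z3⁻¹) * z3 := by group
    _ = pc3 i * z3 := by rw [h2]

theorem z3_central : z3 ∈ Subgroup.center PC3 := by
  rw [Subgroup.mem_center_iff]
  intro g
  have hmem : g ∈ Subgroup.centralizer ({z3} : Set PC3) := by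
    apply PresentedGroup.generated_by covRels3
    intro u
    rw [Subgroup.mem_centralizer_iff]
    intro h hh
    rw [Set.mem_singleton_iff] at hh
    subst hh
    have := z3_comm_lt (idx u) (Cfsg.Agent.Lib.H17.SuzGlue.idx_lt u)
    unfold pc3 at this
    rw [Cfsg.Agent.Lib.H17.SuzGlue.gen_idx] at this
    exact this
  rw [Subgroup.mem_centralizer_iff] at hmem
  exact (hmem z3 rfl).symm

theorem gen3 : Subgroup.closure {x : PC3 | ∃ i < 7, x = pc3 i} = ⊤ := by
  rw [eq_top_iff]
  intro x _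
  apply PresentedGroup.generated_by covRels3
  intro u
  apply Subgroup.subset_closure
  refine ⟨idx u, Cfsg.Agent.Lib.H17.SuzGlue.idx_lt u, ?_⟩
  unfold pc3
  rw [Cfsg.Agent.Lib.H17.SuzGlue.gen_idx]

theorem z3_cube : z3 ^ 3 = 1 := by
  have h : zw ++ zw ++ zw ∈ covW3 := List.mem_append_right _ (List.mem_singleton.mpr rfl)
  have h1 := rel3_one _ h
  rw [wv_append, wv_append] at h1
  rw [pow_succ, pow_two]
  exact h1

/-! ### the projection -/

theorem sg_sq (x : ℕ) : sg x * sg x = 1 := Cfsg.Agent.Lib.H17.SuzGlue.of_mul_self (gen x)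

theorem wv_sg_relW : ∀ w ∈ relW, wv sg w = 1 := by
  intro w hw
  have := Cfsg.Agent.Lib.H17.SuzGlue.relW_trivial w hw
  rw [List.map_map] at this
  exact this

theorem zw_mem : zw ∈ relW := by decide

theorem wv_sg_cov : ∀ w ∈ covW3, wv sg w = 1 := by
  intro w hw
  have hz : wv sg zw = 1 := wv_sg_relW _ zw_mem
  rcases List.mem_append.mp hw with hw | hw
  · rcases List.mem_append.mp hw with hw | hw
    · exact wv_sg_relW _ (List.mem_of_mem_eraseIdx hw)
    · obtain ⟨x, -, rfl⟩ := List.mem_map.mp hw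
      rw [wv_append, wv_append, wv_append, wv_reverse sg sg_sq, hz, wv_cons, wv_nil, mul_one,
        inv_one, one_mul, mul_one]
      exact sg_sq x
  · rw [List.mem_singleton.mp hw, wv_append, wv_append, hz, one_mul, one_mul]

theorem lift_word {K : Type*} [Group K] (f : Cfsg.Spor.Suz.Gen → K) (w : List ℕ) :
    FreeGroup.lift f (FreeGroup.mk (w.map fun x => (gen x, true))) = wv (fun x => f (gen x)) w := by
  induction w with
  | nil => rfl
  | cons x w ih =>
    rw [wv_cons, ← ih]
    show FreeGroup.lift f (FreeGroup.mk ([(gen x, true)] ++ _)) = _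
    rw [← FreeGroup.mul_mk, map_mul]
    show FreeGroup.lift f (FreeGroup.of (gen x)) * _ = _
    rw [FreeGroup.lift_apply_of]

theorem lift_cov : ∀ r ∈ covRels3,
    FreeGroup.lift (fun u => (PresentedGroup.of u : G)) r = 1 := by
  rintro r ⟨w, hw, rfl⟩
  rw [lift_word]
  exact wv_sg_cov w hw

/-- the projection onto `Suz` -/
noncomputable def pi3 : PC3 →* G := PresentedGroup.toGroup lift_cov

theorem pi3_pc3 (i : ℕ) : pi3 (pc3 i) = sg i := PresentedGroup.toGroup.of lift_cov

theorem pi3_z3 : pi3 z3 = 1 := by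
  unfold z3
  rw [map_wv]
  simp only [pi3_pc3]
  exact wv_sg_relW _ zw_mem

/-! ### perfectness -/

theorem odd_braid {A : Type*} [CommGroup A] {x y : A} (hx : x * x = 1) (hy : y * y = 1) (k : ℕ)
    (h : (x * y) ^ (2 * k + 1) = 1) : x = y := by
  have h2 : (x * y) ^ 2 = 1 := by
    rw [mul_pow, pow_two, pow_two, hx, hy, one_mul]
  rw [pow_succ, pow_mul, h2, one_pow, one_mul] at h
  have : x = y⁻¹ := eq_inv_of_mul_eq_one_left h
  rw [this]
  exact inv_eq_of_mul_eq_one_right hy

theorem cancel_sq {A : Type*} [Monoid A] {x : A} (h : x * x = 1) (r : A) : x * (x * r) = r := by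
  rw [← mul_assoc, h, one_mul]

theorem perfect3 : commutator PC3 = ⊤ := by
  have hq : ∀ w ∈ covW3, wv (fun x => Abelianization.of (pc3 x)) w = 1 := by
    intro w hw
    rw [← map_wv, rel3_one w hw, map_one]
  have hsq : ∀ x, Abelianization.of (pc3 x) * Abelianization.of (pc3 x) = 1 := by
    intro x
    rw [← map_mul, pc3_sq, map_one]
  have e01 : Abelianization.of (pc3 0) = Abelianization.of (pc3 1) := by
    apply odd_braid (hsq 0) (hsq 1) 2
    have := hq [0, 1, 0, 1, 0, 1, 0, 1, 0, 1] (mem_cov_of_erase (by decide))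
    simpa [wv, pow_succ, mul_assoc] using this
  have e12 : Abelianization.of (pc3 1) = Abelianization.of (pc3 2) := by
    apply odd_braid (hsq 1) (hsq 2) 1
    have := hq [1, 2, 1, 2, 1, 2] (mem_cov_of_erase (by decide))
    simpa [wv, pow_succ, mul_assoc] using this
  have e15 : Abelianization.of (pc3 1) = Abelianization.of (pc3 5) := by
    apply odd_braid (hsq 1) (hsq 5) 1
    have := hq [1, 5, 1, 5, 1, 5] (mem_cov_of_erase (by decide))
    simpa [wv, pow_succ, mul_assoc] using this
  have e16 : Abelianization.of (pc3 1) = Abelianization.of (pc3 6) := by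
    apply odd_braid (hsq 1) (hsq 6) 1
    have := hq [1, 6, 1, 6, 1, 6] (mem_cov_of_erase (by decide))
    simpa [wv, pow_succ, mul_assoc] using this
  have e34 : Abelianization.of (pc3 3) = Abelianization.of (pc3 4) := by
    apply odd_braid (hsq 3) (hsq 4) 1
    have := hq [3, 4, 3, 4, 3, 4] (mem_cov_of_erase (by decide))
    simpa [wv, pow_succ, mul_assoc] using this
  have h0 : Abelianization.of (pc3 0) = 1 := by
    have := hq [0, 3, 2, 3, 2, 3, 2, 3, 2] (mem_cov_of_erase (by decide))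
    simp only [wv, List.map_cons, List.map_nil, List.prod_cons, List.prod_nil, mul_one] at this
    -- q0 * (q3 * (q2 * (q3 * (q2 * ...))))
    have c : ∀ r : Abelianization PC3, Abelianization.of (pc3 3) * (Abelianization.of (pc3 2) *
        (Abelianization.of (pc3 3) * (Abelianization.of (pc3 2) * r))) = r := by
      intro r
      rw [mul_left_comm (Abelianization.of (pc3 2)) (Abelianization.of (pc3 3)),
        cancel_sq (hsq 3), cancel_sq (hsq 2)]
    have c' : Abelianization.of (pc3 3) * (Abelianization.of (pc3 2) *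
        (Abelianization.of (pc3 3) * Abelianization.of (pc3 2))) = 1 := by
      have := c 1
      rwa [mul_one] at this
    rw [c, c', mul_one] at this
    exact this
  have h1 : Abelianization.of (pc3 1) = 1 := e01 ▸ h0
  have h2 : Abelianization.of (pc3 2) = 1 := e12 ▸ h1
  have h5 : Abelianization.of (pc3 5) = 1 := e15 ▸ h1
  have h6 : Abelianization.of (pc3 6) = 1 := e16 ▸ h1
  have h4 : Abelianization.of (pc3 4) = 1 := by
    have := hq _ (mem_cov_of_erase (w := relW[25]) (by decide))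
    simp only [relW, List.getElem_cons_succ, List.getElem_cons_zero, wv, List.map_cons,
      List.map_nil, List.prod_cons, List.prod_nil, mul_one, h1, h2, one_mul,
      cancel_sq (hsq 3)] at this
    rw [cancel_sq (hsq 4)] at this
    exact this
  have h3 : Abelianization.of (pc3 3) = 1 := e34 ▸ h4
  rw [eq_top_iff]
  intro x _
  apply PresentedGroup.generated_by covRels3
  intro u
  rw [← Abelianization.ker_of, MonoidHom.mem_ker]
  have hu : (PresentedGroup.of u : PC3) = pc3 (idx u) := by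
    unfold pc3
    rw [Cfsg.Agent.Lib.H17.SuzGlue.gen_idx]
  rw [hu]
  cases u
  · exact h0
  · exact h1
  · exact h2
  · exact h3
  · exact h4
  · exact h5
  · exact h6

/-- **P3**. -/
theorem cover3_facts :
    Subgroup.closure {x : PC3 | ∃ i < 7, x = pc3 i} = ⊤ ∧
    z3 ∈ Subgroup.center PC3 ∧ z3 ^ 3 = 1 ∧
    (∃ π : PC3 →* G, (∀ i < 7, π (pc3 i) = sg i) ∧ π z3 = 1) ∧
    (∀ i < 7, pc3 i * pc3 i ∈ Subgroup.zpowers z3) ∧
    (∀ w ∈ Cfsg.Agent.Lib.H17.SuzGlue.relW, wv pc3 w ∈ Subgroup.zpowers z3) ∧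
    commutator PC3 = ⊤ := by
  refine ⟨gen3, z3_central, z3_cube, ⟨pi3, fun i _ => pi3_pc3 i, pi3_z3⟩, ?_, ?_, perfect3⟩
  · intro i hi
    rw [pc3_sq_lt i hi]
    exact Subgroup.one_mem _
  · intro w hw
    rcases relW_cases w hw with h | h
    · rw [rel3_one w (mem_cov_of_erase h)]
      exact Subgroup.one_mem _
    · rw [h]
      exact Subgroup.mem_zpowers z3

end Cfsg.Agent.Lib.H24.SuzM
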