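import Cfsg.Agent.Lib.H25.SuzM2.Cov2
import Cfsg.Agent.Lib.H24.SuzMP3

/-!
# S2048 (helper14 blueprint, 2-part by helper25): piece P2 `cover2_facts` (helper24)
-/

set_option autoImplicit false
set_option maxRecDepth 100000

namespace Cfsg.Agent.Lib.H24.SuzM

open Cfsg.Agent.Lib.H14.SuzM
open Cfsg.Agent.Lib.H25.SuzM2
open Cfsg.Agent.Lib.H17.SuzGlue (gen idx rels relW)

theorem mk_word2 (w : List ℕ) :
    PresentedGroup.mk covRels2 (FreeGroup.mk (w.map fun x => (gen x, true))) = wv pc2 w := by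
  induction w with
  | nil => rfl
  | cons x w ih =>
    rw [wv_cons, ← ih]
    show PresentedGroup.mk covRels2 (FreeGroup.mk ([(gen x, true)] ++ _)) = _
    rw [← FreeGroup.mul_mk, map_mul]
    rfl

theorem rel2_one : ∀ w ∈ covW2, wv pc2 w = 1 := by
  intro w hw
  rw [← mk_word2]
  exact PresentedGroup.one_of_mem ⟨w, hw, rfl⟩

theorem pc2_idx (x : ℕ) : pc2 x = pc2 (idx (gen x)) := by
  unfold pc2
  rw [Cfsg.Agent.Lib.H17.SuzGlue.gen_idx]

theorem z2_eq : z2 = pc2 3 * pc2 3 := by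
  unfold z2 zw2
  rw [wv_cons, wv_cons, wv_nil, mul_one]

/-- the involutive letters -/
theorem pc2_sq_inv : ∀ i < 7, i ≠ 3 → i ≠ 4 → pc2 i * pc2 i = 1 := by
  intro i hi h3 h4
  have h : [i, i] ∈ covW2 := by
    interval_cases i <;> first | decide | exact absurd rfl h3 | exact absurd rfl h4
  have := rel2_one _ h
  simpa [wv] using this

theorem z2_sq : z2 ^ 2 = 1 := by
  have h : [3, 3, 3, 3] ∈ covW2 := by decide
  have h1 := rel2_one _ h
  rw [show ([3, 3, 3, 3] : List ℕ) = zw2 ++ zw2 from rfl, wv_append] at h1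
  rw [pow_two]
  exact h1

theorem z2_mul_self : z2 * z2 = 1 := by
  rw [← pow_two]
  exact z2_sq

theorem z2_inv : z2⁻¹ = z2 := inv_eq_of_mul_eq_one_right z2_mul_self

/-- `e² = z⁻¹ = z` -/
theorem pc2_four_sq : pc2 4 * pc2 4 = z2 := by
  have h : [4, 4, 3, 3] ∈ covW2 := by decide
  have h1 := rel2_one _ h
  rw [show ([4, 4, 3, 3] : List ℕ) = [4, 4] ++ zw2 from rfl, wv_append, wv_cons, wv_cons, wv_nil,
    mul_one] at h1
  have h2 : pc2 4 * pc2 4 = (wv pc2 zw2)⁻¹ := eq_inv_of_mul_eq_one_left h1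
  rw [h2]
  exact z2_inv

theorem z2_comm_inv : ∀ i < 7, i ≠ 3 → i ≠ 4 → z2 * pc2 i = pc2 i * z2 := by
  intro i hi h3 h4
  have h : zw2 ++ [i] ++ zw2 ++ [i] ∈ covW2 := by
    interval_cases i <;> first | decide | exact absurd rfl h3 | exact absurd rfl h4
  have h1 := rel2_one _ h
  rw [wv_append, wv_append, wv_append, wv_cons, wv_nil, mul_one] at h1
  -- z * x * z * x = 1
  change z2 * pc2 i * z2 * pc2 i = 1 at h1
  have hx : (pc2 i)⁻¹ = pc2 i := inv_eq_of_mul_eq_one_right (pc2_sq_inv i hi h3 h4)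
  have h2 : z2 * pc2 i * z2 = (pc2 i)⁻¹ := eq_inv_of_mul_eq_one_left h1
  rw [hx] at h2
  calc z2 * pc2 i = (z2 * pc2 i * z2) * z2⁻¹ := by group
    _ = pc2 i * z2 := by rw [h2, z2_inv]

theorem z2_comm_three : z2 * pc2 3 = pc2 3 * z2 := by
  rw [z2_eq, mul_assoc]

theorem z2_comm_four : z2 * pc2 4 = pc2 4 * z2 := by
  rw [← pc2_four_sq, mul_assoc]

theorem z2_comm_lt : ∀ i < 7, z2 * pc2 i = pc2 i * z2 := by
  intro i hi
  by_cases h3 : i = 3
  · subst h3
    exact z2_comm_three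
  · by_cases h4 : i = 4
    · subst h4
      exact z2_comm_four
    · exact z2_comm_inv i hi h3 h4

theorem z2_central : z2 ∈ Subgroup.center PC2 := by
  rw [Subgroup.mem_center_iff]
  intro g
  have hmem : g ∈ Subgroup.centralizer ({z2} : Set PC2) := by
    apply PresentedGroup.generated_by covRels2
    intro u
    rw [Subgroup.mem_centralizer_iff]
    intro h hh
    rw [Set.mem_singleton_iff] at hh
    subst hh
    have := z2_comm_lt (idx u) (Cfsg.Agent.Lib.H17.SuzGlue.idx_lt u)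
    unfold pc2 at this
    rw [Cfsg.Agent.Lib.H17.SuzGlue.gen_idx] at this
    exact this
  rw [Subgroup.mem_centralizer_iff] at hmem
  exact (hmem z2 rfl).symm

theorem gen2 : Subgroup.closure {x : PC2 | ∃ i < 7, x = pc2 i} = ⊤ := by
  rw [eq_top_iff]
  intro x _
  apply PresentedGroup.generated_by covRels2
  intro u
  apply Subgroup.subset_closure
  refine ⟨idx u, Cfsg.Agent.Lib.H17.SuzGlue.idx_lt u, ?_⟩
  unfold pc2
  rw [Cfsg.Agent.Lib.H17.SuzGlue.gen_idx]

/-! ### the projection -/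

/-- the shape of the relator words of the cover -/
theorem covW2_cases : ∀ w ∈ covW2, w ∈ relW ∨ (∃ w' ∈ relW, w = w' ++ zw2) ∨
    (∃ x, w = [3, 3, x, 3, 3, x]) ∨ w = [3, 3, 4, 3, 3, 4, 4, 4] := by
  have h : ∀ w ∈ covW2, w ∈ relW ∨ (w.dropLast.dropLast ∈ relW ∧ w = w.dropLast.dropLast ++ zw2) ∨
      (w = [3, 3, w.getD 2 0, 3, 3, w.getD 2 0]) ∨ w = [3, 3, 4, 3, 3, 4, 4, 4] := by
    decide
  intro w hw
  rcases h w hw with h | h | h | h
  · exact Or.inl h
  · exact Or.inr (Or.inl ⟨_, h.1, h.2⟩)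
  · exact Or.inr (Or.inr (Or.inl ⟨_, h⟩))
  · exact Or.inr (Or.inr (Or.inr h))

theorem wv_sg_zw2 : wv sg zw2 = 1 := by
  unfold zw2
  rw [wv_cons, wv_cons, wv_nil, mul_one]
  exact sg_sq 3

theorem wv_sg_cov2 : ∀ w ∈ covW2, wv sg w = 1 := by
  intro w hw
  rcases covW2_cases w hw with h | ⟨w', hw', rfl⟩ | ⟨x, rfl⟩ | rfl
  · exact wv_sg_relW _ h
  · rw [wv_append, wv_sg_relW _ hw', wv_sg_zw2, one_mul]
  · rw [show ([3, 3, x, 3, 3, x] : List ℕ) = zw2 ++ [x] ++ zw2 ++ [x] from rfl, wv_append,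
      wv_append, wv_append, wv_sg_zw2, one_mul, mul_one, wv_cons, wv_nil, mul_one]
    exact sg_sq x
  · rw [show ([3, 3, 4, 3, 3, 4, 4, 4] : List ℕ) = zw2 ++ [4] ++ zw2 ++ [4] ++ [4, 4] from rfl,
      wv_append, wv_append, wv_append, wv_append, wv_sg_zw2, one_mul, mul_one, wv_cons, wv_nil,
      mul_one, sg_sq 4, one_mul, wv_cons, wv_cons, wv_nil, mul_one]
    exact sg_sq 4

theorem lift_cov2 : ∀ r ∈ covRels2,
    FreeGroup.lift (fun u => (PresentedGroup.of u : G)) r = 1 := by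
  rintro r ⟨w, hw, rfl⟩
  rw [lift_word]
  exact wv_sg_cov2 w hw

/-- the projection onto `Suz` -/
noncomputable def pi2 : PC2 →* G := PresentedGroup.toGroup lift_cov2

theorem pi2_pc2 (i : ℕ) : pi2 (pc2 i) = sg i := PresentedGroup.toGroup.of lift_cov2

theorem pi2_z2 : pi2 z2 = 1 := by
  unfold z2
  rw [map_wv]
  simp only [pi2_pc2]
  exact wv_sg_zw2

/-! ### perfectness -/

/-- the value of a word in a commutative group -/
theorem wv_count {A : Type*} [CommGroup A] (q : ℕ → A) (w : List ℕ) (hw : ∀ x ∈ w, x < 7) :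
    wv q w = ∏ i ∈ Finset.range 7, q i ^ w.count i := by
  unfold wv
  rw [Finset.prod_list_map_count]
  apply Finset.prod_subset
  · intro x hx
    rw [Finset.mem_range]
    exact hw x (List.mem_toFinset.mp hx)
  · intro x _ hx
    rw [List.count_eq_zero_of_not_mem (fun h => hx (List.mem_toFinset.mpr h)), pow_zero]

theorem perfect2 : commutator PC2 = ⊤ := by
  have hq : ∀ w ∈ covW2, wv (fun x => Abelianization.of (pc2 x)) w = 1 := by
    intro w hw
    rw [← map_wv, rel2_one w hw, map_one]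
  have hlt : ∀ w ∈ covW2, ∀ x ∈ w, x < 7 := by decide
  have hc : ∀ w ∈ covW2, ∏ i ∈ Finset.range 7, Abelianization.of (pc2 i) ^ w.count i = 1 := by
    intro w hw
    rw [← wv_count _ w (hlt w hw)]
    exact hq w hw
  have hsq : ∀ i < 7, i ≠ 3 → i ≠ 4 →
      Abelianization.of (pc2 i) * Abelianization.of (pc2 i) = 1 := by
    intro i hi h3 h4
    rw [← map_mul, pc2_sq_inv i hi h3 h4, map_one]
  have e01 : Abelianization.of (pc2 0) = Abelianization.of (pc2 1) := by
    apply odd_braid (hsq 0 (by norm_num) (by norm_num) (by norm_num))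
      (hsq 1 (by norm_num) (by norm_num) (by norm_num)) 2
    have := hq [0, 1, 0, 1, 0, 1, 0, 1, 0, 1] (by decide)
    simpa [wv, pow_succ, mul_assoc] using this
  have e12 : Abelianization.of (pc2 1) = Abelianization.of (pc2 2) := by
    apply odd_braid (hsq 1 (by norm_num) (by norm_num) (by norm_num))
      (hsq 2 (by norm_num) (by norm_num) (by norm_num)) 1
    have := hq [1, 2, 1, 2, 1, 2] (by decide)
    simpa [wv, pow_succ, mul_assoc] using this
  have e15 : Abelianization.of (pc2 1) = Abelianization.of (pc2 5) := by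
    apply odd_braid (hsq 1 (by norm_num) (by norm_num) (by norm_num))
      (hsq 5 (by norm_num) (by norm_num) (by norm_num)) 1
    have := hq [1, 5, 1, 5, 1, 5] (by decide)
    simpa [wv, pow_succ, mul_assoc] using this
  have e16 : Abelianization.of (pc2 1) = Abelianization.of (pc2 6) := by
    apply odd_braid (hsq 1 (by norm_num) (by norm_num) (by norm_num))
      (hsq 6 (by norm_num) (by norm_num) (by norm_num)) 1
    have := hq [1, 6, 1, 6, 1, 6] (by decide)
    simpa [wv, pow_succ, mul_assoc] using this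
  have h3_4 : Abelianization.of (pc2 3) ^ 4 = 1 := by
    have := hc [3, 3, 3, 3] (by decide)
    simpa [Finset.prod_range_succ] using this
  have h2_2 : Abelianization.of (pc2 2) ^ 2 = 1 := by
    rw [pow_two]
    exact hsq 2 (by norm_num) (by norm_num) (by norm_num)
  have h0 : Abelianization.of (pc2 0) = 1 := by
    have := hc [0, 3, 2, 3, 2, 3, 2, 3, 2] (by decide)
    simp only [Finset.prod_range_succ, Finset.prod_range_zero, one_mul] at this
    have c0 : List.count 0 [0, 3, 2, 3, 2, 3, 2, 3, 2] = 1 := by decide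
    have c1 : List.count 1 [0, 3, 2, 3, 2, 3, 2, 3, 2] = 0 := by decide
    have c2 : List.count 2 [0, 3, 2, 3, 2, 3, 2, 3, 2] = 4 := by decide
    have c3 : List.count 3 [0, 3, 2, 3, 2, 3, 2, 3, 2] = 4 := by decide
    have c4 : List.count 4 [0, 3, 2, 3, 2, 3, 2, 3, 2] = 0 := by decide
    have c5 : List.count 5 [0, 3, 2, 3, 2, 3, 2, 3, 2] = 0 := by decide
    have c6 : List.count 6 [0, 3, 2, 3, 2, 3, 2, 3, 2] = 0 := by decide
    have h2_4 : Abelianization.of (pc2 2) ^ 4 = 1 := by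
      rw [show (4 : ℕ) = 2 * 2 from rfl, pow_mul, h2_2, one_pow]
    rw [c0, c1, c2, c3, c4, c5, c6, h3_4, h2_4, pow_zero, pow_zero, pow_zero, pow_zero, pow_one,
      mul_one, mul_one, mul_one, mul_one, mul_one, mul_one] at this
    exact this
  have h1 : Abelianization.of (pc2 1) = 1 := e01 ▸ h0
  have h2 : Abelianization.of (pc2 2) = 1 := e12 ▸ h1
  have h5 : Abelianization.of (pc2 5) = 1 := e15 ▸ h1
  have h6 : Abelianization.of (pc2 6) = 1 := e16 ▸ h1
  have hw25 : Abelianization.of (pc2 3) ^ 30 * Abelianization.of (pc2 4) ^ 3 = 1 := by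
    have := hc covW2[25] (by decide)
    simp only [Finset.prod_range_succ, Finset.prod_range_zero, one_mul] at this
    have c3 : List.count 3 covW2[25] = 30 := by decide
    have c4 : List.count 4 covW2[25] = 3 := by decide
    rw [c3, c4, h0, h1, h2, h5, h6, one_pow, one_pow, one_pow, one_pow, one_pow, one_mul, one_mul,
      mul_one, mul_one] at this
    exact this
  have h34 : Abelianization.of (pc2 3) ^ 5 * Abelianization.of (pc2 4) ^ 3 = 1 := by
    have := hc [3, 4, 3, 4, 3, 4, 3, 3] (by decide)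
    simp only [Finset.prod_range_succ, Finset.prod_range_zero, one_mul] at this
    have c3 : List.count 3 [3, 4, 3, 4, 3, 4, 3, 3] = 5 := by decide
    have c4 : List.count 4 [3, 4, 3, 4, 3, 4, 3, 3] = 3 := by decide
    rw [c3, c4, h0, h1, h2, h5, h6, one_pow, one_pow, one_pow, one_pow, one_pow, one_mul, one_mul,
      mul_one, mul_one] at this
    exact this
  have h44 : Abelianization.of (pc2 4) ^ 2 * Abelianization.of (pc2 3) ^ 2 = 1 := by
    have := hq [4, 4, 3, 3] (by decide)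
    simpa [wv, pow_succ, mul_assoc] using this
  have a30 : Abelianization.of (pc2 3) ^ 30 = Abelianization.of (pc2 3) ^ 2 := by
    rw [show (30 : ℕ) = 4 * 7 + 2 from rfl, pow_add, pow_mul, h3_4, one_pow, one_mul]
  have a5 : Abelianization.of (pc2 3) ^ 5 = Abelianization.of (pc2 3) := by
    rw [show (5 : ℕ) = 4 + 1 from rfl, pow_add, h3_4, one_mul, pow_one]
  rw [a30] at hw25
  rw [a5] at h34
  have h3' : Abelianization.of (pc2 3) ^ 2 = Abelianization.of (pc2 3) :=
    mul_right_cancel (hw25.trans h34.symm)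
  have h3 : Abelianization.of (pc2 3) = 1 := by
    rw [pow_two] at h3'
    exact mul_left_cancel (h3'.trans (mul_one _).symm)
  have h4 : Abelianization.of (pc2 4) = 1 := by
    rw [h3, one_mul] at h34
    rw [h3, one_pow, mul_one] at h44
    rw [pow_succ, h44, one_mul] at h34
    exact h34
  rw [eq_top_iff]
  intro x _
  apply PresentedGroup.generated_by covRels2
  intro u
  rw [← Abelianization.ker_of, MonoidHom.mem_ker]
  have hu : (PresentedGroup.of u : PC2) = pc2 (idx u) := by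
    unfold pc2
    rw [Cfsg.Agent.Lib.H17.SuzGlue.gen_idx]
  rw [hu]
  cases u
  · exact h0
  · exact h1
  · exact h2
  · exact h3
  · exact h4
  · exact h5
  · exact h6

/-- **P2**. -/
theorem cover2_facts :
    Subgroup.closure {x : PC2 | ∃ i < 7, x = pc2 i} = ⊤ ∧
    z2 ∈ Subgroup.center PC2 ∧ z2 ^ 2 = 1 ∧
    (∃ π : PC2 →* G, (∀ i < 7, π (pc2 i) = sg i) ∧ π z2 = 1) ∧
    (∀ i < 7, pc2 i * pc2 i ∈ Subgroup.zpowers z2) ∧
    (∀ w ∈ Cfsg.Agent.Lib.H17.SuzGlue.relW, wv pc2 w ∈ Subgroup.zpowers z2) ∧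
    commutator PC2 = ⊤ := by
  refine ⟨gen2, z2_central, z2_sq, ⟨pi2, fun i _ => pi2_pc2 i, pi2_z2⟩, ?_, ?_, perfect2⟩
  · intro i hi
    by_cases h3 : i = 3
    · subst h3
      rw [← z2_eq]
      exact Subgroup.mem_zpowers z2
    · by_cases h4 : i = 4
      · subst h4
        rw [pc2_four_sq]
        exact Subgroup.mem_zpowers z2
      · rw [pc2_sq_inv i hi h3 h4]
        exact Subgroup.one_mem _
  · intro w hw
    rcases relW_cov w hw with h | h
    · rw [rel2_one w h]
      exact Subgroup.one_mem _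
    · have h1 := rel2_one _ h
      rw [wv_append] at h1
      have h2 : wv pc2 w = (wv pc2 zw2)⁻¹ := eq_inv_of_mul_eq_one_left h1
      rw [h2]
      exact Subgroup.inv_mem _ (Subgroup.mem_zpowers z2)

end Cfsg.Agent.Lib.H24.SuzM
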