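/-
S3701 piece CHAR3 (helper24): `S_{κ a} = S_a` for an even sign vector `κ`.
-/
import Mathlib
import Cfsg.Agent.Lib.H7.T27Defs

set_option autoImplicit false

namespace Cfsg.Agent.Lib.H24.T27

open Cfsg Cfsg.Agent.Lib.H7.K4 Cfsg.Agent.Lib.H3.H108 Cfsg.Agent.Lib.H7.T27
open scoped ComplexConjugate

theorem act_act (κ' κ a : V) : act κ' (act κ a) = act (act κ' κ) a := by
  unfold act
  refine Prod.ext ?_ (Prod.ext ?_ ?_) <;> simp only [mul_assoc]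

theorem Ksgn_closed : ∀ κ ∈ Ksgn, ∀ κ' ∈ Ksgn, act κ' κ ∈ Ksgn := by decide

theorem Ksgn_inj : ∀ κ ∈ Ksgn, ∀ κ1 ∈ Ksgn, ∀ κ2 ∈ Ksgn, act κ1 κ = act κ2 κ → κ1 = κ2 := by decide

theorem Ksgn_surj : ∀ κ ∈ Ksgn, ∀ κ'' ∈ Ksgn, ∃ κ' ∈ Ksgn, act κ' κ = κ'' := by decide

theorem Sfun_act (κ : V) (hκ : κ ∈ Ksgn) (a : V) : Sfun (act κ a) = Sfun a := by
  funext s
  unfold Sfun
  split_ifs with h
  · apply Finset.sum_bij (fun κ' _ => act κ' κ)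
    · intro κ' hκ'; exact Ksgn_closed κ hκ κ' hκ'
    · intro κ1 h1 κ2 h2 heq; exact Ksgn_inj κ hκ κ1 h1 κ2 h2 heq
    · intro κ'' hκ''
      obtain ⟨κ', hκ', he⟩ := Ksgn_surj κ hκ κ'' hκ''
      exact ⟨κ', hκ', he⟩
    · intro κ' hκ'
      rw [act_act]
  · rfl

end Cfsg.Agent.Lib.H24.T27
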