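import Mathlib
import Cfsg.Agent.Lib.H14.ThetaDefs

/-!
# S1632, pieces SUMM2 and SUMM3 (architect helper14): summability of the norms of the complex Gaussian terms
-/

set_option autoImplicit false

namespace Cfsg.Agent.Lib.H24.Theta

open Complex Matrix
open Cfsg.Agent.Lib.H14.Theta

/-- on integer vectors the complex quadratic form is the real one -/
theorem qf_zc_eq {n : ℕ} (A : Matrix (Fin n) (Fin n) ℝ) (x : Fin n → ℤ) :
    qf A (zc x) = ((qfR A (zr x) : ℝ) : ℂ) := by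
  unfold qf qfR zc zr
  push_cast
  rfl

/-- **SUMM2**. -/
theorem summable_gterm {n : ℕ}
    (h1 : ∀ (A : Matrix (Fin n) (Fin n) ℝ), IsPD A → ∀ σ : ℝ, 0 < σ → ∀ β : Fin n → ℝ,
      Summable (fun x : Fin n → ℤ =>
        Real.exp (-Real.pi * σ * qfR A (zr x) + 2 * Real.pi * ∑ i, β i * (x i : ℝ))))
    (A : Matrix (Fin n) (Fin n) ℝ) (hA : IsPD A) (s : ℂ) (hs : 0 < s.re) (u : Fin n → ℂ) :
    Summable (fun x : Fin n → ℤ => ‖gterm A s u x‖) := by
  refine (h1 A hA s.re hs (fun i => (u i).re)).congr (fun x => ?_)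
  unfold gterm
  rw [Complex.norm_exp, qf_zc_eq]
  congr 1
  have e1 : (-(Real.pi : ℂ) * s * ((qfR A (zr x) : ℝ) : ℂ)).re = -Real.pi * s.re * qfR A (zr x) := by
    have : -(Real.pi : ℂ) * s * ((qfR A (zr x) : ℝ) : ℂ) =
        ((-Real.pi * qfR A (zr x) : ℝ) : ℂ) * s := by push_cast; ring
    rw [this, Complex.re_ofReal_mul]; ring
  have e2 : (2 * (Real.pi : ℂ) * ∑ i, u i * (x i : ℂ)).re = 2 * Real.pi * ∑ i, (u i).re * (x i : ℝ) := by
    have : (2 * (Real.pi : ℂ) * ∑ i, u i * (x i : ℂ)) = ((2 * Real.pi : ℝ) : ℂ) * ∑ i, u i * (x i : ℂ) := by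
      push_cast; ring
    rw [this, Complex.re_ofReal_mul, Complex.re_sum]
    congr 1
    refine Finset.sum_congr rfl (fun i _ => ?_)
    have : u i * (x i : ℂ) = (((x i : ℤ) : ℝ) : ℂ) * u i := by push_cast; ring
    rw [this, Complex.re_ofReal_mul]; ring
  rw [Complex.add_re, e1, e2]

end Cfsg.Agent.Lib.H24.Theta
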