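import Mathlib

/-!
# BB-IRRA (helper24, for helper15's S2983 farm-out)

For odd `n = 2m+1 ≥ 3` the even-weight submodule of `𝔽₂ⁿ` is irreducible under the alternating group
(as an additive group).
-/

set_option autoImplicit false

namespace Cfsg.Agent.Lib.H24.BB

/-- The vector `e_a + e_b`. -/
def bbPair {n : ℕ} (a b : Fin n) : Fin n → ZMod 2 := Pi.single a 1 + Pi.single b 1

theorem bbPair_comm {n : ℕ} (a b : Fin n) : bbPair a b = bbPair b a := by
  unfold bbPair
  rw [add_comm]

theorem bbPair_perm {n : ℕ} (σ : Equiv.Perm (Fin n)) (a b : Fin n) :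
    (fun x => bbPair a b (σ⁻¹ x)) = bbPair (σ a) (σ b) := by
  funext x
  unfold bbPair
  simp only [Pi.add_apply, Pi.single_apply, Equiv.Perm.inv_eq_iff_eq]

theorem zmod2_trichotomy (a b c : ZMod 2) (h : a ≠ b) : c = a ∨ c = b := by
  revert a b c
  decide

theorem zmod2_add_of_ne (a b : ZMod 2) (h : a ≠ b) : a + b = 1 := by
  revert a b
  decide

theorem zmod2_add_self (a : ZMod 2) : a + a = 0 := by
  revert a
  decide

/-- Key step: from `v ∈ U` with `v i ≠ v j`, `v j = v k` one gets `e_i + e_j ∈ U`. -/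
theorem bbPair_mem_of {n : ℕ} (U : AddSubgroup (Fin n → ZMod 2))
    (hU : ∀ σ ∈ alternatingGroup (Fin n), ∀ v ∈ U, (fun i => v (σ⁻¹ i)) ∈ U)
    (v : Fin n → ZMod 2) (hv : v ∈ U) (i j k : Fin n) (hij : i ≠ j) (hki : k ≠ i) (hkj : k ≠ j)
    (hne : v i ≠ v j) (heq : v j = v k) : bbPair i j ∈ U := by
  classical
  -- σ = swap i j * swap j k is even
  have hσ : Equiv.swap i j * Equiv.swap j k ∈ alternatingGroup (Fin n) := by
    rw [Equiv.Perm.mem_alternatingGroup, map_mul, Equiv.Perm.sign_swap hij,
      Equiv.Perm.sign_swap (Ne.symm hkj)]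
    rfl
  have h1 := hU _ hσ v hv
  have h2 : (fun x => v ((Equiv.swap i j * Equiv.swap j k)⁻¹ x)) = fun x => v (Equiv.swap i j x) := by
    funext x
    rw [mul_inv_rev, Equiv.swap_inv, Equiv.swap_inv, Equiv.Perm.mul_apply]
    -- v (swap j k y) = v y
    set y := Equiv.swap i j x with hy
    by_cases h3 : y = j
    · rw [h3, Equiv.swap_apply_left, ← heq]
    · by_cases h4 : y = k
      · rw [h4, Equiv.swap_apply_right, heq]
      · rw [Equiv.swap_apply_of_ne_of_ne h3 h4]
  rw [h2] at h1
  have h5 : bbPair i j = v + fun x => v (Equiv.swap i j x) := by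
    funext x
    unfold bbPair
    simp only [Pi.add_apply, Pi.single_apply]
    by_cases hxi : x = i
    · subst hxi
      rw [Equiv.swap_apply_left, if_pos rfl, if_neg hij, add_zero, zmod2_add_of_ne _ _ hne]
    · by_cases hxj : x = j
      · subst hxj
        rw [Equiv.swap_apply_right, if_neg hxi, if_pos rfl, zero_add, add_comm,
          zmod2_add_of_ne _ _ hne]
      · rw [Equiv.swap_apply_of_ne_of_ne hxi hxj, if_neg hxi, if_neg hxj, add_zero,
          zmod2_add_self]
  rw [h5]
  exact U.add_mem hv h1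

/-- Even permutations are transitive on unordered pairs. -/
theorem exists_alt_pair {n : ℕ} (i j a b : Fin n) (hij : i ≠ j) (hab : a ≠ b) :
    ∃ σ ∈ alternatingGroup (Fin n), bbPair (σ i) (σ j) = bbPair a b := by
  classical
  -- τ with τ i = a, τ j = b
  obtain ⟨τ, hτi, hτj⟩ : ∃ τ : Equiv.Perm (Fin n), τ i = a ∧ τ j = b := by
    set j' := Equiv.swap i a j with hj'
    have hj'a : j' ≠ a := by
      intro h
      have h1 : Equiv.swap i a j = Equiv.swap i a i := by
        rw [Equiv.swap_apply_left]; exact h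
      exact hij ((Equiv.swap i a).injective h1).symm
    refine ⟨Equiv.swap j' b * Equiv.swap i a, ?_, ?_⟩
    · rw [Equiv.Perm.mul_apply, Equiv.swap_apply_left,
        Equiv.swap_apply_of_ne_of_ne (Ne.symm hj'a) hab]
    · rw [Equiv.Perm.mul_apply, ← hj', Equiv.swap_apply_left]
  rcases Int.units_eq_one_or (Equiv.Perm.sign τ) with h | h
  · exact ⟨τ, Equiv.Perm.mem_alternatingGroup.2 h, by rw [hτi, hτj]⟩
  · refine ⟨τ * Equiv.swap i j, ?_, ?_⟩
    · rw [Equiv.Perm.mem_alternatingGroup, map_mul, h, Equiv.Perm.sign_swap hij]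
      rfl
    · rw [Equiv.Perm.mul_apply, Equiv.Perm.mul_apply, Equiv.swap_apply_left,
        Equiv.swap_apply_right, hτi, hτj, bbPair_comm]

theorem alt_evenWeight_irreducible (m : ℕ) (hm : 1 ≤ m) (U : AddSubgroup (Fin (2 * m + 1) → ZMod 2))
    (hU : ∀ σ ∈ alternatingGroup (Fin (2 * m + 1)), ∀ v ∈ U, (fun i => v (σ⁻¹ i)) ∈ U)
    (hev : ∀ v ∈ U, ∑ i, v i = 0) (hne : U ≠ ⊥) :
    ∀ v : Fin (2 * m + 1) → ZMod 2, ∑ i, v i = 0 → v ∈ U := by
  classical
  -- a nonzero vector of U
  obtain ⟨v, hvU, hv0⟩ : ∃ v ∈ U, v ≠ 0 := by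
    by_contra hcon
    push Not at hcon
    apply hne
    rw [eq_bot_iff]
    intro x hx
    rw [AddSubgroup.mem_bot]
    exact hcon x hx
  -- v is not constant
  obtain ⟨i, j, hvij⟩ : ∃ i j, v i ≠ v j := by
    by_contra hcon
    push Not at hcon
    have hconst : ∀ i, v i = v 0 := fun i => hcon i 0
    have hsum := hev v hvU
    rw [Finset.sum_congr rfl (fun i _ => hconst i), Finset.sum_const, Finset.card_univ,
      Fintype.card_fin, nsmul_eq_mul] at hsum
    have h2 : ((2 * m + 1 : ℕ) : ZMod 2) = 1 := by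
      push_cast
      have : (2 : ZMod 2) = 0 := by decide
      rw [this, zero_mul, zero_add]
    rw [h2, one_mul] at hsum
    apply hv0
    funext x
    rw [hconst x, hsum]
    rfl
  have hij : i ≠ j := by
    intro h
    exact hvij (by rw [h])
  -- a third point
  obtain ⟨k, hki, hkj⟩ : ∃ k : Fin (2 * m + 1), k ≠ i ∧ k ≠ j := by
    by_contra hcon
    push Not at hcon
    have h1 : (Finset.univ : Finset (Fin (2 * m + 1))) ⊆ {i, j} := by
      intro k _
      rw [Finset.mem_insert, Finset.mem_singleton]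
      by_cases h : k = i
      · exact Or.inl h
      · exact Or.inr (hcon k h)
    have h2 := Finset.card_le_card h1
    rw [Finset.card_univ, Fintype.card_fin] at h2
    have h3 : ({i, j} : Finset (Fin (2 * m + 1))).card ≤ 2 := Finset.card_le_two
    omega
  -- some pair vector is in U
  have hpair : bbPair i j ∈ U := by
    rcases zmod2_trichotomy (v i) (v j) (v k) hvij with h | h
    · have := bbPair_mem_of U hU v hvU j i k (Ne.symm hij) hkj hki (Ne.symm hvij) h.symm
      rwa [bbPair_comm] at this
    · exact bbPair_mem_of U hU v hvU i j k hij hki hkj hvij h.symm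
  -- all pair vectors are in U
  have hall : ∀ a b : Fin (2 * m + 1), a ≠ b → bbPair a b ∈ U := by
    intro a b hab
    obtain ⟨σ, hσ, hσe⟩ := exists_alt_pair i j a b hij hab
    have h1 := hU σ hσ _ hpair
    rw [bbPair_perm, hσe] at h1
    exact h1
  -- every even vector is a sum of pair vectors
  intro w hw
  have hterm : ∀ a : Fin (2 * m + 1), w a • bbPair a 0 ∈ U := by
    intro a
    have h01 : w a = 0 ∨ w a = 1 := by
      generalize w a = c
      revert c
      decide
    rcases h01 with h | h
    · rw [h, zero_smul]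
      exact U.zero_mem
    · rw [h, one_smul]
      by_cases ha : a = 0
      · rw [ha]
        have : bbPair (0 : Fin (2 * m + 1)) 0 = 0 := by
          funext x
          unfold bbPair
          simp only [Pi.add_apply, Pi.zero_apply]
          exact zmod2_add_self _
        rw [this]
        exact U.zero_mem
      · exact hall a 0 ha
  have hsum : w = ∑ a, w a • bbPair a 0 := by
    funext x
    rw [Finset.sum_apply]
    unfold bbPair
    simp only [Pi.smul_apply, Pi.add_apply, smul_eq_mul, mul_add, Finset.sum_add_distrib,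
      Pi.single_apply, mul_ite, mul_one, mul_zero]
    rw [Finset.sum_ite_eq Finset.univ x (fun a => w a), if_pos (Finset.mem_univ _)]
    by_cases hx : x = 0
    · simp only [hx, if_true]
      rw [hw, add_zero]
    · simp only [hx, if_false]
      rw [Finset.sum_const_zero, add_zero]
  rw [hsum]
  exact U.sum_mem fun a _ => hterm a

end Cfsg.Agent.Lib.H24.BB
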