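import Cfsg.Agent.Lib.H15.DXDefs
import Cfsg.Agent.Lib.H23.CenterIndex
import Cfsg.Agent.Lib.H24.CharSchur
import Cfsg.Agent.Lib.H24.CharKer

/-!
# S4467 piece CYCZ (helper24): a finite group with a faithful irreducible character has cyclic
centre.
-/

set_option autoImplicit false

namespace Cfsg.Agent.Lib.H24.DX

open Cfsg Cfsg.Agent.Lib.H15.DX Cfsg.Agent.Lib.L0 Cfsg.Agent.Lib.H24

universe u

/-- CYCZ -/
theorem isCyclic_center_of_faithful_irr {G : Type u} [Group G] [Finite G] (χ : G → ℂ)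
    (hχ : IsIrrCharacter G χ) (hf : Faithful χ) : IsCyclic (Subgroup.center G) := by
  classical
  obtain ⟨n, ρ, hρ, hχρ⟩ := irr_exists_rep (⟨χ, hχ⟩ : IrrCharacter G)
  have : ρ.IsIrreducible := hρ
  have hnt : Nontrivial (Fin n → ℂ) := nontrivial_of_irreducible ρ hρ
  obtain ⟨v, hv⟩ := exists_ne (0 : Fin n → ℂ)
  have hsc : ∀ z : Subgroup.center G, ∃ c : ℂ, ρ (z : G) = c • 1 :=
    fun z => Cfsg.Agent.Lib.H23.exists_smul_of_mem_center ρ z.2
  choose c hc using hsc
  have hcv : ∀ z : Subgroup.center G, ρ (z : G) v = c z • v := by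
    intro z
    rw [hc z]
    simp
  have hmul : ∀ z w : Subgroup.center G, c (z * w) = c z * c w := by
    intro z w
    have h1 : ρ ((z * w : Subgroup.center G) : G) v = ρ (z : G) (ρ (w : G) v) := by
      rw [Subgroup.coe_mul, map_mul]
      rfl
    rw [hcv, hcv w, map_smul, hcv z, smul_smul, mul_comm (c w)] at h1
    exact smul_left_injective ℂ hv h1
  have hone : c 1 = 1 := by
    have h1 : ρ ((1 : Subgroup.center G) : G) v = v := by
      rw [Subgroup.coe_one, map_one]
      rfl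
    rw [hcv] at h1
    have h2 : c 1 • v = (1 : ℂ) • v := by rw [h1, one_smul]
    exact smul_left_injective ℂ hv h2
  let f : Subgroup.center G →* ℂ := ⟨⟨c, hone⟩, hmul⟩
  apply isCyclic_of_injective_ringHom f
  intro z w hzw
  have hzw' : c z = c w := hzw
  have h1 : ρ ((z : G) * (w : G)⁻¹) = 1 := by
    have h2 : ρ (z : G) = ρ (w : G) := by rw [hc z, hc w, hzw']
    rw [map_mul, h2, ← map_mul, mul_inv_cancel, map_one]
  have h3 : χ ((z : G) * (w : G)⁻¹) = χ 1 := by
    have hχρ' : ρ.character = χ := hχρ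
    rw [← hχρ']
    exact (char_eq_char_one_iff ρ _).mpr h1
  have h4 := hf _ h3
  apply Subtype.ext
  exact mul_inv_eq_one.mp h4

end Cfsg.Agent.Lib.H24.DX
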