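import Mathlib
import Cfsg.Agent.Lib.H24.CharSchur
import Cfsg.Agent.Lib.H24.CharBasic
import Cfsg.Agent.Lib.H24.CharComplete
import Cfsg.Agent.Lib.L0.CharEquiv

/-!
# Schur orthogonality of matrix coefficients (helper24's library)

* `sum_rep_inv_comp` : `∑ g, ρ g⁻¹ ∘ L ∘ ρ g = (|G| tr L / n) • id` for irreducible `ρ`.
* `sum_entry_mul_entry` : orthogonality of the matrix coefficients of an irreducible representation.
* `sum_trace_mul_trace` : `∑ g, tr (A R(g)) tr (R(g⁻¹) B) = (|G|/n) tr (A B)`.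
* `sum_coset_norm` : if `λ ∈ Irr(D)` restricts irreducibly to `Z ≤ D` then
  `∑ z ∈ Z, |λ(g z)|² = |Z|` for every `g ∈ D`.
-/

set_option autoImplicit false

namespace Cfsg.Agent.Lib.H24

open scoped ComplexConjugate
open Matrix Cfsg Cfsg.Agent.Lib.L0

section avg

variable {G : Type*} [Group G] [Fintype G] {V : Type*} [AddCommGroup V] [Module ℂ V]
  [FiniteDimensional ℂ V]

/-- Schur averaging. -/
theorem sum_rep_inv_comp (ρ : Representation ℂ G V) (hρ : ρ.IsIrreducible) (L : V →ₗ[ℂ] V) :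
    ∑ g : G, ρ g⁻¹ * L * ρ g =
      ((Nat.card G : ℂ) * LinearMap.trace ℂ V L / (Module.finrank ℂ V : ℂ)) • LinearMap.id := by
  have hcomm : ∀ k : G, (∑ g : G, ρ g⁻¹ * L * ρ g) ∘ₗ ρ k = ρ k ∘ₗ (∑ g : G, ρ g⁻¹ * L * ρ g) := by
    intro k
    show (∑ g : G, ρ g⁻¹ * L * ρ g) * ρ k = ρ k * (∑ g : G, ρ g⁻¹ * L * ρ g)
    rw [Finset.sum_mul, Finset.mul_sum]
    refine Fintype.sum_equiv (Equiv.mulRight k) _ _ (fun g => ?_)
    simp only [Equiv.coe_mulRight]
    rw [mul_assoc, ← map_mul, ← mul_assoc, ← mul_assoc, ← map_mul]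
    congr 3
    group
  have h := schur_scalar ρ hρ _ hcomm
  rw [map_sum] at h
  have htr : ∑ g : G, LinearMap.trace ℂ V (ρ g⁻¹ * L * ρ g) =
      (Nat.card G : ℂ) * LinearMap.trace ℂ V L := by
    have : ∀ g : G, LinearMap.trace ℂ V (ρ g⁻¹ * L * ρ g) = LinearMap.trace ℂ V L := by
      intro g
      rw [LinearMap.trace_mul_comm, ← mul_assoc, ← map_mul, mul_inv_cancel, map_one, one_mul]
    simp only [this, Finset.sum_const, Finset.card_univ, nsmul_eq_mul, Nat.card_eq_fintype_card]
  rw [htr] at h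
  exact h

end avg

section mat

variable {G : Type*} [Group G] [Fintype G] {n : ℕ}

theorem sum_repMat_inv_mul (ρ : Representation ℂ G (Fin n → ℂ)) (hρ : ρ.IsIrreducible)
    (L : Matrix (Fin n) (Fin n) ℂ) :
    ∑ g : G, repMat ρ g⁻¹ * L * repMat ρ g = ((Nat.card G : ℂ) * L.trace / (n : ℂ)) • 1 := by
  have h := sum_rep_inv_comp ρ hρ (Matrix.toLin' L)
  have h2 := congrArg LinearMap.toMatrix' h
  rw [map_sum] at h2
  have h3 : ∀ g : G, LinearMap.toMatrix' (ρ g⁻¹ * Matrix.toLin' L * ρ g) =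
      repMat ρ g⁻¹ * L * repMat ρ g := by
    intro g
    rw [Module.End.mul_eq_comp, Module.End.mul_eq_comp, LinearMap.toMatrix'_comp,
      LinearMap.toMatrix'_comp, LinearMap.toMatrix'_toLin']
    rfl
  rw [Finset.sum_congr rfl (fun g _ => h3 g)] at h2
  rw [h2, map_smul, LinearMap.toMatrix'_id, Matrix.trace_toLin'_eq]
  simp

/-- Schur orthogonality for matrix coefficients. -/
theorem sum_entry_mul_entry (ρ : Representation ℂ G (Fin n → ℂ)) (hρ : ρ.IsIrreducible)
    (i j k l : Fin n) :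
    ∑ g : G, repMat ρ g⁻¹ i j * repMat ρ g k l =
      if j = k ∧ i = l then (Nat.card G : ℂ) / (n : ℂ) else 0 := by
  have h := sum_repMat_inv_mul ρ hρ (Matrix.single j k (1 : ℂ))
  have h2 := congrFun (congrFun h i) l
  rw [Matrix.sum_apply] at h2
  have h3 : ∀ g : G, (repMat ρ g⁻¹ * Matrix.single j k (1 : ℂ) * repMat ρ g) i l =
      repMat ρ g⁻¹ i j * repMat ρ g k l := by
    intro g
    rw [Matrix.mul_apply]
    have h4 : ∀ x, (repMat ρ g⁻¹ * Matrix.single j k (1 : ℂ)) i x =
        if k = x then repMat ρ g⁻¹ i j else 0 := by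
      intro x
      rw [Matrix.mul_apply]
      simp only [Matrix.single_apply]
      by_cases hkx : k = x
      · simp [hkx]
      · simp [hkx]
    simp only [h4, ite_mul, zero_mul, Finset.sum_ite_eq, Finset.mem_univ, if_true]
  rw [Finset.sum_congr rfl (fun g _ => h3 g)] at h2
  rw [h2, Matrix.smul_apply]
  by_cases hjk : j = k
  · subst hjk
    rw [Matrix.trace_single_eq_same]
    by_cases hil : i = l
    · subst hil
      rw [if_pos ⟨rfl, rfl⟩, Matrix.one_apply_eq]
      simp
    · rw [if_neg (fun h => hil h.2), Matrix.one_apply_ne hil]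
      simp
  · rw [Matrix.trace_single_eq_of_ne _ _ _ hjk, if_neg (fun h => hjk h.1)]
    simp

/-- `∑ g, tr (A R(g)) • R(g⁻¹) = (|G|/n) • A`. -/
theorem sum_trace_smul (ρ : Representation ℂ G (Fin n → ℂ)) (hρ : ρ.IsIrreducible)
    (A : Matrix (Fin n) (Fin n) ℂ) :
    ∑ g : G, (A * repMat ρ g).trace • repMat ρ g⁻¹ = ((Nat.card G : ℂ) / (n : ℂ)) • A := by
  ext c d
  rw [Matrix.sum_apply, Matrix.smul_apply]
  simp only [Matrix.smul_apply, Matrix.trace, Matrix.diag_apply, Matrix.mul_apply, smul_eq_mul]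
  simp only [Finset.sum_mul]
  rw [Finset.sum_comm]
  have h1 : ∀ a : Fin n, ∑ g : G, ∑ b : Fin n, A a b * repMat ρ g b a * repMat ρ g⁻¹ c d =
      if c = a then (Nat.card G : ℂ) / (n : ℂ) * A a d else 0 := by
    intro a
    rw [Finset.sum_comm]
    have h2 : ∀ b : Fin n, ∑ g : G, A a b * repMat ρ g b a * repMat ρ g⁻¹ c d =
        A a b * (if d = b ∧ c = a then (Nat.card G : ℂ) / (n : ℂ) else 0) := by
      intro b
      rw [← sum_entry_mul_entry ρ hρ c d b a, Finset.mul_sum]
      refine Finset.sum_congr rfl (fun g _ => ?_)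
      ring
    rw [Finset.sum_congr rfl (fun b _ => h2 b)]
    by_cases hca : c = a
    · subst hca
      simp only [and_true, if_true]
      rw [Finset.sum_eq_single d]
      · rw [if_pos rfl]; ring
      · intro b _ hb
        rw [if_neg (fun h => hb h.symm), mul_zero]
      · intro h; exact absurd (Finset.mem_univ _) h
    · simp only [hca, and_false, if_false, mul_zero, Finset.sum_const_zero]
  rw [Finset.sum_congr rfl (fun a _ => h1 a)]
  simp

/-- Schur orthogonality, trace form. -/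
theorem sum_trace_mul_trace (ρ : Representation ℂ G (Fin n → ℂ)) (hρ : ρ.IsIrreducible)
    (A B : Matrix (Fin n) (Fin n) ℂ) :
    ∑ g : G, (A * repMat ρ g).trace * (repMat ρ g⁻¹ * B).trace =
      (Nat.card G : ℂ) / (n : ℂ) * (A * B).trace := by
  have h := congrArg (fun M : Matrix (Fin n) (Fin n) ℂ => (M * B).trace) (sum_trace_smul ρ hρ A)
  simp only [Finset.sum_mul, Matrix.trace_sum, Matrix.smul_mul, Matrix.trace_smul,
    smul_eq_mul] at h
  exact h

end mat

section ineq

variable {G : Type*} [Group G] [Fintype G] {V W : Type*} [AddCommGroup V] [Module ℂ V]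
  [AddCommGroup W] [Module ℂ W] [FiniteDimensional ℂ V] [FiniteDimensional ℂ W]

/-- Schur: averaging a linear map between inequivalent irreducible representations gives zero. -/
theorem sum_rep_inv_comp_of_ne (ρ : Representation ℂ G V) (σ : Representation ℂ G W)
    (hρ : ρ.IsIrreducible) (hσ : σ.IsIrreducible) (hne : ρ.character ≠ σ.character)
    (L : W →ₗ[ℂ] V) :
    ∑ g : G, (ρ g⁻¹ ∘ₗ L ∘ₗ σ g) = 0 := by
  have := hρ
  have := hσ
  obtain ⟨T, hT⟩ : ∃ T : W →ₗ[ℂ] V, T = ∑ g : G, (ρ g⁻¹ ∘ₗ L ∘ₗ σ g) := ⟨_, rfl⟩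
  have hcomm : ∀ k : G, T ∘ₗ σ k = ρ k ∘ₗ T := by
    intro k
    rw [hT]
    ext w
    simp only [LinearMap.comp_apply, LinearMap.sum_apply, map_sum]
    refine Fintype.sum_equiv (Equiv.mulRight k) _ _ (fun g => ?_)
    simp only [Equiv.coe_mulRight, map_mul, Module.End.mul_apply]
    rw [← Module.End.mul_apply (ρ k), ← map_mul]
    have hk : k * (g * k)⁻¹ = g⁻¹ := by group
    rw [hk]
  let T' : Representation.IntertwiningMap σ ρ := ⟨T, hcomm⟩
  rcases Representation.IsIrreducible.bijective_or_eq_zero T' with hbij | h0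
  · exfalso
    apply hne
    have hbij' : Function.Bijective T := hbij
    let e : W ≃ₗ[ℂ] V := LinearEquiv.ofBijective T hbij'
    funext k
    have h1 : ρ k = e.conj (σ k) := by
      ext v
      rw [LinearEquiv.conj_apply_apply]
      have h2 := congrArg (fun f : W →ₗ[ℂ] V => f (e.symm v)) (hcomm k)
      simp only [LinearMap.comp_apply] at h2
      have h3 : T (e.symm v) = v := e.apply_symm_apply v
      rw [h3] at h2
      exact h2.symm
    show LinearMap.trace ℂ V (ρ k) = LinearMap.trace ℂ W (σ k)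
    rw [h1, LinearMap.trace_conj']
  · rw [← hT]
    exact congrArg Representation.IntertwiningMap.toLinearMap h0

end ineq

section mat2

variable {G : Type*} [Group G] [Fintype G] {m m' : ℕ}

/-- Schur orthogonality for the matrix coefficients of two inequivalent irreducible
representations. -/
theorem sum_entry_mul_entry_of_ne (ρ : Representation ℂ G (Fin m → ℂ))
    (σ : Representation ℂ G (Fin m' → ℂ)) (hρ : ρ.IsIrreducible) (hσ : σ.IsIrreducible)
    (hne : ρ.character ≠ σ.character) (i j : Fin m) (k l : Fin m') :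
    ∑ g : G, repMat ρ g⁻¹ i j * repMat σ g k l = 0 := by
  have h := sum_rep_inv_comp_of_ne ρ σ hρ hσ hne
    (Matrix.toLin' (Matrix.single j k (1 : ℂ) : Matrix (Fin m) (Fin m') ℂ))
  have h2 := congrArg LinearMap.toMatrix' h
  rw [map_sum, map_zero] at h2
  have h3 : ∀ g : G, LinearMap.toMatrix' (ρ g⁻¹ ∘ₗ
      Matrix.toLin' (Matrix.single j k (1 : ℂ) : Matrix (Fin m) (Fin m') ℂ) ∘ₗ σ g) =
      repMat ρ g⁻¹ * (Matrix.single j k (1 : ℂ) : Matrix (Fin m) (Fin m') ℂ) * repMat σ g := by
    intro g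
    rw [LinearMap.toMatrix'_comp, LinearMap.toMatrix'_comp, LinearMap.toMatrix'_toLin',
      Matrix.mul_assoc]
    rfl
  rw [Finset.sum_congr rfl (fun g _ => h3 g)] at h2
  have h4 := congrFun (congrFun h2 i) l
  rw [Matrix.sum_apply, Matrix.zero_apply] at h4
  rw [← h4]
  refine Finset.sum_congr rfl (fun g _ => ?_)
  rw [Matrix.mul_apply]
  have h5 : ∀ x, (repMat ρ g⁻¹ * (Matrix.single j k (1 : ℂ) : Matrix (Fin m) (Fin m') ℂ)) i x =
      if k = x then repMat ρ g⁻¹ i j else 0 := by
    intro x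
    rw [Matrix.mul_apply]
    simp only [Matrix.single_apply]
    by_cases hkx : k = x
    · simp [hkx]
    · simp [hkx]
  simp only [h5, ite_mul, zero_mul, Finset.sum_ite_eq, Finset.mem_univ, if_true]

end mat2

section dual

variable {G : Type*} [Group G] [Fintype G] {d : ℕ}

/-- A representation whose character is an irreducible character is irreducible. -/
theorem isIrreducible_of_irr_char (ρ : Representation ℂ G (Fin d → ℂ))
    (h : IsIrrCharacter G ρ.character) : ρ.IsIrreducible := by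
  obtain ⟨m, τ, hτ, hτc⟩ := h
  obtain ⟨e⟩ := equiv_of_char_eq τ ρ hτc
  exact isIrreducible_of_equiv e hτ

/-- The dual (contragredient) of a matrix representation. -/
noncomputable def dualRep (ρ : Representation ℂ G (Fin d → ℂ)) :
    Representation ℂ G (Fin d → ℂ) where
  toFun g := Matrix.toLin' (repMat ρ g⁻¹)ᵀ
  map_one' := by
    rw [inv_one, repMat_one, Matrix.transpose_one, Matrix.toLin'_one]
    rfl
  map_mul' g h := by
    rw [_root_.mul_inv_rev, repMat_mul, Matrix.transpose_mul, Matrix.toLin'_mul]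
    rfl

theorem repMat_dualRep (ρ : Representation ℂ G (Fin d → ℂ)) (g : G) :
    repMat (dualRep ρ) g = (repMat ρ g⁻¹)ᵀ := by
  show LinearMap.toMatrix' (Matrix.toLin' (repMat ρ g⁻¹)ᵀ) = _
  rw [LinearMap.toMatrix'_toLin']

theorem character_dualRep (ρ : Representation ℂ G (Fin d → ℂ)) (g : G) :
    (dualRep ρ).character g = ρ.character g⁻¹ := by
  rw [← trace_repMat, repMat_dualRep, Matrix.trace_transpose, trace_repMat]

/-- Orthogonality of matrix coefficients, same-sign form: if `ρ` is not equivalent to the dual of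
`σ`, then `∑ g, ρ(g)_{ij} σ(g)_{kl} = 0`. -/
theorem sum_entry_mul_entry_same {m m' : ℕ} (ρ : Representation ℂ G (Fin m → ℂ))
    (σ : Representation ℂ G (Fin m' → ℂ)) (hρ : ρ.IsIrreducible)
    (hσd : IsIrrCharacter G (fun g => σ.character g⁻¹))
    (hne : ρ.character ≠ fun g => σ.character g⁻¹) (i j : Fin m) (k l : Fin m') :
    ∑ g : G, repMat ρ g i j * repMat σ g k l = 0 := by
  have hchar : (dualRep σ).character = fun g => σ.character g⁻¹ :=
    funext (character_dualRep σ)
  have hσ' : (dualRep σ).IsIrreducible := isIrreducible_of_irr_char _ (by rw [hchar]; exact hσd)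
  have h := sum_entry_mul_entry_of_ne (dualRep σ) ρ hσ' hρ (by rw [hchar]; exact hne.symm) l k i j
  rw [← h]
  refine Finset.sum_congr rfl (fun g _ => ?_)
  rw [repMat_dualRep, inv_inv, Matrix.transpose_apply, mul_comm]

/-- Trace form. -/
theorem sum_trace_mul_mul_eq_zero (ρ σ : Representation ℂ G (Fin d → ℂ)) (hρ : ρ.IsIrreducible)
    (hσd : IsIrrCharacter G (fun g => σ.character g⁻¹))
    (hne : ρ.character ≠ fun g => σ.character g⁻¹) (A : Matrix (Fin d) (Fin d) ℂ) :
    ∑ g : G, (A * repMat ρ g * repMat σ g).trace = 0 := by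
  simp only [Matrix.trace, Matrix.diag_apply, Matrix.mul_apply, Finset.sum_mul]
  rw [Finset.sum_comm]
  refine Finset.sum_eq_zero (fun a _ => ?_)
  rw [Finset.sum_comm]
  refine Finset.sum_eq_zero (fun c _ => ?_)
  rw [Finset.sum_comm]
  refine Finset.sum_eq_zero (fun b _ => ?_)
  have h := sum_entry_mul_entry_same ρ σ hρ hσd hne b c c a
  calc ∑ g : G, A a b * repMat ρ g b c * repMat σ g c a
      = A a b * ∑ g : G, repMat ρ g b c * repMat σ g c a := by
        rw [Finset.mul_sum]
        exact Finset.sum_congr rfl (fun g _ => by ring)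
    _ = 0 := by rw [h, mul_zero]

end dual

section coset

variable {D : Type*} [Group D] [Fintype D]

/-- A representation whose restriction to a subgroup has an irreducible character restricts
irreducibly. -/
theorem isIrreducible_restrict_of_irr_char (Z : Subgroup D) {n : ℕ}
    (ρ : Representation ℂ D (Fin n → ℂ))
    (hres : IsIrrCharacter Z (fun z : Z => ρ.character z)) :
    Representation.IsIrreducible
      (MonoidHom.comp ρ Z.subtype : Representation ℂ Z (Fin n → ℂ)) := by
  obtain ⟨m, τ, hτ, hτc⟩ := hres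
  have hchar : τ.character = Representation.character
      (MonoidHom.comp ρ Z.subtype : Representation ℂ Z (Fin n → ℂ)) := by
    rw [hτc]
    funext z
    rfl
  obtain ⟨e⟩ := equiv_of_char_eq τ _ hchar
  exact isIrreducible_of_equiv e hτ

/-- If `χ ∈ Irr(D)` restricts irreducibly to `Z`, then `∑ z ∈ Z, |χ(g z)|² = |Z|` on every coset. -/
theorem sum_coset_norm (Z : Subgroup D) [Fintype Z] (χ : IrrCharacter D)
    (hres : IsIrrCharacter Z (fun z : Z => (χ : D → ℂ) z)) (g : D) :
    ∑ z : Z, (χ : D → ℂ) (g * z) * conj ((χ : D → ℂ) (g * z)) = (Nat.card Z : ℂ) := by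
  obtain ⟨n, ρ, hρ, hχ⟩ := irr_exists_rep χ
  have hn := irreducible_dim_pos ρ hρ
  obtain ⟨σ, hσdef⟩ : ∃ σ : Representation ℂ Z (Fin n → ℂ), σ = MonoidHom.comp ρ Z.subtype :=
    ⟨_, rfl⟩
  have hσ : σ.IsIrreducible := by
    rw [hσdef]
    exact isIrreducible_restrict_of_irr_char Z ρ (by rw [hχ]; exact hres)
  have hσρ : ∀ z : Z, repMat σ z = repMat ρ (z : D) := by
    intro z
    rw [hσdef]
    rfl
  have h := sum_trace_mul_trace σ hσ (repMat ρ g) (repMat ρ g⁻¹)
  have h1 : ∀ z : Z, (repMat ρ g * repMat σ z).trace = (χ : D → ℂ) (g * z) := by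
    intro z
    rw [hσρ, ← repMat_mul, trace_repMat, hχ]
  have h2 : ∀ z : Z, (repMat σ z⁻¹ * repMat ρ g⁻¹).trace = conj ((χ : D → ℂ) (g * z)) := by
    intro z
    rw [hσρ, ← repMat_mul, trace_repMat, hχ, Subgroup.coe_inv, ← _root_.mul_inv_rev, irr_inv]
  simp only [h1, h2] at h
  rw [h, ← repMat_mul, mul_inv_cancel, repMat_one, Matrix.trace_one, Fintype.card_fin]
  have hn0 : (n : ℂ) ≠ 0 := by exact_mod_cast hn.ne'
  field_simp

end coset

end Cfsg.Agent.Lib.H24
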