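import Mathlib
import Cfsg.Agent.Lib.H24.CharOrth
import Cfsg.Agent.Lib.H24.CharSchur
import Cfsg.Agent.Lib.H24.CharPermLemma
import Cfsg.Agent.Lib.L0.CharOps

/-!
# Second orthogonality relative to an invariant character of a normal subgroup
(helper24's library)

For `N ⊴ G` and a `G`-invariant `θ ∈ Irr(N)`, with
`relCoeff χ θ = [χ_N, θ] θ(1) / χ(1)`:
`∑ χ, relCoeff χ θ · |χ(g)|² = θ(1) |C_G(g)| / |N| · ∑_{n ∈ N, n g ∼ g} conj θ(n)`.
-/

set_option autoImplicit false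

namespace Cfsg.Agent.Lib.H24

open scoped ComplexConjugate
open Cfsg Cfsg.Agent.Lib.L0

variable {G : Type*} [Group G] [Fintype G] (N : Subgroup G) [Fintype N]

/-- The normalized multiplicity of `θ` in the restriction of `χ` to `N`. -/
noncomputable def relCoeff (χ : IrrCharacter G) (θ : IrrCharacter N) : ℂ :=
  classInner (fun n : N => (χ : G → ℂ) n) (θ : N → ℂ) * (θ : N → ℂ) 1 / (χ : G → ℂ) 1

variable {N}

theorem sum_relCoeff_mul [hN : N.Normal] (θ : IrrCharacter N)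
    (hinv : ∀ (g : G) (n : N), (θ : N → ℂ) ⟨g * n * g⁻¹, hN.conj_mem (n : G) n.2 g⟩ =
      (θ : N → ℂ) n)
    [Fintype (IrrCharacter G)] [DecidableRel (IsConj (α := G))] (g : G) :
    ∑ χ : IrrCharacter G, relCoeff N χ θ * ((χ : G → ℂ) g * conj ((χ : G → ℂ) g)) =
      (θ : N → ℂ) 1 * (Nat.card (Subgroup.centralizer ({g} : Set G)) : ℂ) / (Nat.card N : ℂ) *
        ∑ n : N, (if IsConj ((n : G) * g) g then conj ((θ : N → ℂ) n) else 0) := by
  classical
  have hN0 : (Nat.card N : ℂ) ≠ 0 := by exact_mod_cast (Nat.card_pos (α := N)).ne'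
  have hG0 : (Nat.card G : ℂ) ≠ 0 := by exact_mod_cast (Nat.card_pos (α := G)).ne'
  -- Step 1: each term
  have h1 : ∀ χ : IrrCharacter G, relCoeff N χ θ * ((χ : G → ℂ) g * conj ((χ : G → ℂ) g)) =
      (Nat.card N : ℂ)⁻¹ * (θ : N → ℂ) 1 * (Nat.card G : ℂ)⁻¹ *
        ∑ n : N, ∑ x : G, conj ((θ : N → ℂ) n) *
          ((χ : G → ℂ) (x * (n : G) * x⁻¹ * g) * conj ((χ : G → ℂ) g)) := by
    intro χ
    have hχ1 : (χ : G → ℂ) 1 ≠ 0 := irr_one_ne_zero χ
    have h2 : ∀ n : N, ∑ x : G, conj ((θ : N → ℂ) n) *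
          ((χ : G → ℂ) (x * (n : G) * x⁻¹ * g) * conj ((χ : G → ℂ) g)) =
        conj ((θ : N → ℂ) n) * conj ((χ : G → ℂ) g) *
          ((Nat.card G : ℂ) * (χ : G → ℂ) n * (χ : G → ℂ) g / (χ : G → ℂ) 1) := by
      intro n
      rw [← irr_sum_conj_mul χ (n : G) g, Finset.mul_sum]
      refine Finset.sum_congr rfl (fun x _ => ?_)
      ring
    rw [Finset.sum_congr rfl (fun n _ => h2 n)]
    simp only [relCoeff, classInner]
    rw [Finset.mul_sum, Finset.mul_sum, Finset.sum_mul, Finset.sum_div, Finset.sum_mul]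
    refine Finset.sum_congr rfl (fun n _ => ?_)
    field_simp
  rw [Finset.sum_congr rfl (fun χ _ => h1 χ), ← Finset.mul_sum]
  -- Step 2: swap and use second orthogonality
  have h3 : ∑ χ : IrrCharacter G, ∑ n : N, ∑ x : G, conj ((θ : N → ℂ) n) *
          ((χ : G → ℂ) (x * (n : G) * x⁻¹ * g) * conj ((χ : G → ℂ) g)) =
      ∑ x : G, ∑ n : N, conj ((θ : N → ℂ) n) *
        (if IsConj (x * (n : G) * x⁻¹ * g) g then
          (Nat.card (Subgroup.centralizer ({g} : Set G)) : ℂ) else 0) := by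
    have hA : ∀ (x : G) (n : N), ∑ χ : IrrCharacter G, conj ((θ : N → ℂ) n) *
          ((χ : G → ℂ) (x * (n : G) * x⁻¹ * g) * conj ((χ : G → ℂ) g)) =
        conj ((θ : N → ℂ) n) *
        (if IsConj (x * (n : G) * x⁻¹ * g) g then
          (Nat.card (Subgroup.centralizer ({g} : Set G)) : ℂ) else 0) := by
      intro x n
      rw [← Finset.mul_sum, second_orthogonality]
      split_ifs with h
      · rw [card_centralizer_eq_of_isConj h]
      · rfl
    calc ∑ χ : IrrCharacter G, ∑ n : N, ∑ x : G, conj ((θ : N → ℂ) n) *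
          ((χ : G → ℂ) (x * (n : G) * x⁻¹ * g) * conj ((χ : G → ℂ) g))
        = ∑ n : N, ∑ χ : IrrCharacter G, ∑ x : G, conj ((θ : N → ℂ) n) *
          ((χ : G → ℂ) (x * (n : G) * x⁻¹ * g) * conj ((χ : G → ℂ) g)) := Finset.sum_comm
      _ = ∑ n : N, ∑ x : G, ∑ χ : IrrCharacter G, conj ((θ : N → ℂ) n) *
          ((χ : G → ℂ) (x * (n : G) * x⁻¹ * g) * conj ((χ : G → ℂ) g)) :=
          Finset.sum_congr rfl (fun n _ => Finset.sum_comm)
      _ = ∑ x : G, ∑ n : N, ∑ χ : IrrCharacter G, conj ((θ : N → ℂ) n) *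
          ((χ : G → ℂ) (x * (n : G) * x⁻¹ * g) * conj ((χ : G → ℂ) g)) := Finset.sum_comm
      _ = _ := Finset.sum_congr rfl (fun x _ => Finset.sum_congr rfl (fun n _ => hA x n))
  rw [h3]
  -- Step 3: reindex by conjugation
  have h4 : ∀ x : G, ∑ n : N, conj ((θ : N → ℂ) n) *
        (if IsConj (x * (n : G) * x⁻¹ * g) g then
          (Nat.card (Subgroup.centralizer ({g} : Set G)) : ℂ) else 0) =
      (Nat.card (Subgroup.centralizer ({g} : Set G)) : ℂ) *
        ∑ n : N, (if IsConj ((n : G) * g) g then conj ((θ : N → ℂ) n) else 0) := by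
    intro x
    rw [Finset.mul_sum]
    refine Fintype.sum_equiv (MulAut.conjNormal x : MulAut N).toEquiv _ _ (fun n => ?_)
    have hc : (((MulAut.conjNormal x : MulAut N).toEquiv n : N) : G) = x * (n : G) * x⁻¹ :=
      MulAut.conjNormal_apply x n
    have hθ : (θ : N → ℂ) ((MulAut.conjNormal x : MulAut N).toEquiv n) = (θ : N → ℂ) n := by
      rw [← hinv x n]
      congr 1
    rw [hc, hθ]
    split_ifs <;> ring
  rw [Finset.sum_congr rfl (fun x _ => h4 x), Finset.sum_const, Finset.card_univ, nsmul_eq_mul,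
    ← Nat.card_eq_fintype_card]
  field_simp

omit [Fintype G] in
theorem relCoeff_nonneg [Finite G] (χ : IrrCharacter G) (θ : IrrCharacter N) :
    ∃ r : ℝ, 0 ≤ r ∧ relCoeff N χ θ = (r : ℂ) := by
  obtain ⟨m, hm⟩ := classInner_char_char_nat
    (isCharacter_restrict N (isCharacter_of_irr χ.2)) (isCharacter_of_irr θ.2)
  obtain ⟨a, _, ha⟩ := irr_one_eq θ
  obtain ⟨b, _, hb⟩ := irr_one_eq χ
  refine ⟨(m : ℝ) * (a : ℝ) / (b : ℝ), by positivity, ?_⟩
  rw [relCoeff, hm, ha, hb]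
  push_cast
  rfl

theorem relCoeff_eq_one_of_restrict (χ : IrrCharacter G) (θ : IrrCharacter N)
    (h : ∀ n : N, (χ : G → ℂ) n = (θ : N → ℂ) n) : relCoeff N χ θ = 1 := by
  have h1 : (fun n : N => (χ : G → ℂ) n) = (θ : N → ℂ) := funext h
  have h2 : (χ : G → ℂ) 1 = (θ : N → ℂ) 1 := h 1
  rw [relCoeff, h1, irr_classInner_self θ.2, h2, one_mul, div_self (irr_one_ne_zero θ)]

/-- If the weighted sum of `|χ(g)|²` vanishes, then every character of weight one vanishes at `g`. -/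
theorem apply_eq_zero_of_sum_relCoeff_eq_zero [Fintype (IrrCharacter G)] (θ : IrrCharacter N)
    (g : G)
    (hsum : ∑ χ : IrrCharacter G, relCoeff N χ θ * ((χ : G → ℂ) g * conj ((χ : G → ℂ) g)) = 0)
    (χ₀ : IrrCharacter G) (h1 : relCoeff N χ₀ θ = 1) : (χ₀ : G → ℂ) g = 0 := by
  choose r hr0 hr using fun χ : IrrCharacter G => relCoeff_nonneg (N := N) χ θ
  have hterm : ∀ χ : IrrCharacter G, relCoeff N χ θ * ((χ : G → ℂ) g * conj ((χ : G → ℂ) g)) =
      ((r χ * Complex.normSq ((χ : G → ℂ) g) : ℝ) : ℂ) := by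
    intro χ
    rw [hr χ, Complex.mul_conj]
    push_cast
    rfl
  rw [Finset.sum_congr rfl (fun χ _ => hterm χ), ← Complex.ofReal_sum, Complex.ofReal_eq_zero] at hsum
  have h2 := (Finset.sum_eq_zero_iff_of_nonneg
    (fun χ _ => mul_nonneg (hr0 χ) (Complex.normSq_nonneg _))).mp hsum χ₀ (Finset.mem_univ _)
  have h3 : r χ₀ = 1 := by
    have := hr χ₀
    rw [h1] at this
    exact_mod_cast this.symm
  rw [h3, one_mul] at h2
  exact Complex.normSq_eq_zero.mp h2

end Cfsg.Agent.Lib.H24
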