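import Mathlib
import Cfsg.Agent.Lib.H24.RelOrth
import Cfsg.Agent.Lib.H24.MatrixCoeff
import Cfsg.Agent.Lib.H23.ExtendCyclic
import Cfsg.Agent.Lib.H23.FullyRamified

/-!
# Fully ramified characters and self-centralizing cyclic subgroups (helper24's library)

If `χ ∈ Irr(H)` is fully ramified over `Z ⊴ H` (`χ_Z = e θ`, `e² = |H:Z|`) and `Z ≠ H`, then `H/Z`
has no self-centralizing cyclic subgroup.
-/

set_option autoImplicit false

namespace Cfsg.Agent.Lib.H24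

open scoped ComplexConjugate
open Cfsg Cfsg.Agent.Lib.L0

section conjsum

variable {D : Type*} [Group D] (Z' : Subgroup D) [Fintype Z']

open Classical in
/-- The sum of `conj θ(z)` over those `z ∈ Z'` with `z g` conjugate to `g`. -/
noncomputable def conjSum (θ : IrrCharacter Z') (g : D) : ℂ :=
  ∑ z : Z', (if IsConj ((z : D) * g) g then conj ((θ : Z' → ℂ) z) else 0)

variable [Fintype D] [hZ' : Z'.Normal]

/-- For an invariant `θ` and a cyclic quotient, `conjSum` does not vanish identically on any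
coset. -/
theorem exists_conjSum_ne_zero (hcyc : IsCyclic (D ⧸ Z')) (θ : IrrCharacter Z')
    (hinv : ∀ (g : D) (n : Z'), (θ : Z' → ℂ) ⟨g * n * g⁻¹, hZ'.conj_mem (n : D) n.2 g⟩ =
      (θ : Z' → ℂ) n) (g : D) :
    ∃ z : Z', conjSum Z' θ (g * z) ≠ 0 := by
  classical
  haveI := Fintype.ofFinite (IrrCharacter D)
  obtain ⟨lf, hl, hlres⟩ := Cfsg.Agent.Lib.H23.exists_extension_of_cyclic Z' hcyc (θ : Z' → ℂ)
    θ.2 hinv
  obtain ⟨l, hldef⟩ : ∃ l : IrrCharacter D, (l : D → ℂ) = lf := ⟨⟨lf, hl⟩, rfl⟩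
  have hlres' : ∀ n : Z', (l : D → ℂ) n = (θ : Z' → ℂ) n := by
    intro n
    rw [hldef]
    exact hlres n
  by_contra hall
  push Not at hall
  have hvan : ∀ z : Z', (l : D → ℂ) (g * z) = 0 := by
    intro z
    have h1 := sum_relCoeff_mul θ hinv (g * z)
    have h2 : ∑ n : Z', (if IsConj ((n : D) * (g * z)) (g * z) then conj ((θ : Z' → ℂ) n) else 0) =
        conjSum Z' θ (g * z) := by
      unfold conjSum
      refine Finset.sum_congr rfl (fun n _ => ?_)
      congr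
    rw [h2, hall z, mul_zero] at h1
    exact apply_eq_zero_of_sum_relCoeff_eq_zero θ (g * z) h1 l
      (relCoeff_eq_one_of_restrict l θ hlres')
  have hres : IsIrrCharacter Z' (fun z : Z' => (l : D → ℂ) z) := by
    have : (fun z : Z' => (l : D → ℂ) z) = (θ : Z' → ℂ) := funext hlres'
    rw [this]
    exact θ.2
  have hnorm := sum_coset_norm Z' l hres g
  simp only [hvan, zero_mul, Finset.sum_const_zero] at hnorm
  have hZ0 : (Nat.card Z' : ℂ) ≠ 0 := by exact_mod_cast (Nat.card_pos (α := Z')).ne'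
  exact hZ0 hnorm.symm

end conjsum

section hlevel

theorem sum_subgroup_of_vanish {G : Type*} [Group G] [Fintype G] (K : Subgroup G) [Fintype K]
    (F : G → ℂ) (hF : ∀ g ∉ K, F g = 0) : ∑ g, F g = ∑ h : K, F h := by
  classical
  rw [← Finset.sum_subtype (Finset.univ.filter (· ∈ K)) (by simp) F]
  symm
  apply Finset.sum_subset (Finset.filter_subset _ _)
  intro g _ hg
  apply hF
  intro h
  exact hg (Finset.mem_filter.2 ⟨Finset.mem_univ _, h⟩)

variable {H : Type*} [Group H] [Fintype H] {Z : Subgroup H} [hZ : Z.Normal] [Fintype Z]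
  {χ : IrrCharacter H} {θ : IrrCharacter Z} {e : ℕ}

omit [Fintype H] [Fintype Z] hZ in
theorem fr_e_ne_zero [Finite H] (he : e ^ 2 = Z.index) : (e : ℂ) ≠ 0 := by
  intro h
  have h1 : e = 0 := by exact_mod_cast h
  rw [h1] at he
  have : Z.index ≠ 0 := Subgroup.index_ne_zero_of_finite
  exact this (by rw [← he]; norm_num)

omit [Fintype H] [Fintype Z] in
theorem fr_invariant [Finite H] (he : e ^ 2 = Z.index)
    (hχZ : ∀ z : Z, (χ : H → ℂ) z = (e : ℂ) * (θ : Z → ℂ) z) (g : H) (n : Z) :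
    (θ : Z → ℂ) ⟨g * n * g⁻¹, hZ.conj_mem (n : H) n.2 g⟩ = (θ : Z → ℂ) n := by
  have he0 := fr_e_ne_zero he
  have h1 := hχZ ⟨g * n * g⁻¹, hZ.conj_mem (n : H) n.2 g⟩
  have h2 := hχZ n
  have h3 : (χ : H → ℂ) (g * n * g⁻¹) = (χ : H → ℂ) n := irr_conj χ (n : H) g
  have h4 : (e : ℂ) * (θ : Z → ℂ) ⟨g * n * g⁻¹, hZ.conj_mem (n : H) n.2 g⟩ =
      (e : ℂ) * (θ : Z → ℂ) n := by
    rw [← h1, ← h2]
    exact h3
  exact mul_left_cancel₀ he0 h4

omit hZ in
theorem fr_vanish (he : e ^ 2 = Z.index)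
    (hχZ : ∀ z : Z, (χ : H → ℂ) z = (e : ℂ) * (θ : Z → ℂ) z) (h : H) (hh : h ∉ Z) :
    (χ : H → ℂ) h = 0 := by
  refine (Cfsg.Agent.Lib.H23.classInner_restrict_self_eq_index_iff Z (χ : H → ℂ) χ.2).mp ?_ h hh
  have h1 := irr_classInner_self θ.2
  have hfun : (fun n : Z => (χ : H → ℂ) n) = fun n : Z => (e : ℂ) * (θ : Z → ℂ) n := funext hχZ
  rw [hfun]
  unfold classInner at h1 ⊢
  have h2 : ∀ g : Z, (e : ℂ) * (θ : Z → ℂ) g * conj ((e : ℂ) * (θ : Z → ℂ) g) =
      ((e : ℂ) ^ 2) * ((θ : Z → ℂ) g * conj ((θ : Z → ℂ) g)) := by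
    intro g
    rw [map_mul, Complex.conj_natCast]
    ring
  rw [Finset.sum_congr rfl (fun g _ => h2 g), ← Finset.mul_sum, mul_left_comm, h1, mul_one,
    ← he]
  push_cast
  rfl

omit hZ in
theorem fr_unique (he : e ^ 2 = Z.index)
    (hχZ : ∀ z : Z, (χ : H → ℂ) z = (e : ℂ) * (θ : Z → ℂ) z) (χ' : IrrCharacter H)
    (h : classInner (fun z : Z => (χ' : H → ℂ) z) (θ : Z → ℂ) ≠ 0) : χ' = χ := by
  classical
  by_contra hne
  have h1 := irr_orthonormal χ' χ
  rw [if_neg hne] at h1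
  apply h
  have hH0 : (Nat.card H : ℂ) ≠ 0 := by exact_mod_cast (Nat.card_pos (α := H)).ne'
  have hZ0 : (Nat.card Z : ℂ) ≠ 0 := by exact_mod_cast (Nat.card_pos (α := Z)).ne'
  have he0 := fr_e_ne_zero he
  unfold classInner at h1 ⊢
  have h2 : ∑ g : H, (χ' : H → ℂ) g * conj ((χ : H → ℂ) g) =
      ∑ z : Z, (χ' : H → ℂ) z * conj ((χ : H → ℂ) z) := by
    apply sum_subgroup_of_vanish
    intro g hg
    rw [fr_vanish he hχZ g hg, map_zero, mul_zero]
  rw [h2] at h1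
  have h3 : ∑ z : Z, (χ' : H → ℂ) z * conj ((χ : H → ℂ) z) =
      (e : ℂ) * ∑ z : Z, (χ' : H → ℂ) z * conj ((θ : Z → ℂ) z) := by
    rw [Finset.mul_sum]
    refine Finset.sum_congr rfl (fun z _ => ?_)
    rw [hχZ z, map_mul, Complex.conj_natCast]
    ring
  rw [h3] at h1
  have h4 : ∑ z : Z, (χ' : H → ℂ) z * conj ((θ : Z → ℂ) z) = 0 := by
    rcases mul_eq_zero.mp h1 with h5 | h5
    · exact absurd (inv_eq_zero.mp h5) hH0
    · rcases mul_eq_zero.mp h5 with h6 | h6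
      · exact absurd h6 he0
      · exact h6
  rw [h4, mul_zero]

theorem fr_conjSum_eq_zero (he : e ^ 2 = Z.index)
    (hχZ : ∀ z : Z, (χ : H → ℂ) z = (e : ℂ) * (θ : Z → ℂ) z) (g : H) (hg : g ∉ Z) :
    conjSum Z θ g = 0 := by
  classical
  haveI := Fintype.ofFinite (IrrCharacter H)
  have h1 := sum_relCoeff_mul θ (fr_invariant he hχZ) g
  have h2 : ∑ n : Z, (if IsConj ((n : H) * g) g then conj ((θ : Z → ℂ) n) else 0) =
      conjSum Z θ g := by
    unfold conjSum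
    refine Finset.sum_congr rfl (fun n _ => ?_)
    congr
  rw [h2] at h1
  have h3 : ∑ χ' : IrrCharacter H, relCoeff Z χ' θ *
      ((χ' : H → ℂ) g * conj ((χ' : H → ℂ) g)) = 0 := by
    apply Finset.sum_eq_zero
    intro χ' _
    by_cases hc : χ' = χ
    · rw [hc, fr_vanish he hχZ g hg, zero_mul, mul_zero]
    · have h4 : classInner (fun z : Z => (χ' : H → ℂ) z) (θ : Z → ℂ) = 0 := by
        by_contra h5
        exact hc (fr_unique he hχZ χ' h5)
      rw [relCoeff, h4, zero_mul, zero_div, zero_mul]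
  rw [h3] at h1
  have hc0 : (θ : Z → ℂ) 1 * (Nat.card (Subgroup.centralizer ({g} : Set H)) : ℂ) /
      (Nat.card Z : ℂ) ≠ 0 := by
    have hZ0 : (Nat.card Z : ℂ) ≠ 0 := by exact_mod_cast (Nat.card_pos (α := Z)).ne'
    have hC0 : (Nat.card (Subgroup.centralizer ({g} : Set H)) : ℂ) ≠ 0 := by
      exact_mod_cast (Nat.card_pos (α := Subgroup.centralizer ({g} : Set H))).ne'
    exact div_ne_zero (mul_ne_zero (irr_one_ne_zero θ) hC0) hZ0
  rcases mul_eq_zero.mp h1.symm with h5 | h5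
  · exact absurd h5 hc0
  · exact h5

end hlevel

section main

variable {H : Type*} [Group H] [Fintype H] {Z : Subgroup H} [hZ : Z.Normal] [Fintype Z]
  {χ : IrrCharacter H} {θ : IrrCharacter Z} {e : ℕ}

/-- **Fully ramified characters**: `H/Z` has no self-centralizing cyclic subgroup. -/
theorem fr_no_self_centralizing_cyclic (he : e ^ 2 = Z.index)
    (hχZ : ∀ z : Z, (χ : H → ℂ) z = (e : ℂ) * (θ : Z → ℂ) z) (hZtop : Z ≠ ⊤)
    (C : Subgroup (H ⧸ Z)) (hC : IsCyclic C) :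
    Subgroup.centralizer (C : Set (H ⧸ Z)) ≠ C := by
  classical
  intro hcent
  obtain ⟨q, hq⟩ := hC.exists_generator
  obtain ⟨g, hg⟩ := QuotientGroup.mk_surjective (q : H ⧸ Z)
  -- the preimage of `C`
  obtain ⟨D, hDdef⟩ : ∃ D : Subgroup H, D = C.comap (QuotientGroup.mk' Z) := ⟨_, rfl⟩
  have hmemD : ∀ x : H, x ∈ D ↔ (x : H ⧸ Z) ∈ C := by
    intro x
    rw [hDdef]
    rfl
  have hZD : Z ≤ D := by
    intro z hz
    rw [hmemD, (QuotientGroup.eq_one_iff z).mpr hz]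
    exact C.one_mem
  have hgD : g ∈ D := by
    rw [hmemD, hg]
    exact q.2
  -- every element of `C` is a power of `q`
  have hpow : ∀ c ∈ C, ∃ k : ℤ, (q : H ⧸ Z) ^ k = c := by
    intro c hc
    obtain ⟨k, hk⟩ := Subgroup.mem_zpowers_iff.mp (hq ⟨c, hc⟩)
    exact ⟨k, by simpa using congrArg Subtype.val hk⟩
  -- `g ∉ Z`
  have hgZ : g ∉ Z := by
    intro hgZ
    have hq1 : (q : H ⧸ Z) = 1 := by
      rw [← hg]
      exact (QuotientGroup.eq_one_iff g).mpr hgZ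
    have hCbot : C = ⊥ := by
      rw [eq_bot_iff]
      intro c hc
      obtain ⟨k, hk⟩ := hpow c hc
      rw [hq1, one_zpow] at hk
      exact Subgroup.mem_bot.mpr hk.symm
    rw [hCbot] at hcent
    have htop : (⊤ : Subgroup (H ⧸ Z)) = ⊥ := by
      have h1 : Subgroup.centralizer ((⊥ : Subgroup (H ⧸ Z)) : Set (H ⧸ Z)) = ⊤ := by
        rw [eq_top_iff]
        intro x _
        rw [Subgroup.mem_centralizer_iff]
        intro c hc
        have hc1 : c = 1 := Subgroup.mem_bot.mp hc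
        rw [hc1, one_mul, mul_one]
      rw [← h1]
      exact hcent
    apply hZtop
    rw [eq_top_iff]
    intro x _
    have : (x : H ⧸ Z) ∈ (⊥ : Subgroup (H ⧸ Z)) := by
      rw [← htop]
      exact Subgroup.mem_top _
    exact (QuotientGroup.eq_one_iff x).mp (Subgroup.mem_bot.mp this)
  -- set up `D`
  haveI : Fintype D := Fintype.ofFinite _
  haveI : Fintype (Z.subgroupOf D) := Fintype.ofFinite _
  have hinvH := fr_invariant (χ := χ) (θ := θ) he hχZ
  obtain ⟨eqv, heqv⟩ : ∃ eqv : Z.subgroupOf D ≃* Z,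
      ∀ z : Z.subgroupOf D, ((eqv z : Z) : H) = ((z : D) : H) :=
    ⟨Subgroup.subgroupOfEquivOfLe hZD, fun z => rfl⟩
  obtain ⟨θ', hθ'⟩ : ∃ θ' : IrrCharacter (Z.subgroupOf D),
      ∀ z : Z.subgroupOf D, (θ' : Z.subgroupOf D → ℂ) z = (θ : Z → ℂ) (eqv z) :=
    ⟨⟨fun z => (θ : Z → ℂ) (eqv z),
      isIrrCharacter_comp_of_surjective eqv.toMonoidHom eqv.surjective θ.2⟩, fun z => rfl⟩
  have hinv' : ∀ (d : D) (n : Z.subgroupOf D),
      (θ' : Z.subgroupOf D → ℂ) ⟨d * n * d⁻¹,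
        (inferInstance : (Z.subgroupOf D).Normal).conj_mem (n : D) n.2 d⟩ =
      (θ' : Z.subgroupOf D → ℂ) n := by
    intro d n
    rw [hθ', hθ', ← hinvH (d : H) (eqv n)]
    refine congrArg (θ : Z → ℂ) (Subtype.ext ?_)
    rw [heqv]
    simp only [Subgroup.coe_mul, Subgroup.coe_inv, heqv]
  -- the quotient is cyclic
  have hcyc : IsCyclic (D ⧸ Z.subgroupOf D) := by
    refine ⟨⟨((⟨g, hgD⟩ : D) : D ⧸ Z.subgroupOf D), fun x => ?_⟩⟩
    obtain ⟨d, rfl⟩ := QuotientGroup.mk_surjective x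
    obtain ⟨k, hk⟩ := hpow ((d : H) : H ⧸ Z) ((hmemD d).mp d.2)
    refine Subgroup.mem_zpowers_iff.mpr ⟨k, ?_⟩
    rw [← QuotientGroup.mk_zpow, QuotientGroup.eq, Subgroup.mem_subgroupOf]
    have h1 : (((g ^ k : H)) : H ⧸ Z) = ((d : H) : H ⧸ Z) := by
      rw [QuotientGroup.mk_zpow, hg, hk]
    have h2 := QuotientGroup.eq.mp h1
    simpa using h2
  obtain ⟨z, hz⟩ := exists_conjSum_ne_zero (Z.subgroupOf D) hcyc θ' hinv' ⟨g, hgD⟩
  apply hz
  -- the element `g' = g z`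
  obtain ⟨g', hg'⟩ : ∃ g' : D, g' = (⟨g, hgD⟩ : D) * (z : D) := ⟨_, rfl⟩
  rw [← hg']
  have hg'H : ((g' : D) : H) = g * ((z : D) : H) := by
    rw [hg']
    rfl
  have hzZ : ((z : D) : H) ∈ Z := Subgroup.mem_subgroupOf.mp z.2
  have hg'q : (((g' : D) : H) : H ⧸ Z) = (q : H ⧸ Z) := by
    rw [hg'H, QuotientGroup.mk_mul, hg, (QuotientGroup.eq_one_iff _).mpr hzZ, mul_one]
  have hg'Z : ((g' : D) : H) ∉ Z := by
    intro h
    apply hgZ
    have : g = ((g' : D) : H) * (((z : D) : H))⁻¹ := by rw [hg'H]; group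
    rw [this]
    exact Z.mul_mem h (Z.inv_mem hzZ)
  rw [← fr_conjSum_eq_zero (χ := χ) (θ := θ) he hχZ ((g' : D) : H) hg'Z]
  -- the bridge
  unfold conjSum
  refine Fintype.sum_equiv eqv.toEquiv _ _ (fun n => ?_)
  have hiff : IsConj (((n : D)) * g') g' ↔
      IsConj (((eqv.toEquiv n : Z) : H) * ((g' : D) : H)) ((g' : D) : H) := by
    have hn : ((eqv.toEquiv n : Z) : H) = ((n : D) : H) := heqv n
    rw [hn]
    constructor
    · intro h
      obtain ⟨t, ht⟩ := isConj_iff.mp h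
      exact isConj_iff.mpr ⟨(t : H), by
        have := congrArg (Subtype.val : D → H) ht
        simpa using this⟩
    · intro h
      obtain ⟨t, ht⟩ := isConj_iff.mp h
      have hnZ : ((n : D) : H) ∈ Z := Subgroup.mem_subgroupOf.mp n.2
      -- `t` centralizes `q` modulo `Z`
      have h1 : (t : H ⧸ Z) * (q : H ⧸ Z) * (t : H ⧸ Z)⁻¹ = (q : H ⧸ Z) := by
        have h2 := congrArg (fun x : H => (x : H ⧸ Z)) ht
        simp only [QuotientGroup.mk_mul, QuotientGroup.mk_inv, hg'q,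
          (QuotientGroup.eq_one_iff _).mpr hnZ, one_mul] at h2
        exact h2
      have h3 : (t : H ⧸ Z) ∈ Subgroup.centralizer (C : Set (H ⧸ Z)) := by
        rw [Subgroup.mem_centralizer_iff]
        intro c hc
        obtain ⟨k, hk⟩ := hpow c hc
        have hcomm : Commute (t : H ⧸ Z) (q : H ⧸ Z) := by
          show (t : H ⧸ Z) * (q : H ⧸ Z) = (q : H ⧸ Z) * (t : H ⧸ Z)
          calc (t : H ⧸ Z) * (q : H ⧸ Z)
              = ((t : H ⧸ Z) * (q : H ⧸ Z) * (t : H ⧸ Z)⁻¹) * (t : H ⧸ Z) := by group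
            _ = (q : H ⧸ Z) * (t : H ⧸ Z) := by rw [h1]
        rw [← hk]
        exact ((hcomm.zpow_right k).eq).symm
      rw [hcent] at h3
      have htD : t ∈ D := (hmemD t).mpr h3
      exact isConj_iff.mpr ⟨⟨t, htD⟩, Subtype.ext (by simpa using ht)⟩
  have hθn : (θ' : Z.subgroupOf D → ℂ) n = (θ : Z → ℂ) (eqv.toEquiv n) := hθ' n
  rw [hθn]
  by_cases hc : IsConj (((n : D)) * g') g'
  · rw [if_pos hc, if_pos (hiff.mp hc)]
  · rw [if_neg hc, if_neg (fun h => hc (hiff.mpr h))]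

end main

end Cfsg.Agent.Lib.H24
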