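import Mathlib
import Cfsg.Agent.Lib.H23.FullyRamified
import Cfsg.Agent.Lib.L0.CharOps

/-!
# S4591 piece TRIV (helper24 twin): a normal subgroup on which the irreducible `χ` has the trivial constituent lies in
the kernel of `χ` (Clifford: `χ_L` is a multiple of the invariant constituent `1_L`)
-/

set_option autoImplicit false
set_option linter.unusedSectionVars false

namespace Cfsg.Agent.Lib.H24.KPP

open Cfsg Cfsg.Agent.Lib.L0 Cfsg.Agent.Lib.H23

variable {G : Type*} [Group G] [Fintype G] (p : ℕ) [hp : Fact p.Prime]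

/-- TRIV: a normal subgroup on which the irreducible `χ` has the trivial constituent is in the kernel. -/
theorem eq_of_trivial_constituent (L : Subgroup G) [L.Normal] [Fintype L] (χ : G → ℂ)
    (hχ : IsIrrCharacter G χ)
    (h : classInner (fun n : L => χ n) (fun _ : L => (1 : ℂ)) ≠ 0) : ∀ x ∈ L, χ x = χ 1 := by
  have hone : IsIrrCharacter L (fun _ : L => (1 : ℂ)) := isIrrCharacter_one (G := L)
  have key := restrict_eq_smul_of_invariant L χ hχ (fun _ : L => (1 : ℂ)) hone h (fun _ _ => rfl)
  intro x hx
  have h1 := congrFun key ⟨x, hx⟩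
  have h2 := congrFun key 1
  simp only [Pi.smul_apply, smul_eq_mul, mul_one] at h1 h2
  rw [Subgroup.coe_one] at h2
  rw [h1, h2]

end Cfsg.Agent.Lib.H24.KPP
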