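import Mathlib
import Cfsg.Agent.Lib.H16.RTWDefs

/-!
# S3174 piece IDX8 (helper24): `|T : C_T(Z₃)| ≤ 8` when `|Zᵢ| = 2ⁱ`
-/

set_option autoImplicit false

namespace Cfsg.Agent.Lib.H24.RTW

open scoped commutatorElement
open Cfsg.Agent.Lib.H16.RTW

variable {T : Type*} [Group T] [Finite T]

/-- cosets of a subgroup of index two -/
theorem mem_or_inv_mul_mem {G : Type*} [Group G] [Finite G] (A B : Subgroup G) (hAB : A ≤ B)
    (hcard : Nat.card B = 2 * Nat.card A) (x : G) (hx : x ∈ B) (hxA : x ∉ A) (y : G) (hy : y ∈ B) :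
    y ∈ A ∨ x⁻¹ * y ∈ A := by
  have hc : Nat.card (A.subgroupOf B) = Nat.card A :=
    Nat.card_congr (Subgroup.subgroupOfEquivOfLe hAB).toEquiv
  have hidx : (A.subgroupOf B).index = 2 := by
    have h := (A.subgroupOf B).card_mul_index
    rw [hc, hcard] at h
    have hpos : 0 < Nat.card A := Nat.card_pos
    have h' : Nat.card A * (A.subgroupOf B).index = Nat.card A * 2 := by rw [h]; ring
    exact Nat.eq_of_mul_eq_mul_left hpos h'
  by_cases hyA : y ∈ A
  · exact Or.inl hyA
  · right
    have h := Subgroup.mul_mem_iff_of_index_two hidx (a := (⟨x⁻¹, B.inv_mem hx⟩ : B)) (b := (⟨y, hy⟩ : B))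
    rw [Subgroup.mem_subgroupOf, Subgroup.mem_subgroupOf, Subgroup.mem_subgroupOf] at h
    have hxi : x⁻¹ ∉ A := fun h' => hxA (by simpa using A.inv_mem h')
    exact h.2 ⟨fun h' => absurd h' hxi, fun h' => absurd h' hyA⟩

/-- **IDX8**: `|T : C_T(Z₃)| ≤ 8` when `|Zᵢ| = 2ⁱ`. -/
theorem index_centralizer_ucs3_le
    (h1 : Nat.card ↥(Subgroup.upperCentralSeries T 1) = 2)
    (h2 : Nat.card ↥(Subgroup.upperCentralSeries T 2) = 4)
    (h3 : Nat.card ↥(Subgroup.upperCentralSeries T 3) = 8) :
    (Subgroup.centralizer ((Subgroup.upperCentralSeries T 3 : Subgroup T) : Set T)).index ≤ 8 := by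
  have hZ12 : Subgroup.upperCentralSeries T 1 ≤ Subgroup.upperCentralSeries T 2 :=
    Subgroup.upperCentralSeries_mono T (by norm_num)
  have hZ23 : Subgroup.upperCentralSeries T 2 ≤ Subgroup.upperCentralSeries T 3 :=
    Subgroup.upperCentralSeries_mono T (by norm_num)
  -- `Z₁` is central
  have hcen : ∀ c ∈ Subgroup.upperCentralSeries T 1, ∀ g : T, Commute g c := by
    intro c hc g
    rw [Subgroup.upperCentralSeries_one, Subgroup.mem_center_iff] at hc
    exact hc g
  -- the two generators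
  obtain ⟨x3, hx3, hx3'⟩ : ∃ x ∈ Subgroup.upperCentralSeries T 3, x ∉ Subgroup.upperCentralSeries T 2 := by
    by_contra h
    push_neg at h
    have heq : Subgroup.upperCentralSeries T 3 = Subgroup.upperCentralSeries T 2 := le_antisymm h hZ23
    rw [heq, h2] at h3
    omega
  obtain ⟨x2, hx2, hx2'⟩ : ∃ x ∈ Subgroup.upperCentralSeries T 2, x ∉ Subgroup.upperCentralSeries T 1 := by
    by_contra h
    push_neg at h
    have heq : Subgroup.upperCentralSeries T 2 = Subgroup.upperCentralSeries T 1 := le_antisymm h hZ12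
    rw [heq, h1] at h2
    omega
  -- commuting with `x₂`, `x₃` is enough
  have hgen : ∀ g : T, Commute g x3 → Commute g x2 →
      g ∈ Subgroup.centralizer ((Subgroup.upperCentralSeries T 3 : Subgroup T) : Set T) := by
    intro g hg3 hg2
    have hZ2 : ∀ z ∈ Subgroup.upperCentralSeries T 2, Commute g z := by
      intro z hz
      rcases mem_or_inv_mul_mem _ _ hZ12 (by rw [h2, h1]) x2 hx2 hx2' z hz with h | h
      · exact hcen z h g
      · have : z = x2 * (x2⁻¹ * z) := by group
        rw [this]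
        exact hg2.mul_right (hcen _ h g)
    rw [Subgroup.mem_centralizer_iff]
    intro y hy
    have hy' : y ∈ Subgroup.upperCentralSeries T 3 := hy
    have hc : Commute g y := by
      rcases mem_or_inv_mul_mem _ _ hZ23 (by rw [h3, h2]) x3 hx3 hx3' y hy' with h | h
      · exact hZ2 y h
      · have : y = x3 * (x3⁻¹ * y) := by group
        rw [this]
        exact hg3.mul_right (hZ2 _ h)
    exact hc.eq.symm
  -- commutators land one step down
  have hm3 : ∀ t : T, t * x3 * t⁻¹ * x3⁻¹ ∈ Subgroup.upperCentralSeries T 2 := by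
    intro t
    have h := (Subgroup.mem_upperCentralSeries_succ_iff (n := 2)).1 hx3 t
    have h' := (Subgroup.upperCentralSeries T 2).inv_mem h
    rwa [commutatorElement_inv, commutatorElement_def] at h'
  have hm2 : ∀ t : T, t * x2 * t⁻¹ * x2⁻¹ ∈ Subgroup.upperCentralSeries T 1 := by
    intro t
    have h := (Subgroup.mem_upperCentralSeries_succ_iff (n := 1)).1 hx2 t
    have h' := (Subgroup.upperCentralSeries T 1).inv_mem h
    rwa [commutatorElement_inv, commutatorElement_def] at h'
  -- the map on cosets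
  set C := Subgroup.centralizer ((Subgroup.upperCentralSeries T 3 : Subgroup T) : Set T) with hC
  have hCx : ∀ c ∈ C, ∀ x ∈ Subgroup.upperCentralSeries T 3, c * x * c⁻¹ = x := by
    intro c hc x hx
    have := (Subgroup.mem_centralizer_iff.1 hc) x hx
    rw [← this]
    group
  let f : T → ↥(Subgroup.upperCentralSeries T 2) × ↥(Subgroup.upperCentralSeries T 1) :=
    fun t => (⟨t * x3 * t⁻¹ * x3⁻¹, hm3 t⟩, ⟨t * x2 * t⁻¹ * x2⁻¹, hm2 t⟩)
  have hf : ∀ a b : T, a⁻¹ * b ∈ C → f a = f b := by
    intro a b hab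
    have e3 := hCx _ hab x3 hx3
    have e2 := hCx _ hab x2 (hZ23 hx2)
    have k3 : b * x3 * b⁻¹ = a * x3 * a⁻¹ := by
      have : b * x3 * b⁻¹ = a * ((a⁻¹ * b) * x3 * (a⁻¹ * b)⁻¹) * a⁻¹ := by group
      rw [this, e3]
    have k2 : b * x2 * b⁻¹ = a * x2 * a⁻¹ := by
      have : b * x2 * b⁻¹ = a * ((a⁻¹ * b) * x2 * (a⁻¹ * b)⁻¹) * a⁻¹ := by group
      rw [this, e2]
    simp only [f, Prod.mk.injEq, Subtype.mk.injEq]
    rw [k3, k2]
    exact ⟨rfl, rfl⟩
  let F : T ⧸ C → ↥(Subgroup.upperCentralSeries T 2) × ↥(Subgroup.upperCentralSeries T 1) :=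
    fun q => Quotient.liftOn' q f (fun a b hab => hf a b (QuotientGroup.leftRel_apply.1 hab))
  have hF : Function.Injective F := by
    intro q q'
    induction q using Quotient.inductionOn' with
    | h a =>
      induction q' using Quotient.inductionOn' with
      | h b =>
        intro h
        have h' : f a = f b := h
        simp only [f, Prod.mk.injEq, Subtype.mk.injEq] at h'
        obtain ⟨e3, e2⟩ := h'
        have e3' : a * x3 * a⁻¹ = b * x3 * b⁻¹ := mul_right_cancel e3
        have e2' : a * x2 * a⁻¹ = b * x2 * b⁻¹ := mul_right_cancel e2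
        apply QuotientGroup.eq.2
        apply hgen
        · show (a⁻¹ * b) * x3 = x3 * (a⁻¹ * b)
          have : (a⁻¹ * b) * x3 = a⁻¹ * (b * x3 * b⁻¹) * b := by group
          rw [this, ← e3']
          group
        · show (a⁻¹ * b) * x2 = x2 * (a⁻¹ * b)
          have : (a⁻¹ * b) * x2 = a⁻¹ * (b * x2 * b⁻¹) * b := by group
          rw [this, ← e2']
          group
  have hle := Nat.card_le_card_of_injective F hF
  rw [Nat.card_prod, h2, h1] at hle
  exact hle

end Cfsg.Agent.Lib.H24.RTW
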