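import Mathlib
import Cfsg.Agent.Lib.H16.RTWDefs

/-!
# S3174 piece NORMK (helper24): a normal subgroup of order `≤ 2^k` of a finite 2-group lies in `Z_k`
-/

set_option autoImplicit false

namespace Cfsg.Agent.Lib.H24.RTW

open scoped commutatorElement
open Cfsg.Agent.Lib.H16.RTW

variable {T : Type*} [Group T] [Finite T]

/-- in a nilpotent group `[N, G] = N` forces `N = 1` -/
theorem eq_bot_of_commutator_eq {G : Type*} [Group G] [Group.IsNilpotent G] (N : Subgroup G)
    (h : ⁅N, (⊤ : Subgroup G)⁆ = N) : N = ⊥ := by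
  obtain ⟨c, hc⟩ := Subgroup.nilpotent_iff_lowerCentralSeries.1 (inferInstance : Group.IsNilpotent G)
  have hle : ∀ m, N ≤ (⊤ : Subgroup G).lowerCentralSeries m := by
    intro m
    induction m with
    | zero => exact le_top
    | succ m ih =>
      rw [Subgroup.lowerCentralSeries_succ]
      calc N = ⁅N, (⊤ : Subgroup G)⁆ := h.symm
        _ ≤ ⁅(⊤ : Subgroup G).lowerCentralSeries m, (⊤ : Subgroup G)⁆ := Subgroup.commutator_mono ih le_rfl
  have := hle c
  rw [hc] at this
  exact le_bot_iff.1 this

/-- a proper inclusion of finite subgroups at least doubles the order -/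
theorem two_mul_card_le' {G : Type*} [Group G] [Finite G] (H K : Subgroup G) (hle : H ≤ K) (hne : H ≠ K) :
    2 * Nat.card H ≤ Nat.card K := by
  obtain ⟨d, hd⟩ := Subgroup.card_dvd_of_le hle
  have hpos : 0 < Nat.card H := Nat.card_pos
  have hd1 : d ≠ 1 := by
    intro h1
    apply hne
    apply Subgroup.eq_of_le_of_card_ge hle
    rw [hd, h1, mul_one]
  have hd0 : d ≠ 0 := by
    intro h0
    have : 0 < Nat.card K := Nat.card_pos
    rw [hd, h0, mul_zero] at this
    exact lt_irrefl 0 this
  have : 2 ≤ d := by omega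
  calc 2 * Nat.card H = Nat.card H * 2 := by ring
    _ ≤ Nat.card H * d := Nat.mul_le_mul_left _ this
    _ = Nat.card K := hd.symm

/-- **NORMK**: a normal subgroup of order at most `2^k` of a finite 2-group lies in `Z_k`. -/
theorem le_ucs_of_card_le (hT : IsPGroup 2 T) (N : Subgroup T) [N.Normal] (k : ℕ)
    (hN : Nat.card N ≤ 2 ^ k) : N ≤ Subgroup.upperCentralSeries T k := by
  have : Fact (Nat.Prime 2) := ⟨Nat.prime_two⟩
  have : Group.IsNilpotent T := hT.isNilpotent
  induction k generalizing N with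
  | zero =>
    have h1 : Nat.card N = 1 := by
      have : 0 < Nat.card N := Nat.card_pos
      simp only [pow_zero] at hN
      omega
    rw [Subgroup.card_eq_one.1 h1]
    exact bot_le
  | succ k ih =>
    by_cases hbot : N = ⊥
    · rw [hbot]; exact bot_le
    · have hKle : ⁅N, (⊤ : Subgroup T)⁆ ≤ N := Subgroup.commutator_le_left N ⊤
      have hKne : ⁅N, (⊤ : Subgroup T)⁆ ≠ N := fun h => hbot (eq_bot_of_commutator_eq N h)
      have hcard := two_mul_card_le' _ _ hKle hKne
      have hK : Nat.card ↥⁅N, (⊤ : Subgroup T)⁆ ≤ 2 ^ k := by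
        rw [pow_succ] at hN
        omega
      have hKZ := ih ⁅N, (⊤ : Subgroup T)⁆ hK
      intro x hx
      rw [Subgroup.mem_upperCentralSeries_succ_iff]
      intro y
      exact hKZ (Subgroup.commutator_mem_commutator hx (Subgroup.mem_top y))

end Cfsg.Agent.Lib.H24.RTW
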