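import Mathlib
import Cfsg.Agent.Lib.H16.RTWDefs

/-!
# S3174 piece UCS (helper24): `|Zᵢ| = 2ⁱ` for `i ≤ 3` when `|Z₄| = 16 < |T|`
-/

set_option autoImplicit false

namespace Cfsg.Agent.Lib.H24.RTW

open scoped commutatorElement
open Cfsg.Agent.Lib.H16.RTW

variable {T : Type*} [Group T] [Finite T]

/-- once the upper central series stops growing it is stationary -/
theorem ucs_stationary {G : Type*} [Group G] (n : ℕ)
    (h : Subgroup.upperCentralSeries G (n + 1) = Subgroup.upperCentralSeries G n) (m : ℕ) :
    Subgroup.upperCentralSeries G (n + m) = Subgroup.upperCentralSeries G n := by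
  induction m with
  | zero => rfl
  | succ m ih =>
    ext x
    rw [← add_assoc, Subgroup.mem_upperCentralSeries_succ_iff, ih]
    conv_rhs => rw [← h, Subgroup.mem_upperCentralSeries_succ_iff]

/-- in a nilpotent group the upper central series is strictly increasing until it reaches the top -/
theorem ucs_eq_top_of_eq_succ {G : Type*} [Group G] [Group.IsNilpotent G] (n : ℕ)
    (h : Subgroup.upperCentralSeries G (n + 1) = Subgroup.upperCentralSeries G n) :
    Subgroup.upperCentralSeries G n = ⊤ := by
  obtain ⟨c, hc⟩ := Group.IsNilpotent.nilpotent G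
  have h1 : Subgroup.upperCentralSeries G (n + c) = Subgroup.upperCentralSeries G n :=
    ucs_stationary n h c
  have h2 : Subgroup.upperCentralSeries G c ≤ Subgroup.upperCentralSeries G (n + c) :=
    Subgroup.upperCentralSeries_mono G (Nat.le_add_left c n)
  rw [hc, h1] at h2
  exact top_le_iff.1 h2

/-- a proper inclusion of finite subgroups at least doubles the order -/
theorem two_mul_card_le {G : Type*} [Group G] [Finite G] (H K : Subgroup G) (hle : H ≤ K) (hne : H ≠ K) :
    2 * Nat.card H ≤ Nat.card K := by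
  obtain ⟨d, hd⟩ := Subgroup.card_dvd_of_le hle
  have hpos : 0 < Nat.card H := Nat.card_pos
  have hd1 : d ≠ 1 := by
    intro h1
    apply hne
    apply Subgroup.eq_of_le_of_card_ge hle
    rw [hd, h1, mul_one]
  have hd0 : d ≠ 0 := by
    intro h0
    have : 0 < Nat.card K := Nat.card_pos
    rw [hd, h0, mul_zero] at this
    exact lt_irrefl 0 this
  have : 2 ≤ d := by omega
  calc 2 * Nat.card H = Nat.card H * 2 := by ring
    _ ≤ Nat.card H * d := Nat.mul_le_mul_left _ this
    _ = Nat.card K := hd.symm

/-- **UCS**: the upper central series of a 2-group with `|Z₄| = 16 < |T|` has `|Zᵢ| = 2ⁱ`. -/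
theorem ucs_card (hT : IsPGroup 2 T) (hlt : 16 < Nat.card T)
    (hb : Nat.card ↥(Subgroup.upperCentralSeries T 4) = 16) :
    Nat.card ↥(Subgroup.upperCentralSeries T 1) = 2 ∧
    Nat.card ↥(Subgroup.upperCentralSeries T 2) = 4 ∧
    Nat.card ↥(Subgroup.upperCentralSeries T 3) = 8 := by
  have : Fact (Nat.Prime 2) := ⟨Nat.prime_two⟩
  have : Group.IsNilpotent T := hT.isNilpotent
  have h4top : Subgroup.upperCentralSeries T 4 ≠ ⊤ := by
    intro h
    rw [h, Subgroup.card_top] at hb
    omega
  have hstrict : ∀ n, n < 4 → Subgroup.upperCentralSeries T n ≠ Subgroup.upperCentralSeries T (n + 1) := by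
    intro n hn h
    have ht := ucs_eq_top_of_eq_succ n h.symm
    apply h4top
    apply top_le_iff.1
    rw [← ht]
    exact Subgroup.upperCentralSeries_mono T (by omega)
  have hmono : ∀ n, Subgroup.upperCentralSeries T n ≤ Subgroup.upperCentralSeries T (n + 1) :=
    fun n => Subgroup.upperCentralSeries_mono T (Nat.le_succ n)
  have h0 : Nat.card ↥(Subgroup.upperCentralSeries T 0) = 1 := by
    rw [Subgroup.upperCentralSeries_zero, Subgroup.card_bot]
  have s0 := two_mul_card_le _ _ (hmono 0) (hstrict 0 (by norm_num))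
  have s1 := two_mul_card_le _ _ (hmono 1) (hstrict 1 (by norm_num))
  have s2 := two_mul_card_le _ _ (hmono 2) (hstrict 2 (by norm_num))
  have s3 := two_mul_card_le _ _ (hmono 3) (hstrict 3 (by norm_num))
  simp only [zero_add, Nat.reduceAdd] at s0 s1 s2 s3
  refine ⟨?_, ?_, ?_⟩ <;> omega

end Cfsg.Agent.Lib.H24.RTW
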