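import Mathlib
import Cfsg.Agent.Lib.H15.S3814C2Defs

/-!
# S3814, shape (I), Case 2', piece (11) NormalCompl (helper24)

In the two-sided situation `K` has a normal `a`-complement.
`φ : K → Aut⟨mb⟩ × Aut⟨mc⟩` (conjugation) has an abelian target; its kernel `D = C_K(mb) ∩ C_K(mc)`
has no element of order `a` (`u mb mc` would have order `a b c`).  With `n` the `a'`-part of `|K|`,
`N := {x ∈ K | φ(x) ^ n = 1}` is a normal subgroup of `K`, contains all `a'`-elements of `K`, and has
no element of order `a`.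
-/

set_option autoImplicit false

namespace Cfsg.Agent.Lib.H24.S3814C2NormalCompl

open Cfsg.Agent.H7.S3814Defs Cfsg.Agent.H15.S3814C2

universe u

/-- from `NormalPrime`: `K` normalises `⟨m⟩` -/
theorem le_normalizer_of_normalPrime {G : Type*} [Group G] {K : Subgroup G} {c : ℕ} {m : G}
    (h : NormalPrime K c m) : K ≤ Subgroup.normalizer (Subgroup.zpowers m : Set G) := by
  intro k hk
  rw [Subgroup.mem_normalizer_iff]
  intro x
  constructor
  · intro hx
    obtain ⟨i, rfl⟩ := Subgroup.mem_zpowers_iff.mp hx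
    have h1 : k * m * k⁻¹ ∈ Subgroup.zpowers m := by
      have := h.2.2.2 k⁻¹ (K.inv_mem hk)
      simpa using this
    have h2 : k * m ^ i * k⁻¹ = (k * m * k⁻¹) ^ i := conj_zpow.symm
    rw [h2]; exact Subgroup.zpow_mem _ h1 i
  · intro hx
    obtain ⟨i, hi⟩ := Subgroup.mem_zpowers_iff.mp hx
    have h1 : k⁻¹ * m * k ∈ Subgroup.zpowers m := h.2.2.2 k hk
    have h2 : (k⁻¹ * m * k) ^ i = k⁻¹ * m ^ i * k := by
      have := conj_zpow (a := k⁻¹) (b := m) (i := i)
      simpa using this
    have h3 : x = (k⁻¹ * m * k) ^ i := by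
      rw [h2, hi]; group
    rw [h3]; exact Subgroup.zpow_mem _ h1 i

/-- **PIECE NormalCompl.** -/
theorem normalCompl : NormalComplStmt.{u} := by
  intro G _ σ p V K hctx a b c mb mc hT
  classical
  have hfin := hctx.cex.fin
  have hKb := le_normalizer_of_normalPrime hT.npb
  have hKc := le_normalizer_of_normalPrime hT.npc
  have hap : a.Prime := hctx.cex.prime a hT.ha.1
  have hbp : b.Prime := hctx.cex.prime b hT.hb.1
  have hcp : c.Prime := hctx.cex.prime c hT.hc.1
  letI : CommGroup (MulAut (Subgroup.zpowers mb)) :=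
    (IsCyclic.mulAutMulEquiv (Subgroup.zpowers mb)).toMonoidHom.commGroupOfInjective
      (IsCyclic.mulAutMulEquiv (Subgroup.zpowers mb)).injective
  letI : CommGroup (MulAut (Subgroup.zpowers mc)) :=
    (IsCyclic.mulAutMulEquiv (Subgroup.zpowers mc)).toMonoidHom.commGroupOfInjective
      (IsCyclic.mulAutMulEquiv (Subgroup.zpowers mc)).injective
  let φb : K →* MulAut (Subgroup.zpowers mb) :=
    (Subgroup.zpowers mb).normalizerMonoidHom.comp (Subgroup.inclusion hKb)
  let φc : K →* MulAut (Subgroup.zpowers mc) :=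
    (Subgroup.zpowers mc).normalizerMonoidHom.comp (Subgroup.inclusion hKc)
  let φ : K →* MulAut (Subgroup.zpowers mb) × MulAut (Subgroup.zpowers mc) := φb.prod φc
  set n : ℕ := ordCompl[a] (Nat.card K) with hn
  let ψ : K →* MulAut (Subgroup.zpowers mb) × MulAut (Subgroup.zpowers mc) :=
    (powMonoidHom n).comp φ
  have hcardK : Nat.card K ≠ 0 := Nat.card_pos.ne'
  have hcop : a.Coprime n := Nat.coprime_ordCompl hap hcardK
  -- kernel of `φb`, `φc`
  have kerb : ∀ y : K, φb y = 1 → Commute (y : G) mb := by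
    intro y hy
    have h1 : Subgroup.inclusion hKb y ∈ (Subgroup.zpowers mb).normalizerMonoidHom.ker :=
      MonoidHom.mem_ker.mpr hy
    rw [Subgroup.normalizerMonoidHom_ker, Subgroup.mem_subgroupOf,
      Subgroup.mem_centralizer_iff] at h1
    exact (h1 mb (Subgroup.mem_zpowers mb)).symm
  have kerc : ∀ y : K, φc y = 1 → Commute (y : G) mc := by
    intro y hy
    have h1 : Subgroup.inclusion hKc y ∈ (Subgroup.zpowers mc).normalizerMonoidHom.ker :=
      MonoidHom.mem_ker.mpr hy
    rw [Subgroup.normalizerMonoidHom_ker, Subgroup.mem_subgroupOf,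
      Subgroup.mem_centralizer_iff] at h1
    exact (h1 mc (Subgroup.mem_zpowers mc)).symm
  refine ⟨ψ.ker.map K.subtype, Subgroup.map_subtype_le _, ?_, ?_, ?_⟩
  · -- normal in `K`
    have h1 : (Subgroup.normalizer (ψ.ker : Set K)).map K.subtype ≤
        Subgroup.normalizer ((ψ.ker.map K.subtype : Subgroup G) : Set G) :=
      Subgroup.le_normalizer_map K.subtype
    rw [Subgroup.normalizer_eq_top] at h1
    intro k hk
    exact h1 (Subgroup.mem_map.mpr ⟨⟨k, hk⟩, Subgroup.mem_top _, rfl⟩)
  · -- no element of order `a`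
    rintro x hx hox
    obtain ⟨x', hx', rfl⟩ := Subgroup.mem_map.mp hx
    have h1 : φ x' ^ n = 1 := MonoidHom.mem_ker.mp hx'
    have h2 : φ (x' ^ n) = 1 := by rw [map_pow]; exact h1
    have h3 : φb (x' ^ n) = 1 := congrArg Prod.fst h2
    have h4 : φc (x' ^ n) = 1 := congrArg Prod.snd h2
    set u : G := ((x' ^ n : K) : G) with hu
    have hub : Commute u mb := kerb _ h3
    have huc : Commute u mc := kerc _ h4
    have hou : orderOf u = a := by
      have h5 : u = (K.subtype x') ^ n := by rw [hu, Subgroup.coe_pow]; rfl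
      rw [h5, Nat.Coprime.orderOf_pow (by rw [hox]; exact hcop), hox]
    have hob : orderOf mb = b := hT.npb.2.2.1
    have hoc : orderOf mc = c := hT.npc.2.2.1
    have h6 : orderOf (u * mb) = a * b := by
      rw [hub.orderOf_mul_eq_mul_orderOf_of_coprime
        (by rw [hou, hob]; exact (Nat.coprime_primes hap hbp).mpr hT.hab), hou, hob]
    have h7 : Commute (u * mb) mc := huc.mul_left hT.comm
    have h8 : orderOf (u * mb * mc) = a * b * c := by
      rw [h7.orderOf_mul_eq_mul_orderOf_of_coprime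
        (by
          rw [h6, hoc]
          exact Nat.Coprime.mul_left ((Nat.coprime_primes hap hcp).mpr hT.hac)
            ((Nat.coprime_primes hbp hcp).mpr hT.hbc)), h6, hoc]
    exact hctx.cex.notriple a hT.ha.1 b hT.hb.1 c hT.hc.1 hT.hab hT.hbc hT.hac _ h8
  · -- contains every `a'`-element of `K`
    intro x hx hax
    refine Subgroup.mem_map.mpr ⟨⟨x, hx⟩, ?_, rfl⟩
    rw [MonoidHom.mem_ker]
    show φ ⟨x, hx⟩ ^ n = 1
    have h1 : orderOf (⟨x, hx⟩ : K) ∣ Nat.card K := orderOf_dvd_natCard _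
    have h2 : orderOf (⟨x, hx⟩ : K) = orderOf x := Subgroup.orderOf_mk x hx
    have h3 : (orderOf x).Coprime (ordProj[a] (Nat.card K)) := by
      apply Nat.Coprime.pow_right
      exact ((Nat.Prime.coprime_iff_not_dvd hap).mpr hax).symm
    have h4 : orderOf x ∣ n := by
      rw [h2, ← Nat.ordProj_mul_ordCompl_eq_self (Nat.card K) a] at h1
      exact h3.dvd_of_dvd_mul_left h1
    have h5 : (⟨x, hx⟩ : K) ^ n = 1 := by
      rw [← h2] at h4
      exact orderOf_dvd_iff_pow_eq_one.mp h4
    rw [← map_pow, h5, map_one]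

example : NormalComplStmt.{0} := normalCompl

end Cfsg.Agent.Lib.H24.S3814C2NormalCompl
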