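import Mathlib
import Cfsg.Agent.Lib.H7.S3814Defs2
import Cfsg.Agent.Lib.H24.S3814F2E

/-!
# S3814, piece R2IDX (helper24): `C_t × C_t` moves into any subgroup of index prime to `t`

`Rank2IndexStmt` of helper7's level-2 cut.  Proof: `E = ⟨e₁, e₂⟩` is a `t`-group; it acts by left
multiplication on `G ⧸ K`, a set of cardinality `K.index` prime to `t`, so it fixes a coset `gK`,
i.e. `g⁻¹ E g ≤ K`; conjugation preserves orders, commutation and "not a power of".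
-/

set_option autoImplicit false

namespace Cfsg.Agent.Lib.H24.S3814R2Idx

open Cfsg.Agent.H7.S3814Defs

universe u

/-- a `t`-subgroup `E` is conjugate into any subgroup `K` of index prime to `t` -/
theorem conj_into {G : Type u} [Group G] (K E : Subgroup G) {t : ℕ} [Fact t.Prime]
    (hE : IsPGroup t E) (hK : ¬ t ∣ K.index) : ∃ g : G, ∀ e ∈ E, g⁻¹ * e * g ∈ K := by
  obtain ⟨q, hq⟩ := hE.nonempty_fixed_point_of_prime_not_dvd_card (G ⧸ K) hK
  induction q using QuotientGroup.induction_on with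
  | H g =>
    refine ⟨g, fun e he => ?_⟩
    have h1 := hq ⟨e⁻¹, E.inv_mem he⟩
    have h2 : ((e⁻¹ * g : G) : G ⧸ K) = (g : G ⧸ K) := h1
    rw [QuotientGroup.eq] at h2
    simpa [mul_assoc] using h2

/-- **PIECE R2IDX.** -/
theorem rank2Index : Rank2IndexStmt.{u} := by
  intro G _ _ K t ht hR hK
  obtain ⟨e₁, -, e₂, -, h1, h2, hc, hnot⟩ := hR
  haveI : Fact t.Prime := ⟨ht⟩
  obtain ⟨E, hEA, -, -, he2, he1, -⟩ :=
    Cfsg.Agent.Lib.H24.S3814F2E.exists_subgroup ht e₂ e₁ h2 h1 (show Commute e₂ e₁ from hc.symm) hnot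
  have hEp : IsPGroup t E := by
    intro e
    refine ⟨1, ?_⟩
    rw [pow_one]
    exact Subtype.ext (by rw [Subgroup.coe_pow, hEA.2 e e.2]; rfl)
  obtain ⟨g, hg⟩ := conj_into K E hEp hK
  have hord : ∀ e : G, orderOf (g⁻¹ * e * g) = orderOf e := by
    intro e
    have := (MulAut.conj g⁻¹).orderOf_eq e
    rwa [MulAut.conj_apply, inv_inv] at this
  refine ⟨g⁻¹ * e₁ * g, hg e₁ he1, g⁻¹ * e₂ * g, hg e₂ he2, by rw [hord, h1], by rw [hord, h2], ?_, ?_⟩
  · have h3 : g⁻¹ * e₁ * g * (g⁻¹ * e₂ * g) = g⁻¹ * (e₁ * e₂) * g := by group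
    have h4 : g⁻¹ * e₂ * g * (g⁻¹ * e₁ * g) = g⁻¹ * (e₂ * e₁) * g := by group
    rw [h3, h4, hc]
  · intro hmem
    obtain ⟨n, hn⟩ := Subgroup.mem_zpowers_iff.mp hmem
    apply hnot
    refine Subgroup.mem_zpowers_iff.mpr ⟨n, ?_⟩
    have h5 : (g⁻¹ * e₁ * g) ^ n = g⁻¹ * e₁ ^ n * g := by
      have := map_zpow (MulAut.conj g⁻¹) e₁ n
      simpa [MulAut.conj_apply] using this.symm
    rw [h5] at hn
    have h6 : e₁ ^ n = g * (g⁻¹ * e₁ ^ n * g) * g⁻¹ := by group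
    rw [h6, hn]; group

example : Rank2IndexStmt.{0} := rank2Index

end Cfsg.Agent.Lib.H24.S3814R2Idx
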