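import Mathlib
import Cfsg.Prelude.Def_Characters
import Cfsg.Agent.Lib.H15.O5760A
import Cfsg.Agent.Lib.H24.CharBasic
import Cfsg.Agent.Lib.H23.ClassProduct
import Cfsg.Agent.Lib.L0.CharOps

/-!
# S0980 piece (E6) (helper24): the class multiplication formula at an involution, given the
structure of the "principal 5-block" (E4).  Contains its own copy of the field identity (E5).
-/

set_option autoImplicit false

namespace Cfsg.Agent.Lib.H24.O5760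

open Cfsg Cfsg.Agent.Lib.L0 Cfsg.Agent.Lib.H24
open scoped ComplexConjugate BigOperators

universe u

/-- (E5), own copy. -/
theorem key_identity_h24 (ε δ : ℤ) (hε : ε = 1 ∨ ε = -1) (hδ : δ = 1 ∨ δ = -1) (α β dχ d u τ : ℂ)
    (hαβ : α + β = -1) (hdχ : dχ ≠ 0) (hd : d ≠ 0)
    (h1 : 1 + (ε : ℂ) * dχ - (δ : ℂ) * d = 0) (hz : 1 + (ε : ℂ) * u - (δ : ℂ) * τ = 0) :
    (1 + u * u * (ε : ℂ) / dχ + τ * τ * ((δ : ℂ) * α) / d + τ * τ * ((δ : ℂ) * β) / d) *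
      ((δ : ℂ) * (ε : ℂ) * d * dχ) = (d - τ) ^ 2 := by
  have hβ : β = -1 - α := by linear_combination hαβ
  subst hβ
  rcases hε with rfl | rfl <;> rcases hδ with rfl | rfl
  · have e1 : dχ = d - 1 := by push_cast at h1; linear_combination h1
    have e2 : u = τ - 1 := by push_cast at hz; linear_combination hz
    subst e2
    rw [e1] at hdχ ⊢
    push_cast
    field_simp
    ring
  · have e1 : dχ = -d - 1 := by push_cast at h1; linear_combination h1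
    have e2 : u = -τ - 1 := by push_cast at hz; linear_combination hz
    subst e2
    rw [e1] at hdχ ⊢
    push_cast
    field_simp
    ring
  · have e1 : dχ = 1 - d := by push_cast at h1; linear_combination -h1
    have e2 : u = 1 - τ := by push_cast at hz; linear_combination -hz
    subst e2
    rw [e1] at hdχ ⊢
    push_cast
    field_simp
    ring
  · have e1 : dχ = 1 + d := by push_cast at h1; linear_combination -h1
    have e2 : u = 1 + τ := by push_cast at hz; linear_combination -hz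
    subst e2
    rw [e1] at hdχ ⊢
    push_cast
    field_simp
    ring

/-- (E6) -/
theorem pairs_formula {G : Type u} [Group G] [Fintype G] [DecidableEq G] {x z : G}
    (ζ : ℂ) (hζ : IsPrimitiveRoot ζ 5)
    (χ θ θ' : IrrCharacter G) (ε δ : ℤ) (hε : ε = 1 ∨ ε = -1) (hδ : δ = 1 ∨ δ = -1)
    (h1χ : (χ : G → ℂ) ≠ 1) (h1θ : (θ : G → ℂ) ≠ 1) (h1θ' : (θ' : G → ℂ) ≠ 1)
    (hχθ : χ ≠ θ) (hχθ' : χ ≠ θ') (hθθ' : θ ≠ θ')
    (hχx : (χ : G → ℂ) x = ε) (hθx : (θ : G → ℂ) x = δ * (ζ + ζ ^ 4))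
    (hθ'x : (θ' : G → ℂ) x = δ * (ζ ^ 2 + ζ ^ 3))
    (hvan : ∀ ψ : IrrCharacter G, (ψ : G → ℂ) ≠ 1 → ψ ≠ χ → ψ ≠ θ → ψ ≠ θ' → (ψ : G → ℂ) x = 0)
    (hrel1 : (θ : G → ℂ) 1 = (θ' : G → ℂ) 1 ∧
      1 + (ε : ℂ) * (χ : G → ℂ) 1 - (δ : ℂ) * (θ : G → ℂ) 1 = 0)
    (hrelz : (θ : G → ℂ) z = (θ' : G → ℂ) z ∧
      1 + (ε : ℂ) * (χ : G → ℂ) z - (δ : ℂ) * (θ : G → ℂ) z = 0) :
    (∑ s : G, ∑ t : G, if (s * z * s⁻¹) * (t * z * t⁻¹) = x then (1 : ℂ) else 0) *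
        ((δ : ℂ) * (ε : ℂ) * (θ : G → ℂ) 1 * (χ : G → ℂ) 1) =
      (Nat.card G : ℂ) * ((θ : G → ℂ) 1 - (θ : G → ℂ) z) ^ 2 := by
  classical
  have : Fintype (IrrCharacter G) := Fintype.ofFinite _
  rw [Cfsg.Agent.Lib.H23.sum_sum_ite_conj_mul_eq (G := G) z z x]
  -- the trivial character
  set triv : IrrCharacter G := ⟨(1 : G → ℂ), Cfsg.Agent.Lib.L0.isIrrCharacter_one⟩ with htriv
  have htχ : triv ≠ χ := fun h => h1χ (by rw [← h])
  have htθ : triv ≠ θ := fun h => h1θ (by rw [← h])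
  have htθ' : triv ≠ θ' := fun h => h1θ' (by rw [← h])
  -- values at `x⁻¹`
  have hinv : ∀ ψ : IrrCharacter G, (ψ : G → ℂ) x⁻¹ = conj ((ψ : G → ℂ) x) := fun ψ => irr_inv ψ x
  have hεr : conj ((ε : ℤ) : ℂ) = ((ε : ℤ) : ℂ) := by simp
  have hδr : conj ((δ : ℤ) : ℂ) = ((δ : ℤ) : ℂ) := by simp
  have hχi : (χ : G → ℂ) x⁻¹ = ε := by rw [hinv, hχx, hεr]
  have hθi : (θ : G → ℂ) x⁻¹ = δ * (ζ + ζ ^ 4) := by
    rw [hinv, hθx, map_mul, hδr, Cfsg.Agent.Lib.H15.O5760.conj_al hζ]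
  have hθ'i : (θ' : G → ℂ) x⁻¹ = δ * (ζ ^ 2 + ζ ^ 3) := by
    rw [hinv, hθ'x, map_mul, hδr, Cfsg.Agent.Lib.H15.O5760.conj_be hζ]
  -- split the sum
  set S : Finset (IrrCharacter G) := {triv, χ, θ, θ'} with hS
  have hsplit : ∑ ψ : IrrCharacter G,
      (ψ : G → ℂ) z * (ψ : G → ℂ) z * (ψ : G → ℂ) x⁻¹ / (ψ : G → ℂ) 1 =
      ∑ ψ ∈ S, (ψ : G → ℂ) z * (ψ : G → ℂ) z * (ψ : G → ℂ) x⁻¹ / (ψ : G → ℂ) 1 := by
    symm
    apply Finset.sum_subset (Finset.subset_univ S)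
    intro ψ _ hψ
    rw [hS] at hψ
    simp only [Finset.mem_insert, Finset.mem_singleton, not_or] at hψ
    have h0 : (ψ : G → ℂ) x = 0 := by
      apply hvan ψ _ hψ.2.1 hψ.2.2.1 hψ.2.2.2
      intro h
      exact hψ.1 (Subtype.ext h)
    rw [hinv, h0, map_zero, mul_zero, zero_div]
  rw [hsplit, hS]
  rw [Finset.sum_insert (by
    simp only [Finset.mem_insert, Finset.mem_singleton, not_or]
    exact ⟨htχ, htθ, htθ'⟩)]
  rw [Finset.sum_insert (by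
    simp only [Finset.mem_insert, Finset.mem_singleton, not_or]
    exact ⟨hχθ, hχθ'⟩)]
  rw [Finset.sum_insert (by
    simp only [Finset.mem_singleton]
    exact hθθ')]
  rw [Finset.sum_singleton]
  have htr : (triv : G → ℂ) z * (triv : G → ℂ) z * (triv : G → ℂ) x⁻¹ / (triv : G → ℂ) 1 = 1 := by
    have h1 : ∀ g, (triv : G → ℂ) g = 1 := fun g => rfl
    simp only [h1]
    norm_num
  rw [htr, hχi, hθi, hθ'i, ← hrelz.1, ← hrel1.1]
  have hdχ : (χ : G → ℂ) 1 ≠ 0 := irr_one_ne_zero χ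
  have hd : (θ : G → ℂ) 1 ≠ 0 := irr_one_ne_zero θ
  have key := key_identity_h24 ε δ hε hδ (ζ + ζ ^ 4) (ζ ^ 2 + ζ ^ 3) ((χ : G → ℂ) 1) ((θ : G → ℂ) 1)
    ((χ : G → ℂ) z) ((θ : G → ℂ) z) (Cfsg.Agent.Lib.H15.O5760.al_add_be hζ) hdχ hd hrel1.2 hrelz.2
  rw [mul_assoc, ← key]
  ring

end Cfsg.Agent.Lib.H24.O5760
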