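import Cfsg.Agent.Lib.H10.S4415Defs

/-!
helper24: the GOOD-block sub-cut for S4415: the monomial frame `MonoFrame` delivered by the
weight-space analysis (pieces G1+G2) and consumed by the endgames `n = 3`, `n = 4`.
Light file, definitions only.
-/

set_option autoImplicit false

namespace Cfsg.Agent.Lib.H24.S4415G

open Cfsg.Agent.Lib.H10.S4415

variable {S E : Type*} [Group S] [AddCommGroup E] [Module (ZMod 3) E]

theorem b_mem_RB (R : Subgroup S) (b : S) : b ∈ RB R b :=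
  (le_sup_right : Subgroup.zpowers b ≤ R ⊔ Subgroup.zpowers b) (Subgroup.mem_zpowers b)

theorem R_le_RB (R : Subgroup S) (b : S) : R ≤ RB R b :=
  (le_sup_left : R ≤ R ⊔ Subgroup.zpowers b)

/-- `b` as an element of `R<b>`. -/
def bRB (R : Subgroup S) (b : S) : ↥(RB R b) := ⟨b, b_mem_RB R b⟩

/-- The monomial frame: `W` has a basis `f 0, …, f (n-1)` of common eigenvectors of an
`R<b>`-normal elementary abelian `2`-subgroup, permuted up to sign by `R<b>` via `φ`,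
transitively, with `b` acting as a `3`-cycle, and some `a ∈ R` fixes every line but is not a scalar. -/
structure MonoFrame (ρ : Representation (ZMod 3) S E) (R : Subgroup S) (b : S)
    (W : Submodule (ZMod 3) E) {n : ℕ} (f : Fin n → E)
    (φ : ↥(RB R b) → Equiv.Perm (Fin n)) : Prop where
  fW : ∀ i, f i ∈ W
  indep : LinearIndependent (ZMod 3) f
  span : ∀ w ∈ W, w ∈ Submodule.span (ZMod 3) (Set.range f)
  mono : ∀ (g : ↥(RB R b)) (i : Fin n),
    ρ (g : S) (f i) = f (φ g i) ∨ ρ (g : S) (f i) = -f (φ g i)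
  trans : ∀ i j : Fin n, ∃ g : ↥(RB R b), φ g i = j
  three : (φ (bRB R b)).IsThreeCycle
  nonscalar : ∃ a : ↥(RB R b), (a : S) ∈ R ∧ φ a = 1 ∧
    ∃ i j : Fin n, ρ (a : S) (f i) = f i ∧ ρ (a : S) (f j) = -f j

/-- Shape of the producer piece G12 (weights, transitivity, lines). -/
def FrameStmt : Prop :=
  ∀ {S : Type*} [Group S] [Finite S] {E : Type*} [AddCommGroup E]
    [Module (ZMod 3) E] [Finite E] (ρ : Representation (ZMod 3) S E)
    (R : Subgroup S) (b : S) (W : Submodule (ZMod 3) E) (x₁ x₂ x₃ : S) (e₁ e₂ e₃ : E),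
    LinCtx ρ R b W → QData ρ R b W x₁ x₂ x₃ e₁ e₂ e₃ → ¬ Bad ρ R b W →
    ∃ (n : ℕ) (f : Fin n → E) (φ : ↥(RB R b) → Equiv.Perm (Fin n)), MonoFrame ρ R b W f φ

/-- Shape of G3 in the frame: at most four lines. -/
def CardStmt : Prop :=
  ∀ {S : Type*} [Group S] [Finite S] {E : Type*} [AddCommGroup E]
    [Module (ZMod 3) E] [Finite E] (ρ : Representation (ZMod 3) S E)
    (R : Subgroup S) (b : S) (W : Submodule (ZMod 3) E) (n : ℕ) (f : Fin n → E)
    (φ : ↥(RB R b) → Equiv.Perm (Fin n)),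
    LinCtx ρ R b W → MonoFrame ρ R b W f φ → n = 3 ∨ n = 4

/-- Shape of G4: three lines give the four-group. -/
def ThreeStmt : Prop :=
  ∀ {S : Type*} [Group S] [Finite S] {E : Type*} [AddCommGroup E]
    [Module (ZMod 3) E] [Finite E] (ρ : Representation (ZMod 3) S E)
    (R : Subgroup S) (b : S) (W : Submodule (ZMod 3) E) (x₁ x₂ x₃ : S) (e₁ e₂ e₃ : E)
    (f : Fin 3 → E) (φ : ↥(RB R b) → Equiv.Perm (Fin 3)),
    LinCtx ρ R b W → QData ρ R b W x₁ x₂ x₃ e₁ e₂ e₃ → MonoFrame ρ R b W f φ →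
    Cfsg.IsElementaryAbelian 2 R ∧ Nat.card ↥R = 4

/-- Shape of G5: four lines give the extraspecial group of order `32`. -/
def FourStmt : Prop :=
  ∀ {S : Type*} [Group S] [Finite S] {E : Type*} [AddCommGroup E]
    [Module (ZMod 3) E] [Finite E] (ρ : Representation (ZMod 3) S E)
    (R : Subgroup S) (b : S) (W : Submodule (ZMod 3) E) (x₁ x₂ x₃ : S) (e₁ e₂ e₃ : E)
    (f : Fin 4 → E) (φ : ↥(RB R b) → Equiv.Perm (Fin 4)),
    LinCtx ρ R b W → QData ρ R b W x₁ x₂ x₃ e₁ e₂ e₃ → MonoFrame ρ R b W f φ →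
    Cfsg.IsExtraspecial 2 ↥R ∧ Nat.card ↥R = 32 ∧
      ∃ A : Subgroup S, A ≤ R ∧ Cfsg.IsElementaryAbelian 2 A ∧ Nat.card ↥A = 8

universe u v

/-- GOOD block assembly. -/
theorem good_of (hF : FrameStmt.{u, v}) (hC : CardStmt.{u, v}) (h3 : ThreeStmt.{u, v})
    (h4 : FourStmt.{u, v}) : GoodStmt.{u, v} := by
  intro S _ _ E _ _ _ ρ R b W x₁ x₂ x₃ e₁ e₂ e₃ hL hQ hbad
  obtain ⟨n, f, φ, hM⟩ := hF ρ R b W x₁ x₂ x₃ e₁ e₂ e₃ hL hQ hbad
  rcases hC ρ R b W n f φ hL hM with rfl | rfl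
  · exact Or.inl (h3 ρ R b W x₁ x₂ x₃ e₁ e₂ e₃ f φ hL hQ hM)
  · exact Or.inr (h4 ρ R b W x₁ x₂ x₃ e₁ e₂ e₃ f φ hL hQ hM)

end Cfsg.Agent.Lib.H24.S4415G
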