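/-
S5673 project (orthogonal odd Aschbacher): the standard form `quadFormOdd` satisfies `OData`, transport of the
hypotheses along a reindexing (OS, OX0).  (helper24)
-/
import Cfsg.Agent.Lib.H24.AschOBasic
import Cfsg.Agent.Lib.H29.QuadOdd
import Cfsg.Agent.Lib.H11.ConfOrth1
import Cfsg.Agent.Lib.H20.AschM4b

set_option autoImplicit false

namespace Cfsg.Agent.Lib.H24.Asch

open Cfsg Cfsg.Geo Cfsg.Agent.Lib.Lead.Asch
open scoped MatrixGroups Matrix Kronecker

variable {F : Type*} [Field F] [Fintype F] {n : ℕ}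

/-- The determinant of a matrix with entries in a subfield lies in the subfield. -/
theorem det_mem_subfield {ι : Type} [Fintype ι] [DecidableEq ι] (K : Subfield F) (M : Matrix ι ι F)
    (h : ∀ i j, M i j ∈ K) : M.det ∈ K := by
  rw [Matrix.det_apply']
  refine K.sum_mem fun σ _ => ?_
  refine K.mul_mem ?_ (K.prod_mem fun i _ => h _ _)
  exact intCast_mem K _

section transport

variable {κ : Type} [Fintype κ] [DecidableEq κ]

/-- The form transported along a bijection of index types. -/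
def trQ (e : κ ≃ Fin n) (Q : (κ → F) → F) : (Fin n → F) → F := fun v => Q (v ∘ e)

theorem trQ_eq (e : κ ≃ Fin n) (Q : (κ → F) → F) :
    trQ e Q = fun v => Q (LinearEquiv.funCongrLeft F F e v) := rfl

theorem polar_trQ (e : κ ≃ Fin n) (Q : (κ → F) → F) (u v : Fin n → F) :
    QuadraticMap.polar (trQ e Q) u v = QuadraticMap.polar Q (u ∘ e) (v ∘ e) := by
  rw [trQ_eq, Cfsg.Agent.Lib.H20.Asch.polar_comp]
  rfl

theorem gram_trQ (e : κ ≃ Fin n) (Q : (κ → F) → F) :
    gramMatrix (QuadraticMap.polar (trQ e Q)) = Matrix.reindex e e (gramMatrix (QuadraticMap.polar Q)) := by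
  ext i j
  simp only [gramMatrix, Matrix.reindex_apply, Matrix.submatrix_apply]
  rw [polar_trQ]
  have h : ∀ i : Fin n, (Pi.single i (1 : F) : Fin n → F) ∘ e = Pi.single (e.symm i) 1 := by
    intro i
    funext a
    simp only [Function.comp_apply, Pi.single_apply]
    by_cases ha : a = e.symm i
    · rw [if_pos ha, if_pos (by rw [ha, Equiv.apply_symm_apply])]
    · rw [if_neg ha, if_neg (fun h' => ha (by rw [← h', Equiv.symm_apply_apply]))]
  rw [h, h]

/-- **OX0** the hypotheses transport. -/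
theorem OData.tr (e : κ ≃ Fin n) (Q : (κ → F) → F) (hQ : OData Q) : OData (trQ e Q) := by
  refine ⟨?_, hQ.qodd, ?_, ?_⟩
  · rw [trQ_eq]
    exact Cfsg.Agent.Lib.H20.Asch.quad_comp_equiv Q hQ.quad _
  · have := hQ.nodd
    rwa [Fintype.card_congr e] at this
  · rw [gram_trQ, Matrix.det_reindex_self]
    exact hQ.disc

theorem map_le_isometryGroup (e : κ ≃ Fin n) (Q : (κ → F) → F) (H : Subgroup (GL κ F))
    (hH : H ≤ isometryGroup F Q) :
    H.map (glReindex e).toMonoidHom ≤ isometryGroup F (trQ e Q) := by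
  rintro _ ⟨g, hg, rfl⟩
  exact (Cfsg.Agent.Lib.H11.IsoReindex.mem_tr_iff e Q g).2 (hH hg)

end transport

/-- **OS** the standard form: non-degenerate quadratic, discriminant in the prime field. -/
theorem oData_quadFormOdd (hodd : Odd (Fintype.card F)) (m : ℕ) : OData (quadFormOdd m F) := by
  refine ⟨Cfsg.Agent.Lib.H29.QuadOdd.isNondegenerateQuadraticForm m (two_ne_zero_of_odd hodd), hodd, ?_, ?_⟩
  · have : Fintype.card (Unit ⊕ (Fin m ⊕ Fin m)) = 2 * m + 1 := by simp; omega
    rw [this]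
    exact odd_two_mul_add_one m
  · refine ⟨_, ?_, 1, by rw [one_pow, mul_one]⟩
    apply det_mem_subfield
    intro a b
    show QuadraticMap.polar (quadFormOdd m F) (Pi.single a 1) (Pi.single b 1) ∈ (⊥ : Subfield F)
    rw [Cfsg.Agent.Lib.H29.QuadOdd.polar_quadFormOdd]
    have h1 : ∀ (a x : Unit ⊕ (Fin m ⊕ Fin m)), (Pi.single a (1 : F) : _ → F) x ∈ (⊥ : Subfield F) := by
      intro a x
      rw [Pi.single_apply]
      split_ifs
      · exact one_mem _
      · exact zero_mem _
    have h2 : (2 : F) ∈ (⊥ : Subfield F) := by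
      have : (2 : F) = 1 + 1 := by norm_num
      rw [this]
      exact add_mem (one_mem _) (one_mem _)
    refine add_mem (mul_mem (mul_mem h2 (h1 _ _)) (h1 _ _)) ?_
    exact Subfield.sum_mem _ fun i _ => add_mem (mul_mem (h1 _ _) (h1 _ _)) (mul_mem (h1 _ _) (h1 _ _))

theorem omegaGL_le_isometryGroup {ι : Type} [Fintype ι] [DecidableEq ι] (Q : (ι → F) → F) :
    omegaGL Q ≤ isometryGroup F Q :=
  Cfsg.Agent.Lib.H11.ConfOrth.omegaGL_le_iso Q

end Cfsg.Agent.Lib.H24.Asch
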