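import Mathlib
import Cfsg.Agent.Lib.H23.RVDefs
import Cfsg.Agent.Lib.H24.CharOrth
import Cfsg.Agent.Lib.L0.CharOps
import Cfsg.Agent.Lib.L0.CharInd
import Cfsg.Agent.Lib.L0.CharIndChar

/-!
# S4959 piece OINT (helper23 blueprint): calculus of `O`-integral functions (helper24)
-/

set_option autoImplicit false
set_option linter.style.haveILetI false

universe u

namespace Cfsg.Agent.Lib.H24.RV

open Cfsg Cfsg.Agent.Lib.H23 Cfsg.Agent.Lib.H23.RV
open Cfsg.Agent.Lib.L0
open scoped ComplexConjugate

section oint
variable {K : Type u} [Group K] [Finite K]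

/-- OINT-1. characters are `O`-integral. -/
theorem oInt_of_isCharacter {χ : K → ℂ} (hχ : IsCharacter K χ) : OInt K χ := by
  intro η hη
  letI := Fintype.ofFinite K
  obtain ⟨n, hn⟩ := classInner_char_char_nat hχ hη
  rw [hn]
  exact isIntegral_algebraMap (R := ℤ) (A := ℂ) (x := (n : ℤ)) |> fun h => by simpa using h

theorem oInt_add {θ₁ θ₂ : K → ℂ} (h₁ : OInt K θ₁) (h₂ : OInt K θ₂) : OInt K (θ₁ + θ₂) := by
  intro η hη
  letI := Fintype.ofFinite K
  rw [classInner_add_left]
  exact (h₁ η hη).add (h₂ η hη)

theorem oInt_smul {c : ℂ} (hc : IsIntegral ℤ c) {θ : K → ℂ} (h : OInt K θ) : OInt K (c • θ) := by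
  intro η hη
  letI := Fintype.ofFinite K
  rw [classInner_smul_left]
  exact hc.mul (h η hη)

theorem oInt_sum {ι : Type*} (s : Finset ι) (θ : ι → K → ℂ) (h : ∀ i ∈ s, OInt K (θ i)) :
    OInt K (∑ i ∈ s, θ i) := by
  intro η hη
  letI := Fintype.ofFinite K
  rw [classInner_sum_left]
  exact IsIntegral.sum _ (fun i hi => h i hi η hη)

/-- OINT-2. multiplying by a character keeps `O`-integrality. -/
theorem oInt_mul_char {θ χ : K → ℂ} (h : OInt K θ) (hχ : IsCharacter K χ) : OInt K (θ * χ) := by
  intro η hη
  have hchar : IsCharacter K ((fun g => conj (χ g)) * η) := isCharacter_mul (isCharacter_conj hχ) hη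
  have := h _ hchar
  convert this using 1
  unfold classInner
  congr 1
  refine Finset.sum_congr rfl fun g _ => ?_
  simp only [Pi.mul_apply, map_mul, Complex.conj_conj]
  ring

/-- OINT-3. the product of an `O`-integral class function and an `O`-integral function. -/
theorem oInt_mul {θ₁ θ₂ : K → ℂ} (hc₁ : IsClassFunction K θ₁) (h₁ : OInt K θ₁) (h₂ : OInt K θ₂) :
    OInt K (θ₁ * θ₂) := by
  classical
  letI := Fintype.ofFinite K
  letI := Fintype.ofFinite (IrrCharacter K)
  have hexp := Cfsg.Agent.Lib.H24.classFunction_expansion θ₁ hc₁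
  have heq : θ₁ * θ₂ = ∑ φ : IrrCharacter K,
      classInner θ₁ (φ : K → ℂ) • (θ₂ * (φ : K → ℂ)) := by
    conv_lhs => rw [hexp]
    rw [Finset.sum_mul]
    refine Finset.sum_congr rfl fun φ _ => ?_
    funext g
    simp only [Pi.mul_apply, Pi.smul_apply, smul_eq_mul]
    ring
  rw [heq]
  refine oInt_sum _ _ fun φ _ => ?_
  refine oInt_smul ?_ (oInt_mul_char h₂ (isCharacter_of_irr φ.2))
  have := h₁ _ (isCharacter_of_irr φ.2)
  convert this using 2

/-- OINT-4. Restriction of an `O`-integral class function to a subgroup is `O`-integral. -/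
theorem oInt_restrict {θ : K → ℂ} (hc : IsClassFunction K θ) (h : OInt K θ) (L : Subgroup K) :
    OInt L (fun x : L => θ x) := by
  classical
  intro η hη
  letI := Fintype.ofFinite K
  have hind : IsCharacter K (indFun L η) := isCharacter_indFun L hη
  have h1 := h _ hind
  have h2 : @classInner L _ (Fintype.ofFinite L) (fun x : L => θ x) η
      = classInner θ (indFun L η) := by
    letI := Fintype.ofFinite L
    rw [← classInner_conj_symm (indFun L η) θ, frobenius_reciprocity L η θ hc,
      classInner_conj_symm]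
  rw [h2]
  convert h1 using 2

/-- OINT-5. the value of an `O`-integral class function at any element is an algebraic integer. -/
theorem oInt_apply_isIntegral {θ : K → ℂ} (hc : IsClassFunction K θ) (h : OInt K θ) (g : K) :
    IsIntegral ℤ (θ g) := by
  classical
  letI := Fintype.ofFinite K
  letI := Fintype.ofFinite (IrrCharacter K)
  have hexp := Cfsg.Agent.Lib.H24.classFunction_expansion θ hc
  rw [hexp]
  simp only [Finset.sum_apply, Pi.smul_apply, smul_eq_mul]
  refine IsIntegral.sum _ fun φ _ => ?_
  refine IsIntegral.mul ?_ (isCharacter_isIntegral (isCharacter_of_irr φ.2) g)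
  have := h _ (isCharacter_of_irr φ.2)
  convert this using 2

end oint

end Cfsg.Agent.Lib.H24.RV
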