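import Mathlib
import Cfsg.Agent.Lib.H23.RVDefs
import Cfsg.Agent.Lib.H24.RVOINT
import Cfsg.Agent.Lib.L0.CharDecomp

/-!
# S4959 piece TRINT (helper23 blueprint): traces against an integral commuting operator (helper24)
-/

set_option autoImplicit false
set_option linter.style.haveILetI false

universe u

namespace Cfsg.Agent.Lib.H24.RV

open Cfsg Cfsg.Agent.Lib.H23 Cfsg.Agent.Lib.H23.RV
open Cfsg.Agent.Lib.L0
open scoped ComplexConjugate
open Set LinearMap

/-- TRINT.  `S = ⨁_μ E_μ(M)` (generalized eigenspaces), each `σ`-invariant; on `E_μ`,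
`M = μ + nilpotent` commuting with `σ g`, so `tr (M σ(g)) = ∑_μ μ · tr (σ g | E_μ)`. -/
theorem oInt_trace_mul {K : Type u} [Group K] [Finite K] {S : Type*} [AddCommGroup S] [Module ℂ S]
    [FiniteDimensional ℂ S] (σ : Representation ℂ K S) (M : Module.End ℂ S)
    (hcomm : ∀ g : K, M * σ g = σ g * M)
    (hM : ∀ μ : ℂ, M.HasEigenvalue μ → IsIntegral ℤ μ) :
    OInt K (fun g => LinearMap.trace ℂ S (M * σ g)) := by
  classical
  have hcommute : ∀ g, Commute M (σ g) := fun g => hcomm g
  have hds := DirectSum.isInternal_submodule_of_iSupIndep_of_iSup_eq_top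
      M.independent_maxGenEigenspace (Module.End.iSup_maxGenEigenspace_eq_top M)
  have h_fin : {μ | M.maxGenEigenspace μ ≠ ⊥}.Finite :=
      WellFoundedGT.finite_ne_bot_of_iSupIndep M.independent_maxGenEigenspace
  have hinv : ∀ μ (g : K), ∀ x ∈ M.maxGenEigenspace μ, σ g x ∈ M.maxGenEigenspace μ :=
    fun μ g => M.mapsTo_maxGenEigenspace_of_comm (hcommute g) μ
  have key : (fun g => LinearMap.trace ℂ S (M * σ g)) =
      ∑ μ ∈ h_fin.toFinset, μ • (subRep σ (M.maxGenEigenspace μ) (hinv μ)).character := by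
    funext g
    rw [hcomm g]
    have hfg : ∀ μ, MapsTo (σ g ∘ₗ M) (M.maxGenEigenspace μ) (M.maxGenEigenspace μ) :=
      fun μ => (M.mapsTo_maxGenEigenspace_of_comm (hcommute g) μ).comp
        (M.mapsTo_maxGenEigenspace_of_comm rfl μ)
    rw [Module.End.mul_eq_comp, LinearMap.trace_eq_sum_trace_restrict' hds h_fin hfg]
    simp only [Finset.sum_apply, Pi.smul_apply]
    refine Finset.sum_congr rfl fun μ _ => ?_
    have hf' := M.mapsTo_maxGenEigenspace_of_comm (Commute.refl _) μ
    have hg' := M.mapsTo_maxGenEigenspace_of_comm (hcommute g) μ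
    have h_comm : Commute ((σ g).restrict hg') (M.restrict hf') :=
      LinearMap.restrict_commute (hcommute g).symm _ _
    have hnil := M.isNilpotent_restrict_maxGenEigenspace_sub_algebraMap μ
    rw [LinearMap.restrict_comp hf' hg',
      LinearMap.trace_comp_eq_mul_of_commute_of_isNilpotent μ h_comm hnil]
    rfl
  rw [key]
  refine oInt_sum _ _ fun μ hμ => ?_
  refine oInt_smul ?_ (oInt_of_isCharacter (isCharacter_of_rep _))
  apply hM
  rw [Set.Finite.mem_toFinset] at hμ
  have h1 : M.HasUnifEigenvalue μ ⊤ := hμ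
  exact (Module.End.hasUnifEigenvalue_iff_hasUnifEigenvalue_one (by simp)).mp h1

end Cfsg.Agent.Lib.H24.RV
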