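import Mathlib
import Cfsg.Agent.Lib.H23.RVDefs
import Cfsg.Agent.Lib.H24.RVTRINT

/-!
# S4959 piece SYM-A (helper23 blueprint): the Gauss-sum function is `O`-integral (helper24)
-/

set_option autoImplicit false
set_option linter.style.haveILetI false

universe u

namespace Cfsg.Agent.Lib.H24.RV

open Cfsg Cfsg.Agent.Lib.H23 Cfsg.Agent.Lib.H23.RV
open scoped ComplexConjugate

/-- Eigenvalues of a complex matrix with algebraic-integer entries are algebraic integers. -/
theorem isIntegral_of_hasEigenvalue_toLin' {n : Type*} [Fintype n] [DecidableEq n]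
    (A : Matrix n n ℂ) (hA : ∀ i j, IsIntegral ℤ (A i j)) (μ : ℂ)
    (h : Module.End.HasEigenvalue (Matrix.toLin' A) μ) : IsIntegral ℤ μ := by
  let R := integralClosure ℤ ℂ
  let A₀ : Matrix n n R := fun i j => ⟨A i j, hA i j⟩
  have hmap : A = A₀.map (algebraMap R ℂ) := by
    ext i j
    rfl
  have hroot : A.charpoly.IsRoot μ := by
    rw [← Matrix.charpoly_toLin']
    exact (Module.End.hasEigenvalue_iff_isRoot_charpoly _ μ).mp h
  have hint : IsIntegral R μ := by
    refine ⟨A₀.charpoly, Matrix.charpoly_monic A₀, ?_⟩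
    rw [hmap, Matrix.charpoly_map, Polynomial.IsRoot.def, Polynomial.eval_map] at hroot
    exact hroot
  exact isIntegral_trans (R := ℤ) (A := R) μ hint

variable {p : ℕ} [Fact p.Prime]

theorem isIntegral_stdAddChar (a : ZMod p) : IsIntegral ℤ (ZMod.stdAddChar (N := p) a : ℂ) := by
  have hp : 0 < p := (Fact.out : p.Prime).pos
  refine IsIntegral.of_pow hp ?_
  rw [← AddChar.map_nsmul_eq_pow]
  have : p • a = 0 := by
    rw [nsmul_eq_mul]
    simp
  rw [this, AddChar.map_zero_eq_one]
  exact isIntegral_one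

/-- SYM-A.  `gaussPsi B ρ g = tr (M P_g)` on `S = (W → ℂ)`. -/
theorem gaussPsi_oInt {K : Type u} [Group K] [Finite K] {W : Type*} [AddCommGroup W]
    [Module (ZMod p) W] [Finite W] (ρ : Representation (ZMod p) K W)
    (B : LinearMap.BilinForm (ZMod p) W) (hinv : ∀ g x y, B (ρ g x) (ρ g y) = B x y) :
    OInt K (gaussPsi B ρ) := by
  classical
  letI := Fintype.ofFinite W
  -- the matrix `A` and the permutation matrices
  let A : Matrix W W ℂ := fun x w => (ZMod.stdAddChar (N := p) (B x w - B x x) : ℂ)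
  let P : K → Matrix W W ℂ := fun g x y => if x = ρ g y then 1 else 0
  have hρinv : ∀ (g : K) (x : W), ρ g (ρ g⁻¹ x) = x := fun g x => by
    rw [← Module.End.mul_apply, ← map_mul, mul_inv_cancel, map_one, Module.End.one_apply]
  have hρinv' : ∀ (g : K) (x : W), ρ g⁻¹ (ρ g x) = x := fun g x => by
    rw [← Module.End.mul_apply, ← map_mul, inv_mul_cancel, map_one, Module.End.one_apply]
  have hP1 : P 1 = 1 := by
    ext x y
    simp only [P, map_one, Module.End.one_apply, Matrix.one_apply]
  have hPmul : ∀ g h, P (g * h) = P g * P h := by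
    intro g h
    ext x z
    rw [Matrix.mul_apply]
    simp only [P, map_mul, Module.End.mul_apply]
    rw [Finset.sum_eq_single (ρ h z)]
    · simp
    · intro y _ hy
      rw [if_neg hy, mul_zero]
    · intro hh
      exact absurd (Finset.mem_univ _) hh
  have hAP : ∀ g x z, (A * P g) x z = A x (ρ g z) := by
    intro g x z
    rw [Matrix.mul_apply]
    simp only [P]
    rw [Finset.sum_eq_single (ρ g z)]
    · simp
    · intro y _ hy
      rw [if_neg hy, mul_zero]
    · intro hh
      exact absurd (Finset.mem_univ _) hh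
  have hPA : ∀ g x z, (P g * A) x z = A (ρ g⁻¹ x) z := by
    intro g x z
    rw [Matrix.mul_apply]
    simp only [P]
    rw [Finset.sum_eq_single (ρ g⁻¹ x)]
    · simp [hρinv]
    · intro y _ hy
      have : x ≠ ρ g y := by
        intro hxy
        apply hy
        rw [hxy, hρinv']
      rw [if_neg this, zero_mul]
    · intro hh
      exact absurd (Finset.mem_univ _) hh
  have hcommM : ∀ g, A * P g = P g * A := by
    intro g
    ext x z
    rw [hAP, hPA]
    simp only [A]
    have h1 : B (ρ g⁻¹ x) z = B x (ρ g z) := by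
      rw [← hinv g (ρ g⁻¹ x) z, hρinv]
    have h2 : B (ρ g⁻¹ x) (ρ g⁻¹ x) = B x x := hinv g⁻¹ x x
    rw [h1, h2]
  let σ : Representation ℂ K (W → ℂ) :=
    { toFun := fun g => Matrix.toLin' (P g)
      map_one' := by
        show Matrix.toLin' (P 1) = 1
        rw [hP1, Matrix.toLin'_one]
        rfl
      map_mul' := by
        intro g h
        show Matrix.toLin' (P (g * h)) = Matrix.toLin' (P g) * Matrix.toLin' (P h)
        rw [hPmul, Matrix.toLin'_mul]
        rfl }
  have hσ : ∀ g, σ g = Matrix.toLin' (P g) := fun g => rfl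
  let M : Module.End ℂ (W → ℂ) := Matrix.toLin' A
  have hcomm : ∀ g : K, M * σ g = σ g * M := by
    intro g
    rw [hσ]
    show Matrix.toLin' A * Matrix.toLin' (P g) = Matrix.toLin' (P g) * Matrix.toLin' A
    rw [Module.End.mul_eq_comp, Module.End.mul_eq_comp, ← Matrix.toLin'_mul, ← Matrix.toLin'_mul,
      hcommM]
  have hM : ∀ μ : ℂ, M.HasEigenvalue μ → IsIntegral ℤ μ := by
    intro μ hμ
    exact isIntegral_of_hasEigenvalue_toLin' A (fun i j => isIntegral_stdAddChar _) μ hμ
  have key := oInt_trace_mul σ M hcomm hM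
  have heq : (fun g => LinearMap.trace ℂ (W → ℂ) (M * σ g)) = gaussPsi B ρ := by
    funext g
    rw [hσ]
    show LinearMap.trace ℂ (W → ℂ) (Matrix.toLin' A * Matrix.toLin' (P g)) = _
    rw [Module.End.mul_eq_comp, ← Matrix.toLin'_mul, Matrix.trace_toLin'_eq, gaussPsi_eq_sum,
      Matrix.trace]
    refine Finset.sum_congr rfl fun x _ => ?_
    rw [Matrix.diag_apply, hAP]
    simp only [A]
    rw [(B x).map_sub]
  rw [← heq]
  exact key

end Cfsg.Agent.Lib.H24.RV
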