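import Cfsg.Agent.Lib.H24.GlaubFPF2

/-!
# Fixed-point-free cyclic coprime action: values of the canonical extension (helper24)

`fpf_core`: `G ⊴ Γ`, `S ≤ Γ` abelian with `C_G(x) = C` for all `1 ≠ x ∈ S`, `χh` an irreducible
character of `Γ` restricting irreducibly to `G` and Galois-stable on the cosets `C x`.  If
`χh (c x₀) = ε₀ β(c)` for some `x₀ ≠ 1` then `χh (c x) = ε β(c) μ(x)` for all `x ≠ 1`, with `μ` a
linear character of `S`, `μ² = 1`, and `χh|_C = |S| ϑ + ε β`.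
-/

set_option autoImplicit false

universe u

namespace Cfsg.Agent.Lib.H24.Glaub

open Cfsg Cfsg.Agent.Lib.L0 Cfsg.Agent.Lib.H23 Cfsg.Agent.Lib.H8 Cfsg.Agent.Lib.H24
open scoped ComplexConjugate

theorem coset_inner_values {C : Type*} [Group C] [Fintype C] (f : C → ℂ) (βx : IrrCharacter C)
    (εx : ℤ) (hf : ∀ c, f c = (εx : ℂ) * (βx : C → ℂ) c) (ξ : IrrCharacter C)
    [Decidable (βx = ξ)] :
    classInner f (ξ : C → ℂ) = (εx : ℂ) * (if βx = ξ then 1 else 0) := by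
  have h1 : f = (εx : ℂ) • (βx : C → ℂ) := funext hf
  rw [h1, classInner_smul_left]
  congr 1
  split_ifs with h
  · rw [← h]; exact irr_classInner_self βx.2
  · exact irr_classInner_ne βx.2 ξ.2 (fun h' => h (Subtype.ext h'))

theorem fpf_count {S : Type u} [Group S] [Fintype S] [DecidableEq S] [Fintype (IrrCharacter S)]
    (hcomm : ∀ a b : S, a * b = b * a) (m : IrrCharacter S → ℕ) (P : S → Prop) [DecidablePred P]
    (hA : ∀ x : S, x ≠ 1 → (∑ ψ : IrrCharacter S, (m ψ : ℂ) * (ψ : S → ℂ) x) *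
      conj (∑ ψ : IrrCharacter S, (m ψ : ℂ) * (ψ : S → ℂ) x) = if P x then 1 else 0) :
    (Nat.card S : ℤ) * ∑ ψ, (m ψ : ℤ) ^ 2 = (∑ ψ, (m ψ : ℤ)) ^ 2 +
      ((Finset.univ.filter (fun x : S => x ≠ 1 ∧ P x)).card : ℤ) := by
  classical
  set A : S → ℂ := fun x => ∑ ψ : IrrCharacter S, (m ψ : ℂ) * (ψ : S → ℂ) x with hAdef
  have hAeq : A = ∑ ψ : IrrCharacter S, (m ψ : ℂ) • (ψ : S → ℂ) := by
    funext x
    simp [hAdef, Finset.sum_apply]
  have h1 : classInner A A = ∑ ψ, (m ψ : ℂ) ^ 2 := by rw [hAeq]; exact parseval_nat m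
  have hA1 : A 1 = ((∑ ψ, m ψ : ℕ) : ℂ) := by
    simp only [hAdef]
    push_cast
    refine Finset.sum_congr rfl fun ψ _ => ?_
    rw [irr_apply_one_of_comm hcomm ψ, mul_one]
  have h2 : ∑ x : S, A x * conj (A x) = ((∑ ψ, m ψ : ℕ) : ℂ) ^ 2 +
      ((Finset.univ.filter (fun x : S => x ≠ 1 ∧ P x)).card : ℂ) := by
    rw [← Finset.add_sum_erase Finset.univ _ (Finset.mem_univ (1 : S)), hA1, Complex.conj_natCast,
      ← sq]
    congr 1
    rw [Finset.sum_congr rfl (fun x hx => hA x (Finset.ne_of_mem_erase hx))]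
    rw [Finset.sum_ite, Finset.sum_const_zero, add_zero, Finset.sum_const, nsmul_eq_mul, mul_one]
    congr 2
    ext x
    simp [Finset.mem_erase]
  unfold classInner at h1
  rw [h2] at h1
  have hn : (Nat.card S : ℂ) ≠ 0 := Nat.cast_ne_zero.mpr (Nat.card_pos (α := S)).ne'
  have h3 : ((∑ ψ, m ψ : ℕ) : ℂ) ^ 2 +
      ((Finset.univ.filter (fun x : S => x ≠ 1 ∧ P x)).card : ℂ) =
      (Nat.card S : ℂ) * ∑ ψ, (m ψ : ℂ) ^ 2 := by
    rw [← h1]
    field_simp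
  have h4 : (∑ ψ, m ψ) ^ 2 + (Finset.univ.filter (fun x : S => x ≠ 1 ∧ P x)).card =
      Nat.card S * ∑ ψ, (m ψ) ^ 2 := by exact_mod_cast h3
  have h5 := congrArg (Nat.cast : ℕ → ℤ) h4
  push_cast at h5
  linarith


variable {Γ : Type u} [Group Γ] [Fintype Γ]

/-- The multiplication map `C × S → Γ` for commuting subgroups. -/
def mulHomCS (C S : Subgroup Γ) (hcent : ∀ c ∈ C, ∀ x ∈ S, c * x = x * c) : C × S →* Γ :=
  C.subtype.noncommCoprod S.subtype (fun c x => hcent c c.2 x x.2)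

theorem fpf_core (G S C : Subgroup Γ) [hG : G.Normal] [Fintype G] [Fintype C] [Fintype S]
    [Fintype (IrrCharacter C)] [Fintype (IrrCharacter S)]
    (hcomm : ∀ a b : S, a * b = b * a)
    (hcent : ∀ c ∈ C, ∀ x ∈ S, c * x = x * c)
    (hCx : ∀ x ∈ S, x ≠ 1 → fixedSub G x = C)
    (hcop : (Nat.card G).Coprime (Nat.card S))
    {χh : Γ → ℂ} (h₁ : IsIrrCharacter Γ χh) (hirr : IsIrrCharacter G (fun n : G => χh n))
    (hgen : ∀ x ∈ S, ∀ k : ℕ, k.Coprime (orderOf x) → ∀ c ∈ C, χh (c * x ^ k) = χh (c * x))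
    (β : IrrCharacter C) (ε₀ : ℤ) (hε₀ : ε₀ = 1 ∨ ε₀ = -1) (x₀ : S) (hx₀ : x₀ ≠ 1)
    (hβ : ∀ c : C, χh ((c : Γ) * (x₀ : Γ)) = (ε₀ : ℂ) * (β : C → ℂ) c) :
    ∃ (ε : ℤ) (μ : IrrCharacter S) (k : IrrCharacter C → ℕ), (ε = 1 ∨ ε = -1) ∧
      (∀ x : S, (μ : S → ℂ) x * (μ : S → ℂ) x = 1) ∧
      (∀ c : C, ∀ x : S, x ≠ 1 →
        χh ((c : Γ) * (x : Γ)) = (ε : ℂ) * (β : C → ℂ) c * (μ : S → ℂ) x) ∧
      (∀ c : C, χh (c : Γ) =
        (Nat.card S : ℂ) * (∑ ξ : IrrCharacter C, (k ξ : ℂ) * (ξ : C → ℂ) c) +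
        (ε : ℂ) * (β : C → ℂ) c) := by
  classical
  -- step 1: values on each coset
  have key : ∀ x : S, ∃ (βx : IrrCharacter C) (εx : ℤ), (εx = 1 ∨ εx = -1) ∧
      (x ≠ 1 → ∀ c : C, χh ((c : Γ) * (x : Γ)) = (εx : ℂ) * (βx : C → ℂ) c) := by
    intro x
    by_cases hx : x = 1
    · exact ⟨β, 1, Or.inl rfl, fun h => absurd hx h⟩
    · have hx' : (x : Γ) ≠ 1 := fun h => hx (Subtype.ext h)
      have hc : (Nat.card G).Coprime (orderOf (x : Γ)) := by
        apply Nat.Coprime.coprime_dvd_right _ hcop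
        rw [Subgroup.orderOf_coe]
        exact orderOf_dvd_natCard x
      obtain ⟨βx, εx, hε, hb⟩ := exists_sign_irr_gen' C (hCx x x.2 hx') hc h₁ hirr (hgen x x.2)
      exact ⟨βx, εx, hε, fun _ => hb⟩
  choose B E hE hB using key
  -- step 2: decomposition on `C × S`
  set Ψ : C × S → ℂ := χh ∘ (mulHomCS C S hcent) with hΨ
  have hΨc : IsCharacter (C × S) Ψ := isCharacter_comp _ (isCharacter_of_irr h₁)
  have hdec : ∀ ξ : IrrCharacter C, ∃ m : IrrCharacter S → ℕ, ∀ x : S,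
      classInner (fun c : C => χh ((c : Γ) * (x : Γ))) (ξ : C → ℂ) =
        ∑ ψ : IrrCharacter S, (m ψ : ℂ) * (ψ : S → ℂ) x := by
    intro ξ
    obtain ⟨m, hm⟩ := exists_nat_decomp hcomm Ψ hΨc ξ ξ.2
    exact ⟨m, fun x => hm x⟩
  choose m hm using hdec
  -- step 3
  have hval : ∀ (ξ : IrrCharacter C) (x : S), x ≠ 1 →
      (∑ ψ : IrrCharacter S, (m ξ ψ : ℂ) * (ψ : S → ℂ) x) =
        (E x : ℂ) * (if B x = ξ then 1 else 0) := by
    intro ξ x hx
    rw [← hm ξ x]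
    exact coset_inner_values _ (B x) (E x) (hB x hx) ξ
  have hE2 : ∀ x, (E x : ℂ) * conj (E x : ℂ) = 1 := by
    intro x
    rcases hE x with h | h <;> rw [h] <;> simp
  have hE2' : ∀ x, (E x : ℂ) * (E x : ℂ) = 1 := by
    intro x
    rcases hE x with h | h <;> rw [h] <;> simp
  -- step 4
  have hcount : ∀ ξ : IrrCharacter C, (Nat.card S : ℤ) * ∑ ψ, (m ξ ψ : ℤ) ^ 2 =
      (∑ ψ, (m ξ ψ : ℤ)) ^ 2 +
        ((Finset.univ.filter (fun x : S => x ≠ 1 ∧ B x = ξ)).card : ℤ) := by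
    intro ξ
    apply fpf_count hcomm (m ξ) (fun x => B x = ξ)
    intro x hx
    rw [hval ξ x hx]
    split_ifs with h
    · rw [mul_one]; exact hE2 x
    · simp
  -- step 5
  have hn1 : 1 < Nat.card S := by
    rw [Nat.card_eq_fintype_card]
    exact Fintype.one_lt_card_iff.mpr ⟨x₀, 1, hx₀⟩
  have hn2 : 2 ≤ (Nat.card S : ℤ) := by exact_mod_cast hn1
  have hcardI : (Fintype.card (IrrCharacter S) : ℤ) = (Nat.card S : ℤ) := by
    rw [card_irr_of_comm hcomm]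
  have hsub : ∀ ξ, (Finset.univ.filter (fun x : S => x ≠ 1 ∧ B x = ξ)) ⊆
      Finset.univ.erase (1 : S) := by
    intro ξ x hx
    rw [Finset.mem_filter] at hx
    exact Finset.mem_erase.mpr ⟨hx.2.1, Finset.mem_univ _⟩
  have hcard_erase : (Finset.univ.erase (1 : S)).card = Nat.card S - 1 := by
    rw [Finset.card_erase_of_mem (Finset.mem_univ _), Finset.card_univ,
      ← Nat.card_eq_fintype_card]
  have hNle : ∀ ξ, ((Finset.univ.filter (fun x : S => x ≠ 1 ∧ B x = ξ)).card : ℤ) ≤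
      (Nat.card S : ℤ) - 1 := by
    intro ξ
    have h1 := Finset.card_le_card (hsub ξ)
    rw [hcard_erase] at h1
    omega
  -- step 6
  have hBx₀ : B x₀ = β := by
    have h1 : ∀ c : C, ((E x₀ : ℤ) : ℂ) * (B x₀ : C → ℂ) c = (ε₀ : ℂ) * (β : C → ℂ) c := by
      intro c
      rw [← hB x₀ hx₀ c, hβ c]
    exact (sign_irr_unique (B x₀) β (E x₀) ε₀ (hE x₀) hε₀ h1).1
  have hNβ_pos : (Finset.univ.filter (fun x : S => x ≠ 1 ∧ B x = β)).card ≠ 0 := by
    rw [Finset.card_ne_zero]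
    exact ⟨x₀, Finset.mem_filter.mpr ⟨Finset.mem_univ _, hx₀, hBx₀⟩⟩
  rcases int_config (fun ψ => (m β ψ : ℤ)) (Nat.card S) _ hcardI hn2 (by positivity) (hNle β)
    (hcount β) with ⟨h0, _⟩ | ⟨hN, μ, ε, hε, hstruct⟩
  · exfalso
    exact hNβ_pos (by exact_mod_cast h0)
  have hall : ∀ x : S, x ≠ 1 → B x = β := by
    have h1 : (Finset.univ.filter (fun x : S => x ≠ 1 ∧ B x = β)) = Finset.univ.erase (1 : S) := by
      apply Finset.eq_of_subset_of_card_le (hsub β)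
      rw [hcard_erase]
      omega
    intro x hx
    have h2 : x ∈ Finset.univ.erase (1 : S) := Finset.mem_erase.mpr ⟨hx, Finset.mem_univ _⟩
    rw [← h1, Finset.mem_filter] at h2
    exact h2.2.2
  have hnC : (Nat.card S : ℂ) ≠ 0 := Nat.cast_ne_zero.mpr (Nat.card_pos (α := S)).ne'
  have hεC : (ε : ℂ) * (ε : ℂ) = 1 := by
    rcases hε with h | h <;> rw [h] <;> simp
  -- the multiplicities in complex form
  have hstructC : ∀ ψ : IrrCharacter S, (Nat.card S : ℂ) * (m β ψ : ℂ) =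
      ((∑ j, (m β j : ℂ)) - (ε : ℂ)) + (if ψ = μ then (Nat.card S : ℂ) * (ε : ℂ) else 0) := by
    intro ψ
    have h4 := congrArg (Int.cast : ℤ → ℂ) (hstruct ψ)
    push_cast at h4
    rw [h4]
  -- step 8
  have hEμ : ∀ x : S, x ≠ 1 → (E x : ℂ) = (ε : ℂ) * (μ : S → ℂ) x := by
    intro x hx
    have h1 := hval β x hx
    rw [if_pos (hall x hx), mul_one] at h1
    have h2 : (Nat.card S : ℂ) * ∑ ψ : IrrCharacter S, (m β ψ : ℂ) * (ψ : S → ℂ) x =
        (Nat.card S : ℂ) * ((ε : ℂ) * (μ : S → ℂ) x) := by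
      rw [Finset.mul_sum]
      have h3 : ∀ ψ : IrrCharacter S, (Nat.card S : ℂ) * ((m β ψ : ℂ) * (ψ : S → ℂ) x) =
          ((∑ j, (m β j : ℂ)) - (ε : ℂ)) * (ψ : S → ℂ) x +
          (if ψ = μ then (Nat.card S : ℂ) * (ε : ℂ) * (ψ : S → ℂ) x else 0) := by
        intro ψ
        rw [← mul_assoc, hstructC ψ, add_mul]
        split_ifs <;> simp
      rw [Finset.sum_congr rfl (fun ψ _ => h3 ψ), Finset.sum_add_distrib, ← Finset.mul_sum,
        sum_irr_apply_of_ne_one hcomm hx, mul_zero, zero_add, Finset.sum_ite_eq' Finset.univ μ,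
        if_pos (Finset.mem_univ μ), mul_assoc]
    rw [← h1]
    exact mul_left_cancel₀ hnC h2
  have hμ1 : (μ : S → ℂ) 1 = 1 := irr_apply_one_of_comm hcomm μ
  -- step 10 data
  have he : ∀ ξ : IrrCharacter C, classInner (fun c : C => χh (c : Γ)) (ξ : C → ℂ) =
      ∑ ψ : IrrCharacter S, (m ξ ψ : ℂ) := by
    intro ξ
    have h1 := hm ξ 1
    have h2 : (fun c : C => χh ((c : Γ) * ((1 : S) : Γ))) = fun c : C => χh (c : Γ) := by
      funext c
      rw [Subgroup.coe_one, mul_one]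
    rw [h2] at h1
    rw [h1]
    refine Finset.sum_congr rfl fun ψ _ => ?_
    rw [irr_apply_one_of_comm hcomm ψ, mul_one]
  obtain ⟨ψ₁, hψ₁⟩ : ∃ ψ₁ : IrrCharacter S, ψ₁ ≠ μ := by
    apply Fintype.exists_ne_of_one_lt_card
    rw [card_irr_of_comm hcomm]
    exact hn1
  have hother : ∀ ξ : IrrCharacter C, ξ ≠ β →
      (Nat.card S : ℂ) * (m ξ μ : ℂ) = ∑ ψ : IrrCharacter S, (m ξ ψ : ℂ) := by
    intro ξ hξ
    have h0 : (Finset.univ.filter (fun x : S => x ≠ 1 ∧ B x = ξ)).card = 0 := by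
      rw [Finset.card_eq_zero, Finset.filter_eq_empty_iff]
      intro x _ hx
      exact hξ (hx.2.symm.trans (hall x hx.1))
    rcases int_config (fun ψ => (m ξ ψ : ℤ)) (Nat.card S) _ hcardI hn2 (by positivity) (hNle ξ)
      (hcount ξ) with ⟨_, h1⟩ | ⟨hN', _⟩
    · have h2 := congrArg (Int.cast : ℤ → ℂ) (h1 μ)
      push_cast at h2
      exact h2
    · exfalso
      rw [h0] at hN'
      push_cast at hN'
      omega
  have hβmult : (Nat.card S : ℂ) * (m β ψ₁ : ℂ) + (ε : ℂ) = ∑ ψ : IrrCharacter S, (m β ψ : ℂ) := by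
    have h1 := hstructC ψ₁
    rw [if_neg hψ₁, add_zero] at h1
    rw [h1]
    ring
  refine ⟨ε, μ, fun ξ => if ξ = β then m β ψ₁ else m ξ μ, hε, ?_, ?_, ?_⟩
  · intro x
    by_cases hx : x = 1
    · rw [hx, hμ1, mul_one]
    · have h1 := hE2' x
      rw [hEμ x hx] at h1
      calc (μ : S → ℂ) x * (μ : S → ℂ) x
          = ((ε : ℂ) * (ε : ℂ)) * ((μ : S → ℂ) x * (μ : S → ℂ) x) := by rw [hεC, one_mul]
        _ = 1 := by rw [← h1]; ring
  · intro c x hx
    rw [hB x hx c, hall x hx, hEμ x hx]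
    ring
  · intro c
    have hcf : IsClassFunction C (fun c : C => χh (c : Γ)) :=
      isClassFunction_of_isCharacter
        (isCharacter_restrict C (isCharacter_of_irr h₁))
    have hexp := congrFun (classFunction_expansion (fun c : C => χh (c : Γ)) hcf) c
    rw [Finset.sum_apply] at hexp
    rw [hexp, Finset.mul_sum]
    have h3 : ∀ ξ : IrrCharacter C,
        (classInner (fun c : C => χh (c : Γ)) (ξ : C → ℂ) • (ξ : C → ℂ)) c =
        (Nat.card S : ℂ) * (((if ξ = β then m β ψ₁ else m ξ μ : ℕ) : ℂ) * (ξ : C → ℂ) c) +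
        (if ξ = β then (ε : ℂ) * (ξ : C → ℂ) c else 0) := by
      intro ξ
      rw [Pi.smul_apply, smul_eq_mul, he ξ]
      by_cases hξ : ξ = β
      · rw [if_pos hξ, if_pos hξ, hξ, ← hβmult]
        ring
      · rw [if_neg hξ, if_neg hξ, ← hother ξ hξ]
        ring
    rw [Finset.sum_congr rfl (fun ξ _ => h3 ξ), Finset.sum_add_distrib,
      Finset.sum_ite_eq' Finset.univ β, if_pos (Finset.mem_univ β)]

end Cfsg.Agent.Lib.H24.Glaub
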