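import Mathlib
import Cfsg.Agent.Lib.H24.Anchors
import Cfsg.Agent.Lib.H24.CentralMod
import Cfsg.Agent.Lib.H24.CharOrth
import Cfsg.Agent.Lib.H24.CharAbelian
import Cfsg.Agent.Lib.H23.CliffordCorr
import Cfsg.Agent.Lib.H23.Ito
import Cfsg.Agent.Lib.H23.ClassBound
import Cfsg.Agent.Lib.H10.PGroup
import Cfsg.Agent.Lib.L0.CharLinear

/-!
# `p`-groups with character degrees `1` and `p` (Isaacs 12.11, helper24's library)

The main result `index_center_eq_of_cdOneP`: a nonabelian `p`-group all of whose irreducible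
characters have degree `1` or `p`, and which has no abelian subgroup of index `p`, has centre of
index `p ^ 3`.
-/

set_option autoImplicit false

namespace Cfsg.Agent.Lib.H24

open scoped ComplexConjugate
open Cfsg Cfsg.Agent.Lib.L0 Cfsg.Agent.Lib.H23
open scoped commutatorElement

/-- All irreducible characters have degree `1` or `p`. -/
def CdOneP (G : Type*) [Group G] (p : ℕ) : Prop :=
  ∀ χ : G → ℂ, IsIrrCharacter G χ → χ 1 = 1 ∨ χ 1 = (p : ℂ)

section A1

variable {G : Type*} [Group G] [Fintype G] {p : ℕ}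

/-- A character of a normal subgroup of index `p` that is not invariant is linear, when all
degrees of `G` are `1` or `p`. -/
theorem linear_of_not_invariant (hp : p.Prime) (hcd : CdOneP G p) (M : Subgroup G) [hM : M.Normal]
    [Fintype M] (hidx : M.index = p) (ψ : M → ℂ) (hψ : IsIrrCharacter M ψ) (g : G) (n : M)
    (hne : ψ ⟨g * n * g⁻¹, hM.conj_mem n n.2 g⟩ ≠ ψ n) : ψ 1 = 1 := by
  classical
  have hMT : M ≤ inertia M ψ := le_inertia M (isClassFunction_of_isCharacter (isCharacter_of_irr hψ))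
  have hgT : g ∉ inertia M ψ := fun h => hne (h n)
  have hTM : inertia M ψ ≤ M := by
    have h1 : M.relIndex (inertia M ψ) * (inertia M ψ).index = p := by
      rw [Subgroup.relIndex_mul_index hMT, hidx]
    have h2 : (inertia M ψ).index ∣ p := Dvd.intro_left _ h1
    rcases (Nat.dvd_prime hp).mp h2 with h3 | h3
    · exfalso
      rw [Subgroup.index_eq_one] at h3
      exact hgT (h3 ▸ Subgroup.mem_top g)
    · rw [h3] at h1
      have h4 : M.relIndex (inertia M ψ) = 1 := by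
        have := hp.pos
        nlinarith
      exact Subgroup.relIndex_eq_one.mp h4
  have hT : ∀ x : G, x ∈ M ↔ ∀ n : M, ψ ⟨x * n * x⁻¹, hM.conj_mem (n : G) n.2 x⟩ = ψ n := by
    intro x
    constructor
    · intro hx; exact hMT hx
    · intro hx; exact hTM hx
  have hf : classInner (resTo M M le_rfl ψ) ψ ≠ 0 := by
    have : resTo M M le_rfl ψ = ψ := rfl
    rw [this, irr_classInner_self hψ]
    exact one_ne_zero
  obtain ⟨hirr, -⟩ := isIrrCharacter_indFun_inertia M M le_rfl ψ hψ hT ψ hψ hf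
  have h1 := hcd _ hirr
  rw [Cfsg.Agent.Lib.H24.indFun_one, hidx] at h1
  obtain ⟨d, hd, hd1⟩ := irr_one_eq ⟨ψ, hψ⟩
  simp only at hd1
  rw [hd1] at h1 ⊢
  rcases h1 with h1 | h1
  · exfalso
    have h2 : p * d = 1 := by exact_mod_cast h1
    have := hp.two_le
    have : p = 1 := Nat.eq_one_of_mul_eq_one_right h2
    omega
  · have h2 : p * d = p := by exact_mod_cast h1
    have h3 : d = 1 := by
      have := hp.pos
      nlinarith
    rw [h3]; simp

end A1

section PGroup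

variable {G : Type*} [Group G] [Finite G] {p : ℕ}

/-- Subgroups of index `p` in a `p`-group are normal. -/
theorem normal_of_index_eq_of_isPGroup (hp : p.Prime) (hG : IsPGroup p G) (M : Subgroup G)
    (hidx : M.index = p) : M.Normal := by
  haveI : Fact p.Prime := ⟨hp⟩
  obtain ⟨n, hn⟩ := IsPGroup.iff_card.mp hG
  have hn0 : n ≠ 0 := by
    rintro rfl
    have h1 : M.index ∣ Nat.card G := Subgroup.index_dvd_card M
    rw [hn, hidx, pow_zero, Nat.dvd_one] at h1
    exact hp.one_lt.ne' h1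
  apply Subgroup.normal_of_index_eq_minFac_card
  rw [hidx, hn, hp.pow_minFac hn0]

end PGroup

section StepI

variable {G : Type*} [Group G] [Finite G] {p : ℕ}

/-- A linear character is trivial on the commutator subgroup. -/
theorem linear_apply_of_mem_commutator {ψ : G → ℂ} (hψ : IsCharacter G ψ) (h1 : ψ 1 = 1) {y : G}
    (hy : y ∈ commutator G) : ψ y = 1 := by
  have h2 : y ∈ (linearCharHom hψ h1).ker := Abelianization.commutator_subset_ker _ hy
  rw [MonoidHom.mem_ker] at h2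
  have h3 := congrArg (fun u : ℂˣ => (u : ℂ)) h2
  simpa [linearCharHom_apply] using h3

/-- Step (I): the centre of a nonabelian subgroup of index `p` is central in `G`. -/
theorem mem_center_of_index_eq (hp : p.Prime) (hG : IsPGroup p G) (hcd : CdOneP G p)
    (M : Subgroup G) (hidx : M.index = p) (hnab : ∃ a ∈ M, ∃ b ∈ M, a * b ≠ b * a) (z : G)
    (hzM : z ∈ M) (hz : ∀ m ∈ M, m * z = z * m) : z ∈ Subgroup.center G := by
  classical
  haveI : Fact p.Prime := ⟨hp⟩
  have := Fintype.ofFinite G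
  have := Fintype.ofFinite M
  haveI hM : M.Normal := normal_of_index_eq_of_isPGroup hp hG M hidx
  rw [Subgroup.mem_center_iff]
  by_contra hcon
  push Not at hcon
  obtain ⟨g, hg⟩ := hcon
  have hgz : g * z * g⁻¹ ∈ M := hM.conj_mem z hzM g
  have hcM : g * z * g⁻¹ * z⁻¹ ∈ M := M.mul_mem hgz (M.inv_mem hzM)
  have hc1 : (⟨g * z * g⁻¹ * z⁻¹, hcM⟩ : M) ≠ 1 := by
    intro h
    have h1 : g * z * g⁻¹ * z⁻¹ = 1 := congrArg Subtype.val h
    apply hg
    have h2 : g * z = (g * z * g⁻¹ * z⁻¹) * (z * g) := by group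
    rw [h2, h1, one_mul]
  have hgzc : ∀ m ∈ M, m * (g * z * g⁻¹) = (g * z * g⁻¹) * m := by
    intro m hm
    have h1 := hz (g⁻¹ * m * g) (by simpa using hM.conj_mem m hm g⁻¹)
    calc m * (g * z * g⁻¹) = g * ((g⁻¹ * m * g) * z) * g⁻¹ := by group
      _ = g * (z * (g⁻¹ * m * g)) * g⁻¹ := by rw [h1]
      _ = _ := by group
  have hzi : ∀ m ∈ M, m * z⁻¹ = z⁻¹ * m := by
    intro m hm
    have h1 := hz m hm
    calc m * z⁻¹ = z⁻¹ * (z * m) * z⁻¹ := by group
      _ = z⁻¹ * (m * z) * z⁻¹ := by rw [h1]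
      _ = _ := by group
  have hcc : ∀ m ∈ M, m * (g * z * g⁻¹ * z⁻¹) = (g * z * g⁻¹ * z⁻¹) * m := by
    intro m hm
    rw [← mul_assoc, hgzc m hm, mul_assoc, hzi m hm, ← mul_assoc]
  have hMp : IsPGroup p M := hG.to_subgroup M
  have hcomm_ne : commutator M ≠ ⊥ := by
    intro h
    obtain ⟨a, ha, b, hb, hab⟩ := hnab
    apply hab
    have h1 : ⁅(⟨a, ha⟩ : M), ⟨b, hb⟩⁆ ∈ commutator M :=
      Subgroup.commutator_mem_commutator (Subgroup.mem_top _) (Subgroup.mem_top _)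
    rw [h, Subgroup.mem_bot, commutatorElement_eq_one_iff_mul_comm] at h1
    exact congrArg Subtype.val h1
  obtain ⟨y, hyc, hy1, -⟩ :=
    Cfsg.Agent.Lib.H10.exists_ne_one_mem_center_of_normal hMp (commutator M) hcomm_ne
  obtain ⟨ψ, hψc, hψy⟩ := exists_irr_two_not_ker hc1 hy1
  have hnl : (ψ : M → ℂ) 1 ≠ 1 := by
    intro h1
    apply hψy
    rw [linear_apply_of_mem_commutator (isCharacter_of_irr ψ.2) h1 hyc, h1]
  have hinv : ∀ (x : G) (n : M), (ψ : M → ℂ) ⟨x * n * x⁻¹, hM.conj_mem n n.2 x⟩ = (ψ : M → ℂ) n := by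
    intro x n
    by_contra hne
    exact hnl (linear_of_not_invariant hp hcd M hidx ψ.1 ψ.2 x n hne)
  have hzc : ∀ m : M, (ψ : M → ℂ) ((⟨z, hzM⟩ : M) * m * (⟨z, hzM⟩ : M)⁻¹ * m⁻¹) =
      (ψ : M → ℂ) 1 := by
    intro m
    refine congrArg (ψ : M → ℂ) (Subtype.ext ?_)
    show z * m * z⁻¹ * (m : G)⁻¹ = 1
    rw [← hz m m.2]; group
  have hcc' : ∀ m : M, (ψ : M → ℂ) ((⟨g * z * g⁻¹ * z⁻¹, hcM⟩ : M) * m *
      (⟨g * z * g⁻¹ * z⁻¹, hcM⟩ : M)⁻¹ * m⁻¹) = (ψ : M → ℂ) 1 := by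
    intro m
    refine congrArg (ψ : M → ℂ) (Subtype.ext ?_)
    show (g * z * g⁻¹ * z⁻¹) * m * (g * z * g⁻¹ * z⁻¹)⁻¹ * (m : G)⁻¹ = 1
    rw [← hcc m m.2]; group
  have hzne : (ψ : M → ℂ) ⟨z, hzM⟩ ≠ 0 := apply_ne_zero_of_commutator_ker ψ.2 _ hzc
  have hmul : (ψ : M → ℂ) ((⟨g * z * g⁻¹ * z⁻¹, hcM⟩ : M) * ⟨z, hzM⟩) = (ψ : M → ℂ) ⟨z, hzM⟩ := by
    rw [← hinv g ⟨z, hzM⟩]
    refine congrArg (ψ : M → ℂ) (Subtype.ext ?_)
    show g * z * g⁻¹ * z⁻¹ * z = g * z * g⁻¹
    group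
  exact hψc (apply_eq_one_of_mul_eq ψ.2 _ hcc' hzne hmul)

/-- Step (II a): noncentral elements have centralizers of index at least `p ^ 2`. -/
theorem sq_mul_card_centralizer_le (hp : p.Prime) (hG : IsPGroup p G) (hcd : CdOneP G p)
    (hnab : ∀ M : Subgroup G, M.index = p → ∃ a ∈ M, ∃ b ∈ M, a * b ≠ b * a) (x : G)
    (hx : x ∉ Subgroup.center G) :
    p ^ 2 * Nat.card (Subgroup.centralizer ({x} : Set G)) ≤ Nat.card G := by
  haveI : Fact p.Prime := ⟨hp⟩
  set C := Subgroup.centralizer ({x} : Set G) with hC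
  obtain ⟨j, hj⟩ := hG.index C
  have hxC : x ∈ C := by
    rw [hC, Subgroup.mem_centralizer_iff]
    intro h hh
    rw [Set.mem_singleton_iff] at hh
    rw [hh]
  have hCx : ∀ m ∈ C, m * x = x * m := by
    intro m hm
    rw [hC, Subgroup.mem_centralizer_iff] at hm
    exact (hm x rfl).symm
  have hj2 : 2 ≤ j := by
    by_contra hlt
    push Not at hlt
    interval_cases j
    · rw [pow_zero, Subgroup.index_eq_one] at hj
      apply hx
      rw [Subgroup.mem_center_iff]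
      intro g
      exact hCx g (hj ▸ Subgroup.mem_top g)
    · rw [pow_one] at hj
      exact hx (mem_center_of_index_eq hp hG hcd C hj (hnab C hj) x hxC hCx)
  have h1 : C.index * Nat.card C = Nat.card G := by
    rw [mul_comm]; exact Subgroup.card_mul_index C
  rw [← h1, hj]
  apply Nat.mul_le_mul_right
  exact Nat.pow_le_pow_right hp.pos hj2

end StepI

section StepII

variable {G : Type*} [Group G] [Finite G] {p : ℕ}

/-- The number of commuting pairs as a sum of centralizer orders. -/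
theorem card_commute_eq_sum [Fintype G] :
    Nat.card { q : G × G // Commute q.1 q.2 } =
      ∑ x : G, Nat.card (Subgroup.centralizer ({x} : Set G)) := by
  classical
  rw [Nat.card_congr (Equiv.subtypeProdEquivSigmaSubtype Commute), Nat.card_sigma]
  refine Finset.sum_congr rfl (fun x _ => ?_)
  apply Nat.card_congr
  refine Equiv.subtypeEquivRight (fun y => ?_)
  rw [Subgroup.mem_centralizer_iff]
  constructor
  · intro h z hz
    rw [Set.mem_singleton_iff] at hz
    rw [hz]; exact h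
  · intro h
    exact h x rfl

/-- Step (II b): counting classes and characters, `|G : G'| ≤ |Z(G)|`. -/
theorem index_commutator_le_card_center (hp : p.Prime) (hcd : CdOneP G p)
    (hcl : ∀ x : G, x ∉ Subgroup.center G →
      p ^ 2 * Nat.card (Subgroup.centralizer ({x} : Set G)) ≤ Nat.card G) :
    (commutator G).index ≤ Nat.card (Subgroup.center G) := by
  classical
  have := Fintype.ofFinite G
  have := Fintype.ofFinite (IrrCharacter G)
  set n := Nat.card G with hn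
  set z := Nat.card (Subgroup.center G) with hz
  set L := (commutator G).index with hL
  set k := Nat.card (IrrCharacter G) with hk
  -- (E1)
  set m := (Finset.univ.filter (fun χ : IrrCharacter G => ¬ (χ : G → ℂ) 1 = 1)).card with hm
  have hLcard : (Finset.univ.filter (fun χ : IrrCharacter G => (χ : G → ℂ) 1 = 1)).card = L := by
    rw [hL, ← card_linear_irr, Nat.card_eq_fintype_card, Fintype.card_subtype]
  have hkLm : L + m = k := by
    rw [← hLcard, hm, hk, Nat.card_eq_fintype_card, ← Finset.card_univ]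
    exact Finset.card_filter_add_card_filter_not _
  have hE1 : (n : ℂ) = L + p ^ 2 * m := by
    rw [hn, ← sum_irr_one_sq,
      ← Finset.sum_filter_add_sum_filter_not Finset.univ (fun χ : IrrCharacter G => (χ : G → ℂ) 1 = 1)]
    congr 1
    · rw [← hLcard, Finset.card_eq_sum_ones]
      push_cast
      refine Finset.sum_congr rfl (fun χ hχ => ?_)
      rw [(Finset.mem_filter.mp hχ).2]; ring
    · rw [hm, Finset.card_eq_sum_ones]
      push_cast
      rw [Finset.mul_sum]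
      refine Finset.sum_congr rfl (fun χ hχ => ?_)
      rcases hcd _ χ.2 with h | h
      · exact absurd h (Finset.mem_filter.mp hχ).2
      · rw [h]; ring
  have hE1' : n = L + p ^ 2 * m := by exact_mod_cast hE1
  -- (E2)
  have hE2 : p ^ 2 * (k * n) ≤ z * (p ^ 2 * n) + (n - z) * n := by
    have h1 : k * n = ∑ x : G, Nat.card (Subgroup.centralizer ({x} : Set G)) := by
      rw [← card_commute_eq_sum, card_comm_eq_card_conjClasses_mul_card, hk,
        card_irr_eq_card_conjClasses]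
    rw [h1, Finset.mul_sum]
    have h2 : ∀ x : G, p ^ 2 * Nat.card (Subgroup.centralizer ({x} : Set G)) ≤
        if x ∈ Subgroup.center G then p ^ 2 * n else n := by
      intro x
      split_ifs with hx
      · apply Nat.mul_le_mul_left
        exact Nat.card_le_card_of_injective _ (Subgroup.subtype_injective _)
      · exact hcl x hx
    refine (Finset.sum_le_sum (fun x _ => h2 x)).trans ?_
    rw [Finset.sum_ite, Finset.sum_const, Finset.sum_const, smul_eq_mul, smul_eq_mul]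
    have h3 : (Finset.univ.filter (fun x : G => x ∈ Subgroup.center G)).card = z := by
      rw [hz, Nat.card_eq_fintype_card, Fintype.card_subtype]
    have h4 : (Finset.univ.filter (fun x : G => ¬ x ∈ Subgroup.center G)).card = n - z := by
      have := Finset.card_filter_add_card_filter_not (s := (Finset.univ : Finset G))
        (fun x : G => x ∈ Subgroup.center G)
      rw [h3, Finset.card_univ, ← Nat.card_eq_fintype_card] at this
      omega
    rw [h3, h4]
  have hzn : z ≤ n := Nat.card_le_card_of_injective _ (Subgroup.subtype_injective _)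
  have hn0 : 0 < n := Nat.card_pos
  have hp2 : 2 ≤ p := hp.two_le
  -- conclude
  by_contra hlt
  push Not at hlt
  have h5 : p ^ 2 * k ≤ z * p ^ 2 + (n - z) := by
    have : (p ^ 2 * k) * n ≤ (z * p ^ 2 + (n - z)) * n := by
      calc (p ^ 2 * k) * n = p ^ 2 * (k * n) := by ring
        _ ≤ z * (p ^ 2 * n) + (n - z) * n := hE2
        _ = (z * p ^ 2 + (n - z)) * n := by ring
    exact Nat.le_of_mul_le_mul_right this hn0
  have h6 : p ^ 2 * k = n + (p ^ 2 - 1) * L := by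
    rw [← hkLm, hE1']
    have : 1 ≤ p ^ 2 := Nat.one_le_pow _ _ hp.pos
    zify [this]
    ring
  have h7 : z * p ^ 2 + (n - z) = n + (p ^ 2 - 1) * z := by
    have : 1 ≤ p ^ 2 := Nat.one_le_pow _ _ hp.pos
    zify [this, hzn]
    ring
  rw [h6, h7] at h5
  have h8 : (p ^ 2 - 1) * L ≤ (p ^ 2 - 1) * z := by omega
  have h9 : 0 < p ^ 2 - 1 := by
    have : 4 ≤ p ^ 2 := by nlinarith
    omega
  have := Nat.le_of_mul_le_mul_left h8 h9
  omega

end StepII

section StepV

variable {G : Type*} [Group G]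

/-- The commutator homomorphism `g ↦ [a, g]` for `a` in the second centre. -/
def commHom (a : G) (ha : ∀ g : G, a * g * a⁻¹ * g⁻¹ ∈ Subgroup.center G) :
    G →* Subgroup.center G :=
  MonoidHom.mk' (fun g => ⟨a * g * a⁻¹ * g⁻¹, ha g⟩) (by
    intro g h
    apply Subtype.ext
    show a * (g * h) * a⁻¹ * (g * h)⁻¹ = (a * g * a⁻¹ * g⁻¹) * (a * h * a⁻¹ * h⁻¹)
    have hc := Subgroup.mem_center_iff.mp (ha h) g⁻¹
    calc a * (g * h) * a⁻¹ * (g * h)⁻¹
        = a * g * a⁻¹ * ((a * h * a⁻¹ * h⁻¹) * g⁻¹) := by group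
      _ = a * g * a⁻¹ * (g⁻¹ * (a * h * a⁻¹ * h⁻¹)) := by rw [hc]
      _ = _ := by group)

theorem commHom_apply (a : G) (ha : ∀ g : G, a * g * a⁻¹ * g⁻¹ ∈ Subgroup.center G) (g : G) :
    ((commHom a ha g : Subgroup.center G) : G) = a * g * a⁻¹ * g⁻¹ := rfl

theorem mem_ker_commHom (a : G) (ha : ∀ g : G, a * g * a⁻¹ * g⁻¹ ∈ Subgroup.center G) (g : G) :
    g ∈ (commHom a ha).ker ↔ a * g = g * a := by
  rw [MonoidHom.mem_ker, ← Subtype.coe_inj, commHom_apply]
  constructor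
  · intro h
    have : a * g = (a * g * a⁻¹ * g⁻¹) * (g * a) := by group
    rw [this, h]; simp
  · intro h
    have : a * g * a⁻¹ * g⁻¹ = (a * g) * a⁻¹ * g⁻¹ := by group
    rw [this, h]; simp

theorem self_mem_ker_commHom (a : G) (ha : ∀ g : G, a * g * a⁻¹ * g⁻¹ ∈ Subgroup.center G) :
    a ∈ (commHom a ha).ker := (mem_ker_commHom a ha a).mpr rfl

theorem center_le_ker_commHom (a : G) (ha : ∀ g : G, a * g * a⁻¹ * g⁻¹ ∈ Subgroup.center G) :
    Subgroup.center G ≤ (commHom a ha).ker := by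
  intro z hz
  rw [mem_ker_commHom]
  exact Subgroup.mem_center_iff.mp hz a

theorem commHom_pow_eq_one (a : G) (ha : ∀ g : G, a * g * a⁻¹ * g⁻¹ ∈ Subgroup.center G) (k : ℕ)
    (hk : a ^ k ∈ Subgroup.center G) (g : G) : commHom a ha g ^ k = 1 := by
  apply Subtype.ext
  rw [Subgroup.coe_pow, commHom_apply, Subgroup.coe_one]
  -- `(a g a⁻¹ g⁻¹)^k = a^k g a^-k g⁻¹`
  have key : ∀ j : ℕ, (a * g * a⁻¹ * g⁻¹) ^ j = a ^ j * g * (a ^ j)⁻¹ * g⁻¹ := by
    intro j
    induction j with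
    | zero => simp
    | succ j ih =>
      have hX : a ^ j * g * (a ^ j)⁻¹ * g⁻¹ ∈ Subgroup.center G := by
        rw [← ih]; exact Subgroup.pow_mem _ (ha g) j
      have hXa := Subgroup.mem_center_iff.mp hX a
      rw [pow_succ, ih]
      calc a ^ j * g * (a ^ j)⁻¹ * g⁻¹ * (a * g * a⁻¹ * g⁻¹)
          = (a ^ j * g * (a ^ j)⁻¹ * g⁻¹ * a) * (g * a⁻¹ * g⁻¹) := by group
        _ = (a * (a ^ j * g * (a ^ j)⁻¹ * g⁻¹)) * (g * a⁻¹ * g⁻¹) := by rw [hXa]
        _ = a ^ (j + 1) * g * (a ^ (j + 1))⁻¹ * g⁻¹ := by rw [pow_succ']; group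
  rw [key k]
  have := Subgroup.mem_center_iff.mp hk g
  rw [← this]; group

variable [Finite G] {p : ℕ}

/-- In a nonabelian `p`-group there is an element of the second centre, not central, whose `p`-th
power is central. -/
theorem exists_second_center_elt (hp : p.Prime) (hG : IsPGroup p G)
    (hnc : ∃ x y : G, x * y ≠ y * x) :
    ∃ a : G, a ∉ Subgroup.center G ∧ a ^ p ∈ Subgroup.center G ∧
      ∀ g : G, a * g * a⁻¹ * g⁻¹ ∈ Subgroup.center G := by
  haveI : Fact p.Prime := ⟨hp⟩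
  have hne : Subgroup.center G ≠ ⊤ := by
    intro h
    obtain ⟨x, y, hxy⟩ := hnc
    apply hxy
    have hx : x ∈ Subgroup.center G := h ▸ Subgroup.mem_top x
    exact (Subgroup.mem_center_iff.mp hx y).symm
  haveI : Nontrivial (G ⧸ Subgroup.center G) := QuotientGroup.nontrivial_iff.mpr hne
  have hQ : IsPGroup p (G ⧸ Subgroup.center G) := hG.to_quotient _
  haveI := hQ.center_nontrivial
  have hZQ : IsPGroup p (Subgroup.center (G ⧸ Subgroup.center G)) := hQ.to_subgroup _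
  obtain ⟨n, hn0, hn⟩ := hZQ.nontrivial_iff_card.mp inferInstance
  have hdvd : p ∣ Nat.card (Subgroup.center (G ⧸ Subgroup.center G)) := by
    rw [hn]; exact dvd_pow_self p hn0.ne'
  obtain ⟨w, hw⟩ := exists_prime_orderOf_dvd_card' p hdvd
  obtain ⟨a, haw⟩ := QuotientGroup.mk_surjective (w : G ⧸ Subgroup.center G)
  refine ⟨a, ?_, ?_, ?_⟩
  · intro hac
    have h1 : (w : G ⧸ Subgroup.center G) = 1 := by
      rw [← haw]; exact (QuotientGroup.eq_one_iff a).mpr hac
    have h2 : w = 1 := Subtype.ext h1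
    rw [h2, orderOf_one] at hw
    exact hp.one_lt.ne hw
  · rw [← QuotientGroup.eq_one_iff, QuotientGroup.mk_pow, haw, ← Subgroup.coe_pow, ← hw,
      pow_orderOf_eq_one, Subgroup.coe_one]
  · intro g
    rw [← QuotientGroup.eq_one_iff]
    simp only [QuotientGroup.mk_mul, QuotientGroup.mk_inv, haw]
    have := Subgroup.mem_center_iff.mp w.2 (g : G ⧸ Subgroup.center G)
    rw [← this]; group

/-- A proper subgroup of a `p`-group lies in a subgroup of index `p`. -/
theorem exists_index_eq_above (hp : p.Prime) (hG : IsPGroup p G) (D : Subgroup G) (hD : D ≠ ⊤) :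
    ∃ M : Subgroup G, M.index = p ∧ D ≤ M := by
  haveI : Fact p.Prime := ⟨hp⟩
  obtain ⟨N, hN⟩ := IsPGroup.iff_card.mp hG
  obtain ⟨n, hn⟩ := IsPGroup.iff_card.mp (hG.to_subgroup D)
  have hlt : n < N := by
    have h1 : Nat.card D ∣ Nat.card G := Subgroup.card_subgroup_dvd_card D
    rw [hN, hn] at h1
    have h2 : n ≤ N := (Nat.pow_dvd_pow_iff_le_right hp.one_lt).mp h1
    rcases lt_or_eq_of_le h2 with h3 | h3
    · exact h3
    · exfalso
      apply hD
      apply Subgroup.eq_top_of_card_eq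
      rw [hn, hN, h3]
  obtain ⟨M, hM, hDM⟩ := Sylow.exists_subgroup_card_pow_prime_le p
    (show p ^ (N - 1) ∣ Nat.card G by rw [hN]; exact pow_dvd_pow p (Nat.sub_le N 1)) D hn
    (by omega)
  refine ⟨M, ?_, hDM⟩
  have h1 := Subgroup.card_mul_index M
  rw [hM, hN] at h1
  have h2 : p ^ N = p ^ (N - 1) * p := by
    rw [← pow_succ]; congr 1; omega
  rw [h2] at h1
  exact Nat.eq_of_mul_eq_mul_left (pow_pos hp.pos _) h1

end StepV

section StepVI

variable {G : Type*} [Group G] [Finite G] {p : ℕ}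

/-- Step (VI): for a subgroup `M` of index `p` containing `C_G(a)`, every commutator of `M` has
the form `[a, m]` with `m ∈ M`. -/
theorem commutator_eq_commHom (hp : p.Prime) (hG : IsPGroup p G) (hcd : CdOneP G p) (a : G)
    (ha : ∀ g : G, a * g * a⁻¹ * g⁻¹ ∈ Subgroup.center G) (M : Subgroup G) (hidx : M.index = p)
    (hCM : (commHom a ha).ker ≤ M) (m₁ m₂ : G) (h₁ : m₁ ∈ M) (h₂ : m₂ ∈ M) :
    ∃ m ∈ M, m₁ * m₂ * m₁⁻¹ * m₂⁻¹ = a * m * a⁻¹ * m⁻¹ := by
  classical
  have := Fintype.ofFinite G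
  have := Fintype.ofFinite M
  haveI hM : M.Normal := normal_of_index_eq_of_isPGroup hp hG M hidx
  have haM : a ∈ M := hCM (self_mem_ker_commHom a ha)
  set N : Subgroup G := M.map ((Subgroup.center G).subtype.comp (commHom a ha)) with hN
  have hmemN : ∀ x : G, x ∈ N ↔ ∃ m ∈ M, a * m * a⁻¹ * m⁻¹ = x := by
    intro x
    rw [hN, Subgroup.mem_map]
    rfl
  by_contra hcon
  have hyN : m₁ * m₂ * m₁⁻¹ * m₂⁻¹ ∉ N := by
    intro h
    obtain ⟨m, hm, hmx⟩ := (hmemN _).mp h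
    exact hcon ⟨m, hm, hmx.symm⟩
  have hNZ : N ≤ Subgroup.center G := by
    intro x hx
    obtain ⟨m, hm, rfl⟩ := (hmemN _).mp hx
    exact ha m
  have hMtop : M ≠ ⊤ := by
    intro h
    rw [h, Subgroup.index_top] at hidx
    exact hp.one_lt.ne hidx
  obtain ⟨g₀, hg₀⟩ : ∃ g₀ : G, g₀ ∉ M := by
    by_contra h
    push Not at h
    exact hMtop ((Subgroup.eq_top_iff' M).mpr h)
  have hcZ : g₀ * a * g₀⁻¹ * a⁻¹ ∈ Subgroup.center G := by
    have := Subgroup.inv_mem _ (ha g₀)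
    have h2 : (a * g₀ * a⁻¹ * g₀⁻¹)⁻¹ = g₀ * a * g₀⁻¹ * a⁻¹ := by group
    rwa [h2] at this
  have hcM : g₀ * a * g₀⁻¹ * a⁻¹ ∈ M := M.mul_mem (hM.conj_mem a haM g₀) (M.inv_mem haM)
  have hcN : g₀ * a * g₀⁻¹ * a⁻¹ ∉ N := by
    intro h
    obtain ⟨m, hm, hmx⟩ := (hmemN _).mp h
    have h3 : commHom a ha (m * g₀) = 1 := by
      rw [map_mul]
      apply Subtype.ext
      rw [Subgroup.coe_mul, commHom_apply, commHom_apply, hmx]
      simp only [Subgroup.coe_one]; group
    have h4 : m * g₀ ∈ M := hCM h3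
    exact hg₀ (by simpa using M.mul_mem (M.inv_mem hm) h4)
  haveI hNn : (N.subgroupOf M).Normal := by
    constructor
    intro n hn g
    rw [Subgroup.mem_subgroupOf] at hn ⊢
    have := Subgroup.mem_center_iff.mp (hNZ hn) (g : G)
    simp only [Subgroup.coe_mul, InvMemClass.coe_inv]
    rw [this]; simpa using hn
  obtain ⟨ψ, hker, hψy, hψc⟩ := exists_irr_two_not_ker_rel (N.subgroupOf M)
    (x := (⟨m₁, h₁⟩ : M) * ⟨m₂, h₂⟩ * (⟨m₁, h₁⟩ : M)⁻¹ * (⟨m₂, h₂⟩ : M)⁻¹)
    (y := ⟨g₀ * a * g₀⁻¹ * a⁻¹, hcM⟩) (by rw [Subgroup.mem_subgroupOf]; exact hyN)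
    (by rw [Subgroup.mem_subgroupOf]; exact hcN)
  have hnl : (ψ : M → ℂ) 1 ≠ 1 := by
    intro h1
    apply hψy
    rw [linear_commutator (isCharacter_of_irr ψ.2) h1, h1]
  have hinv : ∀ (x : G) (n : M),
      (ψ : M → ℂ) ⟨x * n * x⁻¹, hM.conj_mem n n.2 x⟩ = (ψ : M → ℂ) n := by
    intro x n
    by_contra hne
    exact hnl (linear_of_not_invariant hp hcd M hidx ψ.1 ψ.2 x n hne)
  have hac : ∀ m : M, (ψ : M → ℂ) ((⟨a, haM⟩ : M) * m * (⟨a, haM⟩ : M)⁻¹ * m⁻¹) =
      (ψ : M → ℂ) 1 := by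
    intro m
    apply hker
    rw [Subgroup.mem_subgroupOf]
    exact (hmemN _).mpr ⟨m, m.2, rfl⟩
  have hcc : ∀ m : M, (ψ : M → ℂ) ((⟨g₀ * a * g₀⁻¹ * a⁻¹, hcM⟩ : M) * m *
      (⟨g₀ * a * g₀⁻¹ * a⁻¹, hcM⟩ : M)⁻¹ * m⁻¹) = (ψ : M → ℂ) 1 := by
    intro m
    refine congrArg (ψ : M → ℂ) (Subtype.ext ?_)
    show (g₀ * a * g₀⁻¹ * a⁻¹) * m * (g₀ * a * g₀⁻¹ * a⁻¹)⁻¹ * (m : G)⁻¹ = 1
    rw [← Subgroup.mem_center_iff.mp hcZ m]; group
  have hane : (ψ : M → ℂ) ⟨a, haM⟩ ≠ 0 := apply_ne_zero_of_commutator_ker ψ.2 _ hac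
  have hmul : (ψ : M → ℂ) ((⟨g₀ * a * g₀⁻¹ * a⁻¹, hcM⟩ : M) * ⟨a, haM⟩) =
      (ψ : M → ℂ) ⟨a, haM⟩ := by
    rw [← hinv g₀ ⟨a, haM⟩]
    refine congrArg (ψ : M → ℂ) (Subtype.ext ?_)
    show g₀ * a * g₀⁻¹ * a⁻¹ * a = g₀ * a * g₀⁻¹
    group
  exact hψc (apply_eq_one_of_mul_eq ψ.2 _ hcc hane hmul)

end StepVI

end Cfsg.Agent.Lib.H24
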