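/-
S3701 piece CE4 (helper24): a generic rearrangement in a finite group.
-/
import Mathlib

set_option autoImplicit false

namespace Cfsg.Agent.Lib.H24.T27

theorem rearrange {M : Type*} [Group M] [Fintype M] [DecidableEq M] (U V W : M → ℂ)
    (hU : ∀ s g : M, U (g * s * g⁻¹) = U s) (hV : ∀ s g : M, V (g * s * g⁻¹) = V s) :
    (∑ s1 : M, ∑ s2 : M, ∑ s3 : M, U s1 * V s2 * W s3 *
      (∑ g : M, ∑ k : M, if (g * s1 * g⁻¹) * (k * s2 * k⁻¹) = s3⁻¹ then (1 : ℂ) else 0)) =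
      (Fintype.card M : ℂ) ^ 2 * ∑ s1 : M, ∑ s2 : M, U s1 * V s2 * W (s1 * s2)⁻¹ := by
  -- Step 1: eliminate `s3`
  have step1 : ∀ s1 s2 : M, (∑ s3 : M, U s1 * V s2 * W s3 *
      (∑ g : M, ∑ k : M, if (g * s1 * g⁻¹) * (k * s2 * k⁻¹) = s3⁻¹ then (1 : ℂ) else 0)) =
      ∑ g : M, ∑ k : M, U s1 * V s2 * W ((g * s1 * g⁻¹) * (k * s2 * k⁻¹))⁻¹ := by
    intro s1 s2
    simp_rw [Finset.mul_sum]
    rw [Finset.sum_comm]
    refine Finset.sum_congr rfl (fun g _ => ?_)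
    rw [Finset.sum_comm]
    refine Finset.sum_congr rfl (fun k _ => ?_)
    rw [Finset.sum_eq_single (((g * s1 * g⁻¹) * (k * s2 * k⁻¹))⁻¹)]
    · rw [inv_inv, if_pos rfl, mul_one]
    · intro b _ hb
      rw [if_neg, mul_zero]
      intro h
      apply hb
      rw [h, inv_inv]
    · intro h; exact absurd (Finset.mem_univ _) h
  simp_rw [step1]
  -- Step 2: bring `g, k` outside
  have step2 : (∑ s1 : M, ∑ s2 : M, ∑ g : M, ∑ k : M,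
        U s1 * V s2 * W ((g * s1 * g⁻¹) * (k * s2 * k⁻¹))⁻¹) =
      ∑ g : M, ∑ k : M, ∑ s1 : M, ∑ s2 : M,
        U s1 * V s2 * W ((g * s1 * g⁻¹) * (k * s2 * k⁻¹))⁻¹ := by
    calc (∑ s1 : M, ∑ s2 : M, ∑ g : M, ∑ k : M,
          U s1 * V s2 * W ((g * s1 * g⁻¹) * (k * s2 * k⁻¹))⁻¹)
        = ∑ s1 : M, ∑ g : M, ∑ s2 : M, ∑ k : M,
          U s1 * V s2 * W ((g * s1 * g⁻¹) * (k * s2 * k⁻¹))⁻¹ := by
          refine Finset.sum_congr rfl (fun s1 _ => ?_)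
          rw [Finset.sum_comm]
      _ = ∑ g : M, ∑ s1 : M, ∑ s2 : M, ∑ k : M,
          U s1 * V s2 * W ((g * s1 * g⁻¹) * (k * s2 * k⁻¹))⁻¹ := by
          rw [Finset.sum_comm]
      _ = ∑ g : M, ∑ s1 : M, ∑ k : M, ∑ s2 : M,
          U s1 * V s2 * W ((g * s1 * g⁻¹) * (k * s2 * k⁻¹))⁻¹ := by
          refine Finset.sum_congr rfl (fun g _ => Finset.sum_congr rfl (fun s1 _ => ?_))
          rw [Finset.sum_comm]
      _ = ∑ g : M, ∑ k : M, ∑ s1 : M, ∑ s2 : M,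
          U s1 * V s2 * W ((g * s1 * g⁻¹) * (k * s2 * k⁻¹))⁻¹ := by
          refine Finset.sum_congr rfl (fun g _ => ?_)
          rw [Finset.sum_comm]
  rw [step2]
  -- Step 3: for fixed `g, k` substitute the conjugates
  have step3 : ∀ g k : M, (∑ s1 : M, ∑ s2 : M,
        U s1 * V s2 * W ((g * s1 * g⁻¹) * (k * s2 * k⁻¹))⁻¹) =
      ∑ t1 : M, ∑ t2 : M, U t1 * V t2 * W (t1 * t2)⁻¹ := by
    intro g k
    have e1 : (∑ t1 : M, ∑ t2 : M, U t1 * V t2 * W (t1 * t2)⁻¹) =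
        ∑ s1 : M, ∑ t2 : M, U (g * s1 * g⁻¹) * V t2 * W ((g * s1 * g⁻¹) * t2)⁻¹ :=
      (Equiv.sum_comp (MulAut.conj g).toEquiv
        (fun t1 => ∑ t2 : M, U t1 * V t2 * W (t1 * t2)⁻¹)).symm
    rw [e1]
    refine Finset.sum_congr rfl (fun s1 _ => ?_)
    have e2 : (∑ t2 : M, U (g * s1 * g⁻¹) * V t2 * W ((g * s1 * g⁻¹) * t2)⁻¹) =
        ∑ s2 : M, U (g * s1 * g⁻¹) * V (k * s2 * k⁻¹) * W ((g * s1 * g⁻¹) * (k * s2 * k⁻¹))⁻¹ :=
      (Equiv.sum_comp (MulAut.conj k).toEquiv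
        (fun t2 => U (g * s1 * g⁻¹) * V t2 * W ((g * s1 * g⁻¹) * t2)⁻¹)).symm
    rw [e2]
    refine Finset.sum_congr rfl (fun s2 _ => ?_)
    rw [hU, hV]
  simp_rw [step3]
  rw [Finset.sum_const, Finset.sum_const, Finset.card_univ, nsmul_eq_mul, nsmul_eq_mul, sq, mul_assoc]

end Cfsg.Agent.Lib.H24.T27
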