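import Mathlib
import Cfsg.Prelude.Def_Perm
import Cfsg.Agent.Lib.H2.SzAutCard

/-!
# S4025, piece NUMX (architect helper19)

A subgroup of `AΓL(1,p^n)`, `n ≥ 3`, whose point stabiliser is transitive on the additive subgroups
of order `p^2` forces `n = 3` or `(p,n) = (2,5)`.
-/

set_option autoImplicit false

namespace Cfsg.Agent.Lib.H24.EOC

open Pointwise

section gam

variable {F : Type*} [Field F]

/-- the permutation `x ↦ a * φ x` -/
def gperm (a : Fˣ) (φ : F ≃+* F) : Equiv.Perm F := φ.toEquiv.trans (Units.mulLeft a)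

theorem gperm_apply (a : Fˣ) (φ : F ≃+* F) (x : F) : gperm a φ x = (a : F) * φ x := rfl

/-- the stabiliser of `0` in the semiaffine group -/
def Gam (F : Type*) [Field F] : Subgroup (Equiv.Perm F) :=
  Cfsg.semiaffineGroup F ⊓ MulAction.stabilizer (Equiv.Perm F) (0 : F)

theorem mem_Gam_iff (g : Equiv.Perm F) :
    g ∈ Gam F ↔ ∃ (a : Fˣ) (φ : F ≃+* F), ∀ x, g x = (a : F) * φ x := by
  constructor
  · rintro ⟨⟨a, b, φ, h⟩, h0⟩
    have h0' : g 0 = 0 := h0
    have hb : b = 0 := by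
      have := h 0
      rw [h0', map_zero, mul_zero, zero_add] at this
      exact this.symm
    exact ⟨a, φ, fun x => by rw [h x, hb, add_zero]⟩
  · rintro ⟨a, φ, h⟩
    refine ⟨⟨a, 0, φ, fun x => by rw [h x, add_zero]⟩, ?_⟩
    show g 0 = 0
    rw [h 0, map_zero, mul_zero]

theorem gperm_mem_Gam (a : Fˣ) (φ : F ≃+* F) : gperm a φ ∈ Gam F :=
  (mem_Gam_iff _).2 ⟨a, φ, fun _ => rfl⟩

theorem card_Gam [Finite F] : Nat.card (Gam F) = Nat.card Fˣ * Nat.card (F ≃+* F) := by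
  rw [← Nat.card_prod]
  symm
  let f : Fˣ × (F ≃+* F) → Gam F := fun aφ => ⟨gperm aφ.1 aφ.2, gperm_mem_Gam _ _⟩
  have hf : Function.Bijective f := by
    constructor
    · rintro ⟨a, φ⟩ ⟨a', φ'⟩ h
      have h' : ∀ x, (a : F) * φ x = (a' : F) * φ' x := fun x =>
        congrArg (fun g : Gam F => (g : Equiv.Perm F) x) h
      have ha : a = a' := by
        apply Units.ext
        have := h' 1
        simpa using this
      subst ha
      have hφ : φ = φ' := by
        apply RingEquiv.ext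
        intro x
        exact mul_left_cancel₀ a.ne_zero (h' x)
      rw [hφ]
    · rintro ⟨g, hg⟩
      obtain ⟨a, φ, h⟩ := (mem_Gam_iff g).1 hg
      refine ⟨(a, φ), Subtype.ext (Equiv.ext fun x => ?_)⟩
      exact (h x).symm
  exact Nat.card_congr (Equiv.ofBijective f hf)

/-- elements of `Gam F` carry additive subgroups to additive subgroups of the same order -/
theorem Gam_image (g : Equiv.Perm F) (hg : g ∈ Gam F) (H : AddSubgroup F) :
    ∃ H' : AddSubgroup F, (H' : Set F) = g '' (H : Set F) ∧ Nat.card H' = Nat.card H := by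
  obtain ⟨a, φ, h⟩ := (mem_Gam_iff g).1 hg
  let ψ : F →+ F := (AddMonoidHom.mulLeft (a : F)).comp φ.toAddMonoidHom
  have hψ : ∀ x, ψ x = g x := fun x => (h x).symm
  have hψ' : (ψ : F → F) = g := funext hψ
  refine ⟨H.map ψ, ?_, ?_⟩
  · rw [AddSubgroup.coe_map, hψ']
  · have : ((H.map ψ : AddSubgroup F) : Set F) = g '' (H : Set F) := by
      rw [AddSubgroup.coe_map, hψ']
    calc Nat.card (H.map ψ) = Nat.card ((H.map ψ : AddSubgroup F) : Set F) := rfl
      _ = Nat.card (g '' (H : Set F)) := by rw [this]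
      _ = Nat.card (H : Set F) := Nat.card_image_of_injective g.injective _
      _ = Nat.card H := rfl

end gam

/-- the number theory -/
theorem numx_arith {p n k : ℕ} (hp : p.Prime) (hn : 3 ≤ n)
    (h : (p ^ (n - 1) - 1) * k = (p ^ 2 - 1) * n) : n = 3 ∨ (p = 2 ∧ n = 5) := by
  have hp2 : 2 ≤ p := hp.two_le
  rcases Nat.lt_or_ge n 6 with hn6 | hn6
  · interval_cases n
    · left; rfl
    · -- n = 4 : p^3 - 1 ∣ 4 (p^2 - 1)
      exfalso
      have h1 : 1 ≤ p ^ 2 := Nat.one_le_pow _ _ (by omega)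
      have h3 : 1 ≤ p ^ 3 := Nat.one_le_pow _ _ (by omega)
      have hk : k ≠ 0 := by
        rintro rfl
        have : p ^ 2 = 1 := by nlinarith [Nat.sub_add_cancel h1]
        nlinarith
      rcases Nat.lt_or_ge p 4 with hp4 | hp4
      · interval_cases p
        · norm_num at h; omega
        · norm_num at h; omega
      · -- p ≥ 4 : p^3 - 1 > 4 (p^2 - 1)
        have hk1 : 1 ≤ k := Nat.one_le_iff_ne_zero.2 hk
        have : p ^ 3 - 1 ≤ (p ^ 2 - 1) * 4 := by
          calc p ^ 3 - 1 = (p ^ 3 - 1) * 1 := (mul_one _).symm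
            _ ≤ (p ^ 3 - 1) * k := Nat.mul_le_mul_left _ hk1
            _ = (p ^ 2 - 1) * 4 := h
        have e3 : p ^ 3 = p * p ^ 2 := by ring
        have : p ^ 3 ≤ 4 * p ^ 2 - 3 := by omega
        have h4 : 4 * p ^ 2 ≤ p ^ 3 := by rw [e3]; exact Nat.mul_le_mul_right _ hp4
        omega
    · -- n = 5 : p^4 - 1 ∣ 5 (p^2 - 1)
      right
      refine ⟨?_, rfl⟩
      have h1 : 1 ≤ p ^ 2 := Nat.one_le_pow _ _ (by omega)
      have h4 : 1 ≤ p ^ 4 := Nat.one_le_pow _ _ (by omega)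
      have e : p ^ 4 - 1 = (p ^ 2 - 1) * (p ^ 2 + 1) := by
        have : p ^ 4 = p ^ 2 * p ^ 2 := by ring
        zify [h1, h4]
        ring
      have h' : (p ^ 2 - 1) * ((p ^ 2 + 1) * k) = (p ^ 2 - 1) * 5 := by
        rw [← mul_assoc, ← e]; exact h
      have hpos : 0 < p ^ 2 - 1 := by
        have : 4 ≤ p ^ 2 := by nlinarith
        omega
      have h'' : (p ^ 2 + 1) * k = 5 := Nat.eq_of_mul_eq_mul_left hpos h'
      have hk : k ≠ 0 := by rintro rfl; simp at h''
      have hle : p ^ 2 + 1 ≤ 5 := by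
        calc p ^ 2 + 1 = (p ^ 2 + 1) * 1 := (mul_one _).symm
          _ ≤ (p ^ 2 + 1) * k := Nat.mul_le_mul_left _ (Nat.one_le_iff_ne_zero.2 hk)
          _ = 5 := h''
      have : p < 3 := by
        by_contra hc
        have : 9 ≤ p ^ 2 := by nlinarith [not_lt.1 hc]
        omega
      omega
  · -- n ≥ 6 : size
    exfalso
    have hn1 : n - 1 = (n - 3) + 2 := by omega
    have hgt : n < p ^ (n - 3) := by
      have h2 : n < 2 ^ (n - 3) := by
        obtain ⟨m, rfl⟩ : ∃ m, n = m + 6 := ⟨n - 6, by omega⟩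
        have : m + 6 - 3 = m + 3 := by omega
        rw [this]
        clear hn hn6 h hn1 this
        induction m with
        | zero => norm_num
        | succ m ih => rw [show m + 1 + 3 = (m + 3) + 1 by ring, pow_succ]; omega
      exact lt_of_lt_of_le h2 (Nat.pow_le_pow_left hp2 _)
    have h1 : 1 ≤ p ^ 2 := Nat.one_le_pow _ _ (by omega)
    have hpow : p ^ (n - 1) = p ^ (n - 3) * p ^ 2 := by rw [hn1, pow_add]
    have hbig : (p ^ 2 - 1) * n < p ^ (n - 1) - 1 := by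
      have h4 : 4 ≤ p ^ 2 := by nlinarith
      have : (n + 1) * p ^ 2 ≤ p ^ (n - 1) := by
        rw [hpow]; exact Nat.mul_le_mul_right _ hgt
      have e1 : (p ^ 2 - 1) * n + n = p ^ 2 * n := by
        rw [← Nat.succ_mul, Nat.succ_eq_add_one, Nat.sub_add_cancel h1]
      have e2 : (n + 1) * p ^ 2 = p ^ 2 * n + p ^ 2 := by ring
      omega
    have hk : k ≠ 0 := by
      rintro rfl
      rw [mul_zero] at h
      have : 0 < (p ^ 2 - 1) * n := by
        apply Nat.mul_pos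
        · have : 4 ≤ p ^ 2 := by nlinarith
          omega
        · omega
      omega
    have : p ^ (n - 1) - 1 ≤ (p ^ 2 - 1) * n := by
      calc p ^ (n - 1) - 1 = (p ^ (n - 1) - 1) * 1 := (mul_one _).symm
        _ ≤ (p ^ (n - 1) - 1) * k := Nat.mul_le_mul_left _ (Nat.one_le_iff_ne_zero.2 hk)
        _ = (p ^ 2 - 1) * n := h
    omega

/-- **NUMX**. -/
theorem numx {p : ℕ} [Fact p.Prime] {F : Type*} [Field F] [Finite F] (n : ℕ) (hn : 3 ≤ n)
    (hF : Nat.card F = p ^ n)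
    (hlc : Nat.card {H : AddSubgroup F // Nat.card H = p ^ 2} * ((p ^ 2 - 1) * (p ^ 2 - p)) =
      (p ^ n - 1) * (p ^ n - p))
    (I : Subgroup (Equiv.Perm F)) (hI : I ≤ Cfsg.semiaffineGroup F)
    (htr2 : ∀ A B : AddSubgroup F, Nat.card A = p ^ 2 → Nat.card B = p ^ 2 →
      ∃ g ∈ I, g 0 = 0 ∧ ∀ y, y ∈ B ↔ ∃ x ∈ A, g x = y) :
    n = 3 ∨ (p = 2 ∧ n = 5) := by
  classical
  have hp : p.Prime := Fact.out
  have hp2 : 2 ≤ p := hp.two_le
  have : Fintype F := Fintype.ofFinite F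
  have hF' : Fintype.card F = p ^ n := by rw [← Nat.card_eq_fintype_card]; exact hF
  -- characteristic
  have hchar : CharP F p := by
    obtain ⟨q, hq⟩ := CharP.exists F
    have hqp : Fact q.Prime := ⟨CharP.char_is_prime F q⟩
    obtain ⟨k, hk⟩ := FiniteField.card F q
    have : q = p := by
      have h1 : q ∣ p ^ n := by
        rw [← hF', hk.2]
        exact dvd_pow_self q (PNat.ne_zero k)
      exact (Nat.prime_dvd_prime_iff_eq hqp.out hp).1 (hqp.out.dvd_of_dvd_pow h1)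
    rw [← this]
    exact hq
  let _ : Algebra (ZMod p) F := ZMod.algebra F p
  -- sizes
  have hpn : p ^ 3 ≤ p ^ n := Nat.pow_le_pow_right (by omega) hn
  have hp3 : p ^ 3 = p * p ^ 2 := by ring
  have hp4 : 4 ≤ p ^ 2 := by nlinarith
  have hpn1 : 1 < p ^ n := by nlinarith
  have hpnp : p < p ^ n := by nlinarith
  have hcardΓ : Nat.card (Gam F) = (p ^ n - 1) * n := by
    rw [card_Gam, Nat.card_units, hF, Cfsg.Agent.Lib.H2.SzAut.card_ringAut hF']
  -- the set of lines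
  set L := {H : AddSubgroup F // Nat.card H = p ^ 2} with hL
  have hLne : Nat.card L ≠ 0 := by
    intro h0
    rw [h0, zero_mul] at hlc
    have : 0 < (p ^ n - 1) * (p ^ n - p) := Nat.mul_pos (by omega) (by omega)
    omega
  have : Finite L := (Nat.card_ne_zero.1 hLne).2
  obtain ⟨ℓ₀⟩ := (Nat.card_ne_zero.1 hLne).1
  -- the scalars
  let zhom : (ZMod p)ˣ →* Equiv.Perm F :=
    (MulAction.toPermHom Fˣ F).comp (Units.map ((algebraMap (ZMod p) F : ZMod p →* F)))
  have hz_apply : ∀ (c : (ZMod p)ˣ) (x : F), zhom c x = algebraMap (ZMod p) F (c : ZMod p) * x := by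
    intro c x
    rfl
  have hz_inj : Function.Injective zhom := by
    intro c c' h
    have h1 := congrArg (fun g : Equiv.Perm F => g 1) h
    simp only [hz_apply, mul_one] at h1
    exact Units.ext ((algebraMap (ZMod p) F).injective h1)
  let Z : Subgroup (Equiv.Perm F) := zhom.range
  have hZcard : Nat.card Z = p - 1 := by
    rw [← Nat.card_congr (MonoidHom.ofInjective hz_inj).toEquiv, Nat.card_eq_fintype_card,
      ZMod.card_units]
  have hz_mem : ∀ (c : (ZMod p)ˣ) (H : AddSubgroup F) (x : F), x ∈ H → zhom c x ∈ H := by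
    intro c H x hx
    rw [hz_apply]
    have : algebraMap (ZMod p) F (c : ZMod p) = (((c : ZMod p).val : ℕ) : F) := by
      conv_lhs => rw [← ZMod.natCast_zmod_val (c : ZMod p)]
      rw [map_natCast]
    rw [this, ← nsmul_eq_mul]
    exact H.nsmul_mem hx _
  have hz_img : ∀ (c : (ZMod p)ˣ) (H : AddSubgroup F), zhom c '' (H : Set F) = (H : Set F) := by
    intro c H
    apply Set.Subset.antisymm
    · rintro _ ⟨x, hx, rfl⟩
      exact hz_mem c H x hx
    · intro x hx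
      refine ⟨zhom c⁻¹ x, hz_mem c⁻¹ H x hx, ?_⟩
      have : zhom c * zhom c⁻¹ = 1 := by rw [← map_mul, mul_inv_cancel, map_one]
      calc zhom c (zhom c⁻¹ x) = (zhom c * zhom c⁻¹) x := rfl
        _ = x := by rw [this]; rfl
  have hZΓ : Z ≤ Gam F := by
    rintro _ ⟨c, rfl⟩
    rw [mem_Gam_iff]
    exact ⟨Units.map ((algebraMap (ZMod p) F : ZMod p →* F)) c, RingEquiv.refl F, fun x => rfl⟩
  -- the point stabiliser
  let I₀ : Subgroup (Equiv.Perm F) := I ⊓ MulAction.stabilizer (Equiv.Perm F) (0 : F)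
  have hI₀Γ : I₀ ≤ Gam F := inf_le_inf_right _ hI
  let J : Subgroup (Equiv.Perm F) := I₀ ⊔ Z
  have hJΓ : J ≤ Gam F := sup_le hI₀Γ hZΓ
  have hZJ : Z ≤ J := le_sup_right
  have hI₀J : I₀ ≤ J := le_sup_left
  -- the orbit of `ℓ₀`
  let s₀ : Set F := (ℓ₀.1 : Set F)
  have hsmul : ∀ (g : J) (S : Set F), g • S = (g : Equiv.Perm F) '' S := by
    intro g S
    rw [← Set.image_smul]
    rfl
  have horb : Nat.card (MulAction.orbit J s₀) = Nat.card L := by
    symm
    have hmem : ∀ ℓ : L, (ℓ.1 : Set F) ∈ MulAction.orbit J s₀ := by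
      intro ℓ
      obtain ⟨g, hgI, hg0, hg⟩ := htr2 ℓ₀.1 ℓ.1 ℓ₀.2 ℓ.2
      have hgJ : g ∈ J := hI₀J ⟨hgI, hg0⟩
      refine ⟨⟨g, hgJ⟩, ?_⟩
      show (⟨g, hgJ⟩ : J) • s₀ = (ℓ.1 : Set F)
      rw [hsmul]
      ext y
      constructor
      · rintro ⟨x, hx, rfl⟩
        exact (hg _).2 ⟨x, hx, rfl⟩
      · intro hy
        obtain ⟨x, hx, hxy⟩ := (hg y).1 hy
        exact ⟨x, hx, hxy⟩
    let f : L → MulAction.orbit J s₀ := fun ℓ => ⟨(ℓ.1 : Set F), hmem ℓ⟩
    have hf : Function.Bijective f := by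
      constructor
      · intro ℓ ℓ' h
        have : (ℓ.1 : Set F) = (ℓ'.1 : Set F) := congrArg Subtype.val h
        exact Subtype.ext (SetLike.coe_injective this)
      · rintro ⟨S, g, rfl⟩
        obtain ⟨H', hH', hcard⟩ := Gam_image (g : Equiv.Perm F) (hJΓ g.2) ℓ₀.1
        refine ⟨⟨H', hcard.trans ℓ₀.2⟩, Subtype.ext ?_⟩
        show (H' : Set F) = g • s₀
        rw [hH', hsmul]
    exact Nat.card_congr (Equiv.ofBijective f hf)
  -- the scalars stabilise `ℓ₀`
  have hZstab : Z.subgroupOf J ≤ MulAction.stabilizer J s₀ := by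
    rintro ⟨g, hgJ⟩ hg
    have hgZ : g ∈ Z := hg
    obtain ⟨c, rfl⟩ := hgZ
    show (⟨zhom c, hgJ⟩ : J) • s₀ = s₀
    rw [hsmul]
    exact hz_img c ℓ₀.1
  have hdvd1 : (p - 1) ∣ Nat.card (MulAction.stabilizer J s₀) := by
    rw [← hZcard, ← Nat.card_congr (Subgroup.subgroupOfEquivOfLe hZJ).toEquiv]
    exact Subgroup.card_dvd_of_le hZstab
  have hJcard : Nat.card L * Nat.card (MulAction.stabilizer J s₀) = Nat.card J := by
    rw [← horb, ← Subgroup.index_mul_card (MulAction.stabilizer J s₀),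
      MulAction.index_stabilizer, Nat.card_coe_set_eq]
  have hJdvd : Nat.card J ∣ (p ^ n - 1) * n := by
    rw [← hcardΓ]
    exact Subgroup.card_dvd_of_le hJΓ
  obtain ⟨m, hm⟩ := hdvd1
  obtain ⟨k, hk⟩ := hJdvd
  rw [← hJcard, hm] at hk
  -- hk : (p^n - 1) * n = Nat.card L * ((p - 1) * m) * k
  -- arithmetic
  apply numx_arith (k := m * k) hp hn
  obtain ⟨t, rfl⟩ : ∃ t, n = t + 3 := ⟨n - 3, by omega⟩
  have e1 : t + 3 - 1 = t + 2 := by omega
  rw [e1]
  have hq1 : 1 ≤ p ^ (t + 2) := Nat.one_le_pow _ _ (by omega)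
  have hq2 : 1 ≤ p ^ 2 := by omega
  have hA : p ^ (t + 3) - p = p * (p ^ (t + 2) - 1) := by
    rw [Nat.mul_sub, mul_one, ← pow_succ']
  have hB : p ^ 2 - p = p * (p - 1) := by
    rw [Nat.mul_sub, mul_one, sq]
  have hpos1 : 0 < p ^ (t + 3) - 1 := by omega
  have hpos2 : 0 < p := by omega
  have hpos3 : 0 < p - 1 := by omega
  -- multiply out
  have key : (p ^ (t + 3) - 1) * (p * ((p - 1) * ((p ^ (t + 2) - 1) * (m * k)))) =
      (p ^ (t + 3) - 1) * (p * ((p - 1) * ((p ^ 2 - 1) * (t + 3)))) := by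
    calc (p ^ (t + 3) - 1) * (p * ((p - 1) * ((p ^ (t + 2) - 1) * (m * k))))
        = ((p ^ (t + 3) - 1) * (p ^ (t + 3) - p)) * ((p - 1) * m * k) := by rw [hA]; ring
      _ = (Nat.card L * ((p ^ 2 - 1) * (p ^ 2 - p))) * ((p - 1) * m * k) := by rw [hlc]
      _ = (Nat.card L * ((p - 1) * m) * k) * ((p ^ 2 - 1) * (p ^ 2 - p)) := by ring
      _ = ((p ^ (t + 3) - 1) * (t + 3)) * ((p ^ 2 - 1) * (p ^ 2 - p)) := by rw [← hk]
      _ = (p ^ (t + 3) - 1) * (p * ((p - 1) * ((p ^ 2 - 1) * (t + 3)))) := by rw [hB]; ring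
  have key2 := Nat.eq_of_mul_eq_mul_left hpos1 key
  have key3 := Nat.eq_of_mul_eq_mul_left hpos2 key2
  exact Nat.eq_of_mul_eq_mul_left hpos3 key3

end Cfsg.Agent.Lib.H24.EOC
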