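import Mathlib
import Cfsg.Prelude.Def_Characters
import Cfsg.Prelude.Def_Blocks
import Cfsg.Prelude.Def_Local
import Cfsg.Prelude.Def_Transfer
import Cfsg.Agent.Lib.H23.BlockLocal
import Cfsg.Agent.Lib.H23.DegreeDvd
import Cfsg.Agent.Lib.H24.CharDefl
import Cfsg.Agent.Lib.H20.SylowExtra
import Cfsg.Agent.Lib.H18.ROL6
import Cfsg.Agent.Lib.H2.PL1CLIF0

/-!
# S4711 piece KER (`centralizer_le_ker`) (helper24).
Exact signature of `tools/blueprints/S4711_sigs.lean`.

A principal block character `χ` with `P ≤ ker χ` restricting irreducibly to `N_G(P)` has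
`C_G(P) ≤ ker χ`.  Proof: `C := C_G(P) ⊴ N_G(P)`; `Z := P ∩ C` is a normal Sylow `p`-subgroup of
`C`, Schur–Zassenhaus gives a complement `K`; `∑_{c ∈ C} χ(c) = |Z| ∑_{k ∈ K} χ(k)` and
`χ(k) ≡ χ(1)` modulo the local ideal, so the sum is nonzero and CLIF0 applies.
-/

set_option autoImplicit false

namespace Cfsg.Agent.Lib.H24.PL1

open Cfsg Cfsg.Agent.Lib.H23
open scoped ComplexConjugate

/-- KER. -/
theorem centralizer_le_ker {G : Type*} [Group G] [Finite G] (p : ℕ) [Fact p.Prime]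
    (M : Ideal AlgInt) (hM : IsPModular p M) (P : Sylow p G)
    (χ : IrrCharacter G) (hχ : χ ∈ principalBlock M G)
    (hirr : IsIrrCharacter ↥(Subgroup.normalizer ((P : Subgroup G) : Set G))
      (fun n : ↥(Subgroup.normalizer ((P : Subgroup G) : Set G)) => (χ : G → ℂ) n))
    (hP : ∀ u ∈ (P : Subgroup G), (χ : G → ℂ) u = (χ : G → ℂ) 1) :
    ∀ s ∈ Subgroup.centralizer ((P : Subgroup G) : Set G), (χ : G → ℂ) s = (χ : G → ℂ) 1 := by
  classical
  have hp : p.Prime := Fact.out
  haveI hMp : M.IsPrime := isPrime_of_isPModular hM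
  set C := Subgroup.centralizer ((P : Subgroup G) : Set G) with hC
  set H := Subgroup.normalizer ((P : Subgroup G) : Set G) with hH
  have hCH : C ≤ H := Subgroup.centralizer_le_normalizer _
  have hχc : IsCharacter G (χ : G → ℂ) := Cfsg.Agent.Lib.L0.isCharacter_of_irr χ.2
  have hdeg : (χ : G → ℂ) 1 = (charDegree (χ : G → ℂ) : ℂ) := apply_one_eq_charDegree _ χ.2
  have hdegpos : 0 < charDegree (χ : G → ℂ) := Cfsg.Agent.Lib.H23.charDegree_pos _ χ.2
  have hχ1 : (χ : G → ℂ) 1 ≠ 0 := by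
    rw [hdeg]
    exact_mod_cast hdegpos.ne'
  -- `p ∤ χ(1)`
  have hdegp : ¬ p ∣ charDegree (χ : G → ℂ) := by
    intro h
    have h1 := Cfsg.Agent.Lib.H24.charDegree_dvd_index_charKer χ
    have h2 : (P : Subgroup G) ≤ Cfsg.Agent.Lib.H24.charKer (χ : G → ℂ)
        (Cfsg.Agent.Lib.L0.isCharacter_of_irr χ.2) := fun u hu => hP u hu
    exact P.not_dvd_index ((h.trans h1).trans (Subgroup.index_dvd_of_le h2))
  -- the congruence `χ(k) ≡ χ(1)` for `k ∈ C_G(P)`
  have hcong : ∀ k ∈ C, MemLocalIdeal M ((χ : G → ℂ) 1 - (χ : G → ℂ) k) := by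
    intro k hk
    have h1 : MemLocalIdeal M (centralChar (fun _ : G => (1 : ℂ)) k -
        centralChar (χ : G → ℂ) k) := hχ k
    have hPk : (P : Subgroup G) ≤ Subgroup.centralizer ({k} : Set G) := by
      intro x hx
      rw [Subgroup.mem_centralizer_singleton_iff]
      exact (Subgroup.mem_centralizer_iff.mp hk x hx)
    have hnp : ¬ p ∣ (Subgroup.centralizer ({k} : Set G)).index :=
      fun h => P.not_dvd_index (h.trans (Subgroup.index_dvd_of_le hPk))
    have hn0 : ((Subgroup.centralizer ({k} : Set G)).index : ℂ) ≠ 0 := by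
      have : (Subgroup.centralizer ({k} : Set G)).index ≠ 0 := Subgroup.index_ne_zero_of_finite
      exact_mod_cast this
    have h3 : (χ : G → ℂ) 1 - (χ : G → ℂ) k = (χ : G → ℂ) 1 *
        ((((Subgroup.centralizer ({k} : Set G)).index : ℕ) : ℂ)⁻¹ *
          (centralChar (fun _ : G => (1 : ℂ)) k - centralChar (χ : G → ℂ) k)) := by
      unfold centralChar
      field_simp
    rw [h3]
    apply memLocalIdeal_mul_left
    · rw [hdeg]
      exact natCast_mem_localRing _
    · exact memLocalIdeal_mul_left (memLocalRing_inv_natCast hM hnp) h1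
  -- CLIF0 for `C ⊴ N_G(P)`
  rcases Cfsg.Agent.Lib.H2.PL1.le_ker_or_sum_eq_zero _ hirr (C.subgroupOf H) with h | h
  · intro s hs
    exact h ⟨s, hCH hs⟩ (Subgroup.mem_subgroupOf.mpr hs)
  · exfalso
    letI : Fintype ↥(C.subgroupOf H) := Fintype.ofFinite _
    letI : Fintype ↥C := Fintype.ofFinite _
    rw [finsum_eq_sum_of_fintype] at h
    have hsumC : ∑ c : ↥C, (χ : G → ℂ) (c : G) = 0 := by
      rw [← h]
      exact (Fintype.sum_equiv (Subgroup.subgroupOfEquivOfLe hCH).toEquiv _ _ (fun a => rfl)).symm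
    -- the normal Sylow subgroup `Z = P ∩ C` of `C`
    set Z : Subgroup ↥C := (P : Subgroup G).subgroupOf C with hZ
    haveI hZn : Z.Normal := by
      constructor
      intro n hn g
      rw [hZ, Subgroup.mem_subgroupOf] at hn ⊢
      have h1 : ((g * n * g⁻¹ : ↥C) : G) = (n : G) := by
        have h2 := Subgroup.mem_centralizer_iff.mp g.2 (n : G) hn
        simp only [Subgroup.coe_mul, Subgroup.coe_inv]
        rw [← h2, mul_inv_cancel_right]
      rw [h1]
      exact hn
    have hZp : IsPGroup p Z := P.2.comap_of_injective C.subtype C.subtype_injective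
    have hZidx : ¬ p ∣ Z.index := by
      obtain ⟨Q⟩ : Nonempty (Sylow p ↥C) := inferInstance
      have hQle : (Q : Subgroup ↥C) ≤ Z := by
        intro q hq
        rw [hZ, Subgroup.mem_subgroupOf]
        have hY : IsPGroup p ((Q : Subgroup ↥C).map C.subtype) := Q.2.map _
        have hn : (P : Subgroup G) ≤
            Subgroup.normalizer (((Q : Subgroup ↥C).map C.subtype : Subgroup G) : Set G) := by
          refine le_trans ?_ (Subgroup.centralizer_le_normalizer _)
          intro x hx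
          rw [Subgroup.mem_centralizer_iff]
          rintro y ⟨c, -, rfl⟩
          exact ((Subgroup.mem_centralizer_iff.mp c.2 x hx)).symm
        have h1 := Cfsg.Agent.Lib.H20.le_sylow_of_le_normalizer P _ hY hn
        exact h1 (Subgroup.mem_map_of_mem _ hq)
      exact fun hdiv => Q.not_dvd_index (hdiv.trans (Subgroup.index_dvd_of_le hQle))
    have hcop : Nat.Coprime (Nat.card Z) Z.index := by
      obtain ⟨a, ha⟩ := IsPGroup.iff_card.mp hZp
      rw [ha]
      exact Nat.Coprime.pow_left a ((Nat.Prime.coprime_iff_not_dvd hp).mpr hZidx)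
    obtain ⟨K, hK⟩ := Subgroup.exists_right_complement'_of_coprime hcop
    have hKcard : Nat.card K = Z.index := by
      have h1 := hK.card_mul_card
      have h2 := Z.card_mul_index
      have h3 : 0 < Nat.card Z := Nat.card_pos
      exact Nat.eq_of_mul_eq_mul_left h3 (h1.trans h2.symm)
    letI : Fintype ↥(Z : Set ↥C) := Fintype.ofFinite _
    letI : Fintype ↥(K : Set ↥C) := Fintype.ofFinite _
    have hbij : Function.Bijective (fun x : ↥(Z : Set ↥C) × ↥(K : Set ↥C) => x.1.1 * x.2.1) := hK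
    have hsum1 : ∑ c : ↥C, (χ : G → ℂ) (c : G) =
        ∑ x : ↥(Z : Set ↥C) × ↥(K : Set ↥C), (χ : G → ℂ) ((x.1.1 * x.2.1 : ↥C) : G) :=
      (hbij.sum_comp (fun c : ↥C => (χ : G → ℂ) (c : G))).symm
    have hsum2 : ∑ x : ↥(Z : Set ↥C) × ↥(K : Set ↥C), (χ : G → ℂ) ((x.1.1 * x.2.1 : ↥C) : G) =
        ∑ x : ↥(Z : Set ↥C) × ↥(K : Set ↥C), (χ : G → ℂ) ((x.2.1 : ↥C) : G) := by
      apply Finset.sum_congr rfl
      intro x _
      have hz : ((x.1.1 : ↥C) : G) ∈ (P : Subgroup G) := Subgroup.mem_subgroupOf.mp x.1.2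
      rw [Subgroup.coe_mul]
      exact Cfsg.Agent.Lib.H18.RO.ro_char_mul_of_ker hχc (hP _ hz) _
    have hsum3 : ∑ x : ↥(Z : Set ↥C) × ↥(K : Set ↥C), (χ : G → ℂ) ((x.2.1 : ↥C) : G) =
        (Nat.card Z : ℂ) * ∑ k : ↥(K : Set ↥C), (χ : G → ℂ) ((k : ↥C) : G) := by
      rw [Fintype.sum_prod_type]
      simp only [Finset.sum_const, Finset.card_univ, nsmul_eq_mul]
      rw [Nat.card_eq_fintype_card]
      rfl
    have hZ0 : (Nat.card Z : ℂ) ≠ 0 := by
      exact_mod_cast (Nat.card_pos (α := Z)).ne'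
    have hsumK : ∑ k : ↥(K : Set ↥C), (χ : G → ℂ) ((k : ↥C) : G) = 0 := by
      have h5 := hsum1.symm.trans hsumC
      rw [hsum2, hsum3] at h5
      exact (mul_eq_zero.mp h5).resolve_left hZ0
    -- `|K| χ(1)` lies in the local ideal
    have hmem : MemLocalIdeal M ((Nat.card K * charDegree (χ : G → ℂ) : ℕ) : ℂ) := by
      have h6 : ((Nat.card K * charDegree (χ : G → ℂ) : ℕ) : ℂ) =
          ∑ k : ↥(K : Set ↥C), ((χ : G → ℂ) 1 - (χ : G → ℂ) ((k : ↥C) : G)) := by
        rw [Finset.sum_sub_distrib, hsumK, sub_zero, Finset.sum_const, Finset.card_univ,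
          nsmul_eq_mul, hdeg, Nat.card_eq_fintype_card]
        push_cast
        rfl
      rw [h6]
      exact memLocalIdeal_sum _ _ (fun k _ => hcong _ (k : ↥C).2)
    rw [natCast_memLocalIdeal_iff hM] at hmem
    rcases (Nat.Prime.dvd_mul hp).mp hmem with h7 | h7
    · rw [hKcard] at h7
      exact hZidx h7
    · exact hdegp h7

end Cfsg.Agent.Lib.H24.PL1
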