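import Mathlib
import Cfsg.Prelude.Def_Characters
import Cfsg.Prelude.Def_Blocks
import Cfsg.Prelude.Def_Local
import Cfsg.Prelude.Def_Transfer
import Cfsg.Agent.Lib.H20.PL1Defs
import Cfsg.Agent.Lib.H23.BlockVanish
import Cfsg.Agent.Lib.H23.DegreeDvd
import Cfsg.Agent.Lib.H24.CharBasic
import Cfsg.Agent.Lib.H2.PL1CLIF0

/-!
# S4711 piece UP (`sqSum_principalBlock_eq_card_mul`) (helper24).
Exact signature of `tools/blueprints/S4711_sigs.lean`.

If every principal block character restricts irreducibly to `N_G(P)` then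
`∑_{χ ∈ B₀} χ(1)² = |P| ∑_{χ ∈ B₀, P ≤ ker χ} χ(1)²`.
-/

set_option autoImplicit false

namespace Cfsg.Agent.Lib.H24.PL1

open Cfsg Cfsg.Agent.Lib.H20.PL1
open scoped ComplexConjugate

theorem sqSum_eq_sum {G : Type*} [Group G] [Fintype (IrrCharacter G)] (B : Set (IrrCharacter G))
    [DecidablePred (· ∈ B)] :
    sqSum B = ∑ χ : IrrCharacter G, if χ ∈ B then (charDegree (χ : G → ℂ)) ^ 2 else 0 := by
  unfold sqSum
  rw [finsum_eq_sum_of_fintype]
  apply Finset.sum_congr rfl
  intro χ _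
  exact finsum_eq_if

/-- UP. -/
theorem sqSum_principalBlock_eq_card_mul {G : Type*} [Group G] [Finite G] (p : ℕ) [Fact p.Prime]
    (M : Ideal AlgInt) (hM : IsPModular p M) (P : Sylow p G)
    (hyp : ∀ χ ∈ principalBlock M G,
      IsIrrCharacter ↥(Subgroup.normalizer ((P : Subgroup G) : Set G))
        (fun n : ↥(Subgroup.normalizer ((P : Subgroup G) : Set G)) => (χ : G → ℂ) n)) :
    sqSum (principalBlock M G) = Nat.card (P : Subgroup G) *
      sqSum {χ : IrrCharacter G | χ ∈ principalBlock M G ∧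
        ∀ u ∈ (P : Subgroup G), (χ : G → ℂ) u = (χ : G → ℂ) 1} := by
  classical
  letI : Fintype G := Fintype.ofFinite G
  letI : Fintype (IrrCharacter G) := Fintype.ofFinite _
  letI : Fintype ↥(P : Subgroup G) := Fintype.ofFinite _
  have hp : p.Prime := Fact.out
  set B := principalBlock M G with hB
  set R : Set (IrrCharacter G) := {χ : IrrCharacter G | χ ∈ B ∧
    ∀ u ∈ (P : Subgroup G), (χ : G → ℂ) u = (χ : G → ℂ) 1} with hR
  have hcardP : (Nat.card (P : Subgroup G) : ℂ) ≠ 0 := by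
    exact_mod_cast (Nat.card_pos (α := (P : Subgroup G))).ne'
  have hdeg : ∀ χ : IrrCharacter G, (χ : G → ℂ) 1 = (charDegree (χ : G → ℂ) : ℂ) :=
    fun χ => Cfsg.Agent.Lib.H23.apply_one_eq_charDegree _ χ.2
  -- the per-character sum over `P`
  have hsum : ∀ χ ∈ B, ∑ u : ↥(P : Subgroup G), (χ : G → ℂ) u =
      if χ ∈ R then (Nat.card (P : Subgroup G) : ℂ) * (χ : G → ℂ) 1 else 0 := by
    intro χ hχ
    by_cases hχR : χ ∈ R
    · rw [if_pos hχR]
      rw [Finset.sum_congr rfl (fun (u : ↥(P : Subgroup G)) _ => hχR.2 u.1 u.2), Finset.sum_const, Finset.card_univ,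
        nsmul_eq_mul, Nat.card_eq_fintype_card]
    · rw [if_neg hχR]
      rcases Cfsg.Agent.Lib.H2.PL1.le_ker_or_sum_eq_zero _ (hyp χ hχ)
        ((P : Subgroup G).subgroupOf (Subgroup.normalizer ((P : Subgroup G) : Set G))) with h | h
      · exfalso
        apply hχR
        refine ⟨hχ, ?_⟩
        intro u hu
        exact h ⟨u, Subgroup.le_normalizer hu⟩ (Subgroup.mem_subgroupOf.mpr hu)
      · rw [finsum_eq_sum_of_fintype] at h
        rw [← h]
        exact (Fintype.sum_equiv (Subgroup.subgroupOfEquivOfLe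
          (Subgroup.le_normalizer : (P : Subgroup G) ≤ _)).toEquiv _ _ (fun a => rfl)).symm
  -- weak block orthogonality on `P`
  have horth : ∀ u : ↥(P : Subgroup G), ∑ χ : IrrCharacter G,
      (if χ ∈ B then (χ : G → ℂ) 1 * conj ((χ : G → ℂ) u) else 0) =
      if u = 1 then ((sqSum B : ℕ) : ℂ) else 0 := by
    intro u
    by_cases hu : u = 1
    · rw [if_pos hu, hu, sqSum_eq_sum B]
      push_cast
      apply Finset.sum_congr rfl
      intro χ _
      by_cases hχ : χ ∈ B
      · rw [if_pos hχ, if_pos hχ, hdeg, Complex.conj_natCast]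
        ring
      · rw [if_neg hχ, if_neg hχ]
    · rw [if_neg hu]
      have hu1 : (u : G) ≠ 1 := fun h => hu (Subtype.ext h)
      have hord : p ∣ orderOf (u : G) := by
        obtain ⟨k, hk⟩ := P.2 u
        have h1 : orderOf u ∣ p ^ k := orderOf_dvd_of_pow_eq_one hk
        obtain ⟨j, hj, hj'⟩ := (Nat.dvd_prime_pow hp).mp h1
        rw [Subgroup.orderOf_coe, hj']
        rcases Nat.eq_zero_or_pos j with h0 | h0
        · exfalso
          rw [h0, pow_zero, orderOf_eq_one_iff] at hj'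
          exact hu hj'
        · exact dvd_pow_self p h0.ne'
      have h1 := Cfsg.Agent.Lib.H23.weak_block_orthogonality (G := G) (p := p) (M := M) hM
        (Cfsg.Agent.Lib.H24.trivialIrr G) (1 : G) (u : G)
        (by rw [orderOf_one]; exact hp.one_lt.ne' ∘ Nat.dvd_one.mp) hord
      exact h1
  have h1 : ∑ u : ↥(P : Subgroup G), ∑ χ : IrrCharacter G,
      (if χ ∈ B then (χ : G → ℂ) 1 * conj ((χ : G → ℂ) u) else 0) = ((sqSum B : ℕ) : ℂ) := by
    rw [Finset.sum_congr rfl (fun u _ => horth u), Finset.sum_ite_eq' Finset.univ (1 : ↥(P : Subgroup G))]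
    simp
  have h2 : ∑ u : ↥(P : Subgroup G), ∑ χ : IrrCharacter G,
      (if χ ∈ B then (χ : G → ℂ) 1 * conj ((χ : G → ℂ) u) else 0) =
      ((Nat.card (P : Subgroup G) * sqSum R : ℕ) : ℂ) := by
    rw [Finset.sum_comm, sqSum_eq_sum R]
    push_cast
    rw [Finset.mul_sum]
    apply Finset.sum_congr rfl
    intro χ _
    by_cases hχ : χ ∈ B
    · simp only [if_pos hχ]
      rw [← Finset.mul_sum, ← map_sum, hsum χ hχ]
      by_cases hχR : χ ∈ R
      · rw [if_pos hχR, if_pos hχR, hdeg, map_mul, Complex.conj_natCast, Complex.conj_natCast]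
        ring
      · rw [if_neg hχR, if_neg hχR, map_zero, mul_zero, mul_zero]
    · have hχR : χ ∉ R := fun h => hχ h.1
      simp only [if_neg hχ, if_neg hχR, Finset.sum_const_zero, mul_zero]
  exact_mod_cast h1.symm.trans h2

end Cfsg.Agent.Lib.H24.PL1
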