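import Mathlib

set_option autoImplicit false

/-!
# TV4 / NT: the norm trick (piece of helper2's S4004 blueprint)

`V` abelian of exponent `p`, normalized by `H ≥ Q`, `C_V(Q) = 1`, `(v h)^p = 1` for `h ∈ H \ Q`, and
`|H| - |Q|` prime to `p`  ⟹  `V = 1`.
-/

namespace Cfsg.Agent.Lib.H24.TV4

universe u

theorem normtrick {G : Type u} [Group G] [Finite G] {p : ℕ} (hp : p.Prime) (V H Q : Subgroup G)
    (hVH : H ≤ Subgroup.normalizer (V : Set G)) (hQH : Q ≤ H)
    (hVab : ∀ v ∈ V, ∀ w ∈ V, v * w = w * v) (hVp : ∀ v ∈ V, v ^ p = 1)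
    (hfpf : ∀ v ∈ V, (∀ t ∈ Q, t * v * t⁻¹ = v) → v = 1)
    (hord : ∀ h ∈ H, h ∉ Q → ∀ v ∈ V, (v * h) ^ p = 1)
    (hcop : (Nat.card H - Nat.card Q).Coprime p) : V = ⊥ := by
  classical
  let _ : CommGroup V :=
    { (inferInstance : Group V) with mul_comm := fun a b => Subtype.ext (hVab a a.2 b b.2) }
  have : Fintype H := Fintype.ofFinite H
  have hmem : ∀ h ∈ H, ∀ v ∈ V, h * v * h⁻¹ ∈ V := fun h hh v hv =>
    (Subgroup.mem_normalizer_iff.mp (hVH hh) v).mp hv
  -- conjugation by `h ∈ H` as an endomorphism of `V`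
  let cj : H → (V →* V) := fun h =>
    { toFun := fun v => ⟨(h : G) * v * (h : G)⁻¹, hmem h h.2 v v.2⟩
      map_one' := by ext; simp
      map_mul' := fun a b => by ext; simp [mul_assoc] }
  have cj_coe : ∀ (h : H) (v : V), ((cj h v : V) : G) = (h : G) * v * (h : G)⁻¹ := fun _ _ => rfl
  have cj_mul : ∀ (h₁ h₂ : H) (v : V), cj (h₁ * h₂) v = cj h₁ (cj h₂ v) := by
    intro h₁ h₂ v
    ext
    simp [cj_coe, mul_assoc]
  have cj_one : ∀ v : V, cj 1 v = v := by
    intro v
    ext
    simp [cj_coe]
  rw [Subgroup.eq_bot_iff_forall]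
  intro v₀ hv₀
  set v : V := ⟨v₀, hv₀⟩ with hv
  -- Q-invariant index sets give trivial products
  have hinv : ∀ S : Finset H, (∀ t : H, (t : G) ∈ Q → ∀ h : H, h ∈ S ↔ t * h ∈ S) →
      ∏ h ∈ S, cj h v = 1 := by
    intro S hS
    have h1 : ((∏ h ∈ S, cj h v : V) : G) = 1 := by
      apply hfpf _ (∏ h ∈ S, cj h v : V).2
      intro t ht
      have htH : t ∈ H := hQH ht
      have : cj ⟨t, htH⟩ (∏ h ∈ S, cj h v) = ∏ h ∈ S, cj h v := by
        rw [map_prod]
        refine Finset.prod_equiv (Equiv.mulLeft (⟨t, htH⟩ : H)) ?_ ?_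
        · intro h
          exact hS ⟨t, htH⟩ ht h
        · intro h _
          simp [cj_mul]
      exact congrArg Subtype.val this
    exact Subtype.ext h1
  have hall : ∏ h : H, cj h v = 1 := hinv Finset.univ (by simp)
  have hQ : ∏ h ∈ Finset.univ.filter (fun h : H => (h : G) ∈ Q), cj h v = 1 := by
    apply hinv
    intro t ht h
    simp only [Finset.mem_filter, Finset.mem_univ, true_and, Subgroup.coe_mul]
    constructor
    · intro hh; exact Q.mul_mem ht hh
    · intro hh
      have := Q.mul_mem (Q.inv_mem ht) hh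
      simpa using this
  have hNQ : ∏ h ∈ Finset.univ.filter (fun h : H => ¬ (h : G) ∈ Q), cj h v = 1 := by
    have := Finset.prod_filter_mul_prod_filter_not Finset.univ (fun h : H => (h : G) ∈ Q)
      (fun h => cj h v)
    rw [hQ, hall, one_mul] at this
    exact this
  -- powers of `v h`
  have hpow : ∀ (h : H) (n : ℕ),
      ((v : G) * (h : G)) ^ n = ((∏ k ∈ Finset.range n, cj (h ^ k) v : V) : G) * (h : G) ^ n := by
    intro h n
    induction n with
    | zero => simp
    | succ n ih =>
      rw [pow_succ, ih, Finset.prod_range_succ, Subgroup.coe_mul, cj_coe, pow_succ]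
      simp only [Subgroup.coe_pow]
      group
  have hhp : ∀ h : H, (h : G) ∉ Q → (h : G) ^ p = 1 := by
    intro h hh
    have := hord h h.2 hh 1 V.one_mem
    simpa using this
  have hrow : ∀ h : H, (h : G) ∉ Q → ∏ k ∈ Finset.range p, cj (h ^ k) v = 1 := by
    intro h hh
    have h1 := hpow h p
    rw [hord h h.2 hh v v.2, hhp h hh, mul_one] at h1
    exact Subtype.ext h1.symm
  -- the power maps permute `H \ Q`
  have hperm : ∀ k : ℕ, k < p - 1 →
      ∏ h ∈ Finset.univ.filter (fun h : H => ¬ (h : G) ∈ Q), cj (h ^ (k + 1)) v = 1 := by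
    intro k hk
    have hcopk : Nat.Coprime (k + 1) p := by
      apply Nat.Coprime.symm
      rw [Nat.Prime.coprime_iff_not_dvd hp]
      intro hd
      have := Nat.le_of_dvd (Nat.succ_pos k) hd
      omega
    obtain ⟨k', -, hk'⟩ := Nat.exists_mul_mod_eq_one_of_coprime hcopk hp.one_lt
    have hback : ∀ h : H, (h : G) ^ p = 1 → (h ^ (k + 1)) ^ k' = h := by
      intro h hh
      have hhH : h ^ p = 1 := Subtype.ext (by simpa using hh)
      rw [← pow_mul, pow_eq_pow_mod _ hhH, hk', pow_one]
    have hback' : ∀ h : H, (h : G) ^ p = 1 → (h ^ k') ^ (k + 1) = h := by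
      intro h hh
      have hhH : h ^ p = 1 := Subtype.ext (by simpa using hh)
      rw [← pow_mul, mul_comm, pow_eq_pow_mod _ hhH, hk', pow_one]
    rw [← hNQ]
    refine Finset.prod_nbij' (fun h => h ^ (k + 1)) (fun h => h ^ k') ?_ ?_ ?_ ?_ ?_
    · intro h hh
      simp only [Finset.mem_filter, Finset.mem_univ, true_and] at hh ⊢
      intro hc
      apply hh
      have := Q.pow_mem hc k'
      have e := hback h (hhp h hh)
      have e' : ((h : G) ^ (k + 1)) ^ k' = (h : G) := by
        have := congrArg (fun x : H => (x : G)) e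
        simpa using this
      rw [Subgroup.coe_pow] at this
      rw [e'] at this
      exact this
    · intro h hh
      simp only [Finset.mem_filter, Finset.mem_univ, true_and] at hh ⊢
      intro hc
      apply hh
      have := Q.pow_mem hc (k + 1)
      have e := hback' h (hhp h hh)
      have e' : ((h : G) ^ k') ^ (k + 1) = (h : G) := by
        have := congrArg (fun x : H => (x : G)) e
        simpa using this
      rw [Subgroup.coe_pow] at this
      rw [e'] at this
      exact this
    · intro h hh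
      simp only [Finset.mem_filter, Finset.mem_univ, true_and] at hh
      exact hback h (hhp h hh)
    · intro h hh
      simp only [Finset.mem_filter, Finset.mem_univ, true_and] at hh
      exact hback' h (hhp h hh)
    · intro h _
      rfl
  -- double product
  have hdouble : ∏ h ∈ Finset.univ.filter (fun h : H => ¬ (h : G) ∈ Q),
      ∏ k ∈ Finset.range p, cj (h ^ k) v = 1 := by
    apply Finset.prod_eq_one
    intro h hh
    simp only [Finset.mem_filter, Finset.mem_univ, true_and] at hh
    exact hrow h hh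
  rw [Finset.prod_comm] at hdouble
  obtain ⟨m, hm⟩ : ∃ m, p = m + 1 := ⟨p - 1, by have := hp.pos; omega⟩
  rw [hm, Finset.prod_range_succ'] at hdouble
  have hz : ∏ k ∈ Finset.range m, ∏ h ∈ Finset.univ.filter (fun h : H => ¬ (h : G) ∈ Q),
      cj (h ^ (k + 1)) v = 1 := by
    apply Finset.prod_eq_one
    intro k hk
    apply hperm
    rw [Finset.mem_range] at hk
    omega
  rw [hz, one_mul] at hdouble
  simp only [pow_zero, cj_one, Finset.prod_const] at hdouble
  -- count
  have hcard : (Finset.univ.filter (fun h : H => ¬ (h : G) ∈ Q)).card = Nat.card H - Nat.card Q := by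
    have h1 : (Finset.univ.filter (fun h : H => (h : G) ∈ Q)).card = Nat.card Q := by
      rw [← Fintype.card_subtype, ← Nat.card_eq_fintype_card]
      apply Nat.card_congr
      exact
        { toFun := fun x => ⟨(x.1 : G), x.2⟩
          invFun := fun y => ⟨⟨(y : G), hQH y.2⟩, y.2⟩
          left_inv := fun x => by ext; rfl
          right_inv := fun y => by ext; rfl }
    have h2 := Finset.card_filter_add_card_filter_not (s := (Finset.univ : Finset H))
      (fun h : H => (h : G) ∈ Q)
    rw [h1, Finset.card_univ, ← Nat.card_eq_fintype_card] at h2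
    omega
  rw [hcard] at hdouble
  have hvp : v ^ p = 1 := Subtype.ext (by simpa using hVp v v.2)
  have := pow_gcd_eq_one.mpr ⟨hdouble, hvp⟩
  rw [Nat.Coprime] at hcop
  rw [hcop, pow_one] at this
  have := congrArg (fun x : V => (x : G)) this
  simpa [hv] using this

end Cfsg.Agent.Lib.H24.TV4
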