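import Mathlib
import Cfsg.Agent.Lib.H24.TV4NT

set_option autoImplicit false

/-!
# TV3 / AVG: the averaging trick (piece of helper20's S4004 blueprint), derived from `TV4.normtrick`.
-/

namespace Cfsg.Agent.Lib.H24.TV3

open scoped Pointwise

universe u

variable {G : Type u} [Group G] [Finite G]

/-- If all powers of `b` normalize `N` and `a ∈ N`, then `(a b)^n ∈ N b^n`. -/
theorem pow_mul_mem_aux (N : Subgroup G) (a b : G) (ha : a ∈ N)
    (hb : ∀ n : ℕ, ∀ x ∈ N, b ^ n * x * (b ^ n)⁻¹ ∈ N) :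
    ∀ n : ℕ, ∃ x ∈ N, (a * b) ^ n = x * b ^ n := by
  have _hfin : Finite G := inferInstance
  intro n
  induction n with
  | zero => exact ⟨1, N.one_mem, by simp⟩
  | succ n ih =>
    obtain ⟨x, hx, hxe⟩ := ih
    refine ⟨x * (b ^ n * a * (b ^ n)⁻¹), N.mul_mem hx (hb n a ha), ?_⟩
    rw [pow_succ, hxe, pow_succ]
    group

theorem avg {r r' : ℕ} (hr : r.Prime) (hr' : r'.Prime) (hne : r ≠ r')
    (hord : ∀ g : G, orderOf g = 1 ∨ orderOf g = r ∨ orderOf g = r')
    (V : Subgroup G) [V.Normal] (hVc : ∀ a ∈ V, ∀ b ∈ V, a * b = b * a) (hVr : ∀ a ∈ V, a ^ r = 1)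
    (hV1 : V ≠ ⊥) (y c : G) (hy : orderOf y = r') (hc : orderOf c = r)
    (hn : c * y * c⁻¹ ∈ Subgroup.zpowers y) : False := by
  classical
  have hcop : Nat.Coprime r' r := (Nat.coprime_primes hr' hr).mpr (Ne.symm hne)
  set Q := Subgroup.zpowers y with hQ
  set C := Subgroup.zpowers c with hC
  have hQcard : Nat.card Q = r' := by rw [hQ, Nat.card_zpowers, hy]
  have hCcard : Nat.card C = r := by rw [hC, Nat.card_zpowers, hc]
  -- `c` normalizes `Q`
  have hcQ : ∀ n, n ∈ (Q : Set G) → c * n * c⁻¹ ∈ (Q : Set G) := by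
    intro n hn'
    obtain ⟨k, rfl⟩ := Subgroup.mem_zpowers_iff.mp hn'
    rw [← conj_zpow]
    exact Q.zpow_mem hn k
  have hcN : c ∈ Subgroup.normalizer (Q : Set G) := Subgroup.mem_normalizer_fintype hcQ
  have hCN : C ≤ Subgroup.normalizer (Q : Set G) := by
    rw [hC, Subgroup.zpowers_le]; exact hcN
  have hQC : Q ⊓ C = ⊥ :=
    (Subgroup.disjoint_of_coprime_natCard (by rw [hQcard, hCcard]; exact hcop)).eq_bot
  set H := Q ⊔ C with hH
  have hHset : (H : Set G) = (Q : Set G) * (C : Set G) :=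
    Subgroup.coe_mul_of_right_le_normalizer_left Q C hCN
  have hHcard : Nat.card H = r * r' := by
    have h1 : r' ∣ Nat.card H := hQcard ▸ Subgroup.card_dvd_of_le (le_sup_left : Q ≤ H)
    have h2 : r ∣ Nat.card H := hCcard ▸ Subgroup.card_dvd_of_le (le_sup_right : C ≤ H)
    have h3 : r * r' ∣ Nat.card H := Nat.Coprime.mul_dvd_of_dvd_of_dvd hcop.symm h2 h1
    have h4 : Nat.card H ≤ r' * r := by
      have := Set.natCard_mul_le (s := (Q : Set G)) (t := (C : Set G))
      rw [← hHset] at this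
      calc Nat.card H = Nat.card ((H : Set G)) := rfl
        _ ≤ Nat.card (Q : Set G) * Nat.card (C : Set G) := this
        _ = r' * r := by
          have e1 : Nat.card (Q : Set G) = Nat.card Q := rfl
          have e2 : Nat.card (C : Set G) = Nat.card C := rfl
          rw [e1, e2, hQcard, hCcard]
    have h5 : 0 < Nat.card H := Nat.card_pos
    have h6 := Nat.le_of_dvd h5 h3
    rw [mul_comm] at h4
    omega
  -- an element killed by `r` and with `r'`-th power in a subgroup lies in that subgroup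
  have hback : ∀ (N : Subgroup G) (g : G), g ^ r = 1 → g ^ r' ∈ N → g ∈ N := by
    intro N g h1 h2
    obtain ⟨m, -, hm⟩ := Nat.exists_mul_mod_eq_one_of_coprime hcop hr.one_lt
    have : g = (g ^ r') ^ m := by
      rw [← pow_mul, pow_eq_pow_mod _ h1, hm, pow_one]
    rw [this]
    exact N.pow_mem h2 m
  -- elements of `H \ Q` have order `r`
  have hHQ : ∀ h ∈ H, h ∉ Q → h ^ r = 1 := by
    intro h hh hhQ
    have hmem : h ∈ (Q : Set G) * (C : Set G) := hHset ▸ hh
    obtain ⟨q, hq, c', hc', rfl⟩ := Set.mem_mul.mp hmem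
    rcases hord (q * c') with h1 | h1 | h1
    · exfalso
      apply hhQ
      rw [orderOf_eq_one_iff.mp h1]
      exact Q.one_mem
    · rw [← h1]; exact pow_orderOf_eq_one _
    · exfalso
      have hnorm : ∀ n : ℕ, ∀ x ∈ Q, c' ^ n * x * (c' ^ n)⁻¹ ∈ Q := fun n x hx =>
        (Subgroup.mem_normalizer_iff.mp (hCN (C.pow_mem hc' n)) x).mp hx
      obtain ⟨x, hx, hxe⟩ := pow_mul_mem_aux Q q c' hq hnorm r'
      have h1' : (q * c') ^ r' = 1 := by rw [← h1]; exact pow_orderOf_eq_one _
      rw [h1'] at hxe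
      have hcr' : c' ^ r' = x⁻¹ := by
        rw [eq_inv_iff_mul_eq_one, mul_eq_one_comm]
        exact hxe.symm
      have hc'r : c' ^ r = 1 := by
        have := pow_card_eq_one' (G := C) (x := ⟨c', hc'⟩)
        rw [hCcard] at this
        have := congrArg (fun z : C => (z : G)) this
        simpa using this
      have hc'Q : c' ∈ Q := hback Q c' hc'r (hcr' ▸ Q.inv_mem hx)
      exact hhQ (Q.mul_mem hq hc'Q)
  apply hV1
  refine TV4.normtrick hr V H Q ?_ le_sup_left hVc hVr ?_ ?_ ?_
  · rw [Subgroup.normalizer_eq_top]; exact le_top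
  · -- fixed-point-freeness
    intro v hv hfix
    by_contra hv1
    have : Fact r.Prime := ⟨hr⟩
    have hov : orderOf v = r := orderOf_eq_prime (hVr v hv) hv1
    have hcomm : Commute v y := by
      have := hfix y (Subgroup.mem_zpowers y)
      unfold Commute SemiconjBy
      calc v * y = (y * v * y⁻¹) * y := by rw [this]
        _ = y * v := by group
    have := hcomm.orderOf_mul_eq_mul_orderOf_of_coprime (by rw [hov, hy]; exact hcop.symm)
    rw [hov, hy] at this
    have h2 := hr.two_le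
    have h2' := hr'.two_le
    rcases hord (v * y) with h | h | h
    · rw [h] at this; nlinarith
    · rw [h] at this; nlinarith
    · rw [h] at this; nlinarith
  · -- `(v h)^r = 1`
    intro h hh hhQ v hv
    have hhr : h ^ r = 1 := hHQ h hh hhQ
    rcases hord (v * h) with h1 | h1 | h1
    · rw [orderOf_eq_one_iff.mp h1, one_pow]
    · rw [← h1]; exact pow_orderOf_eq_one _
    · have hnorm : ∀ n : ℕ, ∀ x ∈ V, h ^ n * x * (h ^ n)⁻¹ ∈ V := fun n x hx =>
        ‹V.Normal›.conj_mem x hx (h ^ n)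
      obtain ⟨x, hx, hxe⟩ := pow_mul_mem_aux V v h hv hnorm r'
      have h1' : (v * h) ^ r' = 1 := by rw [← h1]; exact pow_orderOf_eq_one _
      rw [h1'] at hxe
      have hcr' : h ^ r' = x⁻¹ := by
        rw [eq_inv_iff_mul_eq_one, mul_eq_one_comm]
        exact hxe.symm
      have hhV : h ∈ V := hback V h hhr (hcr' ▸ V.inv_mem hx)
      exact hVr _ (V.mul_mem hv hhV)
  · rw [hHcard, hQcard]
    have h2 := hr.two_le
    have e : r * r' - r' = r' * (r - 1) := by
      rw [Nat.mul_sub, mul_one, mul_comm]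
    rw [e]
    apply Nat.Coprime.mul_left hcop
    apply Nat.Coprime.symm
    rw [Nat.Prime.coprime_iff_not_dvd hr]
    intro hd
    have := Nat.le_of_dvd (by omega) hd
    omega

end Cfsg.Agent.Lib.H24.TV3
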