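/-
S5673 project (orthogonal odd Aschbacher), tool OT5: an absolutely irreducible normal subgroup realisable over a
proper subfield puts `H` in class 5 (with the form rational on the subfield structure, via the discriminant).
(helper24)
-/
import Cfsg.Agent.Lib.H24.AschOBasic
import Cfsg.Agent.Lib.H17.AschU2

set_option autoImplicit false

namespace Cfsg.Agent.Lib.H24.Asch

open Cfsg Cfsg.Geo Cfsg.Agent.Lib.Lead.Asch Cfsg.Agent.Lib.H17.Asch
open scoped MatrixGroups Matrix Kronecker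

variable {F : Type*} [Field F] [Fintype F] {n : ℕ}

/-- A quadratic expression `u ⬝ᵥ M *ᵥ u` with everything in a subfield lies in the subfield. -/
theorem dot_mulVec_mem_subfield {ι : Type} [Fintype ι] (K : Subfield F) (M : Matrix ι ι F) (u : ι → F)
    (hM : ∀ i j, M i j ∈ K) (hu : ∀ i, u i ∈ K) : u ⬝ᵥ M *ᵥ u ∈ K := by
  simp only [dotProduct, Matrix.mulVec]
  exact K.sum_mem fun i _ => K.mul_mem (hu i) (K.sum_mem fun j _ => K.mul_mem (hM i j) (hu j))

/-- Conjugation by a scalar multiple of `P` gives the same subfield group. -/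
theorem subfieldSubgroup_smul (F₀ : Subfield F) (P sc : GL (Fin n) F) (hsc : sc ∈ scalars (Fin n) F) :
    subfieldSubgroup F₀ (sc * P) = subfieldSubgroup F₀ P := by
  have hcentral : ∀ g : GL (Fin n) F, sc * g = g * sc := by
    intro g
    obtain ⟨c, hc⟩ := (mem_scalars_iff sc).1 hsc
    apply Units.ext
    rw [Units.val_mul, Units.val_mul, hc, Matrix.smul_mul, Matrix.one_mul, Matrix.mul_smul, Matrix.mul_one]
  have hconj : ∀ g : GL (Fin n) F, sc * g * sc⁻¹ = g := fun g => by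
    rw [hcentral, mul_inv_cancel_right]
  unfold subfieldSubgroup
  ext g
  simp only [Subgroup.mem_map, MulEquiv.coe_toMonoidHom, MulAut.conj_apply]
  constructor
  · rintro ⟨y, hy, rfl⟩
    refine ⟨y, hy, ?_⟩
    rw [mul_inv_rev]
    calc P * y * P⁻¹ = sc * (P * y * P⁻¹) * sc⁻¹ := (hconj _).symm
      _ = sc * P * y * (P⁻¹ * sc⁻¹) := by group
  · rintro ⟨y, hy, rfl⟩
    refine ⟨y, hy, ?_⟩
    rw [mul_inv_rev]
    calc sc * P * y * (P⁻¹ * sc⁻¹) = sc * (P * y * P⁻¹) * sc⁻¹ := by group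
      _ = P * y * P⁻¹ := hconj _

/-- **OT5** (class 5 from realisability). -/
theorem oc5_of_realisable (Q : (Fin n → F) → F) (hQ : OData Q) (hn : 2 ≤ n)
    (H N : Subgroup (GL (Fin n) F)) (hH : H ≤ isometryGroup F Q) (hNH : N ≤ H)
    (hnorm : NormalizedBy H N) (habs : ActsAbsolutelyIrreducibly (matrixSet N))
    (F₁ : Subfield F) (hne : F₁ ≠ ⊤) (hreal : RealisableOver F₁ (matrixSet N)) : OC5 Q H := by
  classical
  haveI : Nonempty (Fin n) := ⟨⟨0, by omega⟩⟩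
  obtain ⟨F₀, r, hle, hr, hcard⟩ := exists_prime_degree_subfield F₁ hne
  obtain ⟨B, hB⟩ := hreal
  have hB' : ∀ x ∈ N, ∀ i j, cj B x i j ∈ F₀ := fun x hx i j => hle (hB _ ⟨x, hx, rfl⟩ i j)
  have h2 : (2 : F) ≠ 0 := two_ne_zero_of_odd hQ.qodd
  set G : Matrix (Fin n) (Fin n) F := gramMatrix (QuadraticMap.polar Q) with hG
  set Bi : Matrix (Fin n) (Fin n) F := ((B⁻¹ : GL (Fin n) F) : Matrix (Fin n) (Fin n) F) with hBi
  set G' : Matrix (Fin n) (Fin n) F := Biᵀ * G * Bi with hG'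
  have hBBi : (B : Matrix (Fin n) (Fin n) F) * Bi = 1 := by
    rw [hBi, ← Units.val_mul, mul_inv_cancel, Units.val_one]
  have hBiB : Bi * (B : Matrix (Fin n) (Fin n) F) = 1 := by
    rw [hBi, ← Units.val_mul, inv_mul_cancel, Units.val_one]
  -- invariance of G' under the conjugated group
  have hinv : ∀ x ∈ N, (cj B x)ᵀ * G' * cj B x = G' := by
    intro x hx
    have hxI := isometry_gram hQ.quad x (hH (hNH hx))
    rw [cj_eq, hG']
    simp only [Matrix.transpose_mul]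
    calc Biᵀ * ((x : Matrix (Fin n) (Fin n) F)ᵀ * (B : Matrix (Fin n) (Fin n) F)ᵀ) * (Biᵀ * G * Bi) *
          ((B : Matrix (Fin n) (Fin n) F) * (x : Matrix (Fin n) (Fin n) F) * Bi)
        = Biᵀ * (x : Matrix (Fin n) (Fin n) F)ᵀ * ((Bi * (B : Matrix (Fin n) (Fin n) F))ᵀ) * G *
            (Bi * (B : Matrix (Fin n) (Fin n) F)) * (x : Matrix (Fin n) (Fin n) F) * Bi := by
          simp only [Matrix.transpose_mul, Matrix.mul_assoc]
      _ = Biᵀ * ((x : Matrix (Fin n) (Fin n) F)ᵀ * G * (x : Matrix (Fin n) (Fin n) F)) * Bi := by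
          rw [hBiB]
          simp only [Matrix.transpose_one, Matrix.mul_one, Matrix.mul_assoc]
      _ = Biᵀ * G * Bi := by rw [hxI]
  have hGdet : G.det ≠ 0 := gram_det_ne_zero hQ.quad
  have hBidet : Bi.det ≠ 0 := by
    intro h0
    have := congrArg Matrix.det hBBi
    rw [Matrix.det_mul, h0, mul_zero, Matrix.det_one] at this
    exact zero_ne_one this
  have hG'det : G'.det = Bi.det ^ 2 * G.det := by
    rw [hG', Matrix.det_mul, Matrix.det_mul, Matrix.det_transpose]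
    ring
  have hG'det0 : G'.det ≠ 0 := by
    rw [hG'det]
    exact mul_ne_zero (pow_ne_zero _ hBidet) hGdet
  -- a non-zero entry and a functional
  obtain ⟨a, b, hab⟩ : ∃ a b, G' a b ≠ 0 := by
    by_contra hcon
    push Not at hcon
    apply hG'det0
    have : G' = 0 := Matrix.ext hcon
    rw [this, Matrix.det_zero]
  obtain ⟨l, hl⟩ : ∃ l : Module.Dual F₀ F, l (G' a b) ≠ 0 := by
    by_contra hcon
    push Not at hcon
    exact hab ((Module.forall_dual_apply_eq_zero_iff F₀ _).mp hcon)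
  set T : Matrix (Fin n) (Fin n) F := Matrix.of fun i j => ((l (G' i j) : F₀) : F) with hT
  have hTmem : ∀ i j, T i j ∈ F₀ := fun i j => (l (G' i j)).2
  -- cj B x⁻¹ is the inverse of cj B x
  have hcjinv : ∀ x : GL (Fin n) F, cj B x⁻¹ * cj B x = 1 := by
    intro x
    rw [← cj_mul, inv_mul_cancel, cj_one]
  have hTinv : ∀ x ∈ N, (cj B x)ᵀ * T * cj B x = T := by
    intro x hx
    have h1 : G' * cj B x = (cj B x⁻¹)ᵀ * G' := by
      have := hinv x hx
      calc G' * cj B x = ((cj B x⁻¹)ᵀ * (cj B x)ᵀ) * G' * cj B x := by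
            rw [← Matrix.transpose_mul]
            have : cj B x * cj B x⁻¹ = 1 := by rw [← cj_mul, mul_inv_cancel, cj_one]
            rw [this, Matrix.transpose_one, Matrix.one_mul]
        _ = (cj B x⁻¹)ᵀ * ((cj B x)ᵀ * G' * cj B x) := by simp only [Matrix.mul_assoc]
        _ = (cj B x⁻¹)ᵀ * G' := by rw [this]
    have h3 := functional_intertwiner F₀ l G' (cj B x) ((cj B x⁻¹)ᵀ) (hB' x hx)
      (fun i j => hB' x⁻¹ (N.inv_mem hx) j i) h1
    calc (cj B x)ᵀ * T * cj B x = (cj B x)ᵀ * (T * cj B x) := by rw [Matrix.mul_assoc]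
      _ = (cj B x)ᵀ * ((cj B x⁻¹)ᵀ * T) := by rw [h3]
      _ = ((cj B x⁻¹) * (cj B x))ᵀ * T := by rw [Matrix.transpose_mul, Matrix.mul_assoc]
      _ = T := by rw [hcjinv, Matrix.transpose_one, Matrix.one_mul]
  -- G'⁻¹ * T commutes with the conjugated group
  have hGi : G'⁻¹ * G' = 1 := Matrix.nonsing_inv_mul _ (isUnit_iff_ne_zero.2 hG'det0)
  have hGi' : G' * G'⁻¹ = 1 := Matrix.mul_nonsing_inv _ (isUnit_iff_ne_zero.2 hG'det0)
  obtain ⟨k, hk⟩ := commutant_cj N habs.2 B (G'⁻¹ * T) (by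
    intro x hx
    -- T * X = X⁻ᵀ * T and G' * X = X⁻ᵀ * G'
    have hx1 : (cj B x)ᵀ * G' = G' * cj B x⁻¹ := by
      have := hinv x hx
      calc (cj B x)ᵀ * G' = (cj B x)ᵀ * G' * (cj B x * cj B x⁻¹) := by
            rw [← cj_mul, mul_inv_cancel, cj_one, Matrix.mul_one]
        _ = ((cj B x)ᵀ * G' * cj B x) * cj B x⁻¹ := by simp only [Matrix.mul_assoc]
        _ = G' * cj B x⁻¹ := by rw [this]
    have hx2 : G'⁻¹ * (cj B x)ᵀ = cj B x⁻¹ * G'⁻¹ := by
      calc G'⁻¹ * (cj B x)ᵀ = G'⁻¹ * ((cj B x)ᵀ * G') * G'⁻¹ := by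
            rw [Matrix.mul_assoc, Matrix.mul_assoc, hGi', Matrix.mul_one]
        _ = G'⁻¹ * (G' * cj B x⁻¹) * G'⁻¹ := by rw [hx1]
        _ = cj B x⁻¹ * G'⁻¹ := by rw [← Matrix.mul_assoc, hGi, Matrix.one_mul]
    have hx3 : T * cj B x = (cj B x⁻¹)ᵀ * T := by
      have := hTinv x hx
      calc T * cj B x = ((cj B x⁻¹)ᵀ * (cj B x)ᵀ) * T * cj B x := by
            rw [← Matrix.transpose_mul]
            have : cj B x * cj B x⁻¹ = 1 := by rw [← cj_mul, mul_inv_cancel, cj_one]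
            rw [this, Matrix.transpose_one, Matrix.one_mul]
        _ = (cj B x⁻¹)ᵀ * ((cj B x)ᵀ * T * cj B x) := by simp only [Matrix.mul_assoc]
        _ = (cj B x⁻¹)ᵀ * T := by rw [this]
    have hx4 : G'⁻¹ * (cj B x⁻¹)ᵀ = cj B x * G'⁻¹ := by
      have := hx2
      have hxi : ∀ y ∈ N, G'⁻¹ * (cj B y)ᵀ = cj B y⁻¹ * G'⁻¹ := by
        intro y hy
        have hy1 : (cj B y)ᵀ * G' = G' * cj B y⁻¹ := by
          have := hinv y hy
          calc (cj B y)ᵀ * G' = (cj B y)ᵀ * G' * (cj B y * cj B y⁻¹) := by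
                rw [← cj_mul, mul_inv_cancel, cj_one, Matrix.mul_one]
            _ = ((cj B y)ᵀ * G' * cj B y) * cj B y⁻¹ := by simp only [Matrix.mul_assoc]
            _ = G' * cj B y⁻¹ := by rw [this]
        calc G'⁻¹ * (cj B y)ᵀ = G'⁻¹ * ((cj B y)ᵀ * G') * G'⁻¹ := by
              rw [Matrix.mul_assoc, Matrix.mul_assoc, hGi', Matrix.mul_one]
          _ = G'⁻¹ * (G' * cj B y⁻¹) * G'⁻¹ := by rw [hy1]
          _ = cj B y⁻¹ * G'⁻¹ := by rw [← Matrix.mul_assoc, hGi, Matrix.one_mul]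
      have := hxi x⁻¹ (N.inv_mem hx)
      rwa [inv_inv] at this
    calc G'⁻¹ * T * cj B x = G'⁻¹ * (T * cj B x) := by rw [Matrix.mul_assoc]
      _ = G'⁻¹ * ((cj B x⁻¹)ᵀ * T) := by rw [hx3]
      _ = (G'⁻¹ * (cj B x⁻¹)ᵀ) * T := by rw [Matrix.mul_assoc]
      _ = cj B x * (G'⁻¹ * T) := by rw [hx4, Matrix.mul_assoc])
  have hTk : T = k • G' := by
    calc T = G' * (G'⁻¹ * T) := by rw [← Matrix.mul_assoc, hGi', Matrix.one_mul]
      _ = k • G' := by rw [hk, Matrix.mul_smul, Matrix.mul_one]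
  have hk0 : k ≠ 0 := by
    rintro rfl
    apply hl
    have h3 := congrFun (congrFun hTk a) b
    simp only [hT, Matrix.of_apply, zero_smul, Matrix.zero_apply] at h3
    exact_mod_cast h3
  -- the discriminant
  obtain ⟨d, hd, b₀, hdisc⟩ := hQ.disc
  have hd0 : d ≠ 0 := by
    rintro rfl
    rw [zero_mul] at hdisc
    exact hGdet hdisc
  have hb0 : b₀ ≠ 0 := by
    rintro rfl
    rw [zero_pow two_ne_zero, mul_zero] at hdisc
    exact hGdet hdisc
  have hdF₀ : d ∈ F₀ := (bot_le : (⊥ : Subfield F) ≤ F₀) hd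
  have hTdet : T.det ∈ F₀ := by
    rw [Matrix.det_apply']
    refine F₀.sum_mem fun σ _ => F₀.mul_mem (intCast_mem F₀ _) (F₀.prod_mem fun i _ => hTmem _ _)
  have hTdet' : T.det = k ^ n * (Bi.det ^ 2 * (d * b₀ ^ 2)) := by
    rw [hTk, Matrix.det_smul, Fintype.card_fin, hG'det, ← hdisc]
  have hodd : Odd n := by
    have := hQ.nodd
    rwa [Fintype.card_fin] at this
  obtain ⟨m, hm⟩ := hodd
  -- k = a₀ / s², a₀ ∈ F₀
  set s : F := Bi.det * b₀ * k ^ m with hs
  have hs0 : s ≠ 0 := mul_ne_zero (mul_ne_zero hBidet hb0) (pow_ne_zero _ hk0)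
  set a₀ : F := T.det / d with ha₀
  have ha₀mem : a₀ ∈ F₀ := F₀.div_mem hTdet hdF₀
  have hkn : k ^ n = k * (k ^ m) ^ 2 := by
    rw [hm]
    ring
  have hks : k * s ^ 2 = a₀ := by
    rw [ha₀, hTdet', hs, hkn]
    field_simp
  have ha₀0 : a₀ ≠ 0 := by
    rw [← hks]
    exact mul_ne_zero hk0 (pow_ne_zero _ hs0)
  -- the change of basis
  let sc : GL (Fin n) F :=
    Units.map (Matrix.scalar (Fin n) : F →+* Matrix (Fin n) (Fin n) F).toMonoidHom
      (Units.mk0 s⁻¹ (inv_ne_zero hs0))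
  have hsc : sc ∈ scalars (Fin n) F := ⟨_, rfl⟩
  have hscval : (sc : Matrix (Fin n) (Fin n) F) = s⁻¹ • (1 : Matrix (Fin n) (Fin n) F) := by
    show Matrix.scalar (Fin n) s⁻¹ = _
    rw [Matrix.scalar_apply, ← Matrix.smul_one_eq_diagonal]
  refine ⟨F₀, r, sc * B⁻¹, hr, hcard, ?_, ?_⟩
  · -- the form is rational
    intro u hu
    have hPval : ((sc * B⁻¹ : GL (Fin n) F) : Matrix (Fin n) (Fin n) F) = s⁻¹ • Bi := by
      rw [Units.val_mul, hscval, Matrix.smul_mul, Matrix.one_mul]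
    rw [Q_eq_half hQ, polar_eq_gram hQ.quad, dot_mulVec_conj, hPval]
    have h5 : (s⁻¹ • Bi)ᵀ * gramMatrix (QuadraticMap.polar Q) * (s⁻¹ • Bi) = a₀⁻¹ • T := by
      rw [Matrix.transpose_smul, Matrix.smul_mul, Matrix.smul_mul, Matrix.mul_smul, smul_smul, ← hG, ← hG', hTk,
        smul_smul]
      congr 1
      rw [← hks]
      field_simp
    rw [h5]
    refine F₀.div_mem ?_ ?_
    · apply dot_mulVec_mem_subfield F₀ _ u _ hu
      intro i j
      rw [Matrix.smul_apply, smul_eq_mul]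
      exact F₀.mul_mem (F₀.inv_mem ha₀mem) (hTmem i j)
    · have : (2 : F) = 1 + 1 := by norm_num
      rw [this]
      exact F₀.add_mem F₀.one_mem F₀.one_mem
  · rw [subfieldSubgroup_smul F₀ B⁻¹ sc hsc]
    intro h hh
    exact mem_subfieldSubgroup_of_normalizes N habs.2 F₀ B hB' h (hnorm h hh)

end Cfsg.Agent.Lib.H24.Asch
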