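import Mathlib
import Cfsg.Agent.Lib.H4.SLKDefs

/-!
# S2479 (helper4 blueprint): piece P05 `nd_quot_X` (helper24)
-/

set_option autoImplicit false
open Polynomial

namespace Cfsg.Agent.Lib.H24.SLK

open Cfsg.Agent.Lib.H12.Cls Cfsg.Agent.Lib.H4.SLK

universe u v
variable {F : Type u} [Field F]

/-- ND7 -/
theorem nd_quot_X (g : F[X]) (hg : g.Monic) : nd (F[X] ⧸ (F[X] ∙ g)) X = sc g := by
  have h0 : g ≠ 0 := hg.ne_zero
  have h1 := Algebra.PowerBasis.norm_gen_eq_coeff_zero_minpoly (AdjoinRoot.powerBasis' hg)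
  rw [AdjoinRoot.powerBasis'_gen, AdjoinRoot.powerBasis'_dim, AdjoinRoot.minpoly_root h0,
    hg.leadingCoeff, inv_one, map_one, mul_one, Algebra.norm_apply] at h1
  unfold nd sc
  rw [← h1]
  congr 1

end Cfsg.Agent.Lib.H24.SLK
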