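import Mathlib
import Cfsg.Agent.Lib.H4.SLKDefs

/-!
# S2479 (helper4 blueprint): piece P07 `sc_mul` + `prod_sc_eq` (helper24)
-/

set_option autoImplicit false
open Polynomial

namespace Cfsg.Agent.Lib.H24.SLK

open Cfsg.Agent.Lib.H12.Cls Cfsg.Agent.Lib.H4.SLK

universe u v
variable {F : Type u} [Field F]

/-- SCM : `sc` is multiplicative on monic polynomials -/
theorem sc_mul (g h : F[X]) (hg : g.Monic) (hh : h.Monic) : sc (g * h) = sc g * sc h := by
  unfold sc
  rw [hg.natDegree_mul hh, mul_coeff_zero, pow_add]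
  ring

theorem sc_one : sc (1 : F[X]) = 1 := by
  unfold sc
  simp

/-- `sc` of a finite product of monic polynomials -/
theorem sc_prod {ι : Type*} (S : Finset ι) (g : ι → F[X]) (hg : ∀ i ∈ S, (g i).Monic) :
    sc (∏ i ∈ S, g i) = ∏ i ∈ S, sc (g i) := by
  classical
  induction S using Finset.induction_on with
  | empty => simp [sc_one]
  | insert a S ha ih =>
    rw [Finset.prod_insert ha, Finset.prod_insert ha,
      sc_mul _ _ (hg a (Finset.mem_insert_self a S))
        (monic_prod_of_monic S g (fun i hi => hg i (Finset.mem_insert_of_mem hi))),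
      ih (fun i hi => hg i (Finset.mem_insert_of_mem hi))]

/-- T1C : regrouping the product over the blocks by exponent -/
theorem prod_sc_eq {V : Type v} [AddCommGroup V] [Module F V] [FiniteDimensional F V]
    {f : Module.End F V} (D : TypeData f) :
    ∏ i, sc ((D.c i).1) ^ (D.c i).2 =
      ∏ j ∈ Finset.range (Module.finrank F V + 1), sc (D.gpoly j) ^ j := by
  have hg : ∀ j : ℕ, sc (D.gpoly j) =
      ∏ i ∈ Finset.univ.filter (fun i => (D.c i).2 = j), sc ((D.c i).1) := by
    intro j
    have : D.gpoly j = ∏ i ∈ Finset.univ.filter (fun i => (D.c i).2 = j), (D.c i).1 := rfl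
    rw [this, sc_prod _ _ (fun i _ => D.monic i)]
  have hmaps : ∀ i ∈ (Finset.univ : Finset D.ι), (D.c i).2 ∈ Finset.range (Module.finrank F V + 1) := by
    intro i _
    rw [Finset.mem_range]
    exact Nat.lt_succ_of_le (D.exp_le i)
  rw [← Finset.prod_fiberwise_of_maps_to hmaps (fun i => sc ((D.c i).1) ^ (D.c i).2)]
  apply Finset.prod_congr rfl
  intro j _
  rw [hg j, ← Finset.prod_pow]
  apply Finset.prod_congr rfl
  intro i hi
  rw [(Finset.mem_filter.mp hi).2]

end Cfsg.Agent.Lib.H24.SLK
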