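import Cfsg.Agent.Lib.H24.CharConj

/-!
# Frobenius–Schur indicator: counting square roots (helper24's library)

* `fsInd χ` : `|G|⁻¹ ∑ s, χ (s * s)`.
* `fsInd_conj` : `conj (fsInd χ) = fsInd χ` for an irreducible character.
* `card_sqrt_eq_sum` : `#{s | s * s = g} = ∑ χ, fsInd χ * χ g`.
-/

set_option autoImplicit false

namespace Cfsg.Agent.Lib.H24

open scoped ComplexConjugate
open Cfsg Cfsg.Agent.Lib.L0

section fs

variable {G : Type*} [Group G] [Fintype G]

/-- The Frobenius–Schur indicator of a function on `G`. -/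
noncomputable def fsInd (χ : G → ℂ) : ℂ := (Nat.card G : ℂ)⁻¹ * ∑ s : G, χ (s * s)

theorem fsInd_def (χ : G → ℂ) : fsInd χ = (Nat.card G : ℂ)⁻¹ * ∑ s : G, χ (s * s) := rfl

theorem fsInd_conj (χ : IrrCharacter G) : conj (fsInd (χ : G → ℂ)) = fsInd (χ : G → ℂ) := by
  simp only [fsInd, map_mul, map_inv₀, Complex.conj_natCast, map_sum]
  congr 1
  refine Fintype.sum_equiv (Equiv.inv G) _ _ (fun s => ?_)
  rw [← irr_inv]
  simp

/-- The number of square roots of `g`, as a complex number. -/
noncomputable def sqrtCount (g : G) : ℂ := (Nat.card {s : G // s * s = g} : ℂ)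

theorem isClassFunction_sqrtCount : IsClassFunction G (sqrtCount (G := G)) := by
  intro g h
  unfold sqrtCount
  congr 1
  refine Nat.card_congr ⟨fun s => ⟨h⁻¹ * s.1 * h, ?_⟩, fun s => ⟨h * s.1 * h⁻¹, ?_⟩, ?_, ?_⟩
  · have := s.2
    calc h⁻¹ * s.1 * h * (h⁻¹ * s.1 * h) = h⁻¹ * (s.1 * s.1) * h := by group
      _ = g := by rw [this]; group
  · have := s.2
    calc h * s.1 * h⁻¹ * (h * s.1 * h⁻¹) = h * (s.1 * s.1) * h⁻¹ := by group
      _ = h * g * h⁻¹ := by rw [this]
  · intro s; apply Subtype.ext; simp [mul_assoc]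
  · intro s; apply Subtype.ext; simp [mul_assoc]

theorem sum_sqrtCount_mul (f : G → ℂ) : ∑ g : G, sqrtCount g * f g = ∑ s : G, f (s * s) := by
  classical
  rw [← Fintype.sum_fiberwise (fun s : G => s * s) (fun s => f (s * s))]
  refine Finset.sum_congr rfl (fun g _ => ?_)
  have : ∀ s : {s : G // s * s = g}, f ((s : G) * (s : G)) = f g := fun s => by rw [s.2]
  simp only [this, Finset.sum_const, Finset.card_univ, nsmul_eq_mul, sqrtCount,
    Nat.card_eq_fintype_card]

theorem classInner_sqrtCount (χ : IrrCharacter G) :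
    classInner (sqrtCount (G := G)) (χ : G → ℂ) = fsInd (χ : G → ℂ) := by
  rw [← fsInd_conj]
  simp only [classInner, fsInd, map_mul, map_inv₀, Complex.conj_natCast, map_sum]
  rw [sum_sqrtCount_mul (fun g => conj ((χ : G → ℂ) g))]

/-- The number of square roots of `g` is `∑ χ, ν(χ) χ(g)`. -/
theorem card_sqrt_eq_sum [Fintype (IrrCharacter G)] (g : G) :
    (Nat.card {s : G // s * s = g} : ℂ) =
      ∑ χ : IrrCharacter G, fsInd (χ : G → ℂ) * (χ : G → ℂ) g := by
  have h := congrFun (classFunction_expansion (sqrtCount (G := G)) isClassFunction_sqrtCount) g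
  simp only [Finset.sum_apply, Pi.smul_apply, smul_eq_mul, classInner_sqrtCount] at h
  exact h

end fs

end Cfsg.Agent.Lib.H24
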