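import Cfsg.Agent.Lib.H24.GlaubOver3

/-!
# Glauberman correspondence and lying over, converse direction (helper24)

`over_backward`: in the setting of `GlaubOver3`, if the correspondent `ξ` of `θ ∈ Irr_Q(N)` lies
under the correspondent `β` of `χ ∈ Irr_Q(G)`, then `θ` lies under `χ`.
-/

set_option autoImplicit false

universe u

namespace Cfsg.Agent.Lib.H24.Glaub

open Cfsg Cfsg.Agent.Lib.L0 Cfsg.Agent.Lib.H23 Cfsg.Agent.Lib.H8 Cfsg.Agent.Lib.H24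

variable {Γ : Type u} [Group Γ] [Fintype Γ]

theorem charDegree_eq_sum_resMult {G N : Subgroup Γ} [Fintype G] [Fintype N] (hNG : N ≤ G)
    (χ : IrrCharacter G) [Fintype (IrrCharacter N)] :
    charDegree (χ : G → ℂ) =
      ∑ φ : IrrCharacter N, resMult hNG (χ : G → ℂ) (φ : N → ℂ) * charDegree (φ : N → ℂ) := by
  classical
  have hχc := isCharacter_of_irr χ.2
  have hexp := classFunction_expansion (res hNG (χ : G → ℂ))
    (isClassFunction_of_isCharacter (isCharacter_res hNG hχc))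
  have h1 := congrFun hexp 1
  rw [Finset.sum_apply] at h1
  have h2 : ∀ φ : IrrCharacter N,
      (classInner (res hNG (χ : G → ℂ)) (φ : N → ℂ) • (φ : N → ℂ)) 1 =
        ((resMult hNG (χ : G → ℂ) (φ : N → ℂ) * charDegree (φ : N → ℂ) : ℕ) : ℂ) := by
    intro φ
    rw [Pi.smul_apply, smul_eq_mul, ← resMult_spec hNG hχc φ.2,
      apply_one_eq_charDegree _ φ.2]
    push_cast
    rfl
  rw [Finset.sum_congr rfl (fun φ _ => h2 φ)] at h1
  have h3 : res hNG (χ : G → ℂ) 1 = (charDegree (χ : G → ℂ) : ℂ) := by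
    rw [← apply_one_eq_charDegree _ χ.2]
    rfl
  rw [h3, ← Nat.cast_sum] at h1
  exact_mod_cast h1

variable {p : ℕ} {G N Q B D : Subgroup Γ} [Fintype G] [Fintype N] [Fintype B] [Fintype D]

theorem exists_inv_constituent (hp : p.Prime) (hQN : ∀ q ∈ Q, ∀ n ∈ N, q * n * q⁻¹ ∈ N)
    (hNG : N ≤ G) (hQ : IsPGroup p Q) (hpG : ¬ p ∣ Nat.card G)
    (χ : IrrCharacter G) (hχ : ∀ q ∈ Q, InvUnder G q (χ : G → ℂ)) :
    ∃ θ₁ : IrrCharacter N, (∀ q ∈ Q, InvUnder N q (θ₁ : N → ℂ)) ∧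
      resMult hNG (χ : G → ℂ) (θ₁ : N → ℂ) ≠ 0 := by
  classical
  letI : Fintype (IrrCharacter N) := Fintype.ofFinite _
  set g : IrrCharacter N → ℤ := fun φ =>
    (resMult hNG (χ : G → ℂ) (φ : N → ℂ) : ℤ) * (charDegree (φ : N → ℂ) : ℤ) with hg
  have hginv : ∀ (q : Q) (φ : IrrCharacter N), g ((irrAct N Q hQN).smul q φ) = g φ := by
    intro q φ
    have hq' : (q : Γ)⁻¹ ∈ Q := Q.inv_mem q.2
    show (resMult hNG (χ : G → ℂ) (((irrAct N Q hQN).smul q φ : IrrCharacter N) : N → ℂ) : ℤ) *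
      (charDegree (((irrAct N Q hQN).smul q φ : IrrCharacter N) : N → ℂ) : ℤ) = _
    have h1 : charDegree (((irrAct N Q hQN).smul q φ : IrrCharacter N) : N → ℂ) =
        charDegree (φ : N → ℂ) := by
      apply charDegree_eq_of_apply_one
      rw [irrAct_smul_coe, Function.comp_apply, map_one]
      exact apply_one_eq_charDegree _ φ.2
    rw [h1, irrAct_smul_coe,
      resMult_conj_right hNG (hQN _ hq') (inv_norm_of_norm (hQN _ hq')) (hχ _ hq')]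
  have h1 := sum_irr_modEq N Q hQN hp hQ g hginv
  have h2 : (∑ φ : IrrCharacter N, g φ) = (charDegree (χ : G → ℂ) : ℤ) := by
    rw [charDegree_eq_sum_resMult hNG χ]
    push_cast
    rfl
  have h3 : ¬ (p : ℤ) ∣ (charDegree (χ : G → ℂ) : ℤ) := by
    intro h
    have h4 : charDegree (χ : G → ℂ) ∣ Nat.card G :=
      Cfsg.Agent.Lib.H23.charDegree_dvd_card _ χ.2
    exact hpG ((Int.natCast_dvd_natCast.mp h).trans h4)
  by_contra hcon
  push Not at hcon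
  apply h3
  rw [← h2]
  apply (Int.ModEq.dvd_iff h1).mpr
  apply Finset.dvd_sum
  intro φ _
  by_cases hinv : ∀ q ∈ Q, InvUnder N q (φ : N → ℂ)
  · rw [if_pos hinv]
    show (p : ℤ) ∣ (resMult hNG (χ : G → ℂ) (φ : N → ℂ) : ℤ) * (charDegree (φ : N → ℂ) : ℤ)
    rw [hcon φ hinv, Nat.cast_zero, zero_mul]
    exact dvd_zero _
  · rw [if_neg hinv]
    exact dvd_zero _

theorem over_backward (hp : p.Prime) (hQG : ∀ q ∈ Q, ∀ g ∈ G, q * g * q⁻¹ ∈ G)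
    (hQN : ∀ q ∈ Q, ∀ n ∈ N, q * n * q⁻¹ ∈ N) (hNG : N ≤ G)
    (hNn : ∀ g ∈ G, ∀ n ∈ N, g * n * g⁻¹ ∈ N) (hQ : IsPGroup p Q) (hpG : ¬ p ∣ Nat.card G)
    (hB : B = G ⊓ Subgroup.centralizer (Q : Set Γ))
    (hD : D = N ⊓ Subgroup.centralizer (Q : Set Γ)) (hBG : B ≤ G) (hDN : D ≤ N) (hDB : D ≤ B)
    (χ : IrrCharacter G) (hχ : ∀ q ∈ Q, InvUnder G q (χ : G → ℂ))
    (θ : IrrCharacter N) (hθ : ∀ q ∈ Q, InvUnder N q (θ : N → ℂ))
    (β : IrrCharacter B) (hβ : ¬ p ∣ resMult hBG (χ : G → ℂ) (β : B → ℂ))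
    (ξ : IrrCharacter D) (hξ : ¬ p ∣ resMult hDN (θ : N → ℂ) (ξ : D → ℂ))
    (hover : resMult hDB (β : B → ℂ) (ξ : D → ℂ) ≠ 0) :
    resMult hNG (χ : G → ℂ) (θ : N → ℂ) ≠ 0 := by
  classical
  have hpN : ¬ p ∣ Nat.card N := fun h => hpG (h.trans (Subgroup.card_dvd_of_le hNG))
  have corrN := pgroup_corr hp (Nat.card Q) N Q D rfl hQN hQ hpN hD hDN
  obtain ⟨θ₁, hθ₁, hθ₁χ⟩ := exists_inv_constituent hp hQN hNG hQ hpG χ hχ
  obtain ⟨ξ₁, ε₁, hε₁, h₁⟩ := corrN.exists_corr θ₁ hθ₁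
  have hξ₁ : ¬ p ∣ resMult hDN (θ₁ : N → ℂ) (ξ₁ : D → ℂ) := by
    have h2 := h₁ ξ₁
    rw [if_pos rfl] at h2
    exact not_dvd_of_dvd_sub_sign hp hε₁ h2
  have hβξ₁ := over_forward hp hQG hQN hNG hNn hQ hpG hB hD hBG hDN hDB χ hχ θ₁ hθ₁ hθ₁χ β hβ
    ξ₁ hξ₁
  -- Clifford in `B ⊵ D`
  have hBc : ∀ b ∈ B, b ∈ Subgroup.centralizer (Q : Set Γ) := by
    intro b hb
    rw [hB] at hb
    exact hb.2
  have hDn : ∀ b ∈ B, ∀ d ∈ D, b * d * b⁻¹ ∈ D := by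
    intro b hb d hd
    rw [hD]
    refine Subgroup.mem_inf.mpr ⟨hNn b (hBG hb) d (hDN hd), ?_⟩
    have hdc : d ∈ Subgroup.centralizer (Q : Set Γ) := by
      rw [hD] at hd
      exact hd.2
    exact Subgroup.mul_mem _ (Subgroup.mul_mem _ (hBc b hb) hdc) (Subgroup.inv_mem _ (hBc b hb))
  obtain ⟨c, hcB, hcξ⟩ := exists_conj_of_constituents_amb hDB hDn β ξ ξ₁ hover hβξ₁
  have hcG : c ∈ G := hBG hcB
  have hcN := hNn c hcG
  have hcN' := inv_norm_of_norm hcN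
  set θc : IrrCharacter N := irrPerm (conjN N c hcN hcN') θ with hθc
  have hθcQ : ∀ q ∈ Q, InvUnder N q (θc : N → ℂ) := by
    intro q hq g g' hgg'
    show (θ : N → ℂ) (conjN N c hcN hcN' g') = (θ : N → ℂ) (conjN N c hcN hcN' g)
    apply hθ q hq
    rw [conjN_apply, conjN_apply, hgg']
    have hcq : q * c = c * q := (Subgroup.mem_centralizer_iff.mp (hBc c hcB)) q hq
    have hcq' : c * q⁻¹ = q⁻¹ * c := by
      calc c * q⁻¹ = q⁻¹ * (q * c) * q⁻¹ := by group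
        _ = q⁻¹ * (c * q) * q⁻¹ := by rw [hcq]
        _ = q⁻¹ * c := by group
    calc c * (q * (g : Γ) * q⁻¹) * c⁻¹ = (c * q) * (g : Γ) * (q⁻¹ * c⁻¹) := by group
      _ = (q * c) * (g : Γ) * (q⁻¹ * c⁻¹) := by rw [hcq]
      _ = q * c * (g : Γ) * (c * q)⁻¹ := by group
      _ = q * c * (g : Γ) * (q * c)⁻¹ := by rw [hcq]
      _ = q * (c * (g : Γ) * c⁻¹) * q⁻¹ := by group
  have hθcξ₁ : ¬ p ∣ resMult hDN (θc : N → ℂ) (ξ₁ : D → ℂ) := by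
    show ¬ p ∣ resMult hDN ((θ : N → ℂ) ∘ conjN N c hcN hcN') (ξ₁ : D → ℂ)
    rw [hcξ, resMult_conj_both hDN hcN hcN' (hDn c hcB) (inv_norm_of_norm (hDn c hcB))]
    exact hξ
  have e1 : θc = θ₁ := corrN.inj θc θ₁ hθcQ hθ₁ ξ₁ hθcξ₁ hξ₁
  have hinv : InvUnder G c (χ : G → ℂ) :=
    invUnder_of_mem hcG (isClassFunction_of_isCharacter (isCharacter_of_irr χ.2))
  have h5 : resMult hNG (χ : G → ℂ) (θ₁ : N → ℂ) = resMult hNG (χ : G → ℂ) (θ : N → ℂ) := by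
    rw [← e1]
    show resMult hNG (χ : G → ℂ) ((θ : N → ℂ) ∘ conjN N c hcN hcN') = _
    rw [resMult_conj_right hNG hcN hcN' hinv]
  rw [← h5]
  exact hθ₁χ

end Cfsg.Agent.Lib.H24.Glaub
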