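import Mathlib
import Cfsg.Agent.Lib.H23.RVDefs
import Cfsg.Agent.Lib.H24.RVSYMA
import Cfsg.Agent.Lib.H11.RVSYMB
import Cfsg.Agent.Lib.H11.RVSYMC

/-!
# S4959 piece SYM-D (helper23 blueprint): the Gauss-sum datum of a module with a symmetric
invariant non-degenerate form (helper24)
-/

set_option autoImplicit false
set_option linter.style.haveILetI false

universe u

namespace Cfsg.Agent.Lib.H24.RV

open Cfsg Cfsg.Agent.Lib.H23 Cfsg.Agent.Lib.H23.RV
open scoped ComplexConjugate

section sym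
variable {p : ℕ} [Fact p.Prime]

section generic

variable {H : Type u} [Group H] [Finite H] {W : Type*} [AddCommGroup W] [Module (ZMod p) W]
  [Finite W] (ρ : Representation (ZMod p) H W) (B : LinearMap.BilinForm (ZMod p) W)

/-- the restriction of a representation to a subgroup -/
def resRep (K : Subgroup H) : Representation (ZMod p) K W := ρ.comp K.subtype

omit [Finite H] [Finite W] in
theorem resRep_apply (K : Subgroup H) (g : K) : resRep ρ K g = ρ (g : H) := rfl

omit [Finite H] [Finite W] in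
theorem gaussPsi_resRep (K : Subgroup H) (g : K) :
    gaussPsi B (resRep ρ K) g = gaussPsi B ρ (g : H) := rfl

omit [Finite H] [Finite W] in
theorem fixCardK_resRep (K : Subgroup H) : fixCardK (resRep ρ K) ⊤ = fixCardK ρ K := by
  unfold fixCardK
  refine Nat.card_congr (Equiv.subtypeEquivRight fun w => ?_)
  constructor
  · intro h g hg
    exact h ⟨g, hg⟩ (Subgroup.mem_top _)
  · intro h g _
    exact h g.1 g.2

omit [Finite H] [Finite W] in
/-- fixed by `h` implies fixed by every power of `h` -/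
theorem fixed_zpowers {h : H} {x : W} (hx : ρ h x = x) : ∀ g ∈ Subgroup.zpowers h, ρ g x = x := by
  let S : Subgroup H :=
    { carrier := {g | ρ g x = x}
      mul_mem' := by
        intro a b ha hb
        show ρ (a * b) x = x
        rw [map_mul, Module.End.mul_apply, hb, ha]
      one_mem' := by
        show ρ 1 x = x
        rw [map_one, Module.End.one_apply]
      inv_mem' := by
        intro a ha
        show ρ a⁻¹ x = x
        have h1 : ρ a⁻¹ (ρ a x) = x := by
          rw [← Module.End.mul_apply, ← map_mul, inv_mul_cancel, map_one, Module.End.one_apply]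
        rw [ha] at h1
        exact h1 }
  have hle : Subgroup.zpowers h ≤ S := by
    rw [Subgroup.zpowers_le]
    exact hx
  intro g hg
  exact hle hg

omit [Finite H] [Finite W] in
theorem fixCardK_zpowers (h : H) : fixCardK ρ (Subgroup.zpowers h) = fixCard ρ h := by
  unfold fixCardK fixCard
  refine Nat.card_congr (Equiv.subtypeEquivRight fun w => ?_)
  constructor
  · intro hw
    exact hw h (Subgroup.mem_zpowers h)
  · intro hw
    exact fixed_zpowers ρ hw

omit [Finite H] in
theorem fixCardK_pos (K : Subgroup H) : 0 < fixCardK ρ K := by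
  unfold fixCardK
  haveI : Nonempty {w : W // ∀ g ∈ K, ρ g w = w} := ⟨⟨0, fun g _ => map_zero _⟩⟩
  exact Nat.card_pos

omit [Finite W] [Fact p.Prime] [Finite H] in
theorem not_dvd_card_subgroup (hcop : ¬ p ∣ Nat.card H) (K : Subgroup H) : ¬ p ∣ Nat.card K :=
  fun h => hcop (h.trans (Subgroup.card_subgroup_dvd_card K))

variable {ρ B}

/-- the split for a subgroup `K` of `H` -/
theorem split_sub (hcop : ¬ p ∣ Nat.card H) (hinv : ∀ g x y, B (ρ g x) (ρ g y) = B x y)
    (hnd : ∀ x, (∀ y, B x y = 0) → x = 0) (K : Subgroup H) :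
    ∃ (R : Submodule (ZMod p) W) (hR : ∀ g : K, ∀ x ∈ R, resRep ρ K g x ∈ R),
      Nat.card W = fixCardK ρ K * Nat.card R ∧
      (∀ x ∈ R, (∀ g ∈ K, ρ g x = x) → x = 0) ∧
      (∀ x ∈ R, (∀ y ∈ R, B x y = 0) → x = 0) ∧
      ∀ g : K, gaussPsi B ρ (g : H) =
        (fixCardK ρ K : ℂ) * gaussPsi (B.domRestrict₁₂ R R) (subRep (resRep ρ K) R hR) g := by
  obtain ⟨R, hR, h1, h2, h3, h4⟩ := Cfsg.Agent.Lib.H11.RV.gaussPsi_split
    (not_dvd_card_subgroup hcop K) (resRep ρ K) B (fun g x y => hinv g x y) hnd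
  refine ⟨R, hR, ?_, ?_, h3, ?_⟩
  · rw [← fixCardK_resRep]
    exact h1
  · intro x hx hfix
    exact h2 x hx (fun g => hfix g.1 g.2)
  · intro g
    rw [← fixCardK_resRep, ← h4 g]
    rfl

/-- OINT for the Gauss-sum function divided by the number of fixed points of a subgroup. -/
theorem gaussPsi_div_oInt (hcop : ¬ p ∣ Nat.card H) (hinv : ∀ g x y, B (ρ g x) (ρ g y) = B x y)
    (hnd : ∀ x, (∀ y, B x y = 0) → x = 0) (K : Subgroup H) :
    OInt K (fun g : K => gaussPsi B ρ (g : H) / (fixCardK ρ K : ℂ)) := by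
  obtain ⟨R, hR, _, _, _, h4⟩ := split_sub hcop hinv hnd K
  have hc : (fixCardK ρ K : ℂ) ≠ 0 := by
    exact_mod_cast (fixCardK_pos ρ K).ne'
  have heq : (fun g : K => gaussPsi B ρ (g : H) / (fixCardK ρ K : ℂ)) =
      gaussPsi (B.domRestrict₁₂ R R) (subRep (resRep ρ K) R hR) := by
    funext g
    rw [h4 g, mul_div_assoc, mul_comm, div_mul_cancel₀ _ hc]
  rw [heq]
  refine gaussPsi_oInt _ _ ?_
  intro g x y
  simp only [LinearMap.domRestrict₁₂_apply, subRep_apply]
  exact hinv _ _ _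

/-- `|Ψ(h)|² = |W| |C_W(h)|`. -/
theorem gaussPsi_normSq (hcop : ¬ p ∣ Nat.card H) (hsym : ∀ x y, B x y = B y x)
    (hinv : ∀ g x y, B (ρ g x) (ρ g y) = B x y)
    (hnd : ∀ x, (∀ y, B x y = 0) → x = 0) (h : H) :
    ‖gaussPsi B ρ h‖ ^ 2 = (Nat.card W : ℝ) * (fixCard ρ h : ℝ) := by
  obtain ⟨R, hR, h1, h2, h3, h4⟩ := split_sub hcop hinv hnd (Subgroup.zpowers h)
  have hg := h4 ⟨h, Subgroup.mem_zpowers h⟩
  have hC := Cfsg.Agent.Lib.H11.RV.gaussPsi_normSq_ff
    (subRep (resRep ρ (Subgroup.zpowers h)) R hR) (B.domRestrict₁₂ R R)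
    (fun x y => by
      simp only [LinearMap.domRestrict₁₂_apply]
      exact hsym _ _)
    (fun g x y => by
      simp only [LinearMap.domRestrict₁₂_apply, subRep_apply]
      exact hinv _ _ _)
    (fun x hx => by
      apply Subtype.ext
      apply h3 x.1 x.2
      intro y hy
      have := hx ⟨y, hy⟩
      simpa only [LinearMap.domRestrict₁₂_apply] using this)
    ⟨h, Subgroup.mem_zpowers h⟩
    (fun x hx => by
      apply Subtype.ext
      apply h2 x.1 x.2
      have hx' : ρ h (x : W) = x := by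
        have := congrArg Subtype.val hx
        rw [subRep_apply] at this
        exact this
      exact fixed_zpowers ρ hx')
  have hg' : gaussPsi B ρ h = (fixCardK ρ (Subgroup.zpowers h) : ℂ) *
      gaussPsi (B.domRestrict₁₂ R R) (subRep (resRep ρ (Subgroup.zpowers h)) R hR)
        ⟨h, Subgroup.mem_zpowers h⟩ := hg
  rw [hg', norm_mul, mul_pow, hC, fixCardK_zpowers, Complex.norm_natCast, h1, fixCardK_zpowers]
  push_cast
  ring

omit [Finite H] in
/-- `Ψ(h) = |W|` when `h` acts trivially. -/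
theorem gaussPsi_triv (h : H) (hh : ρ h = 1) : gaussPsi B ρ h = (Nat.card W : ℂ) := by
  letI := Fintype.ofFinite W
  rw [gaussPsi_eq_sum, hh]
  simp only [Module.End.one_apply, sub_self, map_zero, AddChar.map_zero_eq_one]
  rw [Finset.sum_const, Finset.card_univ, Nat.card_eq_fintype_card]
  simp

/-- a sum of `p`-th roots of unity is congruent to the number of terms modulo `1 - ζ` -/
theorem sum_stdAddChar_eq {ι : Type*} [Fintype ι] (a : ι → ZMod p) :
    ∃ c : ℂ, IsIntegral ℤ c ∧ ∑ i, (ZMod.stdAddChar (N := p) (a i) : ℂ) =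
      (Fintype.card ι : ℂ) + (1 - (ZMod.stdAddChar (N := p) (1 : ZMod p) : ℂ)) * c := by
  set ζ : ℂ := (ZMod.stdAddChar (N := p) (1 : ZMod p) : ℂ) with hζ
  have hζi : IsIntegral ℤ ζ := isIntegral_stdAddChar _
  have hterm : ∀ i, (ZMod.stdAddChar (N := p) (a i) : ℂ) = ζ ^ (a i).val := by
    intro i
    rw [hζ, ← AddChar.map_nsmul_eq_pow, nsmul_one, ZMod.natCast_zmod_val]
  refine ⟨-∑ i, ∑ j ∈ Finset.range (a i).val, ζ ^ j, ?_, ?_⟩
  · refine IsIntegral.neg (IsIntegral.sum _ fun i _ => IsIntegral.sum _ fun j _ => hζi.pow j)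
  · rw [mul_neg, Finset.mul_sum]
    simp only [mul_neg_geom_sum]
    rw [Finset.sum_sub_distrib, Finset.sum_const, Finset.card_univ, nsmul_eq_mul, mul_one]
    simp only [hterm]
    ring

/-- `Ψ(h) / |C_W(h)| ∈ (1-ζ) O + p O` when `h` acts non-trivially. -/
theorem gaussPsi_div (hcop : ¬ p ∣ Nat.card H)
    (hinv : ∀ g x y, B (ρ g x) (ρ g y) = B x y)
    (hnd : ∀ x, (∀ y, B x y = 0) → x = 0) (h : H) (hh : ρ h ≠ 1) :
    ∃ ζ a b : ℂ, ζ ^ p = 1 ∧ IsIntegral ℤ a ∧ IsIntegral ℤ b ∧
      gaussPsi B ρ h = (fixCard ρ h : ℂ) * ((1 - ζ) * a + (p : ℂ) * b) := by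
  obtain ⟨R, hR, h1, h2, h3, h4⟩ := split_sub hcop hinv hnd (Subgroup.zpowers h)
  have hg := h4 ⟨h, Subgroup.mem_zpowers h⟩
  letI := Fintype.ofFinite W
  letI : Fintype R := Fintype.ofFinite R
  -- `R` is non-trivial
  have hRcard : p ∣ Nat.card R := by
    have hpow := Module.natCard_eq_pow_finrank (K := ZMod p) (V := R)
    rw [Nat.card_zmod] at hpow
    have hne : Module.finrank (ZMod p) R ≠ 0 := by
      intro h0
      rw [h0, pow_zero] at hpow
      rw [hpow, mul_one, fixCardK_zpowers] at h1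
      apply hh
      apply LinearMap.ext
      intro w
      by_contra hw
      have := Finite.card_subtype_lt (p := fun w : W => ρ h w = w) (x := w) hw
      unfold fixCard at h1
      omega
    rw [hpow]
    exact dvd_pow_self p hne
  obtain ⟨k, hk⟩ := hRcard
  obtain ⟨c, hc, hsum⟩ := sum_stdAddChar_eq (p := p) (ι := R)
    (fun w => (B.domRestrict₁₂ R R) w
      ((subRep (resRep ρ (Subgroup.zpowers h)) R hR ⟨h, Subgroup.mem_zpowers h⟩) w - w))
  refine ⟨(ZMod.stdAddChar (N := p) (1 : ZMod p) : ℂ), c, (k : ℂ), ?_, hc, ?_, ?_⟩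
  · rw [← AddChar.map_nsmul_eq_pow, nsmul_one, ZMod.natCast_self, AddChar.map_zero_eq_one]
  · exact isIntegral_algebraMap (R := ℤ) (A := ℂ) (x := (k : ℤ)) |> fun h => by simpa using h
  · have hg' : gaussPsi B ρ h = (fixCardK ρ (Subgroup.zpowers h) : ℂ) *
        gaussPsi (B.domRestrict₁₂ R R) (subRep (resRep ρ (Subgroup.zpowers h)) R hR)
          ⟨h, Subgroup.mem_zpowers h⟩ := hg
    rw [hg', fixCardK_zpowers, gaussPsi_eq_sum, hsum, ← Nat.card_eq_fintype_card, hk]
    push_cast
    ring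

end generic

/-- SYM-D.  `Y h = ∑_w z ^ (B (w, h w - w)).val`, `z ∈ ℚ(ζ_m)` with `cycEmb z = e_p(1)`. -/
theorem exists_kdata_symm (m : ℕ) [NeZero m] (hpm : p ∣ m) {H : Type u} [Group H] [Finite H]
    (hcop : ¬ p ∣ Nat.card H) {W : Type*} [AddCommGroup W] [Module (ZMod p) W] [Finite W]
    (ρ : Representation (ZMod p) H W) (B : LinearMap.BilinForm (ZMod p) W)
    (hsym : ∀ x y, B x y = B y x) (hinv : ∀ g x y, B (ρ g x) (ρ g y) = B x y)
    (hnd : ∀ x, (∀ y, B x y = 0) → x = 0) :
    ∃ Y : H → CyclotomicField m ℚ, IsKData p m ρ Y := by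
  classical
  letI := Fintype.ofFinite W
  have hp : p.Prime := Fact.out
  set ζ : ℂ := (ZMod.stdAddChar (N := p) (1 : ZMod p) : ℂ) with hζ
  have hζp : ζ ^ p = 1 := by
    rw [hζ, ← AddChar.map_nsmul_eq_pow, nsmul_one, ZMod.natCast_self, AddChar.map_zero_eq_one]
  have hζm : ζ ^ m = 1 := by
    obtain ⟨k, rfl⟩ := hpm
    rw [pow_mul, hζp, one_pow]
  obtain ⟨z, hzm, hz⟩ := exists_cyc_preimage m ζ hζm
  -- the general formula
  have hY : ∀ (k : ℕ) (h : H), cycEmb m (∑ w : W, (z ^ k) ^ (B w (ρ h w - w)).val) =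
      gaussPsi ((k : ZMod p) • B) ρ h := by
    intro k h
    rw [map_sum, gaussPsi_eq_sum]
    refine Finset.sum_congr rfl fun w _ => ?_
    rw [map_pow, map_pow, hz, ← pow_mul, hζ, ← AddChar.map_nsmul_eq_pow, nsmul_one]
    congr 1
    rw [LinearMap.smul_apply, LinearMap.smul_apply, smul_eq_mul, Nat.cast_mul,
      ZMod.natCast_zmod_val]
  have hY1 : ∀ h, cycEmb m (∑ w : W, z ^ (B w (ρ h w - w)).val) = gaussPsi B ρ h := by
    intro h
    have := hY 1 h
    simpa using this
  refine ⟨fun h => ∑ w : W, z ^ (B w (ρ h w - w)).val, ?_⟩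
  constructor
  · -- conj_inv
    intro h g
    show ∑ w : W, z ^ (B w (ρ (g * h * g⁻¹) w - w)).val = ∑ w : W, z ^ (B w (ρ h w - w)).val
    let e : W ≃ W :=
      { toFun := ρ g
        invFun := ρ g⁻¹
        left_inv := fun x => by
          rw [← Module.End.mul_apply, ← map_mul, inv_mul_cancel, map_one, Module.End.one_apply]
        right_inv := fun x => by
          rw [← Module.End.mul_apply, ← map_mul, mul_inv_cancel, map_one, Module.End.one_apply] }
    symm
    refine Fintype.sum_equiv e _ _ fun w => ?_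
    congr 2
    show B w (ρ h w - w) = B (ρ g w) (ρ (g * h * g⁻¹) (ρ g w) - ρ g w)
    have h1 : ρ (g * h * g⁻¹) (ρ g w) = ρ g (ρ h w) := by
      rw [← Module.End.mul_apply, ← map_mul, ← Module.End.mul_apply, ← map_mul]
      congr 2
      group
    rw [h1, ← map_sub, hinv]
  · -- norm_sq
    intro σ h
    have hσ : σ (∑ w : W, z ^ (B w (ρ h w - w)).val) =
        ∑ w : W, (z ^ (cycPow m σ).val) ^ (B w (ρ h w - w)).val := by
      rw [map_sum]
      refine Finset.sum_congr rfl fun w _ => ?_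
      rw [map_pow, cycAut_pow m σ z hzm]
    show ‖cycEmb m (σ (∑ w : W, z ^ (B w (ρ h w - w)).val))‖ ^ 2 = _
    rw [hσ, hY]
    have ht : (((cycPow m σ).val : ℕ) : ZMod p) ≠ 0 := by
      intro h0
      rw [ZMod.natCast_eq_zero_iff] at h0
      have hcop1 : Nat.Coprime (cycPow m σ).val m := by
        unfold cycPow
        exact ZMod.val_coe_unit_coprime _
      have hcop2 : Nat.Coprime (cycPow m σ).val p := Nat.Coprime.coprime_dvd_right hpm hcop1
      have := Nat.dvd_gcd h0 (dvd_refl p)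
      rw [hcop2.gcd_eq_one] at this
      exact hp.one_lt.ne' (Nat.dvd_one.mp this)
    apply gaussPsi_normSq hcop
    · intro x y
      rw [LinearMap.smul_apply, LinearMap.smul_apply, LinearMap.smul_apply, LinearMap.smul_apply,
        hsym]
    · intro g x y
      rw [LinearMap.smul_apply, LinearMap.smul_apply, LinearMap.smul_apply, LinearMap.smul_apply,
        hinv]
    · intro x hx
      apply hnd
      intro y
      have := hx y
      rw [LinearMap.smul_apply, LinearMap.smul_apply, smul_eq_mul] at this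
      exact (mul_eq_zero.mp this).resolve_left ht
  · -- triv
    intro h hh
    show cycEmb m (∑ w : W, z ^ (B w (ρ h w - w)).val) = _
    rw [hY1]
    exact gaussPsi_triv h hh
  · -- div
    intro h hh
    show ∃ ζ a b : ℂ, ζ ^ p = 1 ∧ IsIntegral ℤ a ∧ IsIntegral ℤ b ∧
      cycEmb m (∑ w : W, z ^ (B w (ρ h w - w)).val) = _
    rw [hY1]
    exact gaussPsi_div hcop hinv hnd h hh
  · -- oint
    intro K
    have heq : (fun g : K => cycEmb m ((fun h => ∑ w : W, z ^ (B w (ρ h w - w)).val) (g : H)) /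
        (fixCardK ρ K : ℂ)) = fun g : K => gaussPsi B ρ (g : H) / (fixCardK ρ K : ℂ) := by
      funext g
      show cycEmb m (∑ w : W, z ^ (B w (ρ (g : H) w - w)).val) / _ = _
      rw [hY1]
    rw [heq]
    exact gaussPsi_div_oInt hcop hinv hnd K

end sym

end Cfsg.Agent.Lib.H24.RV
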