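import Mathlib

/-!
# Self-dual coprime modules split as (alternating) ⊕ (symmetric)

Helper library for S4966.  Main results: `split_odd` (characteristic not two) and `split_two`
(characteristic two, coprime action).
-/

set_option autoImplicit false

namespace Cfsg.Agent.Lib.H24.SelfDualSplit

section gadgets

variable {F : Type*} [Field F] {V : Type*} [AddCommGroup V] [Module F V]

/-- A projection onto `P` killing a disjoint `Q`. -/
theorem exists_proj_of_disjoint (P Q : Submodule F V) (h : Disjoint P Q) :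
    ∃ ε : V →ₗ[F] V, (∀ v, ε v ∈ P) ∧ (∀ p ∈ P, ε p = p) ∧ (∀ q ∈ Q, ε q = 0) := by
  obtain ⟨Q', hQQ', hc⟩ := h.symm.exists_isCompl
  have hc' : IsCompl P Q' := hc.symm
  refine ⟨P.subtype ∘ₗ Submodule.projectionOnto P Q' hc', ?_, ?_, ?_⟩
  · intro v
    exact (Submodule.projectionOnto P Q' hc' v).2
  · intro p hp
    have := Submodule.projectionOnto_apply_left hc' ⟨p, hp⟩
    simp only [LinearMap.coe_comp, Function.comp_apply, Submodule.coe_subtype]
    rw [this]
  · intro q hq
    have := (Submodule.projectionOnto_apply_eq_zero_iff hc').mpr (hQQ' hq)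
    simp only [LinearMap.coe_comp, Function.comp_apply, Submodule.coe_subtype]
    rw [this]
    rfl

/-- Vectors left-orthogonal to `P`. -/
def leftPerp (B : LinearMap.BilinForm F V) (P : Submodule F V) : Submodule F V where
  carrier := {x | ∀ p ∈ P, B x p = 0}
  add_mem' := by
    intro a b ha hb p hp
    rw [map_add, LinearMap.add_apply, ha p hp, hb p hp, add_zero]
  zero_mem' := by
    intro p _
    simp
  smul_mem' := by
    intro c x hx p hp
    rw [map_smul, LinearMap.smul_apply, hx p hp, smul_zero]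

theorem mem_leftPerp (B : LinearMap.BilinForm F V) (P : Submodule F V) (x : V) :
    x ∈ leftPerp B P ↔ ∀ p ∈ P, B x p = 0 := Iff.rfl

/-- `B` restricted to `X` is left-nondegenerate. -/
def LNondeg (B : LinearMap.BilinForm F V) (X : Submodule F V) : Prop :=
  ∀ x ∈ X, (∀ y ∈ X, B x y = 0) → x = 0

variable [FiniteDimensional F V]

/-- Representing functionals on a subspace on which the form is left-nondegenerate. -/
theorem exists_repr_of_lnondeg (B : LinearMap.BilinForm F V) (P : Submodule F V)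
    (hP : LNondeg B P) (φ : V →ₗ[F] F) : ∃ p₀ ∈ P, ∀ p ∈ P, B p₀ p = φ p := by
  let Φ : P →ₗ[F] Module.Dual F P := (B.restrict P)
  have hinj : Function.Injective Φ := by
    rw [← LinearMap.ker_eq_bot, LinearMap.ker_eq_bot']
    intro p hp
    apply Subtype.ext
    apply hP p p.2
    intro y hy
    have := congrArg (fun f : Module.Dual F P => f ⟨y, hy⟩) hp
    simpa [Φ] using this
  have hsurj : Function.Surjective Φ :=
    (LinearMap.injective_iff_surjective_of_finrank_eq_finrank
      (Subspace.dual_finrank_eq (K := F) (V := P)).symm).mp hinj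
  obtain ⟨p₀, hp₀⟩ := hsurj (φ ∘ₗ P.subtype)
  refine ⟨p₀, p₀.2, fun p hp => ?_⟩
  have := congrArg (fun f : Module.Dual F P => f ⟨p, hp⟩) hp₀
  simpa [Φ] using this

end gadgets

section rep

variable {F : Type*} [Field F] {G : Type*} [Group G] {V : Type*} [AddCommGroup V] [Module F V]
  (ρ : Representation F G V) (B : LinearMap.BilinForm F V)

/-- `X` is `G`-invariant. -/
def Inv (X : Submodule F V) : Prop := ∀ g : G, ∀ x ∈ X, ρ g x ∈ X

/-- `B` is `G`-invariant. -/
def FormInv : Prop := ∀ (g : G) (x y : V), B (ρ g x) (ρ g y) = B x y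

variable {ρ B}

theorem FormInv.apply_left (hB : FormInv ρ B) (g : G) (x y : V) :
    B (ρ g x) y = B x (ρ g⁻¹ y) := by
  have h1 := hB g x (ρ g⁻¹ y)
  rw [← h1, ← Module.End.mul_apply, ← map_mul, mul_inv_cancel, map_one, Module.End.one_apply]

theorem FormInv.apply_right (hB : FormInv ρ B) (g : G) (x y : V) :
    B x (ρ g y) = B (ρ g⁻¹ x) y := by
  have h1 := hB g (ρ g⁻¹ x) y
  rw [← h1, ← Module.End.mul_apply, ← map_mul, mul_inv_cancel, map_one, Module.End.one_apply]

theorem inv_leftPerp (hB : FormInv ρ B) (P : Submodule F V) (hP : Inv ρ P) :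
    Inv ρ (leftPerp B P) := by
  intro g x hx p hp
  rw [hB.apply_left]
  exact hx _ (hP g⁻¹ p hp)

theorem inv_inf {X Y : Submodule F V} (hX : Inv ρ X) (hY : Inv ρ Y) : Inv ρ (X ⊓ Y) :=
  fun g x hx => ⟨hX g x hx.1, hY g x hx.2⟩

theorem inv_sup {X Y : Submodule F V} (hX : Inv ρ X) (hY : Inv ρ Y) : Inv ρ (X ⊔ Y) := by
  intro g x hx
  obtain ⟨a, ha, b, hb, rfl⟩ := Submodule.mem_sup.mp hx
  rw [map_add]
  exact Submodule.add_mem_sup (hX g a ha) (hY g b hb)

/-- Maschke: invariant complements inside an invariant subspace. -/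
theorem exists_inv_compl_in [Finite G] [NeZero (Nat.card G : F)] (X Y : Submodule F V)
    (hY : Inv ρ Y) (hX : Inv ρ X) (hYX : Y ≤ X) :
    ∃ T : Submodule F V, Inv ρ T ∧ T ≤ X ∧ Y ⊓ T = ⊥ ∧ Y ⊔ T = X := by
  obtain ⟨q, hq⟩ := exists_isCompl (⟨Y, fun g v hv => hY g v hv⟩ : Subrepresentation ρ)
  have hqinv : Inv ρ q.toSubmodule := fun g v hv => q.apply_mem_toSubmodule g hv
  have h1 : Y ⊓ q.toSubmodule = ⊥ := by
    have := congrArg Subrepresentation.toSubmodule hq.inf_eq_bot
    exact this
  have h2 : Y ⊔ q.toSubmodule = ⊤ := by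
    have := congrArg Subrepresentation.toSubmodule hq.sup_eq_top
    exact this
  refine ⟨X ⊓ q.toSubmodule, inv_inf hX hqinv, inf_le_left, ?_, ?_⟩
  · rw [eq_bot_iff, ← h1]
    exact inf_le_inf_left _ inf_le_right
  · rw [inf_comm, ← sup_inf_assoc_of_le _ hYX, h2, top_inf_eq]

variable [FiniteDimensional F V]

/-- Splitting off a subspace on which the form is left-nondegenerate. -/
theorem split_of_lnondeg (hB : FormInv ρ B) (X P : Submodule F V)
    (hXn : LNondeg B X) (hP : Inv ρ P) (hX : Inv ρ X) (hPX : P ≤ X) (hPn : LNondeg B P) :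
    ∃ P' : Submodule F V, Inv ρ P' ∧ P' ≤ X ∧ P ⊓ P' = ⊥ ∧ P ⊔ P' = X ∧ LNondeg B P' ∧
      ∀ x ∈ P', ∀ p ∈ P, B x p = 0 := by
  refine ⟨X ⊓ leftPerp B P, inv_inf hX (inv_leftPerp hB P hP), inf_le_left, ?_, ?_, ?_, ?_⟩
  · rw [eq_bot_iff]
    intro x hx
    rw [Submodule.mem_bot]
    exact hPn x hx.1 (fun y hy => hx.2.2 y hy)
  · apply le_antisymm
    · exact sup_le hPX inf_le_left
    · intro x hx
      obtain ⟨p₀, hp₀, hrep⟩ := exists_repr_of_lnondeg B P hPn (B x)
      have h1 : x - p₀ ∈ X ⊓ leftPerp B P := by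
        refine ⟨X.sub_mem hx (hPX hp₀), ?_⟩
        intro p hp
        rw [map_sub, LinearMap.sub_apply, hrep p hp, sub_self]
      have h2 : x = p₀ + (x - p₀) := by abel
      rw [h2]
      exact Submodule.add_mem_sup hp₀ h1
  · intro x hx hxy
    apply hXn x hx.1
    intro y hy
    obtain ⟨p₀, hp₀, hrep⟩ := exists_repr_of_lnondeg B P hPn (B y)
    have h1 : y - p₀ ∈ X ⊓ leftPerp B P := by
      refine ⟨X.sub_mem hy (hPX hp₀), ?_⟩
      intro p hp
      rw [map_sub, LinearMap.sub_apply, hrep p hp, sub_self]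
    have h2 : y = p₀ + (y - p₀) := by abel
    rw [h2, map_add, hx.2 p₀ hp₀, hxy _ h1, add_zero]
  · intro x hx p hp
    exact hx.2 p hp

/-- Combining alternating forms on two complementary invariant pieces. -/
theorem combine_alt (X P P' : Submodule F V) (hP : Inv ρ P) (hP' : Inv ρ P')
    (hdisj : P ⊓ P' = ⊥) (hsup : P ⊔ P' = X)
    (A₁ A₂ : LinearMap.BilinForm F V) (h₁alt : ∀ x, A₁ x x = 0) (h₂alt : ∀ x, A₂ x x = 0)
    (h₁inv : ∀ g, ∀ x ∈ P, ∀ y ∈ P, A₁ (ρ g x) (ρ g y) = A₁ x y)
    (h₂inv : ∀ g, ∀ x ∈ P', ∀ y ∈ P', A₂ (ρ g x) (ρ g y) = A₂ x y)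
    (h₁n : LNondeg A₁ P) (h₂n : LNondeg A₂ P') :
    ∃ A : LinearMap.BilinForm F V, (∀ x, A x x = 0) ∧
      (∀ g, ∀ x ∈ X, ∀ y ∈ X, A (ρ g x) (ρ g y) = A x y) ∧ LNondeg A X := by
  obtain ⟨ε, hεP, hεid, hεz⟩ := exists_proj_of_disjoint P P' (disjoint_iff.mpr hdisj)
  obtain ⟨ε', hε'P, hε'id, hε'z⟩ := exists_proj_of_disjoint P' P
    (disjoint_iff.mpr (by rw [inf_comm]; exact hdisj))
  have hε : ∀ a ∈ P, ∀ a' ∈ P', ε (a + a') = a := by
    intro a ha a' ha'
    rw [map_add, hεid a ha, hεz a' ha', add_zero]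
  have hε' : ∀ a ∈ P, ∀ a' ∈ P', ε' (a + a') = a' := by
    intro a ha a' ha'
    rw [map_add, hε'z a ha, hε'id a' ha', zero_add]
  have hval : ∀ x y, (A₁.compl₁₂ ε ε + A₂.compl₁₂ ε' ε') x y =
      A₁ (ε x) (ε y) + A₂ (ε' x) (ε' y) := by
    intro x y
    simp only [LinearMap.add_apply, LinearMap.compl₁₂_apply]
  refine ⟨A₁.compl₁₂ ε ε + A₂.compl₁₂ ε' ε', ?_, ?_, ?_⟩
  · intro x
    rw [hval, h₁alt, h₂alt, add_zero]
  · intro g x hx y hy
    rw [← hsup] at hx hy
    obtain ⟨a, ha, a', ha', rfl⟩ := Submodule.mem_sup.mp hx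
    obtain ⟨b, hb, b', hb', rfl⟩ := Submodule.mem_sup.mp hy
    rw [hval, hval, map_add (ρ g) a a', map_add (ρ g) b b',
      hε _ (hP g a ha) _ (hP' g a' ha'), hε _ (hP g b hb) _ (hP' g b' hb'),
      hε' _ (hP g a ha) _ (hP' g a' ha'), hε' _ (hP g b hb) _ (hP' g b' hb'),
      hε a ha a' ha', hε b hb b' hb', hε' a ha a' ha', hε' b hb b' hb',
      h₁inv g a ha b hb, h₂inv g a' ha' b' hb']
  · intro x hx hxy
    rw [← hsup] at hx
    obtain ⟨a, ha, a', ha', rfl⟩ := Submodule.mem_sup.mp hx
    have ha0 : a = 0 := by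
      apply h₁n a ha
      intro y hy
      have h1 := hxy y (hsup ▸ (le_sup_left : P ≤ P ⊔ P') hy)
      have h2 : y = y + 0 := (add_zero y).symm
      rw [hval, hε a ha a' ha', hε' a ha a' ha'] at h1
      nth_rewrite 1 [h2] at h1
      nth_rewrite 2 [h2] at h1
      rw [hε y hy 0 P'.zero_mem, hε' y hy 0 P'.zero_mem, map_zero, add_zero] at h1
      exact h1
    have ha'0 : a' = 0 := by
      apply h₂n a' ha'
      intro y hy
      have h1 := hxy y (hsup ▸ (le_sup_right : P' ≤ P ⊔ P') hy)
      have h2 : y = 0 + y := (zero_add y).symm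
      rw [hval, hε a ha a' ha', hε' a ha a' ha'] at h1
      nth_rewrite 1 [h2] at h1
      nth_rewrite 2 [h2] at h1
      rw [hε 0 P.zero_mem y hy, hε' 0 P.zero_mem y hy, map_zero, zero_add] at h1
      exact h1
    rw [ha0, ha'0, add_zero]

theorem finrank_lt_of_split (X P P' : Submodule F V) (hdisj : P ⊓ P' = ⊥) (hsup : P ⊔ P' = X)
    (hP : P ≠ ⊥) : Module.finrank F P' < Module.finrank F X := by
  have h1 := Submodule.finrank_sup_add_finrank_inf_eq P P'
  rw [hdisj, hsup, finrank_bot, add_zero] at h1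
  have h2 : 1 ≤ Module.finrank F P := Submodule.one_le_finrank_iff.mpr hP
  omega

/-- Characteristic two: a self-dual module without fixed vectors carries a nondegenerate invariant
alternating form. -/
theorem exists_alt_form [Finite G] [NeZero (Nat.card G : F)]
    (h2 : (2 : F) = 0) (hB : FormInv ρ B) :
    ∀ n : ℕ, ∀ X : Submodule F V, Module.finrank F X = n → Inv ρ X → LNondeg B X →
      (∀ x ∈ X, (∀ g, ρ g x = x) → x = 0) →
      ∃ A : LinearMap.BilinForm F V, (∀ x, A x x = 0) ∧
        (∀ g, ∀ x ∈ X, ∀ y ∈ X, A (ρ g x) (ρ g y) = A x y) ∧ LNondeg A X := by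
  intro n
  induction n using Nat.strong_induction_on with
  | _ n ih =>
  intro X hXn hX hXnd hfix
  have hadd : ∀ a : F, a + a = 0 := fun a => by rw [← two_mul, h2, zero_mul]
  have heq_of_add : ∀ a b : F, a + b = 0 → a = b := fun a b h => by
    have h3 : a + b = b + b := by rw [h, hadd]
    exact add_right_cancel h3
  have hvadd : ∀ v : V, v + v = 0 := fun v => by rw [← two_smul F, h2, zero_smul]
  -- the symmetric condition is invariant
  have hsyminv : ∀ y ∈ X, (∀ x ∈ X, B y x = B x y) → ∀ g, ∀ x ∈ X, B (ρ g y) x = B x (ρ g y) := by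
    intro y hy hsym g x hx
    rw [hB.apply_left, hsym _ (hX g⁻¹ x hx), hB.apply_left, inv_inv]
  -- the submodule `N₀`
  let N₀ : Submodule F V :=
    { carrier := {y | y ∈ X ∧ (∀ x ∈ X, B y x = B x y) ∧ B y y = 0}
      add_mem' := by
        rintro y y' ⟨hy, hys, hyy⟩ ⟨hy', hys', hyy'⟩
        refine ⟨X.add_mem hy hy', ?_, ?_⟩
        · intro x hx
          rw [map_add, LinearMap.add_apply, map_add, hys x hx, hys' x hx]
        · have e1 : B (y + y') (y + y') = B y y + B y y' + (B y' y + B y' y') := by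
            simp only [map_add, LinearMap.add_apply]
            ring
          rw [e1, hyy, hyy', hys' y hy, zero_add, add_zero, hadd]
      zero_mem' := ⟨X.zero_mem, fun x _ => by simp, by simp⟩
      smul_mem' := by
        rintro c y ⟨hy, hys, hyy⟩
        refine ⟨X.smul_mem c hy, ?_, ?_⟩
        · intro x hx
          rw [map_smul, LinearMap.smul_apply, map_smul, hys x hx]
        · have e1 : B (c • y) (c • y) = c • c • B y y := by
            simp only [map_smul, LinearMap.smul_apply]
          rw [e1, hyy, smul_zero, smul_zero] }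
  have hN₀mem : ∀ y, y ∈ N₀ ↔ y ∈ X ∧ (∀ x ∈ X, B y x = B x y) ∧ B y y = 0 := fun y => Iff.rfl
  have hN₀X : N₀ ≤ X := fun y hy => hy.1
  have hN₀inv : Inv ρ N₀ := by
    intro g y hy
    refine ⟨hX g y hy.1, hsyminv y hy.1 hy.2.1 g, ?_⟩
    rw [hB g, hy.2.2]
  by_cases hN₀ : N₀ = ⊥
  · -- `B + Bᵀ` is nondegenerate on `X`
    refine ⟨B + B.flip, ?_, ?_, ?_⟩
    · intro x
      have e1 : (B + B.flip) x x = B x x + B x x := by
        simp only [LinearMap.add_apply, LinearMap.BilinForm.flip_apply]
      rw [e1, hadd]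
    · intro g x _ y _
      simp only [LinearMap.add_apply, LinearMap.BilinForm.flip_apply]
      rw [hB g, hB g]
    · intro x hx hxy
      have hsym : ∀ y ∈ X, B x y = B y x := by
        intro y hy
        have h3 := hxy y hy
        simp only [LinearMap.add_apply, LinearMap.BilinForm.flip_apply] at h3
        exact heq_of_add _ _ h3
      apply hfix x hx
      intro g
      have hz : x + ρ g x ∈ N₀ := by
        refine ⟨X.add_mem hx (hX g x hx), ?_, ?_⟩
        · intro w hw
          rw [map_add, LinearMap.add_apply, map_add, hsym w hw, hsyminv x hx hsym g w hw]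
        · have e1 : B (x + ρ g x) (x + ρ g x) =
              B x x + B x (ρ g x) + (B (ρ g x) x + B (ρ g x) (ρ g x)) := by
            simp only [map_add, LinearMap.add_apply]
            ring
          rw [e1, hB g, ← hsym _ (hX g x hx)]
          have h4 : B x x + B x (ρ g x) + (B x (ρ g x) + B x x) =
              (B x x + B x x) + (B x (ρ g x) + B x (ρ g x)) := by ring
          rw [h4, hadd, hadd, add_zero]
      rw [hN₀, Submodule.mem_bot] at hz
      have h5 : ρ g x = x + (x + ρ g x) := by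
        rw [← add_assoc, hvadd, zero_add]
      rw [h5, hz, add_zero]
  · -- the radical of `B` on `N₀`
    by_cases hR : N₀ ⊓ leftPerp B N₀ = ⊥
    · have hN₀nd : LNondeg B N₀ := by
        intro x hx hxy
        have : x ∈ N₀ ⊓ leftPerp B N₀ := ⟨hx, fun p hp => hxy p hp⟩
        rw [hR, Submodule.mem_bot] at this
        exact this
      obtain ⟨P', hP'inv, hP'X, hdisj, hsup, hP'nd, -⟩ :=
        split_of_lnondeg hB X N₀ hXnd hN₀inv hX hN₀X hN₀nd
      have hlt : Module.finrank F P' < n := by
        rw [← hXn]; exact finrank_lt_of_split X N₀ P' hdisj hsup hN₀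
      obtain ⟨A₂, hA₂alt, hA₂inv, hA₂nd⟩ := ih _ hlt P' rfl hP'inv hP'nd
        (fun x hx => hfix x (hP'X hx))
      obtain ⟨ε₀, hε₀mem, hε₀id, -⟩ := exists_proj_of_disjoint N₀ ⊥ disjoint_bot_right
      refine combine_alt X N₀ P' hN₀inv hP'inv hdisj hsup (B.compl₁₂ ε₀ ε₀) A₂ ?_ hA₂alt ?_ hA₂inv
        ?_ hA₂nd
      · intro x
        rw [LinearMap.compl₁₂_apply]
        exact (hε₀mem x).2.2
      · intro g x hx y hy
        rw [LinearMap.compl₁₂_apply, LinearMap.compl₁₂_apply, hε₀id _ (hN₀inv g x hx),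
          hε₀id _ (hN₀inv g y hy), hε₀id x hx, hε₀id y hy, hB g]
      · intro x hx hxy
        apply hN₀nd x hx
        intro y hy
        have h3 := hxy y hy
        rw [LinearMap.compl₁₂_apply, hε₀id x hx, hε₀id y hy] at h3
        exact h3
    · -- totally isotropic case
      set R := N₀ ⊓ leftPerp B N₀ with hRdef
      have hRinv : Inv ρ R := inv_inf hN₀inv (inv_leftPerp hB N₀ hN₀inv)
      have hRN₀ : R ≤ N₀ := inf_le_left
      have hRX : R ≤ X := hRN₀.trans hN₀X
      have hRiso : ∀ r ∈ R, ∀ r' ∈ R, B r r' = 0 := fun r hr r' hr' => hr.2 r' (hRN₀ hr')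
      have hRsym : ∀ r ∈ R, ∀ x ∈ X, B r x = B x r := fun r hr x hx => (hRN₀ hr).2.1 x hx
      obtain ⟨T, hTinv, hTX, hdisjT, hsupT⟩ := exists_inv_compl_in X (X ⊓ leftPerp B R)
        (inv_inf hX (inv_leftPerp hB R hRinv)) hX inf_le_left
      have hRperp : R ≤ X ⊓ leftPerp B R := fun r hr => ⟨hRX hr, fun r' hr' => hRiso r hr r' hr'⟩
      have hRT : R ⊓ T = ⊥ := by
        rw [eq_bot_iff, ← hdisjT]
        exact inf_le_inf_right _ hRperp
      have hi : ∀ t ∈ T, (∀ r ∈ R, B r t = 0) → t = 0 := by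
        intro t ht h
        have : t ∈ (X ⊓ leftPerp B R) ⊓ T := by
          refine ⟨⟨hTX ht, fun r hr => ?_⟩, ht⟩
          rw [← hRsym r hr t (hTX ht)]
          exact h r hr
        rw [hdisjT, Submodule.mem_bot] at this
        exact this
      have hii : ∀ r ∈ R, (∀ t ∈ T, B r t = 0) → r = 0 := by
        intro r hr h
        apply hXnd r (hRX hr)
        intro y hy
        rw [← hsupT] at hy
        obtain ⟨u, hu, t, ht, rfl⟩ := Submodule.mem_sup.mp hy
        rw [map_add, h t ht, add_zero, hRsym r hr u hu.1]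
        exact hu.2 r hr
      have hPinv : Inv ρ (R ⊔ T) := inv_sup hRinv hTinv
      have hPX : R ⊔ T ≤ X := sup_le hRX hTX
      have hPnd : LNondeg B (R ⊔ T) := by
        intro x hx hxy
        obtain ⟨r, hr, t, ht, rfl⟩ := Submodule.mem_sup.mp hx
        have ht0 : t = 0 := by
          apply hi t ht
          intro r' hr'
          have h3 := hxy r' ((le_sup_left : R ≤ R ⊔ T) hr')
          rw [map_add, LinearMap.add_apply, hRiso r hr r' hr', zero_add,
            ← hRsym r' hr' t (hTX ht)] at h3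
          exact h3
        have hr0 : r = 0 := by
          apply hii r hr
          intro t' ht'
          have h3 := hxy t' ((le_sup_right : T ≤ R ⊔ T) ht')
          rw [ht0, add_zero] at h3
          exact h3
        rw [hr0, ht0, add_zero]
      have hPne : R ⊔ T ≠ ⊥ := by
        intro h
        apply hR
        rw [eq_bot_iff, ← h]
        exact le_sup_left
      obtain ⟨P', hP'inv, hP'X, hdisj, hsup, hP'nd, -⟩ :=
        split_of_lnondeg hB X (R ⊔ T) hXnd hPinv hX hPX hPnd
      have hlt : Module.finrank F P' < n := by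
        rw [← hXn]; exact finrank_lt_of_split X (R ⊔ T) P' hdisj hsup hPne
      obtain ⟨A₂, hA₂alt, hA₂inv, hA₂nd⟩ := ih _ hlt P' rfl hP'inv hP'nd
        (fun x hx => hfix x (hP'X hx))
      obtain ⟨εR, -, hεRid, hεRz⟩ := exists_proj_of_disjoint R T (disjoint_iff.mpr hRT)
      obtain ⟨εT, -, hεTid, hεTz⟩ := exists_proj_of_disjoint T R
        (disjoint_iff.mpr (by rw [inf_comm]; exact hRT))
      have hεR : ∀ r ∈ R, ∀ t ∈ T, εR (r + t) = r := by
        intro r hr t ht
        rw [map_add, hεRid r hr, hεRz t ht, add_zero]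
      have hεT : ∀ r ∈ R, ∀ t ∈ T, εT (r + t) = t := by
        intro r hr t ht
        rw [map_add, hεTz r hr, hεTid t ht, zero_add]
      have hval : ∀ x y, (B.compl₁₂ εR εT + (B.compl₁₂ εR εT).flip) x y =
          B (εR x) (εT y) + B (εR y) (εT x) := by
        intro x y
        simp only [LinearMap.add_apply, LinearMap.compl₁₂_apply, LinearMap.flip_apply]
      refine combine_alt X (R ⊔ T) P' hPinv hP'inv hdisj hsup
        (B.compl₁₂ εR εT + (B.compl₁₂ εR εT).flip) A₂ ?_ hA₂alt ?_ hA₂inv ?_ hA₂nd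
      · intro x
        rw [hval, hadd]
      · intro g x hx y hy
        obtain ⟨r, hr, t, ht, rfl⟩ := Submodule.mem_sup.mp hx
        obtain ⟨r', hr', t', ht', rfl⟩ := Submodule.mem_sup.mp hy
        rw [hval, hval, map_add (ρ g) r t, map_add (ρ g) r' t',
          hεR _ (hRinv g r hr) _ (hTinv g t ht), hεT _ (hRinv g r' hr') _ (hTinv g t' ht'),
          hεR _ (hRinv g r' hr') _ (hTinv g t' ht'), hεT _ (hRinv g r hr) _ (hTinv g t ht),
          hεR r hr t ht, hεT r' hr' t' ht', hεR r' hr' t' ht', hεT r hr t ht, hB g, hB g]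
      · intro x hx hxy
        obtain ⟨r, hr, t, ht, rfl⟩ := Submodule.mem_sup.mp hx
        have ht0 : t = 0 := by
          apply hi t ht
          intro r' hr'
          have h3 := hxy r' ((le_sup_left : R ≤ R ⊔ T) hr')
          have h4 : r' = r' + 0 := (add_zero r').symm
          rw [hval, hεR r hr t ht, hεT r hr t ht] at h3
          nth_rewrite 1 [h4] at h3
          nth_rewrite 2 [h4] at h3
          rw [hεT r' hr' 0 T.zero_mem, hεR r' hr' 0 T.zero_mem, map_zero, zero_add] at h3
          exact h3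
        have hr0 : r = 0 := by
          apply hii r hr
          intro t' ht'
          have h3 := hxy t' ((le_sup_right : T ≤ R ⊔ T) ht')
          have h4 : t' = 0 + t' := (zero_add t').symm
          rw [hval, hεR r hr t ht, hεT r hr t ht] at h3
          nth_rewrite 1 [h4] at h3
          nth_rewrite 2 [h4] at h3
          rw [hεT 0 R.zero_mem t' ht', hεR 0 R.zero_mem t' ht', map_zero, LinearMap.zero_apply,
            add_zero] at h3
          exact h3
        rw [hr0, ht0, add_zero]

/-- Any finite-dimensional subspace carries a symmetric form that is nondegenerate on it. -/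
theorem exists_symm_form (W U : Submodule F V) (hc : IsCompl W U) :
    ∃ S : LinearMap.BilinForm F V, (∀ x y, S x y = S y x) ∧ LNondeg S W := by
  classical
  let b := Module.finBasis F W
  let π : V →ₗ[F] W := Submodule.projectionOnto W U hc
  let φ : Fin (Module.finrank F W) → (V →ₗ[F] F) := fun i => (b.coord i) ∘ₗ π
  have hval : ∀ x y, (∑ i, (φ i).smulRight (φ i) : V →ₗ[F] V →ₗ[F] F) x y =
      ∑ i, φ i x * φ i y := by
    intro x y
    simp only [LinearMap.coe_sum, Finset.sum_apply, LinearMap.smulRight_apply,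
      LinearMap.smul_apply, smul_eq_mul]
  refine ⟨∑ i, (φ i).smulRight (φ i), ?_, ?_⟩
  · intro x y
    rw [hval, hval]
    exact Finset.sum_congr rfl (fun i _ => mul_comm _ _)
  · intro x hx hxy
    have hπx : π x = ⟨x, hx⟩ := Submodule.projectionOnto_apply_left hc ⟨x, hx⟩
    have hcoord : ∀ j, b.repr ⟨x, hx⟩ j = 0 := by
      intro j
      have h1 := hxy (b j) (b j).2
      rw [hval] at h1
      have h2 : ∀ i, φ i (b j : V) = if i = j then 1 else 0 := by
        intro i
        have : π (b j : V) = b j := Submodule.projectionOnto_apply_left hc (b j)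
        simp only [φ, LinearMap.coe_comp, Function.comp_apply, this, Module.Basis.coord_apply,
          Module.Basis.repr_self]
        rw [Finsupp.single_apply]
        simp only [eq_comm]
      simp only [h2, mul_ite, mul_one, mul_zero, Finset.sum_ite_eq', Finset.mem_univ,
        if_true] at h1
      simpa [φ, hπx] using h1
    have : (⟨x, hx⟩ : W) = 0 := by
      apply b.repr.injective
      ext j
      rw [hcoord j]
      simp
    exact congrArg Subtype.val this

/-- The characteristic two splitting. -/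
theorem split_two [Finite G] [NeZero (Nat.card G : F)] (h2 : (2 : F) = 0)
    (ρ : Representation F G V) (B : LinearMap.BilinForm F V)
    (hB : B.Nondegenerate) (hBinv : ∀ g : G, ∀ x y : V, B (ρ g x) (ρ g y) = B x y) :
    ∃ U W : Submodule F V, IsCompl U W ∧ (∀ g : G, ∀ u ∈ U, ρ g u ∈ U) ∧
      (∀ g : G, ∀ w ∈ W, ρ g w ∈ W) ∧
      (∃ A : LinearMap.BilinForm F V, (∀ x : V, A x x = 0) ∧
        (∀ g : G, ∀ x ∈ U, ∀ y ∈ U, A (ρ g x) (ρ g y) = A x y) ∧
        (∀ x ∈ U, (∀ y ∈ U, A x y = 0) → x = 0)) ∧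
      (∃ S : LinearMap.BilinForm F V, (∀ x y : V, S x y = S y x) ∧
        (∀ g : G, ∀ x ∈ W, ∀ y ∈ W, S (ρ g x) (ρ g y) = S x y) ∧
        (∀ x ∈ W, (∀ y ∈ W, S x y = 0) → x = 0)) ∧
      (∀ g : G, ∀ w ∈ W, ρ g w = w) := by
  classical
  have : Fintype G := Fintype.ofFinite G
  have hBI : FormInv ρ B := hBinv
  -- the fixed points
  let W : Submodule F V :=
    { carrier := {v | ∀ g : G, ρ g v = v}
      add_mem' := by
        intro a b ha hb g
        rw [map_add, ha g, hb g]
      zero_mem' := by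
        intro g
        rw [map_zero]
      smul_mem' := by
        intro c x hx g
        rw [map_smul, hx g] }
  have hWmem : ∀ v, v ∈ W ↔ ∀ g : G, ρ g v = v := fun v => Iff.rfl
  have hWinv : Inv ρ W := by
    intro g w hw
    rw [hw g]
    exact hw
  have havg : ∀ v : V, (∑ g : G, ρ g v) ∈ W := by
    intro v a
    rw [map_sum]
    refine Fintype.sum_equiv (Equiv.mulLeft a) _ _ ?_
    intro g
    rw [← Module.End.mul_apply, ← map_mul]
    rfl
  have hWnd : LNondeg B W := by
    intro w hw hwy
    apply hB.1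
    intro v
    have h1 := hwy _ (havg v)
    rw [map_sum] at h1
    have h3 : ∀ g : G, B w (ρ g v) = B w v := by
      intro g
      rw [hBI.apply_right, hw g⁻¹]
    rw [Finset.sum_congr rfl (fun g _ => h3 g), Finset.sum_const, Finset.card_univ,
      ← Nat.card_eq_fintype_card, nsmul_eq_mul] at h1
    exact (mul_eq_zero.mp h1).resolve_left (NeZero.ne _)
  have hTopnd : LNondeg B ⊤ := fun x _ hxy => hB.1 x (fun y => hxy y trivial)
  have hTopinv : Inv ρ (⊤ : Submodule F V) := fun _ _ _ => trivial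
  obtain ⟨U, hUinv, -, hdisj, hsup, hUnd, -⟩ :=
    split_of_lnondeg hBI ⊤ W hTopnd hWinv hTopinv le_top hWnd
  have hc : IsCompl W U := ⟨disjoint_iff.mpr hdisj, codisjoint_iff.mpr hsup⟩
  have hfix : ∀ x ∈ U, (∀ g, ρ g x = x) → x = 0 := by
    intro x hx hfx
    have : x ∈ W ⊓ U := ⟨hfx, hx⟩
    rw [hdisj, Submodule.mem_bot] at this
    exact this
  obtain ⟨A, hAalt, hAinv, hAnd⟩ := exists_alt_form h2 hBI _ U rfl hUinv hUnd hfix
  obtain ⟨S, hSsymm, hSnd⟩ := exists_symm_form W U hc
  refine ⟨U, W, hc.symm, hUinv, hWinv, ⟨A, hAalt, hAinv, hAnd⟩, ⟨S, hSsymm, ?_, hSnd⟩, ?_⟩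
  · intro g x hx y hy
    rw [hx g, hy g]
  · intro g w hw
    exact hw g

end rep

section odd

variable {F : Type*} [Field F] {G : Type*} [Group G] {V : Type*} [AddCommGroup V] [Module F V]
  [FiniteDimensional F V]

/-- The "transpose" automorphism attached to a nondegenerate form: `B v (σ w) = B w v`. -/
noncomputable def sigma (B : LinearMap.BilinForm F V) (hB : B.Nondegenerate) : V ≃ₗ[F] V :=
  (B.toDual hB).trans (B.flip.toDual hB.flip).symm

theorem sigma_spec (B : LinearMap.BilinForm F V) (hB : B.Nondegenerate) (v w : V) :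
    B v (sigma B hB w) = B w v := by
  have h1 : B.flip.toDual hB.flip (sigma B hB w) = B.toDual hB w := by
    unfold sigma
    rw [LinearEquiv.trans_apply, LinearEquiv.apply_symm_apply]
  have h2 := congrArg (fun φ : Module.Dual F V => φ v) h1
  simp only [LinearMap.BilinForm.toDual_def, LinearMap.BilinForm.flip_apply] at h2
  exact h2

theorem sigma_symm_spec (B : LinearMap.BilinForm F V) (hB : B.Nondegenerate) (v w : V) :
    B ((sigma B hB).symm w) v = B v w := by
  have h := sigma_spec B hB v ((sigma B hB).symm w)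
  rw [LinearEquiv.apply_symm_apply] at h
  exact h.symm

theorem sigma_left (B : LinearMap.BilinForm F V) (hB : B.Nondegenerate) (x y : V) :
    B (sigma B hB x) y = B x ((sigma B hB).symm y) := by
  have h1 := sigma_symm_spec B hB (sigma B hB x) y
  rw [← h1, sigma_spec]

/-- The odd characteristic splitting (no coprimality needed). -/
theorem split_odd (h2 : (2 : F) ≠ 0) (ρ : Representation F G V) (B : LinearMap.BilinForm F V)
    (hB : B.Nondegenerate) (hBinv : ∀ g : G, ∀ x y : V, B (ρ g x) (ρ g y) = B x y) :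
    ∃ U W : Submodule F V, IsCompl U W ∧ (∀ g : G, ∀ u ∈ U, ρ g u ∈ U) ∧
      (∀ g : G, ∀ w ∈ W, ρ g w ∈ W) ∧
      (∃ A : LinearMap.BilinForm F V, (∀ x : V, A x x = 0) ∧
        (∀ g : G, ∀ x ∈ U, ∀ y ∈ U, A (ρ g x) (ρ g y) = A x y) ∧
        (∀ x ∈ U, (∀ y ∈ U, A x y = 0) → x = 0)) ∧
      (∃ S : LinearMap.BilinForm F V, (∀ x y : V, S x y = S y x) ∧
        (∀ g : G, ∀ x ∈ W, ∀ y ∈ W, S (ρ g x) (ρ g y) = S x y) ∧
        (∀ x ∈ W, (∀ y ∈ W, S x y = 0) → x = 0)) := by
  classical
  set σ : Module.End F V := (sigma B hB).toLinearMap with hσ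
  set τ : Module.End F V := (sigma B hB).symm.toLinearMap with hτ
  have hστ : σ * τ = 1 := by
    ext v
    simp [hσ, hτ]
  have hτσ : τ * σ = 1 := by
    ext v
    simp [hσ, hτ]
  have hspec : ∀ v w, B v (σ w) = B w v := fun v w => sigma_spec B hB v w
  have hspec' : ∀ v w, B (τ w) v = B v w := fun v w => sigma_symm_spec B hB v w
  have hleft : ∀ x y, B (σ x) y = B x (τ y) := fun x y => sigma_left B hB x y
  set f : Module.End F V := 1 + σ with hf
  set g : Module.End F V := 1 + τ with hg
  have hcomm : Commute τ f := by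
    rw [hf]
    refine (Commute.one_right τ).add_right ?_
    show τ * σ = σ * τ
    rw [hτσ, hστ]
  have hgf : g = τ * f := by
    rw [hf, hg, mul_add, mul_one, hτσ, add_comm]
  have hcommgf : Commute g f := by
    rw [hg]
    exact (Commute.one_left f).add_left hcomm
  -- adjoint identities
  have hadj1 : ∀ x y, B (f x) y = B x (g y) := by
    intro x y
    simp only [hf, hg, LinearMap.add_apply, Module.End.one_apply, map_add]
    rw [hleft]
  have hadj2 : ∀ x y, B x (f y) = B (g x) y := by
    intro x y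
    simp only [hf, hg, LinearMap.add_apply, Module.End.one_apply, map_add]
    rw [hspec, hspec']
  have hadj1n : ∀ n : ℕ, ∀ x y, B ((f ^ n) x) y = B x ((g ^ n) y) := by
    intro n
    induction n with
    | zero => intro x y; simp
    | succ n ih =>
      intro x y
      rw [pow_succ, Module.End.mul_apply, ih, pow_succ', Module.End.mul_apply, hadj1]
  have hadj2n : ∀ n : ℕ, ∀ x y, B x ((f ^ n) y) = B ((g ^ n) x) y := by
    intro n
    induction n with
    | zero => intro x y; simp
    | succ n ih =>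
      intro x y
      rw [pow_succ, Module.End.mul_apply, ih, pow_succ', Module.End.mul_apply, hadj2]
  -- commutation with the action
  have hcancel : ∀ a : G, ∀ v, ρ a (ρ a⁻¹ v) = v := by
    intro a v
    rw [← Module.End.mul_apply, ← map_mul, mul_inv_cancel, map_one, Module.End.one_apply]
  have hσρ : ∀ a : G, ∀ w, σ (ρ a w) = ρ a (σ w) := by
    intro a w
    have h3 : σ (ρ a w) - ρ a (σ w) = 0 := by
      apply hB.2
      intro v
      rw [map_sub, hspec]
      have e1 : B v (ρ a (σ w)) = B (ρ a⁻¹ v) (σ w) := by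
        have := hBinv a (ρ a⁻¹ v) (σ w)
        rw [hcancel] at this
        exact this
      have e2 : B (ρ a w) v = B w (ρ a⁻¹ v) := by
        have := hBinv a w (ρ a⁻¹ v)
        rw [hcancel] at this
        exact this
      rw [e1, e2, hspec, sub_self]
    exact sub_eq_zero.mp h3
  have hfρ : ∀ a : G, ∀ w, f (ρ a w) = ρ a (f w) := by
    intro a w
    simp only [hf, LinearMap.add_apply, Module.End.one_apply, map_add]
    rw [hσρ]
  have hfnρ : ∀ n : ℕ, ∀ a : G, ∀ w, (f ^ n) (ρ a w) = ρ a ((f ^ n) w) := by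
    intro n
    induction n with
    | zero => intro a w; simp
    | succ n ih =>
      intro a w
      rw [pow_succ, Module.End.mul_apply, hfρ, ih, Module.End.mul_apply]
  -- Fitting decomposition
  obtain ⟨n, hn1, hn⟩ : ∃ n : ℕ, 1 ≤ n ∧
      IsCompl (LinearMap.ker (f ^ n)) (LinearMap.range (f ^ n)) := by
    have h3 := (LinearMap.eventually_isCompl_ker_pow_range_pow f).and
      (Filter.eventually_ge_atTop 1)
    obtain ⟨n, hn, hn1⟩ := h3.exists
    exact ⟨n, hn1, hn⟩
  have hker : ∀ u, (f ^ n) u = 0 → (g ^ n) u = 0 := by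
    intro u hu
    rw [hgf, hcomm.mul_pow, Module.End.mul_apply, hu, map_zero]
  have horth1 : ∀ u ∈ LinearMap.ker (f ^ n), ∀ w ∈ LinearMap.range (f ^ n), B u w = 0 := by
    intro u hu w hw
    obtain ⟨w', rfl⟩ := hw
    rw [hadj2n, hker u (LinearMap.mem_ker.mp hu), map_zero, LinearMap.zero_apply]
  have horth2 : ∀ u ∈ LinearMap.ker (f ^ n), ∀ w ∈ LinearMap.range (f ^ n), B w u = 0 := by
    intro u hu w hw
    obtain ⟨w', rfl⟩ := hw
    rw [hadj1n, hker u (LinearMap.mem_ker.mp hu), map_zero]
  have hdecomp : ∀ v : V, ∃ u ∈ LinearMap.ker (f ^ n), ∃ w ∈ LinearMap.range (f ^ n),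
      u + w = v := by
    intro v
    have : v ∈ LinearMap.ker (f ^ n) ⊔ LinearMap.range (f ^ n) := by
      rw [hn.sup_eq_top]; trivial
    exact Submodule.mem_sup.mp this
  refine ⟨LinearMap.ker (f ^ n), LinearMap.range (f ^ n), hn, ?_, ?_, ?_, ?_⟩
  · intro a u hu
    rw [LinearMap.mem_ker] at hu ⊢
    rw [hfnρ, hu, map_zero]
  · rintro a w ⟨w', rfl⟩
    exact ⟨ρ a w', hfnρ n a w'⟩
  · refine ⟨B - B.flip, ?_, ?_, ?_⟩
    · intro x
      simp only [LinearMap.sub_apply, LinearMap.BilinForm.flip_apply, sub_self]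
    · intro a x _ y _
      simp only [LinearMap.sub_apply, LinearMap.BilinForm.flip_apply]
      rw [hBinv, hBinv]
    · intro x hx hxy
      have hx' : x - τ x ∈ LinearMap.ker (f ^ n) := by
        rw [LinearMap.mem_ker] at hx ⊢
        rw [map_sub, hx, ← Module.End.mul_apply, ← (hcomm.pow_right n).eq, Module.End.mul_apply, hx,
          map_zero, sub_zero]
      have h3 : x - τ x = 0 := by
        apply hB.1
        intro v
        obtain ⟨u, hu, w, hw, rfl⟩ := hdecomp v
        rw [map_add, horth1 _ hx' w hw, add_zero, map_sub, LinearMap.sub_apply, hspec']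
        have := hxy u hu
        simp only [LinearMap.sub_apply, LinearMap.BilinForm.flip_apply] at this
        exact this
      have h4 : τ x = x := (sub_eq_zero.mp h3).symm
      have h5 : σ x = x := by
        have := congrArg σ h4
        rw [← Module.End.mul_apply, hστ, Module.End.one_apply] at this
        exact this.symm
      have h6 : f x = (2 : F) • x := by
        simp only [hf, LinearMap.add_apply, Module.End.one_apply]
        rw [h5, two_smul]
      have h7 : ∀ k : ℕ, (f ^ k) x = (2 : F) ^ k • x := by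
        intro k
        induction k with
        | zero => simp
        | succ k ih =>
          rw [pow_succ, Module.End.mul_apply, h6, map_smul, ih, smul_smul, pow_succ, mul_comm]
      have h8 := h7 n
      rw [LinearMap.mem_ker.mp hx] at h8
      exact (smul_eq_zero.mp h8.symm).resolve_left (pow_ne_zero n h2)
  · refine ⟨B + B.flip, ?_, ?_, ?_⟩
    · intro x y
      simp only [LinearMap.add_apply, LinearMap.BilinForm.flip_apply]
      rw [add_comm]
    · intro a x _ y _
      simp only [LinearMap.add_apply, LinearMap.BilinForm.flip_apply]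
      rw [hBinv, hBinv]
    · intro x hx hxy
      have hx' : g x ∈ LinearMap.range (f ^ n) := by
        obtain ⟨x', rfl⟩ := hx
        refine ⟨g x', ?_⟩
        rw [← Module.End.mul_apply, ← (hcommgf.pow_right n).eq, Module.End.mul_apply]
      have h3 : g x = 0 := by
        apply hB.1
        intro v
        obtain ⟨u, hu, w, hw, rfl⟩ := hdecomp v
        rw [map_add, horth2 u hu _ hx', zero_add]
        have := hxy w hw
        simp only [LinearMap.add_apply, LinearMap.BilinForm.flip_apply] at this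
        have e : B (g x) w = B x w + B w x := by
          simp only [hg, LinearMap.add_apply, Module.End.one_apply, map_add]
          rw [hspec']
        rw [e]
        exact this
      have h4 : f x = 0 := by
        rw [hgf, Module.End.mul_apply] at h3
        have := congrArg σ h3
        rw [← Module.End.mul_apply, hστ, Module.End.one_apply, map_zero] at this
        exact this
      have h5 : x ∈ LinearMap.ker (f ^ n) := by
        rw [LinearMap.mem_ker]
        obtain ⟨k, rfl⟩ : ∃ k, n = k + 1 := ⟨n - 1, by omega⟩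
        rw [pow_succ, Module.End.mul_apply, h4, map_zero]
      have h6 : x ∈ LinearMap.ker (f ^ n) ⊓ LinearMap.range (f ^ n) := ⟨h5, hx⟩
      rw [hn.inf_eq_bot, Submodule.mem_bot] at h6
      exact h6

end odd

end Cfsg.Agent.Lib.H24.SelfDualSplit
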