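import Cfsg.Agent.Lib.H23.DetChar
import Cfsg.Agent.Lib.L0.CharOps

/-!
# The determinant of a multiple of the regular character of a cyclic group of even order
(helper24)

If `C = ⟨h⟩` has even order `e` and `θ` is a character of `C` with `θ 1 = t * e` vanishing off
the identity, then `detChar θ h = (-1) ^ t`.
-/

set_option autoImplicit false

namespace Cfsg.Agent.Lib.H24

open Cfsg Cfsg.Agent.Lib.L0 Cfsg.Agent.Lib.H23

section

variable {G : Type*} [Group G] [Finite G]

theorem detChar_zero : Cfsg.detChar (0 : G → ℂ) = 1 := by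
  have h : (0 : G → ℂ) = (1 : Representation ℂ G (Fin 0 → ℂ)).character := by
    funext g
    simp [Representation.character]
  rw [h]
  funext g
  rw [detChar_eq]
  exact LinearMap.det_eq_one_of_subsingleton _

theorem detChar_nsmul {χ : G → ℂ} (hχ : Cfsg.IsCharacter G χ) (n : ℕ) :
    Cfsg.detChar (n • χ) = Cfsg.detChar χ ^ n := by
  induction n with
  | zero => rw [zero_smul, pow_zero, detChar_zero]
  | succ n ih =>
    rw [succ_nsmul, detChar_add (isCharacter_nsmul hχ n) hχ, ih, pow_succ]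

theorem detChar_sum {ι : Type*} (s : Finset ι) (f : ι → G → ℂ)
    (hf : ∀ i ∈ s, Cfsg.IsCharacter G (f i)) :
    Cfsg.detChar (∑ i ∈ s, f i) = ∏ i ∈ s, Cfsg.detChar (f i) ∧
      Cfsg.IsCharacter G (∑ i ∈ s, f i) := by
  classical
  induction s using Finset.induction_on with
  | empty =>
    rw [Finset.sum_empty, Finset.prod_empty]
    exact ⟨detChar_zero, isCharacter_zero⟩
  | insert a s ha ih =>
    have ih' := ih fun i hi => hf i (Finset.mem_insert_of_mem hi)
    have hfa := hf a (Finset.mem_insert_self a s)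
    rw [Finset.sum_insert ha, Finset.prod_insert ha]
    exact ⟨by rw [detChar_add hfa ih'.2, ih'.1], isCharacter_add hfa ih'.2⟩

end

/-- the determinant of `t` times the regular character of a cyclic group of even order -/
theorem detChar_regular_cyclic {C : Type*} [Group C] [Finite C] (h : C)
    (hgen : ∀ c : C, c ∈ Subgroup.zpowers h) (f : ℕ) (hf : 0 < f) (he : orderOf h = 2 * f)
    (t : ℕ) (θ : C → ℂ) (h1 : θ 1 = (t : ℂ) * ((2 * f : ℕ) : ℂ))
    (h0 : ∀ c : C, c ≠ 1 → θ c = 0) : Cfsg.detChar θ h = (-1) ^ t := by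
  classical
  set e := 2 * f with hedef
  have he0 : e ≠ 0 := by omega
  -- a primitive root of unity
  set ω : ℂ := Complex.exp (2 * Real.pi * Complex.I / e) with hω
  have hprim : IsPrimitiveRoot ω e := Complex.isPrimitiveRoot_exp e he0
  have hωne : ω ≠ 0 := hprim.ne_zero he0
  set ωu : ℂˣ := Units.mk0 ω hωne with hωu
  have hordu : orderOf ωu = e := by
    have h1 : orderOf (ωu : ℂ) = e := hprim.eq_orderOf.symm
    rwa [orderOf_units] at h1
  set μ : C →* ℂˣ := monoidHomOfForallMemZpowers hgen (g' := ωu) (by rw [hordu, he])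
    with hμ
  have hμh : μ h = ωu := monoidHomOfForallMemZpowers_apply_gen hgen _
  have hμinj : ∀ c : C, μ c = 1 → c = 1 := by
    intro c hc
    obtain ⟨j, rfl⟩ := Subgroup.mem_zpowers_iff.1 (hgen c)
    rw [map_zpow, hμh] at hc
    have := orderOf_dvd_iff_zpow_eq_one.2 hc
    rw [hordu, ← he] at this
    exact orderOf_dvd_iff_zpow_eq_one.1 this
  have hμe : ∀ c : C, (μ c) ^ e = 1 := by
    intro c
    obtain ⟨j, rfl⟩ := Subgroup.mem_zpowers_iff.1 (hgen c)
    rw [map_zpow, hμh, ← zpow_natCast, ← zpow_mul, mul_comm, zpow_mul, zpow_natCast,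
      ← hordu, pow_orderOf_eq_one, one_zpow]
  -- the expansion of `θ`
  have hexp : θ = ∑ k ∈ Finset.range e, t • homToFun C (μ ^ k) := by
    funext c
    rw [Finset.sum_apply]
    simp only [Pi.smul_apply, homToFun_apply, MonoidHom.pow_apply, Units.val_pow_eq_pow_val,
      nsmul_eq_mul]
    rw [← Finset.mul_sum]
    by_cases hc : c = 1
    · subst hc
      rw [h1, map_one]
      simp
    · rw [h0 c hc]
      have hne : ((μ c : ℂˣ) : ℂ) ≠ 1 := by
        intro h2
        exact hc (hμinj c (Units.ext h2))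
      have hpow : ((μ c : ℂˣ) : ℂ) ^ e = 1 := by
        rw [← Units.val_pow_eq_pow_val, hμe c, Units.val_one]
      have hgeom := mul_geom_sum ((μ c : ℂˣ) : ℂ) e
      rw [hpow, sub_self] at hgeom
      have h3 : ∑ i ∈ Finset.range e, ((μ c : ℂˣ) : ℂ) ^ i = 0 := by
        rcases mul_eq_zero.1 hgeom with h4 | h4
        · exact absurd (sub_eq_zero.1 h4) hne
        · exact h4
      rw [h3, mul_zero]
  have hchar : ∀ k, Cfsg.IsCharacter C (homToFun C (μ ^ k)) := fun k =>
    isCharacter_of_irr (isIrrCharacter_of_hom (μ ^ k))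
  rw [hexp, (detChar_sum (Finset.range e) _ fun k _ => isCharacter_nsmul (hchar k) t).1,
    Finset.prod_apply]
  have hterm : ∀ k ∈ Finset.range e,
      Cfsg.detChar (t • homToFun C (μ ^ k)) h = (ω ^ t) ^ k := by
    intro k _
    rw [detChar_nsmul (hchar k), detChar_homToFun, Pi.pow_apply, homToFun_apply,
      MonoidHom.pow_apply, hμh, Units.val_pow_eq_pow_val, hωu, Units.val_mk0, ← pow_mul,
      ← pow_mul, mul_comm]
  rw [Finset.prod_congr rfl hterm, Finset.prod_pow_eq_pow_sum]
  have hsum : ∑ k ∈ Finset.range e, k = f * (2 * f - 1) := by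
    have := Finset.sum_range_id_mul_two e
    rw [hedef] at this ⊢
    have h2 : (∑ i ∈ Finset.range (2 * f), i) * 2 = (f * (2 * f - 1)) * 2 := by
      rw [this]; ring
    exact Nat.eq_of_mul_eq_mul_right (by norm_num) h2
  have hωf : ω ^ f = -1 := by
    have hsq : (ω ^ f) ^ 2 = 1 := by
      rw [← pow_mul, mul_comm, ← hedef]
      exact hprim.pow_eq_one
    have hne : ω ^ f ≠ 1 := hprim.pow_ne_one_of_pos_of_lt (by omega) (by omega)
    rcases mul_self_eq_one_iff.1 ((sq (ω ^ f)).symm.trans hsq) with h2 | h2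
    · exact absurd h2 hne
    · exact h2
  rw [hsum, ← pow_mul, mul_comm t, mul_assoc, pow_mul, hωf]
  have hodd : Odd ((2 * f - 1) * t) ↔ Odd t := by
    rw [Nat.odd_mul]
    constructor
    · exact fun h => h.2
    · exact fun h => ⟨⟨f - 1, by omega⟩, h⟩
  rcases Nat.even_or_odd t with ht | ht
  · rw [ht.neg_one_pow, Even.neg_one_pow]
    rw [← Nat.not_odd_iff_even, hodd, Nat.not_odd_iff_even]
    exact ht
  · rw [ht.neg_one_pow, Odd.neg_one_pow (hodd.2 ht)]

end Cfsg.Agent.Lib.H24
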