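import Mathlib
import Cfsg.Agent.Lib.H17.AGH13Defs

/-!
# S4150 / H13 piece E3 (helper24): the table built along the path is the table of `g`

Invariant along `pathX`: `look X q = if q ∈ D then g q else 0` for `q < 13` (`D` = the points already
left); the digit lemma `look (X + v * 16 ^ p) q = if q = p then v else look X q` is checked by
`interval_cases` + `omega`.
-/

set_option autoImplicit false

namespace Cfsg.Agent.Lib.H24.AG

open Cfsg.Agent.Lib.H17.AG

theorem look_eq (T i : Nat) : look T i = T / 16 ^ i % 16 := rfl

/-- the digit lemma. -/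
theorem look_add_digit (X v p q : Nat) (hp : p < 13) (hq : q < 13) (hv : v < 16)
    (h0 : look X p = 0) : look (X + v * 16 ^ p) q = if q = p then v else look X q := by
  rw [look_eq] at h0
  rw [look_eq, look_eq]
  interval_cases p <;> interval_cases q <;> norm_num at h0 ⊢ <;> omega

theorem pathX_nil (X cur : Nat) : pathX X cur [] = X + 2 * 16 ^ cur := rfl

theorem pathX_cons (X cur a : Nat) (t : List Nat) :
    pathX X cur (a :: t) = pathX (X + a * 16 ^ cur) a t := rfl

/-- the invariant along the path. -/
theorem look_pathX_aux (g : Nat → Nat) : ∀ (l : List Nat) (X cur : Nat) (D : Finset Nat),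
    cur < 13 → cur ∉ D → (∀ a ∈ l, a < 13) → (∀ a ∈ l, a ∉ D) → cur ∉ l → l.Nodup →
    (∀ q, q < 13 → look X q = if q ∈ D then g q else 0) → Chain g cur l →
    ∀ q, q < 13 → look (pathX X cur l) q = if q ∈ insert cur D ∪ l.toFinset then g q else 0 := by
  intro l
  induction l with
  | nil =>
    intro X cur D hcur hcD _ _ _ _ hinv hch q hq
    have hg : g cur = 2 := hch
    have h0 : look X cur = 0 := by rw [hinv cur hcur, if_neg hcD]
    rw [pathX_nil, look_add_digit X 2 cur q hcur hq (by norm_num) h0]
    by_cases hqc : q = cur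
    · subst hqc
      rw [if_pos rfl, if_pos (by simp), hg]
    · rw [if_neg hqc, hinv q hq]
      by_cases hqD : q ∈ D
      · rw [if_pos hqD, if_pos (by simp [hqD])]
      · rw [if_neg hqD, if_neg (by simp [hqD, hqc])]
  | cons a t ih =>
    intro X cur D hcur hcD hlt hnD hcl hnd hinv hch q hq
    obtain ⟨hga, hch'⟩ : g cur = a ∧ Chain g a t := hch
    have ha13 : a < 13 := hlt a (List.mem_cons_self)
    have haD : a ∉ D := hnD a (List.mem_cons_self)
    have hac : a ≠ cur := fun h => hcl (h ▸ List.mem_cons_self)
    have h0 : look X cur = 0 := by rw [hinv cur hcur, if_neg hcD]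
    rw [pathX_cons]
    have hinv' : ∀ q, q < 13 → look (X + a * 16 ^ cur) q = if q ∈ insert cur D then g q else 0 := by
      intro q hq
      rw [look_add_digit X a cur q hcur hq (by omega) h0]
      by_cases hqc : q = cur
      · subst hqc
        rw [if_pos rfl, if_pos (by simp), hga]
      · rw [if_neg hqc, hinv q hq]
        by_cases hqD : q ∈ D
        · rw [if_pos hqD, if_pos (by simp [hqD])]
        · rw [if_neg hqD, if_neg (by simp [hqD, hqc])]
    have key := ih (X + a * 16 ^ cur) a (insert cur D) ha13
      (by simp [haD, hac])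
      (fun b hb => hlt b (List.mem_cons_of_mem _ hb))
      (fun b hb => by
        have hbD : b ∉ D := hnD b (List.mem_cons_of_mem _ hb)
        have hbc : b ≠ cur := fun h => hcl (h ▸ List.mem_cons_of_mem _ hb)
        simp [hbD, hbc])
      (List.nodup_cons.mp hnd).1 (List.nodup_cons.mp hnd).2 hinv' hch' q hq
    rw [key]
    have hset : insert a (insert cur D) ∪ t.toFinset = insert cur D ∪ (a :: t).toFinset := by
      ext x
      simp only [Finset.mem_union, Finset.mem_insert, List.mem_toFinset, List.toFinset_cons]
      tauto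
    rw [hset]

theorem look_pathX (g : Nat → Nat) (l : List Nat) (hg0 : g 0 = 0) (hg1 : g 1 = 1) (hg2 : g 2 = 3)
    (hc : Chain g 3 l) (hl : l.Perm [4, 5, 6, 7, 8, 9, 10, 11, 12]) :
    ∀ i, i < 13 → look (pathX X0 3 l) i = g i := by
  intro i hi
  have hmem : ∀ a, a ∈ l ↔ a ∈ [4, 5, 6, 7, 8, 9, 10, 11, 12] := fun a => hl.mem_iff
  have hnd : l.Nodup := hl.nodup_iff.mpr (by decide)
  have hinv0 : ∀ q, q < 13 → look X0 q = if q ∈ ({0, 1, 2} : Finset Nat) then g q else 0 := by
    intro q hq
    rw [look_eq]
    interval_cases q <;> simp [X0, hg0, hg1, hg2]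
  have key := look_pathX_aux g l X0 3 {0, 1, 2} (by norm_num) (by decide)
    (fun a ha => by
      have := (hmem a).mp ha
      simp only [List.mem_cons, List.not_mem_nil, or_false] at this
      omega)
    (fun a ha => by
      have := (hmem a).mp ha
      simp only [List.mem_cons, List.not_mem_nil, or_false] at this
      simp only [Finset.mem_insert, Finset.mem_singleton]
      omega)
    (fun h => by
      have := (hmem 3).mp h
      simp at this)
    hnd hinv0 hc i hi
  rw [key, if_pos]
  simp only [Finset.mem_union, Finset.mem_insert, Finset.mem_singleton, List.mem_toFinset, hmem,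
    List.mem_cons, List.not_mem_nil, or_false]
  omega

end Cfsg.Agent.Lib.H24.AG
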