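import Mathlib
import Cfsg.Agent.S0572
import Cfsg.Agent.S0564

/-!
# S0574 piece IND (helper14; architect helper24, blueprint tools/blueprints/S0574.md)

`core`: `G = AB` finite, `A` abelian, `B' ≤ Z(B)` ⇒ `derivedSeries G (2 (1 + Ω(|B'|))) = ⊥`,
by strong induction on `|G|` through `G ⧸ normalClosure {x}` with `x` from `red2`
(here `red2` enters as the hypothesis `hred`; `AN2IND.lean` plugs in the landed `red2`).
-/

set_option autoImplicit false

namespace Cfsg.Agent.Lib.H24.AN2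

/-- the number of prime factors drops when passing to a proper divisor -/
theorem ind_length_primeFactorsList_lt {k m : ℕ} (hk : 2 ≤ k) (hm : m ≠ 0) :
    m.primeFactorsList.length + 1 ≤ (k * m).primeFactorsList.length := by
  have hk0 : k ≠ 0 := by omega
  have hperm := Nat.perm_primeFactorsList_mul hk0 hm
  rw [hperm.length_eq, List.length_append]
  have : k.primeFactorsList ≠ [] := by
    intro h
    rcases (Nat.primeFactorsList_eq_nil k).1 h with h | h <;> omega
  have := List.length_pos_iff.2 this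
  omega

/-- cardinality of the image of a subgroup under a hom whose kernel meets it nontrivially -/
theorem ind_card_map_mul_of_mem_ker {G Q : Type*} [Group G] [Group Q] [Finite G] (f : G →* Q)
    (H : Subgroup G) {x : G} (hxH : x ∈ H) (hx1 : x ≠ 1) (hxf : f x = 1) :
    ∃ k : ℕ, 2 ≤ k ∧ Nat.card H = k * Nat.card (H.map f) := by
  let g : ↥H →* Q := f.comp H.subtype
  have hrange : g.range = H.map f := by
    rw [MonoidHom.range_comp, Subgroup.range_subtype]
  have h1 : Nat.card ↥g.ker * g.ker.index = Nat.card ↥H := Subgroup.card_mul_index g.ker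
  rw [Subgroup.index_ker, hrange] at h1
  refine ⟨Nat.card ↥g.ker, ?_, h1.symm⟩
  have hmem : (⟨x, hxH⟩ : ↥H) ∈ g.ker := by
    rw [MonoidHom.mem_ker]
    exact hxf
  have hne : (⟨⟨x, hxH⟩, hmem⟩ : ↥g.ker) ≠ 1 := by
    intro h
    apply hx1
    have := congrArg (fun y : ↥g.ker => ((y : ↥H) : G)) h
    simpa using this
  have : Nontrivial ↥g.ker := ⟨⟨_, _, hne⟩⟩
  exact Finite.one_lt_card

theorem ind_core_aux.{u}
    (hred : ∀ (G : Type u) [Group G] [Finite G] (A B : Subgroup G),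
      (∀ a ∈ A, ∀ c ∈ A, a * c = c * a) → (∀ z ∈ ⁅B, B⁆, ∀ b ∈ B, z * b = b * z) →
      (∀ g : G, ∃ a ∈ A, ∃ b ∈ B, g = a * b) → (¬ ∀ b₁ ∈ B, ∀ b₂ ∈ B, b₁ * b₂ = b₂ * b₁) →
      ∃ x ∈ ⁅B, B⁆, x ≠ 1 ∧
        ⁅⁅Subgroup.normalClosure ({x} : Set G), Subgroup.normalClosure ({x} : Set G)⁆,
          ⁅Subgroup.normalClosure ({x} : Set G), Subgroup.normalClosure ({x} : Set G)⁆⁆ = ⊥) :
    ∀ n : ℕ, ∀ (G : Type u) [Group G] [Finite G], Nat.card G = n →
    ∀ A B : Subgroup G, (∀ a ∈ A, ∀ c ∈ A, a * c = c * a) →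
      (∀ z ∈ ⁅B, B⁆, ∀ b ∈ B, z * b = b * z) → (∀ g : G, ∃ a ∈ A, ∃ b ∈ B, g = a * b) →
      derivedSeries G (2 * (1 + (Nat.card ↥⁅B, B⁆).primeFactorsList.length)) = ⊥ := by
  intro n
  induction n using Nat.strong_induction_on with
  | _ n ih =>
    intro G _ _ hn A B hA hB hAB
    by_cases hab : ∀ b₁ ∈ B, ∀ b₂ ∈ B, b₁ * b₂ = b₂ * b₁
    · have h2 : derivedSeries G 2 = ⊥ := Cfsg.Agent.S0572.main A B hA hab hAB
      have hle : derivedSeries G (2 * (1 + (Nat.card ↥⁅B, B⁆).primeFactorsList.length))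
          ≤ derivedSeries G 2 := derivedSeries_antitone G (by omega)
      rw [h2] at hle
      exact le_bot_iff.1 hle
    · obtain ⟨x, hxB', hx1, hN⟩ := hred G A B hA hB hAB hab
      set N : Subgroup G := Subgroup.normalClosure ({x} : Set G) with hNdef
      have hxN : x ∈ N := Subgroup.subset_normalClosure (Set.mem_singleton x)
      let f : G →* G ⧸ N := QuotientGroup.mk' N
      have hfx : f x = 1 := (QuotientGroup.eq_one_iff x).2 hxN
      have hfsurj : Function.Surjective f := QuotientGroup.mk'_surjective N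
      -- the quotient is smaller
      have hcardlt : Nat.card (G ⧸ N) < n := by
        have h1 : Nat.card (G ⧸ N) * Nat.card ↥N = Nat.card G := by
          rw [← Subgroup.index_eq_card, mul_comm]
          exact Subgroup.card_mul_index N
        have : Nontrivial ↥N := ⟨⟨⟨x, hxN⟩, 1, fun h => hx1 (by simpa using congrArg Subtype.val h)⟩⟩
        have h2 : 1 < Nat.card ↥N := Finite.one_lt_card
        have h3 : 0 < Nat.card (G ⧸ N) := Nat.card_pos
        rw [← hn, ← h1]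
        nlinarith
      -- hypotheses for the quotient
      have hA' : ∀ a ∈ A.map f, ∀ c ∈ A.map f, a * c = c * a := by
        rintro _ ⟨a, ha, rfl⟩ _ ⟨c, hc, rfl⟩
        rw [← map_mul, ← map_mul, hA a ha c hc]
      have hcomm : ⁅B.map f, B.map f⁆ = (⁅B, B⁆).map f := (Subgroup.map_commutator B B f).symm
      have hB' : ∀ z ∈ ⁅B.map f, B.map f⁆, ∀ b ∈ B.map f, z * b = b * z := by
        intro z hz b hb
        rw [hcomm] at hz
        obtain ⟨z0, hz0, rfl⟩ := hz
        obtain ⟨b0, hb0, rfl⟩ := hb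
        rw [← map_mul, ← map_mul, hB z0 hz0 b0 hb0]
      have hAB' : ∀ g : G ⧸ N, ∃ a ∈ A.map f, ∃ b ∈ B.map f, g = a * b := by
        intro g
        obtain ⟨g0, rfl⟩ := hfsurj g
        obtain ⟨a, ha, b, hb, rfl⟩ := hAB g0
        exact ⟨f a, Subgroup.mem_map_of_mem f ha, f b, Subgroup.mem_map_of_mem f hb, map_mul f a b⟩
      have ihQ := ih (Nat.card (G ⧸ N)) hcardlt (G ⧸ N) rfl (A.map f) (B.map f) hA' hB' hAB'
      -- the number of prime factors drops
      obtain ⟨k, hk2, hk⟩ := ind_card_map_mul_of_mem_ker f ⁅B, B⁆ hxB' hx1 hfx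
      have hpos : Nat.card ↥((⁅B, B⁆).map f) ≠ 0 := Nat.card_pos.ne'
      have hΩ := ind_length_primeFactorsList_lt hk2 hpos
      rw [← hk] at hΩ
      rw [hcomm] at ihQ
      set Ω := (Nat.card ↥⁅B, B⁆).primeFactorsList.length with hΩdef
      set Ω' := (Nat.card ↥((⁅B, B⁆).map f)).primeFactorsList.length with hΩ'def
      have hQ : derivedSeries (G ⧸ N) (2 * Ω) = ⊥ := by
        have hle : derivedSeries (G ⧸ N) (2 * Ω) ≤ derivedSeries (G ⧸ N) (2 * (1 + Ω')) :=
          derivedSeries_antitone (G ⧸ N) (by omega)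
        rw [ihQ] at hle
        exact le_bot_iff.1 hle
      have hD : derivedSeries G (2 * Ω) ≤ N := by
        have hmap : (derivedSeries G (2 * Ω)).map f = ⊥ := by
          rw [map_derivedSeries_eq hfsurj, hQ]
        have := (Subgroup.map_eq_bot_iff _).1 hmap
        rwa [QuotientGroup.ker_mk'] at this
      have heq : 2 * (1 + Ω) = 2 * Ω + 1 + 1 := by ring
      rw [heq, derivedSeries_succ, derivedSeries_succ]
      have hle : ⁅⁅derivedSeries G (2 * Ω), derivedSeries G (2 * Ω)⁆,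
          ⁅derivedSeries G (2 * Ω), derivedSeries G (2 * Ω)⁆⁆ ≤ ⁅⁅N, N⁆, ⁅N, N⁆⁆ :=
        Subgroup.commutator_mono (Subgroup.commutator_mono hD hD) (Subgroup.commutator_mono hD hD)
      rw [hN] at hle
      exact le_bot_iff.1 hle

/-- PIECE IND, parametric in the statement of `red2`. -/
theorem core_of.{u}
    (hred : ∀ (G : Type u) [Group G] [Finite G] (A B : Subgroup G),
      (∀ a ∈ A, ∀ c ∈ A, a * c = c * a) → (∀ z ∈ ⁅B, B⁆, ∀ b ∈ B, z * b = b * z) →
      (∀ g : G, ∃ a ∈ A, ∃ b ∈ B, g = a * b) → (¬ ∀ b₁ ∈ B, ∀ b₂ ∈ B, b₁ * b₂ = b₂ * b₁) →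
      ∃ x ∈ ⁅B, B⁆, x ≠ 1 ∧
        ⁅⁅Subgroup.normalClosure ({x} : Set G), Subgroup.normalClosure ({x} : Set G)⁆,
          ⁅Subgroup.normalClosure ({x} : Set G), Subgroup.normalClosure ({x} : Set G)⁆⁆ = ⊥)
    {G : Type u} [Group G] [Finite G] (A B : Subgroup G)
    (hA : ∀ a ∈ A, ∀ c ∈ A, a * c = c * a)
    (hB : ∀ z ∈ ⁅B, B⁆, ∀ b ∈ B, z * b = b * z)
    (hAB : ∀ g : G, ∃ a ∈ A, ∃ b ∈ B, g = a * b) :
    derivedSeries G (2 * (1 + (Nat.card ↥⁅B, B⁆).primeFactorsList.length)) = ⊥ :=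
  ind_core_aux hred (Nat.card G) G rfl A B hA hB hAB

end Cfsg.Agent.Lib.H24.AN2
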