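import Mathlib

/-! S0574, piece KLC: the crux computation (helper24).
`G'` abelian, `A` abelian, `x a = a' β`, `x c = c' γ` with `β, γ` commuting with `x` ⇒ `β γ = γ β`. -/

set_option autoImplicit false

namespace Cfsg.Agent.Lib.H24.AN2

open scoped commutatorElement

variable {G : Type*} [Group G]

theorem klc_cmr (x y z : G) : ⁅x, y * z⁆ = ⁅x, y⁆ * (y * ⁅x, z⁆ * y⁻¹) := by
  simp only [commutatorElement_def]; group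

theorem klc_comm_mem (g h : G) : ⁅g, h⁆ ∈ commutator G := by
  rw [commutator_def]
  exact Subgroup.commutator_mem_commutator (Subgroup.mem_top g) (Subgroup.mem_top h)

theorem klc_conj_mem {δ : G} (hδ : δ ∈ commutator G) (g : G) : g * δ * g⁻¹ ∈ commutator G :=
  (inferInstance : (commutator G).Normal).conj_mem δ hδ g

/-- conjugation actions on the abelian `G'` commute -/
theorem klc_swap (hmeta : ∀ u ∈ commutator G, ∀ v ∈ commutator G, u * v = v * u)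
    {δ : G} (hδ : δ ∈ commutator G) (g h : G) :
    g * h * δ * h⁻¹ * g⁻¹ = h * g * δ * g⁻¹ * h⁻¹ := by
  have e : g * h * δ * h⁻¹ * g⁻¹ = ⁅g, h⁆ * (h * (g * δ * g⁻¹) * h⁻¹) * ⁅g, h⁆⁻¹ := by
    simp only [commutatorElement_def]; group
  rw [e, hmeta _ (klc_comm_mem g h) _ (klc_conj_mem (klc_conj_mem hδ g) h)]
  group

theorem klc_T2 (hmeta : ∀ u ∈ commutator G, ∀ v ∈ commutator G, u * v = v * u)
    {δ : G} (hδ : δ ∈ commutator G) (g h : G) :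
    ⁅g, h * δ * h⁻¹⁆ = h * ⁅g, δ⁆ * h⁻¹ := by
  have e1 : ⁅g, h * δ * h⁻¹⁆ = (g * h * δ * h⁻¹ * g⁻¹) * (h * δ⁻¹ * h⁻¹) := by
    simp only [commutatorElement_def]; group
  rw [e1, klc_swap hmeta hδ g h]
  simp only [commutatorElement_def]; group

/-- symmetry of the cocycle `a ↦ ⁅x, a⁆` on the abelian subgroup `A` -/
theorem klc_symm (A : Subgroup G) (hA : ∀ a ∈ A, ∀ c ∈ A, a * c = c * a) (x : G)
    (hmeta : ∀ u ∈ commutator G, ∀ v ∈ commutator G, u * v = v * u)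
    {a c : G} (ha : a ∈ A) (hc : c ∈ A) : ⁅a, ⁅x, c⁆⁆ = ⁅c, ⁅x, a⁆⁆ := by
  have E1 : ⁅x, a⁆ * (a * ⁅x, c⁆ * a⁻¹) = ⁅x, c⁆ * (c * ⁅x, a⁆ * c⁻¹) := by
    rw [← klc_cmr, ← klc_cmr, hA a ha c hc]
  have hP : ⁅x, a⁆ ∈ commutator G := klc_comm_mem x a
  have hR : ⁅x, c⁆ ∈ commutator G := klc_comm_mem x c
  have hS : c * ⁅x, a⁆ * c⁻¹ ∈ commutator G := klc_conj_mem hP c
  have hQ : a * ⁅x, c⁆ * a⁻¹ = ⁅x, a⁆⁻¹ * (⁅x, c⁆ * (c * ⁅x, a⁆ * c⁻¹)) := by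
    rw [← E1]; group
  have hRS : ⁅x, c⁆ * (c * ⁅x, a⁆ * c⁻¹) = (c * ⁅x, a⁆ * c⁻¹) * ⁅x, c⁆ := hmeta _ hR _ hS
  have hPS : ⁅x, a⁆⁻¹ * (c * ⁅x, a⁆ * c⁻¹) = (c * ⁅x, a⁆ * c⁻¹) * ⁅x, a⁆⁻¹ :=
    hmeta _ ((commutator G).inv_mem hP) _ hS
  calc ⁅a, ⁅x, c⁆⁆ = (a * ⁅x, c⁆ * a⁻¹) * ⁅x, c⁆⁻¹ := by
        rw [commutatorElement_def a]
    _ = ⁅x, a⁆⁻¹ * ((c * ⁅x, a⁆ * c⁻¹) * ⁅x, c⁆) * ⁅x, c⁆⁻¹ := by rw [hQ, hRS]
    _ = ⁅x, a⁆⁻¹ * (c * ⁅x, a⁆ * c⁻¹) := by group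
    _ = (c * ⁅x, a⁆ * c⁻¹) * ⁅x, a⁆⁻¹ := hPS
    _ = ⁅c, ⁅x, a⁆⁆ := by rw [commutatorElement_def c]

/-- `x` maps `⁅x, a⁆` to `⁅x, a'⁆` when `x a = a' β` with `β` commuting with `x` -/
theorem klc_x {x a a' β : G} (hβ : β * x = x * β) (h1 : x * a = a' * β) :
    x * ⁅x, a⁆ * x⁻¹ = ⁅x, a'⁆ := by
  have e1 : x * ⁅x, a⁆ * x⁻¹ = ⁅x, x * a * x⁻¹⁆ := by
    simp only [commutatorElement_def]; group
  have e2 : x * a * x⁻¹ = a' * (β * x⁻¹) := by rw [h1]; group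
  have hc : Commute x (β * x⁻¹) :=
    Commute.mul_right (show Commute x β from hβ.symm) (Commute.refl x).inv_right
  have e3 : ⁅x, β * x⁻¹⁆ = 1 := commutatorElement_eq_one_iff_commute.2 hc
  rw [e1, e2, klc_cmr, e3]; group

/-- pure group lemma -/
theorem klc_M {u w v z : G} (huw : Commute u w) (hvz : Commute v z) (h : ⁅z, u⁆ = ⁅v, w⁆) :
    Commute (v⁻¹ * u) (z⁻¹ * w) := by
  have e1 : v⁻¹ * u * (z⁻¹ * w) = v⁻¹ * z⁻¹ * ⁅z, u⁆ * (u * w) := by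
    simp only [commutatorElement_def]; group
  have e2 : z⁻¹ * w * (v⁻¹ * u) = z⁻¹ * v⁻¹ * ⁅v, w⁆ * (w * u) := by
    simp only [commutatorElement_def]; group
  have e3 : v⁻¹ * z⁻¹ = z⁻¹ * v⁻¹ := hvz.inv_inv.eq
  show v⁻¹ * u * (z⁻¹ * w) = z⁻¹ * w * (v⁻¹ * u)
  rw [e1, e2, h, huw.eq, e3]

theorem klc (A : Subgroup G)
    (hA : ∀ a ∈ A, ∀ c ∈ A, a * c = c * a) (x : G)
    (hmeta : ∀ u ∈ commutator G, ∀ v ∈ commutator G, u * v = v * u)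
    {a a' c c' β γ : G} (ha : a ∈ A) (ha' : a' ∈ A) (hc : c ∈ A) (hc' : c' ∈ A)
    (hβ : β * x = x * β) (hγ : γ * x = x * γ) (h1 : x * a = a' * β) (h2 : x * c = c' * γ) :
    β * γ = γ * β := by
  -- (4'): ⁅c', ⁅x,a⁆⁆ = ⁅a', ⁅x,c⁆⁆
  have h4 : ⁅c', ⁅x, a⁆⁆ = ⁅a', ⁅x, c⁆⁆ := by
    calc ⁅c', ⁅x, a⁆⁆ = ⁅a, ⁅x, c'⁆⁆ := (klc_symm A hA x hmeta ha hc').symm
      _ = ⁅a, x * ⁅x, c⁆ * x⁻¹⁆ := by rw [klc_x hγ h2]
      _ = x * ⁅a, ⁅x, c⁆⁆ * x⁻¹ := klc_T2 hmeta (klc_comm_mem x c) a x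
      _ = x * ⁅c, ⁅x, a⁆⁆ * x⁻¹ := by rw [klc_symm A hA x hmeta ha hc]
      _ = ⁅c, x * ⁅x, a⁆ * x⁻¹⁆ := (klc_T2 hmeta (klc_comm_mem x a) c x).symm
      _ = ⁅c, ⁅x, a'⁆⁆ := by rw [klc_x hβ h1]
      _ = ⁅a', ⁅x, c⁆⁆ := klc_symm A hA x hmeta hc ha'
  -- u = x a x⁻¹ = ⁅x,a⁆ a
  have hu : x * a * x⁻¹ = ⁅x, a⁆ * a := by simp only [commutatorElement_def]; group
  have hw : x * c * x⁻¹ = ⁅x, c⁆ * c := by simp only [commutatorElement_def]; group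
  have k1 : ⁅c', x * a * x⁻¹⁆ = ⁅c', ⁅x, a⁆⁆ := by
    rw [hu, klc_cmr, commutatorElement_eq_one_iff_commute.2 (hA c' hc' a ha)]; group
  have k2 : ⁅a', x * c * x⁻¹⁆ = ⁅a', ⁅x, c⁆⁆ := by
    rw [hw, klc_cmr, commutatorElement_eq_one_iff_commute.2 (hA a' ha' c hc)]; group
  have huw : Commute (x * a * x⁻¹) (x * c * x⁻¹) := by
    show x * a * x⁻¹ * (x * c * x⁻¹) = x * c * x⁻¹ * (x * a * x⁻¹)
    have : a * c = c * a := hA a ha c hc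
    calc x * a * x⁻¹ * (x * c * x⁻¹) = x * (a * c) * x⁻¹ := by group
      _ = x * (c * a) * x⁻¹ := by rw [this]
      _ = x * c * x⁻¹ * (x * a * x⁻¹) := by group
  have hM : Commute (a'⁻¹ * (x * a * x⁻¹)) (c'⁻¹ * (x * c * x⁻¹)) :=
    klc_M huw (show Commute a' c' from hA a' ha' c' hc') (by rw [k1, k2, h4])
  have eβ : a'⁻¹ * (x * a * x⁻¹) = β * x⁻¹ := by
    have : a'⁻¹ * (x * a * x⁻¹) = a'⁻¹ * (x * a) * x⁻¹ := by group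
    rw [this, h1]; group
  have eγ : c'⁻¹ * (x * c * x⁻¹) = γ * x⁻¹ := by
    have : c'⁻¹ * (x * c * x⁻¹) = c'⁻¹ * (x * c) * x⁻¹ := by group
    rw [this, h2]; group
  rw [eβ, eγ] at hM
  have cβx : Commute β x := hβ
  have cγx : Commute γ x := hγ
  have c1 : Commute (β * x⁻¹) x := Commute.mul_left cβx (Commute.refl x).inv_left
  have c2 : Commute x (γ * x⁻¹) := Commute.mul_right cγx.symm (Commute.refl x).inv_right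
  have hfin : Commute ((β * x⁻¹) * x) ((γ * x⁻¹) * x) :=
    Commute.mul_left (Commute.mul_right hM c1) (Commute.mul_right c2 (Commute.refl x))
  have e5 : β * x⁻¹ * x = β := by group
  have e6 : γ * x⁻¹ * x = γ := by group
  rw [e5, e6] at hfin
  exact hfin

end Cfsg.Agent.Lib.H24.AN2
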