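import Mathlib
import Cfsg.Agent.S0572
import Cfsg.Agent.S0564
import Cfsg.Agent.Lib.H24.AN2KLC

/-! S0574 piece KLG (helper2 for helper24's architecture): `klg`, `klq`, `red1`. -/

set_option autoImplicit false

namespace Cfsg.Agent.Lib.H24.AN2
open scoped commutatorElement


/-- PIECE KLG, part 1.  Reduced setting + `G'` abelian ⇒ `B` abelian. (uses `klc`) -/
theorem klg {G : Type*} [Group G] (A B : Subgroup G)
    (hA : ∀ a ∈ A, ∀ c ∈ A, a * c = c * a) (x : G) (hx : x ∈ B)
    (hxB : ∀ b ∈ B, b * x = x * b)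
    (hAB : ∀ g : G, ∃ a ∈ A, ∃ b ∈ B, g = a * b)
    (hgen : Subgroup.closure ((A : Set G) ∪ {x}) = ⊤)
    (hmeta : ∀ u ∈ commutator G, ∀ v ∈ commutator G, u * v = v * u) :
    ∀ b₁ ∈ B, ∀ b₂ ∈ B, b₁ * b₂ = b₂ * b₁ := by
  classical
  -- Schreier elements
  set Sch : Set G := {β | β ∈ B ∧ ∃ a ∈ A, ∃ a' ∈ A, x * a = a' * β} with hSch
  set Gen : Set G := ({x} ∪ {z | z ∈ A ∧ z ∈ B}) ∪ Sch with hGen
  set B₀ : Subgroup G := Subgroup.closure Gen with hB₀
  have hGenB : Gen ⊆ (B : Set G) := by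
    intro g hg
    rcases hg with (hg | hg) | hg
    · rw [Set.mem_singleton_iff] at hg; subst hg; exact hx
    · exact hg.2
    · exact hg.1
  have hB₀B : B₀ ≤ B := (Subgroup.closure_le B).2 hGenB
  -- pairwise commuting generators
  have hpair : ∀ g ∈ Gen, ∀ h ∈ Gen, g * h = h * g := by
    have hxall : ∀ h ∈ Gen, x * h = h * x := fun h hh => (hxB h (hGenB hh)).symm
    have hzS : ∀ z, (z ∈ A ∧ z ∈ B) → ∀ β ∈ Sch, z * β = β * z := by
      rintro z ⟨hzA, hzB⟩ β ⟨hβB, a, ha, a', ha', h1⟩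
      have hβ : β = a'⁻¹ * x * a := by rw [mul_assoc, h1]; group
      have e1 : z * a'⁻¹ = a'⁻¹ * z := by
        have := hA z hzA a' ha'
        calc z * a'⁻¹ = a'⁻¹ * (a' * z) * a'⁻¹ := by group
          _ = a'⁻¹ * (z * a') * a'⁻¹ := by rw [this]
          _ = a'⁻¹ * z := by group
      have e2 : z * x = x * z := hxB z hzB
      have e3 : z * a = a * z := hA z hzA a ha
      rw [hβ]
      calc z * (a'⁻¹ * x * a) = (z * a'⁻¹) * x * a := by group
        _ = a'⁻¹ * (z * x) * a := by rw [e1]; group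
        _ = a'⁻¹ * x * (z * a) := by rw [e2]; group
        _ = a'⁻¹ * x * a * z := by rw [e3]; group
    intro g hg h hh
    rcases hg with (hg | hg) | hg
    · rw [Set.mem_singleton_iff] at hg; subst hg; exact hxall h hh
    · rcases hh with (hh | hh) | hh
      · rw [Set.mem_singleton_iff] at hh; subst hh
        exact (hxall g (Or.inl (Or.inr hg))).symm
      · exact hA g hg.1 h hh.1
      · exact hzS g hg h hh
    · rcases hh with (hh | hh) | hh
      · rw [Set.mem_singleton_iff] at hh; subst hh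
        exact (hxall g (Or.inr hg)).symm
      · exact (hzS h hh g hg).symm
      · obtain ⟨hgB, a, ha, a', ha', h1⟩ := hg
        obtain ⟨hhB, c, hc, c', hc', h2⟩ := hh
        exact klc A hA x hmeta ha ha' hc hc' (hxB g hgB) (hxB h hhB) h1 h2
  -- hence `B₀` is commutative
  have hcomm : ∀ g ∈ B₀, ∀ h ∈ B₀, g * h = h * g := by
    have h1 : B₀ ≤ Subgroup.centralizer (Gen : Set G) := by
      rw [hB₀, Subgroup.closure_le]
      intro g hg
      rw [SetLike.mem_coe, Subgroup.mem_centralizer_iff]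
      intro h hh
      exact hpair h hh g hg
    have h2 : B₀ ≤ Subgroup.centralizer (B₀ : Set G) := by
      rw [hB₀, Subgroup.closure_le]
      intro g hg
      rw [SetLike.mem_coe, Subgroup.mem_centralizer_iff]
      intro h hh
      have := h1 hh
      rw [Subgroup.mem_centralizer_iff] at this
      exact (this g hg).symm
    intro g hg h hh
    have := h2 hg
    rw [Subgroup.mem_centralizer_iff] at this
    exact (this h hh).symm
  -- every element is in `A * B₀`
  have hxmem : x ∈ B₀ := Subgroup.subset_closure (Or.inl (Or.inl rfl))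
  have hSchmem : ∀ β ∈ Sch, β ∈ B₀ := fun β hβ => Subgroup.subset_closure (Or.inr hβ)
  have hall : ∀ g : G, ∃ a ∈ A, ∃ b ∈ B₀, g = a * b := by
    intro g
    have hg : g ∈ Subgroup.closure ((A : Set G) ∪ {x}) := by rw [hgen]; trivial
    induction hg using Subgroup.closure_induction_left with
    | one => exact ⟨1, A.one_mem, 1, B₀.one_mem, by simp⟩
    | mul_left s hs y _ ih =>
      obtain ⟨a, ha, b, hb, rfl⟩ := ih
      rcases hs with hs | hs
      · exact ⟨s * a, A.mul_mem hs ha, b, hb, by group⟩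
      · rw [Set.mem_singleton_iff] at hs; subst hs
        obtain ⟨a', ha', β, hβ, h1⟩ := hAB (s * a)
        have hβS : β ∈ Sch := ⟨hβ, a, ha, a', ha', h1⟩
        refine ⟨a', ha', β * b, B₀.mul_mem (hSchmem β hβS) hb, ?_⟩
        rw [← mul_assoc, h1, mul_assoc]
    | inv_mul_cancel s hs y _ ih =>
      obtain ⟨a, ha, b, hb, rfl⟩ := ih
      rcases hs with hs | hs
      · exact ⟨s⁻¹ * a, A.mul_mem (A.inv_mem hs) ha, b, hb, by group⟩
      · rw [Set.mem_singleton_iff] at hs; subst hs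
        obtain ⟨a', ha', β, hβ, h1⟩ := hAB (s⁻¹ * a)
        -- `s * a' = a * β⁻¹`
        have h2 : s * a' = a * β⁻¹ := by
          have : a = s * (a' * β) := by rw [← h1]; group
          rw [this]; group
        have hβS : β⁻¹ ∈ Sch := ⟨B.inv_mem hβ, a', ha', a, ha, h2⟩
        have hβ0 : β ∈ B₀ := by
          have := B₀.inv_mem (hSchmem _ hβS)
          simpa using this
        refine ⟨a', ha', β * b, B₀.mul_mem hβ0 hb, ?_⟩
        rw [← mul_assoc, h1, mul_assoc]
  have hBB₀ : ∀ b ∈ B, b ∈ B₀ := by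
    intro b hb
    obtain ⟨a, ha, b₀, hb₀, rfl⟩ := hall b
    have haB : a ∈ B := by
      have : a = (a * b₀) * b₀⁻¹ := by group
      rw [this]
      exact B.mul_mem hb (B.inv_mem (hB₀B hb₀))
    have : a ∈ B₀ := Subgroup.subset_closure (Or.inl (Or.inr ⟨ha, haB⟩))
    exact B₀.mul_mem this hb₀
  intro b₁ hb₁ b₂ hb₂
  exact hcomm b₁ (hBB₀ b₁ hb₁) b₂ (hBB₀ b₂ hb₂)

/-- PIECE KLG, part 2.  Reduced setting ⇒ `B' ≤ G''`. (apply `klg` to `G ⧸ derivedSeries G 2`) -/
theorem klq {G : Type*} [Group G] (A B : Subgroup G)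
    (hA : ∀ a ∈ A, ∀ c ∈ A, a * c = c * a) (x : G) (hx : x ∈ B)
    (hxB : ∀ b ∈ B, b * x = x * b)
    (hAB : ∀ g : G, ∃ a ∈ A, ∃ b ∈ B, g = a * b)
    (hgen : Subgroup.closure ((A : Set G) ∪ {x}) = ⊤) :
    ⁅B, B⁆ ≤ derivedSeries G 2 := by
  classical
  set N : Subgroup G := derivedSeries G 2 with hN
  have : N.Normal := by rw [hN]; infer_instance
  let f : G →* G ⧸ N := QuotientGroup.mk' N
  have hf : Function.Surjective f := QuotientGroup.mk'_surjective N
  have hA' : ∀ a ∈ A.map f, ∀ c ∈ A.map f, a * c = c * a := by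
    rintro _ ⟨a, ha, rfl⟩ _ ⟨c, hc, rfl⟩
    rw [← map_mul, ← map_mul, hA a ha c hc]
  have hx' : f x ∈ B.map f := Subgroup.mem_map_of_mem f hx
  have hxB' : ∀ b ∈ B.map f, b * f x = f x * b := by
    rintro _ ⟨b, hb, rfl⟩
    rw [← map_mul, ← map_mul, hxB b hb]
  have hAB' : ∀ g : G ⧸ N, ∃ a ∈ A.map f, ∃ b ∈ B.map f, g = a * b := by
    intro q
    obtain ⟨g, rfl⟩ := hf q
    obtain ⟨a, ha, b, hb, rfl⟩ := hAB g
    exact ⟨f a, Subgroup.mem_map_of_mem f ha, f b, Subgroup.mem_map_of_mem f hb, map_mul f a b⟩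
  have hgen' : Subgroup.closure (((A.map f : Subgroup (G ⧸ N)) : Set (G ⧸ N)) ∪ {f x}) = ⊤ := by
    have h1 : (Subgroup.closure ((A : Set G) ∪ {x})).map f = ⊤ := by
      rw [hgen]; exact Subgroup.map_top_of_surjective f hf
    rw [MonoidHom.map_closure, Set.image_union, Set.image_singleton] at h1
    rw [← h1]; rfl
  have hmeta' : ∀ u ∈ commutator (G ⧸ N), ∀ v ∈ commutator (G ⧸ N), u * v = v * u := by
    have h2 : derivedSeries (G ⧸ N) 2 = ⊥ := by
      rw [← map_derivedSeries_eq hf 2]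
      exact QuotientGroup.map_mk'_self N
    intro u hu v hv
    have h3 : ⁅u, v⁆ ∈ derivedSeries (G ⧸ N) 2 := by
      have e : derivedSeries (G ⧸ N) 2 = ⁅commutator (G ⧸ N), commutator (G ⧸ N)⁆ := by
        rw [derivedSeries_succ, derivedSeries_one]
      rw [e]
      exact Subgroup.commutator_mem_commutator hu hv
    rw [h2, Subgroup.mem_bot] at h3
    exact commutatorElement_eq_one_iff_mul_comm.1 h3
  have key := klg (A.map f) (B.map f) hA' (f x) hx' hxB' hAB' hgen' hmeta'
  rw [Subgroup.commutator_le]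
  intro b₁ hb₁ b₂ hb₂
  have h4 := key (f b₁) (Subgroup.mem_map_of_mem f hb₁) (f b₂) (Subgroup.mem_map_of_mem f hb₂)
  have h5 : f ⁅b₁, b₂⁆ = 1 := by
    rw [map_commutatorElement]
    exact commutatorElement_eq_one_iff_mul_comm.2 h4
  exact (QuotientGroup.eq_one_iff _).1 h5

/-- PIECE KLG, part 3.  Reduced setting, `G` solvable, `x ∈ B'` ⇒ `x = 1`. (uses `klq`) -/
theorem red1 {G : Type*} [Group G] [Group.IsSolvable G] (A B : Subgroup G)
    (hA : ∀ a ∈ A, ∀ c ∈ A, a * c = c * a) (x : G) (hx : x ∈ B)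
    (hxB : ∀ b ∈ B, b * x = x * b)
    (hAB : ∀ g : G, ∃ a ∈ A, ∃ b ∈ B, g = a * b)
    (hgen : Subgroup.closure ((A : Set G) ∪ {x}) = ⊤)
    (hxB' : x ∈ ⁅B, B⁆) : x = 1 := by
  classical
  have hx2 : x ∈ derivedSeries G 2 := klq A B hA x hx hxB hAB hgen hxB'
  set N : Subgroup G := Subgroup.normalClosure ({x} : Set G) with hN
  have hN2 : N ≤ derivedSeries G 2 :=
    Subgroup.normalClosure_le_normal (by
      intro y hy
      rw [Set.mem_singleton_iff] at hy; subst hy; exact hx2)
  let f : G →* G ⧸ N := QuotientGroup.mk' N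
  have hf : Function.Surjective f := QuotientGroup.mk'_surjective N
  have hfx : f x = 1 := by
    rw [QuotientGroup.mk'_apply, QuotientGroup.eq_one_iff]
    exact Subgroup.subset_normalClosure (Set.mem_singleton x)
  -- every element of the quotient comes from `A`
  have hQA : ∀ q : G ⧸ N, q ∈ A.map f := by
    intro q
    have h1 : (Subgroup.closure ((A : Set G) ∪ {x})).map f = ⊤ := by
      rw [hgen]; exact Subgroup.map_top_of_surjective f hf
    rw [MonoidHom.map_closure] at h1
    have h2 : Subgroup.closure (f '' ((A : Set G) ∪ {x})) ≤ A.map f := by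
      rw [Subgroup.closure_le]
      rintro _ ⟨y, hy | hy, rfl⟩
      · exact Subgroup.mem_map_of_mem f hy
      · rw [Set.mem_singleton_iff] at hy; subst hy
        rw [SetLike.mem_coe, hfx]; exact Subgroup.one_mem _
    rw [h1] at h2
    exact h2 (Subgroup.mem_top q)
  have h12 : derivedSeries G 1 ≤ N := by
    rw [derivedSeries_one, commutator_def, Subgroup.commutator_le]
    intro g _ h _
    obtain ⟨a, ha, hga⟩ := hQA (f g)
    obtain ⟨c, hc, hhc⟩ := hQA (f h)
    have h5 : f ⁅g, h⁆ = 1 := by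
      rw [map_commutatorElement, ← hga, ← hhc, ← map_commutatorElement]
      rw [commutatorElement_eq_one_iff_mul_comm.2 (hA a ha c hc), map_one]
    exact (QuotientGroup.eq_one_iff _).1 h5
  have h21 : derivedSeries G 2 ≤ derivedSeries G 1 := derivedSeries_antitone G (by norm_num)
  have heq : derivedSeries G 2 = derivedSeries G 1 := le_antisymm h21 (h12.trans hN2)
  have hall : ∀ n : ℕ, derivedSeries G (n + 1) = derivedSeries G 1 := by
    intro n
    induction n with
    | zero => rfl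
    | succ k ih =>
      rw [derivedSeries_succ, ih]
      have e2 : derivedSeries G 2 = ⁅derivedSeries G 1, derivedSeries G 1⁆ := derivedSeries_succ G 1
      rw [← e2, heq]
  obtain ⟨n, hn⟩ := (Group.isSolvable_def G).1 inferInstance
  rcases n with _ | m
  · -- `⊤ = ⊥`
    rw [derivedSeries_zero] at hn
    have : x ∈ (⊤ : Subgroup G) := Subgroup.mem_top x
    rw [hn, Subgroup.mem_bot] at this
    exact this
  · rw [hall m] at hn
    rw [heq, hn, Subgroup.mem_bot] at hx2
    exact hx2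

end Cfsg.Agent.Lib.H24.AN2
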