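import Mathlib
import Cfsg.Agent.S0572
import Cfsg.Agent.S0564
import Cfsg.Agent.Lib.H24.AN2KLG

set_option autoImplicit false

namespace Cfsg.Agent.Lib.H24.AN2

open scoped commutatorElement

/-- class ≤ 2 ⇒ nilpotent -/
theorem red_nilp {H : Type*} [Group H] (h : ∀ a b c : H, ⁅a, b⁆ * c = c * ⁅a, b⁆) :
    Group.IsNilpotent H := by
  refine ⟨⟨2, ?_⟩⟩
  rw [eq_top_iff]
  intro a _
  rw [Subgroup.mem_upperCentralSeries_succ_iff]
  intro b
  rw [Subgroup.upperCentralSeries_one, Subgroup.mem_center_iff]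
  intro c
  have := h a b c
  rw [commutatorElement_def] at this
  exact this.symm

theorem red_ds2_map {G : Type*} [Group G] (M : Subgroup G) :
    (derivedSeries ↥M 2).map M.subtype = ⁅⁅M, M⁆, ⁅M, M⁆⁆ := by
  have ht : (⊤ : Subgroup ↥M).map M.subtype = M := by
    rw [← MonoidHom.range_eq_map, Subgroup.range_subtype]
  rw [derivedSeries_succ, derivedSeries_succ, derivedSeries_zero, Subgroup.map_commutator,
    Subgroup.map_commutator, ht]

theorem red2 {G : Type*} [Group G] [Finite G] (A B : Subgroup G)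
    (hA : ∀ a ∈ A, ∀ c ∈ A, a * c = c * a)
    (hB : ∀ z ∈ ⁅B, B⁆, ∀ b ∈ B, z * b = b * z)
    (hAB : ∀ g : G, ∃ a ∈ A, ∃ b ∈ B, g = a * b)
    (hna : ¬ ∀ b₁ ∈ B, ∀ b₂ ∈ B, b₁ * b₂ = b₂ * b₁) :
    ∃ x ∈ ⁅B, B⁆, x ≠ 1 ∧
      ⁅⁅Subgroup.normalClosure ({x} : Set G), Subgroup.normalClosure ({x} : Set G)⁆,
        ⁅Subgroup.normalClosure ({x} : Set G), Subgroup.normalClosure ({x} : Set G)⁆⁆ = ⊥ := by
  classical
  let P : Subgroup G → Prop := fun M =>
    A ≤ M ∧ ¬ ∀ b₁ ∈ B ⊓ M, ∀ b₂ ∈ B ⊓ M, b₁ * b₂ = b₂ * b₁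
  have hPtop : P ⊤ := by
    refine ⟨le_top, fun h => hna ?_⟩
    intro b₁ hb₁ b₂ hb₂
    exact h b₁ ⟨hb₁, Subgroup.mem_top _⟩ b₂ ⟨hb₂, Subgroup.mem_top _⟩
  obtain ⟨M, ⟨hAM, hMna⟩, hMmin⟩ := exists_minimal_of_wellFoundedLT P ⟨⊤, hPtop⟩
  push Not at hMna
  obtain ⟨b₁, hb₁, b₂, hb₂, hne⟩ := hMna
  have hx1 : ⁅b₁, b₂⁆ ≠ 1 := fun h => hne (commutatorElement_eq_one_iff_commute.1 h).eq
  have hxBB : ⁅b₁, b₂⁆ ∈ ⁅B, B⁆ := Subgroup.commutator_mem_commutator hb₁.1 hb₂.1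
  have hxB : ⁅b₁, b₂⁆ ∈ B := by
    rw [commutatorElement_def]
    exact B.mul_mem (B.mul_mem (B.mul_mem hb₁.1 hb₂.1) (B.inv_mem hb₁.1)) (B.inv_mem hb₂.1)
  have hxM : ⁅b₁, b₂⁆ ∈ M := by
    rw [commutatorElement_def]
    exact M.mul_mem (M.mul_mem (M.mul_mem hb₁.2 hb₂.2) (M.inv_mem hb₁.2)) (M.inv_mem hb₂.2)
  have hxc : ∀ b ∈ B, b * ⁅b₁, b₂⁆ = ⁅b₁, b₂⁆ * b := fun b hb => (hB _ hxBB b hb).symm
  refine ⟨⁅b₁, b₂⁆, hxBB, hx1, ?_⟩
  generalize hxdef : ⁅b₁, b₂⁆ = x at *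
  -- the subgroup M₀
  have key : ∀ (M₀ : Subgroup G), M₀ = Subgroup.closure ((A : Set G) ∪ {x}) →
      ⁅⁅Subgroup.normalClosure ({x} : Set G), Subgroup.normalClosure ({x} : Set G)⁆,
        ⁅Subgroup.normalClosure ({x} : Set G), Subgroup.normalClosure ({x} : Set G)⁆⁆ = ⊥ := by
    intro M₀ hM₀
    have hAM₀ : A ≤ M₀ := by
      rw [hM₀]; exact fun a ha => Subgroup.subset_closure (Or.inl ha)
    have hxM₀ : x ∈ M₀ := by
      rw [hM₀]; exact Subgroup.subset_closure (Or.inr rfl)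
    have hM₀M : M₀ ≤ M := by
      rw [hM₀, Subgroup.closure_le]
      rintro g (hg | hg)
      · exact hAM hg
      · rw [Set.mem_singleton_iff] at hg; subst hg; exact hxM
    -- the ambient group ↥M₀
    let A' : Subgroup ↥M₀ := A.subgroupOf M₀
    let B' : Subgroup ↥M₀ := B.subgroupOf M₀
    have hA' : ∀ a ∈ A', ∀ c ∈ A', a * c = c * a := by
      intro a ha c hc
      exact Subtype.ext (hA a.1 (Subgroup.mem_subgroupOf.1 ha) c.1 (Subgroup.mem_subgroupOf.1 hc))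
    have hAB' : ∀ g : ↥M₀, ∃ a ∈ A', ∃ b ∈ B', g = a * b := by
      intro g
      obtain ⟨a, ha, b, hb, e⟩ := hAB g.1
      have hbM : b ∈ M₀ := by
        have : b = a⁻¹ * g.1 := by rw [e]; group
        rw [this]; exact M₀.mul_mem (M₀.inv_mem (hAM₀ ha)) g.2
      exact ⟨⟨a, hAM₀ ha⟩, Subgroup.mem_subgroupOf.2 ha, ⟨b, hbM⟩, Subgroup.mem_subgroupOf.2 hb,
        Subtype.ext e⟩
    -- Claim: B ⊓ M₀ abelian
    have hab : ∀ c₁ ∈ B ⊓ M₀, ∀ c₂ ∈ B ⊓ M₀, c₁ * c₂ = c₂ * c₁ := by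
      by_contra hcon
      have hMM₀ : M ≤ M₀ := hMmin ⟨hAM₀, hcon⟩ hM₀M
      have hnilA : Group.IsNilpotent ↥A' := by
        apply red_nilp
        intro a b c
        have : ⁅a, b⁆ = 1 := by
          rw [commutatorElement_eq_one_iff_commute]
          exact Subtype.ext (hA' a.1 a.2 b.1 b.2)
        rw [this]; simp
      have hnilB : Group.IsNilpotent ↥B' := by
        apply red_nilp
        intro a b c
        apply Subtype.ext
        apply Subtype.ext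
        have h1 : ((a : ↥M₀) : G) ∈ B := Subgroup.mem_subgroupOf.1 a.2
        have h2 : ((b : ↥M₀) : G) ∈ B := Subgroup.mem_subgroupOf.1 b.2
        have h3 : ((c : ↥M₀) : G) ∈ B := Subgroup.mem_subgroupOf.1 c.2
        have := hB _ (Subgroup.commutator_mem_commutator h1 h2) _ h3
        simpa [commutatorElement_def] using this
      have : Group.IsSolvable ↥M₀ := Cfsg.Agent.S0564.result A' B' hnilA hnilB hAB'
      have hgen' : Subgroup.closure ((A' : Set ↥M₀) ∪ {⟨x, hxM₀⟩}) = ⊤ := by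
        have hset : ((A' : Set ↥M₀) ∪ {⟨x, hxM₀⟩}) =
            ((↑) : ↥M₀ → G) ⁻¹' ((A : Set G) ∪ {x}) := by
          ext g
          simp only [Set.mem_union, SetLike.mem_coe, Set.mem_singleton_iff, Set.mem_preimage]
          constructor
          · rintro (h | h)
            · exact Or.inl (Subgroup.mem_subgroupOf.1 h)
            · exact Or.inr (by rw [h])
          · rintro (h | h)
            · exact Or.inl (Subgroup.mem_subgroupOf.2 h)
            · exact Or.inr (Subtype.ext h)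
        rw [hset]
        subst hM₀
        exact Subgroup.closure_closure_coe_preimage
      have hx' : (⟨x, hxM₀⟩ : ↥M₀) ∈ B' := Subgroup.mem_subgroupOf.2 hxB
      have hxB' : ∀ b ∈ B', b * (⟨x, hxM₀⟩ : ↥M₀) = ⟨x, hxM₀⟩ * b := by
        intro b hb
        exact Subtype.ext (hxc b.1 (Subgroup.mem_subgroupOf.1 hb))
      have hxBB' : (⟨x, hxM₀⟩ : ↥M₀) ∈ ⁅B', B'⁆ := by
        have e : (⟨x, hxM₀⟩ : ↥M₀) = ⁅(⟨b₁, hMM₀ hb₁.2⟩ : ↥M₀), ⟨b₂, hMM₀ hb₂.2⟩⁆ := by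
          apply Subtype.ext
          simp only [commutatorElement_def, Subgroup.coe_mul, Subgroup.coe_inv]
          exact hxdef.symm.trans (commutatorElement_def b₁ b₂)
        rw [e]
        exact Subgroup.commutator_mem_commutator (Subgroup.mem_subgroupOf.2 hb₁.1)
          (Subgroup.mem_subgroupOf.2 hb₂.1)
      have := red1 A' B' hA' ⟨x, hxM₀⟩ hx' hxB' hAB' hgen' hxBB'
      exact hx1 (congrArg Subtype.val this)
    -- M₀ is metabelian
    have hB' : ∀ a ∈ B', ∀ c ∈ B', a * c = c * a := by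
      intro a ha c hc
      exact Subtype.ext (hab a.1 ⟨Subgroup.mem_subgroupOf.1 ha, a.2⟩ c.1
        ⟨Subgroup.mem_subgroupOf.1 hc, c.2⟩)
    have hds : derivedSeries ↥M₀ 2 = ⊥ := Cfsg.Agent.S0572.main A' B' hA' hB' hAB'
    have hM₀2 : ⁅⁅M₀, M₀⁆, ⁅M₀, M₀⁆⁆ = ⊥ := by
      rw [← red_ds2_map, hds, Subgroup.map_bot]
    -- normal closure inside M₀
    have hN : Subgroup.normalClosure ({x} : Set G) ≤ M₀ := by
      rw [Subgroup.normalClosure, Subgroup.closure_le]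
      intro y hy
      rw [Group.mem_conjugatesOfSet_iff] at hy
      obtain ⟨z, hz, hconj⟩ := hy
      rw [Set.mem_singleton_iff] at hz; subst hz
      rw [isConj_iff] at hconj
      obtain ⟨c, rfl⟩ := hconj
      obtain ⟨a, ha, b, hb, rfl⟩ := hAB c
      have e : a * b * z * (a * b)⁻¹ = a * (b * z * b⁻¹) * a⁻¹ := by group
      have e2 : b * z * b⁻¹ = z := by rw [hxc b hb]; group
      rw [SetLike.mem_coe, e, e2]
      exact M₀.mul_mem (M₀.mul_mem (hAM₀ ha) hxM₀) (M₀.inv_mem (hAM₀ ha))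
    rw [eq_bot_iff, ← hM₀2]
    exact Subgroup.commutator_mono (Subgroup.commutator_mono hN hN) (Subgroup.commutator_mono hN hN)
  exact key _ rfl

end Cfsg.Agent.Lib.H24.AN2
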