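import Mathlib
import Cfsg.Agent.Lib.H24.AN2INDa
import Cfsg.Agent.Lib.H24.AN2RED

/-! S0574: assembly (helper24).  `core` (subgroup-level form) and `final` (frozen form). -/

set_option autoImplicit false

namespace Cfsg.Agent.Lib.H24.AN2

theorem core {G : Type*} [Group G] [Finite G] (A B : Subgroup G)
    (hA : ∀ a ∈ A, ∀ c ∈ A, a * c = c * a)
    (hB : ∀ z ∈ ⁅B, B⁆, ∀ b ∈ B, z * b = b * z)
    (hAB : ∀ g : G, ∃ a ∈ A, ∃ b ∈ B, g = a * b) :
    derivedSeries G (2 * (1 + (Nat.card ↥⁅B, B⁆).primeFactorsList.length)) = ⊥ :=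
  core_of (fun _ _ _ A B hA hB hAB hna => red2 A B hA hB hAB hna) A B hA hB hAB

theorem final {G : Type*} [Group G] [Finite G] (A B : Subgroup G) [IsMulCommutative A]
    (hB : commutator ↥B ≤ Subgroup.center ↥B) (hAB : ∀ g : G, ∃ a ∈ A, ∃ b ∈ B, g = a * b) :
    derivedSeries G (2 * (1 + (Nat.card ↥(commutator ↥B)).primeFactorsList.length)) = ⊥ := by
  have hA : ∀ a ∈ A, ∀ c ∈ A, a * c = c * a := by
    intro a ha c hc
    have := (isMulCommutative_iff.1 (inferInstance : IsMulCommutative A)) ⟨a, ha⟩ ⟨c, hc⟩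
    exact congrArg Subtype.val this
  have hmap : (commutator ↥B).map B.subtype = ⁅B, B⁆ := Subgroup.map_subtype_commutator B
  have hB' : ∀ z ∈ ⁅B, B⁆, ∀ b ∈ B, z * b = b * z := by
    intro z hz b hb
    rw [← hmap] at hz
    obtain ⟨z', hz', rfl⟩ := hz
    have h1 := hB hz'
    rw [Subgroup.mem_center_iff] at h1
    have h2 := h1 ⟨b, hb⟩
    exact (congrArg Subtype.val h2).symm
  have hcard : Nat.card ↥(commutator ↥B) = Nat.card ↥⁅B, B⁆ := by
    rw [← hmap]
    exact Nat.card_congr ((commutator ↥B).equivMapOfInjective B.subtype B.subtype_injective).toEquiv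
  rw [hcard]
  exact core A B hA hB' hAB

end Cfsg.Agent.Lib.H24.AN2
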