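import Mathlib
import Cfsg.Prelude.Def_Blocks
import Cfsg.Agent.Lib.H21.AD.Defs
import Cfsg.Agent.Lib.H23.BlockPrincipal

/-!
# S4551 piece (PART1)(a) (helper24)

For a character `χ` in the principal block of `G` and ANY normal subgroup `N` of `G`, the sum of `χ`
over the `p`-regular elements of `N` is nonzero: the sum `z_N` of the `p`-regular elements of `N` is a
central element of the group algebra with integral coefficients, so `ω_χ(z_N) ≡ ω_1(z_N) = R_N`, the
number of `p`-regular elements of `N`, which is prime to `p`.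
-/

set_option autoImplicit false

open Cfsg.Agent.Lib.H21.AD

namespace Cfsg.Agent.Lib.H24.AP

open Cfsg Cfsg.Agent.Lib.H23 MonoidAlgebra

variable {G : Type*} [Group G] [Finite G] {p : ℕ} {M : Ideal AlgInt}

omit [Finite G] in
/-- the number of `p`-regular elements of the subgroup `N`, counted inside `G` -/
theorem card_filter_mem_eq_pRegCard [Fintype G] (N : Subgroup G) [Fintype N] [DecidablePred (· ∈ N)] :
    (Finset.univ.filter (fun g : G => g ∈ N ∧ ¬ p ∣ orderOf g)).card = pRegCard N p := by
  classical
  unfold pRegCard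
  symm
  apply Finset.card_bij (fun (n : N) _ => (n : G))
  · intro n hn
    rw [Finset.mem_filter] at hn ⊢
    refine ⟨Finset.mem_univ _, n.2, ?_⟩
    rw [Subgroup.orderOf_coe]
    exact hn.2
  · intro a _ b _ h
    exact Subtype.ext h
  · intro g hg
    rw [Finset.mem_filter] at hg
    refine ⟨⟨g, hg.2.1⟩, ?_, rfl⟩
    rw [Finset.mem_filter]
    refine ⟨Finset.mem_univ _, ?_⟩
    rw [← Subgroup.orderOf_coe]
    exact hg.2.2

/-- **(PART1)(a)**: a principal-block character has nonzero `p`-regular sum on every normal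
subgroup. -/
theorem sSum_normal_ne_zero (hM : Cfsg.IsPModular p M) (N : Subgroup G) [N.Normal]
    (χ : Cfsg.IrrCharacter G) (hχ : χ ∈ Cfsg.principalBlock M G) :
    sSum p N (χ : G → ℂ) ≠ 0 := by
  classical
  have := Fintype.ofFinite G
  have hP := isPrime_of_isPModular hM
  intro h0
  set z : MonoidAlgebra ℂ G := ofFun (fun g => if g ∈ N ∧ ¬ p ∣ orderOf g then 1 else 0) with hz
  have hcoeff : ∀ g, z.coeff g = if g ∈ N ∧ ¬ p ∣ orderOf g then 1 else 0 := fun g => rfl
  have hzc : z ∈ Subalgebra.center ℂ (MonoidAlgebra ℂ G) := by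
    apply mem_center_of_classFunction
    intro g h
    rw [hcoeff, hcoeff]
    have h1 : orderOf (h * g * h⁻¹) = orderOf g :=
      (orderOf_eq_of_isConj (isConj_iff.2 ⟨h, rfl⟩)).symm
    have h2 : h * g * h⁻¹ ∈ N ↔ g ∈ N := by
      constructor
      · intro hh
        have := (inferInstance : N.Normal).conj_mem _ hh h⁻¹
        simpa [mul_assoc] using this
      · intro hh
        exact (inferInstance : N.Normal).conj_mem _ hh h
    rw [h1, h2]
  have hzi : z ∈ intCoeff (G := G) M := by
    intro g
    rw [hcoeff]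
    split_ifs
    · exact memLocalRing_one hP.ne_top
    · exact memLocalRing_zero hP.ne_top
  have hsame : SameBlock M ((Cfsg.Agent.Lib.H24.trivialIrr G : IrrCharacter G) : G → ℂ)
      (χ : G → ℂ) := hχ
  have hcong := omega_sub_memLocalIdeal hsame hzc hzi
  -- omega of the trivial character
  have h1 : omega ((Cfsg.Agent.Lib.H24.trivialIrr G : IrrCharacter G) : G → ℂ) z
      = (pRegCard N p : ℂ) := by
    rw [← card_filter_mem_eq_pRegCard (p := p) N, Finset.card_filter]
    show charEval (fun _ : G => (1 : ℂ)) z / 1 = _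
    rw [div_one]
    unfold charEval
    push_cast
    refine Finset.sum_congr rfl (fun g _ => ?_)
    rw [hcoeff]
    split_ifs <;> simp
  -- omega of χ
  have h2 : omega (χ : G → ℂ) z = 0 := by
    unfold omega charEval
    have : ∑ g, z.coeff g * (χ : G → ℂ) g = sSum p N (χ : G → ℂ) := by
      unfold sSum
      rw [finsum_eq_sum_of_fintype]
      refine Finset.sum_congr rfl (fun g _ => ?_)
      rw [hcoeff]
      split_ifs <;> simp
    rw [this, h0, zero_div]
  rw [h1, h2, sub_zero] at hcong
  have hdvd : p ∣ pRegCard N p := (natCast_memLocalIdeal_iff hM _).1 hcong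
  exact not_dvd_pRegCard (G := N) hM hdvd

end Cfsg.Agent.Lib.H24.AP
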