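import Mathlib
import Cfsg.Prelude.Def_Characters
import Cfsg.Agent.S0856
import Cfsg.Agent.Lib.H24.CharKernel
import Cfsg.Agent.Lib.H24.CentralMod
import Cfsg.Agent.Lib.L0.CharInd
import Cfsg.Agent.Lib.L0.CharInner

/-!
# S4551, (PART1)(c): Gallagher factorisation over an extendible constituent (helper24)

`gallagher_factor`: `N ⊴ G`, `χ`, `χθ` irreducible characters of `G`, `χθ|_N` irreducible and a
constituent of `χ|_N`.  Then `χ = β * χθ` for an irreducible `β` of `G` which is constant on the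
cosets of `N`.
-/

set_option autoImplicit false

namespace Cfsg.Agent.Lib.H24.AP

open Cfsg Cfsg.Agent.Lib.L0 Cfsg.Agent.Lib.H24
open scoped ComplexConjugate

theorem gallagher_factor {G : Type*} [Group G] [Fintype G] (N : Subgroup G) [hN : N.Normal]
    [Fintype N] (χ χθ : G → ℂ) (hχ : IsIrrCharacter G χ) (hχθ : IsIrrCharacter G χθ)
    (hθ : IsIrrCharacter N (fun n : N => χθ n))
    (hconst : classInner (fun n : N => χ n) (fun n : N => χθ n) ≠ 0) :
    ∃ β : G → ℂ, IsIrrCharacter G β ∧ (∀ g : G, ∀ n ∈ N, β (g * n) = β g) ∧ χ = β * χθ := by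
  classical
  have hχc := isCharacter_of_irr hχ
  have hχθc := isCharacter_of_irr hχθ
  have hcf := isClassFunction_of_isCharacter hχθc
  have h1 : IsIrrCharacter N (fun _ : N => (1 : ℂ)) := Cfsg.Agent.Lib.H24.isIrrCharacter_one
  have hprodeq : ((fun _ : N => (1 : ℂ)) * fun n : N => χθ n) = fun n : N => χθ n := by
    funext n; simp
  have hbij := Cfsg.Agent.S0856.result N (fun _ : N => (1 : ℂ)) (fun n : N => χθ n) h1 hθ
    (fun _ _ => rfl)
    (fun g n => by
      show χθ (g * n * g⁻¹) = χθ n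
      exact hcf n g)
    (by rw [hprodeq]; exact hθ) χθ hχθ (fun _ => rfl)
  have hmem : χ ∈ {ψ : G → ℂ | IsIrrCharacter G ψ ∧
      classInner (indFun N ((fun _ : N => (1 : ℂ)) * fun n : N => χθ n)) ψ ≠ 0} := by
    refine ⟨hχ, ?_⟩
    rw [hprodeq, frobenius_reciprocity N _ _ (isClassFunction_of_isCharacter hχc)]
    intro h0
    apply hconst
    rw [← classInner_conj_symm, h0, map_zero]
  obtain ⟨β, ⟨hβ, hβ1⟩, hβχ⟩ := hbij.surjOn hmem
  refine ⟨β, hβ, ?_, hβχ.symm⟩
  have hβc := isCharacter_of_irr hβ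
  have hβcf := isClassFunction_of_isCharacter hβc
  rw [frobenius_reciprocity N _ _ hβcf] at hβ1
  have hker : ∀ x ∈ N, β x = β 1 := by
    by_contra hcon
    push Not at hcon
    have hs := irr_sum_normal_mul_eq_zero ⟨β, hβ⟩ N hcon 1
    apply hβ1
    simp only [classInner, one_mul]
    rw [← map_sum]
    simp only [one_mul] at hs
    rw [show (∑ x : N, β (x : G)) = 0 from hs, map_zero, mul_zero]
  intro g n hn
  have h2 := char_mul_of_apply_eq_one hβc (hker n hn) g
  have h3 : β (g * n) = β (n * g) := by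
    have := hβcf (n * g) g
    rw [← this]
    congr 1
    group
  rw [h3, h2]

end Cfsg.Agent.Lib.H24.AP
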