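import Mathlib
import Cfsg.Prelude.Def_Blocks
import Cfsg.Agent.Lib.H23.BlockPrincipal

/-!
# S4551 piece (PART1)(d) (helper24)

An irreducible character `β` of `G` that is constant on the cosets of a normal subgroup `N` of index
prime to `p` and satisfies `β(g)/β(1) ≡ 1` modulo the local ideal for every `g` is the principal
character: otherwise `∑_{q ∈ G/N} β(q) = 0`, while the sum is `≡ |G:N| β(1)`.
-/

set_option autoImplicit false

namespace Cfsg.Agent.Lib.H24.AP

open Cfsg Cfsg.Agent.Lib.H23

variable {G : Type*} [Group G] [Finite G] {p : ℕ} {M : Ideal AlgInt}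

/-- **(PART1)(d)** -/
theorem quotient_char_trivial (hM : Cfsg.IsPModular p M) (N : Subgroup G) [N.Normal]
    (hidx : ¬ p ∣ N.index) (β : G → ℂ) (hβ : Cfsg.IsIrrCharacter G β)
    (hker : ∀ g : G, ∀ n ∈ N, β (g * n) = β g)
    (hcong : ∀ g : G, Cfsg.MemLocalIdeal M (β g / β 1 - 1)) :
    β = fun _ => 1 := by
  classical
  have := Fintype.ofFinite G
  have hP := isPrime_of_isPModular hM
  by_contra hne
  -- the sum of β over G vanishes
  have hsum : ∑ g, β g = 0 := sum_irr_eq_zero (⟨β, hβ⟩ : IrrCharacter G) hne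
  -- β is constant on cosets
  have hout : ∀ g : G, β g = β ((QuotientGroup.mk g : G ⧸ N).out) := by
    intro g
    have h1 : (QuotientGroup.mk ((QuotientGroup.mk g : G ⧸ N).out) : G ⧸ N) = QuotientGroup.mk g :=
      Quotient.out_eq' _
    have h2 : ((QuotientGroup.mk g : G ⧸ N).out)⁻¹ * g ∈ N := QuotientGroup.eq.mp h1
    have := hker ((QuotientGroup.mk g : G ⧸ N).out) _ h2
    rw [mul_inv_cancel_left] at this
    exact this
  -- sum over G = |N| * sum over cosets
  have hfib : ∑ g, β g = (Nat.card N : ℂ) * ∑ q : G ⧸ N, β q.out := by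
    have h1 : ∑ g, β g = ∑ q : G ⧸ N, ∑ g ∈ Finset.univ.filter (fun g : G => (QuotientGroup.mk g : G ⧸ N) = q), β g :=
      (Finset.sum_fiberwise Finset.univ (fun g : G => (QuotientGroup.mk g : G ⧸ N)) β).symm
    rw [h1, Finset.mul_sum]
    refine Finset.sum_congr rfl (fun q _ => ?_)
    have h2 : ∀ g ∈ Finset.univ.filter (fun g : G => (QuotientGroup.mk g : G ⧸ N) = q), β g = β q.out := by
      intro g hg
      rw [Finset.mem_filter] at hg
      rw [hout g, hg.2]
    rw [Finset.sum_congr rfl h2, Finset.sum_const, nsmul_eq_mul]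
    congr 1
    -- the fibre has |N| elements
    have hcard : (Finset.univ.filter (fun g : G => (QuotientGroup.mk g : G ⧸ N) = q)).card = Nat.card N := by
      rw [← Nat.card_eq_finsetCard, Nat.card_congr (?_ : _ ≃ N)]
      refine
        { toFun := fun g => ⟨q.out⁻¹ * g.1, ?_⟩
          invFun := fun n => ⟨q.out * n.1, ?_⟩
          left_inv := ?_
          right_inv := ?_ }
      · have hg := g.2
        rw [Finset.mem_filter] at hg
        apply QuotientGroup.eq.mp
        rw [hg.2]
        exact Quotient.out_eq' _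
      · rw [Finset.mem_filter]
        refine ⟨Finset.mem_univ _, ?_⟩
        have : (QuotientGroup.mk (q.out * n.1) : G ⧸ N) = QuotientGroup.mk q.out := by
          apply QuotientGroup.eq.mpr
          simp [mul_assoc, n.2]
        rw [this]
        exact Quotient.out_eq' _
      · intro g
        apply Subtype.ext
        simp
      · intro n
        apply Subtype.ext
        simp
    rw [hcard]
  have hN0 : (Nat.card N : ℂ) ≠ 0 := Nat.cast_ne_zero.2 Nat.card_pos.ne'
  have hq0 : ∑ q : G ⧸ N, β q.out = 0 := by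
    rw [hfib] at hsum
    exact (mul_eq_zero.1 hsum).resolve_left hN0
  -- congruence
  have hβ1 : β 1 ≠ 0 := irr_one_ne_zero' hβ
  have hmem : Cfsg.MemLocalIdeal M (∑ q : G ⧸ N, (β q.out / β 1 - 1)) :=
    memLocalIdeal_sum Finset.univ _ (fun q _ => hcong q.out)
  have heq : ∑ q : G ⧸ N, (β q.out / β 1 - 1) = -(N.index : ℂ) := by
    rw [Finset.sum_sub_distrib, ← Finset.sum_div, hq0, zero_div, zero_sub, Finset.sum_const,
      Finset.card_univ, nsmul_eq_mul, mul_one, Subgroup.index, Nat.card_eq_fintype_card]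
  rw [heq] at hmem
  have h3 := memLocalIdeal_neg hmem
  rw [neg_neg] at h3
  exact hidx ((natCast_memLocalIdeal_iff hM _).1 h3)

end Cfsg.Agent.Lib.H24.AP
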