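/-
EO project phase 2 (helper24), **EO2-T8**: plus type, two orthogonal non-degenerate halves of even dimension: they have the
same type, hence are isometric (any finite index type; exact `Fin n` signature of `tools/blueprints/EO2_sigs.lean` is an instance).
-/
import Cfsg.Agent.Lib.H24.AschEO2T7
import Cfsg.Agent.Lib.H24.OnBasic

set_option autoImplicit false

namespace Cfsg.Agent.Lib.H24.EOP2

open Cfsg Cfsg.Geo Module
open Cfsg.Agent.Lib.H24.Elus
open Cfsg.Agent.Lib.H13.OES
open Cfsg.Agent.Lib.H13.OSS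
open Cfsg.Agent.Lib.H10.OrtNd (PB TS PlusOn PB_apply PB_symm PB_self TS_mono)
open Cfsg.Agent.Lib.H29.Orth

variable {ι : Type} [Fintype ι] [DecidableEq ι] {F : Type*} [Field F] [Fintype F]

/-- non-degenerate subspaces of the same even dimension and the same type are isometric -/
theorem areIsometricFor_of_same_type (Q : (ι → F) → F) (hQ : IsNondegenerateQuadraticForm Q)
    (A A' : Submodule F (ι → F)) (hA : NDon (PB (toQF Q hQ)) A) (hA' : NDon (PB (toQF Q hQ)) A')
    (m : ℕ) (hm : 1 ≤ m) (hd : finrank F A = 2 * m) (hd' : finrank F A' = 2 * m)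
    (h : IsPlusTypeOn Q A ↔ IsPlusTypeOn Q A') : AreIsometricFor Q A A' := by
  have h1 : PlusOn (restrQ (toQF Q hQ) A) ⊤ ↔ PlusOn (restrQ (toQF Q hQ) A') ⊤ := by
    rw [← Cfsg.Agent.Lib.H24.On.PlusOn_iff_restr, ← Cfsg.Agent.Lib.H24.On.PlusOn_iff_restr]
    exact h
  obtain ⟨Φ, hΦ⟩ := iso_of_same_type (restrQ (toQF Q hQ) A) (restrQ (toQF Q hQ) A')
    (nondeg_restrQ _ hA) (nondeg_restrQ _ hA') m hm hd hd' h1
  exact ⟨Φ, fun w => hΦ w⟩

/-- **EO2-T8**, any finite index type -/
theorem isometric_halves_of_plus (Q : (ι → F) → F) (hQ : IsNondegenerateQuadraticForm Q)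
    (hplus : IsPlusTypeOn Q ⊤) (k : ℕ) (hk : Even k) (D : Fin 2 → Submodule F (ι → F))
    (hD : IsNondegenerateMDecomposition (QuadraticMap.polar Q) k D) : AreIsometricFor Q (D 0) (D 1) := by
  classical
  have hnd : ∀ i, NDon (PB (toQF Q hQ)) (D i) := fun i =>
    ndon_of_isNondegenerateOn (toQF Q hQ) (D i) (hD.nondegenerate i)
  have horth : ∀ u ∈ D 0, ∀ v ∈ D 1, PB (toQF Q hQ) u v = 0 := fun u hu v hv =>
    hD.orthogonal 0 1 (by decide) u hu v hv
  have hsup : D 0 ⊔ D 1 = ⊤ := by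
    rw [← hD.decomp.iSup_eq_top]
    apply le_antisymm
    · exact sup_le (le_iSup D 0) (le_iSup D 1)
    · apply iSup_le
      intro i
      fin_cases i
      · exact le_sup_left
      · exact le_sup_right
  have hfr := hD.decomp.finrank_eq
  have hiff := (plus_top_iff (toQF Q hQ) (toQF_nondegenerate Q hQ) (D 0) (D 1) (hnd 0) (hnd 1) horth hsup
    (by rw [hfr]; exact hk) (by rw [hfr]; exact hk)).1 hplus
  obtain ⟨m, hm⟩ := hk
  have hpos := hD.decomp.pos
  exact areIsometricFor_of_same_type Q hQ (D 0) (D 1) (hnd 0) (hnd 1) m (by omega)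
    (by rw [hfr]; omega) (by rw [hfr]; omega) hiff

end Cfsg.Agent.Lib.H24.EOP2
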