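/-
S5673 project (orthogonal odd Aschbacher), module OM7: the abelian case does not occur.  (helper24)
-/
import Cfsg.Agent.Lib.H24.AschOBasic
import Cfsg.Agent.Lib.H3.AschU67

set_option autoImplicit false

namespace Cfsg.Agent.Lib.H24.Asch

open Cfsg Cfsg.Geo Cfsg.Agent.Lib.Lead.Asch
open scoped MatrixGroups Matrix Kronecker

variable {F : Type*} [Field F] [Fintype F] {n : ℕ}

/-- A non-degenerate quadratic form in positive dimension takes a non-zero value. -/
theorem exists_Q_ne_zero {ι : Type} [Fintype ι] [DecidableEq ι] [Nonempty ι] (Q : (ι → F) → F)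
    (hQ : OData Q) : ∃ v, Q v ≠ 0 := by
  by_contra hall
  push_neg at hall
  obtain ⟨i⟩ := ‹Nonempty ι›
  have hv : (Pi.single i 1 : ι → F) ≠ 0 := by
    intro h
    have := congrFun h i
    simp at this
  obtain ⟨⟨x, hx⟩, _⟩ := hQ.quad.nondegenerate _ hv
  apply hx
  unfold QuadraticMap.polar
  rw [hall, hall, hall]
  ring

/-- A scalar isometry in odd dimension with determinant one is the identity. -/
theorem scalar_isometry_eq_one (Q : (Fin n → F) → F) (hQ : OData Q) (hn : 0 < n) (c : GL (Fin n) F)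
    (hc : c ∈ isometryGroup F Q) (hs : c ∈ scalars (Fin n) F)
    (hdet : (c : Matrix (Fin n) (Fin n) F).det = 1) : c = 1 := by
  obtain ⟨u, hu⟩ := (mem_scalars_iff c).1 hs
  haveI : Nonempty (Fin n) := ⟨⟨0, hn⟩⟩
  obtain ⟨v, hv⟩ := exists_Q_ne_zero Q hQ
  have h1 : (u : F) ^ 2 = 1 := by
    have := (mem_isometryGroup_iff Q c).1 hc v
    rw [hu, Matrix.smul_mulVec, Matrix.one_mulVec, hQ.quad.smul] at this
    have h2 : ((u : F) ^ 2 - 1) * Q v = 0 := by rw [sub_mul, this, one_mul, sub_self]
    rcases mul_eq_zero.1 h2 with h | h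
    · exact sub_eq_zero.1 h
    · exact absurd h hv
  have h2 : (u : F) ^ n = 1 := by
    rw [hu, Matrix.det_smul, Matrix.det_one, mul_one, Fintype.card_fin] at hdet
    exact hdet
  have hodd : Odd n := by
    have := hQ.nodd
    rwa [Fintype.card_fin] at this
  obtain ⟨l, hl⟩ := hodd
  have h3 : (u : F) = 1 := by
    rw [hl, pow_succ, pow_mul, h1, one_pow, one_mul] at h2
    exact h2
  apply Units.ext
  rw [hu, h3, one_smul, Units.val_one]

/-- **OM7**: the minimal normal subgroup modulo scalars cannot be abelian modulo scalars. -/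
theorem false_of_abelian_minimal (Q : (Fin n → F) → F) (hQ : OData Q) (hn : 2 ≤ n)
    (H N : Subgroup (GL (Fin n) F)) (hH : H ≤ isometryGroup F Q) (hgood : Good H)
    (hmin : MinimalModScalars H N)
    (hab : ∀ x ∈ N, ∀ y ∈ N, x * y * x⁻¹ * y⁻¹ ∈ scalars (Fin n) F) : False := by
  have habs : ActsAbsolutelyIrreducibly (matrixSet N) :=
    (hgood.star N hmin.le hmin.norm).resolve_left hmin.not_scal
  have hcomm : ∀ x ∈ N, ∀ y ∈ N, x * y = y * x := by
    intro x hx y hy
    have hc : x * y * x⁻¹ * y⁻¹ ∈ isometryGroup F Q :=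
      hH (hmin.le (N.mul_mem (N.mul_mem (N.mul_mem hx hy) (N.inv_mem hx)) (N.inv_mem hy)))
    have hdet : ((x * y * x⁻¹ * y⁻¹ : GL (Fin n) F) : Matrix (Fin n) (Fin n) F).det = 1 := by
      have hx0 : (x : Matrix (Fin n) (Fin n) F).det ≠ 0 := by
        have := (Matrix.GeneralLinearGroup.det x).ne_zero
        simpa using this
      have hy0 : (y : Matrix (Fin n) (Fin n) F).det ≠ 0 := by
        have := (Matrix.GeneralLinearGroup.det y).ne_zero
        simpa using this
      simp only [Units.val_mul, Matrix.det_mul, Matrix.coe_units_inv, Matrix.det_nonsing_inv,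
        Ring.inverse_eq_inv']
      field_simp
    have h1 := scalar_isometry_eq_one Q hQ (by omega) _ hc (hab x hx y hy) hdet
    calc x * y = (x * y * x⁻¹ * y⁻¹) * (y * x) := by group
      _ = y * x := by rw [h1, one_mul]
  have := Cfsg.Agent.Lib.H3.Asch.le_one_of_absIrr_of_comm N habs hcomm
  omega

end Cfsg.Agent.Lib.H24.Asch
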