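/-
S5673 project (orthogonal odd Aschbacher), module OM8.3, part a: the trivial group is not irreducible in
dimension at least two.  (helper24)
-/
import Cfsg.Agent.Lib.Lead.AschDefs2

set_option autoImplicit false

namespace Cfsg.Agent.Lib.H24.Asch

open Cfsg Cfsg.Geo Cfsg.Agent.Lib.Lead.Asch
open scoped MatrixGroups Matrix Kronecker

variable {F : Type*} [Field F]

/-- The trivial group does not act irreducibly in dimension `≥ 2`. -/
theorem not_actsIrreducibly_bot {m : ℕ} (hm : 2 ≤ m) :
    ¬ ActsIrreducibly (matrixSet (⊥ : Subgroup (GL (Fin m) F))) := by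
  intro h
  set e0 : Fin m → F := Pi.single (⟨0, by omega⟩ : Fin m) 1 with he0
  set W : Submodule F (Fin m → F) := Submodule.span F {e0} with hW
  have hinv : ∀ s ∈ matrixSet (⊥ : Subgroup (GL (Fin m) F)), W.map (Matrix.toLin' s) ≤ W := by
    rintro s ⟨g, hg, rfl⟩
    have hg1 : g = 1 := Subgroup.mem_bot.1 hg
    subst hg1
    rintro _ ⟨w, hw, rfl⟩
    rw [Matrix.toLin'_apply]
    show ((1 : GL (Fin m) F) : Matrix (Fin m) (Fin m) F) *ᵥ w ∈ W
    rw [Units.val_one, Matrix.one_mulVec]
    exact hw
  rcases h W hinv with h0 | h1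
  · have : e0 ∈ W := Submodule.subset_span (Set.mem_singleton _)
    rw [h0, Submodule.mem_bot] at this
    have h2 := congrFun this (⟨0, by omega⟩ : Fin m)
    rw [he0, Pi.single_eq_same] at h2
    exact one_ne_zero h2
  · have h3 : Module.finrank F W ≤ 1 := by
      rw [hW]
      exact (finrank_span_le_card ({e0} : Set (Fin m → F))).trans (by simp)
    rw [h1, finrank_top, Module.finrank_fin_fun] at h3
    omega

theorem not_absIrr_bot' {m : ℕ} (hm : 2 ≤ m) :
    ¬ ActsAbsolutelyIrreducibly (matrixSet (⊥ : Subgroup (GL (Fin m) F))) :=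
  fun h => not_actsIrreducibly_bot hm h.1

end Cfsg.Agent.Lib.H24.Asch
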