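/-
S5673 project (orthogonal odd Aschbacher), module OM8.3, piece OM8-F: the polar form in the tensor basis of
`t ≥ 2` components is a scalar multiple of the `t`-th tensor power of ONE symmetric form.
(helper24; bilinear twin of helper16's `exists_tensorPower_form`, Lib/H16/AschUM8Cc.)
-/
import Cfsg.Agent.Lib.H24.AschODefs
import Cfsg.Agent.Lib.H24.AschOBasic
import Cfsg.Agent.Lib.H16.AschUM8Cb
import Cfsg.Agent.Lib.H26.AschUM83B
import Cfsg.Agent.Lib.H20.AschOT4

set_option autoImplicit false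

namespace Cfsg.Agent.Lib.H24.Asch

open Cfsg Cfsg.Geo Cfsg.Agent.Lib.Lead.Asch Cfsg.Agent.Lib.H26.Asch Cfsg.Agent.Lib.H16.Asch
  Cfsg.Agent.Lib.H21.Asch Cfsg.Agent.Lib.H6.Asch Cfsg.Agent.Lib.H20.Asch
open scoped MatrixGroups Matrix Kronecker

variable {F : Type*} [Field F] [Fintype F] {n : ℕ}

/-- **OM8-F**. -/
theorem exists_tensor_power_form_orth (Q : (Fin n → F) → F) (hQ : OData Q) {m t : ℕ} (ht : 0 < t)
    (L : Fin t → Subgroup (GL (Fin n) F)) (hLI : ∀ i, L i ≤ isometryGroup F Q)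
    (habs : ActsAbsolutelyIrreducibly (matrixSet (⨆ i, L i)))
    (e' : Fin n ≃ (Fin t → Fin m)) (Q₀ : GL (Fin n) F) (S : Subgroup (GL (Fin m) F))
    (hS : ActsAbsolutelyIrreducibly (matrixSet S))
    (h1 : ∀ i, ∀ y ∈ L i, ∃ a ∈ S, (y : Matrix (Fin n) (Fin n) F) =
        (Q₀ : Matrix (Fin n) (Fin n) F) *
          Matrix.reindex e'.symm e'.symm
            (posEmb i ((a : GL (Fin m) F) : Matrix (Fin m) (Fin m) F)) *
          ((Q₀⁻¹ : GL (Fin n) F) : Matrix (Fin n) (Fin n) F))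
    (h2 : ∀ i, ∀ a ∈ S, ∃ y ∈ L i, (y : Matrix (Fin n) (Fin n) F) =
        (Q₀ : Matrix (Fin n) (Fin n) F) *
          Matrix.reindex e'.symm e'.symm
            (posEmb i ((a : GL (Fin m) F) : Matrix (Fin m) (Fin m) F)) *
          ((Q₀⁻¹ : GL (Fin n) F) : Matrix (Fin n) (Fin n) F)) :
    ∃ f₁ : (Fin m → F) → (Fin m → F) → F, IsSymmetricForm f₁ ∧
      IsTensorPowerFormStructure id (QuadraticMap.polar Q) f₁ e' Q₀ ∧
      ∀ a ∈ S, ∀ u v : Fin m → F,
        f₁ (((a : GL (Fin m) F) : Matrix (Fin m) (Fin m) F) *ᵥ u)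
          (((a : GL (Fin m) F) : Matrix (Fin m) (Fin m) F) *ᵥ v) = f₁ u v := by
  classical
  set τ : F →+* F := RingHom.id F with hτ
  have h2F : (2 : F) ≠ 0 := two_ne_zero_of_odd hQ.qodd
  have hnodd : Odd n := by
    have := hQ.nodd
    rwa [Fintype.card_fin] at this
  have hn0 : 0 < n := hnodd.pos
  have hcard : n = m ^ t := by
    have := Fintype.card_congr e'
    simpa using this
  have hmodd : Odd m := by
    rw [hcard] at hnodd
    by_contra h
    rw [Nat.not_odd_iff_even] at h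
    exact (Nat.not_odd_iff_even.2 (Nat.even_pow.2 ⟨h, by omega⟩)) hnodd
  set i0 : Fin t := ⟨0, ht⟩ with hi0
  set Rq : Matrix (Fin t → Fin m) (Fin t → Fin m) F ≃ₐ[F] Matrix (Fin n) (Fin n) F :=
    Matrix.reindexAlgEquiv F F e'.symm with hRq
  have hRqT : ∀ X : Matrix (Fin t → Fin m) (Fin t → Fin m) F, (Rq X)ᵀ = Rq Xᵀ := fun X => rfl
  set G₀ : Matrix (Fin n) (Fin n) F := gramMatrix (QuadraticMap.polar Q) with hG₀
  set Qm : Matrix (Fin n) (Fin n) F := (Q₀ : Matrix (Fin n) (Fin n) F) with hQm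
  set Qi : Matrix (Fin n) (Fin n) F := ((Q₀⁻¹ : GL (Fin n) F) : Matrix (Fin n) (Fin n) F) with hQi
  have hQQ : Qi * Qm = 1 := by rw [hQi, hQm, ← Units.val_mul, inv_mul_cancel, Units.val_one]
  have hQQ' : Qm * Qi = 1 := by rw [hQi, hQm, ← Units.val_mul, mul_inv_cancel, Units.val_one]
  set G : Matrix (Fin n) (Fin n) F := Qmᵀ * G₀ * Qm with hG
  have hGdet : IsUnit G.det := by
    rw [hG, Matrix.det_mul, Matrix.det_mul, Matrix.det_transpose]
    have h1 : IsUnit Qm.det := (Matrix.isUnit_iff_isUnit_det _).1 Q₀.isUnit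
    exact (h1.mul (isUnit_iff_ne_zero.2 (gram_det_ne_zero hQ.quad))).mul h1
  have hG0 : G ≠ 0 := by
    intro h0
    rw [h0] at hGdet
    have : Nonempty (Fin n) := ⟨⟨0, hn0⟩⟩
    rw [Matrix.det_zero] at hGdet
    exact not_isUnit_zero hGdet
  -- invariance of `G`
  have hGfix : ∀ i, ∀ a ∈ S,
      (Rq (posEmb i ((a : GL (Fin m) F) : Matrix (Fin m) (Fin m) F)))ᵀ * G *
        (Rq (posEmb i ((a : GL (Fin m) F) : Matrix (Fin m) (Fin m) F))) = G := by
    intro i a ha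
    obtain ⟨y, hy, hyeq⟩ := h2 i a ha
    have hyI := isometry_gram hQ.quad y (hLI i hy)
    set R : Matrix (Fin n) (Fin n) F :=
      Rq (posEmb i ((a : GL (Fin m) F) : Matrix (Fin m) (Fin m) F)) with hR
    have hyeq' : (y : Matrix (Fin n) (Fin n) F) = Qm * R * Qi := hyeq
    rw [hyeq'] at hyI
    -- (Qm R Qi)ᵀ G₀ (Qm R Qi) = G₀
    have h3 : Rᵀ * G * R = Qmᵀ * ((Qm * R * Qi)ᵀ * G₀ * (Qm * R * Qi)) * Qm := by
      rw [hG]
      simp only [Matrix.transpose_mul]
      calc Rᵀ * (Qmᵀ * G₀ * Qm) * R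
          = (Qi * Qm)ᵀ * Rᵀ * Qmᵀ * G₀ * Qm * R * (Qi * Qm) := by
            rw [hQQ]; simp only [Matrix.transpose_one, Matrix.one_mul, Matrix.mul_one, Matrix.mul_assoc]
        _ = Qmᵀ * (Qiᵀ * (Rᵀ * Qmᵀ) * G₀ * (Qm * R * Qi)) * Qm := by
            simp only [Matrix.transpose_mul, Matrix.mul_assoc]
    rw [h3, hyI]
  -- the form in the tensor coordinates
  set M : Matrix (Fin t → Fin m) (Fin t → Fin m) F := Rq.symm G with hM
  have hRqM' : Rq M = G := by rw [hM, AlgEquiv.apply_symm_apply]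
  have hM0 : M ≠ 0 := by
    intro h0
    apply hG0
    rw [← hRqM', h0, map_zero]
  have hMinv : ∀ s ∈ matrixSet S, (posEmb i0 s)ᵀ * M * (posEmb i0 s).map τ = M := by
    rintro _ ⟨a, ha, rfl⟩
    rw [map_id_eq]
    apply Rq.injective
    rw [map_mul, map_mul, ← hRqT, hRqM']
    exact hGfix i0 a ha
  obtain ⟨x, y, hxy⟩ : ∃ x y, M x y ≠ 0 := by
    by_contra hcon
    push Not at hcon
    exact hM0 (Matrix.ext hcon)
  set B₀ : Matrix (Fin m) (Fin m) F := slotBlock i0 x y M with hB₀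
  have hB0 : B₀ ≠ 0 := by
    intro h0
    apply hxy
    have := congrFun (congrFun h0 (x i0)) (y i0)
    rw [hB₀, slotBlock_apply, Function.update_eq_self, Function.update_eq_self] at this
    exact this
  have hBfix : ∀ s ∈ matrixSet S, sᵀ * B₀ * s.map τ = B₀ := fun s hs =>
    slotBlock_invariant τ i0 x y M s (hMinv s hs)
  have hunits : ∀ s ∈ matrixSet S, IsUnit s.det := by
    rintro _ ⟨a, _, rfl⟩
    exact (Matrix.isUnit_iff_isUnit_det _).1 a.isUnit
  have hBdet : IsUnit B₀.det := isUnit_det_of_fix τ (matrixSet S) hS.1 hunits B₀ hB0 hBfix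
  -- symmetry of `B₀`
  have hBTfix : ∀ s ∈ matrixSet S, sᵀ * B₀ᵀ * s.map τ = B₀ᵀ := by
    intro s hs
    have := congrArg Matrix.transpose (hBfix s hs)
    rw [map_id_eq] at this ⊢
    rw [Matrix.transpose_mul, Matrix.transpose_mul, Matrix.transpose_transpose, ← Matrix.mul_assoc] at this
    exact this
  obtain ⟨c₁, hc₁⟩ := core τ (matrixSet S) hS.2 hunits B₀ B₀ᵀ hBdet hBfix hBTfix
  have hc₁sq : c₁ ^ 2 = 1 := by
    have h3 : B₀ = (c₁ ^ 2) • B₀ := by
      have := congrArg Matrix.transpose hc₁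
      rw [Matrix.transpose_transpose, Matrix.transpose_smul, hc₁, smul_smul] at this
      rw [pow_two]
      exact this
    obtain ⟨a, b, hab⟩ : ∃ a b, B₀ a b ≠ 0 := by
      by_contra hcon
      push Not at hcon
      exact hB0 (Matrix.ext hcon)
    have h4 := congrFun (congrFun h3 a) b
    rw [Matrix.smul_apply, smul_eq_mul] at h4
    have h5 : (c₁ ^ 2 - 1) * B₀ a b = 0 := by rw [sub_mul, one_mul, ← h4, sub_self]
    rcases mul_eq_zero.1 h5 with h | h
    · exact sub_eq_zero.1 h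
    · exact absurd h hab
  have hBsymm : B₀ᵀ = B₀ := by
    have h3 : (c₁ - 1) * (c₁ + 1) = 0 := by ring_nf; rw [hc₁sq]; ring
    rcases mul_eq_zero.1 h3 with h | h
    · rw [hc₁, sub_eq_zero.1 h, one_smul]
    · exfalso
      have hc : c₁ = -1 := eq_neg_of_add_eq_zero_left h
      rw [hc] at hc₁
      have := even_of_skew h2F B₀ hc₁ hBdet
      exact (Nat.not_even_iff_odd.2 hmodd) this
  -- the tensor power form
  set T : Matrix (Fin t → Fin m) (Fin t → Fin m) F := pureT (fun _ : Fin t => B₀) with hT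
  let 𝒮 : Set (Matrix (Fin n) (Fin n) F) :=
    {R | ∃ (i : Fin t) (a : GL (Fin m) F), a ∈ S ∧
      R = Rq (posEmb i ((a : GL (Fin m) F) : Matrix (Fin m) (Fin m) F))}
  have hcommutant : ∀ M' : Matrix (Fin n) (Fin n) F, (∀ s ∈ 𝒮, M' * s = s * M') →
      ∃ c : F, M' = c • (1 : Matrix (Fin n) (Fin n) F) := by
    intro M' hM'
    obtain ⟨c, hc'⟩ := habs.2 (Qm * M' * Qi) (by
      rintro _ ⟨g, hg, rfl⟩
      refine commute_of_mem_iSup L (Qm * M' * Qi) ?_ g hg
      intro i y hy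
      obtain ⟨a, ha, hya⟩ := h1 i y hy
      have hya' : (y : Matrix (Fin n) (Fin n) F) =
          Qm * Rq (posEmb i ((a : GL (Fin m) F) : Matrix (Fin m) (Fin m) F)) * Qi := hya
      rw [hya']
      have hcomm := hM' _ ⟨i, a, ha, rfl⟩
      calc Qm * M' * Qi * (Qm * Rq (posEmb i ((a : GL (Fin m) F) : Matrix (Fin m) (Fin m) F)) * Qi)
          = Qm * (M' * ((Qi * Qm) * Rq (posEmb i ((a : GL (Fin m) F) : Matrix (Fin m) (Fin m) F)))) * Qi := by
            simp only [Matrix.mul_assoc]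
        _ = Qm * (Rq (posEmb i ((a : GL (Fin m) F) : Matrix (Fin m) (Fin m) F)) * ((Qi * Qm) * M')) * Qi := by
            rw [hQQ, Matrix.one_mul, Matrix.one_mul, hcomm]
        _ = Qm * Rq (posEmb i ((a : GL (Fin m) F) : Matrix (Fin m) (Fin m) F)) * Qi * (Qm * M' * Qi) := by
            simp only [Matrix.mul_assoc])
    refine ⟨c, ?_⟩
    calc M' = (Qi * Qm) * M' * (Qi * Qm) := by rw [hQQ, Matrix.one_mul, Matrix.mul_one]
      _ = Qi * (Qm * M' * Qi) * Qm := by simp only [Matrix.mul_assoc]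
      _ = c • (1 : Matrix (Fin n) (Fin n) F) := by
          rw [hc', Matrix.mul_smul, Matrix.mul_one, Matrix.smul_mul, hQQ]
  have hunits' : ∀ s ∈ 𝒮, IsUnit s.det := by
    rintro _ ⟨i, a, _, rfl⟩
    have h1 : Rq (posEmb i ((a : GL (Fin m) F) : Matrix (Fin m) (Fin m) F)) *
        Rq (posEmb i (((a⁻¹ : GL (Fin m) F)) : Matrix (Fin m) (Fin m) F)) = 1 := by
      rw [← map_mul, ← posEmb_mul, ← Units.val_mul, mul_inv_cancel, Units.val_one, posEmb_one, map_one]
    exact Matrix.isUnit_det_of_right_inverse h1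
  have hTdet : IsUnit (Rq T).det := by
    have : (Rq T).det = T.det := Matrix.det_reindexAlgEquiv F F e'.symm T
    rw [this]
    exact isUnit_det_pureT B₀ hBdet
  have hfixT : ∀ s ∈ 𝒮, sᵀ * Rq T * s.map τ = Rq T := by
    rintro _ ⟨i, a, ha, rfl⟩
    rw [map_id_eq, hRqT, ← map_mul, ← map_mul]
    congr 1
    have := posEmb_fixes_pureT (t := t) τ i _ B₀ (hBfix _ ⟨a, ha, rfl⟩)
    rw [map_id_eq] at this
    exact this
  have hfixG : ∀ s ∈ 𝒮, sᵀ * G * s.map τ = G := by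
    rintro _ ⟨i, a, ha, rfl⟩
    rw [map_id_eq]
    exact hGfix i a ha
  obtain ⟨c, hcG⟩ := core τ 𝒮 hcommutant hunits' (Rq T) G hTdet hfixT hfixG
  have hc0 : c ≠ 0 := by
    intro h0
    apply hG0
    rw [hcG, h0, zero_smul]
  refine ⟨formOf τ B₀, isSymmetricForm_formOf B₀ hBsymm hBdet, ⟨c, hc0, ?_⟩, ?_⟩
  · intro x y
    rw [polar_eq_gram hQ.quad, dot_mulVec_conj, ← hG₀, ← hQm, ← hG, hcG]
    have hRqapp : ∀ j k, (Rq T) j k = T (e' j) (e' k) := fun j k => rfl
    calc (x ∘ e') ⬝ᵥ ((c • Rq T) *ᵥ (y ∘ e'))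
        = ∑ j, ∑ k, x (e' j) * (c * T (e' j) (e' k)) * y (e' k) := by
          simp only [dotProduct, Matrix.mulVec, Matrix.smul_apply, smul_eq_mul, Function.comp_apply,
            hRqapp, Finset.mul_sum, mul_assoc]
      _ = ∑ a, ∑ b, x a * (c * T a b) * y b := by
          rw [← Equiv.sum_comp e' (fun a => ∑ b, x a * (c * T a b) * y b)]
          refine Finset.sum_congr rfl fun j _ => ?_
          rw [← Equiv.sum_comp e' (fun b => x (e' j) * (c * T (e' j) b) * y b)]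
      _ = c * ∑ a, ∑ b, x a * (∏ i, gramMatrix (formOf τ B₀) (a i) (b i)) * id (y b) := by
          rw [Finset.mul_sum]
          refine Finset.sum_congr rfl fun a _ => ?_
          rw [Finset.mul_sum]
          refine Finset.sum_congr rfl fun b _ => ?_
          rw [Cfsg.Agent.Lib.H16.Asch.gramMatrix_formOf, hT, pureT_apply, id]
          ring
  · intro a ha u v
    have := (rep_formOf τ B₀).apply_mulVec ((a : GL (Fin m) F) : Matrix (Fin m) (Fin m) F) 1
      (by rw [one_smul]; exact hBfix _ ⟨a, ha, rfl⟩) u v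
    rw [one_mul] at this
    exact this

end Cfsg.Agent.Lib.H24.Asch
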