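/-
S5673 project (orthogonal odd Aschbacher), module OM8.3 (assembly): at least two components give class 7.
(helper24; pieces: lead `exists_tensor_data'`, OM8-F `exists_tensor_power_form_orth`, helper2 OM8-X
`eq_bot_of_perfect_orth_three`, `not_absIrr_bot'`.)
-/
import Cfsg.Agent.Lib.H24.AschODefs
import Cfsg.Agent.Lib.H24.AschOBasic
import Cfsg.Agent.Lib.H24.AschOM8F
import Cfsg.Agent.Lib.H24.AschOM83a
import Cfsg.Agent.Lib.H2.AschOM8X
import Cfsg.Agent.Lib.Lead.AschTensorData

set_option autoImplicit false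

namespace Cfsg.Agent.Lib.H24.Asch

open Cfsg Cfsg.Geo Cfsg.Agent.Lib.Lead.Asch Cfsg.Agent.Lib.H26.Asch Cfsg.Agent.Lib.H16.Asch
open scoped MatrixGroups Matrix Kronecker

variable {F : Type*} [Field F] [Fintype F] {n : ℕ}

/-- **OM8.3**: at least two components ⇒ class 7. -/
theorem oc7_of_components (Q : (Fin n → F) → F) (hQ : OData Q) (hn : 3 ≤ n)
    (H : Subgroup (GL (Fin n) F)) (hH : H ≤ isometryGroup F Q) (hgood : Good H)
    (t : ℕ) (L : Fin t → Subgroup (GL (Fin n) F)) (hL : Components H t L)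
    (ht : 2 ≤ t) : OC7 Q H := by
  obtain ⟨m, e', Q₀, S, hm2, hSabs, hSperf, hSdet, h1, h2, hmem, habsL, hnormL⟩ :=
    exists_tensor_data' hn H hgood t L ht hL.le hL.perfect hL.comm hL.perm hL.trans hL.not_scal
  obtain ⟨f₁, hf₁, hstruct, hfix⟩ := exists_tensor_power_form_orth Q hQ (by omega) L
    (fun i => (hL.le i).trans hH) habsL e' Q₀ S hSabs h1 h2
  -- m is odd, so m ≥ 3
  have hcard : n = m ^ t := by
    have := Fintype.card_congr e'
    simpa using this
  have hodd : Odd n := by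
    have := hQ.nodd
    rwa [Fintype.card_fin] at this
  have hm3 : 3 ≤ m := by
    by_contra hlt
    have hm : m = 2 := by omega
    subst hm
    rw [hcard] at hodd
    have : Even (2 ^ t) := (Nat.even_pow.2 ⟨even_two, by omega⟩)
    exact (Nat.not_odd_iff_even.2 this) hodd
  by_cases hq3 : Fintype.card F = 3 ∧ m = 3
  · exfalso
    obtain ⟨hF3, rfl⟩ := hq3
    have hbot := Cfsg.Agent.Lib.H2.Asch.eq_bot_of_perfect_orth_three hF3 S hSperf f₁ hf₁ hfix
    rw [hbot] at hSabs
    exact not_absIrr_bot' (by omega) hSabs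
  · exact ⟨m, t, e', Q₀, f₁, hm3, ht, hq3, hf₁, hstruct, hmem⟩

end Cfsg.Agent.Lib.H24.Asch
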