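/-
S5673 project (orthogonal odd Aschbacher): the assembly, with the two modules OM4 (tensor case) and OM8.3 (at least
two components) as hypotheses.  (helper24)
-/
import Cfsg.Agent.Lib.H24.AschODefs
import Cfsg.Agent.Lib.H24.AschOBasic
import Cfsg.Agent.Lib.H24.AschOM2
import Cfsg.Agent.Lib.H24.AschOM7
import Cfsg.Agent.Lib.H24.AschOStd
import Cfsg.Agent.Lib.H17.AschOM1
import Cfsg.Agent.Lib.H17.AschOX
import Cfsg.Agent.Lib.H4.AschOM3
import Cfsg.Agent.Lib.H21.AschOM82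
import Cfsg.Agent.Lib.H26.AschM8A3
import Cfsg.Agent.Lib.H8.AschM5
import Cfsg.Agent.Lib.H17.AschM1
import Cfsg.Agent.Lib.H17.AschM6

set_option autoImplicit false

namespace Cfsg.Agent.Lib.H24.Asch

open Cfsg Cfsg.Geo Cfsg.Agent.Lib.Lead.Asch
open scoped MatrixGroups Matrix Kronecker

variable {F : Type*} [Field F] [Fintype F] {n : ℕ}

/-- The statement of module OM4 for a given form. -/
def OM4Statement (Q : (Fin n → F) → F) : Prop :=
  ∀ (H N : Subgroup (GL (Fin n) F)), H ≤ isometryGroup F Q → N ≤ H → NormalizedBy H N →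
    ∀ D : HomogData N, ActsAbsolutelyIrreducibly (repSet D.ρ) → 2 ≤ D.d → 2 ≤ D.k →
      OC4 Q H ∨ OC7 Q H ∨ OC2b Q H

/-- The statement of module OM8.3 for a given form. -/
def OM83Statement (Q : (Fin n → F) → F) : Prop :=
  ∀ (H : Subgroup (GL (Fin n) F)), H ≤ isometryGroup F Q → Good H →
    ∀ (t : ℕ) (L : Fin t → Subgroup (GL (Fin n) F)), Cfsg.Agent.Lib.H26.Asch.Components H t L → 2 ≤ t →
      OC7 Q H

theorem good_of_not_otame (Q : (Fin n → F) → F) (hQ : OData Q) (hn : 3 ≤ n) (h4 : OM4Statement Q)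
    (H : Subgroup (GL (Fin n) F)) (hH : H ≤ isometryGroup F Q) (hnt : ¬ OTame Q H) : Good H := by
  have hirr : ActsIrreducibly (matrixSet H) := by
    by_contra h
    exact hnt (Or.inl (Cfsg.Agent.Lib.H17.Asch.otame_of_reducible Q hQ H hH h))
  have hnt2 : ¬ OC2 Q H := fun h => hnt (Or.inr (Or.inl h))
  have hnt5 : ¬ OC5 Q H := fun h => hnt (Or.inr (Or.inr (Or.inr (Or.inr (Or.inl h)))))
  refine ⟨hirr, fun N hNH hnorm => ?_⟩
  obtain ⟨D⟩ := exists_homogData_orth Q hQ (by omega) H N hH hirr hnt2 hnt5 hNH hnorm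
  by_cases habs : ActsAbsolutelyIrreducibly (repSet D.ρ)
  · by_cases hd : D.d ≤ 1
    · exact Or.inl (Cfsg.Agent.Lib.H8.Asch.le_scalars_of_homog_d_le_one N D hd)
    · by_cases hk : D.k ≤ 1
      · exact Or.inr (Cfsg.Agent.Lib.H8.Asch.absIrr_of_homog_k_le_one (by omega) N D habs hk)
      · refine absurd ?_ hnt
        rcases h4 H N hH hNH hnorm D habs (by omega) (by omega) with h | h | h
        · exact Or.inr (Or.inr (Or.inr (Or.inl h)))
        · exact Or.inr (Or.inr (Or.inr (Or.inr (Or.inr h))))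
        · exact Or.inr (Or.inl (Or.inr h))
  · exact absurd (Or.inr (Or.inr (Or.inl
      (Cfsg.Agent.Lib.H4.Asch.oc3_of_homog_not_absIrr Q hQ (by omega) H N hH hNH hnorm D habs)))) hnt

/-- The class-by-class form of S5673 on `Fin n`, for every subgroup of the isometry group. -/
theorem omain_aux (Q : (Fin n → F) → F) (hQ : OData Q) (hn : 3 ≤ n) (h4 : OM4Statement Q)
    (h83 : OM83Statement Q) (H : Subgroup (GL (Fin n) F))
    (hH : H ≤ isometryGroup F Q) : OTame Q H ∨ InOrthogonalResidualClass H := by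
  by_cases hnt : OTame Q H
  · exact Or.inl hnt
  have hgood : Good H := good_of_not_otame Q hQ hn h4 H hH hnt
  have hns : ¬ H ≤ scalars (Fin n) F :=
    Cfsg.Agent.Lib.H17.Asch.not_le_scalars_of_irreducible (by omega) H hgood.irr
  obtain ⟨N, hmin⟩ := Cfsg.Agent.Lib.H17.Asch.exists_minimalModScalars H hns
  by_cases hab : ∀ x ∈ N, ∀ y ∈ N, x * y * x⁻¹ * y⁻¹ ∈ scalars (Fin n) F
  · exact (false_of_abelian_minimal Q hQ (by omega) H N hH hgood hmin hab).elim
  · obtain ⟨t, L, hL⟩ := Cfsg.Agent.Lib.H26.Asch.exists_components H N hmin hab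
    by_cases ht : 2 ≤ t
    · exact Or.inl (Or.inr (Or.inr (Or.inr (Or.inr (Or.inr (h83 H hH hgood t L hL ht))))))
    · have h1 : t = 1 := by have := hL.pos; omega
      subst h1
      rcases Cfsg.Agent.Lib.H21.Asch.ores_of_components_one Q hQ hn H hH hgood L hL with h | h
      · exact Or.inl (Or.inr (Or.inr (Or.inr (Or.inr (Or.inl h)))))
      · exact Or.inr h

/-- S5673 (without `hproper`), modulo OM4 and OM8.3. -/
theorem s5673_aux (hodd : Odd (Fintype.card F)) (m : ℕ) (hm : 3 ≤ m)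
    (h4 : ∀ (n : ℕ) (Q : (Fin n → F) → F), OData Q → 3 ≤ n → OM4Statement Q)
    (h83 : ∀ (n : ℕ) (Q : (Fin n → F) → F), OData Q → 3 ≤ n → OM83Statement Q)
    (H : Subgroup (GL (Unit ⊕ (Fin m ⊕ Fin m)) F)) (hH : H ≤ omegaGL (quadFormOdd m F)) :
    (∃ M : Subgroup (GL (Unit ⊕ (Fin m ⊕ Fin m)) F), InOrthogonalOddClass m F M ∧ H ≤ M) ∨
      InOrthogonalResidualClass H := by
  have hHI : H ≤ isometryGroup F (quadFormOdd m F) := hH.trans (omegaGL_le_isometryGroup _)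
  have hcard : Fintype.card (Unit ⊕ (Fin m ⊕ Fin m)) = 2 * m + 1 := by simp; omega
  let e : (Unit ⊕ (Fin m ⊕ Fin m)) ≃ Fin (2 * m + 1) := Fintype.equivFinOfCardEq hcard
  have hQ := oData_quadFormOdd (F := F) hodd m
  rcases omain_aux (trQ e (quadFormOdd m F)) (hQ.tr e _) (by omega)
      (h4 _ _ (hQ.tr e _) (by omega)) (h83 _ _ (hQ.tr e _) (by omega)) _
      (map_le_isometryGroup e _ H hHI) with h | h
  · left
    apply OTame.tame hHI
    rcases h with h | h | h | h | h | h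
    · exact Or.inl (Cfsg.Agent.Lib.H17.Asch.OC1.of_tr e _ H h)
    · exact Or.inr (Or.inl (Cfsg.Agent.Lib.H17.Asch.OC2.of_tr e _ H h))
    · exact Or.inr (Or.inr (Or.inl (Cfsg.Agent.Lib.H17.Asch.OC3.of_tr e _ H h)))
    · exact Or.inr (Or.inr (Or.inr (Or.inl (Cfsg.Agent.Lib.H17.Asch.OC4.of_tr e _ H h))))
    · exact Or.inr (Or.inr (Or.inr (Or.inr (Or.inl (Cfsg.Agent.Lib.H17.Asch.OC5.of_tr e _ H h)))))
    · exact Or.inr (Or.inr (Or.inr (Or.inr (Or.inr (Cfsg.Agent.Lib.H17.Asch.OC7.of_tr e _ H h)))))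
  · exact Or.inr (Cfsg.Agent.Lib.H17.Asch.InOrthogonalResidualClass.of_tr e H h)

end Cfsg.Agent.Lib.H24.Asch
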