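import Mathlib
import Cfsg.Agent.Lib.H24.B4719Defs
import Cfsg.Agent.S4718
import Cfsg.Agent.Lib.H1.BIB4
import Cfsg.Agent.Lib.H8.BQ8

/-!
# S4719: the induction on `r` (helper24)

* `sr_zero`: `S(0)` is the landed S4718 (no non-principal block at all);
* `sr_succ`: `S(r) ⇒ S(r+1)` from Part I (`partI_bound`) and Theorem Q (`theoremQ`);
* `sr_all`: `S(r)` for all `r`.
-/

set_option autoImplicit false
universe u

namespace Cfsg.Agent.Lib.H24.B4719

open Cfsg
open Cfsg.Agent.Lib.H8.BQ (qBound theoremQ)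

/-- Base case `r = 0`: every block is principal, so this is S4718. -/
theorem sr_zero (a : ℕ) : ∃ N : ℕ, SR.{u} 0 a N := by
  obtain ⟨N, hN⟩ := Cfsg.Agent.S4718.result.{u} 2 a
  refine ⟨N, ?_⟩
  intro G _ _ M P hM hP hB _
  apply hN G M hM
  · have h1 := P.card_eq_multiplicity
    rw [hP] at h1
    exact (Nat.pow_right_injective (le_refl 2) h1).symm
  · intro B hBl
    by_contra hne
    exact absurd (hB B hBl hne) (Nat.not_lt_zero _)

/-- An elementary abelian `2`-group of order at least `4` contains a four-group. -/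
theorem exists_four_le {G : Type*} [Group G] [Finite G] (E : Subgroup G) (k : ℕ)
    (hE : Nat.card E = 2 ^ (k + 2)) : ∃ V : Subgroup G, V ≤ E ∧ Nat.card V = 4 := by
  have hd : 2 ^ 2 ∣ Nat.card E := by
    rw [hE]; exact pow_dvd_pow 2 (by omega)
  obtain ⟨K, hK⟩ := Sylow.exists_subgroup_card_pow_prime 2 hd
  refine ⟨K.map E.subtype, Subgroup.map_subtype_le K, ?_⟩
  rw [Subgroup.card_map_of_injective E.subtype_injective, hK]
  norm_num

/-- Step `S(r) ⇒ S(r+1)`. -/
theorem sr_succ (r : ℕ) (h : ∀ a : ℕ, ∃ N : ℕ, SR.{u} r a N) (a : ℕ) :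
    ∃ N : ℕ, SR.{u} (r + 1) a N := by
  choose Nf hNf using h
  have hS : ∀ a'' : ℕ, a'' < a → SR.{u} r a'' (∑ i ∈ Finset.range a, Nf i) := fun a'' ha'' =>
    (hNf a'').mono (Finset.single_le_sum (f := Nf) (fun _ _ => Nat.zero_le _)
      (Finset.mem_range.2 ha''))
  refine ⟨qBound a (2 * ∑ i ∈ Finset.range a, Nf i), ?_⟩
  intro G _ _ M P hM hP hB hE
  obtain ⟨E, hEP, hEc, hE2, hEcard⟩ := hE
  obtain ⟨V, hVE, hV4⟩ := exists_four_le E r hEcard
  have hfac : (Nat.card (⊤ : Subgroup G)).factorization 2 ≤ a := by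
    rw [Subgroup.card_top]
    have h1 := P.card_eq_multiplicity
    rw [hP] at h1
    exact (Nat.pow_right_injective (le_refl 2) h1).ge
  have hQ := theoremQ (⊤ : Subgroup G) V hV4 (fun v hv => hE2 v (hVE hv)) a
    (2 * ∑ i ∈ Finset.range a, Nf i) hfac ?_
  · rwa [Subgroup.card_top] at hQ
  · intro v hv hv1
    rw [top_inf_eq]
    exact Cfsg.Agent.Lib.H1.BI.partI_bound_SR r a _ hS G M P hM hP hB E hEP hEc hE2 hEcard v (hVE hv) hv1

/-- `S(r)` for all `r`. -/
theorem sr_all (r a : ℕ) : ∃ N : ℕ, SR.{u} r a N := by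
  induction r generalizing a with
  | zero => exact sr_zero a
  | succ r ih => exact sr_succ r ih a

end Cfsg.Agent.Lib.H24.B4719
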