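import Mathlib
import Cfsg.Prelude.Def_Blocks
import Cfsg.Agent.Lib.H23.CentralChar
import Cfsg.Agent.Lib.L0.CharBasic

/-!
# S4484 part (A2) (helper24): Burnside integrality with a coprime part of the class size split off

`χ` irreducible of degree `n`, `|cl(g)| = c * e` with `gcd(c, n) = 1`; then `e * χ(g) / n` is an
algebraic integer (Bezout `u n + v c = 1`: `e χ(g)/n = u e χ(g) + v ω_χ(g)`).
-/

set_option autoImplicit false

namespace Cfsg.Agent.Lib.H24.BR6

variable {G : Type*} [Group G] [Finite G]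

/-- the values of a character are algebraic integers -/
theorem isIntegral_irr_apply (χ : G → ℂ) (hχ : Cfsg.IsIrrCharacter G χ) (g : G) :
    IsIntegral ℤ (χ g) := by
  obtain ⟨n, ρ, hirr, rfl⟩ := hχ
  have := Fintype.ofFinite G
  exact Cfsg.Agent.Lib.L0.isIntegral_char (ρ := ρ) g

/-- **(A2)**, general form. -/
theorem isIntegral_mul_char_div (χ : G → ℂ) (hχ : Cfsg.IsIrrCharacter G χ) (g : G)
    (c e n : ℕ) (hn : χ 1 = (n : ℂ)) (hn0 : n ≠ 0)
    (hK : (Subgroup.centralizer ({g} : Set G)).index = c * e) (hcop : Nat.Coprime c n) :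
    IsIntegral ℤ ((e : ℂ) * χ g / (n : ℂ)) := by
  have hω : IsIntegral ℤ (Cfsg.centralChar χ g) :=
    Cfsg.Agent.Lib.H23.isIntegral_centralChar χ hχ g
  have hχg : IsIntegral ℤ (χ g) := isIntegral_irr_apply χ hχ g
  -- Bezout
  have hb : (c : ℤ) * Nat.gcdA c n + (n : ℤ) * Nat.gcdB c n = 1 := by
    have := Nat.gcd_eq_gcd_ab c n
    rw [hcop.gcd_eq_one] at this
    push_cast at this
    linarith
  set u : ℤ := Nat.gcdB c n with hu
  set v : ℤ := Nat.gcdA c n with hv
  have hnC : (n : ℂ) ≠ 0 := by exact_mod_cast hn0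
  have hbC : (c : ℂ) * (v : ℂ) + (n : ℂ) * (u : ℂ) = 1 := by exact_mod_cast hb
  have key : (e : ℂ) * χ g / (n : ℂ) =
      (u : ℂ) * ((e : ℂ) * χ g) + (v : ℂ) * Cfsg.centralChar χ g := by
    unfold Cfsg.centralChar
    rw [hK, hn]
    push_cast
    field_simp
    linear_combination (-((e : ℂ) * χ g)) * hbC
  rw [key]
  refine IsIntegral.add (IsIntegral.mul ?_ (IsIntegral.mul ?_ hχg)) (IsIntegral.mul ?_ hω)
  · exact isIntegral_algebraMap (R := ℤ) (A := ℂ) (x := u) |> fun h => by simpa using h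
  · exact isIntegral_algebraMap (R := ℤ) (A := ℂ) (x := (e : ℤ)) |> fun h => by simpa using h
  · exact isIntegral_algebraMap (R := ℤ) (A := ℂ) (x := v) |> fun h => by simpa using h

/-- centralizer of a power coprime to the order -/
theorem centralizer_pow_eq (x : G) (j : ℕ) (hj : Nat.Coprime j (orderOf x)) :
    Subgroup.centralizer ({x ^ j} : Set G) = Subgroup.centralizer ({x} : Set G) := by
  have hx : x ∈ Subgroup.zpowers (x ^ j) := by
    have h1 : orderOf (x ^ j) = orderOf x := by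
      exact hj.symm.orderOf_pow
    have h2 : Subgroup.zpowers (x ^ j) ≤ Subgroup.zpowers x :=
      Subgroup.zpowers_le.mpr (Subgroup.pow_mem _ (Subgroup.mem_zpowers x) j)
    have h3 : Nat.card (Subgroup.zpowers (x ^ j)) = Nat.card (Subgroup.zpowers x) := by
      rw [Nat.card_zpowers, Nat.card_zpowers, h1]
    have h4 : Subgroup.zpowers (x ^ j) = Subgroup.zpowers x :=
      Subgroup.eq_of_le_of_card_ge h2 (le_of_eq h3.symm)
    rw [h4]; exact Subgroup.mem_zpowers x
  ext g
  simp only [Subgroup.mem_centralizer_iff, Set.mem_singleton_iff, forall_eq]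
  constructor
  · intro h
    obtain ⟨k, hk⟩ := Subgroup.mem_zpowers_iff.mp hx
    rw [← hk]
    have : Commute (x ^ j) g := h
    exact (this.zpow_left k).eq
  · intro h
    have : Commute x g := h
    exact (this.pow_left j).eq

/-- **(A2)** for the powers of an element of prime order. -/
theorem isIntegral_mul_char_pow_div (χ : G → ℂ) (hχ : Cfsg.IsIrrCharacter G χ) (x : G)
    (p : ℕ) (hp : p.Prime) (hx : orderOf x = p)
    (c e n : ℕ) (hn : χ 1 = (n : ℂ)) (hn0 : n ≠ 0)
    (hK : (Subgroup.centralizer ({x} : Set G)).index = c * e) (hcop : Nat.Coprime c n)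
    (j : ℕ) (hj : ¬ p ∣ j) :
    IsIntegral ℤ ((e : ℂ) * χ (x ^ j) / (n : ℂ)) := by
  apply isIntegral_mul_char_div χ hχ (x ^ j) c e n hn hn0 _ hcop
  rw [centralizer_pow_eq x j, hK]
  rw [hx]
  exact ((Nat.Prime.coprime_iff_not_dvd hp).mpr hj).symm

end Cfsg.Agent.Lib.H24.BR6
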