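import Mathlib
import Cfsg.Prelude.Def_Local
import Cfsg.Prelude.Def_EvenTechniques
import Cfsg.Agent.Lib.H7.PrimPair

/-!
# Bender's uniqueness theorem, one-directional part (i)

`M ⇝ N`, `π = π(F(M))`, `|π| ≥ 2` implies `O_π(F(N)) ≤ M`.  Elementary proof by Thompson's
`A × B` lemma applied to `A = Z(O_p(M))`, `B = Z(O_q(M))` acting on `O_q(N)`.
-/

set_option autoImplicit false
open Cfsg

namespace Cfsg.Agent.Lib.H24.Bender1

open Cfsg.Agent.Lib.H7 Cfsg.Agent.Lib.H7.PrimPair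
open scoped commutatorElement

set_option linter.style.haveILetI false

universe u

variable {G : Type u} [Group G]

/-- `Z(O_s(M))` as a subgroup of `G`. -/
def Zs (s : ℕ) (M : Subgroup G) : Subgroup G :=
  OpG s M ⊓ Subgroup.centralizer (OpG s M : Set G)

theorem Zs_le_OpG (s : ℕ) (M : Subgroup G) : Zs s M ≤ OpG s M := inf_le_left

theorem OpG_le (s : ℕ) (M : Subgroup G) : OpG s M ≤ M := by
  rintro x ⟨y, -, rfl⟩
  exact y.2

theorem Zs_le (s : ℕ) (M : Subgroup G) : Zs s M ≤ M := (Zs_le_OpG s M).trans (OpG_le s M)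

theorem isPGroup_Zs (s : ℕ) [Fact s.Prime] (M : Subgroup G) : IsPGroup s (Zs s M) :=
  (isPGroup_OpG s M).to_le (Zs_le_OpG s M)

/-- An element normalizing `P` normalizes `P ⊓ C_G(P)`. -/
theorem normalizer_le_normalizer_inf_centralizer (P : Subgroup G) :
    Subgroup.normalizer (P : Set G) ≤
      Subgroup.normalizer ((P ⊓ Subgroup.centralizer (P : Set G) : Subgroup G) : Set G) := by
  intro g hg
  have hg2 := normalizer_le_normalizer_centralizer P hg
  rw [Subgroup.mem_normalizer_iff] at hg hg2 ⊢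
  intro x
  rw [Subgroup.mem_inf, Subgroup.mem_inf, hg x, hg2 x]

theorem le_normalizer_Zs (s : ℕ) (M : Subgroup G) :
    M ≤ Subgroup.normalizer ((Zs s M : Subgroup G) : Set G) :=
  (le_normalizer_OpG s M).trans (normalizer_le_normalizer_inf_centralizer _)

/-- The image in `N` of a Sylow subgroup of `F(N)` lies in `O_q(N)`. -/
theorem sylow_fitting_map_le_pCore {N : Type u} [Group N] [Finite N] (q : ℕ) [Fact q.Prime]
    (R : Sylow q ↥(fittingSubgroup N)) :
    (R : Subgroup ↥(fittingSubgroup N)).map (fittingSubgroup N).subtype ≤ pCore q N := by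
  haveI : Group.IsNilpotent ↥(fittingSubgroup N) := Cfsg.Agent.Lib.H1.fittingSubgroup_isNilpotent
  haveI hFn : (fittingSubgroup N).Normal := Cfsg.Agent.Lib.H1.fittingSubgroup_normal N
  have hRn : (R : Subgroup ↥(fittingSubgroup N)).Normal :=
    Sylow.normal_of_normalizerCondition Group.normalizerCondition_of_isNilpotent R
  haveI hRc : (R : Subgroup ↥(fittingSubgroup N)).Characteristic :=
    Sylow.characteristic_of_normal R hRn
  have hn : ((R : Subgroup ↥(fittingSubgroup N)).map (fittingSubgroup N).subtype).Normal :=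
    ConjAct.normal_of_characteristic_of_normal
  exact Cfsg.Agent.Lib.H1.le_pCore hn (R.2.map _)

/-- `O_s(M) ≠ 1` when `s` divides `|F(M)|`. -/
theorem pCore_ne_bot_of_dvd {N : Type u} [Group N] [Finite N] (s : ℕ) [hs : Fact s.Prime]
    (h : s ∣ Nat.card ↥(fittingSubgroup N)) : pCore s N ≠ ⊥ := by
  intro hbot
  obtain ⟨x, hx⟩ := exists_prime_orderOf_dvd_card' s h
  obtain ⟨R, hR⟩ := (IsPGroup.of_card (p := s) (n := 1)
    (by rw [Nat.card_zpowers, hx, pow_one] : Nat.card (Subgroup.zpowers x) = s ^ 1)).exists_le_sylow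
  have hxR : x ∈ (R : Subgroup ↥(fittingSubgroup N)) := hR (Subgroup.mem_zpowers x)
  have h1 : ((x : ↥(fittingSubgroup N)) : N) ∈ pCore s N :=
    sylow_fitting_map_le_pCore s R ⟨x, hxR, rfl⟩
  rw [hbot, Subgroup.mem_bot] at h1
  have hx1 : x = 1 := Subtype.ext h1
  rw [hx1, orderOf_one] at hx
  exact hs.out.one_lt.ne hx

theorem Zs_ne_bot [Finite G] (s : ℕ) [hs : Fact s.Prime] (M : Subgroup G)
    (h : s ∣ Nat.card ↥(fittingSubgroup ↥M)) : Zs s M ≠ ⊥ := by
  have hne : pCore s ↥M ≠ ⊥ := pCore_ne_bot_of_dvd s h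
  haveI : Nontrivial ↥(pCore s ↥M) := (Subgroup.nontrivial_iff_ne_bot _).2 hne
  haveI := (Cfsg.Agent.Lib.H1.pCore_isPGroup s ↥M).center_nontrivial
  obtain ⟨z, hz⟩ := exists_ne (1 : ↥(Subgroup.center ↥(pCore s ↥M)))
  intro hbot
  have hzmem : (((z : ↥(pCore s ↥M)) : ↥M) : G) ∈ Zs s M := by
    refine Subgroup.mem_inf.2 ⟨⟨_, (z : ↥(pCore s ↥M)).2, rfl⟩, ?_⟩
    rw [Subgroup.mem_centralizer_iff]
    rintro _ ⟨y, hy, rfl⟩
    have := Subgroup.mem_center_iff.1 z.2 ⟨y, hy⟩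
    have h2 := congrArg (fun t : ↥(pCore s ↥M) => ((t : ↥M) : G)) this
    simpa using h2
  rw [hbot, Subgroup.mem_bot] at hzmem
  apply hz
  apply Subtype.ext
  apply Subtype.ext
  apply Subtype.ext
  simpa using hzmem

/-- `F(M)` as a subgroup of `G`. -/
abbrev FitG (M : Subgroup G) : Subgroup G := (fittingSubgroup ↥M).map M.subtype

theorem FitG_eq [Finite G] (M : Subgroup G) : FitG M = ⨆ q : Nat.Primes, OpG (q : ℕ) M := by
  show (fittingSubgroup ↥M).map M.subtype = _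
  rw [Cfsg.Agent.Lib.H1.fittingSubgroup_eq_iSup_pCore, Subgroup.map_iSup]

theorem OpG_commute {p q : ℕ} [Fact p.Prime] [Fact q.Prime] (hpq : p ≠ q) (M : Subgroup G) :
    OpG p M ≤ Subgroup.centralizer (OpG q M : Set G) := by
  rintro _ ⟨x, hx, rfl⟩
  rw [Subgroup.mem_centralizer_iff]
  rintro _ ⟨y, hy, rfl⟩
  have := Cfsg.Agent.Lib.H1.pCore_commute hpq x y hx hy
  have h2 := congrArg (fun t : ↥M => (t : G)) this.eq
  simpa using h2.symm

theorem Zs_le_centralizer_FitG [Finite G] (s : ℕ) [Fact s.Prime] (M : Subgroup G) :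
    Zs s M ≤ Subgroup.centralizer (FitG M : Set G) := by
  rw [Subgroup.le_centralizer_iff, FitG_eq]
  apply iSup_le
  intro q
  haveI : Fact ((q : Nat.Primes) : ℕ).Prime := ⟨q.2⟩
  by_cases hqs : (q : ℕ) = s
  · rw [hqs]
    rw [← Subgroup.le_centralizer_iff]
    exact inf_le_right
  · exact (OpG_commute hqs M).trans (Subgroup.centralizer_le (Zs_le_OpG s M))

theorem Zs_commute [Finite G] (p q : ℕ) [Fact p.Prime] [Fact q.Prime] (M : Subgroup G) :
    ⁅Zs p M, Zs q M⁆ = ⊥ := by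
  rw [Subgroup.commutator_eq_bot_iff_le_centralizer]
  refine (Zs_le_centralizer_FitG p M).trans (Subgroup.centralizer_le ?_)
  refine (Zs_le_OpG q M).trans ?_
  rw [FitG_eq]
  exact le_iSup (fun r : Nat.Primes => OpG (r : ℕ) M) ⟨q, Fact.out⟩

/-- `M ⇝ N` gives `Z(O_s(M)) ≤ N`. -/
theorem Zs_le_of_leadsTo [Finite G] (s : ℕ) [Fact s.Prime] {M N : Subgroup G}
    (hMN : leadsTo M N) : Zs s M ≤ N := by
  obtain ⟨Q, -, hQF, hQN⟩ := hMN
  refine le_trans (le_inf ((Zs_le_OpG s M).trans (OpG_le_FsG s M)) ?_) hQN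
  refine (Zs_le_centralizer_FitG s M).trans ((Subgroup.centralizer_le hQF).trans ?_)
  exact Subgroup.centralizer_le_normalizer _

/-- In a simple group, the normalizer of a nontrivial subgroup `A ≤ M` normalized by the maximal
subgroup `M` is `M`. -/
theorem normalizer_eq_of_isCoatom [IsSimpleGroup G] {M A : Subgroup G} (hM : IsCoatom M)
    (hA : A ≠ ⊥) (hAM : A ≤ M) (hMA : M ≤ Subgroup.normalizer (A : Set G)) :
    Subgroup.normalizer (A : Set G) = M := by
  rcases hM.le_iff.1 hMA with h | h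
  · exfalso
    have hn : A.Normal := Subgroup.normalizer_eq_top_iff.1 h
    have hAt : A = ⊤ := (hn.eq_bot_or_eq_top).resolve_left hA
    apply hM.1
    rw [eq_top_iff, ← hAt]
    exact hAM
  · exact h

theorem normalizer_Zs_eq [Finite G] [IsSimpleGroup G] (s : ℕ) [Fact s.Prime] {M : Subgroup G}
    (hM : IsCoatom M) (h : s ∣ Nat.card ↥(fittingSubgroup ↥M)) :
    Subgroup.normalizer ((Zs s M : Subgroup G) : Set G) = M :=
  normalizer_eq_of_isCoatom hM (Zs_ne_bot s M h) (Zs_le s M) (le_normalizer_Zs s M)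

/-- Core of part (i): `O_q(N) ≤ M`. -/
theorem OpG_le_of_leadsTo [Finite G] [IsSimpleGroup G] {M N : Subgroup G} (hM : IsCoatom M)
    (hMN : leadsTo M N) {p q : ℕ} [hp : Fact p.Prime] [hq : Fact q.Prime] (hpq : p ≠ q)
    (hpF : p ∣ Nat.card ↥(fittingSubgroup ↥M)) (hqF : q ∣ Nat.card ↥(fittingSubgroup ↥M)) :
    OpG q N ≤ M := by
  have hNp := normalizer_Zs_eq p hM hpF
  have hNq := normalizer_Zs_eq q hM hqF
  have hZpN : Zs p M ≤ N := Zs_le_of_leadsTo p hMN
  have hZqN : Zs q M ≤ N := Zs_le_of_leadsTo q hMN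
  have hcop : (Nat.card (Zs p M)).Coprime q := by
    obtain ⟨k, hk⟩ := IsPGroup.iff_card.1 (isPGroup_Zs p M)
    rw [hk]
    exact Nat.Coprime.pow_left _ ((Nat.coprime_primes hp.out hq.out).2 hpq)
  have hdisj : Zs p M ⊓ OpG q N = ⊥ := by
    have := IsPGroup.disjoint_of_ne p q hpq _ _ (isPGroup_Zs p M) (isPGroup_OpG q N)
    exact disjoint_iff.1 this
  have key : ⁅Zs p M, OpG q N⁆ = ⊥ := by
    apply thompson_AxB' q (isPGroup_OpG q N) (isPGroup_Zs q M) hcop (Zs_commute p q M)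
      (hZpN.trans (le_normalizer_OpG q N)) (hZqN.trans (le_normalizer_OpG q N))
    -- `[Z_p, O_q(N) ∩ C(Z_q)] = 1`
    have hX : OpG q N ⊓ Subgroup.centralizer (Zs q M : Set G) ≤ OpG q N ⊓ M := by
      refine inf_le_inf_left _ ?_
      exact (Subgroup.centralizer_le_normalizer _).trans hNq.le
    rw [eq_bot_iff]
    refine (Subgroup.commutator_mono le_rfl hX).trans ?_
    rw [← hdisj]
    apply le_inf
    · -- `[Z_p, X] ≤ Z_p` since `X ≤ M` normalizes `Z_p`
      rw [Subgroup.commutator_le]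
      intro a ha b hb
      have hbM : b ∈ Subgroup.normalizer ((Zs p M : Subgroup G) : Set G) :=
        le_normalizer_Zs p M (Subgroup.mem_inf.1 hb).2
      have h1 : b * a⁻¹ * b⁻¹ ∈ Zs p M :=
        (Subgroup.mem_normalizer_iff.1 hbM a⁻¹).1 ((Zs p M).inv_mem ha)
      have : ⁅a, b⁆ = a * (b * a⁻¹ * b⁻¹) := by
        rw [commutatorElement_def]; group
      rw [this]
      exact (Zs p M).mul_mem ha h1
    · -- `[Z_p, X] ≤ O_q(N)` since `Z_p ≤ N` normalizes `O_q(N)`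
      rw [Subgroup.commutator_le]
      intro a ha b hb
      have haN : a ∈ Subgroup.normalizer ((OpG q N : Subgroup G) : Set G) :=
        le_normalizer_OpG q N (hZpN ha)
      have hb' : b ∈ OpG q N := (Subgroup.mem_inf.1 hb).1
      have h1 : a * b * a⁻¹ ∈ OpG q N := (Subgroup.mem_normalizer_iff.1 haN b).1 hb'
      have : ⁅a, b⁆ = (a * b * a⁻¹) * b⁻¹ := by
        rw [commutatorElement_def]
      rw [this]
      exact (OpG q N).mul_mem h1 ((OpG q N).inv_mem hb')
  have h1 : OpG q N ≤ Subgroup.centralizer (Zs p M : Set G) := by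
    rw [Subgroup.commutator_comm] at key
    exact Subgroup.commutator_eq_bot_iff_le_centralizer.1 key
  calc OpG q N ≤ Subgroup.centralizer (Zs p M : Set G) := h1
    _ ≤ Subgroup.normalizer ((Zs p M : Subgroup G) : Set G) := Subgroup.centralizer_le_normalizer _
    _ = M := hNp

/-- **Bender's uniqueness theorem, part (i)** in the shape of the first conjunct of `S1856`. -/
theorem part_i [Finite G] [IsSimpleGroup G] (M N : Subgroup G) (hM : IsCoatom M)
    (hMN : Cfsg.leadsTo M N) :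
    (∃ q₁ q₂ : ℕ, q₁.Prime ∧ q₂.Prime ∧ q₁ ≠ q₂ ∧ q₁ ∣ Nat.card ↥(Cfsg.fittingSubgroup ↥M) ∧
        q₂ ∣ Nat.card ↥(Cfsg.fittingSubgroup ↥M)) →
      ∀ q : ℕ, q.Prime → q ∣ Nat.card ↥(Cfsg.fittingSubgroup ↥M) →
        ∀ R : Sylow q ↥(Cfsg.fittingSubgroup ↥N),
          ((R : Subgroup ↥(Cfsg.fittingSubgroup ↥N)).map (Cfsg.fittingSubgroup ↥N).subtype).map
            N.subtype ≤ M := by
  rintro ⟨q₁, q₂, h1, h2, hne, hd1, hd2⟩ q hq hqd R
  haveI : Fact q.Prime := ⟨hq⟩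
  have hR : ((R : Subgroup ↥(Cfsg.fittingSubgroup ↥N)).map (Cfsg.fittingSubgroup ↥N).subtype).map
      N.subtype ≤ OpG q N := Subgroup.map_mono (sylow_fitting_map_le_pCore q R)
  refine hR.trans ?_
  by_cases hq1 : q₁ = q
  · haveI : Fact q₂.Prime := ⟨h2⟩
    exact OpG_le_of_leadsTo hM hMN (p := q₂) (q := q) (fun h => hne (hq1.trans h.symm)) hd2 hqd
  · haveI : Fact q₁.Prime := ⟨h1⟩
    exact OpG_le_of_leadsTo hM hMN (p := q₁) (q := q) hq1 hd1 hqd

end Cfsg.Agent.Lib.H24.Bender1
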