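import Mathlib
import Cfsg.Agent.Lib.H24.BergerA
import Cfsg.Agent.Lib.H23.BergerLemma
import Cfsg.Agent.Lib.H23.ElemSpan

/-!
# The fibre product step in the proof of Berger's theorem (helper24)

`X = K₀ U`, `K₀ ∩ U = B`, `B` normal; `β` a character of `U` on which `B` acts through the
`X`-invariant linear character `lam`; `π` a character of `X`.  If `(β π_U)^X` is irreducible then,
on the fibre product `Y = X ×_{X/K₀} U`, its inflation factors as `(lam')^Y · (β ∘ snd)(π ∘ fst)`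
with `lam'` a linear character of the preimage of `U`; Isaacs' Lemma 11.32 and Clifford theory then
show that the inflation is induced from a proper subgroup containing a normal subgroup strictly
larger than the preimage of `B`.
-/

set_option autoImplicit false

namespace Cfsg.Agent.Lib.H24.Berger

open Cfsg Cfsg.Agent.Lib.L0 Cfsg.Agent.Lib.H23
open scoped ComplexConjugate

universe u

section FP

variable {X : Type u} [Group X] (U K₀ : Subgroup X) [hK : K₀.Normal]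

/-- The fibre product `{(x, u) : x u⁻¹ ∈ K₀}` of `X` and `U` over `X / K₀`. -/
def fiberProd : Subgroup (X × U) where
  carrier := {p | p.1 * ((p.2 : U) : X)⁻¹ ∈ K₀}
  one_mem' := by
    show (1 : X × U).1 * (((1 : X × U).2 : U) : X)⁻¹ ∈ K₀
    simp
  mul_mem' := by
    rintro ⟨p₁, p₂⟩ ⟨q₁, q₂⟩ hp hq
    show p₁ * q₁ * ((p₂ * q₂ : U) : X)⁻¹ ∈ K₀
    have hp' : p₁ * (p₂ : X)⁻¹ ∈ K₀ := hp
    have hq' : q₁ * (q₂ : X)⁻¹ ∈ K₀ := hq
    have h1 := K₀.mul_mem hp' (hK.conj_mem _ hq' (p₂ : X))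
    have h2 : p₁ * (p₂ : X)⁻¹ * ((p₂ : X) * (q₁ * (q₂ : X)⁻¹) * (p₂ : X)⁻¹) =
        p₁ * q₁ * ((p₂ * q₂ : U) : X)⁻¹ := by
      rw [Subgroup.coe_mul]
      group
    rw [h2] at h1
    exact h1
  inv_mem' := by
    rintro ⟨p₁, p₂⟩ hp
    show p₁⁻¹ * ((p₂⁻¹ : U) : X)⁻¹ ∈ K₀
    have hp' : p₁ * (p₂ : X)⁻¹ ∈ K₀ := hp
    have h1 := hK.conj_mem _ (K₀.inv_mem hp') (p₂ : X)⁻¹
    have h2 : (p₂ : X)⁻¹ * (p₁ * (p₂ : X)⁻¹)⁻¹ * (p₂ : X)⁻¹⁻¹ = p₁⁻¹ * ((p₂⁻¹ : U) : X)⁻¹ := by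
      rw [Subgroup.coe_inv]
      group
    rw [h2] at h1
    exact h1

theorem mem_fiberProd (p : X × U) : p ∈ fiberProd U K₀ ↔ p.1 * ((p.2 : U) : X)⁻¹ ∈ K₀ := Iff.rfl

/-- First projection. -/
def fpFst : fiberProd U K₀ →* X := (MonoidHom.fst X U).comp (fiberProd U K₀).subtype

/-- Second projection. -/
def fpSnd : fiberProd U K₀ →* U := (MonoidHom.snd X U).comp (fiberProd U K₀).subtype

theorem fpFst_apply (p : fiberProd U K₀) : fpFst U K₀ p = p.1.1 := rfl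

theorem fpSnd_apply (p : fiberProd U K₀) : fpSnd U K₀ p = p.1.2 := rfl

theorem fpFst_surjective (hsup : K₀ ⊔ U = ⊤) : Function.Surjective (fpFst U K₀) := by
  intro x
  have hx : x ∈ ((K₀ ⊔ U : Subgroup X) : Set X) := by rw [hsup]; trivial
  rw [Subgroup.normal_mul] at hx
  obtain ⟨k, hk, u, hu, rfl⟩ := Set.mem_mul.mp hx
  refine ⟨⟨(k * u, ⟨u, hu⟩), ?_⟩, rfl⟩
  show k * u * u⁻¹ ∈ K₀
  rw [mul_inv_cancel_right]
  exact hk

variable (B : Subgroup X) [hB : B.Normal] (hinf : ∀ x, x ∈ K₀ → x ∈ U → x ∈ B)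

/-- The `B`-component `x u⁻¹` of an element `(x, u)` of the preimage of `U`. -/
def fpB (p : U.comap (fpFst U K₀)) : B :=
  ⟨p.1.1.1 * ((p.1.1.2 : U) : X)⁻¹, hinf _ p.1.2 (U.mul_mem p.2 (U.inv_mem p.1.1.2.2))⟩

omit hB in
theorem fpB_coe (p : U.comap (fpFst U K₀)) :
    ((fpB U K₀ B hinf p : B) : X) = p.1.1.1 * ((p.1.1.2 : U) : X)⁻¹ := rfl

variable (lam : B →* ℂˣ)
  (hlam : ∀ (x : X) (b : B), lam ⟨x * b * x⁻¹, hB.conj_mem b b.2 x⟩ = lam b)

/-- The linear character `(x, u) ↦ lam (x u⁻¹)` of the preimage of `U`. -/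
def lamH : U.comap (fpFst U K₀) →* ℂˣ where
  toFun p := lam (fpB U K₀ B hinf p)
  map_one' := by
    have : fpB U K₀ B hinf 1 = 1 := by
      apply Subtype.ext
      rw [fpB_coe]
      simp
    rw [this, map_one]
  map_mul' := by
    intro p q
    have h1 : fpB U K₀ B hinf (p * q) =
        ⟨p.1.1.1 * (fpB U K₀ B hinf q : B) * p.1.1.1⁻¹,
          hB.conj_mem _ (fpB U K₀ B hinf q).2 p.1.1.1⟩ * fpB U K₀ B hinf p := by
      apply Subtype.ext
      show (p.1.1.1 * q.1.1.1) * (((p.1.1.2 : U) : X) * ((q.1.1.2 : U) : X))⁻¹ =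
        p.1.1.1 * (q.1.1.1 * ((q.1.1.2 : U) : X)⁻¹) * p.1.1.1⁻¹ *
          (p.1.1.1 * ((p.1.1.2 : U) : X)⁻¹)
      group
    rw [h1, map_mul, hlam, mul_comm]

theorem lamH_apply (p : U.comap (fpFst U K₀)) :
    lamH U K₀ B hinf lam hlam p = lam (fpB U K₀ B hinf p) := rfl

end FP

section Solv

variable {X Y : Type*} [Group X] [Group Y]

theorem isSolvable_quotient_comap (f : Y →* X) (B : Subgroup X) [B.Normal]
    (hsolv : Group.IsSolvable (X ⧸ B)) : Group.IsSolvable (Y ⧸ B.comap f) := by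
  set g : Y ⧸ B.comap f →* X ⧸ B := QuotientGroup.map (B.comap f) B f le_rfl with hg
  have hinj : Function.Injective g := by
    rw [injective_iff_map_eq_one]
    intro q
    induction q using QuotientGroup.induction_on with
    | H y =>
      intro h
      rw [hg, QuotientGroup.map_mk, QuotientGroup.eq_one_iff] at h
      rw [QuotientGroup.eq_one_iff]
      exact h
  exact solvable_of_solvable_injective hinj

theorem isSolvable_quotient_of_le (N M : Subgroup Y) [N.Normal] [M.Normal] (h : N ≤ M)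
    (hsolv : Group.IsSolvable (Y ⧸ N)) : Group.IsSolvable (Y ⧸ M) := by
  set g : Y ⧸ N →* Y ⧸ M := QuotientGroup.map N M (MonoidHom.id Y) h with hg
  have hsurj : Function.Surjective g := by
    intro q
    induction q using QuotientGroup.induction_on with
    | H y => exact ⟨(y : Y ⧸ N), rfl⟩
  exact solvable_of_surjective hsurj

end Solv

section Step

variable {X : Type u} [Group X] [Fintype X] (U K₀ B : Subgroup X) [hK : K₀.Normal]
  [hB : B.Normal] (hBU : B ≤ U) (hBK : B ≤ K₀) (hinf : ∀ x, x ∈ K₀ → x ∈ U → x ∈ B)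
  (lam : B →* ℂˣ)
  (hlam : ∀ (x : X) (b : B), lam ⟨x * b * x⁻¹, hB.conj_mem b b.2 x⟩ = lam b)

include hBK in
/-- On the preimage of `B` the induced character is a multiple of the linear character. -/
theorem indFun_lamH_coe [Fintype (fiberProd U K₀)] (x : fiberProd U K₀)
    (hx : x ∈ B.comap (fpFst U K₀)) :
    indFun (U.comap (fpFst U K₀)) (fun p => ((lamH U K₀ B hinf lam hlam p : ℂˣ) : ℂ)) x =
      ((U.comap (fpFst U K₀)).index : ℂ) *
        ((lamH U K₀ B hinf lam hlam ⟨x, Subgroup.comap_mono hBU hx⟩ : ℂˣ) : ℂ) := by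
  classical
  have hlam' : ∀ (g : X) (b : B) (h : g⁻¹ * (b : X) * g ∈ B),
      lam ⟨g⁻¹ * (b : X) * g, h⟩ = lam b := by
    intro g b h
    rw [← hlam g⁻¹ b]
    congr 1
    apply Subtype.ext
    simp
  have hLn : (B.comap (fpFst U K₀)).Normal := inferInstance
  have hx1 : x.1.1 ∈ B := hx
  have hx2 : ((x.1.2 : U) : X) ∈ B := by
    apply hinf _ _ x.1.2.2
    have h1 : x.1.1 * ((x.1.2 : U) : X)⁻¹ ∈ K₀ := x.2
    have h2 := K₀.mul_mem (K₀.inv_mem h1) (hBK hx1)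
    have h3 : (x.1.1 * ((x.1.2 : U) : X)⁻¹)⁻¹ * x.1.1 = ((x.1.2 : U) : X) := by group
    rw [h3] at h2
    exact h2
  set b₁ : B := ⟨x.1.1, hx1⟩ with hb₁
  set b₂ : B := ⟨((x.1.2 : U) : X), hx2⟩ with hb₂
  have hterm : ∀ y : fiberProd U K₀,
      extendByZero (U.comap (fpFst U K₀)) (fun p => ((lamH U K₀ B hinf lam hlam p : ℂˣ) : ℂ))
        (y⁻¹ * x * y) =
      ((lamH U K₀ B hinf lam hlam ⟨x, Subgroup.comap_mono hBU hx⟩ : ℂˣ) : ℂ) := by
    intro y
    have hmem : y⁻¹ * x * y ∈ B.comap (fpFst U K₀) := by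
      have := hLn.conj_mem x hx y⁻¹
      rwa [inv_inv] at this
    rw [extendByZero_apply_of_mem _ _ (Subgroup.comap_mono hBU hmem)]
    congr 1
    rw [lamH_apply, lamH_apply]
    have e1 : fpB U K₀ B hinf ⟨x, Subgroup.comap_mono hBU hx⟩ = b₁ * b₂⁻¹ := by
      apply Subtype.ext
      rfl
    have hc1 : (y.1.1)⁻¹ * (b₁ : X) * y.1.1 ∈ B := by
      have := hB.conj_mem b₁ b₁.2 (y.1.1)⁻¹
      rwa [inv_inv] at this
    have hc2 : ((y.1.2 : U) : X)⁻¹ * ((b₂⁻¹ : B) : X) * ((y.1.2 : U) : X) ∈ B := by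
      have := hB.conj_mem (b₂⁻¹ : B) (b₂⁻¹ : B).2 ((y.1.2 : U) : X)⁻¹
      rwa [inv_inv] at this
    have e2 : fpB U K₀ B hinf ⟨y⁻¹ * x * y, Subgroup.comap_mono hBU hmem⟩ =
        ⟨(y.1.1)⁻¹ * (b₁ : X) * y.1.1, hc1⟩ *
          ⟨((y.1.2 : U) : X)⁻¹ * ((b₂⁻¹ : B) : X) * ((y.1.2 : U) : X), hc2⟩ := by
      apply Subtype.ext
      show (y.1.1)⁻¹ * x.1.1 * y.1.1 *
          (((y.1.2 : U) : X)⁻¹ * ((x.1.2 : U) : X) * ((y.1.2 : U) : X))⁻¹ =
        (y.1.1)⁻¹ * x.1.1 * y.1.1 *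
          (((y.1.2 : U) : X)⁻¹ * ((x.1.2 : U) : X)⁻¹ * ((y.1.2 : U) : X))
      group
    rw [e1, e2, map_mul, map_mul, hlam', hlam']
  rw [indFun_apply, Finset.sum_congr rfl (fun y _ => hterm y), Finset.sum_const, Finset.card_univ,
    nsmul_eq_mul, ← mul_assoc]
  congr 1
  have h1 := Subgroup.index_mul_card (U.comap (fpFst U K₀))
  have hpos : (Nat.card (U.comap (fpFst U K₀)) : ℂ) ≠ 0 :=
    Nat.cast_ne_zero.2 Nat.card_pos.ne'
  rw [← Nat.card_eq_fintype_card, ← h1]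
  push_cast
  field_simp

end Step

end Cfsg.Agent.Lib.H24.Berger
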