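import Mathlib
import Cfsg.Agent.Lib.H24.BergerB

/-!
# The fibre product step (helper24)

`fiber_step`: in the configuration of `BergerB`, the inflation of the irreducible character
`(β π_U)^X` to the fibre product is induced from a proper subgroup `T` containing a normal subgroup
`M` strictly larger than the preimage of `B`.
-/

set_option autoImplicit false

namespace Cfsg.Agent.Lib.H24.Berger

open Cfsg Cfsg.Agent.Lib.L0 Cfsg.Agent.Lib.H23
open scoped ComplexConjugate

universe u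

theorem fiber_step {X : Type u} [Group X] [Fintype X] (U K₀ B : Subgroup X) [hK : K₀.Normal]
    [hB : B.Normal] (hBU : B ≤ U) (hBK : B ≤ K₀) (hinf : ∀ x, x ∈ K₀ → x ∈ U → x ∈ B)
    (hsup : K₀ ⊔ U = ⊤) (hmax : IsCoatom U) (hsolv : Group.IsSolvable (X ⧸ B))
    (π : X → ℂ) (hπ : IsCharacter X π) (hπ1 : π 1 ≠ 0)
    (β : U → ℂ) (hβ : IsCharacter U β) (hβ1 : β 1 ≠ 0)
    (lam : B →* ℂˣ)
    (hlam : ∀ (x : X) (b : B), lam ⟨x * b * x⁻¹, hB.conj_mem b b.2 x⟩ = lam b)
    (hlamβ : ∀ (b : B) (u : U), β (⟨b, hBU b.2⟩ * u) = (lam b : ℂ) * β u)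
    (hirr : IsIrrCharacter X (indFun U (β * fun u : U => π u))) :
    ∃ (Y : Type u) (_ : Group Y) (_ : Fintype Y) (f : Y →* X), Function.Surjective f ∧
      ∃ (M T : Subgroup Y), M.Normal ∧ B.comap f < M ∧ M ≤ T ∧ T ≠ ⊤ ∧
        ∃ ζ : T → ℂ, IsIrrCharacter T ζ ∧
          indFun T ζ = (indFun U (β * fun u : U => π u)) ∘ f := by
  classical
  have : Fintype (fiberProd U K₀) := Fintype.ofFinite _
  set f := fpFst U K₀ with hfdef
  have hf : Function.Surjective f := fpFst_surjective U K₀ hsup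
  set Ht : Subgroup (fiberProd U K₀) := U.comap f with hHt
  have : Fintype Ht := Fintype.ofFinite _
  set lamf : Ht → ℂ := fun p => ((lamH U K₀ B hinf lam hlam p : ℂˣ) : ℂ) with hlamf
  set ω : fiberProd U K₀ → ℂ := (β ∘ fpSnd U K₀) * (π ∘ f) with hω
  have hωc : IsCharacter (fiberProd U K₀) ω :=
    isCharacter_mul (isCharacter_comp (fpSnd U K₀) hβ) (isCharacter_comp f hπ)
  have hω1 : ω 1 ≠ 0 := by
    rw [hω, Pi.mul_apply, Function.comp_apply, Function.comp_apply, map_one, map_one]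
    exact mul_ne_zero hβ1 hπ1
  have hωcl := isClassFunction_of_isCharacter hωc
  -- the key identity
  have hkey : (fun u : Ht => (β * fun u : U => π u) ⟨f (u : fiberProd U K₀), u.2⟩) =
      lamf * (fun u : Ht => ω u) := by
    funext p
    simp only [Pi.mul_apply, hω, Function.comp_apply, hlamf]
    have h1 := hlamβ (fpB U K₀ B hinf p) (fpSnd U K₀ p)
    have h2 : (⟨(fpB U K₀ B hinf p : B), hBU (fpB U K₀ B hinf p).2⟩ : U) * fpSnd U K₀ p =
        ⟨f (p : fiberProd U K₀), p.2⟩ := by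
      apply Subtype.ext
      show p.1.1.1 * ((p.1.1.2 : U) : X)⁻¹ * ((p.1.1.2 : U) : X) = p.1.1.1
      rw [inv_mul_cancel_right]
    rw [h2] at h1
    rw [h1, lamH_apply]
    ring
  set χ := indFun U (β * fun u : U => π u) with hχ
  have hχf : χ ∘ f = indFun Ht lamf * ω := by
    rw [← indFun_mul_restrict' Ht lamf ω hωcl, ← hkey]
    funext y
    rw [Function.comp_apply, hχ, indFun_comp_surjective f hf U _ y]
  have hχf_irr : IsIrrCharacter (fiberProd U K₀) (χ ∘ f) :=
    isIrrCharacter_comp_of_surjective f hf hirr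
  have hlamirr : IsIrrCharacter Ht lamf := isIrrCharacter_of_hom (lamH U K₀ B hinf lam hlam)
  have hχhc : IsCharacter (fiberProd U K₀) (indFun Ht lamf) :=
    isCharacter_indFun Ht (isCharacter_of_irr hlamirr)
  have hχh : IsIrrCharacter (fiberProd U K₀) (indFun Ht lamf) := by
    apply irr_of_mul_irr hχhc hωc hω1
    rw [← hχf]
    exact hχf_irr
  -- Isaacs 11.32
  set Lt : Subgroup (fiberProd U K₀) := B.comap f with hLt
  have hLtn : Lt.Normal := inferInstance
  have hLH : Lt ≤ Ht := Subgroup.comap_mono hBU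
  have hsolvY : Group.IsSolvable (fiberProd U K₀ ⧸ Lt) := isSolvable_quotient_comap f B hsolv
  have hmaxY : IsCoatom Ht := isCoatom_comap_of_surjective f hf hmax
  have hlamL : IsIrrCharacter Lt (fun x : Lt => lamf ⟨(x : fiberProd U K₀), hLH x.2⟩) :=
    isIrrCharacter_of_hom ((lamH U K₀ B hinf lam hlam).comp (Subgroup.inclusion hLH))
  obtain ⟨M, hMn, hLM, hnh⟩ := berger_lemma Lt Ht hLH hmaxY hsolvY lamf hlamirr hlamL hχh
  have hLM' : Lt < M := by
    refine lt_of_le_of_ne hLM ?_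
    rintro rfl
    apply hnh
    refine ⟨_, Ht.index, hlamL, ?_⟩
    funext x
    rw [Pi.smul_apply, smul_eq_mul]
    exact indFun_lamH_coe U K₀ B hBU hBK hinf lam hlam (x : fiberProd U K₀) x.2
  obtain ⟨T, hMT, hT, ψ, hψ, hind⟩ := exists_proper_induced_of_not_homogeneous M hχh hnh
  have : Fintype T := Fintype.ofFinite _
  set ζ : T → ℂ := ψ * fun t : T => ω t with hζ
  have hζind : indFun T ζ = χ ∘ f := by
    rw [hζ, indFun_mul_restrict' T ψ ω hωcl, hind, hχf]
  have hζc : IsCharacter T ζ :=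
    isCharacter_mul (isCharacter_of_irr hψ) (isCharacter_restrict T hωc)
  have hζirr : IsIrrCharacter T ζ := by
    apply irr_of_indFun_irr T hζc
    rw [hζind]
    exact hχf_irr
  exact ⟨fiberProd U K₀, inferInstance, inferInstance, f, hf, M, T, hMn, hLM', hMT, hT, ζ,
    hζirr, hζind⟩

end Cfsg.Agent.Lib.H24.Berger
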