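import Mathlib
import Cfsg.Agent.Lib.H24.BergerC
import Cfsg.Agent.Lib.H24.CentralExt

/-!
# Reduction to the central case (helper24)

* `exists_lam`: an irreducible representation of `U` that is trivial on `N₀` restricts to `B` as a
  linear character, when `B` is central modulo `N₀`;
* `ext_step`: the step of the induction in Berger's theorem: in the configuration
  `G = K H₁`, `K ∩ H₁ = L₁`, `φ ∈ Irr(L₁)` invariant under `ϑ₁`, with `ϑ₁^G` irreducible, the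
  inflation of `ϑ₁^G` to a suitable group `Y` is induced from a proper subgroup containing a normal
  subgroup strictly larger than the preimage of `L₁`.
-/

set_option autoImplicit false

namespace Cfsg.Agent.Lib.H24.Berger

open Cfsg Cfsg.Agent.Lib.L0 Cfsg.Agent.Lib.H23 Cfsg.Agent.Lib.H24
open scoped ComplexConjugate

universe u

section Lam

variable {X : Type*} [Group X] (U N₀ B : Subgroup X) [hN₀ : N₀.Normal] [hB : B.Normal]
  (hBU : B ≤ U)

theorem exists_lam (hN₀B : N₀ ≤ B) (hdec : ∀ b ∈ B, ∃ l ∈ N₀, l⁻¹ * b ∈ Subgroup.center X)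
    {d : ℕ} (ρ : Representation ℂ U (Fin d → ℂ)) [hρ : ρ.IsIrreducible]
    (htriv : ∀ y : U, (y : X) ∈ N₀ → ρ y = 1) :
    ∃ lam : B →* ℂˣ,
      (∀ (x : X) (b : B), lam ⟨x * b * x⁻¹, hB.conj_mem b b.2 x⟩ = lam b) ∧
      (∀ (b : B) (u : U), ρ.character (⟨b, hBU b.2⟩ * u) = (lam b : ℂ) * ρ.character u) := by
  classical
  have hd : 0 < Module.finrank ℂ (Fin d → ℂ) := finrank_pos_of_isIrreducible ρ
  have hnt : Nontrivial (Fin d → ℂ) := Module.finrank_pos_iff.mp hd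
  have h1ne : (1 : Module.End ℂ (Fin d → ℂ)) ≠ 0 := one_ne_zero
  have hinj : ∀ c c' : ℂ, c • (1 : Module.End ℂ (Fin d → ℂ)) = c' • 1 → c = c' :=
    fun c c' h => smul_left_injective ℂ h1ne h
  have hscal : ∀ b : B, ∃ c : ℂ, ρ ⟨b, hBU b.2⟩ = c • 1 := by
    intro b
    obtain ⟨l, hl, hz⟩ := hdec b b.2
    have hlU : l ∈ U := hBU (hN₀B hl)
    have hyU : l⁻¹ * (b : X) ∈ U := U.mul_mem (U.inv_mem hlU) (hBU b.2)
    have hycen : (⟨l⁻¹ * (b : X), hyU⟩ : U) ∈ Subgroup.center U := by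
      rw [Subgroup.mem_center_iff]
      intro g
      apply Subtype.ext
      exact (Subgroup.mem_center_iff.mp hz) (g : X)
    obtain ⟨c, hc⟩ := exists_smul_of_mem_center ρ hycen
    refine ⟨c, ?_⟩
    have h2 : (⟨b, hBU b.2⟩ : U) = ⟨l, hlU⟩ * ⟨l⁻¹ * (b : X), hyU⟩ := by
      apply Subtype.ext
      show (b : X) = l * (l⁻¹ * (b : X))
      group
    rw [h2, map_mul, htriv ⟨l, hlU⟩ hl, one_mul, hc]
  choose c hc using hscal
  have hcmul : ∀ b b' : B, c (b * b') = c b * c b' := by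
    intro b b'
    apply hinj
    rw [← hc, mul_smul]
    calc ρ ⟨((b * b' : B) : X), hBU (b * b').2⟩ = ρ ⟨b, hBU b.2⟩ * ρ ⟨b', hBU b'.2⟩ := by
          rw [← map_mul]; rfl
      _ = (c b • 1) * (c b' • 1) := by rw [hc, hc]
      _ = c b • c b' • 1 := by rw [smul_mul_assoc, one_mul]
  have hcone : c 1 = 1 := by
    apply hinj
    rw [← hc, one_smul]
    exact map_one ρ
  let lam₀ : B →* ℂ := { toFun := c, map_one' := hcone, map_mul' := hcmul }
  refine ⟨lam₀.toHomUnits, ?_, ?_⟩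
  · intro x b
    apply Units.ext
    rw [MonoidHom.coe_toHomUnits, MonoidHom.coe_toHomUnits]
    show c _ = c b
    apply hinj
    rw [← hc, ← hc]
    obtain ⟨l, hl, hz⟩ := hdec b b.2
    have hl' : x * l * x⁻¹ * l⁻¹ ∈ N₀ := N₀.mul_mem (hN₀.conj_mem l hl x) (N₀.inv_mem hl)
    have hl'U : x * l * x⁻¹ * l⁻¹ ∈ U := hBU (hN₀B hl')
    have h2 : (⟨x * (b : X) * x⁻¹, hBU (hB.conj_mem b b.2 x)⟩ : U) =
        ⟨x * l * x⁻¹ * l⁻¹, hl'U⟩ * ⟨b, hBU b.2⟩ := by
      apply Subtype.ext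
      show x * (b : X) * x⁻¹ = x * l * x⁻¹ * l⁻¹ * (b : X)
      have hzc := (Subgroup.mem_center_iff.mp hz) x⁻¹
      -- `x⁻¹ * (l⁻¹ * b) = (l⁻¹ * b) * x⁻¹`
      calc x * (b : X) * x⁻¹ = x * l * ((l⁻¹ * (b : X)) * x⁻¹) := by group
        _ = x * l * (x⁻¹ * (l⁻¹ * (b : X))) := by rw [hzc]
        _ = x * l * x⁻¹ * l⁻¹ * (b : X) := by group
    rw [h2, map_mul, htriv ⟨x * l * x⁻¹ * l⁻¹, hl'U⟩ hl', one_mul]
  · intro b u
    rw [MonoidHom.coe_toHomUnits]
    show ρ.character _ = c b * ρ.character u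
    unfold Representation.character
    rw [map_mul, hc, smul_mul_assoc, one_mul, map_smul, smul_eq_mul]

end Lam

section ExtStep

variable {G : Type u} [Group G] [Fintype G] (H₁ K L₁ : Subgroup G) [hL : L₁.Normal]
  [hK : K.Normal]

theorem ext_step (hLH : L₁ ≤ H₁) (hLK : L₁ ≤ K) (hinf : ∀ x, x ∈ K → x ∈ H₁ → x ∈ L₁)
    (hsup : K ⊔ H₁ = ⊤) (hmax : IsCoatom H₁) (hsolv : Group.IsSolvable (G ⧸ L₁))
    [Fintype L₁] (φ : L₁ → ℂ) (hφ : IsIrrCharacter L₁ φ)
    (hinv : ∀ (g : G) (n : L₁), φ ⟨g * n * g⁻¹, hL.conj_mem (n : G) n.2 g⟩ = φ n)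
    (ϑ₁ : H₁ → ℂ) (hϑ₁ : IsIrrCharacter H₁ ϑ₁)
    (hcon : classInner (fun n : L₁ => ϑ₁ ⟨(n : G), hLH n.2⟩) φ ≠ 0)
    (hirr : IsIrrCharacter G (indFun H₁ ϑ₁)) :
    ∃ (Y : Type u) (_ : Group Y) (_ : Fintype Y) (F : Y →* G), Function.Surjective F ∧
      ∃ (M T : Subgroup Y), M.Normal ∧ L₁.comap F < M ∧ M ≤ T ∧ T ≠ ⊤ ∧
        ∃ ζ : T → ℂ, IsIrrCharacter T ζ ∧ indFun T ζ = (indFun H₁ ϑ₁) ∘ F := by
  classical
  have hφ' := hφ
  obtain ⟨d, Yr, hY, hYφ⟩ := hφ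
  have hYirr := hY
  set M₀ := Nat.card L₁ with hM₀
  have hM : ∀ n : L₁, (LinearMap.det (Yr n)) ^ M₀ = 1 := by
    intro n
    rw [← map_pow, ← map_pow, hM₀, pow_card_eq_one', map_one, map_one]
  have hinv' : ∀ (g : G) (n : L₁),
      Yr.character ⟨g * n * g⁻¹, hL.conj_mem n n.2 g⟩ = Yr.character n := by
    rw [hYφ]; exact hinv
  have hfin : Finite (extGroup L₁ Yr M₀) := finite_extGroup L₁ Yr M₀ Nat.card_pos hY hinv'
  have : Fintype (extGroup L₁ Yr M₀) := Fintype.ofFinite _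
  set pr := extFst L₁ Yr M₀ with hprdef
  have hpr : Function.Surjective pr := extFst_surjective L₁ Yr M₀ hY hinv'
  set N₀ : Subgroup (extGroup L₁ Yr M₀) := (extIncl L₁ Yr M₀ hM).range with hN₀def
  have hN₀ : N₀.Normal := by
    constructor
    rintro _ ⟨n, rfl⟩ x
    rw [conj_extIncl]
    exact ⟨_, rfl⟩
  set π : extGroup L₁ Yr M₀ → ℂ := (extRep L₁ Yr M₀).character with hπdef
  have hπ : IsIrrCharacter (extGroup L₁ Yr M₀) π :=
    isIrrCharacter_of_irreducible _ (isIrreducible_extRep L₁ Yr M₀ hM hY)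
  set U : Subgroup (extGroup L₁ Yr M₀) := H₁.comap pr with hU
  set K₀ : Subgroup (extGroup L₁ Yr M₀) := K.comap pr with hK₀
  set B : Subgroup (extGroup L₁ Yr M₀) := L₁.comap pr with hB
  have hK₀n : K₀.Normal := hK.comap pr
  have hBn : B.Normal := hL.comap pr
  have hBU : B ≤ U := Subgroup.comap_mono hLH
  have hBK : B ≤ K₀ := Subgroup.comap_mono hLK
  have hinfX : ∀ x, x ∈ K₀ → x ∈ U → x ∈ B := fun x h1 h2 => hinf _ h1 h2
  have hsupX : K₀ ⊔ U = ⊤ := by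
    rw [hK₀, hU, Subgroup.comap_sup_eq pr K H₁ hpr, hsup, Subgroup.comap_top]
  have hmaxX : IsCoatom U := isCoatom_comap_of_surjective pr hpr hmax
  have hsolvX : Group.IsSolvable (extGroup L₁ Yr M₀ ⧸ B) := isSolvable_quotient_comap pr L₁ hsolv
  have hN₀B : N₀ ≤ B := by
    rintro _ ⟨n, rfl⟩
    exact n.2
  have : Fintype U := Fintype.ofFinite _
  set ϑ' : U → ℂ := fun u => ϑ₁ ⟨pr (u : extGroup L₁ Yr M₀), u.2⟩ with hϑ'def
  have hϑ' : IsIrrCharacter U ϑ' :=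
    isIrrCharacter_comp_of_surjective (pr.subgroupComap H₁)
      (pr.subgroupComap_surjective_of_surjective H₁ hpr) hϑ₁
  set N₀' : Subgroup U := N₀.subgroupOf U with hN₀'
  have hN₀'n : N₀'.Normal := Subgroup.normal_subgroupOf
  have : Fintype N₀' := Fintype.ofFinite _
  set πU : U → ℂ := fun u => π u with hπU
  -- the isomorphism `L₁ ≃ N₀'`
  let j : L₁ →* N₀' :=
    { toFun := fun n => ⟨⟨extIncl L₁ Yr M₀ hM n, hBU (hN₀B ⟨n, rfl⟩)⟩,
        Subgroup.mem_subgroupOf.mpr ⟨n, rfl⟩⟩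
      map_one' := by
        apply Subtype.ext
        apply Subtype.ext
        exact map_one _
      map_mul' := by
        intro a b
        apply Subtype.ext
        apply Subtype.ext
        exact map_mul _ a b }
  have hjinj : Function.Injective j := by
    intro a b hab
    apply extIncl_injective L₁ Yr M₀ hM
    have := congrArg (fun y : N₀' => ((y : U) : extGroup L₁ Yr M₀)) hab
    exact this
  have hjsurj : Function.Surjective j := by
    intro y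
    obtain ⟨n, hn⟩ := Subgroup.mem_subgroupOf.mp y.2
    refine ⟨n, ?_⟩
    apply Subtype.ext
    apply Subtype.ext
    exact hn
  let ι : L₁ ≃* N₀' := MulEquiv.ofBijective j ⟨hjinj, hjsurj⟩
  have h1 : (fun y : N₀' => πU y) ∘ ι = φ := by
    funext n
    show π (extIncl L₁ Yr M₀ hM n) = φ n
    rw [hπdef, ← hYφ]
    rfl
  have h2 : (fun y : N₀' => ϑ' y) ∘ ι = fun n : L₁ => ϑ₁ ⟨(n : G), hLH n.2⟩ := by
    funext n
    rfl
  have hres : IsIrrCharacter N₀' (fun y : N₀' => πU y) := by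
    have h3 : (fun y : N₀' => πU y) = φ ∘ ι.symm := by
      rw [← h1]
      funext y
      simp
    rw [h3]
    exact isIrrCharacter_comp_of_surjective ι.symm.toMonoidHom ι.symm.surjective hφ'
  have hπUirr : IsIrrCharacter U πU :=
    isIrrCharacter_of_restrict_irr_berger N₀' (isCharacter_restrict U (isCharacter_of_irr hπ)) hres
  have hconU : classInner (fun y : N₀' => ϑ' y) (fun y : N₀' => πU y) ≠ 0 := by
    rw [← classInner_comp_equiv ι, h1, h2]
    exact hcon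
  obtain ⟨β, hβ, hβ1, hβϑ⟩ := gallagher_exists N₀' πU hπUirr hres ϑ' hϑ' hconU
  have hβirr := hβ
  obtain ⟨b, ρ, hρ, hρβ⟩ := hβ
  have hρirr := hρ
  -- `β` is trivial on `N₀'`
  have hβN₀ : ∀ y : N₀', ρ (y : U) = 1 := by
    intro y
    have hone_irr : IsIrrCharacter N₀' (fun _ => (1 : ℂ)) := (trivialIrr N₀').2
    have hβirr' : IsIrrCharacter U ρ.character := ⟨b, ρ, hρ, rfl⟩
    have hβcl : IsClassFunction U ρ.character :=
      isClassFunction_of_isCharacter (isCharacter_of_irr hβirr')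
    have hc1 : classInner (fun y : N₀' => ρ.character y) (fun _ => (1 : ℂ)) ≠ 0 := by
      rw [← hρβ, frobenius_reciprocity N₀' _ _ hβcl] at hβ1
      intro h0
      apply hβ1
      rw [← classInner_conj_symm, h0, map_zero]
    have hr := restrict_eq_smul_of_invariant N₀' ρ.character hβirr' (fun _ => (1 : ℂ)) hone_irr hc1
      (fun _ _ => rfl)
    have h1 := congrFun hr y
    have h2 := congrFun hr 1
    simp only [Pi.smul_apply, smul_eq_mul, mul_one] at h1 h2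
    have h3 : ρ.character (y : U) = ρ.character 1 := by
      rw [h1]
      exact h2.symm
    exact (char_eq_char_one_iff ρ _).mp h3
  have htriv : ∀ y : U, (y : extGroup L₁ Yr M₀) ∈ N₀ → ρ y = 1 :=
    fun y hy => hβN₀ ⟨y, Subgroup.mem_subgroupOf.mpr hy⟩
  have hdec : ∀ x ∈ B, ∃ l ∈ N₀, l⁻¹ * x ∈ Subgroup.center (extGroup L₁ Yr M₀) := by
    intro x hx
    have hx' : pr x ∈ L₁ := hx
    set n : L₁ := ⟨pr x, hx'⟩ with hn
    obtain ⟨y, hy⟩ : ∃ y, y = (extIncl L₁ Yr M₀ hM n)⁻¹ * x := ⟨_, rfl⟩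
    have hy1 : extFst L₁ Yr M₀ y = 1 := by
      rw [hy, map_mul, map_inv, extFst_extIncl, hn]
      exact inv_mul_cancel _
    obtain ⟨c, hc⟩ := extRep_eq_smul_of_fst_eq_one L₁ Yr M₀ hYirr y hy1
    refine ⟨extIncl L₁ Yr M₀ hM n, ⟨n, rfl⟩, ?_⟩
    rw [← hy, Subgroup.mem_center_iff]
    intro g
    apply ext_ext
    · rw [map_mul, map_mul, hy1, mul_one, one_mul]
    · rw [map_mul, map_mul, hc, smul_mul_assoc, mul_smul_comm, one_mul, mul_one]
  have := hρirr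
  obtain ⟨lam, hlaminv, hlamβ⟩ := exists_lam U N₀ B hBU hN₀B hdec ρ htriv
  have hβc : IsCharacter U β := ⟨b, ρ, hρβ⟩
  have hβ1' : β 1 ≠ 0 := irr_one_ne_zero ⟨β, hβirr⟩
  have hπ1 : π 1 ≠ 0 := irr_one_ne_zero ⟨π, hπ⟩
  have hirrX : IsIrrCharacter (extGroup L₁ Yr M₀) (indFun U (β * fun u : U => π u)) := by
    have h3 : β * (fun u : U => π u) = ϑ' := hβϑ.symm
    rw [h3]
    have h4 : indFun U ϑ' = (indFun H₁ ϑ₁) ∘ pr := by
      funext x
      rw [Function.comp_apply, indFun_comp_surjective pr hpr H₁ ϑ₁ x]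
    rw [h4]
    exact isIrrCharacter_comp_of_surjective pr hpr hirr
  obtain ⟨Y, iG, iF, f, hf, M, T, hMn, hLM, hMT, hT, ζ, hζ, hζind⟩ :=
    fiber_step U K₀ B hBU hBK hinfX hsupX hmaxX hsolvX π (isCharacter_of_irr hπ) hπ1 β hβc hβ1'
      lam hlaminv (by rw [← hρβ]; exact hlamβ) hirrX
  refine ⟨Y, iG, iF, pr.comp f, hpr.comp hf, M, T, hMn, ?_, hMT, hT, ζ, hζ, ?_⟩
  · rw [← Subgroup.comap_comap]
    exact hLM
  · rw [hζind]
    have h3 : β * (fun u : U => π u) = ϑ' := hβϑ.symm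
    rw [h3]
    funext y
    simp only [Function.comp_apply, MonoidHom.coe_comp]
    rw [indFun_comp_surjective pr hpr H₁ ϑ₁ (f y)]

end ExtStep

end Cfsg.Agent.Lib.H24.Berger
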