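import Mathlib
import Cfsg.Agent.Lib.H24.BergerD
import Cfsg.Agent.Lib.H23.RelMGroup

/-!
# Berger's theorem: the induction (helper24)

`berger_P`: if `L ⊲ G`, `G/L` solvable, `L ≤ H < G` and `ϑ ∈ Irr(H)` induces irreducibly to
`χ ∈ Irr(G)`, then `χ_M` is not homogeneous for some `M ⊲ G` containing `L`.
-/

set_option autoImplicit false

namespace Cfsg.Agent.Lib.H24.Berger

open Cfsg Cfsg.Agent.Lib.L0 Cfsg.Agent.Lib.H23 Cfsg.Agent.Lib.H24
open scoped ComplexConjugate

universe u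

theorem berger_P : ∀ (n : ℕ) (G : Type u) [Group G] [Fintype G] (L H : Subgroup G) [L.Normal],
    L.index < n → L ≤ H → H ≠ ⊤ → Group.IsSolvable (G ⧸ L) → ∀ ϑ : H → ℂ, IsIrrCharacter H ϑ →
    IsIrrCharacter G (indFun H ϑ) →
    ∃ M : Subgroup G, M.Normal ∧ L ≤ M ∧ ¬ Homog M (indFun H ϑ) := by
  intro n
  induction n with
  | zero =>
    intro G _ _ L H _ h
    omega
  | succ n ih =>
    intro G _ _ L H hLn hidx hLH hHtop hsolv ϑ hϑ hind
    classical
    obtain ⟨H₁, hH₁, hHH₁⟩ := (eq_top_or_exists_le_coatom H).resolve_left hHtop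
    have : Fintype H₁ := Fintype.ofFinite _
    set χ := indFun H ϑ with hχ
    set ϑ₀ : H.subgroupOf H₁ → ℂ :=
      fun x => ϑ ⟨((x : H₁) : G), Subgroup.mem_subgroupOf.mp x.2⟩ with hϑ₀
    set ϑ₁ : H₁ → ℂ := indFun (H.subgroupOf H₁) ϑ₀ with hϑ₁def
    have htrans : indFun H₁ ϑ₁ = χ := indFun_trans H H₁ hHH₁ ϑ
    have hϑ₀c : IsCharacter (H.subgroupOf H₁) ϑ₀ :=
      isCharacter_comp (Subgroup.subgroupOfEquivOfLe hHH₁).toMonoidHom (isCharacter_of_irr hϑ)
    have hϑ₁c : IsCharacter H₁ ϑ₁ := isCharacter_indFun _ hϑ₀c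
    have hϑ₁ : IsIrrCharacter H₁ ϑ₁ := irr_of_indFun_irr H₁ hϑ₁c (by rw [htrans]; exact hind)
    -- the core
    set L₁ : Subgroup G := H₁.normalCore with hL₁
    have hL₁n : L₁.Normal := inferInstance
    have hLL₁ : L ≤ L₁ := Subgroup.normal_le_normalCore.mpr (hLH.trans hHH₁)
    have hL₁H₁ : L₁ ≤ H₁ := Subgroup.normalCore_le H₁
    have hsolv₁ : Group.IsSolvable (G ⧸ L₁) := isSolvable_quotient_of_le L L₁ hLL₁ hsolv
    by_cases hhom : Homog L₁ χ
    swap
    · exact ⟨L₁, hL₁n, hLL₁, hhom⟩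
    obtain ⟨φ, e₀, hφ, hχL⟩ := hhom
    have : Fintype L₁ := Fintype.ofFinite _
    have hχ1 : χ 1 ≠ 0 := irr_one_ne_zero ⟨χ, hind⟩
    have he₀ : (e₀ : ℂ) ≠ 0 := by
      intro h
      apply hχ1
      have h1 := congrFun hχL 1
      simp only [Pi.smul_apply, smul_eq_mul, h, zero_mul] at h1
      exact h1
    have hχcl := isClassFunction_of_isCharacter (isCharacter_of_irr hind)
    have hφinv : ∀ (g : G) (n : L₁),
        φ ⟨g * n * g⁻¹, hL₁n.conj_mem (n : G) n.2 g⟩ = φ n := by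
      intro g n
      have h1 := congrFun hχL ⟨g * n * g⁻¹, hL₁n.conj_mem (n : G) n.2 g⟩
      have h2 := congrFun hχL n
      simp only [Pi.smul_apply, smul_eq_mul] at h1 h2
      have h3 : χ (g * n * g⁻¹) = χ n := hχcl n g
      rw [h3, h2] at h1
      exact (mul_left_cancel₀ he₀ h1).symm
    -- `ϑ₁` lies over `φ`
    have hcon : classInner (fun n : L₁ => ϑ₁ ⟨(n : G), hL₁H₁ n.2⟩) φ ≠ 0 := by
      have hϑ₁L : IsCharacter L₁ (resTo L₁ H₁ hL₁H₁ ϑ₁) := isCharacter_resTo L₁ H₁ hL₁H₁ hϑ₁c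
      have h1 : resTo L₁ H₁ hL₁H₁ ϑ₁ 1 ≠ 0 := by
        have : resTo L₁ H₁ hL₁H₁ ϑ₁ 1 = ϑ₁ 1 := rfl
        rw [this]
        exact irr_one_ne_zero ⟨ϑ₁, hϑ₁⟩
      obtain ⟨φ', hφ', hc'⟩ := exists_irr_constituent hϑ₁L h1
      obtain ⟨l, hl, hsum⟩ := isCharacter_exists_irr_decomp
        (isCharacter_restrict H₁ (isCharacter_of_irr hind))
      have hmem : ϑ₁ ∈ l := by
        have h5 : classInner (indFun H₁ ϑ₁) χ = 1 := by
          rw [htrans]
          exact irr_classInner_self hind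
        rw [frobenius_reciprocity H₁ ϑ₁ χ hχcl, hsum, ← classInner_conj_symm,
          classInner_irr_list_sum hl hϑ₁] at h5
        by_contra hnot
        rw [List.count_eq_zero_of_not_mem hnot] at h5
        simp at h5
      obtain ⟨k, hk⟩ := exists_classInner_resTo_list_sum_eq_add L₁ H₁ hL₁H₁ φ' hφ' l hl ϑ₁ hmem
      have h6 : resTo L₁ H₁ hL₁H₁ l.sum = (e₀ : ℂ) • φ := by
        rw [← hsum]
        exact hχL
      obtain ⟨n', hn'⟩ := classInner_char_irr_nat hϑ₁L hφ'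
      rw [h6, hn', classInner_smul_left] at hk
      have hφeq : φ = φ' := by
        by_contra hne
        rw [irr_classInner_ne hφ hφ' hne, mul_zero] at hk
        have h7 : n' + k = 0 := by exact_mod_cast hk.symm
        have h8 : n' = 0 := by omega
        apply hc'
        rw [hn', h8]
        simp
      rw [hφeq]
      exact hc'
    -- the chief factor
    obtain ⟨m, hm⟩ := exists_derivedSeries_le_of_isSolvable_quotient L₁ hsolv₁
    obtain ⟨K, hKn, hLK, -, -, -, hsup, hinf⟩ := exists_chief_above_core H₁ hH₁ ⟨m, hm⟩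
    obtain ⟨Y, iG, iF, F, hF, M, T, hMn, hLM, hMT, hT, ζ, hζ, hζind⟩ :=
      ext_step H₁ K L₁ hL₁H₁ hLK.le hinf hsup hH₁ hsolv₁ φ hφ hφinv ϑ₁ hϑ₁ hcon
        (by rw [htrans]; exact hind)
    -- the induction hypothesis
    have hidxM : M.index < n := by
      have h1 : (L₁.comap F).index = L₁.index := Subgroup.index_comap_of_surjective L₁ hF
      have h2 : L₁.index ≤ L.index :=
        Nat.le_of_dvd (Nat.pos_of_ne_zero Subgroup.index_ne_zero_of_finite)
          (Subgroup.index_dvd_of_le hLL₁)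
      have h3 : M.index < (L₁.comap F).index := Subgroup.index_strictAnti hLM
      omega
    have hsolvM : Group.IsSolvable (Y ⧸ M) :=
      isSolvable_quotient_of_le (L₁.comap F) M hLM.le (isSolvable_quotient_comap F L₁ hsolv₁)
    have hirrY : IsIrrCharacter Y (indFun T ζ) := by
      rw [hζind, htrans]
      exact isIrrCharacter_comp_of_surjective F hF hind
    obtain ⟨M₂, hM₂n, hMM₂, hnh⟩ := ih Y M T hidxM hMT hT hsolvM ζ hζ hirrY
    have hker : F.ker ≤ M₂ := by
      refine le_trans ?_ (hLM.le.trans hMM₂)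
      exact Subgroup.ker_le_comap F L₁
    refine ⟨M₂.map F, hM₂n.map F hF, ?_, ?_⟩
    · calc L ≤ L₁ := hLL₁
        _ = (L₁.comap F).map F := (Subgroup.map_comap_eq_self_of_surjective hF L₁).symm
        _ ≤ M₂.map F := Subgroup.map_mono (hLM.le.trans hMM₂)
    · intro hh
      apply hnh
      have h1 := homog_comap F hF (M₂.map F) χ hh
      rw [Subgroup.comap_map_eq_self hker] at h1
      rw [hζind, htrans]
      exact h1

end Cfsg.Agent.Lib.H24.Berger
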