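import Cfsg.Agent.Lib.H24.BrauerP1

/-!
# Exceptional characters: the case `t ≥ e + 2` (helper24)

When the number `t` of relevant characters is at least `e + 2`, the class function `Ψ` is
orthogonal to the exceptional characters, and only a few nonexceptional characters
are involved in `Ψ`.
-/

set_option autoImplicit false
set_option linter.unusedSectionVars false

namespace Cfsg.Agent.Lib.H24.BrP

open Cfsg Cfsg.Agent.Lib.L0 Cfsg.Agent.Lib.L0.FrobTI Cfsg.Agent.Lib.H8 Cfsg.Agent.Lib.H4.Feit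
open scoped ComplexConjugate Classical

variable {G : Type*} [Group G] [Fintype G] {K : Subgroup G} [Fintype (nz K)]

theorem exists_data_zero (h : FrobTI K) (hab : ∀ a ∈ K, ∀ b ∈ K, a * b = b * a)
    (hte : (K.subgroupOf (nz K)).index + 2 ≤ Nat.card (RelT K)) [Fintype (IrrCharacter G)] :
    ∃ (εz : ℤ) (x : ℕ) (b : IrrCharacter G → ℤ) (d : IrrCharacter G → ℕ)
      (S : Finset (IrrCharacter G)),
      (εz = 1 ∨ εz = -1) ∧
      (∀ ψ : IrrCharacter G, (ψ : G → ℂ) 1 = d ψ) ∧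
      (∃ ψ : IrrCharacter G, d ψ = x) ∧
      (∀ ψ ∈ S, (ψ : G → ℂ) ≠ 1 ∧ b ψ ≠ 0) ∧
      (∑ ψ ∈ S, b ψ ^ 2 = ((K.subgroupOf (nz K)).index : ℤ) - 1) ∧
      (1 + ∑ ψ ∈ S, b ψ * (d ψ : ℤ) = εz * x) ∧
      (∀ ψ ∈ S, ∃ m : ℤ, (d ψ : ℤ) = b ψ + m * (Nat.card K : ℤ)) ∧
      (∃ m : ℤ, (x : ℤ) = εz * ((K.subgroupOf (nz K)).index : ℤ) + m * (Nat.card K : ℤ)) ∧
      (Nat.card (RelT K) * x ^ 2 + 1 + ∑ ψ ∈ S, d ψ ^ 2 ≤ Nat.card G) := by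
  obtain ⟨D⟩ := exc_nonempty h hab
  have he1 : 1 ≤ (K.subgroupOf (nz K)).index :=
    Nat.pos_of_ne_zero Subgroup.index_ne_zero_of_finite
  have ht : 2 ≤ Nat.card (RelT K) := by omega
  obtain ⟨εz, c, x, b, d, E, hεz, hEcard, hd, hE, h1, hsq, hdeg, hcong, hx⟩ :=
    exists_data h hab D ht
  set ψ₁ : IrrCharacter G := ⟨1, Cfsg.Agent.Lib.L0.isIrrCharacter_one⟩ with hψ₁
  obtain ⟨h1E, hb1⟩ := h1 ψ₁ rfl
  have hd1 : d ψ₁ = 1 := by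
    have := hd ψ₁
    rw [hψ₁] at this
    simp only [Pi.one_apply] at this
    exact_mod_cast this.symm
  have h1c : ψ₁ ∈ Eᶜ := Finset.mem_compl.2 h1E
  -- the sum of squares
  have hsqE : ∑ ψ ∈ E, b ψ ^ 2 = (Nat.card (RelT K) : ℤ) * c ^ 2 := by
    rw [Finset.sum_congr rfl fun ψ hψ => by rw [(hE ψ hψ).1], Finset.sum_const, hEcard]
    simp
  have hsplit := Finset.sum_add_sum_compl E (fun ψ => b ψ ^ 2)
  have hsplit2 := Finset.add_sum_erase Eᶜ (fun ψ => b ψ ^ 2) h1c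
  rw [hb1] at hsplit2
  have hnonneg : 0 ≤ ∑ ψ ∈ Eᶜ.erase ψ₁, b ψ ^ 2 := Finset.sum_nonneg fun ψ _ => by positivity
  have hc0 : c = 0 := by
    by_contra hc
    have hte' : ((K.subgroupOf (nz K)).index : ℤ) + 2 ≤ (Nat.card (RelT K) : ℤ) := by
      exact_mod_cast hte
    have hc2 : 1 ≤ c ^ 2 := by
      have : 0 < c ^ 2 := by positivity
      omega
    have key : (Nat.card (RelT K) : ℤ) * c ^ 2 + 1 ≤
        ((K.subgroupOf (nz K)).index : ℤ) + 2 * εz * c := by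
      rw [← hsq, ← hsplit, hsqE, ← hsplit2]
      linarith
    have he1' : (1 : ℤ) ≤ ((K.subgroupOf (nz K)).index : ℤ) := by exact_mod_cast he1
    have hk1 := mul_nonneg (sub_nonneg.2 hte') (sq_nonneg c)
    have hk2 := mul_nonneg (le_trans zero_le_one he1') (sub_nonneg.2 hc2)
    rcases hεz with h2 | h2 <;> rw [h2] at key <;>
      nlinarith [sq_nonneg (c - 1), sq_nonneg (c + 1)]
  rw [hc0] at hsqE hx
  have hsum1 : ∑ ψ ∈ Eᶜ.erase ψ₁, b ψ ^ 2 = ((K.subgroupOf (nz K)).index : ℤ) - 1 := by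
    have : (Nat.card (RelT K) : ℤ) * 0 ^ 2 + (1 ^ 2 + ∑ ψ ∈ Eᶜ.erase ψ₁, b ψ ^ 2) =
        ((K.subgroupOf (nz K)).index : ℤ) + 2 * εz * c := by
      rw [← hsq, ← hsplit, hsqE, ← hsplit2]
    rw [hc0] at this
    linarith
  -- the degree equation
  have hdegE : ∑ ψ ∈ E, b ψ * (d ψ : ℤ) = 0 := by
    apply Finset.sum_eq_zero
    intro ψ hψ
    rw [(hE ψ hψ).1, hc0, zero_mul]
  have hsplitd := Finset.sum_add_sum_compl E (fun ψ => b ψ * (d ψ : ℤ))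
  have hsplitd2 := Finset.add_sum_erase Eᶜ (fun ψ => b ψ * (d ψ : ℤ)) h1c
  rw [hb1, hd1] at hsplitd2
  have hdeg1 : 1 + ∑ ψ ∈ Eᶜ.erase ψ₁, b ψ * (d ψ : ℤ) = εz * x := by
    rw [← hdeg, ← hsplitd, hdegE, ← hsplitd2]
    simp
  -- the set `S`
  set S : Finset (IrrCharacter G) := (Eᶜ.erase ψ₁).filter (fun ψ => b ψ ≠ 0) with hS
  have hSsq : ∑ ψ ∈ S, b ψ ^ 2 = ∑ ψ ∈ Eᶜ.erase ψ₁, b ψ ^ 2 := by
    rw [hS]
    apply Finset.sum_filter_of_ne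
    intro ψ _ hne h0
    apply hne
    rw [h0]
    ring
  have hSd : ∑ ψ ∈ S, b ψ * (d ψ : ℤ) = ∑ ψ ∈ Eᶜ.erase ψ₁, b ψ * (d ψ : ℤ) := by
    rw [hS]
    apply Finset.sum_filter_of_ne
    intro ψ _ hne h0
    apply hne
    rw [h0]
    ring
  have hSmem : ∀ ψ ∈ S, ψ ≠ ψ₁ ∧ ψ ∉ E ∧ b ψ ≠ 0 := by
    intro ψ hψ
    rw [hS, Finset.mem_filter, Finset.mem_erase, Finset.mem_compl] at hψ
    exact ⟨hψ.1.1, hψ.1.2, hψ.2⟩
  -- the sum of the squares of the degrees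
  have hE_ne : E.Nonempty := by
    rw [← Finset.card_pos, hEcard]
    omega
  obtain ⟨ψx, hψx⟩ := hE_ne
  have hdsq : Nat.card (RelT K) * x ^ 2 + 1 + ∑ ψ ∈ S, d ψ ^ 2 ≤ Nat.card G := by
    have hsum := Cfsg.Agent.Lib.H24.sum_irr_one_sq (G := G)
    have hsumN : ∑ ψ : IrrCharacter G, d ψ ^ 2 = Nat.card G := by
      have : ((∑ ψ : IrrCharacter G, d ψ ^ 2 : ℕ) : ℂ) = (Nat.card G : ℂ) := by
        rw [← hsum]
        push_cast
        refine Finset.sum_congr rfl fun ψ _ => ?_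
        rw [hd]
      exact_mod_cast this
    have hs1 := Finset.sum_add_sum_compl E (fun ψ => d ψ ^ 2)
    have hs2 := Finset.add_sum_erase Eᶜ (fun ψ => d ψ ^ 2) h1c
    rw [hd1] at hs2
    have hs3 : ∑ ψ ∈ E, d ψ ^ 2 = Nat.card (RelT K) * x ^ 2 := by
      rw [Finset.sum_congr rfl fun ψ hψ => by rw [(hE ψ hψ).2], Finset.sum_const, hEcard]
      simp
    have hs4 : ∑ ψ ∈ S, d ψ ^ 2 ≤ ∑ ψ ∈ Eᶜ.erase ψ₁, d ψ ^ 2 :=
      Finset.sum_le_sum_of_subset (Finset.filter_subset _ _)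
    rw [← hsumN, ← hs1, hs3, ← hs2]
    omega
  refine ⟨εz, x, b, d, S, hεz, hd, ⟨ψx, (hE ψx hψx).2⟩, ?_, ?_, ?_, ?_, ?_, hdsq⟩
  · intro ψ hψ
    obtain ⟨h1, -, h3⟩ := hSmem ψ hψ
    refine ⟨fun h => h1 (Subtype.ext h), h3⟩
  · rw [hSsq, hsum1]
  · rw [hSd, hdeg1]
  · intro ψ hψ
    exact hcong ψ (hSmem ψ hψ).2.1
  · obtain ⟨m, hm⟩ := hx
    exact ⟨m, by rw [hm]; ring⟩

end Cfsg.Agent.Lib.H24.BrP
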