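import Cfsg.Agent.Lib.H24.BrauerP1

/-!
# Irreducible characters of degree `|K| - 1` vanish on `N ∖ K` (helper24)

`K` an abelian T.I. subgroup with Frobenius normalizer `N` (`FrobTI K`), `e = |N : K| ≥ 2`,
`t = (|K| - 1) / e` with `t = 1` or `t ≥ 3`: an irreducible character `ψ` of `G` of degree
`|K| - 1` has `⟨(1_K)^N, ψ_N⟩ = 0`, hence vanishes on `N ∖ K`.
-/

set_option autoImplicit false
set_option linter.unusedSectionVars false

namespace Cfsg.Agent.Lib.H24.BrP

open Cfsg Cfsg.Agent.Lib.L0 Cfsg.Agent.Lib.L0.FrobTI Cfsg.Agent.Lib.H8 Cfsg.Agent.Lib.H4.Feit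
open scoped ComplexConjugate Classical

variable {G : Type*} [Group G] [Fintype G] {K : Subgroup G} [Fintype (nz K)]

/-- a character of the normalizer orthogonal to `π = (1_K)^N` vanishes off `K` -/
theorem vanish_of_pi_inner_zero (h : FrobTI K) (F : nz K → ℂ) (hF : IsCharacter (nz K) F)
    (h0 : classInner (piFun K) F = 0) (x : nz K) (hx : (x : G) ∉ K) : F x = 0 := by
  have : Fintype (IrrCharacter (nz K)) := Fintype.ofFinite _
  have hcf := isClassFunction_of_isCharacter hF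
  have hexp := Cfsg.Agent.Lib.H24.classFunction_expansion F hcf
  choose c hc using fun η : IrrCharacter (nz K) => classInner_char_irr_nat hF η.2
  choose d hdpos hd using fun η : IrrCharacter (nz K) => Cfsg.Agent.Lib.H24.irr_one_eq η
  have h2 : classInner (piFun K) F =
      ∑ η : IrrCharacter (nz K), (c η : ℂ) * classInner (piFun K) (η : nz K → ℂ) := by
    conv_lhs => rw [hexp]
    rw [classInner_sum_right]
    refine Finset.sum_congr rfl fun η _ => ?_
    rw [classInner_smul_right, hc, Complex.conj_natCast]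
  have h3 : ∀ η : IrrCharacter (nz K), (c η : ℂ) * classInner (piFun K) (η : nz K → ℂ) =
      ((if Rel K (η : nz K → ℂ) then 0 else c η * d η : ℕ) : ℂ) := by
    intro η
    split_ifs with hη
    · rw [piFun_inner_rel h η.2 hη]
      simp
    · rw [pi_inner_nonrel η.2 hη, hd]
      push_cast
      ring
  rw [h0, Finset.sum_congr rfl fun η _ => h3 η, ← Nat.cast_sum] at h2
  have h4 : ∑ η : IrrCharacter (nz K), (if Rel K (η : nz K → ℂ) then 0 else c η * d η) = 0 := by
    exact_mod_cast h2.symm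
  have h5 : ∀ η : IrrCharacter (nz K), ¬ Rel K (η : nz K → ℂ) → c η = 0 := by
    intro η hη
    have := (Finset.sum_eq_zero_iff.1 h4) η (Finset.mem_univ _)
    rw [if_neg hη] at this
    rcases Nat.mul_eq_zero.1 this with h6 | h6
    · exact h6
    · exact absurd h6 (hdpos η).ne'
  have h6 := congrFun hexp x
  rw [Finset.sum_apply] at h6
  rw [h6]
  apply Finset.sum_eq_zero
  intro η _
  rw [Pi.smul_apply, smul_eq_mul, hc]
  by_cases hη : Rel K (η : nz K → ℂ)
  · rw [h.vanish η.2 hη x hx, mul_zero]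
  · rw [h5 η hη]
    simp

/-- Parseval for `Ψ` -/
theorem Psi_parseval (h : FrobTI K) (hab : ∀ a ∈ K, ∀ b ∈ K, a * b = b * a) (D : Exc K)
    (ζ₀ : RelT K) [Fintype (IrrCharacter G)] (b : IrrCharacter G → ℤ)
    (hb : ∀ ψ : IrrCharacter G, classInner (D.Psi ζ₀) (ψ : G → ℂ) = b ψ) (εz : ℤ)
    (hεzc : (εz : ℂ) = D.ε) :
    ∑ ψ, b ψ ^ 2 = ((K.subgroupOf (nz K)).index : ℤ) + 2 * εz * b (D.f ζ₀) := by
  have hgen := D.Psi_genChar ζ₀
  have hnorm := D.Psi_norm h hab ζ₀ (b (D.f ζ₀)) (hb (D.f ζ₀))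
  rw [classInner_self_eq_sum _ (isClassFunction_of_isGeneralizedCharacter hgen)] at hnorm
  have : ((∑ ψ : IrrCharacter G, b ψ ^ 2 : ℤ) : ℂ) =
      ((((K.subgroupOf (nz K)).index : ℤ) + 2 * εz * b (D.f ζ₀) : ℤ) : ℂ) := by
    push_cast
    rw [hεzc, ← hnorm]
    refine Finset.sum_congr rfl fun ψ _ => ?_
    rw [hb, map_intCast]
    ring
  exact_mod_cast this

/-- Parseval for `Φ` -/
theorem Phi_parseval (h : FrobTI K) (hab : ∀ a ∈ K, ∀ b ∈ K, a * b = b * a) (D : Exc K)
    (ζ₀ : RelT K) [Fintype (IrrCharacter G)] (b : IrrCharacter G → ℤ)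
    (hb : ∀ ψ : IrrCharacter G, classInner (D.Phi ζ₀) (ψ : G → ℂ) = b ψ) :
    ∑ ψ, b ψ ^ 2 = ((K.subgroupOf (nz K)).index : ℤ) + 1 := by
  have hgen := D.Phi_genChar ζ₀
  have hnorm := D.Phi_norm h hab ζ₀
  rw [classInner_self_eq_sum _ (isClassFunction_of_isGeneralizedCharacter hgen)] at hnorm
  have : ((∑ ψ : IrrCharacter G, b ψ ^ 2 : ℤ) : ℂ) =
      ((((K.subgroupOf (nz K)).index : ℤ) + 1 : ℤ) : ℂ) := by
    push_cast
    rw [← hnorm]
    refine Finset.sum_congr rfl fun ψ _ => ?_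
    rw [hb, map_intCast]
    ring
  exact_mod_cast this

end Cfsg.Agent.Lib.H24.BrP
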