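import Cfsg.Agent.Lib.H24.BrauerP5

/-!
# Irreducible characters of degree `|K| - 1`, continued (helper24)
-/

set_option autoImplicit false
set_option linter.unusedSectionVars false

namespace Cfsg.Agent.Lib.H24.BrP

open Cfsg Cfsg.Agent.Lib.L0 Cfsg.Agent.Lib.L0.FrobTI Cfsg.Agent.Lib.H8 Cfsg.Agent.Lib.H4.Feit
open scoped ComplexConjugate Classical

variable {G : Type*} [Group G] [Fintype G] {K : Subgroup G} [Fintype (nz K)]

/-- the case of one relevant character -/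
theorem pi_inner_eq_zero_of_degree_one (h : FrobTI K) (hab : ∀ a ∈ K, ∀ b ∈ K, a * b = b * a)
    (ht : Nat.card (RelT K) = 1) (he : 2 ≤ (K.subgroupOf (nz K)).index)
    (ψ : IrrCharacter G) (hdeg : (ψ : G → ℂ) 1 = (Nat.card K : ℂ) - 1) :
    classInner (piFun K) (fun x : nz K => (ψ : G → ℂ) x) = 0 := by
  have : Fintype (IrrCharacter G) := Fintype.ofFinite _
  have : Fintype (RelT K) := Fintype.ofFinite _
  have : Fintype (IrrCharacter (nz K)) := Fintype.ofFinite _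
  obtain ⟨D⟩ := exc_nonempty h hab
  have hne : Nonempty (RelT K) := by
    rw [← Finite.card_pos_iff]
    omega
  obtain ⟨ζ₀⟩ := hne
  have huniv : (Finset.univ : Finset (RelT K)) = {ζ₀} := by
    rw [Nat.card_eq_fintype_card, Fintype.card_eq_one_iff] at ht
    obtain ⟨z, hz⟩ := ht
    ext ζ
    simp [hz ζ, hz ζ₀]
  have hK := card_K_eq h hab
  rw [ht, one_mul] at hK
  set e := (K.subgroupOf (nz K)).index with hedef
  have hgen := D.Phi_genChar ζ₀
  choose b hb using fun ψ : IrrCharacter G => genChar_classInner_irr_int hgen ψ.2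
  have hpars := Phi_parseval h hab D ζ₀ b hb
  have hFchar : IsCharacter (nz K) (fun x : nz K => (ψ : G → ℂ) x) :=
    isCharacter_restrict _ (isCharacter_of_irr ψ.2)
  obtain ⟨p, hp⟩ := classInner_char_char_nat (piFun_isCharacter K) hFchar
  obtain ⟨m, hm⟩ := classInner_irr_char_nat hFchar ζ₀.1.2
  have hbψ : b ψ = (p : ℤ) - m := by
    have h1 := D.Phi_inner ζ₀ (ψ : G → ℂ) (isClassFunction_of_isCharacter (isCharacter_of_irr ψ.2))
    rw [hb, hp, hm] at h1
    exact_mod_cast h1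
  have hdegN : e = p + e * m := by
    have h1 := char_expand h hab _ hFchar
    change (ψ : G → ℂ) 1 = _ at h1
    rw [hdeg, hp, huniv, Finset.sum_singleton, hm, ← hK] at h1
    have h2 : ((e : ℕ) : ℂ) = ((p + e * m : ℕ) : ℂ) := by
      push_cast
      rw [← h1]
      push_cast
      ring
    exact_mod_cast h2
  -- the trivial character
  set ψ₁ : IrrCharacter G := ⟨1, Cfsg.Agent.Lib.L0.isIrrCharacter_one⟩ with hψ₁
  have hb1 : b ψ₁ = 1 := by
    have := D.Phi_one ζ₀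
    have h2 := hb ψ₁
    rw [hψ₁] at h2
    simp only at h2
    rw [this] at h2
    exact_mod_cast h2.symm
  have hne1 : ψ ≠ ψ₁ := by
    intro h1
    have h2 : (ψ : G → ℂ) 1 = 1 := by rw [h1, hψ₁]; rfl
    rw [hdeg, ← hK] at h2
    have h3 : ((e : ℕ) : ℂ) = ((1 : ℕ) : ℂ) := by
      push_cast
      rw [← h2]
      push_cast
      ring
    have : e = 1 := by exact_mod_cast h3
    omega
  have hle : b ψ₁ ^ 2 + b ψ ^ 2 ≤ ∑ ψ, b ψ ^ 2 := by
    have hsub : ({ψ₁, ψ} : Finset (IrrCharacter G)) ⊆ Finset.univ := Finset.subset_univ _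
    have := Finset.sum_le_sum_of_subset_of_nonneg hsub
      (f := fun ψ => b ψ ^ 2) (fun i _ _ => sq_nonneg (b i))
    rw [Finset.sum_pair (Ne.symm hne1)] at this
    exact this
  rw [hpars, hb1, hbψ] at hle
  have hm1 : m = 1 := by
    rcases Nat.lt_or_ge m 1 with h1 | h1
    · exfalso
      have hm0 : m = 0 := by omega
      rw [hm0] at hdegN hle
      have hpe : p = e := by omega
      rw [hpe] at hle
      push_cast at hle
      have he' : (2 : ℤ) ≤ (e : ℤ) := by exact_mod_cast he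
      nlinarith
    · rcases Nat.lt_or_ge m 2 with h2 | h2
      · omega
      · exfalso
        have : e * 2 ≤ e * m := Nat.mul_le_mul_left e h2
        omega
  rw [hm1] at hdegN
  have hp0 : p = 0 := by omega
  rw [hp, hp0]
  simp


/-- the case of at least three relevant characters -/
theorem pi_inner_eq_zero_of_degree_ge (h : FrobTI K) (hab : ∀ a ∈ K, ∀ b ∈ K, a * b = b * a)
    (ht : 3 ≤ Nat.card (RelT K)) (he : 2 ≤ (K.subgroupOf (nz K)).index)
    (ψ : IrrCharacter G) (hdeg : (ψ : G → ℂ) 1 = (Nat.card K : ℂ) - 1) :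
    classInner (piFun K) (fun x : nz K => (ψ : G → ℂ) x) = 0 := by
  have : Fintype (IrrCharacter G) := Fintype.ofFinite _
  have : Fintype (RelT K) := Fintype.ofFinite _
  have : Fintype (IrrCharacter (nz K)) := Fintype.ofFinite _
  obtain ⟨D⟩ := exc_nonempty h hab
  have ht2 : 2 ≤ Nat.card (RelT K) := by omega
  have hne : Nonempty (RelT K) := by
    rw [← Finite.card_pos_iff]
    omega
  obtain ⟨ζ₀⟩ := hne
  have hK := card_K_eq h hab
  have hgen := D.Psi_genChar ζ₀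
  choose b hb using fun ψ : IrrCharacter G => genChar_classInner_irr_int hgen ψ.2
  obtain ⟨εz, hεz, hεzc⟩ := D.exists_epsZ
  have hpars := Psi_parseval h hab D ζ₀ b hb εz hεzc
  -- the exceptional characters
  set E : Finset (IrrCharacter G) := Finset.univ.image D.f with hE
  have hEcard : E.card = Nat.card (RelT K) := by
    rw [hE, Finset.card_image_of_injective _ D.hinj, Finset.card_univ, Nat.card_eq_fintype_card]
  have hmemE : ∀ ψ, ψ ∈ E ↔ ∃ ζ, D.f ζ = ψ := by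
    intro ψ
    rw [hE, Finset.mem_image]
    constructor
    · rintro ⟨ζ, -, hζ⟩
      exact ⟨ζ, hζ⟩
    · rintro ⟨ζ, hζ⟩
      exact ⟨ζ, Finset.mem_univ _, hζ⟩
  have hbE : ∀ ψ ∈ E, b ψ = b (D.f ζ₀) := by
    intro ψ hψ
    obtain ⟨ζ, rfl⟩ := (hmemE ψ).1 hψ
    have := hb (D.f ζ)
    rw [D.Psi_f h hab ζ₀ ζ, hb (D.f ζ₀)] at this
    exact_mod_cast this.symm
  set ψ₁ : IrrCharacter G := ⟨1, Cfsg.Agent.Lib.L0.isIrrCharacter_one⟩ with hψ₁
  have h1E : ψ₁ ∉ E := by
    intro hmem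
    obtain ⟨ζ, hζ⟩ := (hmemE ψ₁).1 hmem
    exact D.f_ne_one ht2 ζ (by rw [hζ])
  have hb1 : b ψ₁ = 1 := by
    have := D.Psi_one ht2 ζ₀
    have h2 := hb ψ₁
    rw [hψ₁] at h2
    simp only at h2
    rw [this] at h2
    exact_mod_cast h2.symm
  have h1c : ψ₁ ∈ Eᶜ := Finset.mem_compl.2 h1E
  have hsqE : ∑ ψ ∈ E, b ψ ^ 2 = (Nat.card (RelT K) : ℤ) * b (D.f ζ₀) ^ 2 := by
    rw [Finset.sum_congr rfl fun ψ hψ => by rw [hbE ψ hψ], Finset.sum_const, hEcard]
    simp
  have hsplit := Finset.sum_add_sum_compl E (fun ψ => b ψ ^ 2)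
  have hsplit2 := Finset.add_sum_erase Eᶜ (fun ψ => b ψ ^ 2) h1c
  rw [hb1] at hsplit2
  have hnonneg : 0 ≤ ∑ ψ ∈ Eᶜ.erase ψ₁, b ψ ^ 2 := Finset.sum_nonneg fun ψ _ => by positivity
  -- restriction data
  have hFchar : IsCharacter (nz K) (fun x : nz K => (ψ : G → ℂ) x) :=
    isCharacter_restrict _ (isCharacter_of_irr ψ.2)
  obtain ⟨p, hp⟩ := classInner_char_char_nat (piFun_isCharacter K) hFchar
  have hmult : ∀ ζ : RelT K, ∃ m : ℕ, (m : ℤ) = (p : ℤ) - b ψ + εz * (if D.f ζ = ψ then 1 else 0) := by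
    intro ζ
    obtain ⟨m, hm⟩ := classInner_irr_char_nat hFchar ζ.1.2
    refine ⟨m, ?_⟩
    have h1 := D.Psi_inner_irr ζ₀ ζ ψ
    rw [hb, hp, hm, ← hεzc] at h1
    have h2 : ((m : ℤ) : ℂ) = (((p : ℤ) - b ψ + εz * (if D.f ζ = ψ then 1 else 0) : ℤ) : ℂ) := by
      push_cast
      linear_combination h1
    exact_mod_cast h2
  have hdf := degree_formula h hab D ζ₀ ψ p hp
  rw [hdeg, hb, ← hεzc, ← Nat.card_eq_fintype_card] at hdf
  have hdfZ : (Nat.card K : ℤ) - 1 = (p : ℤ) + ((K.subgroupOf (nz K)).index : ℤ) *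
      ((Nat.card (RelT K) : ℤ) * ((p : ℤ) - b ψ) +
        εz * ((Finset.univ.filter (fun ζ : RelT K => D.f ζ = ψ)).card : ℤ)) := by
    have h2 : (((Nat.card K : ℤ) - 1 : ℤ) : ℂ) = (((p : ℤ) + ((K.subgroupOf (nz K)).index : ℤ) *
      ((Nat.card (RelT K) : ℤ) * ((p : ℤ) - b ψ) +
        εz * ((Finset.univ.filter (fun ζ : RelT K => D.f ζ = ψ)).card : ℤ)) : ℤ) : ℂ) := by
      push_cast
      rw [hdf]
    exact_mod_cast h2
  -- integer variables
  obtain ⟨e, hedef⟩ : ∃ e : ℤ, e = ((K.subgroupOf (nz K)).index : ℤ) := ⟨_, rfl⟩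
  obtain ⟨t, htdef⟩ : ∃ t : ℤ, t = (Nat.card (RelT K) : ℤ) := ⟨_, rfl⟩
  obtain ⟨c, hcdef⟩ : ∃ c : ℤ, c = b (D.f ζ₀) := ⟨_, rfl⟩
  obtain ⟨P, hPdef⟩ : ∃ P : ℤ, P = (p : ℤ) := ⟨_, rfl⟩
  have hP0 : 0 ≤ P := by rw [hPdef]; positivity
  have hKZ : (Nat.card K : ℤ) = t * e + 1 := by
    rw [htdef, hedef, ← hK]
    push_cast
    ring
  have he2 : 2 ≤ e := by rw [hedef]; exact_mod_cast he
  have ht3 : 3 ≤ t := by rw [htdef]; exact_mod_cast ht
  rw [← hedef, ← hcdef] at hpars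
  rw [← htdef, ← hcdef] at hsqE
  rw [hKZ, ← hedef, ← htdef, ← hPdef] at hdfZ
  have hsumall : 1 + t * c ^ 2 + ∑ ψ ∈ Eᶜ.erase ψ₁, b ψ ^ 2 = e + 2 * εz * c := by
    rw [← hpars, ← hsplit, hsqE, ← hsplit2]
    ring
  have hP_goal : P = 0 → classInner (piFun K) (fun x : nz K => (ψ : G → ℂ) x) = 0 := by
    intro hP
    rw [hp]
    have : p = 0 := by
      rw [hPdef] at hP
      exact_mod_cast hP
    rw [this]
    simp
  have he0 : 0 ≤ e := by linarith
  have ht0 : 0 ≤ t := by linarith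
  have hte6 : 6 ≤ t * e := by nlinarith [mul_nonneg (sub_nonneg.2 ht3) (sub_nonneg.2 he2)]
  have hte3 : 3 * e ≤ t * e := by nlinarith [mul_nonneg (sub_nonneg.2 ht3) he0]
  have htc : 3 * c ^ 2 ≤ t * c ^ 2 := by nlinarith [mul_nonneg (sub_nonneg.2 ht3) (sq_nonneg c)]
  apply hP_goal
  by_cases hψE : ψ ∈ E
  · -- the exceptional case
    exfalso
    obtain ⟨ζ₁, hζ₁⟩ := (hmemE ψ).1 hψE
    have hbψ : b ψ = c := by rw [hcdef]; exact hbE ψ hψE
    have hfilter : Finset.univ.filter (fun ζ : RelT K => D.f ζ = ψ) = {ζ₁} := by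
      ext ζ
      simp only [Finset.mem_filter, Finset.mem_univ, true_and, Finset.mem_singleton]
      constructor
      · intro h1
        exact D.hinj (h1.trans hζ₁.symm)
      · intro h1
        rw [h1, hζ₁]
    rw [hfilter, Finset.card_singleton, hbψ] at hdfZ
    push_cast at hdfZ
    obtain ⟨ζ₂, hζ₂⟩ : ∃ ζ₂ : RelT K, ζ₂ ≠ ζ₁ := by
      by_contra hcon
      push Not at hcon
      have : Nat.card (RelT K) ≤ 1 := by
        haveI : Subsingleton (RelT K) := ⟨fun a b => (hcon a).trans (hcon b).symm⟩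
        exact Finite.card_le_one_iff_subsingleton.2 inferInstance
      omega
    obtain ⟨m₁, hm₁⟩ := hmult ζ₁
    obtain ⟨m₂, hm₂⟩ := hmult ζ₂
    rw [if_pos hζ₁, hbψ, ← hPdef] at hm₁
    rw [if_neg (fun h1 => hζ₂ (D.hinj (h1.trans hζ₁.symm))), hbψ, ← hPdef] at hm₂
    have hq0 : 0 ≤ P - c := by
      have : (0 : ℤ) ≤ (m₂ : ℤ) := by positivity
      linarith
    have hq1 : 0 ≤ P - c + εz := by
      have : (0 : ℤ) ≤ (m₁ : ℤ) := by positivity
      linarith
    have hpars2 : 1 + t * c ^ 2 ≤ e + 2 * εz * c := by linarith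
    obtain ⟨q, hq⟩ : ∃ q : ℤ, q = P - c := ⟨_, rfl⟩
    have hcq : c = P - q := by rw [hq]; ring
    rw [← hq] at hq0 hq1 hdfZ
    rcases hεz with h2 | h2
    · rw [h2] at hdfZ hq1 hpars2
      -- t e = P + e (t q + 1)
      have hq01 : q = 0 := by
        by_contra hne0
        have hq1' : 1 ≤ q := by omega
        have h3 : 0 ≤ e * t * (q - 1) := mul_nonneg (mul_nonneg he0 ht0) (by linarith)
        nlinarith
      rw [hq01] at hdfZ hcq
      have hP : P = e * (t - 1) := by linarith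
      have hc : c = e * (t - 1) := by rw [hcq, hP]; ring
      have hc2 : 2 * e ≤ c := by rw [hc]; nlinarith
      have hc4 : 4 ≤ c := by linarith
      have hc5 : 4 * c ≤ c ^ 2 := by nlinarith
      nlinarith
    · rw [h2] at hdfZ hq1 hpars2
      -- t e = P + e (t q - 1)
      have hq1' : 1 ≤ q := by omega
      have hq11 : q = 1 := by
        by_contra hne1
        have hq2 : 2 ≤ q := by omega
        have h3 : 0 ≤ e * t * (q - 2) := mul_nonneg (mul_nonneg he0 ht0) (by linarith)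
        nlinarith
      rw [hq11] at hdfZ hcq
      have hP : P = e := by linarith
      have hc : c = e - 1 := by rw [hcq, hP]
      rw [hc] at hpars2
      have h3 : 0 ≤ t * (e - 1) ^ 2 := mul_nonneg ht0 (sq_nonneg _)
      nlinarith
  · -- the non-exceptional case
    have hfilter : Finset.univ.filter (fun ζ : RelT K => D.f ζ = ψ) = ∅ := by
      rw [Finset.filter_eq_empty_iff]
      intro ζ _ hζ
      exact hψE ((hmemE ψ).2 ⟨ζ, hζ⟩)
    rw [hfilter, Finset.card_empty] at hdfZ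
    push_cast at hdfZ
    obtain ⟨m₀, hm₀⟩ := hmult ζ₀
    rw [if_neg (fun h1 => hψE ((hmemE ψ).2 ⟨ζ₀, h1⟩)), ← hPdef] at hm₀
    have hq0 : 0 ≤ P - b ψ := by
      have : (0 : ℤ) ≤ (m₀ : ℤ) := by positivity
      linarith
    obtain ⟨q, hq⟩ : ∃ q : ℤ, q = P - b ψ := ⟨_, rfl⟩
    rw [← hq] at hq0 hdfZ
    have hbq : b ψ = P - q := by rw [hq]; ring
    -- t e = P + e t q
    have hne1 : ψ ≠ ψ₁ := by
      intro h1
      have h2 : (ψ : G → ℂ) 1 = 1 := by rw [h1, hψ₁]; rfl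
      rw [hdeg] at h2
      have h3 : (((Nat.card K : ℤ) - 1 : ℤ) : ℂ) = ((1 : ℤ) : ℂ) := by
        push_cast
        rw [h2]
      have h4 : (Nat.card K : ℤ) - 1 = 1 := by exact_mod_cast h3
      rw [hKZ] at h4
      linarith
    have hmem : ψ ∈ Eᶜ.erase ψ₁ := by
      rw [Finset.mem_erase, Finset.mem_compl]
      exact ⟨hne1, hψE⟩
    have hle : b ψ ^ 2 ≤ ∑ ψ ∈ Eᶜ.erase ψ₁, b ψ ^ 2 :=
      Finset.single_le_sum (f := fun ψ => b ψ ^ 2) (fun i _ => sq_nonneg (b i)) hmem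
    have hq1 : q = 1 := by
      by_contra hne
      rcases lt_or_gt_of_ne hne with h1 | h1
      · have hq00 : q = 0 := by omega
        rw [hq00] at hdfZ hbq
        have hP : P = t * e := by linarith
        rw [hbq, hP] at hle
        have hc1 : -1 ≤ t * c ^ 2 - 2 * εz * c := by
          rcases hεz with h2 | h2 <;> rw [h2] <;> nlinarith [sq_nonneg (c - 1), sq_nonneg (c + 1)]
        have h5 : (t * e - 0) ^ 2 ≤ e := by linarith
        have h6 : 6 * (t * e) ≤ (t * e - 0) ^ 2 := by nlinarith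
        nlinarith
      · have hq2 : 2 ≤ q := by omega
        have h3 : 0 ≤ e * t * (q - 2) := mul_nonneg (mul_nonneg he0 ht0) (by linarith)
        nlinarith
    rw [hq1] at hdfZ
    linarith

end Cfsg.Agent.Lib.H24.BrP
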