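import Mathlib
import Cfsg.Prelude.Def_ChevStructure
import Cfsg.Agent.Lib.H29.ChevAut1
import Cfsg.Agent.Lib.H29.BtDefs2

/-!
# S2154 stage 2, piece CLO : the admissible functionals form a closed set; a minimiser of `Q` (helper24)

Exact signatures of `tools/blueprints/S2154_sigs2.lean`: `isClosed_adm`, `exists_minimiser`.
-/

set_option autoImplicit false
set_option linter.unusedSectionVars false
set_option linter.unusedVariables false

namespace Cfsg.Agent.Lib.H24.BT2

open Cfsg.Lie Matrix Cfsg.Agent.Lib.H29.BT Cfsg.Agent.Lib.H29.Chev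

variable {D : ChevalleyDatum} {fd : FD} {fx : FX} {fc : FC} {fz : FZ} {F : Type*} [Field F]

theorem clo_continuous_omrR (s : ℕ) : Continuous fun a : Fin fd.l → ℝ => fd.omrR fx a s := by
  unfold FD.omrR
  exact continuous_finsetSum _ fun j _ => (continuous_apply j).mul continuous_const

theorem clo_continuous_QR : Continuous (fd.QR fx) := by
  unfold FD.QR
  exact continuous_finsetSum _ fun s _ => (clo_continuous_omrR s).pow 2

theorem clo_continuous_wR (i : D.Idx) : Continuous fun a : Fin fd.l → ℝ => wR D fd fx a i := by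
  unfold wR FD.omR
  exact continuous_finsetSum _ fun j _ => (continuous_apply j).mul continuous_const

theorem clo_omrR_simple (C : Cert12 D fd fx fc fz) (a : Fin fd.l → ℝ) (j : Fin fd.l) :
    fd.omrR fx a (fd.simples.getD j.val 0) = a j := by
  unfold FD.omrR
  rw [Finset.sum_eq_single j]
  · rw [(fd.simple_spec C.c6.c2.simple j.val j.isLt).2.1 j.val j.isLt]
    simp
  · intro k _ hkj
    rw [(fd.simple_spec C.c6.c2.simple j.val j.isLt).2.1 k.val k.isLt]
    have : j.val ≠ k.val := fun h => hkj (Fin.ext h.symm)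
    simp [this]
  · intro h
    exact absurd (Finset.mem_univ j) h

theorem clo_sq_le_QR (C : Cert12 D fd fx fc fz) (a : Fin fd.l → ℝ) (j : Fin fd.l) :
    (a j) ^ 2 ≤ fd.QR fx a := by
  unfold FD.QR
  have hmem : fd.simples.getD j.val 0 ∈ Finset.range fd.n :=
    Finset.mem_range.mpr (fd.simple_spec C.c6.c2.simple j.val j.isLt).1
  have := Finset.single_le_sum (f := fun s => (fd.omrR fx a s) ^ 2)
    (fun s _ => sq_nonneg _) hmem
  rw [clo_omrR_simple C a j] at this
  exact this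

section fin
variable [Finite F]

theorem isClosed_adm (V : Subgroup (GL D.Idx F)) :
    IsClosed {a : Fin fd.l → ℝ | ∃ g ∈ D.group F, ∀ v ∈ V, g⁻¹ * v * g ∈ UWG (wR D fd fx a)} := by
  have hset : {a : Fin fd.l → ℝ | ∃ g ∈ D.group F, ∀ v ∈ V, g⁻¹ * v * g ∈ UWG (wR D fd fx a)} =
      ⋃ g ∈ (D.group F : Set (GL D.Idx F)), ⋂ v ∈ (V : Set (GL D.Idx F)),
        {a : Fin fd.l → ℝ | ((g⁻¹ * v * g : GL D.Idx F) : Matrix D.Idx D.Idx F) ∈ UW (wR D fd fx a)} := by
    ext a
    simp only [Set.mem_ofPred_eq, Set.mem_iUnion, Set.mem_iInter, SetLike.mem_coe, exists_prop]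
    rfl
  rw [hset]
  refine Set.Finite.isClosed_biUnion (Set.toFinite _) fun g _ => ?_
  refine isClosed_iInter fun v => isClosed_iInter fun _ => ?_
  exact isClosed_UW fd.l (fun a => wR D fd fx a) (fun i => clo_continuous_wR i) _

theorem exists_minimiser (C : Cert12 D fd fx fc fz) (V : Subgroup (GL D.Idx F))
    (hne : ∃ a : Fin fd.l → ℝ, ∃ g ∈ D.group F, ∀ v ∈ V, g⁻¹ * v * g ∈ UWG (wR D fd fx a)) :
    ∃ a : Fin fd.l → ℝ, (∃ g ∈ D.group F, ∀ v ∈ V, g⁻¹ * v * g ∈ UWG (wR D fd fx a)) ∧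
      ∀ b : Fin fd.l → ℝ, (∃ g ∈ D.group F, ∀ v ∈ V, g⁻¹ * v * g ∈ UWG (wR D fd fx b)) →
        fd.QR fx a ≤ fd.QR fx b := by
  obtain ⟨a, ha, hmin⟩ := exists_min fd.l (fd.QR fx) clo_continuous_QR (fun x j => clo_sq_le_QR C x j)
    {a : Fin fd.l → ℝ | ∃ g ∈ D.group F, ∀ v ∈ V, g⁻¹ * v * g ∈ UWG (wR D fd fx a)}
    (isClosed_adm V) hne
  exact ⟨a, ha, fun b hb => hmin b hb⟩

end fin

end Cfsg.Agent.Lib.H24.BT2
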