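import Mathlib
import Cfsg.Agent.Lib.H5.CS4a
import Cfsg.Agent.Lib.H7.Coprime

set_option autoImplicit false

/-!
# S4146, task T7 (helper24 for helper5): the final contradiction without good elements
-/

namespace Cfsg.Agent.Lib.H5.CS4

open Cfsg.Agent.Lib.H20.BHM (cs)
open Subgroup

variable {G : Type*} [Group G] [Finite G] {n m : ℕ}

omit [Finite G] in
/-- the cyclic group generated by a `p`-element is a `p`-group -/
theorem t7_isPGroup_zpowers {p : ℕ} {g : G} (h : PE p g) (hp : p.Prime) :
    IsPGroup p (zpowers g) := by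
  haveI : Fact p.Prime := ⟨hp⟩
  rw [IsPGroup.iff_orderOf]
  intro x
  obtain ⟨k, hk⟩ := (h.of_mem_zpowers x.2).orderOf_eq hp
  exact ⟨k, by rw [← hk, Subgroup.orderOf_coe]⟩

omit [Finite G] in
/-- cyclic groups generated by commuting elements centralise each other -/
theorem t7_zpowers_le_centralizer_zpowers {a b : G} (h : Commute a b) :
    zpowers a ≤ centralizer (zpowers b : Set G) := by
  rw [zpowers_le, mem_centralizer_iff]
  intro x hx
  obtain ⟨j, rfl⟩ := mem_zpowers_iff.1 hx
  exact ((h.zpow_right j).eq).symm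

/-- T7 (B4): the final contradiction without good elements. -/
theorem Hyp.false_of_commute (H : Hyp G n m) (hnm : m < n) (hng : NoGood G n m)
    (hM : ∀ a ∈ H.M hnm, ∀ b ∈ H.M hnm, Commute a b)
    (hI : ∀ x h : G, cs x = n → cs h = m → Commute x h) : False := by
  classical
  have hnpos : 0 < n := by have := H.hn; omega
  -- a prime `q` dividing `m`, and a `q`-element `g` of class size `n * m`
  obtain ⟨q, hq, hqm⟩ := Nat.exists_prime_and_dvd H.hm.ne'
  have : Fact q.Prime := ⟨hq⟩
  obtain ⟨h0, hh0⟩ := H.ex_m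
  obtain ⟨S⟩ : Nonempty (Sylow q G) := inferInstance
  have hS : ¬ (S : Subgroup G) ≤ centralizer ({h0} : Set G) := by
    intro hle
    have h1 : (centralizer ({h0} : Set G)).index ∣ (S : Subgroup G).index :=
      Subgroup.index_dvd_of_le hle
    have h2 : ¬ q ∣ (S : Subgroup G).index := S.not_dvd_index
    have h3 : q ∣ (centralizer ({h0} : Set G)).index := by
      have : cs h0 = (centralizer ({h0} : Set G)).index := rfl
      rw [← this, hh0]
      exact hqm
    exact h2 (h3.trans h1)
  obtain ⟨g, hgS, hg0⟩ := SetLike.not_le_iff_exists.mp hS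
  have hgh0 : ¬ Commute g h0 := by rwa [mem_centralizer_singleton_comm] at hg0
  have hgq : PE q g := pe_of_mem S.isPGroup' hgS
  have hcsg : cs g = n * m := by
    rcases H.mem g with h | h | h | h
    · exfalso
      have hz := (Cfsg.Agent.Lib.H20.BHM.cs_eq_one_iff g).1 h
      exact hgh0 ((mem_center_iff.1 hz h0).symm)
    · exfalso
      exact hgh0 (hI g h0 h hh0)
    · exfalso
      exact hng.1 q hq hqm g h hgq
    · exact h
  -- a prime-power part `y` of `h0` not commuting with `g`
  obtain ⟨t, ht, y, hy, hyt, hyg⟩ := exists_pe_part (centralizer ({g} : Set G)) _ h0 rfl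
    (by rw [mem_centralizer_singleton_comm]; exact fun h => hgh0 h.symm)
  have : Fact t.Prime := ⟨ht⟩
  have hyg' : ¬ Commute y g := by rwa [mem_centralizer_singleton_comm] at hyg
  have hyZ : y ∉ center G := fun h => hyg' ((mem_center_iff.1 h g).symm)
  have hcsy : cs y = m := H.cs_of_mem_zpowers_m hh0 hy hyZ
  have htm : ¬ t ∣ m := fun h => hng.1 t ht h y hcsy hyt
  have htnm : t ∣ n * m := by
    by_contra h
    exact hyZ (H.central_of_pe h hyt)
  have htn : t ∣ n := (ht.dvd_mul.1 htnm).resolve_right htm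
  have htq : t ≠ q := by
    rintro rfl
    exact htm hqm
  -- the `t`-elements of `M`
  let Mt : Subgroup G :=
    { carrier := {a | a ∈ H.M hnm ∧ PE t a}
      one_mem' := ⟨one_mem _, PE.one t⟩
      mul_mem' := fun {a b} ha hb => ⟨mul_mem ha.1 hb.1, ha.2.mul hb.2 (hM _ ha.1 _ hb.1)⟩
      inv_mem' := fun {a} ha => ⟨inv_mem ha.1, ha.2.inv⟩ }
  have hMt_mem : ∀ a : G, a ∈ Mt ↔ a ∈ H.M hnm ∧ PE t a := fun a => Iff.rfl
  have hMt_p : IsPGroup t Mt := by
    rintro ⟨a, ha⟩
    obtain ⟨k, hk⟩ := ha.2
    exact ⟨k, Subtype.ext (by simpa using hk)⟩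
  have hMt_normal : Mt.Normal := by
    constructor
    intro b hb a
    exact ⟨(H.M_normal hnm).conj_mem b hb.1 a, hb.2.conj a⟩
  have hyMt : y ∈ Mt := ⟨Or.inr hcsy, hyt⟩
  -- every `t`-element of `C(g)` lies in `Mt`
  have hclaim : ∀ r : G, Commute r g → PE t r → r ∈ Mt := by
    intro r hrg hrt
    by_contra hrM
    have hrM' : r ∉ H.M hnm := fun h => hrM ⟨h, hrt⟩
    have hcsr : cs r = n * m := by
      rcases H.mem r with h | h | h | h
      · exact absurd (Or.inl h) hrM'
      · exact absurd hrt (hng.2 t ht htn r h)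
      · exact absurd (Or.inr h) hrM'
      · exact h
    have hcop : (orderOf r).Coprime (orderOf g) := hrt.coprime_of_ne hgq ht hq htq
    have hle := H.centralizer_le_of_nm hcsr hrg hcop
    have heq : centralizer ({r} : Set G) = centralizer ({g} : Set G) :=
      Cfsg.Agent.Lib.H20.eq_of_le_of_index_eq hle (hcsr.trans hcsg.symm)
    have hA : (Nat.card (zpowers g)).Coprime t := by
      rw [Nat.card_zpowers]
      obtain ⟨k, hk⟩ := hgq.orderOf_eq hq
      rw [hk]
      exact Nat.Coprime.pow_left k ((Nat.coprime_primes hq ht).2 (Ne.symm htq))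
    have hAB : ⁅zpowers g, zpowers r⁆ = ⊥ := by
      rw [commutator_eq_bot_iff_le_centralizer]
      exact t7_zpowers_le_centralizer_zpowers hrg.symm
    have hC : ⁅zpowers g, Mt ⊓ centralizer (zpowers r : Set G)⁆ = ⊥ := by
      rw [commutator_eq_bot_iff_le_centralizer, zpowers_le, mem_centralizer_iff]
      intro u hu
      have hur : u ∈ centralizer ({r} : Set G) := by
        rw [mem_centralizer_singleton_iff]
        exact ((mem_centralizer_iff.1 (mem_inf.1 hu).2) r (mem_zpowers r)).symm
      rw [heq, mem_centralizer_singleton_iff] at hur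
      exact hur
    have hth := Cfsg.Agent.Lib.H7.thompson_AxB' t (A := zpowers g) (B := zpowers r) (Q := Mt)
      hMt_p (t7_isPGroup_zpowers hrt ht) hA hAB
      (by rw [normalizer_eq_top]; exact le_top) (by rw [normalizer_eq_top]; exact le_top) hC
    rw [commutator_eq_bot_iff_le_centralizer] at hth
    have hgc := hth (mem_zpowers g)
    rw [mem_centralizer_iff] at hgc
    exact hyg' (hgc y hyMt)
  -- counting
  obtain ⟨x, hx⟩ := H.ex_n
  have hMtx : Mt ≤ centralizer ({x} : Set G) := by
    intro a ha
    rw [mem_centralizer_singleton_comm]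
    rcases ha.1 with h | h
    · have hz := (Cfsg.Agent.Lib.H20.BHM.cs_eq_one_iff a).1 h
      exact (mem_center_iff.1 hz x).symm
    · exact (hI x a hx h).symm
  obtain ⟨e, he⟩ := IsPGroup.iff_card.1 hMt_p
  have hd1 : t ^ e ∣ Nat.card (centralizer ({x} : Set G)) := he ▸ card_dvd_of_le hMtx
  have hcx : Nat.card (centralizer ({x} : Set G)) * n = Nat.card G := by
    have := Subgroup.card_mul_index (centralizer ({x} : Set G))
    rwa [show (centralizer ({x} : Set G)).index = n from hx] at this
  have hcg : Nat.card (centralizer ({g} : Set G)) * (n * m) = Nat.card G := by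
    have := Subgroup.card_mul_index (centralizer ({g} : Set G))
    rwa [show (centralizer ({g} : Set G)).index = n * m from hcsg] at this
  have hcxg : Nat.card (centralizer ({x} : Set G)) = Nat.card (centralizer ({g} : Set G)) * m := by
    have : Nat.card (centralizer ({x} : Set G)) * n
        = Nat.card (centralizer ({g} : Set G)) * m * n := by
      rw [hcx, ← hcg]; ring
    exact Nat.eq_of_mul_eq_mul_right hnpos this
  have hd2 : t ^ e ∣ Nat.card (centralizer ({g} : Set G)) := by
    rw [hcxg] at hd1
    exact (Nat.Coprime.pow_left e ((Nat.Prime.coprime_iff_not_dvd ht).2 htm)).dvd_of_dvd_mul_right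
      hd1
  obtain ⟨K, hK⟩ := Sylow.exists_subgroup_card_pow_prime t hd2
  have hKp : IsPGroup t K := IsPGroup.of_card hK
  have hT'card : Nat.card (K.map (centralizer ({g} : Set G)).subtype) = t ^ e := by
    rw [card_map_of_injective (subtype_injective _), hK]
  have hT'le : K.map (centralizer ({g} : Set G)).subtype ≤ Mt := by
    rintro _ ⟨k, hk, rfl⟩
    apply hclaim
    · have := k.2
      rw [mem_centralizer_singleton_comm] at this
      exact this
    · obtain ⟨j, hj⟩ := hKp ⟨k, hk⟩
      exact ⟨j, by simpa using congrArg (fun z : K => ((z : centralizer ({g} : Set G)) : G)) hj⟩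
  have hEq := eq_of_le_of_card_ge hT'le (by rw [hT'card, he])
  have : y ∈ K.map (centralizer ({g} : Set G)).subtype := hEq ▸ hyMt
  obtain ⟨k, -, hk⟩ := this
  apply hyg
  rw [← hk]
  exact k.2

end Cfsg.Agent.Lib.H5.CS4
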