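import Mathlib
import Cfsg.Agent.Lib.H28.CSL2Defs

/-!
# S3211 piece ISO4 (architect helper28): no element swaps `j` and `t = x₁ x₂`

`K₁ = ⟨involutions of C(j) ∩ C(t)⟩ ≤ L₁L₂` is normalized by a swapping element `h'`, contains `c`, and no element
`a b` of `L₁L₂` has `M`-th power `t` (else `(a^M)² = j`).
-/

set_option autoImplicit false

namespace Cfsg.Agent.Lib.H24.CSL2

open Cfsg.Agent.Lib.H28.CSL2

variable {G : Type*} [Group G] {L₁ L₂ : Subgroup G} {j n : G}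

/-- ISO1 (local copy): the coset `L₁L₂n` contains no involution. -/
theorem iso4_no_inv (h : Cfg L₁ L₂ j n) {a b : G} (ha : a ∈ L₁) (hb : b ∈ L₂) :
    (a * b * n) * (a * b * n) ≠ 1 := by
  intro hsq
  have hnb : n * b * n⁻¹ ∈ L₁ := h.n21 b hb
  have hna : n * a * n⁻¹ ∈ L₂ := h.n12 a ha
  obtain ⟨a', ha'⟩ : ∃ a', a' = a * (n * b * n⁻¹) := ⟨_, rfl⟩
  obtain ⟨b', hb'⟩ : ∃ b', b' = b * (n * a * n⁻¹) := ⟨_, rfl⟩
  have ha'L : a' ∈ L₁ := ha' ▸ L₁.mul_mem ha hnb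
  have hb'L : b' ∈ L₂ := hb' ▸ L₂.mul_mem hb hna
  have hexp : (a * b * n) * (a * b * n) = a' * b' * j := by
    have e1 : (a * b * n) * (a * b * n) = a * (b * (n * a * n⁻¹) * (n * b * n⁻¹)) * (n * n) := by group
    have e2 : b * (n * a * n⁻¹) * (n * b * n⁻¹) = (n * b * n⁻¹) * (b * (n * a * n⁻¹)) :=
      (h.comm _ hnb _ (L₂.mul_mem hb hna)).symm
    rw [e1, e2, h.nn, ha', hb']; group
  have hprod : a' * b' * j = 1 := by rw [← hexp]; exact hsq
  have ha'2 : a' ∈ L₂ := by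
    have : a' = (b' * j)⁻¹ := by
      rw [eq_inv_iff_mul_eq_one, ← mul_assoc]; exact hprod
    rw [this]; exact L₂.inv_mem (L₂.mul_mem hb'L h.s2.jL)
  have hb'eq : b' = b * (n * a' * n⁻¹) * b⁻¹ := by
    have e3 : n * a' * n⁻¹ = (n * a * n⁻¹) * ((n * n) * b * (n * n)⁻¹) := by rw [ha']; group
    have e4 : j * b * j⁻¹ = b := by rw [← h.s2.cen b hb]; group
    rw [e3, h.nn, e4, hb']; group
  rcases h.meet a' ha'L ha'2 with h1 | h1
  · rw [h1] at hb'eq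
    have hb1 : b' = 1 := by rw [hb'eq]; group
    rw [h1, hb1, one_mul, one_mul] at hprod
    exact h.s1.jne hprod
  · rw [h1] at hb'eq
    have hnj : n * j * n⁻¹ = j := by rw [h.nj]; group
    have hbj : b' = j := by rw [hb'eq, hnj, h.s2.cen b hb]; group
    rw [h1, hbj, h.s1.jj, one_mul] at hprod
    exact h.s1.jne hprod

/-- **ISO4**. -/
theorem cfg_no_swap (h : Cfg L₁ L₂ j n) {M : ℕ} (hP : SPow L₁ j M) :
    ∃ x₁ ∈ L₁, ∃ x₂ ∈ L₂, x₁ * x₁ = j ∧ x₂ * x₂ = j ∧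
      ∀ h' : G, h' * j * h'⁻¹ = x₁ * x₂ → h' * (x₁ * x₂) * h'⁻¹ = j → False := by
  obtain ⟨x, hx, c, hc, y, hy, hxx, hcx, hcM, hyx⟩ := hP.ex
  have sqn : ∀ z, z * z = j → (n * z * n⁻¹) * (n * z * n⁻¹) = j := by
    intro z hz
    have : (n * z * n⁻¹) * (n * z * n⁻¹) = n * (z * z) * n⁻¹ := by group
    rw [this, hz, h.nj]; group
  obtain ⟨x₂, hx₂⟩ : ∃ x₂, x₂ = n * x * n⁻¹ := ⟨_, rfl⟩
  have hx₂L : x₂ ∈ L₂ := hx₂ ▸ h.n12 x hx
  have hx₂sq : x₂ * x₂ = j := by rw [hx₂]; exact sqn x hxx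
  refine ⟨x, hx, n * x * n⁻¹, hx₂ ▸ hx₂L, hxx, hx₂ ▸ hx₂sq, ?_⟩
  rw [← hx₂]
  intro h' hj ht
  obtain ⟨t, htdef⟩ : ∃ t, t = x * x₂ := ⟨_, rfl⟩
  rw [← htdef] at hj ht
  have hxx₂ : x * x₂ = x₂ * x := h.comm x hx x₂ hx₂L
  have htt : t * t = 1 := by
    have : t * t = x * (x₂ * x) * x₂ := by rw [htdef]; group
    rw [this, ← hxx₂]
    have : x * (x * x₂) * x₂ = (x * x) * (x₂ * x₂) := by group
    rw [this, hxx, hx₂sq, h.s1.jj]
  have htinv : t⁻¹ = t := inv_eq_of_mul_eq_one_left htt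
  -- the subgroup `Y = L₁ L₂`
  let Y : Subgroup G :=
    { carrier := {g | ∃ a ∈ L₁, ∃ b ∈ L₂, g = a * b}
      one_mem' := ⟨1, L₁.one_mem, 1, L₂.one_mem, by simp⟩
      mul_mem' := by
        rintro _ _ ⟨a, ha, b, hb, rfl⟩ ⟨a', ha', b', hb', rfl⟩
        refine ⟨a * a', L₁.mul_mem ha ha', b * b', L₂.mul_mem hb hb', ?_⟩
        have : a * b * (a' * b') = a * (b * a') * b' := by group
        rw [this, ← h.comm a' ha' b hb]; group
      inv_mem' := by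
        rintro _ ⟨a, ha, b, hb, rfl⟩
        refine ⟨a⁻¹, L₁.inv_mem ha, b⁻¹, L₂.inv_mem hb, ?_⟩
        rw [mul_inv_rev, h.comm a⁻¹ (L₁.inv_mem ha) b⁻¹ (L₂.inv_mem hb)] }
  have hY : ∀ g, g ∈ Y ↔ ∃ a ∈ L₁, ∃ b ∈ L₂, g = a * b := fun g => Iff.rfl
  -- no element of `Y` has `M`-th power `t`
  have hnoY : ∀ g ∈ Y, g ^ M ≠ t := by
    rintro g hg hgM
    obtain ⟨a, ha, b, hb, rfl⟩ := (hY g).1 hg
    have hcomm : Commute a b := h.comm a ha b hb
    rw [hcomm.mul_pow, htdef] at hgM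
    obtain ⟨u, hu⟩ : ∃ u, u = x⁻¹ * a ^ M := ⟨_, rfl⟩
    have hu1 : u ∈ L₁ := hu ▸ L₁.mul_mem (L₁.inv_mem hx) (L₁.pow_mem ha M)
    have hu2 : u ∈ L₂ := by
      have : u = x₂ * (b ^ M)⁻¹ := by
        rw [hu]
        have : x⁻¹ * a ^ M = x⁻¹ * (a ^ M * b ^ M) * (b ^ M)⁻¹ := by group
        rw [this, hgM]; group
      rw [this]; exact L₂.mul_mem hx₂L (L₂.inv_mem (L₂.pow_mem hb M))
    have haM : a ^ M = x * u := by rw [hu]; group
    apply hP.npow a ha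
    rw [haM]
    rcases h.meet u hu1 hu2 with h1 | h1
    · rw [h1, mul_one, hxx]
    · rw [h1]
      have : x * j * (x * j) = x * (j * x) * j := by group
      rw [this, ← h.s1.cen x hx]
      have : x * (x * j) * j = (x * x) * (j * j) := by group
      rw [this, hxx, h.s1.jj, mul_one]
  -- the generating set of involutions
  obtain ⟨I, hI⟩ : ∃ I : Set G, I = {w | w * w = 1 ∧ w * j = j * w ∧ w * t = t * w} := ⟨_, rfl⟩
  have hImem : ∀ w, w ∈ I ↔ (w * w = 1 ∧ w * j = j * w ∧ w * t = t * w) := by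
    intro w; rw [hI]; rfl
  have hIY : I ⊆ (Y : Set G) := by
    intro w hw
    obtain ⟨hww, hwj, _⟩ := (hImem w).1 hw
    obtain ⟨a, ha, b, hb, hab | hab⟩ := h.cover w hwj
    · exact (hY w).2 ⟨a, ha, b, hb, hab⟩
    · exfalso
      rw [hab] at hww
      exact iso4_no_inv h ha hb hww
  have hKY : Subgroup.closure I ≤ Y := (Subgroup.closure_le Y).2 hIY
  have hconjI : ∀ w ∈ I, h' * w * h'⁻¹ ∈ I := by
    intro w hw
    obtain ⟨hww, hwj, hwt⟩ := (hImem w).1 hw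
    refine (hImem _).2 ⟨?_, ?_, ?_⟩
    · have : h' * w * h'⁻¹ * (h' * w * h'⁻¹) = h' * (w * w) * h'⁻¹ := by group
      rw [this, hww]; group
    · have e1 : h' * w * h'⁻¹ * (h' * t * h'⁻¹) = h' * (w * t) * h'⁻¹ := by group
      have e2 : h' * t * h'⁻¹ * (h' * w * h'⁻¹) = h' * (t * w) * h'⁻¹ := by group
      rw [← ht, e1, e2, hwt]
    · have e1 : h' * w * h'⁻¹ * (h' * j * h'⁻¹) = h' * (w * j) * h'⁻¹ := by group
      have e2 : h' * j * h'⁻¹ * (h' * w * h'⁻¹) = h' * (j * w) * h'⁻¹ := by group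
      rw [← hj, e1, e2, hwj]
  have hconjK : ∀ k ∈ Subgroup.closure I, h' * k * h'⁻¹ ∈ Subgroup.closure I := by
    have hle : Subgroup.closure I ≤ (Subgroup.closure I).comap (MulAut.conj h').toMonoidHom := by
      rw [Subgroup.closure_le]
      intro w hw
      show (MulAut.conj h') w ∈ Subgroup.closure I
      rw [MulAut.conj_apply]
      exact Subgroup.subset_closure (hconjI w hw)
    intro k hk
    have := hle hk
    rw [Subgroup.mem_comap] at this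
    simpa [MulAut.conj_apply] using this
  -- products `u v` of inverting elements lie in `I`
  have hinvI : ∀ u ∈ L₁, ∀ v ∈ L₂, u * u = j → v * v = j → u * x * u⁻¹ = x⁻¹ → v * x₂ * v⁻¹ = x₂⁻¹ →
      u * v ∈ I := by
    intro u hu v hv huu hvv hux hvx
    have huv : u * v = v * u := h.comm u hu v hv
    refine (hImem _).2 ⟨?_, ?_, ?_⟩
    · have : u * v * (u * v) = u * (v * u) * v := by group
      rw [this, ← huv]
      have : u * (u * v) * v = (u * u) * (v * v) := by group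
      rw [this, huu, hvv, h.s1.jj]
    · have e1 : u * v * j = u * (v * j) := by group
      rw [e1, h.s2.cen v hv]
      have e2 : u * (j * v) = (u * j) * v := by group
      rw [e2, h.s1.cen u hu]; group
    · -- (u v) t = x⁻¹ x₂⁻¹ (u v) = t⁻¹ (u v) = t (u v)
      have hux' : u * x = x⁻¹ * u := by
        have : u * x = (u * x * u⁻¹) * u := by group
        rw [this, hux]
      have hvx' : v * x₂ = x₂⁻¹ * v := by
        have : v * x₂ = (v * x₂ * v⁻¹) * v := by group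
        rw [this, hvx]
      have hvx1 : v * x = x * v := (h.comm x hx v hv).symm
      have hux2 : u * x₂⁻¹ = x₂⁻¹ * u := h.comm u hu x₂⁻¹ (L₂.inv_mem hx₂L)
      have e1 : u * v * t = u * (v * x) * x₂ := by rw [htdef]; group
      rw [e1, hvx1]
      have e2 : u * (x * v) * x₂ = (u * x) * (v * x₂) := by group
      rw [e2, hux', hvx']
      have e3 : x⁻¹ * u * (x₂⁻¹ * v) = x⁻¹ * (u * x₂⁻¹) * v := by group
      rw [e3, hux2]
      have e4 : x⁻¹ * (x₂⁻¹ * u) * v = (x₂ * x)⁻¹ * (u * v) := by group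
      rw [e4, ← hxx₂, ← htdef, htinv]
  -- `c ∈ K₁`
  obtain ⟨y₂, hy₂⟩ : ∃ y₂, y₂ = n * y * n⁻¹ := ⟨_, rfl⟩
  have hy₂L : y₂ ∈ L₂ := hy₂ ▸ h.n12 y hy
  have hyy : y * y = j := h.s1.invt x hx y hy hxx hyx
  have hy₂sq : y₂ * y₂ = j := by rw [hy₂]; exact sqn y hyy
  have hy₂x₂ : y₂ * x₂ * y₂⁻¹ = x₂⁻¹ := by
    rw [hy₂, hx₂]
    have : n * y * n⁻¹ * (n * x * n⁻¹) * (n * y * n⁻¹)⁻¹ = n * (y * x * y⁻¹) * n⁻¹ := by group
    rw [this, hyx]; group
  have hcyL : c * y ∈ L₁ := L₁.mul_mem hc hy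
  have hcy : (c * y) * x * (c * y)⁻¹ = x⁻¹ := by
    have : (c * y) * x * (c * y)⁻¹ = c * (y * x * y⁻¹) * c⁻¹ := by group
    rw [this, hyx]
    have hcx' : c * x⁻¹ = x⁻¹ * c := by
      have : c * x⁻¹ = x⁻¹ * (x * c) * x⁻¹ := by group
      rw [this, ← hcx]; group
    rw [hcx']; group
  have hcysq : (c * y) * (c * y) = j := h.s1.invt x hx (c * y) hcyL hxx hcy
  have h1I : y * y₂ ∈ I := hinvI y hy y₂ hy₂L hyy hy₂sq hyx hy₂x₂
  have h2I : (c * y) * y₂ ∈ I := hinvI (c * y) hcyL y₂ hy₂L hcysq hy₂sq hcy hy₂x₂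
  have hcK : c ∈ Subgroup.closure I := by
    have : c = ((c * y) * y₂) * (y * y₂)⁻¹ := by group
    rw [this]
    exact (Subgroup.closure I).mul_mem (Subgroup.subset_closure h2I)
      ((Subgroup.closure I).inv_mem (Subgroup.subset_closure h1I))
  -- conclusion
  have hk := hKY (hconjK c hcK)
  apply hnoY _ hk
  rw [conj_pow, hcM, hj]

end Cfsg.Agent.Lib.H24.CSL2
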