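import Cfsg.Agent.Lib.H24.CharSchur

/-!
# Frobenius' formula for the number of ways to write an element as a commutator
(helper24's library)
-/

set_option autoImplicit false

namespace Cfsg.Agent.Lib.H24

open scoped ComplexConjugate
open Cfsg.Agent.Lib.L0

variable {G : Type*} [Group G] [Fintype G]

/-- Frobenius: `#{(x,y) : [x,y] = z} = |G| ∑ χ, χ(z)/χ(1)` (`Fintype` sum). -/
theorem card_commutator_eq [Fintype (IrrCharacter G)] (z : G) :
    (Nat.card {xy : G × G // xy.1 * xy.2 * xy.1⁻¹ * xy.2⁻¹ = z} : ℂ) =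
      (Nat.card G : ℂ) * ∑ χ : IrrCharacter G, (χ : G → ℂ) z / (χ : G → ℂ) 1 := by
  classical
  have hG : (Nat.card G : ℂ) ≠ 0 := by exact_mod_cast (Nat.card_pos (α := G)).ne'
  -- double counting with w = z⁻¹
  have key : ∑ χ : IrrCharacter G, (χ : G → ℂ) 1 *
      ∑ x : G, ∑ y : G, (χ : G → ℂ) (x * y * x⁻¹ * y⁻¹ * z⁻¹) =
      (Nat.card G : ℂ) ^ 2 * ∑ χ : IrrCharacter G, (χ : G → ℂ) z⁻¹ / (χ : G → ℂ) 1 := by
    rw [Finset.mul_sum]
    refine Finset.sum_congr rfl (fun χ _ => ?_)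
    rw [irr_sum_commutator_mul]
    have h1 := irr_one_ne_zero χ
    field_simp
  have key2 : ∑ χ : IrrCharacter G, (χ : G → ℂ) 1 *
      ∑ x : G, ∑ y : G, (χ : G → ℂ) (x * y * x⁻¹ * y⁻¹ * z⁻¹) =
      (Nat.card G : ℂ) * (Nat.card {xy : G × G // xy.1 * xy.2 * xy.1⁻¹ * xy.2⁻¹ = z} : ℂ) := by
    simp only [Finset.mul_sum]
    rw [Finset.sum_comm]
    rw [Finset.sum_congr rfl (fun x _ => Finset.sum_comm)]
    simp only [sum_irr_one_mul]
    rw [← Finset.sum_product']
    rw [← Finset.sum_filter, Finset.sum_const, nsmul_eq_mul, mul_comm]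
    congr 2
    rw [Nat.card_eq_fintype_card, Fintype.card_subtype]
    congr 1
    ext p
    simp only [Finset.mem_filter, Finset.mem_univ, true_and, Finset.univ_product_univ]
    constructor
    · intro h
      exact mul_inv_eq_one.mp h
    · intro h
      exact mul_inv_eq_one.mpr h
  have h3 : (Nat.card {xy : G × G // xy.1 * xy.2 * xy.1⁻¹ * xy.2⁻¹ = z} : ℂ) =
      (Nat.card G : ℂ) * ∑ χ : IrrCharacter G, (χ : G → ℂ) z⁻¹ / (χ : G → ℂ) 1 := by
    have := key.symm.trans key2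
    have h4 : (Nat.card G : ℂ) * ((Nat.card G : ℂ) *
        ∑ χ : IrrCharacter G, (χ : G → ℂ) z⁻¹ / (χ : G → ℂ) 1) =
        (Nat.card G : ℂ) * (Nat.card {xy : G × G // xy.1 * xy.2 * xy.1⁻¹ * xy.2⁻¹ = z} : ℂ) := by
      rw [← this]; ring
    exact (mul_left_cancel₀ hG h4).symm
  -- take complex conjugates
  have h5 := congrArg conj h3
  rw [Complex.conj_natCast, map_mul, Complex.conj_natCast, map_sum] at h5
  rw [h5]
  congr 1
  refine Finset.sum_congr rfl (fun χ _ => ?_)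
  rw [map_div₀, isCharacter_apply_inv (isCharacter_of_irr χ.2), Complex.conj_conj]
  obtain ⟨n, _, hn⟩ := irr_one_eq χ
  rw [hn, Complex.conj_natCast]

/-- Frobenius' commutator formula, `finsum` form. -/
theorem card_commutator_eq_finsum (z : G) :
    (Nat.card {xy : G × G // xy.1 * xy.2 * xy.1⁻¹ * xy.2⁻¹ = z} : ℂ) =
      (Nat.card G : ℂ) * ∑ᶠ χ : IrrCharacter G, (χ : G → ℂ) z / (χ : G → ℂ) 1 := by
  have := Fintype.ofFinite (IrrCharacter G)
  rw [finsum_eq_sum_of_fintype]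
  exact card_commutator_eq z

end Cfsg.Agent.Lib.H24
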