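import Cfsg.Agent.Lib.H24.CharSchur

/-!
# The regular character (helper24's library)

* `leftRegular_character` : the character of `Representation.leftRegular ℂ G` is `|G|` at `1`
  and `0` elsewhere.
* `leftRegular_character_eq_sum` : it equals `∑ χ, χ(1) • χ`.
-/

set_option autoImplicit false

namespace Cfsg.Agent.Lib.H24

open scoped ComplexConjugate
open Cfsg Cfsg.Agent.Lib.L0

section regular

variable {G : Type*} [Group G] [Fintype G]

theorem leftRegular_character [DecidableEq G] (g : G) :
    (Representation.leftRegular ℂ G).character g = if g = 1 then (Nat.card G : ℂ) else 0 := by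
  rw [Representation.character, LinearMap.trace_eq_matrix_trace ℂ (MonoidAlgebra.basis G ℂ),
    Matrix.trace]
  have hdiag : ∀ x : G, Matrix.diag (LinearMap.toMatrix (MonoidAlgebra.basis G ℂ)
      (MonoidAlgebra.basis G ℂ) ((Representation.leftRegular ℂ G) g)) x =
      if g = 1 then 1 else 0 := by
    intro x
    rw [Matrix.diag_apply, LinearMap.toMatrix_apply, MonoidAlgebra.basis_apply,
      Representation.ofMulAction_single]
    show (MonoidAlgebra.single (g • x) (1 : ℂ)).coeff x = _
    rw [MonoidAlgebra.coeff_single, Finsupp.single_apply, smul_eq_mul]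
    have : g * x = x ↔ g = 1 := by
      constructor
      · intro h
        exact mul_eq_right.mp h
      · intro h
        rw [h, one_mul]
    simp only [this]
  simp only [hdiag]
  split_ifs with h
  · simp [Nat.card_eq_fintype_card]
  · simp

theorem leftRegular_character_eq_sum [Fintype (IrrCharacter G)] :
    (Representation.leftRegular ℂ G).character =
      ∑ χ : IrrCharacter G, (χ : G → ℂ) 1 • (χ : G → ℂ) := by
  classical
  funext g
  rw [leftRegular_character, Finset.sum_apply]
  simp only [Pi.smul_apply, smul_eq_mul]
  rw [sum_irr_one_mul]

end regular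

end Cfsg.Agent.Lib.H24
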