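import Mathlib
import Cfsg.Agent.Lib.H20.ConjCover
import Cfsg.Agent.Lib.H24.CharPermLemma

/-!
# A `p`-group stabilizing all classes of a normal `p'`-subgroup centralizes it (helper24's library)
-/

set_option autoImplicit false

namespace Cfsg.Agent.Lib.H24

open scoped Pointwise

/-- If the `p`-subgroup `P` of `G` maps every element of the normal `p'`-subgroup `M` to an
`M`-conjugate (it stabilizes every conjugacy class of `M`), then `P` centralizes `M`. -/
theorem centralizes_of_stabilizes_classes {G : Type*} [Group G] [Finite G] (p : ℕ)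
    [hp : Fact p.Prime] (M : Subgroup G) [hM : M.Normal] (hMcop : (Nat.card M).Coprime p)
    (P : Subgroup G) (hP : IsPGroup p P)
    (hcl : ∀ x ∈ P, ∀ n : M, IsConj (⟨x * n * x⁻¹, hM.conj_mem n n.2 x⟩ : M) n) :
    ∀ x ∈ P, ∀ n ∈ M, x * n * x⁻¹ = n := by
  classical
  -- the centralizer of `P` in `M`
  set D : Subgroup M := (Subgroup.centralizer (P : Set G)).subgroupOf M with hD
  have hDmem : ∀ n : M, n ∈ D ↔ ∀ x ∈ P, x * (n : G) * x⁻¹ = n := by
    intro n
    rw [hD, Subgroup.mem_subgroupOf, Subgroup.mem_centralizer_iff]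
    constructor
    · intro h x hx
      rw [h x hx, mul_inv_cancel_right]
    · intro h x hx
      have := h x hx
      calc x * (n : G) = (x * n * x⁻¹) * x := by group
        _ = n * x := by rw [this]
  suffices hDtop : D = ⊤ by
    intro x hx n hn
    have : (⟨n, hn⟩ : M) ∈ D := by rw [hDtop]; trivial
    exact (hDmem _).mp this x hx
  by_contra hDne
  obtain ⟨g, hg⟩ := Cfsg.Agent.Lib.H20.exists_not_mem_conj D hDne
  -- the action of `P` on the class of `g`
  have hstab : ∀ (x : P) (m : M), IsConj m g →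
      IsConj (⟨(x : G) * m * (x : G)⁻¹, hM.conj_mem m m.2 x⟩ : M) g := by
    intro x m hm
    obtain ⟨c, hc⟩ := isConj_iff.mp hm
    have h1 : IsConj (⟨(x : G) * m * (x : G)⁻¹, hM.conj_mem m m.2 x⟩ : M)
        (⟨(x : G) * g * (x : G)⁻¹, hM.conj_mem g g.2 x⟩ : M) := by
      rw [isConj_iff]
      refine ⟨⟨(x : G) * c * (x : G)⁻¹, hM.conj_mem c c.2 x⟩, ?_⟩
      apply Subtype.ext
      have hc' : (c : G) * m * (c : G)⁻¹ = g := congrArg Subtype.val hc
      show (x : G) * c * (x : G)⁻¹ * ((x : G) * m * (x : G)⁻¹) * ((x : G) * c * (x : G)⁻¹)⁻¹ =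
        (x : G) * g * (x : G)⁻¹
      rw [← hc']
      group
    exact h1.trans (hcl x x.2 g)
  let C := {m : M // IsConj m g}
  letI act : MulAction P C :=
    { smul := fun x m => ⟨⟨(x : G) * m.1 * (x : G)⁻¹, hM.conj_mem m.1 m.1.2 x⟩, hstab x m.1 m.2⟩
      one_smul := fun m => by
        apply Subtype.ext
        apply Subtype.ext
        show ((1 : P) : G) * m.1 * ((1 : P) : G)⁻¹ = m.1
        simp
      mul_smul := fun x y m => by
        apply Subtype.ext
        apply Subtype.ext
        show ((x * y : P) : G) * m.1 * ((x * y : P) : G)⁻¹ =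
          (x : G) * ((y : G) * m.1 * (y : G)⁻¹) * (x : G)⁻¹
        rw [Subgroup.coe_mul]
        group }
  have hsmul : ∀ (x : P) (m : C), (((x • m : C) : M) : G) = (x : G) * (m.1 : M) * (x : G)⁻¹ :=
    fun x m => rfl
  have hcard : ¬ p ∣ Nat.card C := by
    have h1 := card_class_mul_card_centralizer (G := M) g
    have h2 : Nat.card C = Nat.card {h : M // ConjClasses.mk h = ConjClasses.mk g} := by
      refine Nat.card_congr (Equiv.subtypeEquivRight (fun h => ?_))
      rw [ConjClasses.mk_eq_mk_iff_isConj]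
    intro hdvd
    have h3 : p ∣ Nat.card M := by
      rw [← h1, ← h2]
      exact Dvd.dvd.mul_right hdvd _
    have h4 : p ∣ Nat.gcd (Nat.card M) p := Nat.dvd_gcd h3 dvd_rfl
    rw [hMcop] at h4
    exact hp.out.one_lt.ne' (Nat.dvd_one.mp h4)
  obtain ⟨m, hm⟩ := hP.nonempty_fixed_point_of_prime_not_dvd_card C hcard
  have hmD : (m.1 : M) ∈ D := by
    rw [hDmem]
    intro x hx
    have h1 := MulAction.mem_fixedPoints.mp hm ⟨x, hx⟩
    have h2 := hsmul ⟨x, hx⟩ m
    rw [h1] at h2
    exact h2.symm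
  obtain ⟨c, hc⟩ := isConj_iff.mp m.2
  apply hg c
  rw [Subgroup.mem_pointwise_smul_iff_inv_smul_mem]
  simp only [MulAut.smul_def, map_inv, MulAut.inv_apply, MulAut.conj_symm_apply]
  rw [← hc]
  have : c⁻¹ * (c * m.1 * c⁻¹) * c = m.1 := by group
  rw [this]
  exact hmD

end Cfsg.Agent.Lib.H24
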