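import Mathlib
import Cfsg.Agent.Lib.H24.MatrixCoeff
import Cfsg.Agent.Lib.H24.CharFS
import Cfsg.Agent.Lib.L0.CharInd
import Cfsg.Agent.Lib.L0.CharOps

/-!
# The Frobenius–Schur indicator of a character induced from an inertia group
(helper24's library)

* `fsInd_indFun` : `ν(Ind_I^G ψ) = |I|⁻¹ ∑_{g ∈ G, g² ∈ I} ψ(g²)`.
* `fsInd_indFun_inertia` : if `ψ ∈ Irr(I)` is a real-valued extension of `φ ∈ Irr(N)`, where `I` is
  the inertia group of `φ` in `G`, then `ν(Ind_I^G ψ) = ν(ψ)`.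
-/

set_option autoImplicit false

namespace Cfsg.Agent.Lib.H24

open scoped ComplexConjugate
open Cfsg Cfsg.Agent.Lib.L0

section general

variable {G : Type*} [Group G] [Fintype G]

theorem fsInd_indFun (I : Subgroup G) (ψ : I → ℂ) :
    fsInd (indFun I ψ) = (Nat.card I : ℂ)⁻¹ * ∑ g : G, extendByZero I ψ (g * g) := by
  have hG0 : (Nat.card G : ℂ) ≠ 0 := by exact_mod_cast (Nat.card_pos (α := G)).ne'
  rw [fsInd_def]
  simp only [indFun_apply]
  rw [← Finset.mul_sum, Finset.sum_comm]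
  have h1 : ∀ x : G, ∑ s : G, extendByZero I ψ (x⁻¹ * (s * s) * x) =
      ∑ s : G, extendByZero I ψ (s * s) := by
    intro x
    refine Fintype.sum_equiv (MulAut.conj x⁻¹).toEquiv _ _ (fun s => ?_)
    simp only [MulEquiv.toEquiv_eq_coe, MulEquiv.coe_toEquiv, MulAut.conj_apply, inv_inv]
    congr 1
    group
  rw [Finset.sum_congr rfl (fun x _ => h1 x), Finset.sum_const, Finset.card_univ, nsmul_eq_mul,
    ← Nat.card_eq_fintype_card]
  field_simp

/-- A sum over the group vanishes if all the sums over the cosets of a subgroup vanish. -/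
theorem sum_eq_zero_of_coset_sums (N : Subgroup G) [Fintype N] (F : G → ℂ)
    (h : ∀ g : G, ∑ n : N, F (g * n) = 0) : ∑ g, F g = 0 := by
  have hN0 : (Nat.card N : ℂ) ≠ 0 := by exact_mod_cast (Nat.card_pos (α := N)).ne'
  have h1 : (Nat.card N : ℂ) * ∑ g, F g = ∑ n : N, ∑ g, F (g * n) := by
    have h2 : ∀ n : N, ∑ g, F (g * n) = ∑ g, F g := fun n =>
      Fintype.sum_equiv (Equiv.mulRight (n : G)) (fun g => F (g * n)) F (fun g => rfl)
    rw [Finset.sum_congr rfl (fun n _ => h2 n), Finset.sum_const, Finset.card_univ, nsmul_eq_mul,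
      Nat.card_eq_fintype_card]
  rw [Finset.sum_comm, Finset.sum_congr rfl (fun g _ => h g), Finset.sum_const_zero] at h1
  rcases mul_eq_zero.mp h1 with h3 | h3
  · exact absurd h3 hN0
  · exact h3

end general

section inertia

variable {G : Type*} [Group G] [Fintype G]

theorem sum_ite_mem_subgroup (K : Subgroup G) [Fintype K] [DecidablePred (· ∈ K)] (F : G → ℂ) :
    ∑ g : G, (if g ∈ K then F g else 0) = ∑ h : K, F h := by
  rw [← Finset.sum_filter, ← Finset.sum_subtype (Finset.univ.filter (· ∈ K)) (by simp) F]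

variable {N I : Subgroup G} [hN : N.Normal] [Fintype N] [Fintype I]

/-- The key vanishing: for `g ∉ I` with `g² ∈ I`, the sum of `ψ(x²)` over the coset `gN` is zero. -/
theorem sum_coset_sq_eq_zero (hNI : N ≤ I) (φ : IrrCharacter N)
    (hI : ∀ g : G, g ∈ I ↔ ∀ n : N,
      (φ : N → ℂ) ⟨g * n * g⁻¹, hN.conj_mem (n : G) n.2 g⟩ = (φ : N → ℂ) n)
    (ψ : IrrCharacter I)
    (hψφ : ∀ n : N, (ψ : I → ℂ) (Subgroup.inclusion hNI n) = (φ : N → ℂ) n)
    (hreal : ∀ n : N, ((φ : N → ℂ) n).im = 0)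
    (g : G) (hg : g ∉ I) (hgg : g * g ∈ I) :
    ∑ n : N, extendByZero I (ψ : I → ℂ) (g * n * (g * n)) = 0 := by
  obtain ⟨d, Ξ, hΞ, hchar⟩ := irr_exists_rep ψ
  obtain ⟨a, ha⟩ : ∃ a : I, (a : G) = g * g := ⟨⟨g * g, hgg⟩, rfl⟩
  obtain ⟨cg, hcg⟩ : ∃ cg : N →* I, ∀ n : N, cg n =
      Subgroup.inclusion hNI ((MulAut.conjNormal g⁻¹ : MulAut N) n) :=
    ⟨(Subgroup.inclusion hNI).comp (MulAut.conjNormal g⁻¹ : MulAut N).toMonoidHom, fun n => rfl⟩
  have hcgG : ∀ n : N, ((cg n : I) : G) = g⁻¹ * n * g := by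
    intro n
    rw [hcg]
    simp [MulAut.conjNormal_apply]
  obtain ⟨ρ₁, hρ₁def⟩ : ∃ ρ₁ : Representation ℂ N (Fin d → ℂ), ρ₁ = MonoidHom.comp Ξ cg :=
    ⟨_, rfl⟩
  obtain ⟨ρ₂, hρ₂def⟩ : ∃ ρ₂ : Representation ℂ N (Fin d → ℂ),
      ρ₂ = MonoidHom.comp Ξ (Subgroup.inclusion hNI) := ⟨_, rfl⟩
  have hρ₂char : ρ₂.character = (φ : N → ℂ) := by
    funext n
    rw [hρ₂def]
    show Ξ.character (Subgroup.inclusion hNI n) = _
    rw [hchar, hψφ]
  have hρ₁char : ρ₁.character =
      fun n => (φ : N → ℂ) ((MulAut.conjNormal g⁻¹ : MulAut N) n) := by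
    funext n
    rw [hρ₁def]
    show Ξ.character (cg n) = _
    rw [hchar, hcg, hψφ]
  have hρ₁ : ρ₁.IsIrreducible := by
    apply isIrreducible_of_irr_char
    rw [hρ₁char]
    exact isIrrCharacter_comp_of_surjective (MulAut.conjNormal g⁻¹ : MulAut N).toMonoidHom
      (MulEquiv.surjective _) φ.2
  have hdual : (fun n => ρ₂.character n⁻¹) = (φ : N → ℂ) := by
    funext n
    rw [hρ₂char, irr_inv]
    exact Complex.conj_eq_iff_im.mpr (hreal n)
  have hσd : IsIrrCharacter N (fun n => ρ₂.character n⁻¹) := by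
    rw [hdual]
    exact φ.2
  have hne : ρ₁.character ≠ fun n => ρ₂.character n⁻¹ := by
    rw [hdual, hρ₁char]
    intro heq
    apply hg
    have hinv : g⁻¹ ∈ I := by
      rw [hI]
      intro n
      have h1 := congrFun heq n
      rw [← h1]
      congr 1
    have := I.inv_mem hinv
    rwa [inv_inv] at this
  have h := sum_trace_mul_mul_eq_zero ρ₁ ρ₂ hρ₁ hσd hne (repMat Ξ a)
  rw [← h]
  refine Finset.sum_congr rfl (fun n _ => ?_)
  have hmem : g * n * (g * n) = ((a * cg n * Subgroup.inclusion hNI n : I) : G) := by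
    rw [Subgroup.coe_mul, Subgroup.coe_mul, ha, hcgG]
    simp only [Subgroup.coe_inclusion]
    group
  rw [hmem, extendByZero_apply_mem, ← hchar, ← trace_repMat, repMat_mul, repMat_mul, hρ₁def,
    hρ₂def]
  rfl

/-- If `ψ ∈ Irr(I)` is a real-valued extension of `φ ∈ Irr(N)` to its inertia group `I`, then the
induced character has the same Frobenius–Schur indicator as `ψ`. -/
theorem fsInd_indFun_inertia (hNI : N ≤ I) (φ : IrrCharacter N)
    (hI : ∀ g : G, g ∈ I ↔ ∀ n : N,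
      (φ : N → ℂ) ⟨g * n * g⁻¹, hN.conj_mem (n : G) n.2 g⟩ = (φ : N → ℂ) n)
    (ψ : IrrCharacter I)
    (hψφ : ∀ n : N, (ψ : I → ℂ) (Subgroup.inclusion hNI n) = (φ : N → ℂ) n)
    (hreal : ∀ n : N, ((φ : N → ℂ) n).im = 0) :
    fsInd (indFun I (ψ : I → ℂ)) = fsInd (ψ : I → ℂ) := by
  classical
  rw [fsInd_indFun, fsInd_def]
  congr 1
  have hsplit : ∀ g : G, extendByZero I (ψ : I → ℂ) (g * g) =
      (if g ∈ I then extendByZero I (ψ : I → ℂ) (g * g) else 0) +
      (if g ∈ I then 0 else extendByZero I (ψ : I → ℂ) (g * g)) := by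
    intro g
    split_ifs <;> simp
  rw [Finset.sum_congr rfl (fun g _ => hsplit g), Finset.sum_add_distrib]
  have h1 : ∑ g : G, (if g ∈ I then extendByZero I (ψ : I → ℂ) (g * g) else 0) =
      ∑ x : I, (ψ : I → ℂ) (x * x) := by
    rw [sum_ite_mem_subgroup I (fun g => extendByZero I (ψ : I → ℂ) (g * g))]
    refine Finset.sum_congr rfl (fun x _ => ?_)
    exact extendByZero_apply_mem I (ψ : I → ℂ) (x * x)
  have h2 : ∑ g : G, (if g ∈ I then 0 else extendByZero I (ψ : I → ℂ) (g * g)) = 0 := by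
    apply sum_eq_zero_of_coset_sums N
    intro g
    by_cases hg : g ∈ I
    · have hgn : ∀ n : N, g * (n : G) ∈ I := fun n => I.mul_mem hg (hNI n.2)
      simp only [hgn, if_true, Finset.sum_const_zero]
    · have hgn : ∀ n : N, g * (n : G) ∉ I := by
        intro n h
        apply hg
        have := I.mul_mem h (I.inv_mem (hNI n.2))
        simpa using this
      simp only [hgn, if_false]
      by_cases hgg : g * g ∈ I
      · exact sum_coset_sq_eq_zero hNI φ hI ψ hψφ hreal g hg hgg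
      · apply Finset.sum_eq_zero
        intro n _
        apply extendByZero_apply_not_mem
        intro h
        apply hgg
        have h3 : g * g = g * (n : G) * (g * (n : G)) * ((n : G)⁻¹ * (g⁻¹ * (n : G)⁻¹ * g⁻¹⁻¹)) := by
          group
        rw [h3]
        exact I.mul_mem h (I.mul_mem (I.inv_mem (hNI n.2))
          (hNI (hN.conj_mem _ (N.inv_mem n.2) g⁻¹)))
  rw [h1, h2, add_zero]

end inertia

end Cfsg.Agent.Lib.H24
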