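import Mathlib
import Cfsg.Agent.Lib.H24.IndIndicator
import Cfsg.Agent.Lib.H24.CharLinearMul
import Cfsg.Agent.Lib.H24.CharFSInd
import Cfsg.Agent.Lib.H23.CliffordCorr

/-!
# Real linear characters versus strongly real characters over a minimal normal subgroup
(helper24's library)

`N` a normal subgroup contained in `G'`, `φ ∈ Irr(N)` with inertia group `I`, `ψ ∈ Irr(I)` a
strongly real extension of `φ`.  Then
`#{real linear characters of G} ≤ |G : I| · #{strongly real χ ∈ Irr(G) of degree φ(1)|G : I|}`.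
-/

set_option autoImplicit false

namespace Cfsg.Agent.Lib.H24

open scoped ComplexConjugate
open Cfsg Cfsg.Agent.Lib.L0

section

variable {G : Type*} [Group G] [Fintype G]

theorem indFun_mul_restrict' (I : Subgroup G) (ψ : I → ℂ) (χ : G → ℂ)
    (hχ : IsClassFunction G χ) :
    indFun I (ψ * fun x : I => χ x) = indFun I ψ * χ := by
  funext g
  rw [Pi.mul_apply, indFun_apply, indFun_apply, mul_assoc, Finset.sum_mul]
  congr 1
  refine Finset.sum_congr rfl fun x _ => ?_
  by_cases hx : x⁻¹ * g * x ∈ I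
  · rw [extendByZero_apply_of_mem I _ hx, extendByZero_apply_of_mem I _ hx]
    simp only [Pi.mul_apply]
    congr 1
    have := hχ g x⁻¹
    simpa using this
  · rw [extendByZero_apply_not_mem I _ hx, extendByZero_apply_not_mem I _ hx, zero_mul]

/-- A homomorphism to `ℂˣ` whose character has Frobenius–Schur indicator one squares to one. -/
theorem hom_sq_eq_one_of_fsInd (f : G →* ℂˣ) (h : fsInd (homIrr f : G → ℂ) = 1) (g : G) :
    (f g : ℂ) * (f g : ℂ) = 1 := by
  classical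
  have h1 := irr_orthonormal (homIrr (f * f)) (homIrr (1 : G →* ℂˣ))
  have h2 : classInner (homIrr (f * f) : G → ℂ) (homIrr (1 : G →* ℂˣ) : G → ℂ) = 1 := by
    rw [← h, fsInd_def]
    unfold classInner
    congr 1
    refine Finset.sum_congr rfl (fun s _ => ?_)
    simp only [homIrr_apply, MonoidHom.mul_apply, MonoidHom.one_apply, Units.val_mul, Units.val_one,
      map_one, mul_one, map_mul]
  rw [h2] at h1
  have h3 : homIrr (f * f) = homIrr (1 : G →* ℂˣ) := by
    by_contra hne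
    rw [if_neg hne] at h1
    exact one_ne_zero h1
  have h4 := homIrr_injective h3
  have h5 := congrArg (fun k : G →* ℂˣ => (k g : ℂ)) h4
  simpa using h5

variable {N I : Subgroup G} [hN : N.Normal] [Fintype N] [Fintype I]

/-- If twisting `Ind ψ` by two linear characters gives the same character, they agree on `I`. -/
theorem hom_eq_on_inertia (hNI : N ≤ I) (φ : IrrCharacter N)
    (hI : ∀ g : G, g ∈ I ↔ ∀ n : N,
      (φ : N → ℂ) ⟨g * n * g⁻¹, hN.conj_mem (n : G) n.2 g⟩ = (φ : N → ℂ) n)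
    (ψ : IrrCharacter I)
    (hψφ : ∀ n : N, (ψ : I → ℂ) (Subgroup.inclusion hNI n) = (φ : N → ℂ) n)
    (hNcomm : N ≤ commutator G) (f f' : G →* ℂˣ)
    (heq : ∀ g : G, indFun I (ψ : I → ℂ) g * (f g : ℂ) = indFun I (ψ : I → ℂ) g * (f' g : ℂ))
    (x : G) (hx : x ∈ I) : f x = f' x := by
  classical
  -- the two twisted characters of `I`
  have hfN : ∀ (k : G →* ℂˣ) (n : G), n ∈ N → k n = 1 := fun k n hn =>
    hom_apply_eq_one_of_mem_commutator k (hNcomm hn)
  have htw : ∀ k : G →* ℂˣ, IsIrrCharacter I (fun y : I => (ψ : I → ℂ) y * (k y : ℂ)) := fun k =>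
    isIrrCharacter_mul_hom (ψ : I → ℂ) ψ.2 (k.comp I.subtype)
  have hres : ∀ k : G →* ℂˣ, Cfsg.Agent.Lib.H23.resTo N I hNI
      (fun y : I => (ψ : I → ℂ) y * (k y : ℂ)) = (φ : N → ℂ) := by
    intro k
    funext n
    show (ψ : I → ℂ) (Subgroup.inclusion hNI n) * (k (n : G) : ℂ) = _
    rw [hψφ, hfN k n n.2, Units.val_one, mul_one]
  have hne : ∀ k : G →* ℂˣ, classInner (Cfsg.Agent.Lib.H23.resTo N I hNI
      (fun y : I => (ψ : I → ℂ) y * (k y : ℂ))) (φ : N → ℂ) ≠ 0 := by
    intro k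
    rw [hres k, irr_classInner_self φ.2]
    exact one_ne_zero
  have hind : ∀ k : G →* ℂˣ, indFun I (fun y : I => (ψ : I → ℂ) y * (k y : ℂ)) =
      indFun I (ψ : I → ℂ) * (homIrr k : G → ℂ) :=
    fun k => indFun_mul_restrict' I (ψ : I → ℂ) (homIrr k : G → ℂ) (irr_isClassFunction _)
  have heq' : indFun I (fun y : I => (ψ : I → ℂ) y * (f y : ℂ)) =
      indFun I (fun y : I => (ψ : I → ℂ) y * (f' y : ℂ)) := by
    rw [hind, hind]
    funext g
    exact heq g
  have hψeq := Cfsg.Agent.Lib.H23.indFun_inertia_injective N I hNI (φ : N → ℂ) φ.2 hI _ _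
    (htw f) (htw f') (hne f) (hne f') heq'
  by_contra hfx
  -- `ψ` vanishes on the coset `x N`
  haveI : Fintype (N.subgroupOf I) := Fintype.ofFinite _
  have hvan : ∀ z : N.subgroupOf I, (ψ : I → ℂ) (⟨x, hx⟩ * (z : I)) = 0 := by
    intro z
    have hzN : ((z : I) : G) ∈ N := Subgroup.mem_subgroupOf.mp z.2
    have h1 := congrFun hψeq (⟨x, hx⟩ * (z : I))
    simp only [Subgroup.coe_mul, map_mul, hfN _ _ hzN, mul_one] at h1
    have h2 : (ψ : I → ℂ) (⟨x, hx⟩ * (z : I)) * ((f x : ℂ) - (f' x : ℂ)) = 0 := by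
      rw [mul_sub, h1, sub_self]
    rcases mul_eq_zero.mp h2 with h3 | h3
    · exact h3
    · exfalso
      apply hfx
      ext
      exact sub_eq_zero.mp h3
  have hresZ : IsIrrCharacter (N.subgroupOf I) (fun z : N.subgroupOf I => (ψ : I → ℂ) z) := by
    have h1 : (fun z : N.subgroupOf I => (ψ : I → ℂ) z) =
        fun z => (φ : N → ℂ) ((Subgroup.subgroupOfEquivOfLe hNI) z) := by
      funext z
      rw [← hψφ]
      congr 1
    rw [h1]
    exact isIrrCharacter_comp_of_surjective (Subgroup.subgroupOfEquivOfLe hNI).toMonoidHom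
      (Subgroup.subgroupOfEquivOfLe hNI).surjective φ.2
  have hnorm := sum_coset_norm (N.subgroupOf I) ψ hresZ ⟨x, hx⟩
  simp only [hvan, zero_mul, Finset.sum_const_zero] at hnorm
  have hZ0 : (Nat.card (N.subgroupOf I) : ℂ) ≠ 0 := by
    exact_mod_cast (Nat.card_pos (α := N.subgroupOf I)).ne'
  exact hZ0 hnorm.symm

end

section bound

variable {G : Type*} [Group G] [Fintype G] {N I : Subgroup G} [hN : N.Normal] [Fintype N]
  [Fintype I]

/-- The main counting bound. -/
theorem card_real_linear_le (hNI : N ≤ I) (φ : IrrCharacter N)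
    (hI : ∀ g : G, g ∈ I ↔ ∀ n : N,
      (φ : N → ℂ) ⟨g * n * g⁻¹, hN.conj_mem (n : G) n.2 g⟩ = (φ : N → ℂ) n)
    (ψ : IrrCharacter I) (hνψ : fsInd (ψ : I → ℂ) = 1)
    (hψφ : ∀ n : N, (ψ : I → ℂ) (Subgroup.inclusion hNI n) = (φ : N → ℂ) n)
    (hNcomm : N ≤ commutator G) :
    Nat.card {χ : IrrCharacter G // charDegree (χ : G → ℂ) = 1 ∧ fsInd (χ : G → ℂ) = 1} ≤
      I.index * Nat.card {χ : IrrCharacter G //
        charDegree (χ : G → ℂ) = charDegree (φ : N → ℂ) * I.index ∧ fsInd (χ : G → ℂ) = 1} := by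
  classical
  haveI := Fintype.ofFinite (IrrCharacter G)
  -- `ψ` and `φ` are real-valued
  have hψreal : ∀ y : I, ((ψ : I → ℂ) y).im = 0 :=
    fun y => real_of_fsInd_ne_zero ψ (by rw [hνψ]; exact one_ne_zero) y
  have hφreal : ∀ n : N, ((φ : N → ℂ) n).im = 0 := by
    intro n
    rw [← hψφ]
    exact hψreal _
  -- the induced character
  have hresφ : Cfsg.Agent.Lib.H23.resTo N I hNI (ψ : I → ℂ) = (φ : N → ℂ) := by
    funext n
    exact hψφ n
  have hne0 : classInner (Cfsg.Agent.Lib.H23.resTo N I hNI (ψ : I → ℂ)) (φ : N → ℂ) ≠ 0 := by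
    rw [hresφ, irr_classInner_self φ.2]
    exact one_ne_zero
  obtain ⟨hχ₀irr, -⟩ := Cfsg.Agent.Lib.H23.isIrrCharacter_indFun_inertia N I hNI (φ : N → ℂ) φ.2 hI
    (ψ : I → ℂ) ψ.2 hne0
  have hχ₀ν : fsInd (indFun I (ψ : I → ℂ)) = 1 := by
    rw [fsInd_indFun_inertia hNI φ hI ψ hψφ hφreal, hνψ]
  have hχ₀1 : indFun I (ψ : I → ℂ) 1 = ((charDegree (φ : N → ℂ) * I.index : ℕ) : ℂ) := by
    rw [Cfsg.Agent.Lib.H23.indFun_one']
    have h1 : (ψ : I → ℂ) 1 = (φ : N → ℂ) 1 := by
      rw [← hψφ 1, map_one]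
    rw [h1, ← charDegree_irr φ]
    push_cast
    ring
  -- the homomorphism of a real linear character
  have hA1 : ∀ a : {χ : IrrCharacter G // charDegree (χ : G → ℂ) = 1 ∧ fsInd (χ : G → ℂ) = 1},
      (a.1 : G → ℂ) 1 = 1 := by
    intro a
    rw [← charDegree_irr a.1, a.2.1, Nat.cast_one]
  obtain ⟨fA, hfA⟩ : ∃ fA : {χ : IrrCharacter G //
      charDegree (χ : G → ℂ) = 1 ∧ fsInd (χ : G → ℂ) = 1} → (G →* ℂˣ),
      ∀ a g, (fA a g : ℂ) = (a.1 : G → ℂ) g :=
    ⟨fun a => linearCharHom (isCharacter_of_irr a.1.2) (hA1 a), fun a g => rfl⟩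
  have hfAinj : Function.Injective fA := by
    intro a b hab
    apply Subtype.ext
    apply Subtype.ext
    funext g
    rw [← hfA a g, ← hfA b g, hab]
  have hfAirr : ∀ a, homIrr (fA a) = a.1 := by
    intro a
    apply Subtype.ext
    funext g
    rw [homIrr_apply, hfA]
  have hfAsq : ∀ a g, (fA a g : ℂ) * (fA a g : ℂ) = 1 := by
    intro a g
    apply hom_sq_eq_one_of_fsInd
    rw [hfAirr]
    exact a.2.2
  -- the map to the strongly real characters of the right degree
  have hF : ∀ a : {χ : IrrCharacter G // charDegree (χ : G → ℂ) = 1 ∧ fsInd (χ : G → ℂ) = 1},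
      ∃ b : {χ : IrrCharacter G //
        charDegree (χ : G → ℂ) = charDegree (φ : N → ℂ) * I.index ∧ fsInd (χ : G → ℂ) = 1},
        ∀ g : G, (b.1 : G → ℂ) g = indFun I (ψ : I → ℂ) g * (fA a g : ℂ) := by
    intro a
    refine ⟨⟨⟨fun g => indFun I (ψ : I → ℂ) g * (fA a g : ℂ),
      isIrrCharacter_mul_hom _ hχ₀irr (fA a)⟩, ?_, ?_⟩, fun g => rfl⟩
    · apply Cfsg.Agent.Lib.H23.charDegree_eq_of_apply_one
      show indFun I (ψ : I → ℂ) 1 * (fA a 1 : ℂ) = _
      rw [map_one, Units.val_one, mul_one, hχ₀1]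
    · rw [← hχ₀ν, fsInd_def, fsInd_def]
      congr 1
      refine Finset.sum_congr rfl (fun s _ => ?_)
      show indFun I (ψ : I → ℂ) (s * s) * (fA a (s * s) : ℂ) = _
      rw [map_mul, Units.val_mul, hfAsq, mul_one]
  choose F hFdef using hF
  rw [Nat.card_eq_fintype_card, Nat.card_eq_fintype_card, ← Finset.card_univ, ← Finset.card_univ]
  refine Finset.card_le_mul_card_image_of_maps_to (f := F) (fun a _ => Finset.mem_univ _) I.index
    (fun b _ => ?_)
  -- the fibre over `b`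
  by_cases hfib : (Finset.univ.filter (fun a => F a = b)).Nonempty
  · obtain ⟨a₁, ha₁⟩ := hfib
    have ha₁' : F a₁ = b := (Finset.mem_filter.mp ha₁).2
    have hcard : (Finset.univ.filter (fun a => F a = b)).card =
        ((Finset.univ.filter (fun a => F a = b)).image (fun a => fA a * (fA a₁)⁻¹)).card := by
      rw [Finset.card_image_of_injective]
      intro a a' haa'
      exact hfAinj (mul_right_cancel haa')
    rw [hcard]
    apply card_hom_trivial_on_le_index I
    intro ν hν i hi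
    obtain ⟨a, ha, rfl⟩ := Finset.mem_image.mp hν
    have ha' : F a = b := (Finset.mem_filter.mp ha).2
    have heq : ∀ g : G, indFun I (ψ : I → ℂ) g * (fA a g : ℂ) =
        indFun I (ψ : I → ℂ) g * (fA a₁ g : ℂ) := by
      intro g
      rw [← hFdef a g, ← hFdef a₁ g, ha', ha₁']
    have h1 := hom_eq_on_inertia hNI φ hI ψ hψφ hNcomm (fA a) (fA a₁) heq i hi
    rw [MonoidHom.mul_apply, MonoidHom.inv_apply, h1, mul_inv_cancel]
  · rw [Finset.not_nonempty_iff_eq_empty] at hfib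
    rw [hfib, Finset.card_empty]
    exact Nat.zero_le _

end bound

end Cfsg.Agent.Lib.H24
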