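import Mathlib
import Cfsg.Agent.Lib.H24.RealLinearBound

/-!
# Strongly real characters of split extensions `N ⋊ P` (helper24's library)

* `card_real_linear_le'` : variant of `card_real_linear_le` whose hypothesis is directly that the
  induced character `Ind_I^G ψ` has Frobenius–Schur indicator one.
* `sum_sq_indFun_hom` : coset-averaging formula for `∑_g ψ°(g²)`, `ψ` a linear character of `I ≥ N`.
-/

set_option autoImplicit false

namespace Cfsg.Agent.Lib.H24

open scoped ComplexConjugate commutatorElement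
open Cfsg Cfsg.Agent.Lib.L0

section bound

variable {G : Type*} [Group G] [Fintype G] {N I : Subgroup G} [hN : N.Normal] [Fintype N]
  [Fintype I]

/-- The counting bound, assuming directly that the induced character is strongly real. -/
theorem card_real_linear_le' (hNI : N ≤ I) (φ : IrrCharacter N)
    (hI : ∀ g : G, g ∈ I ↔ ∀ n : N,
      (φ : N → ℂ) ⟨g * n * g⁻¹, hN.conj_mem (n : G) n.2 g⟩ = (φ : N → ℂ) n)
    (ψ : IrrCharacter I) (hχ₀ν : fsInd (indFun I (ψ : I → ℂ)) = 1)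
    (hψφ : ∀ n : N, (ψ : I → ℂ) (Subgroup.inclusion hNI n) = (φ : N → ℂ) n)
    (hNcomm : N ≤ commutator G) :
    Nat.card {χ : IrrCharacter G // charDegree (χ : G → ℂ) = 1 ∧ fsInd (χ : G → ℂ) = 1} ≤
      I.index * Nat.card {χ : IrrCharacter G //
        charDegree (χ : G → ℂ) = charDegree (φ : N → ℂ) * I.index ∧ fsInd (χ : G → ℂ) = 1} := by
  classical
  haveI := Fintype.ofFinite (IrrCharacter G)
  have hresφ : Cfsg.Agent.Lib.H23.resTo N I hNI (ψ : I → ℂ) = (φ : N → ℂ) := by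
    funext n
    exact hψφ n
  have hne0 : classInner (Cfsg.Agent.Lib.H23.resTo N I hNI (ψ : I → ℂ)) (φ : N → ℂ) ≠ 0 := by
    rw [hresφ, irr_classInner_self φ.2]
    exact one_ne_zero
  obtain ⟨hχ₀irr, -⟩ := Cfsg.Agent.Lib.H23.isIrrCharacter_indFun_inertia N I hNI (φ : N → ℂ) φ.2 hI
    (ψ : I → ℂ) ψ.2 hne0
  have hχ₀1 : indFun I (ψ : I → ℂ) 1 = ((charDegree (φ : N → ℂ) * I.index : ℕ) : ℂ) := by
    rw [Cfsg.Agent.Lib.H23.indFun_one']
    have h1 : (ψ : I → ℂ) 1 = (φ : N → ℂ) 1 := by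
      rw [← hψφ 1, map_one]
    rw [h1, ← charDegree_irr φ]
    push_cast
    ring
  have hA1 : ∀ a : {χ : IrrCharacter G // charDegree (χ : G → ℂ) = 1 ∧ fsInd (χ : G → ℂ) = 1},
      (a.1 : G → ℂ) 1 = 1 := by
    intro a
    rw [← charDegree_irr a.1, a.2.1, Nat.cast_one]
  obtain ⟨fA, hfA⟩ : ∃ fA : {χ : IrrCharacter G //
      charDegree (χ : G → ℂ) = 1 ∧ fsInd (χ : G → ℂ) = 1} → (G →* ℂˣ),
      ∀ a g, (fA a g : ℂ) = (a.1 : G → ℂ) g :=
    ⟨fun a => linearCharHom (isCharacter_of_irr a.1.2) (hA1 a), fun a g => rfl⟩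
  have hfAinj : Function.Injective fA := by
    intro a b hab
    apply Subtype.ext
    apply Subtype.ext
    funext g
    rw [← hfA a g, ← hfA b g, hab]
  have hfAirr : ∀ a, homIrr (fA a) = a.1 := by
    intro a
    apply Subtype.ext
    funext g
    rw [homIrr_apply, hfA]
  have hfAsq : ∀ a g, (fA a g : ℂ) * (fA a g : ℂ) = 1 := by
    intro a g
    apply hom_sq_eq_one_of_fsInd
    rw [hfAirr]
    exact a.2.2
  have hF : ∀ a : {χ : IrrCharacter G // charDegree (χ : G → ℂ) = 1 ∧ fsInd (χ : G → ℂ) = 1},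
      ∃ b : {χ : IrrCharacter G //
        charDegree (χ : G → ℂ) = charDegree (φ : N → ℂ) * I.index ∧ fsInd (χ : G → ℂ) = 1},
        ∀ g : G, (b.1 : G → ℂ) g = indFun I (ψ : I → ℂ) g * (fA a g : ℂ) := by
    intro a
    refine ⟨⟨⟨fun g => indFun I (ψ : I → ℂ) g * (fA a g : ℂ),
      isIrrCharacter_mul_hom _ hχ₀irr (fA a)⟩, ?_, ?_⟩, fun g => rfl⟩
    · apply Cfsg.Agent.Lib.H23.charDegree_eq_of_apply_one
      show indFun I (ψ : I → ℂ) 1 * (fA a 1 : ℂ) = _
      rw [map_one, Units.val_one, mul_one, hχ₀1]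
    · rw [← hχ₀ν, fsInd_def, fsInd_def]
      congr 1
      refine Finset.sum_congr rfl (fun s _ => ?_)
      show indFun I (ψ : I → ℂ) (s * s) * (fA a (s * s) : ℂ) = _
      rw [map_mul, Units.val_mul, hfAsq, mul_one]
  choose F hFdef using hF
  rw [Nat.card_eq_fintype_card, Nat.card_eq_fintype_card, ← Finset.card_univ, ← Finset.card_univ]
  refine Finset.card_le_mul_card_image_of_maps_to (f := F) (fun a _ => Finset.mem_univ _) I.index
    (fun b _ => ?_)
  by_cases hfib : (Finset.univ.filter (fun a => F a = b)).Nonempty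
  · obtain ⟨a₁, ha₁⟩ := hfib
    have ha₁' : F a₁ = b := (Finset.mem_filter.mp ha₁).2
    have hcard : (Finset.univ.filter (fun a => F a = b)).card =
        ((Finset.univ.filter (fun a => F a = b)).image (fun a => fA a * (fA a₁)⁻¹)).card := by
      rw [Finset.card_image_of_injective]
      intro a a' haa'
      exact hfAinj (mul_right_cancel haa')
    rw [hcard]
    apply card_hom_trivial_on_le_index I
    intro ν hν i hi
    obtain ⟨a, ha, rfl⟩ := Finset.mem_image.mp hν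
    have ha' : F a = b := (Finset.mem_filter.mp ha).2
    have heq : ∀ g : G, indFun I (ψ : I → ℂ) g * (fA a g : ℂ) =
        indFun I (ψ : I → ℂ) g * (fA a₁ g : ℂ) := by
      intro g
      rw [← hFdef a g, ← hFdef a₁ g, ha', ha₁']
    have h1 := hom_eq_on_inertia hNI φ hI ψ hψφ hNcomm (fA a) (fA a₁) heq i hi
    rw [MonoidHom.mul_apply, MonoidHom.inv_apply, h1, mul_inv_cancel]
  · rw [Finset.not_nonempty_iff_eq_empty] at hfib
    rw [hfib, Finset.card_empty]
    exact Nat.zero_le _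

end bound

section averaging

variable {G : Type*} [Group G] [Fintype G] {N I : Subgroup G} [hN : N.Normal] [Fintype N]
  [Fintype I]

/-- Translation invariance: a sum over `G` is the average of the coset sums. -/
theorem sum_eq_inv_card_mul_sum_sum (F : G → ℂ) :
    ∑ g : G, F g = (Nat.card N : ℂ)⁻¹ * ∑ g : G, ∑ n : N, F (g * n) := by
  have hN0 : (Nat.card N : ℂ) ≠ 0 := by exact_mod_cast (Nat.card_pos (α := N)).ne'
  rw [Finset.sum_comm]
  have h1 : ∀ n : N, ∑ g : G, F (g * n) = ∑ g : G, F g := fun n =>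
    Fintype.sum_equiv (Equiv.mulRight (n : G)) _ _ (fun g => rfl)
  rw [Finset.sum_congr rfl (fun n _ => h1 n), Finset.sum_const, Finset.card_univ, nsmul_eq_mul,
    ← Nat.card_eq_fintype_card, ← mul_assoc, inv_mul_cancel₀ hN0, one_mul]

/-- For a linear character `Ψ` of `I ≥ N`, the coset sums of `g ↦ Ψ°(g²)` vanish unless conjugation
by `g` inverts `λ = Ψ|_N`. -/
theorem sum_sq_extendByZero_hom (hNI : N ≤ I) (Ψ : I →* ℂˣ) (g : G)
    (hg : ∃ n : N, (Ψ (Subgroup.inclusion hNI ⟨g⁻¹ * n * g, by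
        have := hN.conj_mem (n : G) n.2 g⁻¹; simpa using this⟩) : ℂ) *
        (Ψ (Subgroup.inclusion hNI n) : ℂ) ≠ 1) :
    ∑ n : N, extendByZero I (fun x : I => (Ψ x : ℂ)) (g * n * (g * n)) = 0 := by
  classical
  by_cases hgg : g * g ∈ I
  · -- the homomorphism `θ`
    have hconj : ∀ n : N, g⁻¹ * (n : G) * g ∈ N := fun n => by
      have := hN.conj_mem (n : G) n.2 g⁻¹; simpa using this
    let θ : N →* ℂˣ :=
      { toFun := fun n => Ψ (Subgroup.inclusion hNI ⟨g⁻¹ * n * g, hconj n⟩) *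
          Ψ (Subgroup.inclusion hNI n)
        map_one' := by
          have h1 : (⟨g⁻¹ * ((1 : N) : G) * g, hconj 1⟩ : N) = 1 := by
            apply Subtype.ext; simp
          rw [h1, map_one, map_one, one_mul]
        map_mul' := fun a b => by
          have h1 : (⟨g⁻¹ * ((a * b : N) : G) * g, hconj (a * b)⟩ : N) =
              ⟨g⁻¹ * (a : G) * g, hconj a⟩ * ⟨g⁻¹ * (b : G) * g, hconj b⟩ := by
            apply Subtype.ext
            simp only [Subgroup.coe_mul]
            group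
          rw [h1, map_mul, map_mul, map_mul, map_mul]
          exact mul_mul_mul_comm _ _ _ _ }
    have hθ : (Units.coeHom ℂ).comp θ ≠ 1 := by
      obtain ⟨n, hn⟩ := hg
      intro h
      apply hn
      have h2 := congrArg (fun k : N →* ℂ => k n) h
      simpa [θ] using h2
    have hsum : ∑ n : N, ((θ n : ℂˣ) : ℂ) = 0 :=
      sum_hom_units_eq_zero ((Units.coeHom ℂ).comp θ) hθ
    have hterm : ∀ n : N, extendByZero I (fun x : I => (Ψ x : ℂ)) (g * n * (g * n)) =
        (Ψ ⟨g * g, hgg⟩ : ℂ) * ((θ n : ℂˣ) : ℂ) := by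
      intro n
      have hmem : g * n * (g * n) = ((⟨g * g, hgg⟩ * Subgroup.inclusion hNI ⟨g⁻¹ * n * g, hconj n⟩ *
          Subgroup.inclusion hNI n : I) : G) := by
        simp only [Subgroup.coe_mul, Subgroup.coe_inclusion]
        group
      rw [hmem, extendByZero_apply_mem]
      simp only [map_mul, Units.val_mul, θ, MonoidHom.coe_mk, OneHom.coe_mk]
      ring
    rw [Finset.sum_congr rfl (fun n _ => hterm n), ← Finset.mul_sum, hsum, mul_zero]
  · apply Finset.sum_eq_zero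
    intro n _
    apply extendByZero_apply_not_mem
    intro h
    apply hgg
    have hconj : g⁻¹ * (n : G) * g ∈ I := hNI (by
      have := hN.conj_mem (n : G) n.2 g⁻¹; simpa using this)
    have h2 : g * g = g * n * (g * n) * (n : G)⁻¹ * (g⁻¹ * (n : G) * g)⁻¹ := by group
    rw [h2]
    exact I.mul_mem (I.mul_mem h (I.inv_mem (hNI n.2))) (I.inv_mem hconj)

end averaging

section split

variable {G : Type*} [Group G] (N P : Subgroup G) [hN : N.Normal]

theorem exists_mul_of_sup_eq_top (hprod : N ⊔ P = ⊤) (g : G) :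
    ∃ n ∈ N, ∃ h ∈ P, g = n * h := by
  have hg : g ∈ N ⊔ P := hprod ▸ Subgroup.mem_top g
  rw [← SetLike.mem_coe, Subgroup.normal_mul] at hg
  obtain ⟨n, hn, h, hh, rfl⟩ := Set.mem_mul.mp hg
  exact ⟨n, hn, h, hh, rfl⟩

theorem inf_centralizer_eq_bot (hdisj : N ⊓ P = ⊥) (hprod : N ⊔ P = ⊤)
    (hmin : N ≠ ⊥ ∧ ∀ M : Subgroup G, M.Normal → M ≠ ⊥ → N ≤ M) :
    P ⊓ Subgroup.centralizer (N : Set G) = ⊥ := by
  by_contra hne
  have hnormal : (P ⊓ Subgroup.centralizer (N : Set G)).Normal := by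
    constructor
    intro k hk g
    obtain ⟨n, hn, h, hh, rfl⟩ := exists_mul_of_sup_eq_top N P hprod g
    have hk' : h * k * h⁻¹ ∈ P ⊓ Subgroup.centralizer (N : Set G) :=
      ⟨P.mul_mem (P.mul_mem hh hk.1) (P.inv_mem hh),
        (Subgroup.normal_centralizer (H := N)).conj_mem k hk.2 h⟩
    have h1 : n * h * k * (n * h)⁻¹ = n * (h * k * h⁻¹) * n⁻¹ := by group
    rw [h1]
    have hc : n * (h * k * h⁻¹) = (h * k * h⁻¹) * n :=
      Subgroup.mem_centralizer_iff.mp hk'.2 n hn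
    rw [hc, mul_inv_cancel_right]
    exact hk'
  have h2 := hmin.2 _ hnormal hne
  have hle : N ≤ N ⊓ P := le_inf le_rfl (h2.trans inf_le_left)
  rw [hdisj] at hle
  exact hmin.1 (le_bot_iff.mp hle)

theorem exists_central_involution [Finite G] (hP : IsPGroup 2 P) (hP1 : P ≠ ⊥) :
    ∃ z ∈ P, z ≠ 1 ∧ z * z = 1 ∧ ∀ h ∈ P, h * z = z * h := by
  haveI : Nontrivial P := (Subgroup.nontrivial_iff_ne_bot P).mpr hP1
  haveI := hP.center_nontrivial
  have hZ : IsPGroup 2 (Subgroup.center P) := hP.to_subgroup _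
  have hdvd : 2 ∣ Nat.card (Subgroup.center P) := by
    rcases hZ.card_eq_or_dvd with h | h
    · exact absurd h (Finite.one_lt_card (α := Subgroup.center P)).ne'
    · exact h
  haveI : Fact (Nat.Prime 2) := ⟨Nat.prime_two⟩
  obtain ⟨c, hc⟩ := exists_prime_orderOf_dvd_card' 2 hdvd
  refine ⟨((c : P) : G), (c : P).2, ?_, ?_, ?_⟩
  · intro h1
    have h2 : c = 1 := by
      apply Subtype.ext; apply Subtype.ext; exact h1
    rw [h2, orderOf_one] at hc
    omega
  · have h1 : c ^ 2 = 1 := by rw [← hc]; exact pow_orderOf_eq_one c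
    have h2 := congrArg (fun x : Subgroup.center P => ((x : P) : G)) h1
    simpa [pow_two] using h2
  · intro h hh
    have h1 := Subgroup.mem_center_iff.mp c.2 ⟨h, hh⟩
    have h2 := congrArg (fun x : P => (x : G)) h1
    simpa using h2

theorem conj_eq_inv_of_central_involution (hNcomm : ∀ a ∈ N, ∀ b ∈ N, a * b = b * a)
    (hdisj : N ⊓ P = ⊥) (hprod : N ⊔ P = ⊤)
    (hmin : N ≠ ⊥ ∧ ∀ M : Subgroup G, M.Normal → M ≠ ⊥ → N ≤ M)
    (z : G) (hzP : z ∈ P) (hz1 : z ≠ 1) (hzz : z * z = 1) (hzc : ∀ h ∈ P, h * z = z * h) :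
    ∀ n ∈ N, z * n * z⁻¹ = n⁻¹ := by
  have hzinv : z⁻¹ = z := inv_eq_of_mul_eq_one_left hzz
  -- the fixed points of `z` on `N`
  have hCnormal : (N ⊓ Subgroup.centralizer ({z} : Set G)).Normal := by
    constructor
    intro m hm g
    obtain ⟨n, hn, h, hh, rfl⟩ := exists_mul_of_sup_eq_top N P hprod g
    have hmz : z * m = m * z := Subgroup.mem_centralizer_iff.mp hm.2 z rfl
    have hm' : h * m * h⁻¹ ∈ N := hN.conj_mem m hm.1 h
    have h1 : n * h * m * (n * h)⁻¹ = n * (h * m * h⁻¹) * n⁻¹ := by group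
    rw [h1, hNcomm n hn _ hm', mul_inv_cancel_right]
    refine ⟨hm', Subgroup.mem_centralizer_iff.mpr ?_⟩
    intro y hy
    rw [Set.mem_singleton_iff.mp hy]
    have hhz : h * z = z * h := hzc h hh
    have hhz' : z * h⁻¹ = h⁻¹ * z := by
      rw [eq_inv_mul_iff_mul_eq, ← mul_assoc, hhz, mul_assoc, mul_inv_cancel, mul_one]
    calc z * (h * m * h⁻¹) = (z * h) * m * h⁻¹ := by group
      _ = h * (z * m) * h⁻¹ := by rw [← hhz]; group
      _ = h * m * (z * h⁻¹) := by rw [hmz]; group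
      _ = h * m * h⁻¹ * z := by rw [hhz']; group
  have hCbot : N ⊓ Subgroup.centralizer ({z} : Set G) = ⊥ := by
    by_contra hne
    have h2 := hmin.2 _ hCnormal hne
    have hz' : z ∈ P ⊓ Subgroup.centralizer (N : Set G) := by
      refine ⟨hzP, Subgroup.mem_centralizer_iff.mpr ?_⟩
      intro n hn
      exact (Subgroup.mem_centralizer_iff.mp (h2 hn).2 z rfl).symm
    rw [inf_centralizer_eq_bot N P hdisj hprod hmin] at hz'
    exact hz1 (Subgroup.mem_bot.mp hz')
  intro n hn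
  have hzn : z * n * z⁻¹ ∈ N := hN.conj_mem n hn z
  have hm : n * (z * n * z⁻¹) ∈ N ⊓ Subgroup.centralizer ({z} : Set G) := by
    refine ⟨N.mul_mem hn hzn, Subgroup.mem_centralizer_iff.mpr ?_⟩
    intro y hy
    rw [Set.mem_singleton_iff.mp hy]
    have hw : z * (z * n * z⁻¹) * z⁻¹ = n := by
      have h5 : z * (z * n * z⁻¹) * z⁻¹ = (z * z) * n * (z * z)⁻¹ := by group
      rw [h5, hzz, one_mul, inv_one, mul_one]
    have h3 : z * (n * (z * n * z⁻¹)) = (z * n * z⁻¹) * (z * (z * n * z⁻¹) * z⁻¹) * z := by group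
    rw [h3, hw, hNcomm _ hzn n hn]
  rw [hCbot] at hm
  have h4 := Subgroup.mem_bot.mp hm
  exact eq_inv_of_mul_eq_one_right h4

theorem le_commutator_of_inverted (q : ℕ) (hq : q % 2 = 1) (hpow : ∀ a ∈ N, a ^ q = 1)
    (z : G) (hz : ∀ n ∈ N, z * n * z⁻¹ = n⁻¹) : N ≤ commutator G := by
  intro n hn
  obtain ⟨k, hk⟩ : ∃ k, q = 2 * k + 1 := ⟨q / 2, by omega⟩
  have hm : n ^ (k + 1) ∈ N := N.pow_mem hn _
  have h1 : ⁅n ^ (k + 1), z⁆ = n := by
    rw [commutatorElement_def]
    have h2 : n ^ (k + 1) * z * (n ^ (k + 1))⁻¹ * z⁻¹ =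
        n ^ (k + 1) * (z * (n ^ (k + 1))⁻¹ * z⁻¹) := by group
    rw [h2, hz _ (N.inv_mem hm), inv_inv, ← pow_add]
    have h3 : k + 1 + (k + 1) = q + 1 := by omega
    rw [h3, pow_succ, hpow n hn, one_mul]
  rw [← h1, commutator_def]
  exact Subgroup.commutator_mem_commutator (Subgroup.mem_top _) (Subgroup.mem_top _)

end split


section split2

variable {G : Type*} [Group G] (N P : Subgroup G) [hN : N.Normal]

theorem existsUnique_retract (hdisj : N ⊓ P = ⊥) (hprod : N ⊔ P = ⊤) (g : G) :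
    ∃! h : P, g * (h : G)⁻¹ ∈ N := by
  obtain ⟨n, hn, h, hh, rfl⟩ := exists_mul_of_sup_eq_top N P hprod g
  refine ⟨⟨h, hh⟩, by simpa using hn, ?_⟩
  intro h' hh'
  have h1 : h * (h' : G)⁻¹ ∈ N := by
    have h3 := N.mul_mem (N.inv_mem hn) hh'
    have h4 : n⁻¹ * (n * h * (h' : G)⁻¹) = h * (h' : G)⁻¹ := by group
    rwa [h4] at h3
  have h2 : h * (h' : G)⁻¹ ∈ N ⊓ P := ⟨h1, P.mul_mem hh (P.inv_mem h'.2)⟩
  rw [hdisj, Subgroup.mem_bot] at h2
  apply Subtype.ext
  exact (mul_inv_eq_one.mp h2).symm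

/-- The retraction `G → P` with kernel `N`. -/
noncomputable def retract (hdisj : N ⊓ P = ⊥) (hprod : N ⊔ P = ⊤) : G →* P where
  toFun g := (existsUnique_retract N P hdisj hprod g).exists.choose
  map_one' := by
    have h1 := (existsUnique_retract N P hdisj hprod 1).unique
      (existsUnique_retract N P hdisj hprod 1).exists.choose_spec
      (show (1 : G) * ((1 : P) : G)⁻¹ ∈ N by simp)
    exact h1
  map_mul' := fun a b => by
    have ha := (existsUnique_retract N P hdisj hprod a).exists.choose_spec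
    have hb := (existsUnique_retract N P hdisj hprod b).exists.choose_spec
    set ra := (existsUnique_retract N P hdisj hprod a).exists.choose with hra
    set rb := (existsUnique_retract N P hdisj hprod b).exists.choose with hrb
    refine (existsUnique_retract N P hdisj hprod (a * b)).unique
      (existsUnique_retract N P hdisj hprod (a * b)).exists.choose_spec ?_
    have h1 : a * b * ((ra * rb : P) : G)⁻¹ =
        (a * (ra : G)⁻¹) * ((ra : G) * (b * (rb : G)⁻¹) * (ra : G)⁻¹) := by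
      simp only [Subgroup.coe_mul]
      group
    rw [h1]
    exact N.mul_mem ha (hN.conj_mem _ hb _)

theorem retract_spec (hdisj : N ⊓ P = ⊥) (hprod : N ⊔ P = ⊤) (g : G) :
    g * ((retract N P hdisj hprod g : P) : G)⁻¹ ∈ N :=
  (existsUnique_retract N P hdisj hprod g).exists.choose_spec

theorem retract_eq (hdisj : N ⊓ P = ⊥) (hprod : N ⊔ P = ⊤) (g : G) (h : P)
    (hh : g * (h : G)⁻¹ ∈ N) : retract N P hdisj hprod g = h :=
  (existsUnique_retract N P hdisj hprod g).unique (retract_spec N P hdisj hprod g) hh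

theorem retract_of_mem (hdisj : N ⊓ P = ⊥) (hprod : N ⊔ P = ⊤) (h : G) (hh : h ∈ P) :
    retract N P hdisj hprod h = ⟨h, hh⟩ :=
  retract_eq N P hdisj hprod h ⟨h, hh⟩ (by simp)

theorem retract_of_mem_normal (hdisj : N ⊓ P = ⊥) (hprod : N ⊔ P = ⊤) (n : G) (hn : n ∈ N) :
    retract N P hdisj hprod n = 1 :=
  retract_eq N P hdisj hprod n 1 (by simpa using hn)

/-- The stabilizer of a linear character of `N`. -/
def stab (lam : N →* ℂˣ) : Subgroup G where
  carrier := {g | ∀ n : N, lam ⟨g * n * g⁻¹, hN.conj_mem n n.2 g⟩ = lam n}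
  one_mem' := by
    intro n
    congr 1
    apply Subtype.ext
    simp
  mul_mem' := by
    intro a b ha hb n
    have h1 : (⟨a * b * n * (a * b)⁻¹, hN.conj_mem n n.2 (a * b)⟩ : N) =
        ⟨a * (⟨b * n * b⁻¹, hN.conj_mem n n.2 b⟩ : N) * a⁻¹, hN.conj_mem _ (Subtype.property _) a⟩ := by
      apply Subtype.ext
      simp only
      group
    rw [h1, ha, hb]
  inv_mem' := by
    intro a ha n
    have h1 := ha ⟨a⁻¹ * n * a⁻¹⁻¹, hN.conj_mem n n.2 a⁻¹⟩
    rw [← h1]
    congr 1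
    apply Subtype.ext
    simp only
    group

theorem mem_stab (lam : N →* ℂˣ) (g : G) :
    g ∈ stab N lam ↔ ∀ n : N, lam ⟨g * n * g⁻¹, hN.conj_mem n n.2 g⟩ = lam n := Iff.rfl

theorem le_stab (lam : N →* ℂˣ) : N ≤ stab N lam := by
  intro m hm n
  have h1 : (⟨m * n * m⁻¹, hN.conj_mem n n.2 m⟩ : N) = ⟨m, hm⟩ * n * ⟨m, hm⟩⁻¹ := by
    apply Subtype.ext
    simp
  rw [h1, map_mul, map_mul, map_inv, mul_comm, inv_mul_cancel_left]

theorem retract_mem_stab (hdisj : N ⊓ P = ⊥) (hprod : N ⊔ P = ⊤) (lam : N →* ℂˣ) (x : G)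
    (hx : x ∈ stab N lam) : ((retract N P hdisj hprod x : P) : G) ∈ stab N lam := by
  have h1 : ((retract N P hdisj hprod x : P) : G) =
      (x * ((retract N P hdisj hprod x : P) : G)⁻¹)⁻¹ * x := by group
  rw [h1]
  exact (stab N lam).mul_mem ((stab N lam).inv_mem (le_stab N lam (retract_spec N P hdisj hprod x)))
    hx

/-- The canonical extension of `lam` to its stabilizer (trivial on `P ∩ stab`). -/
noncomputable def extStab (hdisj : N ⊓ P = ⊥) (hprod : N ⊔ P = ⊤) (lam : N →* ℂˣ) :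
    stab N lam →* ℂˣ where
  toFun x := lam ⟨(x : G) * ((retract N P hdisj hprod (x : G) : P) : G)⁻¹,
    retract_spec N P hdisj hprod x⟩
  map_one' := by
    have h1 : (⟨((1 : stab N lam) : G) *
        ((retract N P hdisj hprod ((1 : stab N lam) : G) : P) : G)⁻¹,
        retract_spec N P hdisj hprod _⟩ : N) = 1 := by
      apply Subtype.ext
      simp
    rw [h1, map_one]
  map_mul' := fun x y => by
    have hrx := retract_mem_stab N P hdisj hprod lam x x.2
    have h1 : (⟨((x * y : stab N lam) : G) *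
        ((retract N P hdisj hprod ((x * y : stab N lam) : G) : P) : G)⁻¹,
        retract_spec N P hdisj hprod _⟩ : N) =
        ⟨(x : G) * ((retract N P hdisj hprod (x : G) : P) : G)⁻¹,
          retract_spec N P hdisj hprod x⟩ *
        ⟨((retract N P hdisj hprod (x : G) : P) : G) *
          (⟨(y : G) * ((retract N P hdisj hprod (y : G) : P) : G)⁻¹,
            retract_spec N P hdisj hprod y⟩ : N) *
          ((retract N P hdisj hprod (x : G) : P) : G)⁻¹, hN.conj_mem _ (Subtype.property _) _⟩ := by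
      apply Subtype.ext
      simp only [Subgroup.coe_mul, map_mul]
      group
    rw [h1, map_mul, hrx]

theorem extStab_apply (hdisj : N ⊓ P = ⊥) (hprod : N ⊔ P = ⊤) (lam : N →* ℂˣ)
    (x : stab N lam) : extStab N P hdisj hprod lam x =
      lam ⟨(x : G) * ((retract N P hdisj hprod (x : G) : P) : G)⁻¹,
        retract_spec N P hdisj hprod x⟩ := rfl

theorem extStab_inclusion (hdisj : N ⊓ P = ⊥) (hprod : N ⊔ P = ⊤) (lam : N →* ℂˣ) (n : N) :
    extStab N P hdisj hprod lam (Subgroup.inclusion (le_stab N lam) n) = lam n := by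
  rw [extStab_apply]
  congr 1
  apply Subtype.ext
  simp only [Subgroup.coe_inclusion]
  rw [retract_of_mem_normal N P hdisj hprod n n.2]
  simp

end split2

section indicator

variable {G : Type*} [Group G] [Fintype G] (N P : Subgroup G) [hN : N.Normal]

theorem fsInd_indFun_extStab (hdisj : N ⊓ P = ⊥) (hprod : N ⊔ P = ⊤) (lam : N →* ℂˣ)
    (z : G) (hzP : z ∈ P) (hzz : z * z = 1) (hzc : ∀ h ∈ P, h * z = z * h)
    (hzinv : ∀ n ∈ N, z * n * z⁻¹ = n⁻¹) [Fintype N] [Fintype (stab N lam)] :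
    fsInd (indFun (stab N lam)
      (fun x : stab N lam => ((extStab N P hdisj hprod lam x : ℂˣ) : ℂ))) = 1 := by
  classical
  have hzi : z⁻¹ = z := inv_eq_of_mul_eq_one_left hzz
  have hzinv' : ∀ n ∈ N, z⁻¹ * n * z = n⁻¹ := by
    intro n hn
    have h1 := hzinv n hn
    rw [hzi] at h1 ⊢
    exact h1
  set I := stab N lam with hI
  set Ψ := extStab N P hdisj hprod lam with hΨ
  have hI0 : (Nat.card I : ℂ) ≠ 0 := by exact_mod_cast (Nat.card_pos (α := I)).ne'
  rw [fsInd_indFun]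
  -- conjugation by `z` preserves `I` and inverts `Ψ`
  have hzI : ∀ x : G, x ∈ I → z * x * z⁻¹ ∈ I := by
    intro x hx n
    have hx' := hx ⟨(n : G)⁻¹, N.inv_mem n.2⟩
    have h1 : (⟨z * x * z⁻¹ * n * (z * x * z⁻¹)⁻¹, hN.conj_mem n n.2 _⟩ : N) =
        (⟨x * ((⟨(n : G)⁻¹, N.inv_mem n.2⟩ : N) : G) * x⁻¹, hN.conj_mem _ (N.inv_mem n.2) x⟩ : N)⁻¹ := by
      apply Subtype.ext
      simp only [Subgroup.coe_inv]
      have h2 : z * x * z⁻¹ * n * (z * x * z⁻¹)⁻¹ = z * (x * (z⁻¹ * n * z) * x⁻¹) * z⁻¹ := by group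
      rw [h2, hzinv' n n.2, hzinv _ (hN.conj_mem _ (N.inv_mem n.2) x)]
    rw [h1, map_inv, hx', ← map_inv]
    congr 1
    apply Subtype.ext
    simp
  have hΨz : ∀ (x : G) (hx : x ∈ I), Ψ ⟨z * x * z⁻¹, hzI x hx⟩ = (Ψ ⟨x, hx⟩)⁻¹ := by
    intro x hx
    rw [hΨ, extStab_apply, extStab_apply, ← map_inv]
    congr 1
    apply Subtype.ext
    simp only [Subgroup.coe_inv]
    have hr : retract N P hdisj hprod (z * x * z⁻¹) = retract N P hdisj hprod x := by
      rw [map_mul, map_mul, map_inv, retract_of_mem N P hdisj hprod z hzP]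
      apply Subtype.ext
      simp only [Subgroup.coe_mul, Subgroup.coe_inv]
      have h3 := hzc _ (retract N P hdisj hprod x).2
      rw [← h3, mul_inv_cancel_right]
    rw [hr]
    have h4 := hzinv _ (retract_spec N P hdisj hprod x)
    rw [← h4]
    have h5 := hzc _ (P.inv_mem (retract N P hdisj hprod x).2)
    have h6 : z * x * z⁻¹ * ((retract N P hdisj hprod x : P) : G)⁻¹ =
        z * x * (z⁻¹ * ((retract N P hdisj hprod x : P) : G)⁻¹) := by group
    have h7 : z⁻¹ * ((retract N P hdisj hprod x : P) : G)⁻¹ =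
        ((retract N P hdisj hprod x : P) : G)⁻¹ * z⁻¹ := by
      rw [hzi]; exact h5.symm
    rw [h6, h7]
    group
  -- Claim A
  have hA : ∀ g : G, z * g ∈ I →
      extendByZero I (fun x : I => ((Ψ x : ℂˣ) : ℂ)) (g * g) = 1 := by
    intro g hg
    have h1 : g * g = ((⟨z * (z * g) * z⁻¹, hzI _ hg⟩ * ⟨z * g, hg⟩ : I) : G) := by
      simp only [Subgroup.coe_mul]
      have h2 : z * (z * g) * z⁻¹ * (z * g) = (z * z) * g * (z⁻¹ * z) * g := by group
      rw [h2, hzz]
      group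
    rw [h1, extendByZero_apply_mem, map_mul, hΨz _ hg, inv_mul_cancel, Units.val_one]
  -- Claim B
  have hB : ∀ g : G, z * g ∉ I →
      ∑ n : N, extendByZero I (fun x : I => ((Ψ x : ℂˣ) : ℂ)) (g * n * (g * n)) = 0 := by
    intro g hg
    apply sum_sq_extendByZero_hom (le_stab N lam) Ψ g
    by_contra hcon
    push Not at hcon
    apply hg
    have h1 : (z * g)⁻¹ ∈ I := by
      intro n
      have h2 := hcon ⟨(n : G)⁻¹, N.inv_mem n.2⟩
      rw [hΨ, extStab_inclusion, extStab_inclusion] at h2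
      have h3 : (⟨(z * g)⁻¹ * n * (z * g)⁻¹⁻¹, hN.conj_mem n n.2 _⟩ : N) =
          ⟨g⁻¹ * ((⟨(n : G)⁻¹, N.inv_mem n.2⟩ : N) : G) * g, by
            have := hN.conj_mem _ (N.inv_mem n.2) g⁻¹; simpa using this⟩ := by
        apply Subtype.ext
        simp only
        have h4 : (z * g)⁻¹ * n * (z * g)⁻¹⁻¹ = g⁻¹ * (z⁻¹ * n * z) * g := by group
        rw [h4, hzinv' n n.2]
      rw [h3]
      have h5 : ((lam ⟨g⁻¹ * ((⟨(n : G)⁻¹, N.inv_mem n.2⟩ : N) : G) * g, by
            have := hN.conj_mem _ (N.inv_mem n.2) g⁻¹; simpa using this⟩ : ℂˣ) : ℂ) *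
          ((lam ⟨(n : G)⁻¹, N.inv_mem n.2⟩ : ℂˣ) : ℂ) = 1 := h2
      have h6 : lam ⟨(n : G)⁻¹, N.inv_mem n.2⟩ = (lam n)⁻¹ := by
        rw [← map_inv]; rfl
      rw [h6] at h5
      have h7 := Units.ext_iff.mpr (by simpa using h5 :
        ((lam ⟨g⁻¹ * ((⟨(n : G)⁻¹, N.inv_mem n.2⟩ : N) : G) * g, by
            have := hN.conj_mem _ (N.inv_mem n.2) g⁻¹; simpa using this⟩ * (lam n)⁻¹ : ℂˣ) : ℂ) =
          ((1 : ℂˣ) : ℂ))
      exact mul_inv_eq_one.mp h7
    have h8 := I.inv_mem h1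
    simpa using h8
  -- split the sum
  have hsplit : ∀ g : G, extendByZero I (fun x : I => ((Ψ x : ℂˣ) : ℂ)) (g * g) =
      (if z * g ∈ I then (1 : ℂ) else 0) +
      (if z * g ∈ I then 0 else extendByZero I (fun x : I => ((Ψ x : ℂˣ) : ℂ)) (g * g)) := by
    intro g
    split_ifs with h
    · rw [hA g h, add_zero]
    · rw [zero_add]
  rw [Finset.sum_congr rfl (fun g _ => hsplit g), Finset.sum_add_distrib]
  have h1 : ∑ g : G, (if z * g ∈ I then (1 : ℂ) else 0) = (Nat.card I : ℂ) := by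
    have h2 : ∑ g : G, (if z * g ∈ I then (1 : ℂ) else 0) =
        ∑ g : G, (if g ∈ I then (1 : ℂ) else 0) :=
      Fintype.sum_equiv (Equiv.mulLeft z) _ _ (fun g => rfl)
    rw [h2, sum_ite_mem_subgroup I (fun _ => (1 : ℂ)), Finset.sum_const, Finset.card_univ,
      nsmul_eq_mul, mul_one, Nat.card_eq_fintype_card]
  have h2 : ∑ g : G, (if z * g ∈ I then (0 : ℂ) else
      extendByZero I (fun x : I => ((Ψ x : ℂˣ) : ℂ)) (g * g)) = 0 := by
    apply sum_eq_zero_of_coset_sums N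
    intro g
    by_cases hg : z * g ∈ I
    · have hgn : ∀ n : N, z * (g * (n : G)) ∈ I := fun n => by
        rw [← mul_assoc]; exact I.mul_mem hg (le_stab N lam n.2)
      simp only [hgn, if_true, Finset.sum_const_zero]
    · have hgn : ∀ n : N, z * (g * (n : G)) ∉ I := by
        intro n h
        apply hg
        have h3 := I.mul_mem h (I.inv_mem (le_stab N lam n.2))
        have h4 : z * (g * (n : G)) * (n : G)⁻¹ = z * g := by group
        rwa [h4] at h3
      simp only [hgn, if_false]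
      exact hB g hg
  rw [h1, h2, add_zero, inv_mul_cancel₀ hI0]

end indicator


section assembly

variable {G : Type*} [Group G] [Finite G] (N P : Subgroup G) [hN : N.Normal]

theorem stab_ne_top (hdisj : N ⊓ P = ⊥) (hprod : N ⊔ P = ⊤) (hP1 : P ≠ ⊥)
    (hmin : N ≠ ⊥ ∧ ∀ M : Subgroup G, M.Normal → M ≠ ⊥ → N ≤ M)
    (lam : N →* ℂˣ) (hlam : ∃ a : N, lam a ≠ 1) : stab N lam ≠ ⊤ := by
  intro htop
  have hinv : ∀ (g : G) (n : N), lam ⟨g * n * g⁻¹, hN.conj_mem n n.2 g⟩ = lam n := by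
    intro g n
    have hg : g ∈ stab N lam := htop ▸ Subgroup.mem_top g
    exact hg n
  -- the kernel of `lam` is normal in `G`
  have hKnormal : ((lam.ker).map N.subtype).Normal := by
    constructor
    intro k hk g
    obtain ⟨n, hn, rfl⟩ := Subgroup.mem_map.mp hk
    refine Subgroup.mem_map.mpr ⟨⟨g * n * g⁻¹, hN.conj_mem n n.2 g⟩, ?_, rfl⟩
    rw [MonoidHom.mem_ker, hinv g n]
    exact MonoidHom.mem_ker.mp hn
  have hKbot : (lam.ker).map N.subtype = ⊥ := by
    by_contra hne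
    have h1 := hmin.2 _ hKnormal hne
    obtain ⟨a, ha⟩ := hlam
    apply ha
    obtain ⟨n, hn, hna⟩ := Subgroup.mem_map.mp (h1 a.2)
    have h2 : n = a := Subtype.ext hna
    rw [← h2]
    exact MonoidHom.mem_ker.mp hn
  have hinj : ∀ n m : N, lam n = lam m → n = m := by
    intro n m hnm
    have h1 : n * m⁻¹ ∈ lam.ker := by
      rw [MonoidHom.mem_ker, map_mul, map_inv, hnm, mul_inv_cancel]
    have h2 : ((n * m⁻¹ : N) : G) ∈ (lam.ker).map N.subtype :=
      Subgroup.mem_map.mpr ⟨_, h1, rfl⟩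
    rw [hKbot, Subgroup.mem_bot] at h2
    have h3 : n * m⁻¹ = 1 := Subtype.ext h2
    exact mul_inv_eq_one.mp h3
  have hPle : P ≤ P ⊓ Subgroup.centralizer (N : Set G) := by
    intro h hh
    refine ⟨hh, Subgroup.mem_centralizer_iff.mpr ?_⟩
    intro n hn
    have h1 := hinj _ _ (hinv h ⟨n, hn⟩)
    have h2 : h * n * h⁻¹ = n := congrArg Subtype.val h1
    calc n * h = (h * n * h⁻¹) * h := by rw [h2]
      _ = h * n := by group
  rw [inf_centralizer_eq_bot N P hdisj hprod hmin] at hPle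
  exact hP1 (le_bot_iff.mp hPle)

theorem isPGroup_quotient_of_sup_eq_top (hprod : N ⊔ P = ⊤) (hP : IsPGroup 2 P) :
    IsPGroup 2 (G ⧸ N) := by
  intro x
  obtain ⟨g, rfl⟩ := QuotientGroup.mk_surjective x
  obtain ⟨n, hn, h, hh, rfl⟩ := exists_mul_of_sup_eq_top N P hprod g
  obtain ⟨k, hk⟩ := hP ⟨h, hh⟩
  refine ⟨k, ?_⟩
  have h1 : ((n * h : G) : G ⧸ N) = ((h : G) : G ⧸ N) := by
    rw [QuotientGroup.mk_mul, (QuotientGroup.eq_one_iff n).mpr hn, one_mul]
  rw [h1, ← QuotientGroup.mk_pow]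
  have h2 : h ^ 2 ^ k = 1 := by
    have := congrArg (fun y : P => (y : G)) hk
    simpa using this
  rw [h2, QuotientGroup.mk_one]

theorem two_dvd_index_stab (hdisj : N ⊓ P = ⊥) (hprod : N ⊔ P = ⊤) (hP : IsPGroup 2 P)
    (hP1 : P ≠ ⊥) (hmin : N ≠ ⊥ ∧ ∀ M : Subgroup G, M.Normal → M ≠ ⊥ → N ≤ M)
    (lam : N →* ℂˣ) (hlam : ∃ a : N, lam a ≠ 1) : 2 ∣ (stab N lam).index := by
  have h1 : (stab N lam).index ∣ N.index := Subgroup.index_dvd_of_le (le_stab N lam)
  obtain ⟨k, hk⟩ := (IsPGroup.iff_card (p := 2) (G := G ⧸ N)).mp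
    (isPGroup_quotient_of_sup_eq_top N P hprod hP)
  have hk' : N.index = 2 ^ k := hk
  rw [hk'] at h1
  obtain ⟨j, hj, hj2⟩ := (Nat.dvd_prime_pow Nat.prime_two).mp h1
  have hne : (stab N lam).index ≠ 1 := by
    rw [Ne, Subgroup.index_eq_one]
    exact stab_ne_top N P hdisj hprod hP1 hmin lam hlam
  rw [hj2] at hne ⊢
  cases j with
  | zero => exact absurd rfl hne
  | succ j => exact ⟨2 ^ j, by rw [pow_succ]; ring⟩

end assembly


section main

variable {G : Type*} [Group G] [Fintype G] (N P : Subgroup G) [hN : N.Normal]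

theorem card_real_linear_le_split (q : ℕ) (hq : q % 2 = 1) (hNcomm : IsMulCommutative N)
    (hpow : ∀ a ∈ N, a ^ q = 1) (hP : IsPGroup 2 P) (hP1 : P ≠ ⊥) (hdisj : N ⊓ P = ⊥)
    (hprod : N ⊔ P = ⊤) (hmin : N ≠ ⊥ ∧ ∀ M : Subgroup G, M.Normal → M ≠ ⊥ → N ≤ M) :
    ∃ d : ℕ, 2 ∣ d ∧
      Nat.card {χ : IrrCharacter G // charDegree (χ : G → ℂ) = 1 ∧ fsInd (χ : G → ℂ) = 1} ≤
      d * Nat.card {χ : IrrCharacter G // charDegree (χ : G → ℂ) = d ∧ fsInd (χ : G → ℂ) = 1} := by
  classical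
  haveI : Fintype N := Fintype.ofFinite _
  have hNc : ∀ a ∈ N, ∀ b ∈ N, a * b = b * a := by
    intro a ha b hb
    have := hNcomm.is_comm.comm (⟨a, ha⟩ : N) ⟨b, hb⟩
    exact congrArg Subtype.val this
  obtain ⟨z, hzP, hz1, hzz, hzc⟩ := exists_central_involution P hP hP1
  have hzinv := conj_eq_inv_of_central_involution N P hNc hdisj hprod hmin z hzP hz1 hzz hzc
  have hNG' : N ≤ commutator G := le_commutator_of_inverted N q hq hpow z hzinv
  -- a nontrivial linear character of `N`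
  obtain ⟨lam, hlam⟩ : ∃ lam : N →* ℂˣ, ∃ a : N, lam a ≠ 1 := by
    letI : CommGroup N := { (inferInstance : Group N) with
      mul_comm := fun a b => hNcomm.is_comm.comm a b }
    haveI : NeZero ((Monoid.exponent N : ℕ) : ℂ) :=
      ⟨Nat.cast_ne_zero.mpr Monoid.exponent_ne_zero_of_finite⟩
    obtain ⟨a, ha⟩ : ∃ a : N, a ≠ 1 := by
      by_contra hcon
      push Not at hcon
      apply hmin.1
      rw [Subgroup.eq_bot_iff_forall]
      intro x hx
      exact congrArg Subtype.val (hcon ⟨x, hx⟩)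
    obtain ⟨lam, hl⟩ := CommGroup.exists_apply_ne_one_of_hasEnoughRootsOfUnity N ℂ ha
    exact ⟨lam, a, hl⟩
  haveI : Fintype (stab N lam) := Fintype.ofFinite _
  refine ⟨(stab N lam).index, two_dvd_index_stab N P hdisj hprod hP hP1 hmin lam hlam, ?_⟩
  have hI : ∀ g : G, g ∈ stab N lam ↔ ∀ n : N,
      (homIrr lam : N → ℂ) ⟨g * n * g⁻¹, hN.conj_mem (n : G) n.2 g⟩ = (homIrr lam : N → ℂ) n := by
    intro g
    rw [mem_stab]
    constructor
    · intro h n
      rw [homIrr_apply, homIrr_apply, h n]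
    · intro h n
      have := h n
      rw [homIrr_apply, homIrr_apply] at this
      exact Units.ext this
  have hψφ : ∀ n : N, (homIrr (extStab N P hdisj hprod lam) : stab N lam → ℂ)
      (Subgroup.inclusion (le_stab N lam) n) = (homIrr lam : N → ℂ) n := by
    intro n
    rw [homIrr_apply, homIrr_apply, extStab_inclusion]
  have hν : fsInd (indFun (stab N lam)
      (homIrr (extStab N P hdisj hprod lam) : stab N lam → ℂ)) = 1 :=
    fsInd_indFun_extStab N P hdisj hprod lam z hzP hzz hzc hzinv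
  have key := card_real_linear_le' (le_stab N lam) (homIrr lam) hI
    (homIrr (extStab N P hdisj hprod lam)) hν hψφ hNG'
  rw [charDegree_homIrr, one_mul] at key
  exact key

end main


section arithmetic

variable {G : Type*} [Group G] [Fintype G]

theorem four_mul_card_le_of_key (d : ℕ) (hd : 2 ∣ d)
    (key : Nat.card {χ : IrrCharacter G // charDegree (χ : G → ℂ) = 1 ∧ fsInd (χ : G → ℂ) = 1} ≤
      d * Nat.card {χ : IrrCharacter G // charDegree (χ : G → ℂ) = d ∧ fsInd (χ : G → ℂ) = 1}) :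
    4 * Nat.card {χ : IrrCharacter G // (charDegree (χ : G → ℂ) = 1 ∨ 2 ∣ charDegree (χ : G → ℂ)) ∧
        fsInd (χ : G → ℂ) = 1} ≤
      3 * ∑ᶠ χ : {χ : IrrCharacter G // (charDegree (χ : G → ℂ) = 1 ∨
        2 ∣ charDegree (χ : G → ℂ)) ∧ fsInd (χ : G → ℂ) = 1}, charDegree (χ.1 : G → ℂ) := by
  classical
  haveI := Fintype.ofFinite (IrrCharacter G)
  set S : Finset (IrrCharacter G) := Finset.univ.filter (fun χ =>
    (charDegree (χ : G → ℂ) = 1 ∨ 2 ∣ charDegree (χ : G → ℂ)) ∧ fsInd (χ : G → ℂ) = 1) with hS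
  set S₁ : Finset (IrrCharacter G) := Finset.univ.filter (fun χ =>
    charDegree (χ : G → ℂ) = 1 ∧ fsInd (χ : G → ℂ) = 1) with hS₁
  set Sd : Finset (IrrCharacter G) := Finset.univ.filter (fun χ =>
    charDegree (χ : G → ℂ) = d ∧ fsInd (χ : G → ℂ) = 1) with hSd
  have hcardS : Nat.card {χ : IrrCharacter G // (charDegree (χ : G → ℂ) = 1 ∨
      2 ∣ charDegree (χ : G → ℂ)) ∧ fsInd (χ : G → ℂ) = 1} = S.card := by
    rw [Nat.card_eq_fintype_card, Fintype.card_subtype]
  have hcardS₁ : Nat.card {χ : IrrCharacter G // charDegree (χ : G → ℂ) = 1 ∧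
      fsInd (χ : G → ℂ) = 1} = S₁.card := by
    rw [Nat.card_eq_fintype_card, Fintype.card_subtype]
  have hcardSd : Nat.card {χ : IrrCharacter G // charDegree (χ : G → ℂ) = d ∧
      fsInd (χ : G → ℂ) = 1} = Sd.card := by
    rw [Nat.card_eq_fintype_card, Fintype.card_subtype]
  have hsum : ∑ᶠ χ : {χ : IrrCharacter G // (charDegree (χ : G → ℂ) = 1 ∨
      2 ∣ charDegree (χ : G → ℂ)) ∧ fsInd (χ : G → ℂ) = 1}, charDegree (χ.1 : G → ℂ) =
      ∑ χ ∈ S, charDegree (χ : G → ℂ) := by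
    rw [finsum_eq_sum_of_fintype, hS]
    exact (Finset.sum_subtype _ (by simp) (fun χ : IrrCharacter G => charDegree (χ : G → ℂ))).symm
  rw [hcardS, hsum]
  rw [hcardS₁, hcardSd] at key
  -- degrees in `S` outside `S₁` are at least two
  have hdeg2 : ∀ χ ∈ S, χ ∉ S₁ → 2 ≤ charDegree (χ : G → ℂ) := by
    intro χ hχ hχ1
    rw [hS, Finset.mem_filter] at hχ
    rw [hS₁, Finset.mem_filter] at hχ1
    rcases hχ.2.1 with h | h
    · exact absurd ⟨Finset.mem_univ _, h, hχ.2.2⟩ hχ1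
    · have hpos := charDegree_pos χ
      obtain ⟨c, hc⟩ := h
      omega
  have hS₁S : S₁ ⊆ S := by
    intro χ hχ
    rw [hS₁, Finset.mem_filter] at hχ
    rw [hS, Finset.mem_filter]
    exact ⟨Finset.mem_univ _, Or.inl hχ.2.1, hχ.2.2⟩
  by_cases hd0 : d = 0
  · -- no linear strongly real characters
    have h1 : S₁.card = 0 := by
      rw [hd0, zero_mul] at key
      omega
    have h2 : S₁ = ∅ := Finset.card_eq_zero.mp h1
    have h3 : ∑ χ ∈ S, 2 ≤ ∑ χ ∈ S, charDegree (χ : G → ℂ) :=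
      Finset.sum_le_sum (fun χ hχ => hdeg2 χ hχ (by rw [h2]; exact Finset.notMem_empty _))
    rw [Finset.sum_const, smul_eq_mul] at h3
    omega
  · have hd2 : 2 ≤ d := by
      obtain ⟨c, hc⟩ := hd
      omega
    have hSdS : Sd ⊆ S \ S₁ := by
      intro χ hχ
      rw [hSd, Finset.mem_filter] at hχ
      rw [Finset.mem_sdiff, hS, hS₁, Finset.mem_filter, Finset.mem_filter]
      refine ⟨⟨Finset.mem_univ _, Or.inr (hχ.2.1 ▸ hd), hχ.2.2⟩, ?_⟩
      rintro ⟨-, h1, -⟩
      omega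
    -- split the sum
    have hsplit : ∑ χ ∈ S, charDegree (χ : G → ℂ) =
        ∑ χ ∈ S₁, charDegree (χ : G → ℂ) + ∑ χ ∈ S \ S₁, charDegree (χ : G → ℂ) := by
      rw [add_comm, Finset.sum_sdiff hS₁S]
    have hS₁sum : ∑ χ ∈ S₁, charDegree (χ : G → ℂ) = S₁.card := by
      rw [Finset.card_eq_sum_ones]
      refine Finset.sum_congr rfl (fun χ hχ => ?_)
      rw [hS₁, Finset.mem_filter] at hχ
      exact hχ.2.1
    have hcardsplit : S.card = S₁.card + (S \ S₁).card := by
      rw [add_comm, Finset.card_sdiff_add_card_eq_card hS₁S]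
    -- on `S \ S₁`: `4 + 2 * [χ ∈ Sd] * ... `
    have hrest : 4 * (S \ S₁).card + (3 * d - 4) * Sd.card ≤
        3 * ∑ χ ∈ S \ S₁, charDegree (χ : G → ℂ) := by
      have h1 : ∑ χ ∈ S \ S₁, charDegree (χ : G → ℂ) =
          ∑ χ ∈ Sd, charDegree (χ : G → ℂ) + ∑ χ ∈ (S \ S₁) \ Sd, charDegree (χ : G → ℂ) := by
        rw [add_comm, Finset.sum_sdiff hSdS]
      have h2 : ∑ χ ∈ Sd, charDegree (χ : G → ℂ) = d * Sd.card := by
        rw [mul_comm, ← smul_eq_mul, ← Finset.sum_const]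
        refine Finset.sum_congr rfl (fun χ hχ => ?_)
        rw [hSd, Finset.mem_filter] at hχ
        exact hχ.2.1
      have h3 : ∑ χ ∈ (S \ S₁) \ Sd, 2 ≤ ∑ χ ∈ (S \ S₁) \ Sd, charDegree (χ : G → ℂ) := by
        refine Finset.sum_le_sum (fun χ hχ => ?_)
        have h4 := (Finset.mem_sdiff.mp hχ).1
        exact hdeg2 χ (Finset.mem_sdiff.mp h4).1 (Finset.mem_sdiff.mp h4).2
      rw [Finset.sum_const, smul_eq_mul] at h3
      have h5 : (S \ S₁).card = Sd.card + ((S \ S₁) \ Sd).card := by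
        rw [add_comm, Finset.card_sdiff_add_card_eq_card hSdS]
      rw [h1, h2, h5]
      have h6 : (3 * d - 4) * Sd.card + 4 * Sd.card = 3 * d * Sd.card := by
        have : 3 * d - 4 + 4 = 3 * d := by omega
        rw [← add_mul, this]
      nlinarith [h3, h6]
    have hfin : S₁.card ≤ (3 * d - 4) * Sd.card := by
      refine key.trans (Nat.mul_le_mul_right _ ?_)
      omega
    rw [hsplit, hS₁sum, hcardsplit]
    omega

/-- Version of `four_mul_card_le_of_key` with an arbitrary predicate equivalent to `fsInd = 1`. -/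
theorem four_mul_card_le_of_key' (ν1 : IrrCharacter G → Prop)
    (hν : ∀ χ : IrrCharacter G, ν1 χ ↔ fsInd (χ : G → ℂ) = 1) (d : ℕ) (hd : 2 ∣ d)
    (key : Nat.card {χ : IrrCharacter G // charDegree (χ : G → ℂ) = 1 ∧ fsInd (χ : G → ℂ) = 1} ≤
      d * Nat.card {χ : IrrCharacter G // charDegree (χ : G → ℂ) = d ∧ fsInd (χ : G → ℂ) = 1}) :
    4 * Nat.card {χ : IrrCharacter G // (charDegree (χ : G → ℂ) = 1 ∨ 2 ∣ charDegree (χ : G → ℂ)) ∧
        ν1 χ} ≤
      3 * ∑ᶠ χ : {χ : IrrCharacter G // (charDegree (χ : G → ℂ) = 1 ∨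
        2 ∣ charDegree (χ : G → ℂ)) ∧ ν1 χ}, charDegree (χ.1 : G → ℂ) := by
  have h1 : ν1 = fun χ : IrrCharacter G => fsInd (χ : G → ℂ) = 1 :=
    funext fun χ => propext (hν χ)
  subst h1
  exact four_mul_card_le_of_key d hd key

end arithmetic


end Cfsg.Agent.Lib.H24
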