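import Cfsg.Agent.Lib.H24.CoprimeCount
import Cfsg.Agent.Lib.H24.GlaubSolv5
import Cfsg.Agent.Lib.H24.StrongRealSplit

/-!
# Counting characters of degree prime to a solvable complement (helper24)

`G = K ⋊ H`, `K ⊴ G`, `(|K|, |H|) = 1`:
* `card_hom_trivial_on_eq`: the homs `G →* ℂˣ` trivial on `K` correspond to the homs `H →* ℂˣ`;
* `index_eq_card_of_coprime_sup`: `|G : K| = |H|`;
* `card_coprime_degree_split` (`H` solvable): the number of `χ ∈ Irr(G)` with `(χ(1), |H|) = 1` is
  `k(C_K(H)) · |Hom(H, ℂˣ)|`.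
-/

set_option autoImplicit false

universe u

namespace Cfsg.Agent.Lib.H24

open Cfsg Cfsg.Agent.Lib.L0 Cfsg.Agent.Lib.H23
open scoped Pointwise

section

variable {G : Type u} [Group G] (K H : Subgroup G) [hK : K.Normal]

theorem card_hom_trivial_on_eq (hdisj : K ⊓ H = ⊥) (hprod : K ⊔ H = ⊤) :
    Nat.card {μ : G →* ℂˣ // ∀ k : K, μ k = 1} = Nat.card (H →* ℂˣ) := by
  refine Nat.card_congr
    { toFun := fun μ => μ.1.comp H.subtype
      invFun := fun ν => ⟨ν.comp (retract K H hdisj hprod), ?_⟩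
      left_inv := ?_
      right_inv := ?_ }
  · intro k
    rw [MonoidHom.comp_apply, retract_of_mem_normal K H hdisj hprod k k.2, map_one]
  · intro μ
    apply Subtype.ext
    ext g
    show ((μ.1.comp H.subtype).comp (retract K H hdisj hprod) g : ℂ) = (μ.1 g : ℂ)
    rw [MonoidHom.comp_apply, MonoidHom.comp_apply, Subgroup.coe_subtype]
    have h1 := retract_spec K H hdisj hprod g
    have h2 := μ.2 ⟨_, h1⟩
    have h3 : μ.1 (g * ((retract K H hdisj hprod g : H) : G)⁻¹) = 1 := h2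
    rw [map_mul, map_inv, mul_inv_eq_one] at h3
    rw [h3]
  · intro ν
    ext h
    show ((ν.comp (retract K H hdisj hprod)).comp H.subtype h : ℂ) = (ν h : ℂ)
    rw [MonoidHom.comp_apply, MonoidHom.comp_apply, Subgroup.coe_subtype,
      retract_of_mem K H hdisj hprod h h.2]

theorem index_eq_card_of_coprime_sup [Finite G] (hprod : K ⊔ H = ⊤)
    (hcop : (Nat.card K).Coprime (Nat.card H)) : K ⊓ H = ⊥ ∧ K.index = Nat.card H := by
  have hdisj : K ⊓ H = ⊥ := Subgroup.inf_eq_bot_of_coprime hcop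
  refine ⟨hdisj, ?_⟩
  have h1 : Disjoint H K := by
    rw [disjoint_iff, inf_comm]
    exact hdisj
  have h2 : (H : Set G) * (K : Set G) = Set.univ := by
    rw [← Subgroup.mul_normal, sup_comm, hprod]
    rfl
  exact (Subgroup.isComplement'_of_disjoint_and_mul_eq_univ h1 h2).index_eq_card

end

section

variable {G : Type u} [Group G] [Fintype G] (K H : Subgroup G) [hK : K.Normal]

theorem card_coprime_degree_split (hprod : K ⊔ H = ⊤) (hcop : (Nat.card K).Coprime (Nat.card H))
    (hsolv : Group.IsSolvable H) :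
    Nat.card {χ : IrrCharacter G // (Cfsg.charDegree (χ : G → ℂ)).Coprime (Nat.card H)} =
      Nat.card (ConjClasses ↥(K ⊓ Subgroup.centralizer (H : Set G))) * Nat.card (H →* ℂˣ) := by
  classical
  obtain ⟨hdisj, hidx⟩ := index_eq_card_of_coprime_sup K H hprod hcop
  have hcop' : (Nat.card K).Coprime K.index := by rw [hidx]; exact hcop
  have h1 := card_coprime_degree K hcop'
  rw [hidx, card_hom_trivial_on_eq K H hdisj hprod] at h1
  rw [h1]
  congr 1
  have hnorm : ∀ s ∈ H, ∀ g ∈ K, s * g * s⁻¹ ∈ K := fun s _ g hg => hK.conj_mem g hg s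
  rw [← Cfsg.Agent.Lib.H24.Glaub.solv_count_cent K H hnorm hcop hsolv]
  apply Nat.card_congr
  apply Equiv.subtypeEquivRight
  intro θ
  constructor
  · intro h s hs g g' hgg'
    have h2 := h s g
    have h3 : g' = ⟨s * g * s⁻¹, hK.conj_mem (g : G) g.2 s⟩ := Subtype.ext hgg'
    rw [h3]
    exact h2
  · intro h g n
    obtain ⟨k, hk, s, hs, rfl⟩ := exists_mul_of_sup_eq_top K H hprod g
    have h2 : (⟨k * s * n * (k * s)⁻¹, hK.conj_mem (n : G) n.2 (k * s)⟩ : K) =
        ⟨k, hk⟩ * ⟨s * n * s⁻¹, hK.conj_mem (n : G) n.2 s⟩ * (⟨k, hk⟩ : K)⁻¹ := by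
      apply Subtype.ext
      simp only [Subgroup.coe_mul, Subgroup.coe_inv]
      group
    rw [h2]
    have hcf := isClassFunction_of_isCharacter (isCharacter_of_irr θ.2)
    rw [hcf]
    exact h s hs n ⟨s * n * s⁻¹, hK.conj_mem (n : G) n.2 s⟩ rfl

end

end Cfsg.Agent.Lib.H24
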