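import Mathlib

/-!
# Coprime action lemmas used for class counting in `V ⋊ G`

* `exists_zpow_split`: for commuting `s`, `g` of coprime exponents `m`, `n`, both are fixed integer
  powers of `s * g`.
* `exists_conj_fixed`: for `V` abelian normal, `g` of exponent `n` coprime to `|V|` and `a ∈ V`,
  the element `a * g` is `V`-conjugate to `a' * g` with `a' ∈ C_V(g)`.
-/

set_option autoImplicit false

namespace Cfsg.Agent.Lib.H24

theorem exists_zpow_split {X : Type*} [Group X] (m n : ℕ) (h : m.Coprime n) :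
    ∃ k l : ℤ, ∀ (s g : X), Commute s g → s ^ m = 1 → g ^ n = 1 →
      (s * g) ^ k = s ∧ (s * g) ^ l = g := by
  have hb : ((Nat.gcd m n : ℕ) : ℤ) = m * Nat.gcdA m n + n * Nat.gcdB m n := Nat.gcd_eq_gcd_ab m n
  rw [h.gcd_eq_one] at hb
  refine ⟨n * Nat.gcdB m n, m * Nat.gcdA m n, ?_⟩
  intro s g hc hs hg
  have hs' : ∀ j : ℤ, s ^ ((m : ℤ) * j) = 1 := by
    intro j; rw [zpow_mul, zpow_natCast, hs, one_zpow]
  have hg' : ∀ j : ℤ, g ^ ((n : ℤ) * j) = 1 := by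
    intro j; rw [zpow_mul, zpow_natCast, hg, one_zpow]
  constructor
  · rw [hc.mul_zpow, hg', mul_one]
    have : (n : ℤ) * Nat.gcdB m n = 1 - m * Nat.gcdA m n := by
      have := hb; push_cast at this; linarith
    rw [this, zpow_sub, zpow_one, hs', inv_one, mul_one]
  · rw [hc.mul_zpow, hs', one_mul]
    have : (m : ℤ) * Nat.gcdA m n = 1 - n * Nat.gcdB m n := by
      have := hb; push_cast at this; linarith
    rw [this, zpow_sub, zpow_one, hg', inv_one, mul_one]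

theorem exists_conj_fixed {X : Type*} [Group X] [Finite X] (V : Subgroup X) [hVn : V.Normal]
    (hab : ∀ a ∈ V, ∀ b ∈ V, a * b = b * a) (g : X) (n : ℕ) (hg : g ^ n = 1)
    (hcop : (Nat.card V).Coprime n) (a : X) (ha : a ∈ V) :
    ∃ u ∈ V, ∃ a' ∈ V, u * (a * g) * u⁻¹ = a' * g ∧ g * a' = a' * g := by
  classical
  have hc : ∀ v ∈ V, g * v * g⁻¹ ∈ V := fun v hv => hVn.conj_mem v hv g
  -- the map `u ↦ u * (g u⁻¹ g⁻¹)` on `V`
  let φ : V →* V := MonoidHom.mk'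
    (fun u => ⟨u.1 * (g * u.1⁻¹ * g⁻¹), V.mul_mem u.2 (hc _ (V.inv_mem u.2))⟩) (by
      intro u v
      apply Subtype.ext
      show (u.1 * v.1) * (g * (u.1 * v.1)⁻¹ * g⁻¹)
        = (u.1 * (g * u.1⁻¹ * g⁻¹)) * (v.1 * (g * v.1⁻¹ * g⁻¹))
      have hA : g * u.1⁻¹ * g⁻¹ ∈ V := hc _ (V.inv_mem u.2)
      have hB : g * v.1⁻¹ * g⁻¹ ∈ V := hc _ (V.inv_mem v.2)
      have e1 : g * (u.1 * v.1)⁻¹ * g⁻¹ = (g * v.1⁻¹ * g⁻¹) * (g * u.1⁻¹ * g⁻¹) := by group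
      rw [e1, hab _ hB _ hA]
      have e2 : v.1 * (g * u.1⁻¹ * g⁻¹) = (g * u.1⁻¹ * g⁻¹) * v.1 := hab _ v.2 _ hA
      calc u.1 * v.1 * ((g * u.1⁻¹ * g⁻¹) * (g * v.1⁻¹ * g⁻¹))
          = u.1 * (v.1 * (g * u.1⁻¹ * g⁻¹)) * (g * v.1⁻¹ * g⁻¹) := by simp only [mul_assoc]
        _ = u.1 * ((g * u.1⁻¹ * g⁻¹) * v.1) * (g * v.1⁻¹ * g⁻¹) := by rw [e2]
        _ = _ := by simp only [mul_assoc])
  have hφ : ∀ u : V, ((φ u : V) : X) = u.1 * (g * u.1⁻¹ * g⁻¹) := fun u => rfl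
  -- kernel meets range trivially
  have hker : ∀ u : V, φ (φ u) = 1 → φ u = 1 := by
    intro u hu
    set w : X := ((φ u : V) : X) with hw
    have hwV : w ∈ V := (φ u).2
    have h1 : w * (g * w⁻¹ * g⁻¹) = 1 := by
      rw [hw, ← hφ (φ u), hu]; rfl
    have hgw : g * w = w * g := by
      have : g * w⁻¹ * g⁻¹ = w⁻¹ := by
        rw [← mul_right_inj w, h1, mul_inv_cancel]
      have h2 : g * w⁻¹ = w⁻¹ * g := by
        calc g * w⁻¹ = (g * w⁻¹ * g⁻¹) * g := by group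
          _ = w⁻¹ * g := by rw [this]
      calc g * w = w * (w⁻¹ * g) * w := by group
        _ = w * (g * w⁻¹) * w := by rw [h2]
        _ = w * g := by group
    have hgu : g * u.1 = w⁻¹ * u.1 * g := by
      rw [hw, hφ]; group
    have hcomm : ∀ i : ℕ, g * (w ^ i)⁻¹ = (w ^ i)⁻¹ * g := by
      intro i
      have : Commute g w := hgw
      exact ((this.pow_right i).inv_right).eq
    have hind : ∀ i : ℕ, g ^ i * u.1 = (w ^ i)⁻¹ * u.1 * g ^ i := by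
      intro i
      induction i with
      | zero => simp
      | succ i ih =>
        calc g ^ (i + 1) * u.1 = g * (g ^ i * u.1) := by rw [pow_succ']; group
          _ = g * ((w ^ i)⁻¹ * u.1 * g ^ i) := by rw [ih]
          _ = (g * (w ^ i)⁻¹) * u.1 * g ^ i := by group
          _ = ((w ^ i)⁻¹ * g) * u.1 * g ^ i := by rw [hcomm]
          _ = (w ^ i)⁻¹ * (g * u.1) * g ^ i := by group
          _ = (w ^ i)⁻¹ * (w⁻¹ * u.1 * g) * g ^ i := by rw [hgu]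
          _ = ((w ^ i)⁻¹ * w⁻¹) * u.1 * (g * g ^ i) := by group
          _ = (w ^ (i + 1))⁻¹ * u.1 * g ^ (i + 1) := by
            rw [← mul_inv_rev, ← pow_succ', ← pow_succ']
    have hwn : w ^ n = 1 := by
      have := hind n
      rw [hg, one_mul, mul_one] at this
      have h3 : (w ^ n)⁻¹ = 1 := by
        have : (w ^ n)⁻¹ * u.1 = 1 * u.1 := by rw [one_mul]; exact this.symm
        exact mul_right_cancel this
      rwa [inv_eq_one] at h3
    have hwV' : (φ u) ^ Nat.card V = 1 := pow_card_eq_one'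
    have hwn' : (φ u) ^ n = 1 := by
      apply Subtype.ext
      simpa using hwn
    have ho : orderOf (φ u) = 1 :=
      Nat.eq_one_of_dvd_coprimes hcop (orderOf_dvd_of_pow_eq_one hwV')
        (orderOf_dvd_of_pow_eq_one hwn')
    exact orderOf_eq_one_iff.mp ho
  -- `φ` restricted to its range is injective, hence surjective
  let ψ : φ.range → φ.range := fun w => ⟨φ w.1, ⟨w.1, rfl⟩⟩
  have hψinj : Function.Injective ψ := by
    intro w1 w2 h12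
    have h12' : φ w1.1 = φ w2.1 := congrArg Subtype.val h12
    have hmem : w1.1 * w2.1⁻¹ ∈ φ.range := φ.range.mul_mem w1.2 (φ.range.inv_mem w2.2)
    obtain ⟨u, hu⟩ := hmem
    have : φ (φ u) = 1 := by
      rw [hu, map_mul, map_inv, h12', mul_inv_cancel]
    have := hker u this
    rw [hu] at this
    apply Subtype.ext
    exact mul_inv_eq_one.mp this
  have hψsurj : Function.Surjective ψ := Finite.injective_iff_surjective.mp hψinj
  obtain ⟨w, hw⟩ := hψsurj ⟨φ ⟨a, ha⟩, ⟨⟨a, ha⟩, rfl⟩⟩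
  have hw' : φ w.1 = φ ⟨a, ha⟩ := congrArg Subtype.val hw
  obtain ⟨u', hu'⟩ := w.2
  -- `u = u'⁻¹`
  refine ⟨(u'⁻¹ : V), (u'⁻¹ : V).2, ((⟨a, ha⟩ : V) * φ u'⁻¹ : V), (⟨a, ha⟩ * φ u'⁻¹ : V).2, ?_, ?_⟩
  · have hu1 : ((u'⁻¹ : V) : X) * a = a * ((u'⁻¹ : V) : X) := hab _ (u'⁻¹ : V).2 _ ha
    rw [Subgroup.coe_mul, hφ]
    show ((u'⁻¹ : V) : X) * (a * g) * ((u'⁻¹ : V) : X)⁻¹
      = a * (((u'⁻¹ : V) : X) * (g * ((u'⁻¹ : V) : X)⁻¹ * g⁻¹)) * g
    calc ((u'⁻¹ : V) : X) * (a * g) * ((u'⁻¹ : V) : X)⁻¹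
        = (((u'⁻¹ : V) : X) * a) * g * ((u'⁻¹ : V) : X)⁻¹ := by group
      _ = (a * ((u'⁻¹ : V) : X)) * g * ((u'⁻¹ : V) : X)⁻¹ := by rw [hu1]
      _ = _ := by group
  · have hk : φ (⟨a, ha⟩ * φ u'⁻¹) = 1 := by
      rw [map_mul, map_inv, map_inv, hu', hw', mul_inv_cancel]
    set a' : V := ⟨a, ha⟩ * φ u'⁻¹ with ha'
    have h1 : a'.1 * (g * a'.1⁻¹ * g⁻¹) = 1 := by
      rw [← hφ a', hk]; rfl
    have h2 : g * a'.1⁻¹ * g⁻¹ = a'.1⁻¹ := by
      rw [← mul_right_inj a'.1, h1, mul_inv_cancel]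
    have h3 : g * a'.1⁻¹ = a'.1⁻¹ * g := by
      calc g * a'.1⁻¹ = (g * a'.1⁻¹ * g⁻¹) * g := by group
        _ = a'.1⁻¹ * g := by rw [h2]
    calc g * a'.1 = a'.1 * (a'.1⁻¹ * g) * a'.1 := by group
      _ = a'.1 * (g * a'.1⁻¹) * a'.1 := by rw [h3]
      _ = a'.1 * g := by group

end Cfsg.Agent.Lib.H24
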