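import Mathlib
import Cfsg.Prelude.Def_DegreeGraph
import Cfsg.Agent.Lib.H23.DegreeDvd

/-!
# S3670 piece GRAPH (architect helper3)

The degree graph of a group of order `6048` with irreducible degrees divisible by `6`, `14`, `21` is the complete graph
on `{2, 3, 7}`.
-/

set_option autoImplicit false

open Cfsg

namespace Cfsg.Agent.Lib.H24.DG

/-- One group: vertex set `{2,3,7}` and complete graph. -/
theorem graph_aux {G : Type*} [Group G] [Finite G] (h : Nat.card G = 6048)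
    (w : (∃ χ : IrrCharacter G, 6 ∣ charDegree (χ : G → ℂ)) ∧
      (∃ χ : IrrCharacter G, 14 ∣ charDegree (χ : G → ℂ)) ∧
      (∃ χ : IrrCharacter G, 21 ∣ charDegree (χ : G → ℂ))) :
    degreePrimes G = {2, 3, 7} ∧ ∀ p q : ℕ, (degreeGraph G).Adj p q ↔
      (p ≠ q ∧ (p = 2 ∨ p = 3 ∨ p = 7) ∧ (q = 2 ∨ q = 3 ∨ q = 7)) := by
  have key : ∀ p : ℕ, p.Prime → ∀ d ∈ charDegrees G, p ∣ d → p = 2 ∨ p = 3 ∨ p = 7 := by
    rintro p hp d ⟨χ, rfl⟩ hpd
    have hd := Cfsg.Agent.Lib.H23.charDegree_dvd_card χ.1 χ.2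
    rw [h] at hd
    have h6048 : p ∣ 2 ^ 5 * 3 ^ 3 * 7 := hpd.trans (by norm_num; exact hd)
    rcases (Nat.Prime.dvd_mul hp).1 h6048 with h' | h'
    · rcases (Nat.Prime.dvd_mul hp).1 h' with h'' | h''
      · exact Or.inl ((Nat.prime_dvd_prime_iff_eq hp Nat.prime_two).1 (hp.dvd_of_dvd_pow h''))
      · exact Or.inr (Or.inl ((Nat.prime_dvd_prime_iff_eq hp Nat.prime_three).1 (hp.dvd_of_dvd_pow h'')))
    · exact Or.inr (Or.inr ((Nat.prime_dvd_prime_iff_eq hp (by norm_num)).1 h'))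
  obtain ⟨⟨χ6, h6⟩, ⟨χ14, h14⟩, ⟨χ21, h21⟩⟩ := w
  have m6 : charDegree (χ6 : G → ℂ) ∈ charDegrees G := ⟨χ6, rfl⟩
  have m14 : charDegree (χ14 : G → ℂ) ∈ charDegrees G := ⟨χ14, rfl⟩
  have m21 : charDegree (χ21 : G → ℂ) ∈ charDegrees G := ⟨χ21, rfl⟩
  have p7 : Nat.Prime 7 := by norm_num
  refine ⟨?_, ?_⟩
  · ext p
    simp only [Set.mem_insert_iff, Set.mem_singleton_iff]
    constructor
    · rintro ⟨hp, d, hd, hpd⟩
      exact key p hp d hd hpd
    · rintro (rfl | rfl | rfl)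
      · exact ⟨Nat.prime_two, _, m6, dvd_trans (by norm_num) h6⟩
      · exact ⟨Nat.prime_three, _, m6, dvd_trans (by norm_num) h6⟩
      · exact ⟨p7, _, m14, dvd_trans (by norm_num) h14⟩
  · intro p q
    constructor
    · rintro ⟨hne, hp, hq, d, hd, hpq⟩
      exact ⟨hne, key p hp d hd (dvd_trans (dvd_mul_right p q) hpq),
        key q hq d hd (dvd_trans (dvd_mul_left q p) hpq)⟩
    · rintro ⟨hne, hp, hq⟩
      rcases hp with rfl | rfl | rfl <;> rcases hq with rfl | rfl | rfl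
      · exact absurd rfl hne
      · exact ⟨hne, Nat.prime_two, Nat.prime_three, _, m6, dvd_trans (by norm_num) h6⟩
      · exact ⟨hne, Nat.prime_two, p7, _, m14, dvd_trans (by norm_num) h14⟩
      · exact ⟨hne, Nat.prime_three, Nat.prime_two, _, m6, dvd_trans (by norm_num) h6⟩
      · exact absurd rfl hne
      · exact ⟨hne, Nat.prime_three, p7, _, m21, dvd_trans (by norm_num) h21⟩
      · exact ⟨hne, p7, Nat.prime_two, _, m14, dvd_trans (by norm_num) h14⟩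
      · exact ⟨hne, p7, Nat.prime_three, _, m21, dvd_trans (by norm_num) h21⟩
      · exact absurd rfl hne

/-- GRAPH. -/
theorem degreeGraph_eq_of_witnesses {G₁ : Type*} {G₂ : Type*} [Group G₁] [Finite G₁] [Group G₂] [Finite G₂]
    (h₁ : Nat.card G₁ = 6048) (h₂ : Nat.card G₂ = 6048)
    (w₁ : (∃ χ : IrrCharacter G₁, 6 ∣ charDegree (χ : G₁ → ℂ)) ∧
      (∃ χ : IrrCharacter G₁, 14 ∣ charDegree (χ : G₁ → ℂ)) ∧
      (∃ χ : IrrCharacter G₁, 21 ∣ charDegree (χ : G₁ → ℂ)))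
    (w₂ : (∃ χ : IrrCharacter G₂, 6 ∣ charDegree (χ : G₂ → ℂ)) ∧
      (∃ χ : IrrCharacter G₂, 14 ∣ charDegree (χ : G₂ → ℂ)) ∧
      (∃ χ : IrrCharacter G₂, 21 ∣ charDegree (χ : G₂ → ℂ))) :
    degreePrimes G₁ = degreePrimes G₂ ∧ degreeGraph G₁ = degreeGraph G₂ := by
  obtain ⟨hp1, ha1⟩ := graph_aux h₁ w₁
  obtain ⟨hp2, ha2⟩ := graph_aux h₂ w₂
  refine ⟨hp1.trans hp2.symm, ?_⟩
  apply SimpleGraph.ext
  funext p q
  exact propext ((ha1 p q).trans (ha2 p q).symm)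

end Cfsg.Agent.Lib.H24.DG
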