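import Mathlib
import Cfsg.Prelude.Def_DegreeGraph
import Cfsg.Agent.Lib.L0.CharLinear
import Cfsg.Agent.Lib.L0.CharIndChar
import Cfsg.Agent.Lib.L0.CharDegree

/-!
# S3670 piece INDIRR (architect helper3)

Inducing a linear character with trivial stabilizer from an abelian normal subgroup gives an irreducible character of
degree the index.
-/

set_option autoImplicit false

open Cfsg
open scoped ComplexConjugate

namespace Cfsg.Agent.Lib.H24.DG

/-- INDIRR. -/
theorem isIrr_indFun_of_trivial_stab {H : Type*} [Group H] [Fintype H] (A : Subgroup H) [A.Normal]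
    (hA : ∀ a ∈ A, ∀ b ∈ A, a * b = b * a) (L : H → ℂ)
    (hL : IsCharacter A (fun a : A => L a)) (h1 : L 1 = 1)
    (hstab : ∀ h : H, h ∉ A → ∃ a ∈ A, L (h * a * h⁻¹) ≠ L a) :
    IsIrrCharacter H (indFun A (fun a : A => L a)) ∧
      charDegree (indFun A (fun a : A => L a)) = A.index := by
  classical
  set θ : A → ℂ := fun a => L a with hθ
  have hθ1 : θ 1 = 1 := h1
  have hψ : IsCharacter H (indFun A θ) := L0.isCharacter_indFun A hL
  have hdeg : indFun A θ 1 = (A.index : ℂ) := by rw [L0.indFun_apply_one, hθ1, mul_one]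
  refine ⟨?_, ?_⟩
  · apply L0.isIrrCharacter_of_classInner_self_eq_one hψ
    rw [L0.frobenius_reciprocity A θ _ (L0.indFun_isClassFunction A θ)]
    set c : ℂ := (Nat.card A : ℂ) with hc
    have hc0 : c ≠ 0 := by
      rw [hc]; exact_mod_cast (Nat.card_pos (α := A)).ne'
    let θx : H → A → ℂ := fun x a => L (x⁻¹ * a * x)
    have hirr : IsIrrCharacter A θ := L0.isIrrCharacter_of_hom (L0.linearCharHom hL hθ1)
    have hirrx : ∀ x : H, IsIrrCharacter A (θx x) := by
      intro x
      have := L0.isIrrCharacter_of_hom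
        ((L0.linearCharHom hL hθ1).comp (MulAut.conjNormal x⁻¹ : MulAut A).toMonoidHom)
      convert this using 1
      funext a
      show L (x⁻¹ * a * x) = L ((MulAut.conjNormal x⁻¹ a : A) : H)
      rw [MulAut.conjNormal_apply, inv_inv]
    have hinner : ∀ x : H, classInner θ (θx x) = if x ∈ A then 1 else 0 := by
      intro x
      split_ifs with hx
      · have : θx x = θ := by
          funext a
          show L (x⁻¹ * a * x) = L a
          rw [mul_assoc, hA a a.2 x hx, ← mul_assoc, inv_mul_cancel, one_mul]
        rw [this]; exact L0.irr_classInner_self hirr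
      · apply L0.irr_classInner_ne hirr (hirrx x)
        intro heq
        obtain ⟨a, ha, hne⟩ := hstab x⁻¹ (fun h => hx (by simpa using A.inv_mem h))
        apply hne
        rw [inv_inv]
        exact (congrFun heq ⟨a, ha⟩).symm
    have hval : ∀ a : A, indFun A θ a = c⁻¹ * ∑ x : H, θx x a := by
      intro a
      rw [L0.indFun_apply]
      congr 1
      refine Finset.sum_congr rfl fun x _ => ?_
      have hmem : x⁻¹ * a * x ∈ A := by
        have := (inferInstance : A.Normal).conj_mem a a.2 x⁻¹
        rwa [inv_inv] at this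
      exact L0.extendByZero_apply_mem A θ ⟨x⁻¹ * a * x, hmem⟩
    have hconj : ∀ a : A, conj (c⁻¹ * ∑ x : H, θx x a) = c⁻¹ * ∑ x : H, conj (θx x a) := by
      intro a
      rw [map_mul, map_inv₀, map_sum, hc, map_natCast]
    have hsum : ∑ a : A, θ a * (c⁻¹ * ∑ x : H, conj (θx x a))
        = c⁻¹ * ∑ x : H, ∑ a : A, θ a * conj (θx x a) := by
      rw [Finset.sum_comm, Finset.mul_sum]
      refine Finset.sum_congr rfl fun a _ => ?_
      rw [Finset.mul_sum, Finset.mul_sum, Finset.mul_sum]
      refine Finset.sum_congr rfl fun x _ => ?_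
      ring
    have hx : ∀ x : H, ∑ a : A, θ a * conj (θx x a) = c * (if x ∈ A then 1 else 0) := by
      intro x
      rw [← hinner x]
      unfold classInner
      rw [← mul_assoc, mul_inv_cancel₀ hc0, one_mul]
    have hcount : ∑ x : H, (if x ∈ A then (1 : ℂ) else 0) = c := by
      rw [Finset.sum_boole, hc, Nat.card_eq_fintype_card, Fintype.card_subtype]
    unfold classInner
    simp only [hval, hconj]
    rw [hsum, Finset.sum_congr rfl fun x _ => hx x, ← Finset.mul_sum, hcount]
    field_simp
    exact hc
  · unfold charDegree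
    rw [hdeg]
    simp

end Cfsg.Agent.Lib.H24.DG
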