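import Cfsg.Agent.Lib.H15.DXDefs
import Cfsg.Agent.Lib.H24.CharAbelian
import Cfsg.Agent.Lib.H24.CharKer

/-!
# S4467 piece F3, parametric core (helper24): if the restriction of a faithful irreducible
character `χ` to an abelian normal subgroup `N` is a multiple of a single irreducible character
of `N`, then `N` is central.
-/

set_option autoImplicit false

namespace Cfsg.Agent.Lib.H24.DX

open Cfsg Cfsg.Agent.Lib.H15.DX Cfsg.Agent.Lib.L0 Cfsg.Agent.Lib.H24

universe u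

/-- F3 core: parametric in the conclusion of F2 (`restrict_eq_smul`) for `N`. -/
theorem le_center_of_abelian_normal_core {G : Type u} [Group G] [Finite G] {χ : G → ℂ}
    (hχ : IsIrrCharacter G χ) (hf : Faithful χ) (N : Subgroup G) [N.Normal]
    (hab : ∀ a ∈ N, ∀ b ∈ N, a * b = b * a)
    (hF2 : ∃ (θ : N → ℂ) (e : ℕ), IsIrrCharacter N θ ∧ (fun x : N => χ x) = (e : ℂ) • θ) :
    N ≤ Subgroup.center G := by
  obtain ⟨θ, e, hθ, hres⟩ := hF2
  have hresx : ∀ x : N, χ (x : G) = (e : ℂ) * θ x := by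
    intro x
    have := congrFun hres x
    simpa using this
  have hcomm : ∀ a b : N, a * b = b * a := by
    intro a b
    apply Subtype.ext
    exact hab a a.2 b b.2
  have hθ1 : θ 1 = 1 := irr_apply_one_of_comm hcomm ⟨θ, hθ⟩
  have hχ1 : χ 1 = (e : ℂ) := by
    have := hresx 1
    rw [hθ1, mul_one] at this
    exact this
  have he0 : (e : ℂ) ≠ 0 := by
    rw [← hχ1]
    exact irr_one_ne_zero ⟨χ, hχ⟩
  have hθc : IsCharacter N θ := isCharacter_of_irr hθ
  intro x hx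
  rw [Subgroup.mem_center_iff]
  intro g
  have hy : g * x * g⁻¹ ∈ N := ‹N.Normal›.conj_mem x hx g
  -- θ (g x g⁻¹) = θ x
  have h1 : θ ⟨g * x * g⁻¹, hy⟩ = θ ⟨x, hx⟩ := by
    have h2 : χ (g * x * g⁻¹) = χ x :=
      isClassFunction_of_isCharacter (isCharacter_of_irr hχ) x g
    have h3 := hresx ⟨g * x * g⁻¹, hy⟩
    have h4 := hresx ⟨x, hx⟩
    simp only at h3 h4
    rw [h2, h4] at h3
    exact (mul_left_cancel₀ he0 h3).symm
  have h5 : θ ((⟨x, hx⟩ : N)⁻¹ * ⟨g * x * g⁻¹, hy⟩) = 1 := by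
    rw [linear_char_mul hθc hθ1, h1, ← linear_char_mul hθc hθ1, inv_mul_cancel, hθ1]
  have h6 : χ (x⁻¹ * (g * x * g⁻¹)) = χ 1 := by
    have h7 := hresx ((⟨x, hx⟩ : N)⁻¹ * ⟨g * x * g⁻¹, hy⟩)
    rw [h5, mul_one] at h7
    rw [hχ1, ← h7]
    rfl
  have h8 := hf _ h6
  have h9 : g * x * g⁻¹ = x := by
    have := inv_mul_eq_one.mp h8
    exact this.symm
  calc g * x = g * x * g⁻¹ * g := by group
    _ = x * g := by rw [h9]

end Cfsg.Agent.Lib.H24.DX
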