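import Mathlib
import Cfsg.Agent.Lib.H24.CharFSInd
import Cfsg.Agent.Lib.H24.CharFS
import Cfsg.Agent.Lib.H24.CharBasic

/-!
# Fixed points of subgroups in symplectic-type irreducible characters (helper24)

* `even_finrank_of_alternating`: a finite-dimensional complex space with an alternating form
  having trivial radical has even dimension;
* `even_fixed_of_fsInd_neg_one`: if `ν(χ) = -1` then for every subgroup `S` the multiplicity
  `[χ_S, 1_S]` is even;
* `exists_fixed_odd_of_involution`: parity counting with an involution.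
-/

set_option autoImplicit false

namespace Cfsg.Agent.Lib.H24.DefZeroReal

open Cfsg Cfsg.Agent.Lib.H24 Cfsg.Agent.Lib.L0 Module
open scoped ComplexConjugate

section LinAlg

theorem even_finrank_of_alternating {W : Type*} [AddCommGroup W] [Module ℂ W]
    [FiniteDimensional ℂ W] (B : W →ₗ[ℂ] W →ₗ[ℂ] ℂ) (hflip : ∀ v w, B w v = - B v w)
    (hker : ∀ w, (∀ w', B w w' = 0) → w = 0) : Even (finrank ℂ W) := by
  classical
  obtain ⟨m, hm⟩ : ∃ m, m = finrank ℂ W := ⟨_, rfl⟩
  rw [← hm]
  let b : Basis (Fin (finrank ℂ W)) ℂ W := Module.finBasis ℂ W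
  obtain ⟨A, hA⟩ : ∃ A : Matrix (Fin (finrank ℂ W)) (Fin (finrank ℂ W)) ℂ,
      A = Matrix.of fun i j => B (b i) (b j) := ⟨_, rfl⟩
  have hAt : A.transpose = -A := by
    ext i j
    rw [hA]
    simp only [Matrix.transpose_apply, Matrix.of_apply, Matrix.neg_apply]
    exact hflip _ _
  by_contra hodd
  rw [Nat.not_even_iff_odd, hm] at hodd
  have hdet : A.det = 0 := by
    have h1 : A.det = (-1) ^ (finrank ℂ W) * A.det := by
      conv_lhs => rw [← Matrix.det_transpose, hAt, Matrix.det_neg, Fintype.card_fin]
    rw [hodd.neg_one_pow] at h1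
    linear_combination (1 / 2 : ℂ) * h1
  obtain ⟨c, hc0, hc⟩ := Matrix.exists_vecMul_eq_zero_iff.2 hdet
  apply hc0
  have hw : (∑ i, c i • b i) = 0 := by
    apply hker
    intro w'
    have hz : B (∑ i, c i • b i) = 0 := by
      apply b.ext
      intro j
      rw [map_sum, LinearMap.sum_apply]
      have h2 := congrFun hc j
      simp only [Matrix.vecMul, dotProduct, hA, Matrix.of_apply, Pi.zero_apply] at h2
      simp only [map_smul, LinearMap.smul_apply, smul_eq_mul, LinearMap.zero_apply]
      exact h2
    rw [hz, LinearMap.zero_apply]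
  have hli := b.linearIndependent
  rw [Fintype.linearIndependent_iff] at hli
  funext i
  exact hli c hw i

end LinAlg

section Parity

theorem exists_fixed_odd_of_involution {α : Type*} [Fintype α] [DecidableEq α] (σ : α → α)
    (hσ : ∀ a, σ (σ a) = a) (f : α → ℕ) (hf : ∀ a, f (σ a) = f a) (hodd : Odd (∑ a, f a)) :
    ∃ a, σ a = a ∧ Odd (f a) := by
  by_contra hcon
  push Not at hcon
  have h1 : ∑ a, (f a : ZMod 2) = 0 := by
    apply Finset.sum_involution (fun a _ => σ a)
    · intro a _
      rw [hf a]
      have : ((2 : ℕ) : ZMod 2) = 0 := by decide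
      rw [← two_mul]
      have h2 : (2 : ZMod 2) = 0 := by decide
      rw [h2, zero_mul]
    · intro a _ hne heq
      apply hne
      have := hcon a heq
      rw [Nat.not_odd_iff_even] at this
      exact (ZMod.natCast_eq_zero_iff_even).2 this
    · intro a _
      exact Finset.mem_univ _
    · intro a _
      exact hσ a
  have h2 : ((∑ a, f a : ℕ) : ZMod 2) = 0 := by
    rw [Nat.cast_sum]
    exact h1
  rw [ZMod.natCast_eq_zero_iff_even] at h2
  exact (Nat.not_even_iff_odd.2 hodd) h2

end Parity

end Cfsg.Agent.Lib.H24.DefZeroReal
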