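import Mathlib
import Cfsg.Agent.Lib.H24.DefZeroRealA

/-!
# `ν(χ) = -1` forces even multiplicity of the trivial character on every subgroup (helper24)
-/

set_option autoImplicit false

namespace Cfsg.Agent.Lib.H24.DefZeroReal

open Cfsg Cfsg.Agent.Lib.H24 Cfsg.Agent.Lib.L0 Module
open scoped ComplexConjugate

variable {G : Type*} [Group G] [Fintype G]

theorem even_invariants_of_fsInd_neg_one {V : Type*} [AddCommGroup V] [Module ℂ V]
    [FiniteDimensional ℂ V] (ρ : Representation ℂ G V) (hρ : ρ.IsIrreducible)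
    (hν : fsInd ρ.character = -1) (S : Subgroup G) [Fintype S] :
    Even (finrank ℂ (Representation.invariants (ρ.comp S.subtype))) := by
  classical
  have hreal : ∀ s, (ρ.character s).im = 0 := by
    rcases fsInd_rep_cases ρ hρ with ⟨h0, _⟩ | ⟨_, hr⟩
    · rw [hν] at h0; norm_num at h0
    · exact hr
  obtain ⟨B, hne, hB, hflip⟩ := exists_invForm_of_real ρ hρ hreal
  rw [hν] at hflip
  have hker := hB.ker_eq_bot hρ hne
  have hfl : ∀ v w, B w v = - B v w := by
    intro v w
    have h3 := congrArg (fun F : V →ₗ[ℂ] V →ₗ[ℂ] ℂ => F v w) hflip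
    simpa only [LinearMap.flip_apply, LinearMap.smul_apply, smul_eq_mul, neg_one_mul] using h3
  obtain ⟨ρS, hρS⟩ : ∃ ρS : Representation ℂ S V, ρS = ρ.comp S.subtype := ⟨_, rfl⟩
  rw [← hρS]
  have hρSapp : ∀ s : S, ρS s = ρ (s : G) := by
    intro s; rw [hρS]; rfl
  have hcardS : (Nat.card S : ℂ) ≠ 0 := by exact_mod_cast (Nat.card_pos (α := S)).ne'
  have : Invertible (Fintype.card S : ℂ) := by
    rw [Fintype.card_eq_nat_card]; exact invertibleOfNonzero hcardS
  apply even_finrank_of_alternating (B.domRestrict₁₂ (Representation.invariants ρS)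
    (Representation.invariants ρS))
  · intro v w
    simp only [LinearMap.domRestrict₁₂_apply]
    exact hfl _ _
  · intro w hw
    have hwinv : ∀ s : S, ρ (s : G) (w : V) = (w : V) := by
      intro s
      have := w.2 s
      rw [hρSapp] at this
      exact this
    have hBw : B (w : V) = 0 := by
      refine LinearMap.ext fun v => ?_
      have h1 : B (w : V) (Representation.averageMap ρS v) = B (w : V) v := by
        have h2 : Representation.averageMap ρS v
            = (⅟ (Fintype.card S : ℂ)) • ∑ s : S, ρ (s : G) v := by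
          simp [Representation.averageMap, GroupAlgebra.average, map_sum, hρSapp]
        rw [h2, map_smul, map_sum]
        have h3 : ∀ s : S, B (w : V) (ρ (s : G) v) = B (w : V) v := by
          intro s
          conv_lhs => rw [← hwinv s]
          exact hB _ _ _
        rw [Finset.sum_congr rfl (fun s _ => h3 s), Finset.sum_const, Finset.card_univ,
          nsmul_eq_mul, smul_eq_mul, ← mul_assoc, invOf_mul_self, one_mul]
      rw [← h1, LinearMap.zero_apply]
      have h4 := hw ⟨Representation.averageMap ρS v, Representation.averageMap_invariant ρS v⟩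
      simpa only [LinearMap.domRestrict₁₂_apply] using h4
    have hmem : (w : V) ∈ LinearMap.ker B := LinearMap.mem_ker.2 hBw
    rw [hker] at hmem
    exact Subtype.ext ((Submodule.mem_bot ℂ).1 hmem)

theorem even_fixed_of_fsInd_neg_one (χ : IrrCharacter G) (hν : fsInd (χ : G → ℂ) = -1)
    (S : Subgroup G) [Fintype S] :
    ∃ m : ℕ, (Nat.card S : ℂ)⁻¹ * ∑ s : S, (χ : G → ℂ) s = ((m + m : ℕ) : ℂ) := by
  classical
  obtain ⟨n, ρ, hρ, hχ⟩ := irr_exists_rep χ
  rw [← hχ] at hν ⊢
  obtain ⟨m, hm⟩ := even_invariants_of_fsInd_neg_one ρ hρ hν S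
  refine ⟨m, ?_⟩
  have hcardS : (Nat.card S : ℂ) ≠ 0 := by exact_mod_cast (Nat.card_pos (α := S)).ne'
  have : Invertible (Nat.card S : ℂ) := invertibleOfNonzero hcardS
  have h := Representation.card_inv_mul_sum_char_eq_finrank (ρ.comp S.subtype)
  rw [hm] at h
  rw [← h]
  rfl

end Cfsg.Agent.Lib.H24.DefZeroReal
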