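import Mathlib
import Cfsg.Agent.Lib.H23.Isaacs1129
import Cfsg.Agent.Lib.H23.DefectZero
import Cfsg.Agent.Lib.H24.DefZeroRealB
import Cfsg.Agent.Lib.H24.CharConj
import Cfsg.Agent.Lib.H24.CharOrth

/-!
# Defect-zero characters of a normal subgroup of 2-power index (helper24)

* `ramification_dvd_index_gen`: `[χ_H, ϑ] ∣ |G : H|` for `H ⊴ G` (no invariance hypothesis);
* `indFun_sylow_sum`: the induced character of a `2`-defect-zero character of `N` (with `G/N` a
  2-group) vanishes on the non-identity elements of a Sylow 2-subgroup.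
-/

set_option autoImplicit false

namespace Cfsg.Agent.Lib.H24.DefZeroReal

open Cfsg Cfsg.Agent.Lib.H24 Cfsg.Agent.Lib.L0 Cfsg.Agent.Lib.H23 Module
open scoped ComplexConjugate

variable {G : Type*} [Group G] [Fintype G]

/-- The ramification index `[χ_H, ϑ]` divides `|G : H|`. -/
theorem ramification_dvd_index_gen (H : Subgroup G) [hN : H.Normal] [Fintype H]
    {χ : G → ℂ} (hχ : Cfsg.IsIrrCharacter G χ) {ϑ : H → ℂ} (hϑ : Cfsg.IsIrrCharacter H ϑ)
    (e : ℕ) (he : Cfsg.classInner (fun n : H => χ n) ϑ = e) (he0 : e ≠ 0) : e ∣ H.index := by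
  classical
  obtain ⟨T, hTdef⟩ : ∃ T : Subgroup G, T = inertia H ϑ := ⟨_, rfl⟩
  have : Fintype T := Fintype.ofFinite _
  have hHT : H ≤ T := by
    rw [hTdef]
    exact le_inertia H (isClassFunction_of_isCharacter (isCharacter_of_irr hϑ))
  have hcon : Cfsg.classInner (fun n : H => χ n) ϑ ≠ 0 := by
    rw [he]; exact_mod_cast he0
  obtain ⟨ψ, hψ, hind, hmult⟩ :=
    clifford_correspondence H T hHT ϑ hϑ (fun g => by rw [hTdef]; exact Iff.rfl) χ hχ hcon
  have hdvd : e ∣ H.relIndex T :=
    Cfsg.Agent.Lib.H24.ramification_dvd_relIndex H T hHT ϑ hϑ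
      (fun g hg => by rw [hTdef] at hg; exact hg) ψ hψ e (by rw [hmult, he]) he0
  exact hdvd.trans (Subgroup.relIndex_dvd_index_of_le hHT)

end Cfsg.Agent.Lib.H24.DefZeroReal

namespace Cfsg.Agent.Lib.H24.DefZeroReal

open Cfsg Cfsg.Agent.Lib.H24 Cfsg.Agent.Lib.L0 Cfsg.Agent.Lib.H23 Module
open scoped ComplexConjugate

variable {G : Type*} [Group G] [Fintype G]

/-- The character induced from a `2`-defect-zero character of a normal subgroup vanishes on
elements of even order. -/
theorem indFun_apply_even_order (N : Subgroup G) [hN : N.Normal] [Fintype N]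
    (φ : IrrCharacter N)
    (hdef : 2 ^ (Nat.card N).factorization 2 ∣ Cfsg.charDegree (φ : N → ℂ))
    (s : G) (hs : 2 ∣ orderOf s) : Cfsg.indFun N (φ : N → ℂ) s = 0 := by
  classical
  obtain ⟨n₀, ρ, hρ, hχ⟩ := irr_exists_rep φ
  haveI := hρ
  rw [indFun_apply, Finset.sum_eq_zero, mul_zero]
  intro x _
  by_cases hx : x⁻¹ * s * x ∈ N
  · rw [extendByZero_apply_of_mem N _ hx, ← hχ]
    apply char_eq_zero_of_defect_zero ρ 2 ((Nat.card N).factorization 2) Nat.prime_two
    · exact Nat.pow_succ_factorization_not_dvd (Nat.card_pos.ne') Nat.prime_two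
    · have h1 : Cfsg.charDegree (φ : N → ℂ) = n₀ := by
        apply charDegree_eq_of_apply_one
        rw [← hχ, Representation.char_one, Module.finrank_fin_fun]
      rw [Module.finrank_fin_fun, ← h1]
      exact hdef
    · have h1 : orderOf (⟨x⁻¹ * s * x, hx⟩ : N) = orderOf s := by
        rw [← Subgroup.orderOf_coe]
        have := orderOf_injective (MulAut.conj x⁻¹).toMonoidHom (MulAut.conj x⁻¹).injective s
        simpa using this
      rw [h1]
      exact hs
  · exact extendByZero_apply_not_mem N _ hx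

/-- Summing the induced character over a `2`-subgroup only sees the identity. -/
theorem sum_indFun_two_subgroup (N : Subgroup G) [hN : N.Normal] [Fintype N]
    (φ : IrrCharacter N)
    (hdef : 2 ^ (Nat.card N).factorization 2 ∣ Cfsg.charDegree (φ : N → ℂ))
    (S : Subgroup G) [Fintype S] (hS : IsPGroup 2 S) :
    ∑ s : S, Cfsg.indFun N (φ : N → ℂ) (s : G) = (N.index : ℂ) * (φ : N → ℂ) 1 := by
  classical
  rw [Finset.sum_eq_single (1 : S)]
  · rw [Subgroup.coe_one, indFun_one']
  · intro s _ hs1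
    apply indFun_apply_even_order N φ hdef
    obtain ⟨k, hk⟩ := hS s
    have hk' : (s : G) ^ 2 ^ k = 1 := by
      have := congrArg (Subtype.val) hk
      simpa using this
    obtain ⟨l, hl, hord⟩ := (Nat.dvd_prime_pow Nat.prime_two).1 (orderOf_dvd_of_pow_eq_one hk')
    rcases Nat.eq_zero_or_pos l with h0 | h0
    · exfalso
      rw [h0, pow_zero, orderOf_eq_one_iff] at hord
      exact hs1 (Subtype.ext hord)
    · rw [hord]
      exact dvd_pow_self 2 h0.ne'
  · intro h
    exact absurd (Finset.mem_univ _) h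

end Cfsg.Agent.Lib.H24.DefZeroReal
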