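import Mathlib
import Cfsg.Agent.Lib.H24.DefZeroRealC

/-!
# A strongly real character over a 2-defect-zero character (helper24)

`exists_strongly_real_over`: `N ⊴ G`, `G/N` a 2-group, `φ ∈ Irr(N)` of 2-defect zero with
`φ̄` `G`-conjugate to `φ`: some `χ ∈ Irr(G)` has `ν(χ) = 1` and `[χ_N, φ] = 1`.
-/

set_option autoImplicit false

namespace Cfsg.Agent.Lib.H24.DefZeroReal

open Cfsg Cfsg.Agent.Lib.H24 Cfsg.Agent.Lib.L0 Cfsg.Agent.Lib.H23 Module
open scoped ComplexConjugate

variable {G : Type*} [Group G] [Fintype G]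

theorem classInner_restrict_irrConj (N : Subgroup G) [hN : N.Normal] [Fintype N]
    (φ : IrrCharacter N)
    (hconj : ∃ g : G, ∀ n n' : N, (n' : G) = g * (n : G) * g⁻¹ →
      (φ : N → ℂ) n' = conj ((φ : N → ℂ) n)) (χ : IrrCharacter G) :
    Cfsg.classInner (fun n : N => (irrConj χ : G → ℂ) n) (φ : N → ℂ)
      = conj (Cfsg.classInner (fun n : N => (χ : G → ℂ) n) (φ : N → ℂ)) := by
  classical
  obtain ⟨g, hg⟩ := hconj
  have hcf := isClassFunction_irr χ
  unfold Cfsg.classInner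
  rw [map_mul, map_inv₀, Complex.conj_natCast, map_sum]
  congr 1
  simp only [irrConj_apply, map_mul, Complex.conj_conj]
  -- reindex by conjugation with `g`
  rw [← Equiv.sum_comp (MulAut.conjNormal g : MulAut N).toEquiv
    (fun n : N => conj ((χ : G → ℂ) n) * (φ : N → ℂ) n)]
  refine Finset.sum_congr rfl fun n _ => ?_
  have h1 : (((MulAut.conjNormal g : MulAut N) n : N) : G) = g * (n : G) * g⁻¹ :=
    MulAut.conjNormal_apply g n
  have h2 := hg n ((MulAut.conjNormal g : MulAut N) n) h1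
  have h3 : (χ : G → ℂ) (((MulAut.conjNormal g : MulAut N) n : N) : G) = (χ : G → ℂ) n := by
    rw [h1]
    exact hcf _ _
  simp only [MulEquiv.toEquiv_eq_coe, MulEquiv.coe_toEquiv]
  rw [h2, h3]

theorem exists_strongly_real_over (N : Subgroup G) [hN : N.Normal] [Fintype N]
    (h2 : IsPGroup 2 (G ⧸ N)) (φ : IrrCharacter N)
    (hdef : 2 ^ (Nat.card N).factorization 2 ∣ Cfsg.charDegree (φ : N → ℂ))
    (hconj : ∃ g : G, ∀ n n' : N, (n' : G) = g * (n : G) * g⁻¹ →
      (φ : N → ℂ) n' = conj ((φ : N → ℂ) n)) :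
    ∃ χ : IrrCharacter G, fsInd (χ : G → ℂ) = 1 ∧
      Cfsg.classInner (fun n : N => (χ : G → ℂ) n) (φ : N → ℂ) = 1 := by
  classical
  have := Fintype.ofFinite (IrrCharacter G)
  obtain ⟨S⟩ : Nonempty (Sylow 2 G) := inferInstance
  have : Fintype (S : Subgroup G) := Fintype.ofFinite _
  obtain ⟨a, ha⟩ : ∃ a, a = (Nat.card N).factorization 2 := ⟨_, rfl⟩
  obtain ⟨j, hj⟩ : ∃ j, N.index = 2 ^ j := by
    obtain ⟨j, hj⟩ := IsPGroup.iff_card.1 h2
    exact ⟨j, by rw [Subgroup.index_eq_card]; exact hj⟩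
  have hNpos : Nat.card N ≠ 0 := Nat.card_pos.ne'
  have hcardG : Nat.card G = Nat.card N * 2 ^ j := by
    rw [← hj]; exact (Subgroup.card_mul_index N).symm
  have hcardS : Nat.card (S : Subgroup G) = 2 ^ a * 2 ^ j := by
    rw [Sylow.card_eq_multiplicity, hcardG,
      Nat.factorization_mul hNpos (pow_ne_zero _ two_ne_zero),
      Nat.Prime.factorization_pow Nat.prime_two, Finsupp.add_apply, ← ha,
      Finsupp.single_eq_same, pow_add]
  have hSne : (Nat.card (S : Subgroup G) : ℂ) ≠ 0 := by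
    exact_mod_cast (Nat.card_pos (α := (S : Subgroup G))).ne'
  -- multiplicities
  have hres : ∀ χ : IrrCharacter G, ∃ e : ℕ,
      Cfsg.classInner (fun n : N => (χ : G → ℂ) n) (φ : N → ℂ) = e :=
    fun χ => classInner_char_irr_nat (isCharacter_restrict N (isCharacter_of_irr χ.2)) φ.2
  choose e he using hres
  have hfix : ∀ χ : IrrCharacter G, ∃ m : ℕ,
      (Nat.card (S : Subgroup G) : ℂ)⁻¹ * ∑ s : (S : Subgroup G), (χ : G → ℂ) s = m := by
    intro χ
    obtain ⟨m, hm⟩ := classInner_char_irr_nat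
      (isCharacter_restrict (S : Subgroup G) (isCharacter_of_irr χ.2))
      (trivialIrr (S : Subgroup G)).2
    refine ⟨m, ?_⟩
    rw [← hm]
    simp [Cfsg.classInner]
  choose f hf using hfix
  have hfsum : ∀ χ : IrrCharacter G, ∑ s : (S : Subgroup G), (χ : G → ℂ) s
      = (Nat.card (S : Subgroup G) : ℂ) * (f χ : ℂ) := by
    intro χ
    rw [← hf χ, ← mul_assoc, mul_inv_cancel₀ hSne, one_mul]
  -- the key sum
  have hΨcf : IsClassFunction G (Cfsg.indFun N (φ : N → ℂ)) :=
    isClassFunction_of_isCharacter (isCharacter_indFun N (isCharacter_of_irr φ.2))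
  have hexp := classFunction_expansion (Cfsg.indFun N (φ : N → ℂ)) hΨcf
  have hcoef : ∀ χ : IrrCharacter G,
      Cfsg.classInner (Cfsg.indFun N (φ : N → ℂ)) (χ : G → ℂ) = e χ := by
    intro χ
    rw [Cfsg.Agent.Lib.L0.frobenius_reciprocity N _ _ (isClassFunction_irr χ),
      ← classInner_conj_symm, he]
    simp
  have hpt : ∀ s : G, Cfsg.indFun N (φ : N → ℂ) s
      = ∑ χ : IrrCharacter G, (e χ : ℂ) * (χ : G → ℂ) s := by
    intro s
    conv_lhs => rw [hexp]
    rw [Finset.sum_apply]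
    refine Finset.sum_congr rfl fun χ _ => ?_
    rw [Pi.smul_apply, smul_eq_mul, hcoef]
  have hsum : (N.index : ℂ) * (φ : N → ℂ) 1
      = (Nat.card (S : Subgroup G) : ℂ) * ∑ χ : IrrCharacter G, ((e χ * f χ : ℕ) : ℂ) := by
    rw [← sum_indFun_two_subgroup N φ hdef (S : Subgroup G) S.isPGroup']
    simp only [hpt]
    rw [Finset.sum_comm, Finset.mul_sum]
    refine Finset.sum_congr rfl fun χ _ => ?_
    rw [← Finset.mul_sum, hfsum]
    push_cast
    ring
  have hsumN : N.index * Cfsg.charDegree (φ : N → ℂ)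
      = Nat.card (S : Subgroup G) * ∑ χ : IrrCharacter G, e χ * f χ := by
    rw [apply_one_eq_charDegree _ φ.2] at hsum
    exact_mod_cast hsum
  have hdeg : Cfsg.charDegree (φ : N → ℂ) = 2 ^ a * ∑ χ : IrrCharacter G, e χ * f χ := by
    rw [hj, hcardS] at hsumN
    have h2j : 0 < 2 ^ j := by positivity
    apply Nat.eq_of_mul_eq_mul_left h2j
    rw [hsumN]
    ring
  have hodd : Odd (∑ χ : IrrCharacter G, e χ * f χ) := by
    rw [← Nat.not_even_iff_odd]
    rintro ⟨m, hm⟩
    have h1 : 2 ^ (a + 1) ∣ Nat.card N := by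
      refine Dvd.dvd.trans ?_ (charDegree_dvd_card _ φ.2)
      rw [hdeg, hm, pow_succ]
      exact ⟨m, by ring⟩
    rw [ha] at h1
    exact Nat.pow_succ_factorization_not_dvd hNpos Nat.prime_two h1
  -- conjugation invariance
  have he_conj : ∀ χ, e (irrConj χ) = e χ := by
    intro χ
    have h1 := classInner_restrict_irrConj N φ hconj χ
    rw [he, he, Complex.conj_natCast] at h1
    exact_mod_cast h1
  have hf_conj : ∀ χ, f (irrConj χ) = f χ := by
    intro χ
    have h1 : ((f (irrConj χ) : ℕ) : ℂ) = conj ((f χ : ℕ) : ℂ) := by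
      rw [← hf, ← hf, map_mul, map_inv₀, Complex.conj_natCast, map_sum]
      simp only [irrConj_apply]
    rw [Complex.conj_natCast] at h1
    exact_mod_cast h1
  obtain ⟨χ, hχfix, hχodd⟩ := exists_fixed_odd_of_involution (irrConj (G := G))
    irrConj_irrConj (fun χ => e χ * f χ) (fun χ => by rw [he_conj, hf_conj]) hodd
  have heodd : Odd (e χ) := (Nat.odd_mul.1 hχodd).1
  have hfodd : Odd (f χ) := (Nat.odd_mul.1 hχodd).2
  have hreal : ∀ g : G, ((χ : G → ℂ) g).im = 0 := by
    intro g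
    have h1 : conj ((χ : G → ℂ) g) = (χ : G → ℂ) g := by
      conv_rhs => rw [← hχfix]
      rw [irrConj_apply]
    exact Complex.conj_eq_iff_im.1 h1
  refine ⟨χ, ?_, ?_⟩
  · rcases fsInd_irr_cases χ with ⟨_, s, hs⟩ | ⟨h1 | h1, _⟩
    · exact absurd (hreal s) hs
    · exact h1
    · exfalso
      obtain ⟨m, hm⟩ := even_fixed_of_fsInd_neg_one χ h1 (S : Subgroup G)
      rw [hf] at hm
      have hm' : f χ = m + m := by exact_mod_cast hm
      rw [hm'] at hfodd
      exact (Nat.not_even_iff_odd.2 hfodd) ⟨m, rfl⟩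
  · rw [he]
    have he0 : e χ ≠ 0 := by
      intro h0
      rw [h0] at heodd
      exact (Nat.not_odd_iff_even.2 (Even.zero)) heodd
    have hdvd := ramification_dvd_index_gen N χ.2 φ.2 (e χ) (he χ) he0
    rw [hj] at hdvd
    obtain ⟨i, _, hi⟩ := (Nat.dvd_prime_pow Nat.prime_two).1 hdvd
    rcases Nat.eq_zero_or_pos i with h0 | h0
    · rw [hi, h0, pow_zero]; simp
    · exfalso
      rw [hi] at heodd
      exact (Nat.not_odd_iff_even.2 ((Nat.even_pow' h0.ne').2 even_two)) heodd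

end Cfsg.Agent.Lib.H24.DefZeroReal
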