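import Mathlib
import Cfsg.Agent.Lib.H24.DegreesOneP
import Cfsg.Agent.S0855

/-!
# `p`-groups with character degrees `1` and `p`, main theorem (Isaacs 12.11, helper24's library)
-/

set_option autoImplicit false

namespace Cfsg.Agent.Lib.H24

open scoped ComplexConjugate
open Cfsg Cfsg.Agent.Lib.L0 Cfsg.Agent.Lib.H23
open scoped commutatorElement

section StepVII

/-- A subgroup of a commutative group generated by two elements of exponent `p` has order at most
`p ^ 2`. -/
theorem card_closure_pair_le {A : Type*} [inst : Group A] (hcomm : ∀ x y : A, x * y = y * x)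
    (p : ℕ) (hp : 0 < p) (u v : A)
    (hu : u ^ p = 1) (hv : v ^ p = 1) : Nat.card (Subgroup.closure ({u, v} : Set A)) ≤ p ^ 2 := by
  haveI : NeZero p := ⟨hp.ne'⟩
  letI : CommGroup A := { inst with mul_comm := hcomm }
  let f : Fin p × Fin p → Subgroup.closure ({u, v} : Set A) := fun ij =>
    ⟨u ^ (ij.1 : ℕ) * v ^ (ij.2 : ℕ), Subgroup.mul_mem _
      (Subgroup.pow_mem _ (Subgroup.subset_closure (by simp)) _)
      (Subgroup.pow_mem _ (Subgroup.subset_closure (by simp)) _)⟩
  have hf : Function.Surjective f := by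
    rintro ⟨s, hs⟩
    obtain ⟨m, n, hmn⟩ := (Subgroup.mem_closure_pair (C := A)).mp hs
    have hpz : (0 : ℤ) < p := by exact_mod_cast hp
    have hm0 : 0 ≤ m % (p : ℤ) := Int.emod_nonneg _ hpz.ne'
    have hn0 : 0 ≤ n % (p : ℤ) := Int.emod_nonneg _ hpz.ne'
    have hmlt : (m % (p : ℤ)).toNat < p := by
      have := Int.emod_lt_of_pos m hpz
      omega
    have hnlt : (n % (p : ℤ)).toNat < p := by
      have := Int.emod_lt_of_pos n hpz
      omega
    refine ⟨(⟨(m % (p : ℤ)).toNat, hmlt⟩, ⟨(n % (p : ℤ)).toNat, hnlt⟩), ?_⟩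
    apply Subtype.ext
    show u ^ (m % (p : ℤ)).toNat * v ^ (n % (p : ℤ)).toNat = s
    rw [← hmn, zpow_eq_zpow_emod' m hu, zpow_eq_zpow_emod' n hv]
    conv_rhs => rw [← Int.toNat_of_nonneg hm0, ← Int.toNat_of_nonneg hn0]
    rw [zpow_natCast, zpow_natCast]
  have h1 := Nat.card_le_card_of_surjective f hf
  rw [Nat.card_prod, Nat.card_fin] at h1
  rw [pow_two]; exact h1

variable {G : Type*} [Group G] [Finite G] {p : ℕ}

/-- Step (VII): the commutator map of `a` has image of order less than `p ^ 3`. -/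
theorem card_range_commHom_lt (hp : p.Prime) (hG : IsPGroup p G) (hcd : CdOneP G p)
    (hnab : ∀ M : Subgroup G, M.index = p → ∃ a ∈ M, ∃ b ∈ M, a * b ≠ b * a) (a : G)
    (ha : ∀ g : G, a * g * a⁻¹ * g⁻¹ ∈ Subgroup.center G) (hac : a ∉ Subgroup.center G)
    (hap : a ^ p ∈ Subgroup.center G) : Nat.card (commHom a ha).range < p ^ 3 := by
  by_contra hge
  push Not at hge
  set φ := commHom a ha with hφ
  -- every commutator is of the form `[a, m]`
  have hcomm : ∀ g h : G, ∃ m : G, g * h * g⁻¹ * h⁻¹ = a * m * a⁻¹ * m⁻¹ := by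
    intro g h
    set S : Subgroup (Subgroup.center G) := Subgroup.closure {φ g, φ h} with hS
    have hScard : Nat.card S ≤ p ^ 2 :=
      card_closure_pair_le (fun x y => Subtype.ext (Subgroup.mem_center_iff.mp y.2 x))
        p hp.pos _ _ (commHom_pow_eq_one a ha p hap g) (commHom_pow_eq_one a ha p hap h)
    have hD : S.comap φ ≠ ⊤ := by
      intro htop
      have hle : φ.range ≤ S := by
        rintro _ ⟨x, rfl⟩
        have : x ∈ S.comap φ := htop ▸ Subgroup.mem_top x
        exact this
      have h1 := Subgroup.card_le_of_le hle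
      have h2 : p ^ 2 < p ^ 3 := Nat.pow_lt_pow_right hp.one_lt (by norm_num)
      omega
    obtain ⟨M, hMidx, hDM⟩ := exists_index_eq_above hp hG _ hD
    have hker : φ.ker ≤ M := by
      intro x hx
      apply hDM
      rw [Subgroup.mem_comap, MonoidHom.mem_ker.mp hx]
      exact S.one_mem
    have hgM : g ∈ M := hDM (Subgroup.mem_comap.mpr (Subgroup.subset_closure (by simp)))
    have hhM : h ∈ M := hDM (Subgroup.mem_comap.mpr (Subgroup.subset_closure (by simp)))
    obtain ⟨m, -, hm⟩ := commutator_eq_commHom hp hG hcd a ha M hMidx hker g h hgM hhM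
    exact ⟨m, hm⟩
  have hle : commutator G ≤ φ.range.map (Subgroup.center G).subtype := by
    rw [commutator_def, Subgroup.commutator_le]
    intro g _ h _
    obtain ⟨m, hm⟩ := hcomm g h
    rw [commutatorElement_def, hm]
    exact ⟨φ m, ⟨m, rfl⟩, rfl⟩
  have h1 : Nat.card (commutator G) ≤ Nat.card φ.range := by
    refine (Subgroup.card_le_of_le hle).trans ?_
    rw [Subgroup.card_map_of_injective (Subgroup.subtype_injective _)]
  have h2 : (commutator G).index ≤ Nat.card (Subgroup.center G) :=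
    index_commutator_le_card_center hp hcd
      (fun x hx => sq_mul_card_centralizer_le hp hG hcd hnab x hx)
  have h3 : Nat.card G ≤ Nat.card φ.range * Nat.card (Subgroup.center G) := by
    rw [← Subgroup.card_mul_index (commutator G)]
    exact Nat.mul_le_mul h1 h2
  have h4 : Nat.card G = Nat.card φ.range * Nat.card φ.ker := by
    rw [← Subgroup.index_ker, mul_comm]; exact (Subgroup.card_mul_index _).symm
  have h5 : Nat.card (Subgroup.center G) < Nat.card φ.ker := by
    have hZle : Subgroup.center G ≤ φ.ker := center_le_ker_commHom a ha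
    rcases lt_or_eq_of_le (Subgroup.card_le_of_le hZle) with h | h
    · exact h
    · exfalso
      have := Subgroup.eq_of_le_of_card_ge hZle h.ge
      exact hac (this ▸ self_mem_ker_commHom a ha)
  have h6 : 0 < Nat.card φ.range := Nat.card_pos
  nlinarith

end StepVII

section StepVIII

variable {G : Type*} [Group G] [Finite G] {p : ℕ}

/-- The hypothesis `CdOneP` passes to normal subgroups. -/
theorem cdOneP_of_normal (hp : p.Prime) (hcd : CdOneP G p) (M : Subgroup G) [M.Normal] :
    CdOneP M p := by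
  classical
  have := Fintype.ofFinite G
  have := Fintype.ofFinite M
  intro ψ hψ
  obtain ⟨χ, hχ, hc⟩ := Cfsg.Agent.S0855.exists_irr_over M ψ hψ
  obtain ⟨a, -, ha⟩ := irr_one_eq ⟨χ, hχ⟩
  obtain ⟨b, hb0, hb⟩ := irr_one_eq ⟨ψ, hψ⟩
  simp only at ha hb
  have hdvd := Cfsg.Agent.S0855.degree_dvd_of_over M χ hχ ψ hψ hc a b ha hb
  rw [hb]
  rcases hcd χ hχ with h | h
  · left
    rw [ha] at h
    have h1 : a = 1 := by exact_mod_cast h
    rw [h1, Nat.dvd_one] at hdvd
    rw [hdvd]; simp
  · rw [ha] at h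
    have h1 : a = p := by exact_mod_cast h
    rw [h1] at hdvd
    rcases (Nat.dvd_prime hp).mp hdvd with h2 | h2
    · left; rw [h2]; simp
    · right; rw [h2]

/-- Step (VIII): a nonabelian group with degrees `1, p` whose commutators lie in a central subgroup
of order `p` has centre of index `p ^ 2`. -/
theorem card_eq_sq_mul_card_center (hp : p.Prime) (hcd : CdOneP G p)
    (hnab : ∃ x y : G, x * y ≠ y * x) (K : Subgroup G) (hK : Nat.card K = p)
    (hKc : K ≤ Subgroup.center G) (hcomm : ∀ x y : G, x * y * x⁻¹ * y⁻¹ ∈ K) :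
    Nat.card G = p ^ 2 * Nat.card (Subgroup.center G) := by
  classical
  haveI : Fact p.Prime := ⟨hp⟩
  have := Fintype.ofFinite G
  -- a nonlinear character
  obtain ⟨ψ, hψ1⟩ : ∃ ψ : IrrCharacter G, (ψ : G → ℂ) 1 ≠ 1 := by
    by_contra hall
    push Not at hall
    obtain ⟨x, y, hxy⟩ := hnab
    exact hxy (comm_of_forall_irr_one hall x y)
  have hψp : (ψ : G → ℂ) 1 = (p : ℂ) := by
    rcases hcd _ ψ.2 with h | h
    · exact absurd h hψ1
    · exact h
  -- vanishing off the centre
  have hvan : ∀ m : G, m ∉ Subgroup.center G → (ψ : G → ℂ) m = 0 := by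
    intro m hm
    by_contra hne
    rw [Subgroup.mem_center_iff] at hm
    push Not at hm
    obtain ⟨n, hn⟩ := hm
    have hcK : n * m * n⁻¹ * m⁻¹ ∈ K := hcomm n m
    have hcZ := hKc hcK
    have hc1 : n * m * n⁻¹ * m⁻¹ ≠ 1 := by
      intro h
      apply hn
      have h2 : n * m = (n * m * n⁻¹ * m⁻¹) * (m * n) := by group
      rw [h2, h, one_mul]
    have hcc : ∀ g : G, (ψ : G → ℂ) ((n * m * n⁻¹ * m⁻¹) * g * (n * m * n⁻¹ * m⁻¹)⁻¹ * g⁻¹) =
        (ψ : G → ℂ) 1 := by
      intro g
      refine congrArg (ψ : G → ℂ) ?_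
      rw [← Subgroup.mem_center_iff.mp hcZ g]; group
    have hmul : (ψ : G → ℂ) ((n * m * n⁻¹ * m⁻¹) * m) = (ψ : G → ℂ) m := by
      rw [← isClassFunction_of_isCharacter (isCharacter_of_irr ψ.2) m n]
      refine congrArg (ψ : G → ℂ) ?_
      group
    have hcker : n * m * n⁻¹ * m⁻¹ ∈ charKer (ψ : G → ℂ) (isCharacter_of_irr ψ.2) :=
      apply_eq_one_of_mul_eq ψ.2 _ hcc hne hmul
    have hKker : K ≤ charKer (ψ : G → ℂ) (isCharacter_of_irr ψ.2) := by
      intro k hk
      have h1 : Subgroup.zpowers (⟨n * m * n⁻¹ * m⁻¹, hcK⟩ : K) = ⊤ :=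
        zpowers_eq_top_of_prime_card hK (fun h => hc1 (congrArg Subtype.val h))
      have h2 : (⟨k, hk⟩ : K) ∈ Subgroup.zpowers (⟨n * m * n⁻¹ * m⁻¹, hcK⟩ : K) :=
        h1 ▸ Subgroup.mem_top _
      obtain ⟨i, hi⟩ := Subgroup.mem_zpowers_iff.mp h2
      have h3 : (n * m * n⁻¹ * m⁻¹) ^ i = k := by
        have := congrArg Subtype.val hi
        simpa using this
      rw [← h3]
      exact Subgroup.zpow_mem _ hcker i
    apply hψ1
    apply linear_of_commutator_ker ψ.2
    intro x y
    exact hKker (hcomm x y)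
  -- the norm computation
  have h1 := sum_mul_conj_eq_card ψ.2
  have h2 : ∀ g : G, (ψ : G → ℂ) g * conj ((ψ : G → ℂ) g) =
      if g ∈ Subgroup.center G then (p : ℂ) ^ 2 else 0 := by
    intro g
    split_ifs with hg
    · rw [← hψp]
      apply mul_conj_of_commutator_ker ψ.2
      intro x
      refine congrArg (ψ : G → ℂ) ?_
      rw [← Subgroup.mem_center_iff.mp hg x]; group
    · rw [hvan g hg, zero_mul]
  rw [Finset.sum_congr rfl (fun g _ => h2 g), Finset.sum_ite, Finset.sum_const, Finset.sum_const_zero,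
    add_zero, nsmul_eq_mul] at h1
  have h3 : (Finset.univ.filter (fun x : G => x ∈ Subgroup.center G)).card =
      Nat.card (Subgroup.center G) := by
    rw [Nat.card_eq_fintype_card, Fintype.card_subtype]
  rw [h3] at h1
  have h4 : ((Nat.card (Subgroup.center G) * p ^ 2 : ℕ) : ℂ) = (Nat.card G : ℂ) := by
    rw [← h1]; push_cast; ring
  have h5 : Nat.card (Subgroup.center G) * p ^ 2 = Nat.card G := by exact_mod_cast h4
  rw [← h5, mul_comm]

/-- **Isaacs 12.11, `p`-group case**: a nonabelian `p`-group with character degrees `1` and `p`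
and without abelian subgroups of index `p` has centre of index `p ^ 3`. -/
theorem index_center_eq_of_cdOneP (hp : p.Prime) (hG : IsPGroup p G) (hcd : CdOneP G p)
    (hnab : ∀ M : Subgroup G, M.index = p → ∃ a ∈ M, ∃ b ∈ M, a * b ≠ b * a)
    (hnc : ∃ x y : G, x * y ≠ y * x) : (Subgroup.center G).index = p ^ 3 := by
  classical
  haveI : Fact p.Prime := ⟨hp⟩
  obtain ⟨a, hac, hap, ha⟩ := exists_second_center_elt hp hG hnc
  set φ := commHom a ha with hφ
  have hlt := card_range_commHom_lt hp hG hcd hnab a ha hac hap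
  have hGcard : Nat.card G = Nat.card φ.range * Nat.card φ.ker := by
    rw [← Subgroup.index_ker, mul_comm]; exact (Subgroup.card_mul_index _).symm
  have hge : p ^ 2 ≤ Nat.card φ.range := by
    have h1 := sq_mul_card_centralizer_le hp hG hcd hnab a hac
    have h2 : Subgroup.centralizer ({a} : Set G) = φ.ker := by
      ext g
      rw [mem_ker_commHom, Subgroup.mem_centralizer_iff]
      constructor
      · intro h; exact h a rfl
      · intro h x hx
        rw [Set.mem_singleton_iff] at hx
        rw [hx]; exact h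
    rw [h2, hGcard] at h1
    exact Nat.le_of_mul_le_mul_right h1 Nat.card_pos
  have hBcard : Nat.card φ.range = p ^ 2 := by
    obtain ⟨k, hk⟩ := IsPGroup.iff_card.mp ((hG.to_subgroup (Subgroup.center G)).to_subgroup φ.range)
    rw [hk] at hge hlt ⊢
    have h1 : 2 ≤ k := (Nat.pow_le_pow_iff_right hp.one_lt).mp hge
    have h2 : k < 3 := (Nat.pow_lt_pow_iff_right hp.one_lt).mp hlt
    have : k = 2 := by omega
    rw [this]
  have hkeridx : φ.ker.index = p ^ 2 := by rw [Subgroup.index_ker, hBcard]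
  have hkertop : φ.ker ≠ ⊤ := by
    intro h
    rw [h, Subgroup.index_top] at hkeridx
    have : 1 < p ^ 2 := Nat.one_lt_pow (by norm_num) hp.one_lt
    omega
  obtain ⟨M, hMidx, hCM⟩ := exists_index_eq_above hp hG φ.ker hkertop
  haveI hM : M.Normal := normal_of_index_eq_of_isPGroup hp hG M hMidx
  set N : Subgroup G := M.map ((Subgroup.center G).subtype.comp φ) with hN
  have hmemN : ∀ x : G, x ∈ N ↔ ∃ m ∈ M, a * m * a⁻¹ * m⁻¹ = x := by
    intro x
    rw [hN, Subgroup.mem_map]
    rfl
  have haM : a ∈ M := hCM (self_mem_ker_commHom a ha)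
  have hNZ : N ≤ Subgroup.center G := by
    intro x hx
    obtain ⟨m, hm, rfl⟩ := (hmemN _).mp hx
    exact ha m
  have hNM : N ≤ M := by
    intro x hx
    obtain ⟨m, hm, rfl⟩ := (hmemN _).mp hx
    exact M.mul_mem (hM.conj_mem m hm a) (M.inv_mem hm)
  have hNcard : Nat.card N = p := by
    have h1 : Nat.card N = Nat.card (M.map φ) := by
      rw [hN, ← Subgroup.map_map]
      exact Subgroup.card_map_of_injective (Subgroup.subtype_injective _)
    have h2 : Nat.card (M.map φ) = φ.ker.relIndex M := by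
      rw [← MonoidHom.restrict_range, ← Subgroup.index_ker, MonoidHom.ker_restrict]
      rfl
    have h3 := Subgroup.relIndex_mul_index hCM
    rw [hMidx, hkeridx] at h3
    have h4 : φ.ker.relIndex M = p := by
      have := hp.pos
      nlinarith
    rw [h1, h2, h4]
  -- apply step (VIII) to `M`
  have hcdM : CdOneP M p := cdOneP_of_normal hp hcd M
  have hnabM : ∃ x y : M, x * y ≠ y * x := by
    obtain ⟨x, hx, y, hy, hxy⟩ := hnab M hMidx
    exact ⟨⟨x, hx⟩, ⟨y, hy⟩, fun h => hxy (congrArg Subtype.val h)⟩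
  have hKcard : Nat.card (N.subgroupOf M) = p := by
    rw [Nat.card_congr (Subgroup.subgroupOfEquivOfLe hNM).toEquiv, hNcard]
  have hKc : N.subgroupOf M ≤ Subgroup.center M := by
    intro x hx
    rw [Subgroup.mem_subgroupOf] at hx
    rw [Subgroup.mem_center_iff]
    intro g
    apply Subtype.ext
    exact Subgroup.mem_center_iff.mp (hNZ hx) g
  have hKcomm : ∀ x y : M, x * y * x⁻¹ * y⁻¹ ∈ N.subgroupOf M := by
    intro x y
    rw [Subgroup.mem_subgroupOf]
    obtain ⟨m, hm, hmx⟩ := commutator_eq_commHom hp hG hcd a ha M hMidx hCM x y x.2 y.2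
    exact (hmemN _).mpr ⟨m, hm, hmx.symm⟩
  have hMcard := card_eq_sq_mul_card_center hp hcdM hnabM (N.subgroupOf M) hKcard hKc hKcomm
  -- the centre of `M` is the centre of `G`
  have hZM : Subgroup.center G ≤ M := (center_le_ker_commHom a ha).trans hCM
  have hZcard : Nat.card (Subgroup.center M) = Nat.card (Subgroup.center G) := by
    apply Nat.card_congr
    refine ⟨fun z => ⟨((z : M) : G), ?_⟩, fun z => ⟨⟨(z : G), hZM z.2⟩, ?_⟩, ?_, ?_⟩
    · apply mem_center_of_index_eq hp hG hcd M hMidx (hnab M hMidx) _ (z : M).2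
      intro m hm
      exact congrArg Subtype.val (Subgroup.mem_center_iff.mp z.2 ⟨m, hm⟩)
    · rw [Subgroup.mem_center_iff]
      intro g
      apply Subtype.ext
      exact Subgroup.mem_center_iff.mp z.2 g
    · intro z; rfl
    · intro z; rfl
  have h1 := Subgroup.card_mul_index M
  have h2 := Subgroup.card_mul_index (Subgroup.center G)
  rw [hMcard, hZcard, hMidx] at h1
  have h3 : Nat.card (Subgroup.center G) * (Subgroup.center G).index =
      Nat.card (Subgroup.center G) * p ^ 3 := by
    rw [h2, ← h1]; ring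
  exact Nat.eq_of_mul_eq_mul_left Nat.card_pos h3

end StepVIII

end Cfsg.Agent.Lib.H24
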