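import Mathlib
import Cfsg.Agent.Lib.H24.DegreesOnePMain

/-!
# Groups with character degrees `1` and `p` (Isaacs 12.11, helper24's library)

The two directions of Isaacs 12.11, in terms of `CdOneP`.
-/

set_option autoImplicit false

namespace Cfsg.Agent.Lib.H24

open scoped ComplexConjugate
open Cfsg Cfsg.Agent.Lib.L0 Cfsg.Agent.Lib.H23

section Backward

variable {G : Type*} [Group G] [Finite G] {p : ℕ}

/-- `χ(1)^2 |Z(G)| ≤ |G|` for an irreducible character. -/
theorem sq_mul_card_center_le {χ : G → ℂ} (hχ : IsIrrCharacter G χ) (d : ℕ) (hd : χ 1 = d) :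
    d ^ 2 * Nat.card (Subgroup.center G) ≤ Nat.card G := by
  classical
  have := Fintype.ofFinite G
  have h1 := sum_mul_conj_eq_card hχ
  have h2 : ∑ g : G, Complex.normSq (χ g) = (Nat.card G : ℝ) := by
    apply Complex.ofReal_injective
    push_cast
    rw [← h1]
    refine Finset.sum_congr rfl (fun g _ => ?_)
    rw [Complex.mul_conj]
  have h3 : ∀ g ∈ Finset.univ.filter (fun x : G => x ∈ Subgroup.center G),
      Complex.normSq (χ g) = (d : ℝ) ^ 2 := by
    intro g hg
    have hgc := (Finset.mem_filter.mp hg).2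
    have h4 := mul_conj_of_commutator_ker hχ g (by
      intro x
      refine congrArg χ ?_
      rw [← Subgroup.mem_center_iff.mp hgc x]; group)
    rw [Complex.mul_conj, hd] at h4
    apply Complex.ofReal_injective
    push_cast
    exact h4
  have h5 : ∑ g ∈ Finset.univ.filter (fun x : G => x ∈ Subgroup.center G), Complex.normSq (χ g) ≤
      ∑ g : G, Complex.normSq (χ g) :=
    Finset.sum_le_sum_of_subset_of_nonneg (Finset.filter_subset _ _)
      (fun _ _ _ => Complex.normSq_nonneg _)
  rw [Finset.sum_congr rfl h3, Finset.sum_const, h2, nsmul_eq_mul] at h5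
  have h6 : (Finset.univ.filter (fun x : G => x ∈ Subgroup.center G)).card =
      Nat.card (Subgroup.center G) := by
    rw [Nat.card_eq_fintype_card, Fintype.card_subtype]
  rw [h6] at h5
  have h7 : ((d ^ 2 * Nat.card (Subgroup.center G) : ℕ) : ℝ) ≤ (Nat.card G : ℝ) := by
    push_cast
    linarith
  exact_mod_cast h7

/-- Groups with an abelian normal subgroup of index `p` have degrees `1` and `p`. -/
theorem cdOneP_of_abelian_index (hp : p.Prime) (A : Subgroup G) [A.Normal]
    (hA : ∀ a ∈ A, ∀ b ∈ A, a * b = b * a) (hidx : A.index = p) : CdOneP G p := by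
  classical
  have := Fintype.ofFinite G
  intro χ hχ
  obtain ⟨d, hd, hdvd⟩ := ito_char A hA hχ
  rw [hidx] at hdvd
  rw [hd]
  rcases (Nat.dvd_prime hp).mp hdvd with h | h
  · left; rw [h]; simp
  · right; rw [h]

/-- Groups whose centre has index `p ^ 3` have degrees `1` and `p`. -/
theorem cdOneP_of_center_index (hp : p.Prime) (hZ : (Subgroup.center G).index = p ^ 3) :
    CdOneP G p := by
  classical
  have := Fintype.ofFinite G
  intro χ hχ
  obtain ⟨d, hd, hdvd⟩ := ito_char (Subgroup.center G)
    (fun a ha b _ => (Subgroup.mem_center_iff.mp ha b).symm) hχ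
  rw [hZ] at hdvd
  have h1 := sq_mul_card_center_le hχ d hd
  rw [← Subgroup.card_mul_index (Subgroup.center G), hZ, mul_comm] at h1
  have h2 : d ^ 2 ≤ p ^ 3 := Nat.le_of_mul_le_mul_left h1 Nat.card_pos
  obtain ⟨j, hj3, hj⟩ := (Nat.dvd_prime_pow hp).mp hdvd
  rw [hd, hj]
  rw [hj, ← pow_mul] at h2
  have h3 : j * 2 ≤ 3 := (Nat.pow_le_pow_iff_right hp.one_lt).mp h2
  have h4 : j = 0 ∨ j = 1 := by omega
  rcases h4 with h | h
  · left; rw [h]; simp
  · right; rw [h]; simp

/-- A nonabelian group with degrees `1` and `p` has a character of degree `p`. -/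
theorem exists_degree_eq_of_cdOneP (hcd : CdOneP G p) (hnc : ∃ x y : G, x * y ≠ y * x) :
    ∃ χ : IrrCharacter G, (χ : G → ℂ) 1 = (p : ℂ) := by
  by_contra hall
  push Not at hall
  obtain ⟨x, y, hxy⟩ := hnc
  apply hxy
  apply comm_of_forall_irr_one
  intro χ
  rcases hcd _ χ.2 with h | h
  · exact h
  · exact absurd h (hall χ)

end Backward

section Forward

variable {G : Type*} [Group G] [Finite G] {p : ℕ}

/-- The forward direction of Isaacs 12.11 for a direct product of a `p`-group and an abelian
group. -/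
theorem forward_of_decomp (hp : p.Prime) (hcd : CdOneP G p) (hnc : ∃ x y : G, x * y ≠ y * x)
    (P A : Subgroup G) [hPn : P.Normal] [hAn : A.Normal] (hP : IsPGroup p P)
    (hA : ∀ a ∈ A, ∀ b ∈ A, a * b = b * a) (hinf : P ⊓ A = ⊥) (hsup : P ⊔ A = ⊤) :
    (∃ B : Subgroup G, B.Normal ∧ (∀ a ∈ B, ∀ b ∈ B, a * b = b * a) ∧ B.index = p) ∨
      (Subgroup.center G).index = p ^ 3 := by
  classical
  have hcomm : ∀ x ∈ P, ∀ y ∈ A, x * y = y * x := fun x hx y hy =>
    Subgroup.commute_of_normal_of_disjoint P A hPn hAn (disjoint_iff.mpr hinf) x y hx hy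
  have hdec : ∀ g : G, ∃ x ∈ P, ∃ y ∈ A, x * y = g := by
    intro g
    have : g ∈ P ⊔ A := hsup ▸ Subgroup.mem_top g
    exact Subgroup.mem_sup_of_normal_right.mp this
  have hAc : A ≤ Subgroup.center G := by
    intro y hy
    rw [Subgroup.mem_center_iff]
    intro g
    obtain ⟨x, hx, y', hy', rfl⟩ := hdec g
    calc x * y' * y = x * (y' * y) := mul_assoc _ _ _
      _ = x * (y * y') := by rw [hA y' hy' y hy]
      _ = (x * y) * y' := (mul_assoc _ _ _).symm
      _ = (y * x) * y' := by rw [hcomm x hx y hy]
      _ = y * (x * y') := mul_assoc _ _ _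
  have hPnc : ∃ x y : P, x * y ≠ y * x := by
    by_contra hab
    push Not at hab
    obtain ⟨g, h, hgh⟩ := hnc
    apply hgh
    obtain ⟨x, hx, y, hy, rfl⟩ := hdec g
    obtain ⟨x', hx', y', hy', rfl⟩ := hdec h
    have h1 : x * x' = x' * x := congrArg Subtype.val (hab ⟨x, hx⟩ ⟨x', hx'⟩)
    have hy_c := Subgroup.mem_center_iff.mp (hAc hy)
    have hy'_c := Subgroup.mem_center_iff.mp (hAc hy')
    calc x * y * (x' * y') = x * (y * x') * y' := by group
      _ = x * (x' * y) * y' := by rw [← hy_c x']
      _ = (x * x') * (y * y') := by group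
      _ = (x' * x) * (y' * y) := by rw [h1, hA y hy y' hy']
      _ = x' * (x * y') * y := by group
      _ = x' * (y' * x) * y := by rw [hy'_c x]
      _ = x' * y' * (x * y) := by group
  by_cases hex : ∃ M : Subgroup P, M.index = p ∧ ∀ a ∈ M, ∀ b ∈ M, a * b = b * a
  · left
    obtain ⟨M, hMidx, hMab⟩ := hex
    haveI hMn : M.Normal := normal_of_index_eq_of_isPGroup hp hP M hMidx
    haveI hM'n : (M.map P.subtype).Normal := by
      constructor
      rintro _ ⟨m, hm, rfl⟩ g
      obtain ⟨x, hx, y, hy, rfl⟩ := hdec g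
      refine ⟨⟨x, hx⟩ * m * ⟨x, hx⟩⁻¹, hMn.conj_mem m hm _, ?_⟩
      have hyc := Subgroup.mem_center_iff.mp (hAc hy) (m : G)
      show x * (m : G) * x⁻¹ = x * y * (m : G) * (x * y)⁻¹
      calc x * (m : G) * x⁻¹ = x * ((m : G) * y) * y⁻¹ * x⁻¹ := by group
        _ = x * (y * (m : G)) * y⁻¹ * x⁻¹ := by rw [hyc]
        _ = _ := by group
    refine ⟨M.map P.subtype ⊔ A, inferInstance, ?_, ?_⟩
    · intro a ha b hb
      obtain ⟨m, hm, y, hy, rfl⟩ := Subgroup.mem_sup_of_normal_right.mp ha
      obtain ⟨m', hm', y', hy', rfl⟩ := Subgroup.mem_sup_of_normal_right.mp hb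
      obtain ⟨n, hn, rfl⟩ := hm
      obtain ⟨n', hn', rfl⟩ := hm'
      have h1 : (n : G) * (n' : G) = (n' : G) * (n : G) := congrArg Subtype.val (hMab n hn n' hn')
      have hy_c := Subgroup.mem_center_iff.mp (hAc hy)
      have hy'_c := Subgroup.mem_center_iff.mp (hAc hy')
      show (n : G) * y * ((n' : G) * y') = (n' : G) * y' * ((n : G) * y)
      calc (n : G) * y * ((n' : G) * y') = (n : G) * (y * (n' : G)) * y' := by group
        _ = (n : G) * ((n' : G) * y) * y' := by rw [← hy_c (n' : G)]
        _ = ((n : G) * (n' : G)) * (y * y') := by group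
        _ = ((n' : G) * (n : G)) * (y' * y) := by rw [h1, hA y hy y' hy']
        _ = (n' : G) * ((n : G) * y') * y := by group
        _ = (n' : G) * (y' * (n : G)) * y := by rw [hy'_c (n : G)]
        _ = (n' : G) * y' * ((n : G) * y) := by group
    · have hBn : (M.map P.subtype ⊔ A).Normal := Subgroup.sup_normal _ _
      set B := M.map P.subtype ⊔ A with hB
      have h1 : B ⊔ P = ⊤ := by
        rw [eq_top_iff, ← hsup]
        exact sup_le le_sup_right ((le_sup_right : A ≤ B).trans le_sup_left)
      have h2 : B.subgroupOf P = M := by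
        ext x
        rw [Subgroup.mem_subgroupOf]
        constructor
        · intro hx
          obtain ⟨m, hm, y, hy, hmy⟩ := Subgroup.mem_sup_of_normal_right.mp hx
          obtain ⟨n, hn, rfl⟩ := hm
          replace hmy : (n : G) * y = (x : G) := hmy
          have hyP : y ∈ P := by
            have : y = (n : G)⁻¹ * (x : G) := by rw [← hmy]; group
            rw [this]
            exact P.mul_mem (P.inv_mem n.2) x.2
          have hy1 : y = 1 := by
            have : y ∈ P ⊓ A := ⟨hyP, hy⟩
            rw [hinf] at this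
            exact Subgroup.mem_bot.mp this
          rw [hy1, mul_one] at hmy
          have : n = x := Subtype.ext hmy
          rw [← this]; exact hn
        · intro hx
          exact Subgroup.mem_sup_left ⟨x, hx, rfl⟩
      calc B.index = B.relIndex ⊤ := (Subgroup.relIndex_top_right _).symm
        _ = B.relIndex (B ⊔ P) := by rw [h1]
        _ = B.relIndex P := Subgroup.relIndex_sup_left _ _
        _ = (B.subgroupOf P).index := rfl
        _ = p := by rw [h2, hMidx]
  · right
    push Not at hex
    have h := index_center_eq_of_cdOneP hp hP (cdOneP_of_normal hp hcd P) (fun M hM => by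
      by_contra hab
      push Not at hab
      obtain ⟨a, ha, b, hb, hne⟩ := hex M hM
      exact hne (hab a ha b hb)) hPnc
    have hsub : (Subgroup.center G).subgroupOf P = Subgroup.center P := by
      ext x
      rw [Subgroup.mem_subgroupOf, Subgroup.mem_center_iff, Subgroup.mem_center_iff]
      constructor
      · intro hx g
        exact Subtype.ext (hx g)
      · intro hx g
        obtain ⟨x', hx', y, hy, rfl⟩ := hdec g
        have h1 : x' * (x : G) = (x : G) * x' := congrArg Subtype.val (hx ⟨x', hx'⟩)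
        have hyc := Subgroup.mem_center_iff.mp (hAc hy) (x : G)
        calc x' * y * (x : G) = x' * (y * (x : G)) := mul_assoc _ _ _
          _ = x' * ((x : G) * y) := by rw [← hyc]
          _ = (x' * (x : G)) * y := (mul_assoc _ _ _).symm
          _ = ((x : G) * x') * y := by rw [h1]
          _ = (x : G) * (x' * y) := mul_assoc _ _ _
    have h1 : Subgroup.center G ⊔ P = ⊤ := by
      rw [eq_top_iff, ← hsup]
      exact sup_le le_sup_right (hAc.trans le_sup_left)
    calc (Subgroup.center G).index = (Subgroup.center G).relIndex ⊤ :=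
          (Subgroup.relIndex_top_right _).symm
      _ = (Subgroup.center G).relIndex (Subgroup.center G ⊔ P) := by rw [h1]
      _ = (Subgroup.center G).relIndex P := Subgroup.relIndex_sup_left _ _
      _ = ((Subgroup.center G).subgroupOf P).index := rfl
      _ = p ^ 3 := by rw [hsub, h]

end Forward

end Cfsg.Agent.Lib.H24
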