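import Mathlib
import Cfsg.Agent.Lib.H24.DnG

set_option autoImplicit false
set_option linter.unusedSectionVars false

/-!
# Decompositions into four-dimensional spaces of plus type over the field with two elements:
the stabiliser is not maximal (helper24)
-/

namespace Cfsg.Agent.Lib.H24.Dn

open Module Matrix QuadraticMap
open Cfsg.Agent.Lib.H29.Orth Cfsg.Agent.Lib.H24.Tn
open Cfsg.Agent.Lib.H13.OUni
open Cfsg.Agent.Lib.H10.OrtNd (PB TS PB_apply)

variable {ι : Type} [Fintype ι] [DecidableEq ι] {F : Type*} [Field F]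

/-- the Siegel involution attached to a totally singular pair, as an element of `Ω`
(characteristic two) -/
theorem exists_siegelGL [Fintype F] (Q : QuadraticForm F (ι → F))
    (hQ : (QuadraticMap.polarBilin Q).Nondegenerate) (hcard : 5 ≤ Fintype.card ι)
    (h2 : (2 : F) = 0) (X Y : ι → F) (hX : Q X = 0) (hY : Q Y = 0) (hXY : polar Q X Y = 0)
    (a b : ι → F) (hXa : polar Q X a = 1) (hYa : polar Q Y a = 0) (hXb : polar Q X b = 0)
    (hYb : polar Q Y b = 1) :
    ∃ g : GL ι F, g ∈ Cfsg.Geo.omegaGL (⇑Q) ∧ g⁻¹ = g ∧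
      ∀ v, (g : Matrix ι ι F) *ᵥ v = v + (polar Q Y v • X - polar Q X v • Y) := by
  haveI : CharP F 2 := CharTwo.of_one_ne_zero_of_two_eq_zero one_ne_zero h2
  haveI : Fact (Nat.Prime 2) := ⟨Nat.prime_two⟩
  set e : Unit → (ι → F) := fun _ => X with he
  set f : Unit → (ι → F) := fun _ => Y with hf
  have hR : TS Q (Submodule.span F {X, Y}) := by
    intro w hw
    obtain ⟨α, β, rfl⟩ := Submodule.mem_span_pair.mp hw
    rw [QuadraticMap.map_add (⇑Q), QuadraticMap.map_smul, QuadraticMap.map_smul, hX, hY,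
      polar_smul_left, polar_smul_right, hXY]
    simp
  have hXR : X ∈ Submodule.span F {X, Y} := Submodule.subset_span (by simp)
  have hYR : Y ∈ Submodule.span F {X, Y} := Submodule.subset_span (by simp)
  have hN : IsSiegel Q (siegelN Q e f) :=
    siegelN_isSiegel Q e f _ hR (fun _ => hXR) (fun _ => hYR)
  have hli : LinearIndependent F (Sum.elim e f) := by
    rw [Fintype.linearIndependent_iff]
    intro c hc
    rw [Fintype.sum_sum_type] at hc
    simp only [Finset.univ_unique, Finset.sum_singleton, Sum.elim_inl, Sum.elim_inr, he, hf] at hc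
    have k1 := congrArg (fun w => polar Q w a) hc
    have k2 := congrArg (fun w => polar Q w b) hc
    simp only [polar_add_left, polar_smul_left, polar_zero_left, hXa, hYa, hXb, hYb, smul_eq_mul,
      mul_one, mul_zero, add_zero, zero_add] at k1 k2
    rintro (⟨⟩ | ⟨⟩)
    · exact k1
    · exact k2
  have hrk := siegelN_finrank_range Q hQ e f hli
  rw [Fintype.card_unit, mul_one] at hrk
  have hne : siegelN Q e f ≠ 0 := by
    intro h0
    rw [h0, LinearMap.range_zero, finrank_bot] at hrk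
    omega
  obtain ⟨g, hgΩ, hg2, -, hg⟩ := exists_gl_of_siegel Q hQ hcard 2 (siegelN Q e f) hN
    (by rw [hrk]; exact even_two) hne
  refine ⟨g, hgΩ, inv_eq_of_mul_eq_one_right (by rw [← pow_two]; exact hg2), ?_⟩
  intro v
  rw [hg, siegelN_apply]
  simp only [Finset.univ_unique, Finset.sum_singleton, he, hf, PB_apply]

/-- decompositions into four-dimensional spaces of plus type over the field with two elements -/
theorem decomp_f2_four [Fintype F] (hq : Fintype.card F = 2) (Q : QuadraticForm F (ι → F))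
    (hQ : (QuadraticMap.polarBilin Q).Nondegenerate) (hcard : 5 ≤ Fintype.card ι) {t : ℕ}
    (ht : 2 ≤ t) (D : Fin t → Submodule F (ι → F))
    (hD : Cfsg.Geo.IsOrthogonalMDecomposition (⇑Q) 4 D)
    (hplus : ∀ i, Cfsg.Geo.IsPlusTypeOn (⇑Q) (D i)) :
    ∃ K : Subgroup (GL ι F), Cfsg.Geo.decompositionStabilizer D ⊓ Cfsg.Geo.omegaGL (⇑Q) < K ∧
      K < Cfsg.Geo.omegaGL (⇑Q) := by
  classical
  have h2 := f2_two (F := F) hq
  have h11 : (1 : F) + 1 = 0 := by rw [← h2]; norm_num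
  have horth : ∀ i i', i ≠ i' → ∀ x ∈ D i, ∀ y ∈ D i', polar Q x y = 0 :=
    fun i i' hne x hx y hy => hD.decomp.orthogonal i i' hne x hx y hy
  have pself : ∀ x : ι → F, polar Q x x = 0 := polar_self_zero (Q := Q) h2
  have Qadd : ∀ x y : ι → F, Q (x + y) = Q x + Q y + polar Q x y := QuadraticMap.map_add (⇑Q)
  have hall : ∀ i, ∃ p q p' q' : ι → F, p ∈ D i ∧ q ∈ D i ∧ p' ∈ D i ∧ q' ∈ D i ∧ Q p = 1 ∧
      Q q = 1 ∧ Q p' = 1 ∧ Q q' = 1 ∧ polar Q p q = 1 ∧ polar Q p' q' = 1 ∧ polar Q p p' = 0 ∧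
      polar Q p q' = 0 ∧ polar Q q p' = 0 ∧ polar Q q q' = 0 ∧
      ∀ x ∈ D i, Q x = 1 → x = p ∨ x = q ∨ x = p + q ∨ x = p' ∨ x = q' ∨ x = p' + q' :=
    fun i => exists_elliptic_pair hq Q (D i) (hD.decomp.decomp.finrank_eq i)
      (hD.decomp.nondegenerate i) (hplus i)
  choose p q p' q' hpD hqD hp'D hq'D hQp hQq hQp' hQq' hpq hp'q' hpp' hpq' hqp' hqq' hstr
    using hall
  have hqp : ∀ i, polar Q (q i) (p i) = 1 := fun i => by rw [polar_comm, hpq]
  have hq'p' : ∀ i, polar Q (q' i) (p' i) = 1 := fun i => by rw [polar_comm, hp'q']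
  have hp'p : ∀ i, polar Q (p' i) (p i) = 0 := fun i => by rw [polar_comm, hpp']
  have hq'p : ∀ i, polar Q (q' i) (p i) = 0 := fun i => by rw [polar_comm, hpq']
  have hp'q : ∀ i, polar Q (p' i) (q i) = 0 := fun i => by rw [polar_comm, hqp']
  have hq'q : ∀ i, polar Q (q' i) (q i) = 0 := fun i => by rw [polar_comm, hqq']
  -- the set of non-singular block vectors
  set S : Set (ι → F) := {x | (fun a => a = 1) (Q x) ∧ ∃ i, x ∈ D i} with hS
  -- indices
  let i1 : Fin t := ⟨0, by omega⟩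
  let i2 : Fin t := ⟨1, by omega⟩
  have n12 : i1 ≠ i2 := by simp [i1, i2, Fin.ext_iff]
  -- the Siegel element for a pair of blocks
  have hsieg : ∀ a b : Fin t, a ≠ b → ∀ g : GL ι F,
      (∀ v, (g : Matrix ι ι F) *ᵥ v
        = v + (polar Q (q a + q b) v • (p a + p b) - polar Q (p a + p b) v • (q a + q b))) →
      (∀ v ∈ D a, Q v = 1 → ∃ i, (g : Matrix ι ι F) *ᵥ v ∈ D i) ∧
      (g : Matrix ι ι F) *ᵥ p a = p b ∧ (g : Matrix ι ι F) *ᵥ p' a = p' a := by
    intro a b hab g hg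
    have oab : ∀ x ∈ D a, ∀ y ∈ D b, polar Q x y = 0 := horth a b hab
    have oba : ∀ x ∈ D b, ∀ y ∈ D a, polar Q x y = 0 := horth b a hab.symm
    have hga : ∀ v ∈ D a, (g : Matrix ι ι F) *ᵥ v
        = v + (polar Q (q a) v • (p a + p b) - polar Q (p a) v • (q a + q b)) := by
      intro v hv
      rw [hg, polar_add_left, polar_add_left, oba _ (hqD b) _ hv, oba _ (hpD b) _ hv, add_zero,
        add_zero]
    have e1 : (g : Matrix ι ι F) *ᵥ p a = p b := by
      rw [hga _ (hpD a), hqp, pself]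
      linear_combination (norm := module) h2 • p a
    have e2 : (g : Matrix ι ι F) *ᵥ q a = - q b := by
      rw [hga _ (hqD a), hpq, pself]
      module
    have e3 : (g : Matrix ι ι F) *ᵥ p' a = p' a := by
      rw [hga _ (hp'D a), hqp', hpp']
      module
    have e4 : (g : Matrix ι ι F) *ᵥ q' a = q' a := by
      rw [hga _ (hq'D a), hqq', hpq']
      module
    refine ⟨?_, e1, e3⟩
    intro v hv hQv
    rcases hstr a v hv hQv with rfl | rfl | rfl | rfl | rfl | rfl
    · refine ⟨b, ?_⟩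
      rw [e1]
      exact hpD b
    · refine ⟨b, ?_⟩
      rw [e2]
      exact (D b).neg_mem (hqD b)
    · refine ⟨b, ?_⟩
      rw [Matrix.mulVec_add, e1, e2]
      exact (D b).add_mem (hpD b) ((D b).neg_mem (hqD b))
    · refine ⟨a, ?_⟩
      rw [e3]
      exact hp'D a
    · refine ⟨a, ?_⟩
      rw [e4]
      exact hq'D a
    · refine ⟨a, ?_⟩
      rw [Matrix.mulVec_add, e3, e4]
      exact (D a).add_mem (hp'D a) (hq'D a)
  -- the element `g`
  have hQX : Q (p i1 + p i2) = 0 := by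
    rw [Qadd, hQp, hQp, horth i1 i2 n12 _ (hpD _) _ (hpD _)]
    linear_combination h2
  have hQY : Q (q i1 + q i2) = 0 := by
    rw [Qadd, hQq, hQq, horth i1 i2 n12 _ (hqD _) _ (hqD _)]
    linear_combination h2
  have hXY : polar Q (p i1 + p i2) (q i1 + q i2) = 0 := by
    rw [polar_add_left, polar_add_right, polar_add_right, hpq, hpq,
      horth i1 i2 n12 _ (hpD _) _ (hqD _), horth i2 i1 n12.symm _ (hpD _) _ (hqD _)]
    linear_combination h2
  obtain ⟨g, hgΩ, hginv, hg⟩ := exists_siegelGL Q hQ hcard h2 (p i1 + p i2) (q i1 + q i2) hQX hQY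
    hXY (q i1) (p i1)
    (by rw [polar_add_left, hpq, horth i2 i1 n12.symm _ (hpD _) _ (hqD _), add_zero])
    (by rw [polar_add_left, pself, horth i2 i1 n12.symm _ (hqD _) _ (hqD _), add_zero])
    (by rw [polar_add_left, pself, horth i2 i1 n12.symm _ (hpD _) _ (hpD _), add_zero])
    (by rw [polar_add_left, hqp, horth i2 i1 n12.symm _ (hqD _) _ (hpD _), add_zero])
  have hg' : ∀ v, (g : Matrix ι ι F) *ᵥ v
      = v + (polar Q (q i2 + q i1) v • (p i2 + p i1) - polar Q (p i2 + p i1) v • (q i2 + q i1)) := by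
    intro v
    rw [hg, add_comm (q i2), add_comm (p i2)]
  obtain ⟨s1, s1p, s1p'⟩ := hsieg i1 i2 n12 g hg
  obtain ⟨s2, -, -⟩ := hsieg i2 i1 n12.symm g hg'
  have hgI := (mem_isometryGroup_iff Q g).mp (omegaGL_le_isometryGroup Q hgΩ)
  have hgS : ∀ v ∈ S, (g : Matrix ι ι F) *ᵥ v ∈ S := by
    rintro v ⟨hQv, i, hi⟩
    refine ⟨by show Q _ = 1; rw [hgI]; exact hQv, ?_⟩
    by_cases hi1 : i = i1
    · subst hi1
      exact s1 v hi hQv
    by_cases hi2 : i = i2
    · subst hi2
      exact s2 v hi hQv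
    refine ⟨i, ?_⟩
    rw [hg, polar_add_left, polar_add_left, horth i1 i (Ne.symm hi1) _ (hqD _) _ hi,
      horth i2 i (Ne.symm hi2) _ (hqD _) _ hi, horth i1 i (Ne.symm hi1) _ (hpD _) _ hi,
      horth i2 i (Ne.symm hi2) _ (hpD _) _ hi]
    simpa using hi
  -- the element `h`
  have hQy : Q (q i1 + (p i2 + p' i2)) = 1 := by
    rw [Qadd, Qadd, hQq, hQp, hQp', hpp', polar_add_right, horth i1 i2 n12 _ (hqD _) _ (hpD _),
      horth i1 i2 n12 _ (hqD _) _ (hp'D _)]
    linear_combination h2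
  have hzy : polar Q (p i1) (q i1 + (p i2 + p' i2)) = 1 := by
    rw [polar_add_right, polar_add_right, hpq, horth i1 i2 n12 _ (hpD _) _ (hpD _),
      horth i1 i2 n12 _ (hpD _) _ (hp'D _)]
    ring
  obtain ⟨h, hhΩ, hh, -⟩ := exists_rotGL Q hQ hcard h2 (p i1) (q i1 + (p i2 + p' i2)) (hQp i1)
    hQy hzy
  refine not_maximal_of_set Q D S (blockSet_invariant Q D (fun a => a = 1)) g h hgΩ ?_ ?_ hhΩ ?_
  · apply mem_setStab_of S g hgS
    rw [hginv]
    exact hgS
  · rintro ⟨σ, hσ⟩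
    have m1 : p i2 ∈ D (σ i1) := by
      rw [← hσ i1]
      exact ⟨p i1, hpD _, by rw [Matrix.toLin'_apply]; exact s1p⟩
    have m2 : p' i1 ∈ D (σ i1) := by
      rw [← hσ i1]
      exact ⟨p' i1, hp'D _, by rw [Matrix.toLin'_apply]; exact s1p'⟩
    have hσ1 : σ i1 = i2 := by
      by_contra hne
      have := horth _ _ hne _ m1 _ (hqD i2)
      rw [hpq] at this
      exact one_ne_zero this
    rw [hσ1] at m2
    have := horth _ _ n12.symm _ m2 _ (hq'D i1)
    rw [hp'q'] at this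
    exact one_ne_zero this
  · intro hcon
    have hq2S : q i2 ∈ S := ⟨hQq i2, i2, hqD i2⟩
    obtain ⟨-, i, hi⟩ := mulVec_mem_of_mem_setStab hcon hq2S
    rw [hh, rot_apply] at hi
    have e1 : polar Q (q i2) (p i1) = 0 := horth i2 i1 n12.symm _ (hqD _) _ (hpD _)
    have e2 : polar Q (q i2) (q i1 + (p i2 + p' i2)) = 1 := by
      rw [polar_add_right, polar_add_right, horth i2 i1 n12.symm _ (hqD _) _ (hqD _), hqp, hqp']
      ring
    rw [e1, e2, zero_smul, one_smul, add_zero] at hi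
    refine not_mem_block Q D horth _ n12 (q i1) (q' i2) (hqD _) (hq'D _) ?_ ?_ i hi
    · simp only [polar_add_left, horth i2 i1 n12.symm _ (hqD _) _ (hqD _), hpq, pself,
        horth i2 i1 n12.symm _ (hpD _) _ (hqD _), horth i2 i1 n12.symm _ (hp'D _) _ (hqD _)]
      simp
    · simp only [polar_add_left, hqq', horth i1 i2 n12 _ (hpD _) _ (hq'D _),
        horth i1 i2 n12 _ (hqD _) _ (hq'D _), hpq', hp'q']
      simp

end Cfsg.Agent.Lib.H24.Dn
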