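import Cfsg.Agent.Lib.H24.ElusCount

set_option autoImplicit false

/-!
# Counting complements and decompositions `V = U ⊕ W` (helper24)
-/

namespace Cfsg.Agent.Lib.H24.Elus

open Module

variable {F : Type*} [Field F] [Fintype F] {V : Type*} [AddCommGroup V] [Module F V]
  [Module.Finite F V]

omit [Fintype F] [Module.Finite F V] in
/-- projections onto `U` correspond to linear maps from a fixed complement -/
noncomputable def projEquiv (U W₀ : Submodule F V) (hc : IsCompl U W₀) :
    {f : V →ₗ[F] U // ∀ x : U, f x = x} ≃ (W₀ →ₗ[F] U) where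
  toFun f := f.1 ∘ₗ W₀.subtype
  invFun h := ⟨(LinearMap.coprod LinearMap.id h) ∘ₗ
      (Submodule.prodEquivOfIsCompl U W₀ hc).symm.toLinearMap, by
    intro x
    rw [LinearMap.comp_apply, LinearEquiv.coe_coe,
      Submodule.prodEquivOfIsCompl_symm_apply_left, LinearMap.coprod_apply, map_zero, add_zero,
      LinearMap.id_apply]⟩
  left_inv f := by
    apply Subtype.ext
    apply LinearMap.ext
    intro v
    obtain ⟨⟨u, w⟩, rfl⟩ := (Submodule.prodEquivOfIsCompl U W₀ hc).surjective v
    show (LinearMap.coprod LinearMap.id (f.1 ∘ₗ W₀.subtype))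
      ((Submodule.prodEquivOfIsCompl U W₀ hc).symm
        (Submodule.prodEquivOfIsCompl U W₀ hc (u, w))) = _
    rw [LinearEquiv.symm_apply_apply, LinearMap.coprod_apply, LinearMap.id_apply,
      LinearMap.comp_apply, Submodule.coe_prodEquivOfIsCompl', map_add, f.2 u]
    rfl
  right_inv h := by
    apply LinearMap.ext
    intro w
    show (LinearMap.coprod LinearMap.id h)
      ((Submodule.prodEquivOfIsCompl U W₀ hc).symm (w : V)) = h w
    rw [Submodule.prodEquivOfIsCompl_symm_apply_right, LinearMap.coprod_apply, map_zero,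
      zero_add]

/-- the number of complements of `U` -/
theorem card_complements (U : Submodule F V) :
    Nat.card {W : Submodule F V // IsCompl U W} =
      Fintype.card F ^ ((finrank F V - finrank F U) * finrank F U) := by
  obtain ⟨W₀, hc⟩ := Submodule.exists_isCompl U
  rw [Nat.card_congr (Submodule.isComplEquivProj U), Nat.card_congr (projEquiv U W₀ hc),
    Module.natCard_eq_pow_finrank (K := F), Nat.card_eq_fintype_card, Module.finrank_linearMap]
  have := Submodule.finrank_add_eq_of_isCompl hc
  have h2 : finrank F W₀ = finrank F V - finrank F U := by omega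
  rw [h2]

/-- decompositions fibre over the first summand -/
def decompEquiv (m : ℕ) :
    {P : Submodule F V × Submodule F V // IsCompl P.1 P.2 ∧ finrank F P.1 = m} ≃
      Σ U : {U : Submodule F V // finrank F U = m}, {W : Submodule F V // IsCompl U.1 W} where
  toFun P := ⟨⟨P.1.1, P.2.2⟩, ⟨P.1.2, P.2.1⟩⟩
  invFun Q := ⟨(Q.1.1, Q.2.1), Q.2.2, Q.1.2⟩
  left_inv _ := rfl
  right_inv _ := rfl

/-- a prime `r ∤ q` dividing the number of decompositions divides `q ^ j - 1`,
`n - m < j ≤ n` -/
theorem exists_of_dvd_card_decomp (m : ℕ) (hm : m ≤ finrank F V) (r : ℕ) (hr : r.Prime)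
    (hrq : ¬ r ∣ Fintype.card F)
    (h : r ∣ Nat.card {P : Submodule F V × Submodule F V //
      IsCompl P.1 P.2 ∧ finrank F P.1 = m}) :
    ∃ j, finrank F V - m < j ∧ j ≤ finrank F V ∧ r ∣ Fintype.card F ^ j - 1 := by
  classical
  haveI : Finite V := finite_of_field F V
  haveI : Finite (Submodule F V) := finite_submodule
  haveI : Fintype {U : Submodule F V // finrank F U = m} := Fintype.ofFinite _
  rw [Nat.card_congr (decompEquiv (F := F) (V := V) m), Nat.card_sigma] at h
  have hconst : ∀ U : {U : Submodule F V // finrank F U = m},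
      Nat.card {W : Submodule F V // IsCompl U.1 W} =
        Fintype.card F ^ ((finrank F V - m) * m) := by
    intro U
    rw [card_complements, U.2]
  rw [Finset.sum_congr rfl (fun U _ => hconst U), Finset.sum_const, Finset.card_univ,
    smul_eq_mul, ← Nat.card_eq_fintype_card] at h
  rcases (Nat.Prime.dvd_mul hr).mp h with h1 | h1
  · exact exists_of_dvd_card_subspaces (F := F) (V := V) m hm r hr h1
  · exact absurd (hr.dvd_of_dvd_pow h1) hrq

end Cfsg.Agent.Lib.H24.Elus
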