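import Cfsg.Agent.Lib.H24.ElusCount

set_option autoImplicit false

/-!
# Counting flags `U ≤ W` (helper24)
-/

namespace Cfsg.Agent.Lib.H24.Elus

open Module

variable {F : Type*} [Field F] [Fintype F] {V : Type*} [AddCommGroup V] [Module F V]
  [Module.Finite F V]

omit [Fintype F] [Module.Finite F V] in
theorem finrank_map_subtype' (W : Submodule F V) (U' : Submodule F ↥W) :
    finrank F ↥(U'.map W.subtype) = finrank F U' :=
  (LinearEquiv.finrank_eq (Submodule.equivMapOfInjective W.subtype
    (Submodule.injective_subtype W) U')).symm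

/-- flags `U ≤ W` with `dim U = m`, `dim W = k` fibre over `W` -/
noncomputable def flagEquiv (m k : ℕ) :
    {P : Submodule F V × Submodule F V // P.1 ≤ P.2 ∧ finrank F P.1 = m ∧ finrank F P.2 = k} ≃
      Σ W : {W : Submodule F V // finrank F W = k},
        {U' : Submodule F ↥W.1 // finrank F U' = m} where
  toFun P := ⟨⟨P.1.2, P.2.2.2⟩, ⟨P.1.1.comap P.1.2.subtype, by
    rw [(Submodule.comapSubtypeEquivOfLe P.2.1).finrank_eq]
    exact P.2.2.1⟩⟩
  invFun Q := ⟨(Q.2.1.map Q.1.1.subtype, Q.1.1), Submodule.map_subtype_le _ _, by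
    rw [finrank_map_subtype']
    exact Q.2.2, Q.1.2⟩
  left_inv P := by
    apply Subtype.ext
    apply Prod.ext
    · show (P.1.1.comap P.1.2.subtype).map P.1.2.subtype = P.1.1
      rw [Submodule.map_comap_subtype]
      exact inf_eq_right.mpr P.2.1
    · rfl
  right_inv Q := by
    obtain ⟨W, U'⟩ := Q
    apply Sigma.ext
    · rfl
    · apply heq_of_eq
      apply Subtype.ext
      show (U'.1.map W.1.subtype).comap W.1.subtype = U'.1
      exact Submodule.comap_map_eq_of_injective (Submodule.injective_subtype _) _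

theorem card_subspaces_pos (m : ℕ) (hm : m ≤ finrank F V) :
    0 < Nat.card {W : Submodule F V // finrank F W = m} := by
  have hq : 2 ≤ Fintype.card F := Fintype.one_lt_card
  have h := card_subspaces_mul_PP (F := F) (V := V) m hm
  have h1 := PP_pos hq (finrank F V)
  rcases Nat.eq_zero_or_pos (Nat.card {W : Submodule F V // finrank F W = m}) with h0 | h0
  · rw [h0, zero_mul, zero_mul] at h
    omega
  · exact h0

/-- a prime dividing the number of flags divides `q ^ j - 1` for some `k - m < j ≤ n` -/
theorem exists_of_dvd_card_flags (m k : ℕ) (hmk : m ≤ k) (hk : k ≤ finrank F V) (r : ℕ)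
    (hr : r.Prime)
    (h : r ∣ Nat.card {P : Submodule F V × Submodule F V //
      P.1 ≤ P.2 ∧ finrank F P.1 = m ∧ finrank F P.2 = k}) :
    ∃ j, k - m < j ∧ j ≤ finrank F V ∧ r ∣ Fintype.card F ^ j - 1 := by
  classical
  have hq : 2 ≤ Fintype.card F := Fintype.one_lt_card
  haveI : Finite V := finite_of_field F V
  haveI : Finite (Submodule F V) := finite_submodule
  haveI : Fintype {W : Submodule F V // finrank F W = k} := Fintype.ofFinite _
  haveI : ∀ W : {W : Submodule F V // finrank F W = k},
      Finite {U' : Submodule F ↥W.1 // finrank F U' = m} := by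
    intro W
    haveI : Finite (Submodule F ↥W.1) := finite_submodule
    infer_instance
  rw [Nat.card_congr (flagEquiv (F := F) (V := V) m k), Nat.card_sigma] at h
  obtain ⟨W₀⟩ : Nonempty {W : Submodule F V // finrank F W = k} := by
    have := card_subspaces_pos (F := F) (V := V) k hk
    rw [Nat.card_eq_fintype_card, Fintype.card_pos_iff] at this
    exact this
  have hconst : ∀ W : {W : Submodule F V // finrank F W = k},
      Nat.card {U' : Submodule F ↥W.1 // finrank F U' = m} =
        Nat.card {U' : Submodule F ↥W₀.1 // finrank F U' = m} := by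
    intro W
    have h1 := card_subspaces_mul_PP (F := F) (V := ↥W.1) m (by rw [W.2]; exact hmk)
    have h2 := card_subspaces_mul_PP (F := F) (V := ↥W₀.1) m (by rw [W₀.2]; exact hmk)
    rw [W.2] at h1
    rw [W₀.2, ← h1, mul_assoc, mul_assoc] at h2
    have hpos : 0 < PP (Fintype.card F) m * PP (Fintype.card F) (k - m) :=
      Nat.mul_pos (PP_pos hq _) (PP_pos hq _)
    exact (Nat.eq_of_mul_eq_mul_right hpos h2).symm
  rw [Finset.sum_congr rfl (fun W _ => hconst W), Finset.sum_const, Finset.card_univ,
    smul_eq_mul, ← Nat.card_eq_fintype_card] at h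
  rcases (Nat.Prime.dvd_mul hr).mp h with h1 | h1
  · obtain ⟨j, hj1, hj2, hj3⟩ := exists_of_dvd_card_subspaces' (F := F) (V := V) k hk r hr h1
    exact ⟨j, by omega, hj2, hj3⟩
  · obtain ⟨j, hj1, hj2, hj3⟩ := exists_of_dvd_card_subspaces (F := F) (V := ↥W₀.1) m
      (by rw [W₀.2]; exact hmk) r hr h1
    rw [W₀.2] at hj1 hj2
    exact ⟨j, hj1, by omega, hj3⟩

end Cfsg.Agent.Lib.H24.Elus
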