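import Cfsg.Agent.Lib.H24.ElusImpPerm
import Cfsg.Agent.Lib.H13.SSClass

set_option autoImplicit false

/-!
# The monomial model for `x ^ r = z`, `z` not an `r`-th power (helper24)

`exists_decomp_nonpow`: if `X ^ r - z` is irreducible and `φ ^ r = z`, `dim V = a (r u)`, then
`φ` permutes the `r u` summands of a decomposition into subspaces of dimension `a`.
-/

namespace Cfsg.Agent.Lib.H24.Elus

open Polynomial Module
open Cfsg.Agent.Lib.H13

variable {F : Type*} [Field F]

section shift

variable {r : ℕ} [NeZero r] {κ' : Type*}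

/-- the shift of the first coordinate -/
def shiftPerm (r : ℕ) (κ' : Type*) : Equiv.Perm (ZMod r × κ') :=
  Equiv.prodCongr (Equiv.addRight (1 : ZMod r)) (Equiv.refl κ')

theorem shiftPerm_apply (s : ZMod r) (x : κ') : shiftPerm r κ' (s, x) = (s + 1, x) := rfl

theorem shiftPerm_symm_apply (s : ZMod r) (x : κ') :
    (shiftPerm r κ').symm (s, x) = (s - 1, x) := by
  rw [Equiv.symm_apply_eq, shiftPerm_apply, sub_add_cancel]

theorem shiftPerm_symm_pow_apply (k : ℕ) (s : ZMod r) (x : κ') :
    ((shiftPerm r κ').symm ^ k) (s, x) = (s - (k : ZMod r), x) := by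
  induction k with
  | zero => simp
  | succ k ih =>
    rw [pow_succ', Equiv.Perm.mul_apply, ih, shiftPerm_symm_apply, Nat.cast_succ]
    congr 1
    ring

theorem shiftPerm_pow_apply (k : ℕ) (s : ZMod r) (x : κ') :
    ((shiftPerm r κ') ^ k) (s, x) = (s + (k : ZMod r), x) := by
  induction k with
  | zero => simp
  | succ k ih =>
    rw [pow_succ', Equiv.Perm.mul_apply, ih, shiftPerm_apply, Nat.cast_succ]
    congr 1
    ring

theorem shiftPerm_pow_card : (shiftPerm r κ') ^ r = 1 := by
  ext ⟨s, x⟩ : 1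
  rw [shiftPerm_pow_apply, ZMod.natCast_self, add_zero]
  rfl

/-- the weights of the twisted shift -/
def shiftWeight (r : ℕ) (κ' : Type*) (z : F) : ZMod r × κ' → F :=
  fun k => if k.1 + 1 = 0 then z else 1

theorem prod_shiftWeight (z : F) (s : ZMod r) (x : κ') :
    ∏ i ∈ Finset.range r, shiftWeight r κ' z (((shiftPerm r κ').symm ^ (i + 1)) (s, x)) = z := by
  have h1 : ∀ i : ℕ, shiftWeight r κ' z (((shiftPerm r κ').symm ^ (i + 1)) (s, x)) =
      if (i : ZMod r) = s then z else 1 := by
    intro i
    rw [shiftPerm_symm_pow_apply]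
    unfold shiftWeight
    have : s - ((i + 1 : ℕ) : ZMod r) + 1 = 0 ↔ (i : ZMod r) = s := by
      rw [Nat.cast_succ]
      constructor
      · intro h
        have h2 : s - (i : ZMod r) = 0 := by
          rw [← h]
          ring
        exact (sub_eq_zero.mp h2).symm
      · intro h
        rw [h]
        ring
    simp only [this]
  rw [Finset.prod_congr rfl (fun i _ => h1 i), Finset.prod_eq_single s.val]
  · rw [ZMod.natCast_zmod_val, if_pos rfl]
  · intro i hi his
    rw [if_neg]
    intro h
    apply his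
    rw [← h, ZMod.val_natCast_of_lt (Finset.mem_range.mp hi)]
  · intro h
    exact absurd (Finset.mem_range.mpr (ZMod.val_lt s)) h

end shift

variable {V : Type*} [AddCommGroup V] [Module F V] [Module.Finite F V]

theorem exists_decomp_nonpow {r : ℕ} [NeZero r] (φ : End F V) (hφinj : Function.Injective φ)
    (z : F) (hirr : Irreducible (X ^ r - C z : F[X]))
    (hφ : aeval φ (X ^ r - C z : F[X]) = 0) (a u : ℕ) (hV : finrank F V = a * (r * u)) :
    ∃ D : Fin (r * u) → Submodule F V, (∀ i, finrank F (D i) = a) ∧ iSupIndep D ∧ iSup D = ⊤ ∧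
      ∃ σ : Equiv.Perm (Fin (r * u)), ∀ j, (D j).map φ = D (σ j) := by
  classical
  let π := shiftPerm r (Fin u × Fin a)
  let ω := shiftWeight r (Fin u × Fin a) z
  have hΨr : (wperm π ω) ^ r = z • (1 : End F (ZMod r × (Fin u × Fin a) → F)) :=
    wperm_pow_eq_smul π ω r z shiftPerm_pow_card (fun ⟨s, x⟩ => prod_shiftWeight z s x)
  have hΨ : aeval (wperm π ω) (X ^ r - C z : F[X]) = 0 := by
    rw [map_sub, map_pow, aeval_X, aeval_C, hΨr, Algebra.algebraMap_eq_smul_one, sub_self]
  obtain ⟨g, hg⟩ := SSClass.exists_equiv_of_irreducible _ hirr φ (wperm π ω) hφ hΨ (by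
    rw [hV, Module.finrank_fintype_fun_eq_card, Fintype.card_prod, Fintype.card_prod, ZMod.card,
      Fintype.card_fin, Fintype.card_fin]
    ring)
  let e : ZMod r × Fin u ≃ Fin (r * u) := Fintype.equivFinOfCardEq (by
    rw [Fintype.card_prod, ZMod.card, Fintype.card_fin])
  let col : ZMod r × (Fin u × Fin a) → Fin (r * u) := fun k => e (k.1, k.2.1)
  let σ : Equiv.Perm (Fin (r * u)) :=
    e.symm.trans ((shiftPerm r (Fin u)).trans e)
  have hfib : ∀ j, Fintype.card {k // col k = j} = a := by
    intro j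
    have : {k // col k = j} ≃ Fin a :=
      { toFun := fun k => k.1.2.2
        invFun := fun i => ⟨((e.symm j).1, ((e.symm j).2, i)), by simp [col]⟩
        left_inv := by
          rintro ⟨⟨s, v, i⟩, hk⟩
          have hk' : e (s, v) = j := hk
          apply Subtype.ext
          simp only [← hk', Equiv.symm_apply_apply]
        right_inv := fun i => rfl }
    rw [Fintype.card_congr this, Fintype.card_fin]
  obtain ⟨D, h1, h2, h3, h4⟩ := exists_decomp_of_perm_model φ hφinj π ω g hg (r * u) a col hfib σ (by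
    rintro ⟨s, v, i⟩
    show e (s + 1, v) = e ((shiftPerm r (Fin u)) (e.symm (e (s, v))))
    rw [Equiv.symm_apply_apply]
    rfl)
  exact ⟨D, h1, h2, h3, σ, h4⟩

end Cfsg.Agent.Lib.H24.Elus
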