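import Cfsg.Agent.Lib.H13.DecompBasis

set_option autoImplicit false

/-!
# Weighted permutation operators (helper24)

`wperm π ω` is the endomorphism of `κ → F` with `e_x ↦ ω x • e_{π x}`.

* `wperm_pow_eq_smul`: if `π ^ r = 1` and the product of the weights along every orbit
  segment of length `r` is `z`, then `wperm π ω ^ r = z • 1`.
* `exists_decomp_of_perm_model`: an endomorphism conjugate to `wperm π ω` permutes the
  blocks of a decomposition given by a colouring compatible with `π`.
-/

namespace Cfsg.Agent.Lib.H24.Elus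

open Module
open Cfsg.Agent.Lib.H13

variable {F : Type*} [Field F] {κ : Type*}

/-- the weighted permutation operator `e_x ↦ ω x • e_{π x}` -/
def wperm (π : Equiv.Perm κ) (ω : κ → F) : End F (κ → F) where
  toFun w := fun x => ω (π.symm x) * w (π.symm x)
  map_add' w w' := by
    funext x
    simp only [Pi.add_apply, mul_add]
  map_smul' c w := by
    funext x
    simp only [Pi.smul_apply, smul_eq_mul, RingHom.id_apply]
    ring

theorem wperm_apply (π : Equiv.Perm κ) (ω : κ → F) (w : κ → F) (x : κ) :
    wperm π ω w x = ω (π.symm x) * w (π.symm x) := rfl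

theorem wperm_single [DecidableEq κ] (π : Equiv.Perm κ) (ω : κ → F) (x : κ) :
    wperm π ω (Pi.single x 1) = ω x • Pi.single (π x) 1 := by
  funext y
  rw [wperm_apply, Pi.smul_apply, smul_eq_mul]
  by_cases h : y = π x
  · subst h
    rw [π.symm_apply_apply, Pi.single_eq_same, Pi.single_eq_same]
  · have h' : π.symm y ≠ x := by
      intro h''
      apply h
      rw [← h'', π.apply_symm_apply]
    rw [Pi.single_eq_of_ne h', Pi.single_eq_of_ne h, mul_zero, mul_zero]

theorem wperm_pow_apply (π : Equiv.Perm κ) (ω : κ → F) (k : ℕ) (w : κ → F) (x : κ) :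
    ((wperm π ω) ^ k) w x =
      (∏ i ∈ Finset.range k, ω ((π.symm ^ (i + 1)) x)) * w ((π.symm ^ k) x) := by
  induction k generalizing x with
  | zero => simp
  | succ k ih =>
    rw [pow_succ', Module.End.mul_apply, wperm_apply, ih, Finset.prod_range_succ', ← mul_assoc]
    have h1 : ∀ i : ℕ, (π.symm ^ (i + 1)) x = (π.symm ^ i) (π.symm x) := by
      intro i
      rw [pow_succ (π.symm) i, Equiv.Perm.mul_apply]
    have h2 : ∏ i ∈ Finset.range k, ω ((π.symm ^ (i + 1 + 1)) x) =
        ∏ i ∈ Finset.range k, ω ((π.symm ^ (i + 1)) (π.symm x)) := by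
      apply Finset.prod_congr rfl
      intro i _
      rw [h1 (i + 1)]
    have h3 : ω ((π.symm ^ (0 + 1)) x) = ω (π.symm x) := by
      rw [h1 0]
      rfl
    rw [h1 k, h2, h3, mul_comm (ω (π.symm x))]

theorem wperm_pow_eq_smul (π : Equiv.Perm κ) (ω : κ → F) (r : ℕ) (z : F) (hπ : π ^ r = 1)
    (hω : ∀ x, ∏ i ∈ Finset.range r, ω ((π.symm ^ (i + 1)) x) = z) :
    (wperm π ω) ^ r = z • (1 : End F (κ → F)) := by
  apply LinearMap.ext
  intro w
  funext x
  have h1 : π.symm ^ r = 1 := by
    have : π.symm = π⁻¹ := rfl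
    rw [this, inv_pow, hπ, inv_one]
  rw [wperm_pow_apply, hω, h1]
  rfl

variable {V : Type*} [AddCommGroup V] [Module F V] [Module.Finite F V]

/-- a conjugate of a weighted permutation operator permutes the blocks of a decomposition -/
theorem exists_decomp_of_perm_model [Fintype κ] [DecidableEq κ] (φ : End F V)
    (hφinj : Function.Injective φ) (π : Equiv.Perm κ) (ω : κ → F)
    (g : V ≃ₗ[F] (κ → F)) (hg : ∀ v, g (φ v) = wperm π ω (g v))
    (t a : ℕ) (col : κ → Fin t) (hfib : ∀ j, Fintype.card {k // col k = j} = a)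
    (σ : Equiv.Perm (Fin t)) (hσ : ∀ x, col (π x) = σ (col x)) :
    ∃ D : Fin t → Submodule F V, (∀ i, finrank F (D i) = a) ∧ iSupIndep D ∧ iSup D = ⊤ ∧
      ∀ j, (D j).map φ = D (σ j) := by
  classical
  let b : Basis κ F V := (Pi.basisFun F κ).map g.symm
  have hb : ∀ k, b k = g.symm (Pi.single k 1) := by
    intro k
    simp [b]
  refine ⟨DecompBasis.blk b col, fun i => ?_, DecompBasis.indep_blk b col,
    DecompBasis.iSup_blk b col, ?_⟩
  · rw [DecompBasis.finrank_blk, hfib]
  · apply DecompBasis.map_blk b col φ hφinj σ a hfib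
    intro k
    have h1 : φ (b k) = ω k • b (π k) := by
      rw [hb, hb]
      apply g.injective
      rw [hg, g.apply_symm_apply, map_smul, g.apply_symm_apply, wperm_single]
    rw [h1, ← hσ]
    exact Submodule.smul_mem _ _ (DecompBasis.mem_blk b col (π k))

end Cfsg.Agent.Lib.H24.Elus
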