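import Cfsg.Agent.Lib.H24.ElusSS

set_option autoImplicit false

/-!
# Product models and invariant decompositions with prescribed multiplicities (helper24)

* `piMap ψ`: the product endomorphism of `Π i, W i`; `finrank_ker_aeval_piMap`.
* `exists_decomp_of_mults`: an endomorphism `φ` killed by `∏ f_j` (irreducible, pairwise
  coprime) whose multiplicities are the column sums of a matrix `M : Fin t → J → ℕ` with all
  row dimensions `a` has an invariant decomposition into `t` subspaces of dimension `a`.
-/

namespace Cfsg.Agent.Lib.H24.Elus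

open Polynomial Module
open Cfsg.Agent.Lib.H13

universe u

variable {F : Type u} [Field F]

section pimodel

variable {ι : Type*} {W : ι → Type*} [∀ i, AddCommGroup (W i)] [∀ i, Module F (W i)]

/-- the product of a family of endomorphisms -/
def piMap (ψ : (i : ι) → End F (W i)) : End F ((i : ι) → W i) :=
  LinearMap.pi (fun i => ψ i ∘ₗ LinearMap.proj i)

theorem piMap_apply (ψ : (i : ι) → End F (W i)) (v : (i : ι) → W i) (i : ι) :
    piMap ψ v i = ψ i (v i) := rfl

theorem aeval_piMap_apply (ψ : (i : ι) → End F (W i)) (p : F[X]) (v : (i : ι) → W i) (i : ι) :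
    aeval (piMap ψ) p v i = aeval (ψ i) p (v i) :=
  SSClass.aeval_intertwine (piMap ψ) (ψ i) (LinearMap.proj i) (fun _ => rfl) p v

theorem ker_aeval_piMap (ψ : (i : ι) → End F (W i)) (p : F[X]) :
    LinearMap.ker (aeval (piMap ψ) p) =
      Submodule.pi Set.univ (fun i => LinearMap.ker (aeval (ψ i) p)) := by
  ext v
  rw [LinearMap.mem_ker, Submodule.mem_pi]
  constructor
  · intro h i _
    rw [LinearMap.mem_ker, ← aeval_piMap_apply, h]
    rfl
  · intro h
    funext i
    rw [aeval_piMap_apply]
    exact LinearMap.mem_ker.mp (h i (Set.mem_univ i))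

/-- the full product of submodules as a product type -/
def piSubmoduleEquiv (K : (i : ι) → Submodule F (W i)) :
    ↥(Submodule.pi Set.univ K) ≃ₗ[F] ((i : ι) → K i) where
  toFun v := fun i => ⟨v.1 i, v.2 i (Set.mem_univ i)⟩
  map_add' _ _ := rfl
  map_smul' _ _ := rfl
  invFun w := ⟨fun i => (w i : W i), fun i _ => (w i).2⟩
  left_inv _ := rfl
  right_inv _ := rfl

theorem finrank_ker_aeval_piMap [Fintype ι] [∀ i, Module.Finite F (W i)]
    (ψ : (i : ι) → End F (W i)) (p : F[X]) :
    finrank F (LinearMap.ker (aeval (piMap ψ) p)) =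
      ∑ i, finrank F (LinearMap.ker (aeval (ψ i) p)) := by
  rw [ker_aeval_piMap, (piSubmoduleEquiv _).finrank_eq, Module.finrank_pi_fintype]

theorem aeval_piMap_eq_zero (ψ : (i : ι) → End F (W i)) (p : F[X])
    (h : ∀ i, aeval (ψ i) p = 0) : aeval (piMap ψ) p = 0 := by
  apply LinearMap.ext
  intro v
  funext i
  rw [aeval_piMap_apply, h i]
  rfl

end pimodel

section single

variable {ι : Type*} [Fintype ι] [DecidableEq ι] (W : ι → Type*) [∀ i, AddCommGroup (W i)]
  [∀ i, Module F (W i)]

theorem iSupIndep_range_single :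
    iSupIndep (fun i => LinearMap.range (LinearMap.single F W i)) := by
  rw [iSupIndep_def]
  intro i
  have h := LinearMap.disjoint_single_single F W {i} {j | j ≠ i} (by
    rw [Set.disjoint_left]
    intro j hj hj'
    exact hj' hj)
  have h1 : (⨆ j ∈ ({i} : Set ι), LinearMap.range (LinearMap.single F W j)) =
      LinearMap.range (LinearMap.single F W i) := by
    simp
  rw [h1] at h
  exact h

end single

section dec

variable {V : Type*} [AddCommGroup V] [Module F V] [Module.Finite F V]
variable {J : Type*} [Fintype J] [DecidableEq J]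

/-- an invariant decomposition with prescribed multiplicities -/
theorem exists_decomp_of_mults (f : J → F[X]) (hirr : ∀ j, Irreducible (f j))
    (hcop : ∀ i j, i ≠ j → IsCoprime (f i) (f j)) (φ : End F V)
    (hφ : aeval φ (∏ j, f j) = 0) (t a : ℕ) (M : Fin t → J → ℕ)
    (hrow : ∀ i, ∑ j, M i j * (f j).natDegree = a)
    (hcol : ∀ j, finrank F (LinearMap.ker (aeval φ (f j))) = (∑ i, M i j) * (f j).natDegree) :
    ∃ D : Fin t → Submodule F V, (∀ i, finrank F (D i) = a) ∧ iSupIndep D ∧ iSup D = ⊤ ∧
      ∀ i, ∀ v ∈ D i, φ v ∈ D i := by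
  classical
  have hex : ∀ i : Fin t, ∃ ψ : End F (Fin a → F), aeval ψ (∏ j, f j) = 0 ∧
      ∀ j, finrank F (LinearMap.ker (aeval ψ (f j))) = M i j * (f j).natDegree := by
    intro i
    exact SSClass.exists_end (V := Fin a → F) f hirr hcop (M i) (by
      rw [Module.finrank_fintype_fun_eq_card, Fintype.card_fin, hrow i])
  choose ψ hψ hm using hex
  have hΨ : aeval (piMap ψ) (∏ j, f j) = 0 := aeval_piMap_eq_zero ψ _ hψ
  obtain ⟨g, hg⟩ := SSClass.exists_equiv f hirr hcop φ (piMap ψ) hφ hΨ (by
    intro j
    rw [finrank_ker_aeval_piMap, hcol j, Finset.sum_mul]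
    exact Finset.sum_congr rfl (fun i _ => (hm i j).symm))
  let D' : Fin t → Submodule F (Fin t → Fin a → F) :=
    fun i => LinearMap.range (LinearMap.single F (fun _ : Fin t => Fin a → F) i)
  have hD'ind : iSupIndep D' := iSupIndep_range_single (fun _ : Fin t => Fin a → F)
  have hD'top : iSup D' = ⊤ := LinearMap.iSup_range_single F (fun _ : Fin t => Fin a → F)
  let o : Submodule F (Fin t → Fin a → F) ≃o Submodule F V := Submodule.orderIsoMapComap g.symm
  refine ⟨fun i => (D' i).map (g.symm : (Fin t → Fin a → F) →ₗ[F] V), fun i => ?_, ?_, ?_, ?_⟩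
  · rw [LinearEquiv.finrank_map_eq]
    show finrank F (LinearMap.range (LinearMap.single F (fun _ : Fin t => Fin a → F) i)) = a
    have hinj : Function.Injective (LinearMap.single F (fun _ : Fin t => Fin a → F) i) :=
      LinearMap.ker_eq_bot.mp (LinearMap.ker_single F _ i)
    rw [LinearMap.finrank_range_of_inj hinj, Module.finrank_fintype_fun_eq_card, Fintype.card_fin]
  · exact hD'ind.map_orderIso o
  · have : (⨆ i, o (D' i)) = o (⨆ i, D' i) := (o.map_iSup D').symm
    show (⨆ i, o (D' i)) = ⊤
    rw [this, hD'top, o.map_top]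
  · rintro i _ ⟨w, ⟨u, rfl⟩, rfl⟩
    refine ⟨piMap ψ (LinearMap.single F (fun _ : Fin t => Fin a → F) i u), ⟨ψ i u, ?_⟩, ?_⟩
    · funext i'
      rw [piMap_apply]
      by_cases h : i' = i
      · subst h
        simp
      · simp [h]
    · show g.symm (piMap ψ _) = φ (g.symm _)
      apply g.injective
      rw [hg, g.apply_symm_apply, g.apply_symm_apply]

end dec

end Cfsg.Agent.Lib.H24.Elus
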