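import Cfsg.Agent.Lib.H24.ElusImpPi
import Cfsg.Agent.Lib.H24.ElusImpComb
import Cfsg.Agent.Lib.H13.CycFactor

set_option autoImplicit false

/-!
# Invariant equidimensional decompositions for elements of order `r` (helper24)

`exists_decomp_second`: `φ ^ r = 1`, `c = ord_r q ≤ a`, `(a t) % c = t (a % c)`: there is a
`φ`-invariant decomposition into `t` subspaces of dimension `a`.
-/

namespace Cfsg.Agent.Lib.H24.Elus

open Polynomial Module
open Cfsg.Agent.Lib.H13

variable {F : Type*} [Field F] [Fintype F] [DecidableEq F] {p q : ℕ} [Fact p.Prime] [CharP F p]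
  {V : Type*} [AddCommGroup V] [Module F V] [Module.Finite F V]

theorem exists_decomp_second (hF : Fintype.card F = q) {r : ℕ} (hr : r.Prime) (hrp : r ≠ p)
    (φ : End F V) (hφ : aeval φ (X ^ r - 1 : F[X]) = 0) (a t : ℕ) (hV : finrank F V = a * t)
    (hmod : (a * t) % orderOf (q : ZMod r) = t * (a % orderOf (q : ZMod r))) :
    ∃ D : Fin t → Submodule F V, (∀ i, finrank F (D i) = a) ∧ iSupIndep D ∧ iSup D = ⊤ ∧
      ∀ i, ∀ v ∈ D i, φ v ∈ D i := by
  classical
  set c := orderOf (q : ZMod r) with hc_def
  have hc : 0 < c := CycFactor.orderOf_pos hF hr hrp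
  have hirr := CycFactor.irreducible_fJ (F := F) (r := r)
  have hcop := CycFactor.coprime_fJ (F := F) hr hrp
  have hφ' : aeval φ (∏ j, CycFactor.fJ (F := F) r j) = 0 := by
    rw [CycFactor.prod_fJ hr hrp]; exact hφ
  have hdvd := dvd_finrank_ker (CycFactor.fJ (F := F) r) hirr φ
  have hsum := finrank_eq_sum_ker (CycFactor.fJ (F := F) r) hcop φ hφ'
  have hts : ∀ s : CycFactor.S r F, ∃ m, finrank F (LinearMap.ker (aeval φ
      (CycFactor.fJ (F := F) r (some s)))) = c * m := by
    intro s
    have := hdvd (some s)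
    rwa [CycFactor.natDegree_fJ_some hF hr hrp] at this
  choose m hm using hts
  set a₁ := finrank F (LinearMap.ker (aeval φ (CycFactor.fJ (F := F) r none))) with ha₁
  have hn : a * t = a₁ + c * ∑ s, m s := by
    rw [← hV, hsum, Fintype.sum_option, Finset.mul_sum]
    congr 1
    exact Finset.sum_congr rfl (fun s _ => hm s)
  obtain ⟨e, he1, he2⟩ := second_arith c a t a₁ (∑ s, m s) hc hn hmod
  obtain ⟨ε, hε, hεsum⟩ := exists_distrib (fun _ : Fin t => a / c) e (by
    rw [Finset.sum_const, Finset.card_univ, Fintype.card_fin, smul_eq_mul]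
    omega)
  have hsub := sum_sub_of_le (a / c) ε hε
  rw [Fintype.card_fin] at hsub
  obtain ⟨M', hM'1, hM'2⟩ := exists_transport t (fun i => a / c - ε i) m (by omega)
  have hac := Nat.div_add_mod a c
  refine exists_decomp_of_mults (CycFactor.fJ (F := F) r) hirr hcop φ hφ' t a
    (fun i j => j.elim (a % c + c * ε i) (fun s => M' i s)) ?_ ?_
  · intro i
    rw [Fintype.sum_option]
    simp only [Option.elim_none, Option.elim_some]
    rw [CycFactor.natDegree_fJ_none, mul_one]
    have h1 : ∑ s : CycFactor.S r F, M' i s * (CycFactor.fJ (F := F) r (some s)).natDegree =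
        c * (a / c - ε i) := by
      rw [← hM'1 i, Finset.mul_sum]
      apply Finset.sum_congr rfl
      intro s _
      rw [CycFactor.natDegree_fJ_some hF hr hrp, mul_comm]
    rw [h1, Nat.mul_sub]
    have h2 : c * ε i ≤ c * (a / c) := Nat.mul_le_mul_left c (hε i)
    omega
  · intro j
    cases j with
    | none =>
      rw [CycFactor.natDegree_fJ_none, mul_one]
      simp only [Option.elim_none]
      rw [Finset.sum_add_distrib, Finset.sum_const, Finset.card_univ, Fintype.card_fin,
        smul_eq_mul, ← Finset.mul_sum, hεsum]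
      exact he1
    | some s =>
      simp only [Option.elim_some]
      rw [hm s, hM'2 s, CycFactor.natDegree_fJ_some hF hr hrp, mul_comm]

end Cfsg.Agent.Lib.H24.Elus
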