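import Cfsg.Agent.Lib.H24.ElusLn

set_option autoImplicit false

/-!
# PSL_n(q): prime order elements and `m`-spaces (S5949) (helper24)
-/

namespace Cfsg.Agent.Lib.H24.Elus

open Polynomial Module Matrix
open Cfsg.Agent.Lib.H13

variable {F : Type*} [Field F] [Fintype F] {p q : ℕ} [Fact p.Prime] [CharP F p]

/-- the right-hand side condition shared by S5949 / S5950 / S5951 in the case `i = 1` -/
def CondOne (q n m r : ℕ) : Prop :=
  orderOf (q : ZMod r) = 1 ∧
    (r ∣ m ∨ (padicValNat r n ≤ padicValNat r (q - 1) ∧ (r = 2 → Even n → q % 4 = 1)))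

/-- non-`r`-th-power scalars force `r ∣ m` under `CondOne` -/
theorem dvd_of_condOne (hq : Fintype.card F = q) (n m : ℕ) (hn : 0 < n) (r : ℕ) [Fact r.Prime]
    (hcond : CondOne q n m r ∨ 2 ≤ orderOf (q : ZMod r))
    (x : Matrix.SpecialLinearGroup (Fin n) F) (c : F)
    (hx : (x : Matrix (Fin n) (Fin n) F) ^ r = c • 1) (hnp : ∀ d : F, d ^ r ≠ c) : r ∣ m := by
  have hr : r.Prime := Fact.out
  have hq2 := two_le_card (F := F) hq
  have hc := ne_zero_of_pow_smul hn (x : Matrix (Fin n) (Fin n) F) x.2 r c hx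
  have hi1 : orderOf (q : ZMod r) = 1 := by
    by_contra hne
    have hcop := coprime_of_order_ne_one q r (by omega) hne
    rw [← hq] at hcop
    obtain ⟨d, -, hd⟩ := exists_pow_eq_of_coprime r hcop c hc
    exact hnp d hd
  rcases hcond with ⟨-, h | ⟨h1, h2⟩⟩ | h
  · exact h
  · exact (false_of_det_one hq r n hn (x : Matrix (Fin n) (Fin n) F) x.2 c hx hnp h1 h2).elim
  · omega

/-- under the (⇐) hypotheses every element of order `r` fixes a decomposition `U ⊕ W`,
`dim U = m` -/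
theorem exists_decomp_of_cond (hq : Fintype.card F = q) (n m : ℕ) (hn : 0 < n) (hmn : m ≤ n)
    (r : ℕ) [Fact r.Prime] (hrp : r ≠ p)
    (hcond : CondOne q n m r ∨ (2 ≤ orderOf (q : ZMod r) ∧
      m % orderOf (q : ZMod r) ≤ n % orderOf (q : ZMod r)))
    (x : Matrix.SpecialLinearGroup (Fin n) F) (c : F)
    (hx : (x : Matrix (Fin n) (Fin n) F) ^ r = c • 1) :
    ∃ U W : Submodule F (Fin n → F), IsCompl U W ∧ finrank F U = m ∧
      U.map (Matrix.toLin' (x : Matrix (Fin n) (Fin n) F)) ≤ U ∧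
      W.map (Matrix.toLin' (x : Matrix (Fin n) (Fin n) F)) ≤ W := by
  classical
  have hr : r.Prime := Fact.out
  have hc := ne_zero_of_pow_smul hn (x : Matrix (Fin n) (Fin n) F) x.2 r c hx
  have hfin : finrank F (Fin n → F) = n := by
    rw [Module.finrank_fintype_fun_eq_card, Fintype.card_fin]
  obtain ⟨U, W, hU, hW, hcompl, hUfin⟩ := exists_compl_of_pow_smul hq hr hrp
    (Matrix.toLin' (x : Matrix (Fin n) (Fin n) F)) c hc (PGLPrime.aeval_pow_sub _ c hx) m
    (by rw [hfin]; exact hmn)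
    (fun _ => by
      rw [hfin]
      rcases hcond with ⟨h1, -⟩ | ⟨-, h2⟩
      · rw [h1, Nat.mod_one, Nat.mod_one]
      · exact h2)
    (fun hnp => dvd_of_condOne hq n m hn r
      (hcond.imp id (fun h => h.1)) x c hx hnp)
  exact ⟨U, W, hcompl, hUfin, (invariant_iff _ U).mpr hU, (invariant_iff _ W).mpr hW⟩

/-- (⇒), case `i = 1` -/
theorem condOne_of_fix (hq : Fintype.card F = q) (n m : ℕ) (hn : 0 < n) (r : ℕ) [Fact r.Prime]
    (hi : orderOf (q : ZMod r) = 1)
    (hL : ∀ x : Matrix.SpecialLinearGroup (Fin n) F,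
      (∃ c : F, ((x ^ r : Matrix.SpecialLinearGroup (Fin n) F) : Matrix (Fin n) (Fin n) F) =
        c • (1 : Matrix (Fin n) (Fin n) F)) →
      (∀ c : F, (x : Matrix (Fin n) (Fin n) F) ≠ c • (1 : Matrix (Fin n) (Fin n) F)) →
      ∃ W : Submodule F (Fin n → F), finrank F ↥W = m ∧
        W.map (Matrix.toLin' (x : Matrix (Fin n) (Fin n) F)) ≤ W) :
    CondOne q n m r := by
  have hr : r.Prime := Fact.out
  have hq2 := two_le_card (F := F) hq
  refine ⟨hi, ?_⟩
  by_contra hcon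
  have hcon1 : ¬ r ∣ m := fun h => hcon (Or.inl h)
  have hcon2 : ¬ (padicValNat r n ≤ padicValNat r (q - 1) ∧ (r = 2 → Even n → q % 4 = 1)) :=
    fun h => hcon (Or.inr h)
  have hrq : r ∣ q - 1 := (order_eq_one_iff q r (by omega)).mp hi
  obtain ⟨x, z, hxz, hnp⟩ := exists_sl_irred hq r hrq n hn hcon2
  have hirr : Irreducible (X ^ r - C z : F[X]) := X_pow_sub_C_irreducible_of_prime hr hnp
  obtain ⟨W, hWfin, hWinv⟩ := hL x ⟨z, by rw [Matrix.SpecialLinearGroup.coe_pow]; exact hxz⟩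
    (by
      intro c hc
      apply hnp c
      have hn1 : 1 ≤ n := hn
      exact PGLPrime.pow_eq_of_smul_one hn1 hr.pos c z (by rw [← hc]; exact hxz))
  rw [invariant_iff] at hWinv
  have h1 := SSClass.natDegree_dvd_finrank (X ^ r - C z : F[X]) hirr
    ((Matrix.toLin' (x : Matrix (Fin n) (Fin n) F)).restrict hWinv)
    (aeval_restrict_eq_zero_of _ W hWinv _ (PGLPrime.aeval_pow_sub _ z hxz))
  rw [natDegree_X_pow_sub_C, hWfin] at h1
  exact hcon1 h1

/-- (⇒), case `i ≥ 2`: the residues of the fixed subspaces of the test element -/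
theorem mod_le_of_fix (hq : Fintype.card F = q) (n : ℕ) (r : ℕ) [Fact r.Prime] (hrp : r ≠ p)
    (hi2 : 2 ≤ orderOf (q : ZMod r)) (hin : orderOf (q : ZMod r) ≤ n) :
    ∃ x : Matrix.SpecialLinearGroup (Fin n) F,
      (∃ c : F, ((x ^ r : Matrix.SpecialLinearGroup (Fin n) F) : Matrix (Fin n) (Fin n) F) =
        c • (1 : Matrix (Fin n) (Fin n) F)) ∧
      (∀ c : F, (x : Matrix (Fin n) (Fin n) F) ≠ c • (1 : Matrix (Fin n) (Fin n) F)) ∧
      (∀ W : Submodule F (Fin n → F),
        W.map (Matrix.toLin' (x : Matrix (Fin n) (Fin n) F)) ≤ W →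
        finrank F W % orderOf (q : ZMod r) ≤ n % orderOf (q : ZMod r)) ∧
      (∀ U W : Submodule F (Fin n → F), U ≤ W →
        U.map (Matrix.toLin' (x : Matrix (Fin n) (Fin n) F)) ≤ U →
        W.map (Matrix.toLin' (x : Matrix (Fin n) (Fin n) F)) ≤ W →
        finrank F U % orderOf (q : ZMod r) ≤ finrank F W % orderOf (q : ZMod r)) := by
  classical
  have hr : r.Prime := Fact.out
  obtain ⟨x, hx, hns, hfix⟩ := exists_sl_cyc hq r hrp hi2 n hin
  set i := orderOf (q : ZMod r) with hi_def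
  have hipos : 0 < i := by omega
  have hφ : aeval (Matrix.toLin' (x : Matrix (Fin n) (Fin n) F)) (X ^ r - 1 : F[X]) = 0 :=
    GLPrime.aeval_of_pow _ hx
  -- the fixed part of an invariant subspace
  have key : ∀ W : Submodule F (Fin n → F),
      W.map (Matrix.toLin' (x : Matrix (Fin n) (Fin n) F)) ≤ W →
      finrank F W % i = finrank F ↥(W ⊓ LinearMap.ker
        (aeval (Matrix.toLin' (x : Matrix (Fin n) (Fin n) F)) (X - 1 : F[X]))) := by
    intro W hW
    rw [invariant_iff] at hW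
    have h1 := mod_of_invariant hq hr hrp _ hφ W hW
    rw [h1]
    apply Nat.mod_eq_of_lt
    have h2 : finrank F ↥(W ⊓ LinearMap.ker
        (aeval (Matrix.toLin' (x : Matrix (Fin n) (Fin n) F)) (X - 1 : F[X]))) ≤ n % i := by
      rw [← hfix]
      exact Submodule.finrank_mono inf_le_right
    have := Nat.mod_lt n hipos
    omega
  refine ⟨x, ⟨1, by rw [Matrix.SpecialLinearGroup.coe_pow, hx, one_smul]⟩, hns, ?_, ?_⟩
  · intro W hW
    rw [key W hW, ← hfix]
    exact Submodule.finrank_mono inf_le_right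
  · intro U W hUW hU hW
    rw [key U hU, key W hW]
    exact Submodule.finrank_mono (inf_le_inf_right _ hUW)

/-- **S5949** -/
theorem ln_subspaces_iff (hq : Fintype.card F = q) (n m : ℕ) (hn : 2 ≤ n) (hm : 1 ≤ m)
    (hmn : 2 * m ≤ n) (r : ℕ) [Fact r.Prime]
    (hrΩ : r ∣ Nat.card {W : Submodule F (Fin n → F) // Module.finrank F ↥W = m}) :
    (∀ x : Matrix.SpecialLinearGroup (Fin n) F,
      (∃ c : F, ((x ^ r : Matrix.SpecialLinearGroup (Fin n) F) : Matrix (Fin n) (Fin n) F) =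
        c • (1 : Matrix (Fin n) (Fin n) F)) →
      (∀ c : F, (x : Matrix (Fin n) (Fin n) F) ≠ c • (1 : Matrix (Fin n) (Fin n) F)) →
      ∃ W : Submodule F (Fin n → F), Module.finrank F ↥W = m ∧
        W.map (Matrix.toLin' (x : Matrix (Fin n) (Fin n) F)) ≤ W) ↔
    (r ≠ p ∧
      ((orderOf (q : ZMod r) = 1 ∧ (r ∣ m ∨ (padicValNat r n ≤ padicValNat r (q - 1) ∧
        (r = 2 → Even n → q % 4 = 1)))) ∨
       (2 ≤ orderOf (q : ZMod r) ∧ orderOf (q : ZMod r) ≤ m ∧
        m % orderOf (q : ZMod r) ≤ n % orderOf (q : ZMod r)))) := by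
  classical
  have hr : r.Prime := Fact.out
  have hfin : finrank F (Fin n → F) = n := by
    rw [Module.finrank_fintype_fun_eq_card, Fintype.card_fin]
  obtain ⟨k, hk1, hk2, hk3⟩ := exists_of_dvd_card_subspaces (F := F) (V := Fin n → F) m
    (by rw [hfin]; omega) r hr hrΩ
  rw [hfin] at hk1 hk2
  rw [hq] at hk3
  obtain ⟨hrp, hik⟩ := order_dvd_of_dvd_pow_sub_one (F := F) hq r k (by omega) hk3
  have hipos : 0 < orderOf (q : ZMod r) := CycFactor.orderOf_pos hq hr hrp
  have hin : orderOf (q : ZMod r) ≤ n := le_trans (Nat.le_of_dvd (by omega) hik) hk2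
  constructor
  · intro hL
    refine ⟨hrp, ?_⟩
    rcases Nat.lt_or_ge (orderOf (q : ZMod r)) 2 with hi | hi
    · left
      exact condOne_of_fix hq n m (by omega) r (by omega) hL
    · right
      obtain ⟨x, hx1, hx2, hx3, -⟩ := mod_le_of_fix hq n r hrp hi hin
      obtain ⟨W, hWfin, hWinv⟩ := hL x hx1 hx2
      have hmod := hx3 W hWinv
      rw [hWfin] at hmod
      refine ⟨hi, ?_, hmod⟩
      -- `i ≤ m` from the divisibility hypothesis
      by_contra hlt
      push_neg at hlt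
      rw [Nat.mod_eq_of_lt hlt] at hmod
      obtain ⟨s, hs⟩ := hik
      have h1 := Nat.div_add_mod n (orderOf (q : ZMod r))
      have h2 : s ≤ n / orderOf (q : ZMod r) := by
        rw [Nat.le_div_iff_mul_le hipos, mul_comm, ← hs]
        exact hk2
      have h3 : orderOf (q : ZMod r) * s ≤ orderOf (q : ZMod r) * (n / orderOf (q : ZMod r)) :=
        Nat.mul_le_mul_left _ h2
      omega
  · rintro ⟨-, hR⟩ x ⟨c, hc⟩ -
    rw [Matrix.SpecialLinearGroup.coe_pow] at hc
    obtain ⟨U, W, -, hUfin, hU, -⟩ := exists_decomp_of_cond hq n m (by omega) (by omega) r hrp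
      (hR.imp id (fun h => ⟨h.1, h.2.2⟩)) x c hc
    exact ⟨U, hUfin, hU⟩

end Cfsg.Agent.Lib.H24.Elus
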