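import Cfsg.Agent.Lib.H13.JordanBasis

set_option autoImplicit false

/-!
# Invariant decompositions of nilpotent endomorphisms from sub-multisets of the Jordan type
(helper24)
-/

namespace Cfsg.Agent.Lib.H24.Elus

open Module
open Cfsg.Agent.Lib.H13

universe u v

variable {F : Type u} [Field F] {V : Type v} [AddCommGroup V] [Module F V]

/-- lift a sub-multiset of an image multiset -/
theorem exists_le_map_eq {ι : Type*} (k : ι → ℕ) (s : Multiset ι) :
    ∀ ν : Multiset ℕ, ν ≤ s.map k → ∃ t ≤ s, t.map k = ν := by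
  induction s using Multiset.induction_on with
  | empty =>
    intro ν hν
    rw [Multiset.map_zero, Multiset.le_zero] at hν
    exact ⟨0, le_rfl, by rw [hν, Multiset.map_zero]⟩
  | cons a s ih =>
    intro ν hν
    rw [Multiset.map_cons] at hν
    by_cases h : k a ∈ ν
    · have h1 : ν.erase (k a) ≤ s.map k := Multiset.erase_le_iff_le_cons.mpr hν
      obtain ⟨t, ht, htν⟩ := ih _ h1
      refine ⟨a ::ₘ t, Multiset.cons_le_cons a ht, ?_⟩
      rw [Multiset.map_cons, htν, Multiset.cons_erase h]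
    · have h1 : ν ≤ s.map k := (Multiset.le_cons_of_notMem h).mp hν
      obtain ⟨t, ht, htν⟩ := ih _ h1
      exact ⟨t, le_trans ht (Multiset.le_cons_self s a), htν⟩

/-- complementary invariant subspaces spanned by the Jordan chains in `T` and outside `T` -/
theorem exists_compl_of_isJB {ι : Type*} [Fintype ι] [DecidableEq ι] (N : End F V) (k : ι → ℕ)
    (b : Basis (Σ i, Fin (k i)) F V) (hb : JordanBasis.IsJB N k b) (T : Finset ι) :
    ∃ U W : Submodule F V, IsCompl U W ∧ finrank F U = ∑ i ∈ T, k i ∧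
      (∀ v ∈ U, N v ∈ U) ∧ (∀ v ∈ W, N v ∈ W) := by
  classical
  set S : Set (Σ i, Fin (k i)) := {x | x.1 ∈ T} with hS
  have hinv : ∀ S' : Set (Σ i, Fin (k i)), (∀ x ∈ S', ∀ t : Fin (k x.1), (⟨x.1, t⟩ : Σ i, Fin (k i)) ∈ S') →
      ∀ v ∈ Submodule.span F (b '' S'), N v ∈ Submodule.span F (b '' S') := by
    intro S' hS' v hv
    have h1 : (Submodule.span F (b '' S')).map N ≤ Submodule.span F (b '' S') := by
      rw [Submodule.map_span_le]
      rintro _ ⟨x, hx, rfl⟩
      obtain ⟨i, t⟩ := x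
      rw [hb i t]
      split_ifs with h
      · exact Submodule.subset_span ⟨_, hS' ⟨i, t⟩ hx ⟨t.val + 1, h⟩, rfl⟩
      · exact Submodule.zero_mem _
    exact h1 (Submodule.mem_map_of_mem hv)
  refine ⟨Submodule.span F (b '' S), Submodule.span F (b '' Sᶜ), ?_, ?_, ?_, ?_⟩
  · exact b.linearIndependent.isCompl_span_image b.span_eq isCompl_compl
  · have h1 : b '' S = Set.range (fun x : S => b x.1) := by
      ext v
      constructor
      · rintro ⟨x, hx, rfl⟩
        exact ⟨⟨x, hx⟩, rfl⟩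
      · rintro ⟨x, rfl⟩
        exact ⟨x.1, x.2, rfl⟩
    have hli : LinearIndependent F (fun x : S => b x.1) :=
      b.linearIndependent.comp Subtype.val Subtype.val_injective
    rw [h1, finrank_span_eq_card hli]
    -- count the index set
    let e : S ≃ Σ i : T, Fin (k i.1) :=
      { toFun := fun x => ⟨⟨x.1.1, x.2⟩, x.1.2⟩
        invFun := fun y => ⟨⟨y.1.1, y.2⟩, y.1.2⟩
        left_inv := fun x => rfl
        right_inv := fun y => rfl }
    rw [Fintype.card_congr e, Fintype.card_sigma]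
    simp only [Fintype.card_fin]
    exact Finset.sum_coe_sort T k
  · exact hinv S (fun x hx t => hx)
  · exact hinv Sᶜ (fun x hx t => hx)

/-- a nilpotent endomorphism with `N ^ p = 0` fixes a decomposition of type `(m, n - m)` as soon as
every partition of `n` with parts at most `p` contains a partition of `m` -/
theorem exists_compl_of_nilpotent [Module.Finite F V] (N : End F V) (p : ℕ) (hN : N ^ p = 0)
    (m : ℕ)
    (hMC : ∀ μ : Multiset ℕ, (∀ a ∈ μ, 0 < a ∧ a ≤ p) → μ.sum = finrank F V →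
      ∃ ν : Multiset ℕ, ν ≤ μ ∧ ν.sum = m) :
    ∃ U W : Submodule F V, IsCompl U W ∧ finrank F U = m ∧
      (∀ v ∈ U, N v ∈ U) ∧ (∀ v ∈ W, N v ∈ W) := by
  classical
  obtain ⟨ι, _, k, b, hb, hpos⟩ := JordanBasis.exists_isJB_pos N ⟨p, hN⟩
  have hle : ∀ i, k i ≤ p := (JordanBasis.pow_eq_zero_iff hb p).mp hN
  have hsum : (Finset.univ.val.map k).sum = finrank F V := by
    rw [Module.finrank_eq_card_basis b, Fintype.card_sigma]
    simp only [Fintype.card_fin]
    rfl
  obtain ⟨ν, hν, hνsum⟩ := hMC (Finset.univ.val.map k) (by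
    intro a ha
    rw [Multiset.mem_map] at ha
    obtain ⟨i, -, rfl⟩ := ha
    exact ⟨hpos i, hle i⟩) hsum
  obtain ⟨t, ht, htν⟩ := exists_le_map_eq k Finset.univ.val ν hν
  have hnd : t.Nodup := Multiset.nodup_of_le ht Finset.univ.nodup
  obtain ⟨U, W, hc, hfin, hU, hW⟩ := exists_compl_of_isJB N k b hb ⟨t, hnd⟩
  refine ⟨U, W, hc, ?_, hU, hW⟩
  rw [hfin, ← hνsum, ← htν]
  rfl

end Cfsg.Agent.Lib.H24.Elus
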