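import Cfsg.Agent.Lib.H24.ElusMainA
import Cfsg.Agent.Lib.H24.ElusCompl
import Cfsg.Agent.Lib.H24.ElusUnip
import Cfsg.Agent.Lib.H11.Jordan9

set_option autoImplicit false

/-!
# PSL_n(q): prime order elements and decompositions `U ⊕ W` (S5950) (helper24)
-/

namespace Cfsg.Agent.Lib.H24.Elus

open Polynomial Module Matrix
open Cfsg.Agent.Lib.H13

variable {F : Type*} [Field F] [Fintype F] {p q : ℕ} [Fact p.Prime] [CharP F p]

omit [Fintype F] in
theorem end_sub_one_pow_char {V : Type*} [AddCommGroup V] [Module F V] (φ : End F V) :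
    (φ - 1) ^ p = φ ^ p - 1 := by
  have h : ((X : F[X]) - 1) ^ p = X ^ p - 1 := by
    rw [sub_pow_char, one_pow]
  have := congrArg (aeval φ) h
  rwa [map_pow, map_sub, map_sub, map_pow, aeval_X, map_one] at this

omit [Fintype F] in
theorem eq_one_of_pow_char' {x : F} (h : x ^ p = 1) : x = 1 := by
  have h1 : (x - 1) ^ p = 0 := by rw [sub_pow_char, one_pow, h, sub_self]
  exact sub_eq_zero.mp (pow_eq_zero_iff (Fact.out : p.Prime).ne_zero |>.mp h1)

theorem coprime_card_sub_one (hq : Fintype.card F = q) : Nat.Coprime (Fintype.card F - 1) p := by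
  have hp : p.Prime := Fact.out
  have hq2 := two_le_card (F := F) hq
  rw [Nat.coprime_comm, Nat.Prime.coprime_iff_not_dvd hp, hq]
  intro h
  have h1 := p_dvd_card (F := F) hq
  have h2 : p ∣ 1 := by
    have := Nat.dvd_sub h1 h
    rwa [Nat.sub_sub_self (by omega)] at this
  exact hp.one_lt.ne' (Nat.dvd_one.mp h2)

/-- the case `r = p`: elements of order `p` fix a decomposition iff the partition condition -/
theorem unip_fix_iff (hq : Fintype.card F = q) (n m : ℕ) (hn : 1 ≤ n) (hmn : m ≤ n) :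
    (∀ x : Matrix.SpecialLinearGroup (Fin n) F,
      (∃ c : F, ((x ^ p : Matrix.SpecialLinearGroup (Fin n) F) : Matrix (Fin n) (Fin n) F) =
        c • (1 : Matrix (Fin n) (Fin n) F)) →
      (∀ c : F, (x : Matrix (Fin n) (Fin n) F) ≠ c • (1 : Matrix (Fin n) (Fin n) F)) →
      ∃ U W : Submodule F (Fin n → F), IsCompl U W ∧ Module.finrank F ↥U = m ∧
        U.map (Matrix.toLin' (x : Matrix (Fin n) (Fin n) F)) ≤ U ∧
        W.map (Matrix.toLin' (x : Matrix (Fin n) (Fin n) F)) ≤ W) ↔
    (∀ μ : Multiset ℕ, (∀ a ∈ μ, 0 < a ∧ a ≤ p) → μ.sum = n →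
      ∃ ν : Multiset ℕ, ν ≤ μ ∧ ν.sum = m) := by
  classical
  have hp : p.Prime := Fact.out
  have hfin : finrank F (Fin n → F) = n := by
    rw [Module.finrank_fintype_fun_eq_card, Fintype.card_fin]
  constructor
  · intro hL μ hμ hsum
    by_cases hall : ∀ b ∈ μ, b = 1
    · have h1 : μ = Multiset.replicate (Multiset.card μ) 1 :=
        Multiset.eq_replicate.mpr ⟨rfl, hall⟩
      have h2 : Multiset.card μ = n := by
        rw [h1, Multiset.sum_replicate, smul_eq_mul, mul_one] at hsum
        exact hsum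
      refine ⟨Multiset.replicate m 1, ?_, ?_⟩
      · rw [h1, h2]
        exact Multiset.replicate_le_replicate 1 |>.mpr hmn
      · rw [Multiset.sum_replicate, smul_eq_mul, mul_one]
    · obtain ⟨u, hu⟩ := Cfsg.Agent.Lib.H11.Jordan.exists_of_multiset (K := F) μ
        (fun b hb => (hμ b hb).1) hsum
      have hup0 : (u - 1) ^ p = 0 := (hu.pow_eq_zero_iff p).mpr (fun b hb => (hμ b hb).2)
      have hup : u ^ p = 1 := by
        have := Cfsg.Agent.Lib.H11.Jordan.sub_one_pow_char (K := F) p u
        rw [hup0] at this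
        exact (sub_eq_zero.mp this.symm)
      have hdet : u.det = 1 := by
        apply eq_one_of_pow_char' (p := p)
        rw [← Matrix.det_pow, hup, Matrix.det_one]
      have hu1 : u ≠ 1 := fun h1 => hall (hu.eq_one_iff.mp h1)
      let x : Matrix.SpecialLinearGroup (Fin n) F := ⟨u, hdet⟩
      obtain ⟨U, W, hc, hUfin, hU, hW⟩ := hL x
        ⟨1, by rw [Matrix.SpecialLinearGroup.coe_pow, one_smul]; exact hup⟩ (by
          intro z hz
          change u = z • (1 : Matrix (Fin n) (Fin n) F) at hz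
          have h3 : z ^ p = 1 := by
            apply PGLPrime.pow_eq_of_smul_one hn hp.pos z 1
            rw [← hz, hup, one_smul]
          rw [eq_one_of_pow_char' h3, one_smul] at hz
          exact hu1 hz)
      change U.map (Matrix.toLin' u) ≤ U at hU
      change W.map (Matrix.toLin' u) ≤ W at hW
      rw [invariant_iff] at hU hW
      obtain ⟨ν, hν1, hν2⟩ := hu.exists_le_of_invariant_compl U W hc hU hW
      exact ⟨ν, hν1, by rw [hν2, hUfin]⟩
  · intro hMC x ⟨c, hc⟩ _
    rw [Matrix.SpecialLinearGroup.coe_pow] at hc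
    have hc0 := ne_zero_of_pow_smul hn (x : Matrix (Fin n) (Fin n) F) x.2 p c hc
    obtain ⟨d, hd0, hd⟩ := exists_pow_eq_of_coprime p (coprime_card_sub_one hq) c hc0
    set φ := Matrix.toLin' (x : Matrix (Fin n) (Fin n) F) with hφ
    have h1 : aeval (d⁻¹ • φ) (X ^ p - 1 : F[X]) = 0 :=
      aeval_smul_pow_sub_one p φ c d hd0 hd (PGLPrime.aeval_pow_sub _ c hc)
    have h2 : (d⁻¹ • φ) ^ p = 1 := by
      rw [map_sub, map_pow, aeval_X, map_one, sub_eq_zero] at h1
      exact h1
    have hN : (d⁻¹ • φ - 1) ^ p = 0 := by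
      rw [end_sub_one_pow_char, h2, sub_self]
    obtain ⟨U, W, hcompl, hUfin, hU, hW⟩ := exists_compl_of_nilpotent (d⁻¹ • φ - 1) p hN m (by
      rw [hfin]; exact hMC)
    have key : ∀ S : Submodule F (Fin n → F), (∀ v ∈ S, (d⁻¹ • φ - 1) v ∈ S) →
        ∀ v ∈ S, φ v ∈ S := by
      intro S hS v hv
      have h3 := S.smul_mem d (S.add_mem (hS v hv) hv)
      rw [LinearMap.sub_apply, Module.End.one_apply, sub_add_cancel, LinearMap.smul_apply,
        smul_smul, mul_inv_cancel₀ hd0, one_smul] at h3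
      exact h3
    exact ⟨U, W, hcompl, hUfin, (invariant_iff _ U).mpr (key U hU),
      (invariant_iff _ W).mpr (key W hW)⟩

/-- the partition condition for `p = 2` -/
theorem mc_two_iff (n m : ℕ) (hmn : m ≤ n) :
    (∀ μ : Multiset ℕ, (∀ a ∈ μ, 0 < a ∧ a ≤ 2) → μ.sum = n →
      ∃ ν : Multiset ℕ, ν ≤ μ ∧ ν.sum = m) ↔ (Odd n ∨ Even m) := by
  constructor
  · intro h
    by_contra hcon
    push_neg at hcon
    obtain ⟨hn, hm⟩ := hcon
    rw [Nat.not_odd_iff_even] at hn
    obtain ⟨k, hk⟩ := hn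
    obtain ⟨ν, hν, hνsum⟩ := h (Multiset.replicate k 2) (by
      intro a ha
      rw [Multiset.eq_of_mem_replicate ha]
      omega) (by rw [Multiset.sum_replicate, smul_eq_mul]; omega)
    obtain ⟨j, -, rfl⟩ := Multiset.le_replicate_iff.mp hν
    rw [Multiset.sum_replicate, smul_eq_mul] at hνsum
    exact hm ⟨j, by omega⟩
  · intro h μ hμ hsum
    set a := Multiset.count 2 μ with ha
    set b := Multiset.count 1 μ with hb
    have hμeq : μ = Multiset.replicate a 2 + Multiset.replicate b 1 := by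
      ext x
      rw [Multiset.count_add, Multiset.count_replicate, Multiset.count_replicate]
      by_cases h2 : x = 2
      · subst h2
        simp [ha]
      · by_cases h1 : x = 1
        · subst h1
          simp [hb]
        · rw [if_neg (Ne.symm h2), if_neg (Ne.symm h1)]
          apply Multiset.count_eq_zero_of_notMem
          intro hx
          have := hμ x hx
          omega
    have hn : n = b + 2 * a := by
      rw [← hsum, hμeq, Multiset.sum_add, Multiset.sum_replicate, Multiset.sum_replicate,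
        smul_eq_mul, smul_eq_mul]
      ring
    obtain ⟨a', b', ha', hb', hab⟩ := exists_parts n m b 2 a (by norm_num) hn hmn (by
      rcases h with h | h
      · rw [Nat.odd_iff] at h
        have := Nat.mod_lt m (by norm_num : 0 < 2)
        omega
      · rw [Nat.even_iff] at h
        omega)
    refine ⟨Multiset.replicate b' 2 + Multiset.replicate a' 1, ?_, ?_⟩
    · rw [hμeq]
      exact add_le_add ((Multiset.replicate_le_replicate 2).mpr hb')
        ((Multiset.replicate_le_replicate 1).mpr ha')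
    · rw [Multiset.sum_add, Multiset.sum_replicate, Multiset.sum_replicate, smul_eq_mul,
        smul_eq_mul]
      omega

/-- **S5950** -/
theorem ln_decomp_iff (hq : Fintype.card F = q) (n m : ℕ) (hn : 3 ≤ n) (hm : 1 ≤ m)
    (hmn : 2 * m < n) (r : ℕ) [Fact r.Prime]
    (hrΩ : r ∣ Nat.card {P : Submodule F (Fin n → F) × Submodule F (Fin n → F) //
      IsCompl P.1 P.2 ∧ Module.finrank F ↥P.1 = m}) :
    (∀ x : Matrix.SpecialLinearGroup (Fin n) F,
      (∃ c : F, ((x ^ r : Matrix.SpecialLinearGroup (Fin n) F) : Matrix (Fin n) (Fin n) F) =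
        c • (1 : Matrix (Fin n) (Fin n) F)) →
      (∀ c : F, (x : Matrix (Fin n) (Fin n) F) ≠ c • (1 : Matrix (Fin n) (Fin n) F)) →
      ∃ U W : Submodule F (Fin n → F), IsCompl U W ∧ Module.finrank F ↥U = m ∧
        U.map (Matrix.toLin' (x : Matrix (Fin n) (Fin n) F)) ≤ U ∧
        W.map (Matrix.toLin' (x : Matrix (Fin n) (Fin n) F)) ≤ W) ↔
    ((r = p ∧ 2 < p ∧ (∀ μ : Multiset ℕ, (∀ a ∈ μ, 0 < a ∧ a ≤ p) → μ.sum = n →
        ∃ ν : Multiset ℕ, ν ≤ μ ∧ ν.sum = m)) ∨
     (r = p ∧ p = 2 ∧ (Odd n ∨ Even m)) ∨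
     (r ≠ p ∧
      ((orderOf (q : ZMod r) = 1 ∧ (r ∣ m ∨ (padicValNat r n ≤ padicValNat r (q - 1) ∧
        (r = 2 → Even n → q % 4 = 1)))) ∨
       (2 ≤ orderOf (q : ZMod r) ∧ orderOf (q : ZMod r) ≤ m ∧
        m % orderOf (q : ZMod r) ≤ n % orderOf (q : ZMod r))))) := by
  classical
  have hr : r.Prime := Fact.out
  have hp : p.Prime := Fact.out
  have hfin : finrank F (Fin n → F) = n := by
    rw [Module.finrank_fintype_fun_eq_card, Fintype.card_fin]
  by_cases hrp : r = p
  · subst hrp
    rw [unip_fix_iff hq n m (by omega) (by omega)]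
    constructor
    · intro hMC
      rcases hp.eq_two_or_odd' with h2 | h2
      · right; left
        refine ⟨rfl, h2, ?_⟩
        subst h2
        exact (mc_two_iff n m (by omega)).mp hMC
      · left
        refine ⟨rfl, ?_, hMC⟩
        obtain ⟨t, ht⟩ := h2
        have := hp.two_le
        omega
    · rintro (⟨-, -, h⟩ | ⟨-, h2, h⟩ | ⟨h, -⟩)
      · exact h
      · subst h2
        exact (mc_two_iff n m (by omega)).mpr h
      · exact absurd rfl h
  · -- `r ≠ p`
    have hrq : ¬ r ∣ Fintype.card F := by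
      obtain ⟨f, -, hf⟩ := FiniteField.card F p
      rw [hf]
      intro h
      exact hrp ((Nat.prime_dvd_prime_iff_eq hr hp).mp (hr.dvd_of_dvd_pow h))
    obtain ⟨k, hk1, hk2, hk3⟩ := exists_of_dvd_card_decomp (F := F) (V := Fin n → F) m
      (by rw [hfin]; omega) r hr hrq hrΩ
    rw [hfin] at hk1 hk2
    rw [hq] at hk3
    obtain ⟨-, hik⟩ := order_dvd_of_dvd_pow_sub_one (F := F) hq r k (by omega) hk3
    have hipos : 0 < orderOf (q : ZMod r) := CycFactor.orderOf_pos hq hr hrp
    have hin : orderOf (q : ZMod r) ≤ n := le_trans (Nat.le_of_dvd (by omega) hik) hk2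
    constructor
    · intro hL
      right; right
      refine ⟨hrp, ?_⟩
      rcases Nat.lt_or_ge (orderOf (q : ZMod r)) 2 with hi | hi
      · left
        apply condOne_of_fix hq n m (by omega) r (by omega)
        intro x hx1 hx2
        obtain ⟨U, W, -, hUfin, hU, -⟩ := hL x hx1 hx2
        exact ⟨U, hUfin, hU⟩
      · right
        obtain ⟨x, hx1, hx2, hx3, -⟩ := mod_le_of_fix hq n r hrp hi hin
        obtain ⟨U, W, -, hUfin, hU, -⟩ := hL x hx1 hx2
        have hmod := hx3 U hU
        rw [hUfin] at hmod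
        refine ⟨hi, ?_, hmod⟩
        by_contra hlt
        push_neg at hlt
        rw [Nat.mod_eq_of_lt hlt] at hmod
        obtain ⟨s, hs⟩ := hik
        have h1 := Nat.div_add_mod n (orderOf (q : ZMod r))
        have h2 : s ≤ n / orderOf (q : ZMod r) := by
          rw [Nat.le_div_iff_mul_le hipos, mul_comm, ← hs]
          exact hk2
        have h3 : orderOf (q : ZMod r) * s ≤ orderOf (q : ZMod r) * (n / orderOf (q : ZMod r)) :=
          Nat.mul_le_mul_left _ h2
        omega
    · rintro (⟨h, -⟩ | ⟨h, -⟩ | ⟨-, hR⟩)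
      · exact absurd h hrp
      · exact absurd h hrp
      · rintro x ⟨c, hc⟩ -
        rw [Matrix.SpecialLinearGroup.coe_pow] at hc
        exact exists_decomp_of_cond hq n m (by omega) (by omega) r hrp
          (hR.imp id (fun h => ⟨h.1, h.2.2⟩)) x c hc

end Cfsg.Agent.Lib.H24.Elus
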