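import Cfsg.Agent.Lib.H24.ElusMainA
import Cfsg.Agent.Lib.H24.ElusFlag

set_option autoImplicit false

/-!
# PSL_n(q): prime order elements and flags `U < W` (S5951) (helper24)
-/

namespace Cfsg.Agent.Lib.H24.Elus

open Polynomial Module Matrix
open Cfsg.Agent.Lib.H13

variable {F : Type*} [Field F] [Fintype F] {p q : ℕ} [Fact p.Prime] [CharP F p]

/-- **S5951** -/
theorem ln_flags_iff (hq : Fintype.card F = q) (n m : ℕ) (hn : 2 ≤ n) (hm : 1 ≤ m)
    (hmn : 2 * m < n) (r : ℕ) [Fact r.Prime]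
    (hrΩ : r ∣ Nat.card {P : Submodule F (Fin n → F) × Submodule F (Fin n → F) //
        P.1 ≤ P.2 ∧ Module.finrank F ↥P.1 = m ∧ Module.finrank F ↥P.2 = n - m}) :
    (∀ x : Matrix.SpecialLinearGroup (Fin n) F,
      (∃ c : F, ((x ^ r : Matrix.SpecialLinearGroup (Fin n) F) : Matrix (Fin n) (Fin n) F) =
        c • (1 : Matrix (Fin n) (Fin n) F)) →
      (∀ c : F, (x : Matrix (Fin n) (Fin n) F) ≠ c • (1 : Matrix (Fin n) (Fin n) F)) →
      ∃ U W : Submodule F (Fin n → F), U ≤ W ∧ Module.finrank F ↥U = m ∧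
        Module.finrank F ↥W = n - m ∧
        U.map (Matrix.toLin' (x : Matrix (Fin n) (Fin n) F)) ≤ U ∧
        W.map (Matrix.toLin' (x : Matrix (Fin n) (Fin n) F)) ≤ W) ↔
    (r ≠ p ∧
      ((orderOf (q : ZMod r) = 1 ∧ (r ∣ m ∨ (padicValNat r n ≤ padicValNat r (q - 1) ∧
        (r = 2 → Even n → q % 4 = 1)))) ∨
       (2 ≤ orderOf (q : ZMod r) ∧ orderOf (q : ZMod r) ≤ m ∧
        2 * (m % orderOf (q : ZMod r)) ≤ n % orderOf (q : ZMod r)))) := by
  classical
  have hr : r.Prime := Fact.out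
  have hfin : finrank F (Fin n → F) = n := by
    rw [Module.finrank_fintype_fun_eq_card, Fintype.card_fin]
  obtain ⟨k, hk1, hk2, hk3⟩ := exists_of_dvd_card_flags (F := F) (V := Fin n → F) m (n - m)
    (by omega) (by rw [hfin]; omega) r hr hrΩ
  rw [hfin] at hk2
  rw [hq] at hk3
  obtain ⟨hrp, hik⟩ := order_dvd_of_dvd_pow_sub_one (F := F) hq r k (by omega) hk3
  have hipos : 0 < orderOf (q : ZMod r) := CycFactor.orderOf_pos hq hr hrp
  have hin : orderOf (q : ZMod r) ≤ n := le_trans (Nat.le_of_dvd (by omega) hik) hk2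
  constructor
  · intro hL
    refine ⟨hrp, ?_⟩
    rcases Nat.lt_or_ge (orderOf (q : ZMod r)) 2 with hi | hi
    · left
      apply condOne_of_fix hq n m (by omega) r (by omega)
      intro x hx1 hx2
      obtain ⟨U, W, -, hUfin, -, hU, -⟩ := hL x hx1 hx2
      exact ⟨U, hUfin, hU⟩
    · right
      obtain ⟨x, hx1, hx2, hx3, hx4⟩ := mod_le_of_fix hq n r hrp hi hin
      obtain ⟨U, W, hUW, hUfin, hWfin, hU, hW⟩ := hL x hx1 hx2
      have h1 := hx3 W hW
      have h2 := hx4 U W hUW hU hW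
      rw [hWfin] at h1 h2
      rw [hUfin] at h2
      have hmod := mod_le_of_flag n m _ (by omega) h2 h1
      refine ⟨hi, ?_, hmod⟩
      by_contra hlt
      push_neg at hlt
      rw [Nat.mod_eq_of_lt hlt] at hmod
      obtain ⟨s, hs⟩ := hik
      have h3 := Nat.div_add_mod n (orderOf (q : ZMod r))
      have h4 : s ≤ n / orderOf (q : ZMod r) := by
        rw [Nat.le_div_iff_mul_le hipos, mul_comm, ← hs]
        exact hk2
      have h5 : orderOf (q : ZMod r) * s ≤ orderOf (q : ZMod r) * (n / orderOf (q : ZMod r)) :=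
        Nat.mul_le_mul_left _ h4
      omega
  · rintro ⟨-, hR⟩ x ⟨c, hc⟩ -
    rw [Matrix.SpecialLinearGroup.coe_pow] at hc
    have hc0 := ne_zero_of_pow_smul (by omega : 0 < n) (x : Matrix (Fin n) (Fin n) F) x.2 r c hc
    obtain ⟨U, W, hUW, hUfin, hWfin, hU, hW⟩ := exists_flag_of_pow_smul hq hr hrp
      (Matrix.toLin' (x : Matrix (Fin n) (Fin n) F)) c hc0 (PGLPrime.aeval_pow_sub _ c hc) m
      (by rw [hfin]; omega)
      (fun _ => by
        rw [hfin]
        rcases hR with ⟨h1, -⟩ | ⟨-, -, h2⟩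
        · rw [h1, Nat.mod_one, Nat.mod_one]
        · exact h2)
      (fun hnp => dvd_of_condOne hq n m (by omega) r
        (hR.imp id (fun h => h.1)) x c hc hnp)
    rw [hfin] at hWfin
    exact ⟨U, W, hUW, hUfin, hWfin, (invariant_iff _ U).mpr hU, (invariant_iff _ W).mpr hW⟩

end Cfsg.Agent.Lib.H24.Elus
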