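import Mathlib
import Cfsg.Agent.Lib.H24.ElusSpMain

set_option autoImplicit false

/-!
# Nondegenerate subspaces fixed by elements of odd prime order `r ≠ p` (helper24)

`exists_nd_invariant`: an isometry of odd prime order `r ≠ p` of a nondegenerate alternating space
of dimension `n` fixes a nondegenerate `m`-space as soon as `m mod c ≤ n mod c`.
-/

namespace Cfsg.Agent.Lib.H24.Elus

open Polynomial Module
open Cfsg.Agent.Lib.H13

section suff

variable {F : Type*} [Field F] [Fintype F] {p q : ℕ} [Fact p.Prime] [CharP F p]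
  {V : Type*} [AddCommGroup V] [Module F V] [Module.Finite F V]
  {B : LinearMap.BilinForm F V} {y : End F V}

theorem exists_nd_invariant (hF : Fintype.card F = q) {r : ℕ} [Fact r.Prime] (hrp : r ≠ p)
    (hr2 : r ≠ 2) (halt : ∀ v, B v v = 0) (hiso : ∀ u v, B (y u) (y v) = B u v)
    (hy : y ^ r = 1) (hndV : NDon B ⊤) (n m : ℕ) (hV : finrank F V = n) (hme : Even m)
    (hmn : m ≤ n) (c : ℕ) (hc : c = cOf (orderOf (q : ZMod r))) (hmod : m % c ≤ n % c) :
    ∃ W : Submodule F V, finrank F W = m ∧ NDon B W ∧ ∀ v ∈ W, y v ∈ W := by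
  classical
  have hr : r.Prime := Fact.out
  have hrF : (r : F) ≠ 0 := CycFactor.natCast_ne_zero hr hrp
  have hc0 : 0 < c := by rw [hc]; exact cOf_pos (CycFactor.orderOf_pos hF hr hrp)
  have hceven : Even c := by rw [hc]; exact cOf_even _
  set Fx := LinearMap.ker (aeval y (X - 1 : F[X])) with hFx
  set V' := LinearMap.ker (aeval y (cyclotomic r F)) with hV'
  have htopinv : ∀ v ∈ (⊤ : Submodule F V), y v ∈ (⊤ : Submodule F V) := fun _ _ =>
    Submodule.mem_top
  have hsplit := finrank_split_fix hrF hy ⊤ htopinv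
  rw [top_inf_eq, top_inf_eq, finrank_top, hV] at hsplit
  replace hsplit : finrank F Fx + finrank F V' = n := hsplit
  have hFxnd : NDon B Fx := by
    have := NDon_fix_part halt hiso hrF hy ⊤ htopinv hndV
    rwa [top_inf_eq] at this
  have hV'nd : NDon B V' := by
    have := NDon_cyc_part halt hiso hrF hy ⊤ htopinv hndV
    rwa [top_inf_eq] at this
  obtain ⟨m', hm'⟩ : c ∣ finrank F V' := by
    have := cdvd_finrank_cyc_part hF hrp hr2 halt hiso hy ⊤ htopinv hndV
    rwa [top_inf_eq, ← hc] at this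
  have hfmod : finrank F Fx % c = n % c := by
    rw [← hsplit, hm', Nat.add_mul_mod_self_left]
  have hkf : n % c ≤ finrank F Fx := by
    rw [← hfmod]
    exact Nat.mod_le _ _
  -- the arithmetic
  obtain ⟨a, ha⟩ : ∃ a, a = m / c := ⟨_, rfl⟩
  obtain ⟨ℓ, hℓ⟩ : ∃ ℓ, ℓ = m % c := ⟨_, rfl⟩
  have hdm : c * a + ℓ = m := by rw [ha, hℓ]; exact Nat.div_add_mod m c
  obtain ⟨j, hj⟩ : ∃ j, j = a - m' := ⟨_, rfl⟩
  obtain ⟨s, hs⟩ : ∃ s, s = a - j := ⟨_, rfl⟩
  have hjs : c * j + c * s = c * a := by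
    rw [← Nat.mul_add]
    congr 1
    omega
  have hsm' : c * s ≤ c * m' := Nat.mul_le_mul_left c (by omega)
  have hℓeven : Even ℓ := by
    rw [hℓ, Nat.even_iff, Nat.mod_mod_of_dvd m (even_iff_two_dvd.mp hceven)]
    exact Nat.even_iff.mp hme
  have heven : Even (ℓ + c * j) := Even.add hℓeven (Even.mul_right hceven _)
  obtain ⟨e', he'⟩ := heven
  have hef : ℓ + c * j ≤ finrank F Fx := by
    by_cases hj0 : a ≤ m'
    · have : j = 0 := by omega
      rw [this, mul_zero, add_zero, hℓ]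
      exact hmod.trans hkf
    · have h1 : c * j = c * a - c * m' := by rw [hj, Nat.mul_sub]
      have h2 : c * m' ≤ c * a := Nat.mul_le_mul_left c (by omega)
      omega
  obtain ⟨P, hPle, hP, hPdim⟩ := peel_exists halt (peelClass_planes halt Fx) e' Fx
    ⟨le_rfl, hFxnd⟩ (by omega)
  obtain ⟨R, hRle, hR, hRdim⟩ := peel_exists halt (peelClass_cyc hF hrp hr2 halt hiso hy) s V'
    ⟨le_rfl, SSClass.ker_aeval_invariant y _, hV'nd⟩ (by
      rw [← hc, hm', mul_comm s c]
      exact hsm')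
  have hPR : ∀ u ∈ P, ∀ v ∈ R, B u v = 0 := fun u hu v hv =>
    fix_orth_cyc halt hiso hrF hy u v (hP.1 hu) (hR.1 hv)
  refine ⟨P ⊔ R, ?_, NDon_sup B halt P R hP.2 hR.2.2 hPR, ?_⟩
  · have h := Submodule.finrank_sup_add_finrank_inf_eq P R
    rw [inf_eq_bot_of_orth B halt P R hP.2 hPR, finrank_bot, add_zero, hPdim, hRdim, ← hc] at h
    rw [h, mul_comm s c]
    omega
  · apply sup_invariant P R ?_ hR.2.1
    intro v hv
    have := (mem_fix_iff v).mp (hP.1 hv)
    rw [this]
    exact hv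

end suff

end Cfsg.Agent.Lib.H24.Elus
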