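import Mathlib
import Cfsg.Agent.Lib.H24.ElusSpMain

set_option autoImplicit false

/-!
# The symplectic group acts transitively on nondegenerate subspaces (helper24)

* `exists_isometry_map`: two nondegenerate subspaces of the same dimension of a nondegenerate
  alternating space are conjugate under an isometry.
* `NdSub F d m`: the nondegenerate `m`-subspaces of the standard symplectic space; the action
  `ndAction` of `Sp_{2d}(F)` on them is transitive, so their number divides `|Sp_{2d}(F)|`.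
* `card_ndsub_below`: the nondegenerate `m`-subspaces of a nondegenerate subspace `U` of dimension
  `2 k` of any alternating space are as many as those of the standard space of dimension `2 k`.
-/

namespace Cfsg.Agent.Lib.H24.Elus

open Polynomial Module
open Cfsg.Agent.Lib.H13

section glue

variable {F : Type*} [Field F] {V : Type*} [AddCommGroup V] [Module F V] [FiniteDimensional F V]
variable {B : LinearMap.BilinForm F V}

theorem exists_isometry_of_NDon (halt : ∀ v, B v v = 0) (W W' : Submodule F V) (hW : NDon B W)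
    (hW' : NDon B W') (hdim : finrank F W = finrank F W') :
    ∃ f : W ≃ₗ[F] W', ∀ u v : W, B (f u) (f v) = B u v := by
  obtain ⟨a, ha⟩ := even_finrank_of_NDon halt W hW
  have hstd : ∀ (E : Submodule F V), NDon B E → finrank F E = 2 * a →
      ∃ g : E ≃ₗ[F] (Fin a ⊕ Fin a → F), ∀ u v : E,
        Cfsg.sympForm a F (g u) (g v) = B u v := by
    intro E hE hEdim
    obtain ⟨g, hg⟩ := exists_std_equiv (restrictB B E)
      (fun v => by rw [restrictB_apply]; exact halt _)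
      (by
        intro v hv
        apply Subtype.ext
        apply hE v.1 v.2
        intro w hw
        have := hv ⟨w, hw⟩
        rwa [restrictB_apply] at this) a hEdim
    exact ⟨g, fun u v => by rw [hg, restrictB_apply]⟩
  obtain ⟨g, hg⟩ := hstd W hW (by omega)
  obtain ⟨g', hg'⟩ := hstd W' hW' (by omega)
  refine ⟨g.trans g'.symm, fun u v => ?_⟩
  rw [← hg', LinearEquiv.trans_apply, LinearEquiv.trans_apply, LinearEquiv.apply_symm_apply,
    LinearEquiv.apply_symm_apply, hg]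

theorem exists_isometry_map (halt : ∀ v, B v v = 0) (hndtop : NDon B ⊤) (W W' : Submodule F V)
    (hW : NDon B W) (hW' : NDon B W') (hdim : finrank F W = finrank F W') :
    ∃ e : V ≃ₗ[F] V, (∀ u v, B (e u) (e v) = B u v) ∧ ∀ w ∈ W, e w ∈ W' := by
  obtain ⟨f₁, hf₁⟩ := exists_isometry_of_NDon halt W W' hW hW' hdim
  have hO : NDon B (B.orthogonal W) := by
    have := NDon_perp_in B halt ⊤ W hndtop hW le_top
    rwa [top_inf_eq] at this
  have hO' : NDon B (B.orthogonal W') := by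
    have := NDon_perp_in B halt ⊤ W' hndtop hW' le_top
    rwa [top_inf_eq] at this
  have hdimO : finrank F (B.orthogonal W) = finrank F (B.orthogonal W') := by
    have h1 := finrank_perp_in B halt ⊤ W hW le_top
    have h2 := finrank_perp_in B halt ⊤ W' hW' le_top
    rw [top_inf_eq] at h1 h2
    omega
  obtain ⟨f₂, hf₂⟩ := exists_isometry_of_NDon halt _ _ hO hO' hdimO
  have hc := isCompl_orth_of_NDon B halt W hW
  have hc' := isCompl_orth_of_NDon B halt W' hW'
  obtain ⟨e, he⟩ : ∃ e : V ≃ₗ[F] V, ∀ (a : W) (b : B.orthogonal W),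
      e ((a : V) + (b : V)) = (f₁ a : V) + (f₂ b : V) := by
    refine ⟨(Submodule.prodEquivOfIsCompl W _ hc).symm ≪≫ₗ (f₁.prodCongr f₂) ≪≫ₗ
      Submodule.prodEquivOfIsCompl W' _ hc', ?_⟩
    intro a b
    have h1 : (Submodule.prodEquivOfIsCompl W _ hc).symm ((a : V) + (b : V)) = (a, b) := by
      rw [LinearEquiv.symm_apply_eq, Submodule.coe_prodEquivOfIsCompl']
    rw [LinearEquiv.trans_apply, LinearEquiv.trans_apply, h1, Submodule.coe_prodEquivOfIsCompl']
    rfl
  have hcross : ∀ (a : W') (b : B.orthogonal W'), B (a : V) (b : V) = 0 := fun a b => b.2 a.1 a.2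
  have hcross₀ : ∀ (a : W) (b : B.orthogonal W), B (a : V) (b : V) = 0 := fun a b => b.2 a.1 a.2
  refine ⟨e, ?_, ?_⟩
  · intro u v
    have hu : u ∈ W ⊔ B.orthogonal W := by rw [hc.sup_eq_top]; exact Submodule.mem_top
    have hv : v ∈ W ⊔ B.orthogonal W := by rw [hc.sup_eq_top]; exact Submodule.mem_top
    obtain ⟨u₁, hu₁, u₂, hu₂, rfl⟩ := Submodule.mem_sup.mp hu
    obtain ⟨v₁, hv₁, v₂, hv₂, rfl⟩ := Submodule.mem_sup.mp hv
    have e1 := he ⟨u₁, hu₁⟩ ⟨u₂, hu₂⟩
    have e2 := he ⟨v₁, hv₁⟩ ⟨v₂, hv₂⟩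
    simp only at e1 e2
    rw [e1, e2]
    simp only [map_add, LinearMap.add_apply]
    rw [hf₁, hf₂, hcross, alt_swap_zero B halt (hcross _ _),
      hcross₀ ⟨u₁, hu₁⟩ ⟨v₂, hv₂⟩, alt_swap_zero B halt (hcross₀ ⟨v₁, hv₁⟩ ⟨u₂, hu₂⟩)]
  · intro w hw
    have e1 := he ⟨w, hw⟩ 0
    simp only [Submodule.coe_zero, add_zero, map_zero] at e1
    rw [e1]
    exact (f₁ _).2

end glue

section count

variable {F : Type*} [Field F]

/-- the nondegenerate `m`-subspaces of the standard symplectic space -/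
abbrev NdSub (F : Type*) [Field F] (d m : ℕ) : Type _ :=
  {W : Submodule F (Fin d ⊕ Fin d → F) // finrank F ↥W = m ∧
    (∀ u ∈ W, u ≠ 0 → ∃ v ∈ W, Cfsg.sympForm d F u v ≠ 0)}

theorem ndsub_map (d m : ℕ) (g : ↥(Matrix.symplecticGroup (Fin d) F))
    (W : Submodule F (Fin d ⊕ Fin d → F))
    (hW : finrank F ↥W = m ∧ (∀ u ∈ W, u ≠ 0 → ∃ v ∈ W, Cfsg.sympForm d F u v ≠ 0)) :
    finrank F ↥(W.map (Matrix.toLin' (g : Matrix (Fin d ⊕ Fin d) (Fin d ⊕ Fin d) F))) = m ∧
      (∀ u ∈ W.map (Matrix.toLin' (g : Matrix (Fin d ⊕ Fin d) (Fin d ⊕ Fin d) F)), u ≠ 0 →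
        ∃ v ∈ W.map (Matrix.toLin' (g : Matrix (Fin d ⊕ Fin d) (Fin d ⊕ Fin d) F)),
          Cfsg.sympForm d F u v ≠ 0) := by
  obtain ⟨h1, h2⟩ := hW
  rw [← spEquiv_coe]
  refine ⟨by rw [LinearEquiv.finrank_map_eq, h1], ?_⟩
  rintro _ ⟨u, hu, rfl⟩ hne
  have hu0 : u ≠ 0 := by
    rintro rfl
    exact hne (map_zero _)
  obtain ⟨v, hv, huv⟩ := h2 u hu hu0
  refine ⟨_, Submodule.mem_map_of_mem hv, ?_⟩
  rw [← stdB_apply] at huv ⊢
  rw [LinearEquiv.coe_coe, ← LinearEquiv.coe_coe, spEquiv_coe, sp_iso]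
  exact huv

/-- the action of the symplectic group on nondegenerate subspaces -/
noncomputable def ndAction (d m : ℕ) :
    MulAction ↥(Matrix.symplecticGroup (Fin d) F) (NdSub F d m) where
  smul := fun g W => ⟨W.1.map (Matrix.toLin' (g : Matrix (Fin d ⊕ Fin d) (Fin d ⊕ Fin d) F)),
    ndsub_map d m g W.1 W.2⟩
  one_smul := fun W => by
    apply Subtype.ext
    show W.1.map (Matrix.toLin' (1 : Matrix (Fin d ⊕ Fin d) (Fin d ⊕ Fin d) F)) = W.1
    rw [Matrix.toLin'_one, Submodule.map_id]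
  mul_smul := fun g h W => by
    apply Subtype.ext
    show W.1.map (Matrix.toLin' ((g : Matrix (Fin d ⊕ Fin d) (Fin d ⊕ Fin d) F) *
        (h : Matrix (Fin d ⊕ Fin d) (Fin d ⊕ Fin d) F))) =
      (W.1.map (Matrix.toLin' (h : Matrix (Fin d ⊕ Fin d) (Fin d ⊕ Fin d) F))).map
        (Matrix.toLin' (g : Matrix (Fin d ⊕ Fin d) (Fin d ⊕ Fin d) F))
    rw [Matrix.toLin'_mul, Submodule.map_comp]

theorem ndAction_smul_coe (d m : ℕ) (g : ↥(Matrix.symplecticGroup (Fin d) F))
    (W : NdSub F d m) :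
    ((ndAction d m).smul g W).1 =
      W.1.map (Matrix.toLin' (g : Matrix (Fin d ⊕ Fin d) (Fin d ⊕ Fin d) F)) := rfl

theorem ndAction_pretransitive (d m : ℕ) :
    @MulAction.IsPretransitive ↥(Matrix.symplecticGroup (Fin d) F) (NdSub F d m)
      (ndAction d m).toSMul := by
  letI := ndAction (F := F) d m
  constructor
  intro W W'
  obtain ⟨e, heiso, hemem⟩ := exists_isometry_map (stdB_alt (F := F) d) (stdB_NDon_top d) W.1 W'.1
    (NDon_of_nd d W.1 W.2.2) (NDon_of_nd d W'.1 W'.2.2) (by rw [W.2.1, W'.2.1])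
  have hM : LinearMap.toMatrix' (e : (Fin d ⊕ Fin d → F) →ₗ[F] (Fin d ⊕ Fin d → F)) ∈
      Matrix.symplecticGroup (Fin d) F := by
    rw [mem_symplecticGroup_iff_sympForm']
    intro u v
    rw [LinearMap.toMatrix'_mulVec, LinearMap.toMatrix'_mulVec, ← stdB_apply, ← stdB_apply]
    exact heiso u v
  refine ⟨⟨_, hM⟩, ?_⟩
  apply Subtype.ext
  show W.1.map (Matrix.toLin' (LinearMap.toMatrix'
    (e : (Fin d ⊕ Fin d → F) →ₗ[F] (Fin d ⊕ Fin d → F)))) = W'.1
  rw [Matrix.toLin'_toMatrix']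
  apply Submodule.eq_of_le_of_finrank_eq
  · rintro _ ⟨x, hx, rfl⟩
    exact hemem x hx
  · rw [LinearEquiv.finrank_map_eq, W.2.1, W'.2.1]

variable [Fintype F]

theorem card_ndsub_dvd_card_sp (d m : ℕ) (hne : Nonempty (NdSub F d m)) :
    Nat.card (NdSub F d m) ∣ Nat.card ↥(Matrix.symplecticGroup (Fin d) F) := by
  classical
  letI := ndAction (F := F) d m
  haveI := ndAction_pretransitive (F := F) d m
  obtain ⟨W₀⟩ := hne
  have h1 := MulAction.index_stabilizer_of_transitive ↥(Matrix.symplecticGroup (Fin d) F) W₀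
  have h2 := Subgroup.index_dvd_card (MulAction.stabilizer ↥(Matrix.symplecticGroup (Fin d) F) W₀)
  rw [h1] at h2
  exact h2

omit [Fintype F] in
theorem nonempty_ndsub (d m : ℕ) (hme : Even m) (hmn : m ≤ 2 * d) : Nonempty (NdSub F d m) := by
  obtain ⟨k, hk⟩ := hme
  obtain ⟨A, -, hA, hAdim⟩ := peel_exists (stdB_alt (F := F) d)
    (peelClass_planes (stdB_alt (F := F) d) ⊤) k ⊤ ⟨le_rfl, stdB_NDon_top d⟩ (by
      rw [finrank_top, finrank_std]
      omega)
  exact ⟨⟨A, by rw [hAdim]; omega, nd_of_NDon d A hA.2⟩⟩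


omit [Fintype F] in
/-- nondegenerate subspaces of a nondegenerate subspace and of the standard space -/
theorem card_ndsub_below {V : Type*} [AddCommGroup V] [Module F V] [FiniteDimensional F V]
    (B : LinearMap.BilinForm F V) (halt : ∀ v, B v v = 0) (U : Submodule F V) (hU : NDon B U)
    (k m : ℕ) (hk : finrank F U = 2 * k) :
    Nat.card {W : Submodule F V // W ≤ U ∧ finrank F W = m ∧ NDon B W} =
      Nat.card (NdSub F k m) := by
  obtain ⟨g, hg⟩ := exists_std_equiv (restrictB B U)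
    (fun v => by rw [restrictB_apply]; exact halt _)
    (by
      intro v hv
      apply Subtype.ext
      apply hU v.1 v.2
      intro w hw
      have := hv ⟨w, hw⟩
      rwa [restrictB_apply] at this) k hk
  have hg' : ∀ u v : U, Cfsg.sympForm k F (g u) (g v) = B (u : V) (v : V) := by
    intro u v
    rw [hg, restrictB_apply]
  have memΦ : ∀ (W : Submodule F V) (x : Fin k ⊕ Fin k → F),
      x ∈ (W.comap U.subtype).map (g : U →ₗ[F] (Fin k ⊕ Fin k → F)) ↔
        ∃ u : U, (u : V) ∈ W ∧ g u = x := by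
    intro W x
    constructor
    · rintro ⟨u, hu, rfl⟩
      exact ⟨u, hu, rfl⟩
    · rintro ⟨u, hu, rfl⟩
      exact ⟨u, hu, rfl⟩
  have memΨ : ∀ (W' : Submodule F (Fin k ⊕ Fin k → F)) (x : V),
      x ∈ (W'.map (g.symm : (Fin k ⊕ Fin k → F) →ₗ[F] U)).map U.subtype ↔
        ∃ u' ∈ W', ((g.symm u' : U) : V) = x := by
    intro W' x
    constructor
    · rintro ⟨_, ⟨u', hu', rfl⟩, rfl⟩
      exact ⟨u', hu', rfl⟩
    · rintro ⟨u', hu', rfl⟩
      exact ⟨_, ⟨u', hu', rfl⟩, rfl⟩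
  apply Nat.card_congr
  refine
    { toFun := fun W => ⟨(W.1.comap U.subtype).map (g : U →ₗ[F] (Fin k ⊕ Fin k → F)), ?_, ?_⟩
      invFun := fun W' => ⟨(W'.1.map (g.symm : (Fin k ⊕ Fin k → F) →ₗ[F] U)).map U.subtype,
        ?_, ?_, ?_⟩
      left_inv := ?_
      right_inv := ?_ }
  · rw [LinearEquiv.finrank_map_eq, LinearEquiv.finrank_eq (Submodule.comapSubtypeEquivOfLe W.2.1),
      W.2.2.1]
  · intro x hx hx0
    obtain ⟨u, hu, rfl⟩ := (memΦ _ _).mp hx
    have hu0 : (u : V) ≠ 0 := by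
      intro h0
      apply hx0
      have : u = 0 := Subtype.ext h0
      rw [this, map_zero]
    obtain ⟨v, hv, huv⟩ : ∃ v ∈ W.1, B (u : V) v ≠ 0 := by
      by_contra hcon
      push Not at hcon
      exact hu0 (W.2.2.2 _ hu hcon)
    refine ⟨g ⟨v, W.2.1 hv⟩, (memΦ _ _).mpr ⟨⟨v, W.2.1 hv⟩, hv, rfl⟩, ?_⟩
    rw [hg']
    exact huv
  · exact Submodule.map_subtype_le _ _
  · rw [Submodule.finrank_map_subtype_eq, LinearEquiv.finrank_map_eq, W'.2.1]
  · intro x hx h
    obtain ⟨u', hu', rfl⟩ := (memΨ _ _).mp hx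
    have hu'0 : u' = 0 := by
      by_contra hne
      obtain ⟨v', hv', huv'⟩ := W'.2.2 u' hu' hne
      apply huv'
      have := h _ ((memΨ _ _).mpr ⟨v', hv', rfl⟩)
      rw [← hg', LinearEquiv.apply_symm_apply, LinearEquiv.apply_symm_apply] at this
      exact this
    rw [hu'0, map_zero]
    rfl
  · intro W
    apply Subtype.ext
    ext x
    show x ∈ (((W.1.comap U.subtype).map (g : U →ₗ[F] (Fin k ⊕ Fin k → F))).map
      (g.symm : (Fin k ⊕ Fin k → F) →ₗ[F] U)).map U.subtype ↔ x ∈ W.1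
    rw [memΨ]
    constructor
    · rintro ⟨u', hu', rfl⟩
      obtain ⟨u, hu, rfl⟩ := (memΦ _ _).mp hu'
      rw [LinearEquiv.symm_apply_apply]
      exact hu
    · intro hx
      refine ⟨g ⟨x, W.2.1 hx⟩, (memΦ _ _).mpr ⟨⟨x, W.2.1 hx⟩, hx, rfl⟩, ?_⟩
      rw [LinearEquiv.symm_apply_apply]
  · intro W'
    apply Subtype.ext
    ext x
    show x ∈ (((W'.1.map (g.symm : (Fin k ⊕ Fin k → F) →ₗ[F] U)).map U.subtype).comap
      U.subtype).map (g : U →ₗ[F] (Fin k ⊕ Fin k → F)) ↔ x ∈ W'.1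
    rw [memΦ]
    constructor
    · rintro ⟨u, hu, rfl⟩
      obtain ⟨u', hu', hu'eq⟩ := (memΨ _ _).mp hu
      have : g.symm u' = u := Subtype.ext hu'eq
      rw [← this, LinearEquiv.apply_symm_apply]
      exact hu'
    · intro hx
      exact ⟨g.symm x, (memΨ _ _).mpr ⟨x, hx, rfl⟩, LinearEquiv.apply_symm_apply g x⟩

end count

end Cfsg.Agent.Lib.H24.Elus
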