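import Mathlib
import Cfsg.Agent.Lib.H24.ElusNdE

set_option autoImplicit false

/-!
# Nondegenerate subspaces and elements of odd prime order `r ≠ p`: necessity (helper24)

`nd_nec_odd`: if `r` divides the number of nondegenerate `m`-spaces and every element of order `r`
of `Sp_{2d}(q)` fixes one of them, then `c ≤ m` and `m mod c ≤ 2 d mod c`.
-/

namespace Cfsg.Agent.Lib.H24.Elus

open Polynomial Module
open Cfsg.Agent.Lib.H13

section nec

variable {F : Type*} [Field F] [Fintype F] {p q : ℕ} [Fact p.Prime] [CharP F p]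

theorem nd_nec_odd (hq : Fintype.card F = q) (d m : ℕ) (hd : 0 < d) (hme : Even m)
    (hmn : m ≤ 2 * d) (r : ℕ) [Fact r.Prime] (hr2 : r ≠ 2) (hrp : r ≠ p)
    (hrΩ : r ∣ Nat.card (NdSub F d m)) (c : ℕ) (hc : c = cOf (orderOf (q : ZMod r)))
    (h : ∀ x : ↥(Matrix.symplecticGroup (Fin d) F),
      (x : Matrix (Fin d ⊕ Fin d) (Fin d ⊕ Fin d) F) ^ r = 1 →
      (∀ z : F, (x : Matrix (Fin d ⊕ Fin d) (Fin d ⊕ Fin d) F) ≠
        z • (1 : Matrix (Fin d ⊕ Fin d) (Fin d ⊕ Fin d) F)) →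
      ∃ W : Submodule F (Fin d ⊕ Fin d → F), finrank F W = m ∧ NDon (stdB d) W ∧
        ∀ v ∈ W, Matrix.toLin' (x : Matrix (Fin d ⊕ Fin d) (Fin d ⊕ Fin d) F) v ∈ W) :
    c ≤ m ∧ m % c ≤ (2 * d) % c := by
  classical
  have hr : r.Prime := Fact.out
  have hi0 : 0 < orderOf (q : ZMod r) := CycFactor.orderOf_pos hq hr hrp
  have hc0 : 0 < c := by rw [hc]; exact cOf_pos hi0
  obtain ⟨c', hc'⟩ : ∃ c', c = 2 * c' := by
    obtain ⟨k, hk⟩ := (hc ▸ cOf_even (orderOf (q : ZMod r)) : Even c)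
    exact ⟨k, by omega⟩
  have hc'0 : 0 < c' := by omega
  have hcn : c ≤ 2 * d := by
    rw [hc]
    exact cOf_le_of_dvd_card_sp hq d r hrp
      (hrΩ.trans (card_ndsub_dvd_card_sp d m (nonempty_ndsub d m hme hmn)))
  obtain ⟨s, hs⟩ : ∃ s, s = d / c' := ⟨_, rfl⟩
  obtain ⟨e, he⟩ : ∃ e, e = d % c' := ⟨_, rfl⟩
  have hd' : d = s * c' + e := by
    rw [hs, he, mul_comm]
    exact (Nat.div_add_mod d c').symm
  have hec' : e < c' := by rw [he]; exact Nat.mod_lt _ hc'0
  have hs1 : 1 ≤ s := by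
    rw [hs]
    exact (Nat.one_le_div_iff hc'0).mpr (by omega)
  have hsc' : c' ≤ s * c' := Nat.le_mul_of_pos_left c' (by omega)
  obtain ⟨x, hx, hfix⟩ := exists_sp_test hq r hrp hr2 c' (by rw [← hc', hc]) e s d hd'
  obtain ⟨y, hy⟩ : ∃ y, y = Matrix.toLin' (x : Matrix (Fin d ⊕ Fin d) (Fin d ⊕ Fin d) F) :=
    ⟨_, rfl⟩
  rw [← hy] at hfix
  have hyr : y ^ r = 1 := by
    rw [hy, ← Matrix.toLin'_pow, hx, Matrix.toLin'_one]
    rfl
  have hyiso : ∀ u v, stdB d (y u) (y v) = stdB (F := F) d u v := by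
    rw [hy]
    exact sp_iso d x
  have hx1 : (x : Matrix (Fin d ⊕ Fin d) (Fin d ⊕ Fin d) F) ≠ 1 := by
    intro h1
    rw [hy, h1, Matrix.toLin'_one] at hfix
    have h2 : aeval (LinearMap.id : End F (Fin d ⊕ Fin d → F)) (X - 1 : F[X]) = 0 := by
      rw [map_sub, aeval_X, map_one]
      exact sub_self _
    rw [h2, LinearMap.ker_zero, finrank_top, finrank_std] at hfix
    omega
  obtain ⟨W, hWm, hWnd, hWinv⟩ := h x hx (sp_ne_smul_one d hd r hr2 x hx hx1)
  rw [← hy] at hWinv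
  have hmod := finrank_fix_mod hq hrp hr2 (stdB_alt d) hyiso hyr W hWinv hWnd
  rw [← hc, hWm] at hmod
  have hle : finrank F ↥(W ⊓ LinearMap.ker (aeval y (X - 1 : F[X]))) ≤ 2 * e := by
    rw [← hfix]
    exact Submodule.finrank_mono inf_le_right
  have hnmod : (2 * d) % c = 2 * e := by
    have h1 : 2 * d = c * s + 2 * e := by rw [hc', hd']; ring
    rw [h1, Nat.mul_add_mod, Nat.mod_eq_of_lt (by omega)]
  have hsecond : m % c ≤ 2 * e := by
    rw [hmod, Nat.mod_eq_of_lt (by omega)]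
    exact hle
  refine ⟨?_, by rw [hnmod]; exact hsecond⟩
  by_contra hlt
  push Not at hlt
  have hm2e : m ≤ 2 * e := by
    rw [Nat.mod_eq_of_lt hlt] at hsecond
    exact hsecond
  -- the fixed points of `x` on the nondegenerate `m`-spaces
  letI := ndAction (F := F) d m
  haveI : Fintype (NdSub F d m) := Fintype.ofFinite _
  obtain ⟨f, hf⟩ : ∃ f : Function.End (NdSub F d m),
      f = MulAction.toEndHom (M := ↥(Matrix.symplecticGroup (Fin d) F)) x := ⟨_, rfl⟩
  have hfr : f ^ r ^ 1 = 1 := by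
    rw [pow_one, hf, ← map_pow]
    have : x ^ r = 1 := Subtype.ext hx
    rw [this, map_one]
  have hmodeq := Equiv.Perm.card_fixedPoints_modEq hfr
  rw [Fintype.card_eq_nat_card, Fintype.card_eq_nat_card] at hmodeq
  have hdvd : r ∣ Nat.card ↥(Function.fixedPoints f) :=
    (Nat.modEq_zero_iff_dvd.mp (hmodeq.symm.trans (Nat.modEq_zero_iff_dvd.mpr hrΩ)))
  have hfapp : ∀ W' : NdSub F d m, (f W').1 = W'.1.map y := by
    intro W'
    rw [hf, hy]
    rfl
  have hrF : (r : F) ≠ 0 := CycFactor.natCast_ne_zero hr hrp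
  have hFixnd : NDon (stdB (F := F) d) (LinearMap.ker (aeval y (X - 1 : F[X]))) := by
    have := NDon_fix_part (stdB_alt (F := F) d) hyiso hrF hyr ⊤ (fun _ _ => Submodule.mem_top)
      (stdB_NDon_top d)
    rwa [top_inf_eq] at this
  have hcard : Nat.card ↥(Function.fixedPoints f) =
      Nat.card {W' : Submodule F (Fin d ⊕ Fin d → F) //
        W' ≤ LinearMap.ker (aeval y (X - 1 : F[X])) ∧ finrank F W' = m ∧ NDon (stdB d) W'} := by
    apply Nat.card_congr
    refine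
      { toFun := fun W' => ⟨W'.1.1, ?_, W'.1.2.1, NDon_of_nd d _ W'.1.2.2⟩
        invFun := fun W' => ⟨⟨W'.1, W'.2.2.1, nd_of_NDon d _ W'.2.2.2⟩, ?_⟩
        left_inv := fun W' => rfl
        right_inv := fun W' => rfl }
    · -- a fixed space lies in the fixed space of `y`
      have hfixed : (f W'.1).1 = W'.1.1 := congrArg Subtype.val W'.2
      rw [hfapp] at hfixed
      have hinv : ∀ v ∈ W'.1.1, y v ∈ W'.1.1 := by
        intro v hv
        rw [← hfixed]
        exact Submodule.mem_map_of_mem hv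
      have hnd' : NDon (stdB d) W'.1.1 := NDon_of_nd d _ W'.1.2.2
      have h1 := cdvd_finrank_cyc_part hq hrp hr2 (stdB_alt d) hyiso hyr W'.1.1 hinv hnd'
      rw [← hc] at h1
      have h2 := finrank_split_fix hrF hyr W'.1.1 hinv
      rw [W'.1.2.1] at h2
      have h3 : finrank F ↥(W'.1.1 ⊓ LinearMap.ker (aeval y (cyclotomic r F))) = 0 := by
        by_contra hne
        have := Nat.le_of_dvd (Nat.pos_of_ne_zero hne) h1
        omega
      have h4 : W'.1.1 ⊓ LinearMap.ker (aeval y (X - 1 : F[X])) = W'.1.1 := by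
        apply Submodule.eq_of_le_of_finrank_eq inf_le_left
        rw [W'.1.2.1]
        omega
      rw [← h4]
      exact inf_le_right
    · -- a subspace of the fixed space is fixed
      show f ⟨W'.1, W'.2.2.1, nd_of_NDon d _ W'.2.2.2⟩ = ⟨W'.1, W'.2.2.1, nd_of_NDon d _ W'.2.2.2⟩
      apply Subtype.ext
      rw [hfapp]
      show W'.1.map y = W'.1
      apply le_antisymm
      · rintro _ ⟨v, hv, rfl⟩
        rw [(mem_fix_iff v).mp (W'.2.1 hv)]
        exact hv
      · intro v hv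
        exact ⟨v, hv, (mem_fix_iff v).mp (W'.2.1 hv)⟩
  rw [hcard, card_ndsub_below (stdB d) (stdB_alt d) _ hFixnd e m hfix] at hdvd
  have h5 := cOf_le_of_dvd_card_sp hq e r hrp
    (hdvd.trans (card_ndsub_dvd_card_sp e m (nonempty_ndsub e m hme hm2e)))
  rw [← hc] at h5
  omega

end nec

end Cfsg.Agent.Lib.H24.Elus
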