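import Mathlib
import Cfsg.Agent.Lib.H24.ElusSpAtom

set_option autoImplicit false

/-!
# Unipotent isometries of an alternating form: peeling off blocks (helper24)

Let `y = 1 + N` be an isometry of an alternating form `B` in characteristic different from two,
with `N` nilpotent.  Every nonzero nondegenerate invariant subspace `U` contains a nonzero
nondegenerate invariant subspace `P` which is either cyclic (of dimension at most the
nilpotency index of `N` on `U`) or the sum of two cyclic subspaces and of dimension exactly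
`2 e` with `e` odd (`exists_piece`).  Hence `U` is an orthogonal sum of such pieces
(`exists_pieces`).
-/

namespace Cfsg.Agent.Lib.H24.Elus

open Polynomial Module

section uni

variable {F : Type*} [Field F] {V : Type*} [AddCommGroup V] [Module F V]
variable {B : LinearMap.BilinForm F V} {y N : End F V}

theorem uni_adj (hiso : ∀ u v, B (y u) (y v) = B u v) (hyN : ∀ v, y v = v + N v) (a b : V) :
    B (N a) b = - B (y a) (N b) := by
  have h := hiso a b
  rw [hyN b] at h
  rw [hyN a] at h ⊢
  simp only [map_add, LinearMap.add_apply] at h ⊢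
  linear_combination h

theorem uni_comm (hyN : ∀ v, y v = v + N v) (v : V) : y (N v) = N (y v) := by
  rw [hyN (N v), hyN v, map_add]

theorem uni_comm_pow (hyN : ∀ v, y v = v + N v) (k : ℕ) (v : V) :
    y ((N ^ k) v) = (N ^ k) (y v) := by
  induction k generalizing v with
  | zero => rfl
  | succ k ih =>
    rw [pow_succ', Module.End.mul_apply, Module.End.mul_apply, uni_comm hyN, ih]

theorem uni_fix (hyN : ∀ v, y v = v + N v) (w : V) (hw : N w = 0) : y w = w := by
  rw [hyN w, hw, add_zero]

theorem pow_add_apply (k j : ℕ) (v : V) : (N ^ k) ((N ^ j) v) = (N ^ (k + j)) v := by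
  rw [pow_add, Module.End.mul_apply]

/-- vanishing: `B (N^k a) b = 0` when `N^k b = 0` -/
theorem uni_vanish (hiso : ∀ u v, B (y u) (y v) = B u v) (hyN : ∀ v, y v = v + N v) (k : ℕ) :
    ∀ a b : V, (N ^ k) b = 0 → B ((N ^ k) a) b = 0 := by
  induction k with
  | zero =>
    intro a b hb
    rw [pow_zero, Module.End.one_apply] at hb
    rw [hb, map_zero]
  | succ k ih =>
    intro a b hb
    rw [pow_succ', Module.End.mul_apply, uni_adj hiso hyN, uni_comm_pow hyN, neg_eq_zero]
    apply ih
    rw [← Module.End.mul_apply, ← pow_succ]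
    exact hb

/-- transfer: `B (N^k a) b = (-1)^k B a (N^k b)` when `N^(k+1) b = 0` -/
theorem uni_transfer (hiso : ∀ u v, B (y u) (y v) = B u v) (hyN : ∀ v, y v = v + N v) (k : ℕ) :
    ∀ a b : V, (N ^ (k + 1)) b = 0 → B ((N ^ k) a) b = (-1) ^ k * B a ((N ^ k) b) := by
  induction k with
  | zero =>
    intro a b _
    rw [pow_zero, pow_zero, one_mul]
    rfl
  | succ k ih =>
    intro a b hb
    have hb' : (N ^ (k + 1)) (N b) = 0 := by
      rw [← Module.End.mul_apply, ← pow_succ]
      exact hb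
    have hfix : y ((N ^ (k + 1)) b) = (N ^ (k + 1)) b := by
      apply uni_fix hyN
      rw [← Module.End.mul_apply, ← pow_succ']
      exact hb
    have h1 : (N ^ (k + 1)) a = N ((N ^ k) a) := by
      rw [pow_succ', Module.End.mul_apply]
    have h2 : (N ^ k) (N b) = (N ^ (k + 1)) b := by
      rw [pow_succ, Module.End.mul_apply]
    rw [h1, uni_adj hiso hyN, uni_comm_pow hyN, ih (y a) (N b) hb', h2]
    have h3 : B (y a) ((N ^ (k + 1)) b) = B a ((N ^ (k + 1)) b) := by
      conv_lhs => rw [← hfix]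
      rw [hiso]
    rw [h3]
    ring

/-- the symmetry of the top form -/
theorem uni_symm (halt : ∀ v, B v v = 0) (hiso : ∀ u v, B (y u) (y v) = B u v)
    (hyN : ∀ v, y v = v + N v) (k : ℕ) (a b : V) (ha : (N ^ (k + 1)) a = 0) :
    B a ((N ^ k) b) = (-1) ^ (k + 1) * B b ((N ^ k) a) := by
  rw [alt_swap B halt, uni_transfer hiso hyN k b a ha]
  ring

/-- the constant term decomposition -/
theorem aeval_eq_coeff_add (g : F[X]) (v : V) :
    aeval N g v = g.coeff 0 • v + N (aeval N g.divX v) := by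
  conv_lhs => rw [← Polynomial.X_mul_divX_add g]
  rw [map_add, map_mul, aeval_X, aeval_C, LinearMap.add_apply, Module.End.mul_apply,
    Module.algebraMap_end_apply, add_comm]

theorem pow_eq_zero_of_le {U : Submodule F V} {k : ℕ} (hk : ∀ v ∈ U, (N ^ k) v = 0)
    (j : ℕ) (hkj : k ≤ j) (v : V) (hv : v ∈ U) : (N ^ j) v = 0 := by
  obtain ⟨i, rfl⟩ := Nat.exists_eq_add_of_le hkj
  rw [add_comm, ← pow_add_apply, hk v hv, map_zero]

/-- nondegeneracy from the top form -/
theorem NDon_of_top (hiso : ∀ u v, B (y u) (y v) = B u v) (hyN : ∀ v, y v = v + N v) (k : ℕ)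
    (P : Submodule F V) (hPN : ∀ v ∈ P, N v ∈ P) (hk : ∀ v ∈ P, (N ^ (k + 1)) v = 0)
    (htop : ∀ a ∈ P, (∀ b ∈ P, B a ((N ^ k) b) = 0) → ∃ a' ∈ P, a = N a') : NDon B P := by
  intro a ha h
  have hpowmem : ∀ (j : ℕ) (v : V), v ∈ P → (N ^ j) v ∈ P := fun j v hv =>
    pow_mem_of_invariant N P hPN j v hv
  have key : ∀ j : ℕ, j ≤ k + 1 → ∃ aj ∈ P, a = (N ^ j) aj := by
    intro j
    induction j with
    | zero =>
      intro _
      exact ⟨a, ha, rfl⟩
    | succ j ih =>
      intro hj
      obtain ⟨aj, haj, hajeq⟩ := ih (by omega)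
      have h1 : ∀ b ∈ P, B aj ((N ^ k) b) = 0 := by
        intro b hb
        have h2 : (N ^ (j + 1)) ((N ^ (k - j)) b) = 0 := by
          rw [pow_add_apply]
          have : j + 1 + (k - j) = k + 1 := by omega
          rw [this]
          exact hk b hb
        have h3 := uni_transfer hiso hyN j aj ((N ^ (k - j)) b) h2
        rw [← hajeq, h _ (hpowmem _ b hb), pow_add_apply] at h3
        have h4 : j + (k - j) = k := by omega
        rw [h4] at h3
        have h5 : ((-1 : F) ^ j) ≠ 0 := pow_ne_zero _ (neg_ne_zero.mpr one_ne_zero)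
        rcases mul_eq_zero.mp h3.symm with h6 | h6
        · exact absurd h6 h5
        · exact h6
      obtain ⟨a', ha', ha'eq⟩ := htop aj haj h1
      refine ⟨a', ha', ?_⟩
      rw [hajeq, ha'eq, ← Module.End.mul_apply, ← pow_succ]
  obtain ⟨a', ha', ha'eq⟩ := key (k + 1) le_rfl
  rw [ha'eq, hk a' ha']


/-- the top condition for a cyclic subspace -/
theorem top_single (hiso : ∀ u v, B (y u) (y v) = B u v) (hyN : ∀ v, y v = v + N v) (k : ℕ)
    (v : V) (hv : (N ^ (k + 1)) v = 0) (hvv : B v ((N ^ k) v) ≠ 0) :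
    ∀ a ∈ cycSub N v, (∀ b ∈ cycSub N v, B a ((N ^ k) b) = 0) → ∃ a' ∈ cycSub N v, a = N a' := by
  rintro _ ⟨g, rfl⟩ h
  rw [evalAt_apply] at h ⊢
  have h1 := h v (self_mem_cycSub N v)
  have hz : B (N (aeval N g.divX v)) ((N ^ k) v) = 0 := by
    have := uni_vanish hiso hyN 1 (aeval N g.divX v) ((N ^ k) v) (by
      rw [pow_add_apply, add_comm]; exact hv)
    rwa [pow_one] at this
  rw [aeval_eq_coeff_add, map_add, LinearMap.add_apply, hz, add_zero, map_smul,
    LinearMap.smul_apply, smul_eq_mul] at h1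
  have h0 : g.coeff 0 = 0 := by
    rcases mul_eq_zero.mp h1 with h2 | h2
    · exact h2
    · exact absurd h2 hvv
  refine ⟨aeval N g.divX v, ⟨g.divX, rfl⟩, ?_⟩
  rw [aeval_eq_coeff_add, h0, zero_smul, zero_add]

/-- the top condition for the sum of two cyclic subspaces -/
theorem top_double (hiso : ∀ u v, B (y u) (y v) = B u v) (hyN : ∀ v, y v = v + N v) (k : ℕ)
    (u v : V) (hu : (N ^ (k + 1)) u = 0) (hv : (N ^ (k + 1)) v = 0)
    (huu : B u ((N ^ k) u) = 0) (hvv : B v ((N ^ k) v) = 0)
    (huv : B u ((N ^ k) v) ≠ 0) (hvu : B v ((N ^ k) u) ≠ 0) :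
    ∀ a ∈ cycSub N u ⊔ cycSub N v, (∀ b ∈ cycSub N u ⊔ cycSub N v, B a ((N ^ k) b) = 0) →
      ∃ a' ∈ cycSub N u ⊔ cycSub N v, a = N a' := by
  intro a ha h
  obtain ⟨_, ⟨g, rfl⟩, _, ⟨g', rfl⟩, rfl⟩ := Submodule.mem_sup.mp ha
  rw [evalAt_apply, evalAt_apply] at h ⊢
  have h1 := h u (Submodule.mem_sup_left (self_mem_cycSub N u))
  have h2 := h v (Submodule.mem_sup_right (self_mem_cycSub N v))
  have hz : ∀ w w' : V, (N ^ (k + 1)) w' = 0 → B (N w) ((N ^ k) w') = 0 := by
    intro w w' hw'
    have := uni_vanish hiso hyN 1 w ((N ^ k) w') (by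
      rw [pow_add_apply, add_comm]; exact hw')
    rwa [pow_one] at this
  rw [aeval_eq_coeff_add g u, aeval_eq_coeff_add g' v] at h1 h2
  simp only [map_add, LinearMap.add_apply, map_smul, LinearMap.smul_apply, smul_eq_mul,
    hz _ _ hu, hz _ _ hv, add_zero, huu, hvv, mul_zero, zero_add] at h1 h2
  have h0' : g'.coeff 0 = 0 := by
    rcases mul_eq_zero.mp h1 with h3 | h3
    · exact h3
    · exact absurd h3 hvu
  have h0 : g.coeff 0 = 0 := by
    rcases mul_eq_zero.mp h2 with h3 | h3
    · exact h3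
    · exact absurd h3 huv
  refine ⟨aeval N g.divX u + aeval N g'.divX v, Submodule.add_mem _
    (Submodule.mem_sup_left ⟨g.divX, rfl⟩) (Submodule.mem_sup_right ⟨g'.divX, rfl⟩), ?_⟩
  rw [aeval_eq_coeff_add g u, aeval_eq_coeff_add g' v, h0, h0', zero_smul, zero_smul, zero_add,
    zero_add, map_add]

section fd

variable [FiniteDimensional F V]

/-- a lower bound for the dimension from the rank of the top power -/
theorem finrank_ge_of_top_rank (k : ℕ) (P : Submodule F V) (hPN : ∀ v ∈ P, N v ∈ P)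
    (hk : ∀ v ∈ P, (N ^ (k + 1)) v = 0) :
    (k + 1) * finrank F ↥(P.map (N ^ k)) ≤ finrank F P := by
  have step : ∀ i j : ℕ, i + j + 1 = k →
      finrank F ↥(P.map (N ^ (i + 1))) + finrank F ↥(P.map (N ^ k)) ≤
        finrank F ↥(P.map (N ^ i)) := by
    intro i j hij
    set R := P.map (N ^ i) with hR
    set T : End F V := N ^ (j + 1) with hT
    have h1 := LinearMap.finrank_range_add_finrank_ker (T.domRestrict R)
    have h2 : LinearMap.range (T.domRestrict R) = P.map (N ^ k) := by
      rw [LinearMap.range_domRestrict, hR, ← Submodule.map_comp]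
      congr 1
      rw [hT, ← Module.End.mul_eq_comp, ← pow_add]
      congr 1
      omega
    have h3 : (P.map (N ^ (i + 1))).comap R.subtype ≤ LinearMap.ker (T.domRestrict R) := by
      rintro ⟨w, hw⟩ hw'
      rw [Submodule.mem_comap, Submodule.subtype_apply] at hw'
      obtain ⟨v, hv, rfl⟩ := hw'
      rw [LinearMap.mem_ker, LinearMap.domRestrict_apply]
      show T ((N ^ (i + 1)) v) = 0
      rw [hT, pow_add_apply]
      have : j + 1 + (i + 1) = k + 1 := by omega
      rw [this]
      exact hk v hv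
    have h4 : P.map (N ^ (i + 1)) ≤ R := by
      rintro _ ⟨v, hv, rfl⟩
      refine ⟨N v, hPN v hv, ?_⟩
      rw [← Module.End.mul_apply, ← pow_succ]
    have h5 : finrank F ↥((P.map (N ^ (i + 1))).comap R.subtype) =
        finrank F ↥(P.map (N ^ (i + 1))) :=
      LinearEquiv.finrank_eq (Submodule.comapSubtypeEquivOfLe h4)
    have h6 := Submodule.finrank_mono h3
    rw [h2] at h1
    omega
  have key : ∀ j : ℕ, j ≤ k →
      (j + 1) * finrank F ↥(P.map (N ^ k)) ≤ finrank F ↥(P.map (N ^ (k - j))) := by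
    intro j
    induction j with
    | zero =>
      intro _
      rw [Nat.sub_zero, zero_add, one_mul]
    | succ j ih =>
      intro hj
      have h1 := ih (by omega)
      have h2 := step (k - (j + 1)) j (by omega)
      have h3 : k - (j + 1) + 1 = k - j := by omega
      rw [h3] at h2
      have h4 : (j + 1 + 1) * finrank F ↥(P.map (N ^ k)) =
          (j + 1) * finrank F ↥(P.map (N ^ k)) + finrank F ↥(P.map (N ^ k)) := by ring
      omega
  have h := key k le_rfl
  rw [Nat.sub_self, pow_zero, Module.End.one_eq_id, Submodule.map_id] at h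
  exact h


omit [FiniteDimensional F V] in
theorem two_le_finrank_of_pair [FiniteDimensional F V] (S : Submodule F V) (a b : V) (ha : a ∈ S)
    (hb : b ∈ S) (hli : ∀ s t : F, s • a + t • b = 0 → s = 0 ∧ t = 0) : 2 ≤ finrank F S := by
  have hli' : LinearIndependent F ![a, b] := by
    rw [LinearIndependent.pair_iff]
    exact hli
  have h := finrank_span_eq_card hli'
  rw [Fintype.card_fin] at h
  have hle : Submodule.span F (Set.range ![a, b]) ≤ S := by
    rw [Submodule.span_le]
    rintro _ ⟨i, rfl⟩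
    fin_cases i
    · exact ha
    · exact hb
  have := Submodule.finrank_mono hle
  omega

/-- a piece: a nonzero nondegenerate invariant subspace of dimension at most `p`, or of
dimension `2 e` with `e ≤ p` odd -/
def IsPiece (B : LinearMap.BilinForm F V) (y : End F V) (p : ℕ) (P : Submodule F V) : Prop :=
  (∀ v ∈ P, y v ∈ P) ∧ NDon B P ∧ P ≠ ⊥ ∧
    (finrank F P ≤ p ∨ ∃ e, Odd e ∧ e ≤ p ∧ finrank F P = 2 * e)

/-- every nonzero nondegenerate invariant subspace contains a piece -/
theorem exists_piece (halt : ∀ v, B v v = 0) (hiso : ∀ u v, B (y u) (y v) = B u v)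
    (hyN : ∀ v, y v = v + N v) (h2 : (2 : F) ≠ 0) (p : ℕ) (hNp : ∀ v, (N ^ p) v = 0)
    (U : Submodule F V) (hU : ∀ v ∈ U, y v ∈ U) (hnd : NDon B U) (hne : U ≠ ⊥) :
    ∃ P : Submodule F V, P ≤ U ∧ IsPiece B y p P := by
  classical
  have hUN : ∀ v ∈ U, N v ∈ U := by
    intro v hv
    have := hU v hv
    rw [hyN] at this
    exact (Submodule.add_mem_iff_right U hv).mp this
  have hex : ∃ e, ∀ v ∈ U, (N ^ e) v = 0 := ⟨p, fun v _ => hNp v⟩
  have he₀ : ∀ v ∈ U, (N ^ (Nat.find hex)) v = 0 := Nat.find_spec hex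
  have he₀p : Nat.find hex ≤ p := Nat.find_min' hex (fun v _ => hNp v)
  have he₀pos : Nat.find hex ≠ 0 := by
    intro h0
    obtain ⟨u, hu, hu0⟩ := (Submodule.ne_bot_iff U).mp hne
    have := he₀ u hu
    rw [h0, pow_zero, Module.End.one_apply] at this
    exact hu0 this
  obtain ⟨k, hk⟩ : ∃ k, Nat.find hex = k + 1 := Nat.exists_eq_succ_of_ne_zero he₀pos
  have hmin : ¬ ∀ v ∈ U, (N ^ k) v = 0 := Nat.find_min hex (by omega)
  push Not at hmin
  obtain ⟨b, hb, hb0⟩ := hmin
  rw [hk] at he₀ he₀p
  have hNkb : (N ^ k) b ∈ U := pow_mem_of_invariant N U hUN k b hb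
  obtain ⟨a, ha, hab⟩ : ∃ a ∈ U, B a ((N ^ k) b) ≠ 0 := by
    by_contra hcon
    push Not at hcon
    apply hb0
    apply hnd _ hNkb
    intro v hv
    exact alt_swap_zero B halt (hcon v hv)
  have hsymm : ∀ a b : V, a ∈ U → b ∈ U →
      B a ((N ^ k) b) = (-1) ^ (k + 1) * B b ((N ^ k) a) :=
    fun a b ha _ => uni_symm halt hiso hyN k a b (he₀ a ha)
  have hyinv : ∀ P : Submodule F V, (∀ v ∈ P, N v ∈ P) → ∀ v ∈ P, y v ∈ P := by
    intro P hP v hv
    rw [hyN]
    exact Submodule.add_mem _ hv (hP v hv)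
  rcases Nat.even_or_odd (k + 1) with hev | hodd
  · -- the symmetric case: a cyclic piece
    have hs : ∀ a b : V, a ∈ U → b ∈ U → B a ((N ^ k) b) = B b ((N ^ k) a) := by
      intro a b ha hb
      rw [hsymm a b ha hb, hev.neg_one_pow, one_mul]
    obtain ⟨v, hv, hvv⟩ : ∃ v ∈ U, B v ((N ^ k) v) ≠ 0 := by
      by_cases h1 : B a ((N ^ k) a) ≠ 0
      · exact ⟨a, ha, h1⟩
      by_cases h3 : B b ((N ^ k) b) ≠ 0
      · exact ⟨b, hb, h3⟩
      push Not at h1 h3
      refine ⟨a + b, U.add_mem ha hb, ?_⟩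
      have e : B (a + b) ((N ^ k) (a + b)) = 2 * B a ((N ^ k) b) := by
        simp only [map_add, LinearMap.add_apply, h1, h3, ← hs a b ha hb]
        ring
      rw [e]
      exact mul_ne_zero h2 hab
    have hPU : cycSub N v ≤ U := cycSub_le N v U hUN hv
    refine ⟨cycSub N v, hPU, hyinv _ (cycSub_invariant N v), ?_, ?_, Or.inl ?_⟩
    · exact NDon_of_top hiso hyN k _ (cycSub_invariant N v) (fun w hw => he₀ w (hPU hw))
        (top_single hiso hyN k v (he₀ v hv) hvv)
    · intro hbot
      have := self_mem_cycSub N v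
      rw [hbot, Submodule.mem_bot] at this
      rw [this, map_zero, LinearMap.zero_apply] at hvv
      exact hvv rfl
    · refine (finrank_cycSub_le N v (X ^ (k + 1)) (monic_X_pow _) ?_).trans ?_
      · rw [map_pow, aeval_X]
        exact he₀ v hv
      · rw [natDegree_X_pow]
        exact he₀p
  · -- the alternating case: a sum of two cyclic subspaces
    have hs : ∀ a b : V, a ∈ U → b ∈ U → B a ((N ^ k) b) = - B b ((N ^ k) a) := by
      intro a b ha hb
      rw [hsymm a b ha hb, hodd.neg_one_pow, neg_one_mul]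
    have hz : ∀ a : V, a ∈ U → B a ((N ^ k) a) = 0 := by
      intro a ha
      have h3 : (2 : F) * B a ((N ^ k) a) = 0 := by
        have := hs a a ha ha
        linear_combination this
      exact (mul_eq_zero.mp h3).resolve_left h2
    have hba : B b ((N ^ k) a) ≠ 0 := by
      rw [hs b a hb ha]
      exact neg_ne_zero.mpr hab
    have hPU : cycSub N a ⊔ cycSub N b ≤ U :=
      sup_le (cycSub_le N a U hUN ha) (cycSub_le N b U hUN hb)
    have hPN : ∀ v ∈ cycSub N a ⊔ cycSub N b, N v ∈ cycSub N a ⊔ cycSub N b :=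
      sup_invariant _ _ (cycSub_invariant N a) (cycSub_invariant N b)
    have hPk : ∀ v ∈ cycSub N a ⊔ cycSub N b, (N ^ (k + 1)) v = 0 := fun w hw => he₀ w (hPU hw)
    refine ⟨cycSub N a ⊔ cycSub N b, hPU, hyinv _ hPN, ?_, ?_, Or.inr ⟨k + 1, hodd, he₀p, ?_⟩⟩
    · exact NDon_of_top hiso hyN k _ hPN hPk
        (top_double hiso hyN k a b (he₀ a ha) (he₀ b hb) (hz a ha) (hz b hb) hab hba)
    · intro hbot
      have : a ∈ cycSub N a ⊔ cycSub N b := Submodule.mem_sup_left (self_mem_cycSub N a)
      rw [hbot, Submodule.mem_bot] at this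
      rw [this, LinearMap.map_zero₂] at hab
      exact hab rfl
    · apply le_antisymm
      · have h1 := Submodule.finrank_add_le_finrank_add_finrank (cycSub N a) (cycSub N b)
        have h3 : ∀ v ∈ U, finrank F ↥(cycSub N v) ≤ k + 1 := by
          intro v hv
          refine (finrank_cycSub_le N v (X ^ (k + 1)) (monic_X_pow _) ?_).trans ?_
          · rw [map_pow, aeval_X]
            exact he₀ v hv
          · rw [natDegree_X_pow]
        have := h3 a ha
        have := h3 b hb
        omega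
      · have h1 := finrank_ge_of_top_rank k (cycSub N a ⊔ cycSub N b) hPN hPk
        have h3 : 2 ≤ finrank F ↥((cycSub N a ⊔ cycSub N b).map (N ^ k)) := by
          apply two_le_finrank_of_pair _ ((N ^ k) a) ((N ^ k) b)
            (Submodule.mem_map_of_mem (Submodule.mem_sup_left (self_mem_cycSub N a)))
            (Submodule.mem_map_of_mem (Submodule.mem_sup_right (self_mem_cycSub N b)))
          intro s t hst
          have e1 := congrArg (fun w => B a w) hst
          have e2 := congrArg (fun w => B b w) hst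
          simp only [map_add, map_smul, smul_eq_mul, hz a ha, hz b hb, mul_zero, zero_add,
            add_zero, map_zero] at e1 e2
          constructor
          · rcases mul_eq_zero.mp e2 with h | h
            · exact h
            · exact absurd h hba
          · rcases mul_eq_zero.mp e1 with h | h
            · exact h
            · exact absurd h hab
        calc 2 * (k + 1) = (k + 1) * 2 := by ring
          _ ≤ (k + 1) * finrank F ↥((cycSub N a ⊔ cycSub N b).map (N ^ k)) :=
            Nat.mul_le_mul_left _ h3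
          _ ≤ _ := h1

/-- the orthogonal decomposition into pieces -/
theorem exists_pieces (halt : ∀ v, B v v = 0) (hiso : ∀ u v, B (y u) (y v) = B u v)
    (hyN : ∀ v, y v = v + N v) (h2 : (2 : F) ≠ 0) (p : ℕ) (hNp : ∀ v, (N ^ p) v = 0)
    {r : ℕ} (hr : 0 < r) (hyr : y ^ r = 1) :
    ∀ (U : Submodule F V), (∀ v ∈ U, y v ∈ U) → NDon B U →
      ∃ (ι : Type) (_ : Fintype ι) (_ : DecidableEq ι) (P : ι → Submodule F V),
        (∀ j, IsPiece B y p (P j)) ∧
        (∀ j j', j ≠ j' → ∀ u ∈ P j, ∀ v ∈ P j', B u v = 0) ∧ ⨆ j, P j = U := by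
  intro U
  induction h : finrank F U using Nat.strong_induction_on generalizing U with
  | _ n ih =>
    intro hU hnd
    by_cases hne : U = ⊥
    · refine ⟨Empty, inferInstance, inferInstance, fun j => j.elim, fun j => j.elim,
        fun j => j.elim, ?_⟩
      rw [iSup_of_empty, hne]
    · obtain ⟨P₀, hP₀U, hP₀⟩ := exists_piece halt hiso hyN h2 p hNp U hU hnd hne
      obtain ⟨hP₀inv, hP₀nd, hP₀ne, hP₀dim⟩ := hP₀
      have h1 := finrank_perp_in B halt U P₀ hP₀nd hP₀U
      have hpos : 0 < finrank F P₀ := by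
        rw [Nat.pos_iff_ne_zero]
        intro h0
        exact hP₀ne (Submodule.finrank_eq_zero.mp h0)
      obtain ⟨ι, hι, hdec, P, hP, horth, hsup⟩ := ih (finrank F ↥(U ⊓ B.orthogonal P₀))
        (by omega) (U ⊓ B.orthogonal P₀) rfl (inf_orth_invariant hiso hr hyr U P₀ hU hP₀inv)
        (NDon_perp_in B halt U P₀ hnd hP₀nd hP₀U)
      have hle : ∀ j, P j ≤ U ⊓ B.orthogonal P₀ := by
        intro j
        rw [← hsup]
        exact le_iSup P j
      refine ⟨Option ι, inferInstance, inferInstance, fun o => o.elim P₀ P, ?_, ?_, ?_⟩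
      · rintro (_ | j)
        · exact ⟨hP₀inv, hP₀nd, hP₀ne, hP₀dim⟩
        · exact hP j
      · rintro (_ | j) (_ | j') hjj' u hu v hv
        · exact absurd rfl hjj'
        · exact (Submodule.mem_inf.mp (hle j' hv)).2 u hu
        · exact alt_swap_zero B halt ((Submodule.mem_inf.mp (hle j hu)).2 v hv)
        · exact horth j j' (fun h => hjj' (by rw [h])) u hu v hv
      · rw [iSup_option]
        show P₀ ⊔ ⨆ j, P j = U
        rw [hsup]
        exact sup_perp_in B halt U P₀ hP₀nd hP₀U

end fd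

end uni

end Cfsg.Agent.Lib.H24.Elus
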