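import Mathlib
import Cfsg.Agent.Lib.H24.ElusUniA

set_option autoImplicit false

/-!
# Unipotent isometries: invariant nondegenerate subspaces from the partition condition (helper24)

* `select_pieces`: a sub-multiset with even multiplicities of the odd values of a sum of pieces
  `{d}` (`d` even) or `{e, e}` (`e` odd) is a sum of some of the pieces.
* `uni_exists_invariant`: if every admissible partition of `dim V` contains an admissible
  partition of `m`, a unipotent isometry of order `p` fixes a nondegenerate `m`-space.
-/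

namespace Cfsg.Agent.Lib.H24.Elus

open Polynomial Module

section comb

theorem select_pieces {ι : Type*} [DecidableEq ι] (τ : ι → Multiset ℕ) :
    ∀ (s : Finset ι), (∀ j ∈ s, (∃ d, Even d ∧ τ j = {d}) ∨ (∃ e, Odd e ∧ τ j = {e, e})) →
      ∀ ν : Multiset ℕ, ν ≤ ∑ j ∈ s, τ j → (∀ a, Odd a → Even (ν.count a)) →
        ∃ S ⊆ s, ∑ j ∈ S, τ j = ν := by
  intro s
  induction s using Finset.induction_on with
  | empty =>
    intro _ ν hle _
    rw [Finset.sum_empty] at hle
    exact ⟨∅, subset_rfl, by rw [Finset.sum_empty, Multiset.le_zero.mp hle]⟩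
  | insert j₀ s hj₀ ih =>
    intro hτ ν hle hpar
    have hτs : ∀ j ∈ s, (∃ d, Even d ∧ τ j = {d}) ∨ (∃ e, Odd e ∧ τ j = {e, e}) :=
      fun j hj => hτ j (Finset.mem_insert_of_mem hj)
    rw [Finset.sum_insert hj₀] at hle
    -- the rest has even multiplicities at odd values
    have hRpar : ∀ a, Odd a → Even ((∑ j ∈ s, τ j).count a) := by
      intro a ha
      rw [Multiset.count_sum']
      apply Finset.even_sum
      intro j hj
      rcases hτs j hj with ⟨d, hd, hj⟩ | ⟨e, he, hj⟩
      · rw [hj, Multiset.count_singleton, if_neg]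
        · exact ⟨0, rfl⟩
        · rintro rfl
          exact (Nat.not_even_iff_odd.mpr ha) hd
      · rw [hj]
        by_cases hae : a = e
        · subst hae
          exact ⟨1, by simp⟩
        · refine ⟨0, ?_⟩
          rw [Multiset.insert_eq_cons, Multiset.count_cons_of_ne hae, Multiset.count_singleton,
            if_neg hae]
    have hcount : ∀ a, ν.count a ≤ (τ j₀).count a + (∑ j ∈ s, τ j).count a := by
      intro a
      rw [← Multiset.count_add]
      exact Multiset.le_iff_count.mp hle a
    rcases hτ j₀ (Finset.mem_insert_self j₀ s) with ⟨d, hd, hj⟩ | ⟨e, he, hj⟩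
    · by_cases hc : ν.count d ≤ (∑ j ∈ s, τ j).count d
      · have hle' : ν ≤ ∑ j ∈ s, τ j := by
          rw [Multiset.le_iff_count]
          intro a
          by_cases had : a = d
          · rw [had]; exact hc
          · have := hcount a
            rw [hj, Multiset.count_singleton, if_neg had, zero_add] at this
            exact this
        obtain ⟨S, hS, hSν⟩ := ih hτs ν hle' hpar
        exact ⟨S, hS.trans (Finset.subset_insert _ _), hSν⟩
      · push Not at hc
        have hmem : d ∈ ν := Multiset.count_pos.mp (by omega)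
        have hle' : ν.erase d ≤ ∑ j ∈ s, τ j := by
          rw [Multiset.le_iff_count]
          intro a
          have := hcount a
          rw [hj, Multiset.count_singleton] at this
          by_cases had : a = d
          · rw [had, Multiset.count_erase_self]
            rw [had, if_pos rfl] at this
            omega
          · rw [Multiset.count_erase_of_ne had]
            rw [if_neg had, zero_add] at this
            exact this
        have hpar' : ∀ a, Odd a → Even ((ν.erase d).count a) := by
          intro a ha
          have had : a ≠ d := by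
            rintro rfl
            exact (Nat.not_even_iff_odd.mpr ha) hd
          rw [Multiset.count_erase_of_ne had]
          exact hpar a ha
        obtain ⟨S, hS, hSν⟩ := ih hτs (ν.erase d) hle' hpar'
        have hj₀S : j₀ ∉ S := fun h => hj₀ (hS h)
        refine ⟨insert j₀ S, Finset.insert_subset_insert _ hS, ?_⟩
        rw [Finset.sum_insert hj₀S, hSν, hj, Multiset.singleton_add, Multiset.cons_erase hmem]
    · by_cases hc : ν.count e ≤ (∑ j ∈ s, τ j).count e
      · have hle' : ν ≤ ∑ j ∈ s, τ j := by
          rw [Multiset.le_iff_count]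
          intro a
          by_cases hae : a = e
          · rw [hae]; exact hc
          · have := hcount a
            rw [hj, Multiset.insert_eq_cons, Multiset.count_cons_of_ne hae,
              Multiset.count_singleton, if_neg hae, zero_add] at this
            exact this
        obtain ⟨S, hS, hSν⟩ := ih hτs ν hle' hpar
        exact ⟨S, hS.trans (Finset.subset_insert _ _), hSν⟩
      · push Not at hc
        have hce : (τ j₀).count e = 2 := by
          rw [hj]
          simp
        have h1 := hcount e
        rw [hce] at h1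
        obtain ⟨k₁, hk₁⟩ := hpar e he
        obtain ⟨k₂, hk₂⟩ := hRpar e he
        have hν2 : ν.count e = (∑ j ∈ s, τ j).count e + 2 := by omega
        have hmem : e ∈ ν := Multiset.count_pos.mp (by omega)
        have hmem' : e ∈ ν.erase e := by
          rw [← Multiset.count_pos, Multiset.count_erase_self]
          omega
        have hle' : (ν.erase e).erase e ≤ ∑ j ∈ s, τ j := by
          rw [Multiset.le_iff_count]
          intro a
          by_cases hae : a = e
          · rw [hae, Multiset.count_erase_self, Multiset.count_erase_self]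
            omega
          · rw [Multiset.count_erase_of_ne hae, Multiset.count_erase_of_ne hae]
            have := hcount a
            rw [hj, Multiset.insert_eq_cons, Multiset.count_cons_of_ne hae,
              Multiset.count_singleton, if_neg hae, zero_add] at this
            exact this
        have hpar' : ∀ a, Odd a → Even (((ν.erase e).erase e).count a) := by
          intro a ha
          by_cases hae : a = e
          · rw [hae, Multiset.count_erase_self, Multiset.count_erase_self]
            exact ⟨k₂, by omega⟩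
          · rw [Multiset.count_erase_of_ne hae, Multiset.count_erase_of_ne hae]
            exact hpar a ha
        obtain ⟨S, hS, hSν⟩ := ih hτs ((ν.erase e).erase e) hle' hpar'
        have hj₀S : j₀ ∉ S := fun h => hj₀ (hS h)
        refine ⟨insert j₀ S, Finset.insert_subset_insert _ hS, ?_⟩
        rw [Finset.sum_insert hj₀S, hSν, hj, Multiset.insert_eq_cons, Multiset.cons_add,
          Multiset.singleton_add, Multiset.cons_erase hmem', Multiset.cons_erase hmem]

end comb

section main

variable {F : Type*} [Field F] {V : Type*} [AddCommGroup V] [Module F V]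
variable {B : LinearMap.BilinForm F V} {y N : End F V}

theorem iSup_invariant {κ : Type*} (E : κ → Submodule F V) (hE : ∀ k, ∀ v ∈ E k, y v ∈ E k) :
    ∀ v ∈ ⨆ k, E k, y v ∈ ⨆ k, E k := by
  intro v hv
  have h1 : (⨆ k, E k).map y ≤ ⨆ k, E k := by
    rw [Submodule.map_iSup]
    apply iSup_le
    intro k
    rintro _ ⟨w, hw, rfl⟩
    exact Submodule.mem_iSup_of_mem k (hE k w hw)
  exact h1 (Submodule.mem_map_of_mem hv)

variable [FiniteDimensional F V]

/-- the existence of an invariant nondegenerate `m`-space from the partition condition -/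
theorem uni_exists_invariant (halt : ∀ v, B v v = 0) (hiso : ∀ u v, B (y u) (y v) = B u v)
    (hyN : ∀ v, y v = v + N v) (h2 : (2 : F) ≠ 0) (p : ℕ) (hNp : ∀ v, (N ^ p) v = 0)
    {r : ℕ} (hr : 0 < r) (hyr : y ^ r = 1) (hnd : NDon B ⊤) (n m : ℕ)
    (hn : finrank F V = n)
    (hPC : ∀ μ : Multiset ℕ, (∀ a ∈ μ, 0 < a ∧ a ≤ p) → (∀ a : ℕ, Odd a → Even (μ.count a)) →
      μ.sum = n → ∃ ν : Multiset ℕ, ν ≤ μ ∧ ν.sum = m ∧ ∀ a : ℕ, Odd a → Even (ν.count a)) :
    ∃ W : Submodule F V, finrank F W = m ∧ NDon B W ∧ ∀ v ∈ W, y v ∈ W := by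
  classical
  obtain ⟨ι, hι, hdec, P, hP, horth, hsup⟩ := exists_pieces halt hiso hyN h2 p hNp hr hyr ⊤
    (fun _ _ => Submodule.mem_top) hnd
  have hev : ∀ j, Even (finrank F (P j)) := fun j => even_finrank_of_NDon halt (P j) (hP j).2.1
  have hpos : ∀ j, 0 < finrank F (P j) := by
    intro j
    rw [Nat.pos_iff_ne_zero]
    intro h0
    exact (hP j).2.2.1 (Submodule.finrank_eq_zero.mp h0)
  set τ : ι → Multiset ℕ := fun j =>
    if finrank F (P j) ≤ p then {finrank F (P j)} else {finrank F (P j) / 2, finrank F (P j) / 2}
    with hτdef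
  have hτ : ∀ j, (finrank F (P j) ≤ p ∧ τ j = {finrank F (P j)}) ∨
      (∃ e, Odd e ∧ e ≤ p ∧ finrank F (P j) = 2 * e ∧ τ j = {e, e}) := by
    intro j
    by_cases hjp : finrank F (P j) ≤ p
    · left
      exact ⟨hjp, by simp only [hτdef, if_pos hjp]⟩
    · right
      rcases (hP j).2.2.2 with h | ⟨e, he, hep, hde⟩
      · exact absurd h hjp
      · refine ⟨e, he, hep, hde, ?_⟩
        have : finrank F (P j) / 2 = e := by omega
        simp only [hτdef, if_neg hjp, this]
  have hτsum : ∀ j, (τ j).sum = finrank F (P j) := by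
    intro j
    rcases hτ j with ⟨_, h⟩ | ⟨e, _, _, hde, h⟩
    · rw [h, Multiset.sum_singleton]
    · rw [h, hde]
      simp
      ring
  have hτ' : ∀ j ∈ (Finset.univ : Finset ι),
      (∃ d, Even d ∧ τ j = {d}) ∨ (∃ e, Odd e ∧ τ j = {e, e}) := by
    intro j _
    rcases hτ j with ⟨_, h⟩ | ⟨e, he, _, _, h⟩
    · exact Or.inl ⟨_, hev j, h⟩
    · exact Or.inr ⟨e, he, h⟩
  have hind : iSupIndep P := iSupIndep_of_orth B halt P (fun j => (hP j).2.1) horth
  -- the type of `y`
  have hμ1 : ∀ a ∈ ∑ j, τ j, 0 < a ∧ a ≤ p := by
    intro a ha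
    rw [Multiset.mem_sum] at ha
    obtain ⟨j, _, haj⟩ := ha
    rcases hτ j with ⟨hjp, h⟩ | ⟨e, he, hep, hde, h⟩
    · rw [h, Multiset.mem_singleton] at haj
      rw [haj]
      exact ⟨hpos j, hjp⟩
    · rw [h] at haj
      have : a = e := by
        rw [Multiset.insert_eq_cons, Multiset.mem_cons, Multiset.mem_singleton] at haj
        tauto
      rw [this]
      exact ⟨he.pos, hep⟩
  have hμ2 : ∀ a : ℕ, Odd a → Even ((∑ j, τ j).count a) := by
    intro a ha
    rw [Multiset.count_sum']
    apply Finset.even_sum
    intro j _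
    rcases hτ' j (Finset.mem_univ j) with ⟨d, hd, hj⟩ | ⟨e, he, hj⟩
    · rw [hj, Multiset.count_singleton, if_neg]
      · exact ⟨0, rfl⟩
      · rintro rfl
        exact (Nat.not_even_iff_odd.mpr ha) hd
    · rw [hj]
      by_cases hae : a = e
      · subst hae
        exact ⟨1, by simp⟩
      · refine ⟨0, ?_⟩
        rw [Multiset.insert_eq_cons, Multiset.count_cons_of_ne hae, Multiset.count_singleton,
          if_neg hae]
  have hμ3 : (∑ j, τ j).sum = n := by
    rw [Multiset.sum_sum]
    simp only [hτsum]
    rw [← finrank_iSup_eq_sum P hind, hsup, finrank_top, hn]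
  obtain ⟨ν, hνμ, hνm, hνpar⟩ := hPC _ hμ1 hμ2 hμ3
  obtain ⟨S, -, hS⟩ := select_pieces τ Finset.univ hτ' ν hνμ hνpar
  refine ⟨⨆ j : {j // j ∈ S}, P j, ?_, ?_, ?_⟩
  · have hind' : iSupIndep (fun j : {j // j ∈ S} => P j) :=
      iSupIndep_of_orth B halt _ (fun j => (hP j).2.1)
        (fun j j' hjj' => horth j j' (fun h => hjj' (Subtype.ext h)))
    rw [finrank_iSup_eq_sum _ hind', Finset.sum_coe_sort S (fun j => finrank F (P j)), ← hνm,
      ← hS, Multiset.sum_sum]
    simp only [hτsum]
  · exact NDon_iSup B halt _ (fun j => (hP j).2.1)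
      (fun j j' hjj' => horth j j' (fun h => hjj' (Subtype.ext h)))
  · exact iSup_invariant _ (fun j => (hP j).1)

end main

end Cfsg.Agent.Lib.H24.Elus
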