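import Mathlib
import Cfsg.Agent.Lib.H11.OrthReal3
import Cfsg.Agent.Lib.H24.ElusSpMain

set_option autoImplicit false

/-!
# Unipotent elements of the symplectic group fixing a nondegenerate subspace (helper24)

* `exists_sub_type_alt`: if a unipotent isometry of an alternating form of Jordan type `μ` fixes
  a nondegenerate subspace `W`, its type on `W` is a sub-multiset of `μ` with sum `dim W` in which
  the odd parts have even multiplicity (using helper11's Jordan type machinery).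
* `uni_nec`: the partition condition is necessary.
-/

namespace Cfsg.Agent.Lib.H24.Elus

open Module Matrix Cfsg.Agent.Lib.H11.Jordan

section restrict

variable {F : Type*} [Field F] {ι : Type} [Fintype ι] [DecidableEq ι]

theorem exists_sub_type_alt (B : LinearMap.BilinForm F (ι → F)) (halt : ∀ v, B v v = 0)
    (A : Matrix ι ι F)
    (hiso : ∀ u v, B (Matrix.toLin' A u) (Matrix.toLin' A v) = B u v)
    {r : ℕ} (hr : 0 < r) (hAr : A ^ r = 1)
    {μ : Multiset ℕ} (hT : RankType A μ) (hpos : ∀ a ∈ μ, 0 < a)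
    (W : Submodule F (ι → F)) (hW : ∀ v ∈ W, Matrix.toLin' A v ∈ W) (hnd : NDon B W) :
    ∃ ν : Multiset ℕ, ν ≤ μ ∧ ν.sum = finrank F W ∧ ∀ a, Odd a → Even (ν.count a) := by
  classical
  have hfr : (Matrix.toLin' A) ^ r = 1 := by
    rw [← Matrix.toLin'_pow, hAr, Matrix.toLin'_one]
    rfl
  have hcompl : IsCompl W (B.orthogonal W) := isCompl_orth_of_NDon B halt W hnd
  have hW' : ∀ v ∈ B.orthogonal W, Matrix.toLin' A v ∈ B.orthogonal W :=
    orth_invariant hiso hr hfr W hW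
  obtain ⟨ν, hνμ, hνpos, hνT⟩ := Cfsg.Agent.Lib.H11.OrthReal.RankType.exists_restrict hT hpos W
    (B.orthogonal W) hcompl hW hW'
  obtain ⟨f₁, hf₁⟩ : ∃ f₁ : W →ₗ[F] W, f₁ = (Matrix.toLin' A).restrict hW := ⟨_, rfl⟩
  rw [← hf₁] at hνT
  have hf₁app : ∀ w : W, ((f₁ w : W) : ι → F) = Matrix.toLin' A w := by
    intro w
    rw [hf₁]
    rfl
  obtain ⟨b₁, hb₁⟩ : ∃ b₁ : Basis (Fin (finrank F W)) F W, b₁ = Module.finBasis F W := ⟨_, rfl⟩
  rw [← hb₁] at hνT
  obtain ⟨A₁, hA₁⟩ : ∃ A₁, A₁ = LinearMap.toMatrix b₁ b₁ f₁ := ⟨_, rfl⟩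
  rw [← hA₁] at hνT
  have hsum : ν.sum = finrank F W := by
    have := hνT 0
    rw [pow_zero, Matrix.rank_one, Fintype.card_fin] at this
    rw [this]
    simp
  obtain ⟨X, hX⟩ : ∃ X, X = LinearMap.BilinForm.toMatrix b₁ (B.restrict W) := ⟨_, rfl⟩
  have hXalt : ∀ v : Fin (finrank F W) → F, v ⬝ᵥ X *ᵥ v = 0 := by
    intro v
    rw [hX, LinearMap.BilinForm.dotProduct_toMatrix_mulVec, LinearMap.BilinForm.restrict_apply,
      LinearMap.domRestrict_apply]
    exact halt _
  have hres : (B.restrict W).Nondegenerate := by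
    constructor
    · intro w hw
      apply Subtype.ext
      apply hnd w.1 w.2
      intro v hv
      have := hw ⟨v, hv⟩
      rw [LinearMap.BilinForm.restrict_apply, LinearMap.domRestrict_apply] at this
      exact this
    · intro w hw
      apply Subtype.ext
      apply hnd w.1 w.2
      intro v hv
      have := hw ⟨v, hv⟩
      rw [LinearMap.BilinForm.restrict_apply, LinearMap.domRestrict_apply] at this
      exact alt_swap_zero B halt this
  have hXdet : IsUnit X.det := by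
    rw [isUnit_iff_ne_zero, hX]
    exact (LinearMap.BilinForm.nondegenerate_iff_det_ne_zero b₁).mp hres
  have hcomp : (B.restrict W).comp f₁ f₁ = B.restrict W := by
    apply LinearMap.ext₂
    intro u v
    rw [LinearMap.BilinForm.comp_apply, LinearMap.BilinForm.restrict_apply,
      LinearMap.BilinForm.restrict_apply, LinearMap.domRestrict_apply,
      LinearMap.domRestrict_apply, hf₁app, hf₁app, hiso]
  have hiso' : A₁ᵀ * X * A₁ = X := by
    have := LinearMap.BilinForm.toMatrix_comp b₁ b₁ (B.restrict W) f₁ f₁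
    rw [hcomp] at this
    rw [hA₁, hX]
    exact this.symm
  have hnil : IsNilpotent (A₁ - 1) := ⟨_, hνT.pow_eq_zero⟩
  obtain ⟨U, hU⟩ : IsUnit A₁ := by
    have := hnil.isUnit_one_add
    rwa [add_sub_cancel] at this
  have hA1 : A₁ * ((U⁻¹ : (Matrix (Fin (finrank F W)) (Fin (finrank F W)) F)ˣ) :
      Matrix (Fin (finrank F W)) (Fin (finrank F W)) F) = 1 := by
    rw [← hU]
    exact U.mul_inv
  have hev : ∀ i, Even (((A₁ - 1) ^ (2 * i)).rank) :=
    fun i => even_rank_of_isometry_alt X A₁ _ hXalt hXdet hA1 hiso' i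
  exact ⟨ν, hνμ, hsum, fun a ha => count_even_of_even_ranks hνT hev a ha⟩

end restrict

section nec

variable {F : Type*} [Field F] [Fintype F] {p : ℕ} [Fact p.Prime] [CharP F p]

/-- the partition condition is necessary -/
theorem uni_nec (hp2 : p ≠ 2) (d m : ℕ) (hd : 0 < d) (hme : Even m) (hmn : m ≤ 2 * d)
    (h : ∀ x : ↥(Matrix.symplecticGroup (Fin d) F),
      (x : Matrix (Fin d ⊕ Fin d) (Fin d ⊕ Fin d) F) ^ p = 1 →
      (∀ z : F, (x : Matrix (Fin d ⊕ Fin d) (Fin d ⊕ Fin d) F) ≠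
        z • (1 : Matrix (Fin d ⊕ Fin d) (Fin d ⊕ Fin d) F)) →
      ∃ W : Submodule F (Fin d ⊕ Fin d → F), finrank F W = m ∧ NDon (stdB d) W ∧
        ∀ v ∈ W, Matrix.toLin' (x : Matrix (Fin d ⊕ Fin d) (Fin d ⊕ Fin d) F) v ∈ W)
    (μ : Multiset ℕ) (hμ : ∀ a ∈ μ, 0 < a ∧ a ≤ p) (hpar : ∀ a : ℕ, Odd a → Even (μ.count a))
    (hsum : μ.sum = 2 * d) :
    ∃ ν : Multiset ℕ, ν ≤ μ ∧ ν.sum = m ∧ ∀ a : ℕ, Odd a → Even (ν.count a) := by
  classical
  have hpp : p.Prime := Fact.out
  by_cases hall : ∀ a ∈ μ, a = 1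
  · have h1 : μ = Multiset.replicate (Multiset.card μ) 1 := Multiset.eq_replicate.mpr ⟨rfl, hall⟩
    have h2 : Multiset.card μ = 2 * d := by
      rw [h1, Multiset.sum_replicate, smul_eq_mul, mul_one] at hsum
      exact hsum
    refine ⟨Multiset.replicate m 1, ?_, ?_, ?_⟩
    · rw [h1, h2]
      exact (Multiset.replicate_le_replicate 1).mpr hmn
    · rw [Multiset.sum_replicate, smul_eq_mul, mul_one]
    · intro a _
      rw [Multiset.count_replicate]
      split_ifs
      · exact hme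
      · exact ⟨0, rfl⟩
  · push Not at hall
    obtain ⟨a₀, ha₀, ha₀1⟩ := hall
    have hreal := spReal_of_parity (K := F) μ (fun a ha => (hμ a ha).1) hpar
    obtain ⟨A, hA, hT⟩ := hreal.exists_symplectic hsum
    have hAp0 : (A - 1) ^ p = 0 := by
      apply eq_zero_of_rank_eq_zero
      rw [hT p]
      apply Multiset.sum_eq_zero
      intro y hy
      rw [Multiset.mem_map] at hy
      obtain ⟨a, ha, rfl⟩ := hy
      have := (hμ a ha).2
      omega
    have hAp : A ^ p = 1 := by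
      rw [sub_one_pow_char] at hAp0
      exact sub_eq_zero.mp hAp0
    have hA1 : A ≠ 1 := by
      intro h1
      have h3 := hT 1
      rw [pow_one, h1, sub_self, Matrix.rank_zero] at h3
      have h4 := Multiset.sum_eq_zero_iff.mp h3.symm (a₀ - 1)
        (Multiset.mem_map.mpr ⟨a₀, ha₀, rfl⟩)
      have := (hμ a₀ ha₀).1
      omega
    obtain ⟨W, hWm, hWnd, hWinv⟩ := h ⟨A, hA⟩ hAp
      (sp_ne_smul_one d hd p hp2 ⟨A, hA⟩ hAp hA1)
    obtain ⟨ν, hνμ, hνsum, hνpar⟩ := exists_sub_type_alt (stdB d) (stdB_alt d) A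
      (sp_iso d ⟨A, hA⟩) hpp.pos hAp hT (fun a ha => (hμ a ha).1) W hWinv hWnd
    exact ⟨ν, hνμ, by rw [hνsum, hWm], hνpar⟩

end nec

end Cfsg.Agent.Lib.H24.Elus
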