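import Mathlib
import Cfsg.Agent.Lib.H24.ElusUniB
import Cfsg.Agent.Lib.H24.ElusUniC
import Cfsg.Agent.Lib.H24.ElusNdB
import Cfsg.Agent.Lib.H24.ElusNdC
import Cfsg.Agent.Lib.H24.ElusNdD
import Cfsg.Agent.Lib.H24.ElusNdF

set_option autoImplicit false

/-!
# Elements of prime order of `PSp_n(q)` and nondegenerate `m`-spaces (helper24)

`nd_elusive_iff` (S5956): for a prime `r` dividing the number of nondegenerate `m`-spaces of the
symplectic space of dimension `n = 2 d`, every element of order `r` of `PSp_n(q)` fixes a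
nondegenerate `m`-space iff one of four arithmetic conditions holds, according to whether
`r = p > 2`, `r = p = 2`, `r = 2 ≠ p` or `r ≠ p` is odd.
-/

namespace Cfsg.Agent.Lib.H24.Elus

open Polynomial Module
open Cfsg.Agent.Lib.H13

section main

variable {F : Type*} [Field F]

/-- the conclusion for one element -/
abbrev NdGood (d m : ℕ) (x : ↥(Matrix.symplecticGroup (Fin d) F)) : Prop :=
  ∃ W : Submodule F (Fin d ⊕ Fin d → F), Module.finrank F ↥W = m ∧
    (∀ u ∈ W, u ≠ 0 → ∃ v ∈ W, Cfsg.sympForm d F u v ≠ 0) ∧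
    W.map (Matrix.toLin' (x : Matrix (Fin d ⊕ Fin d) (Fin d ⊕ Fin d) F)) ≤ W

theorem ndGood_of_invariant (d m : ℕ) (x : ↥(Matrix.symplecticGroup (Fin d) F))
    (h : ∃ W : Submodule F (Fin d ⊕ Fin d → F), finrank F W = m ∧ NDon (stdB d) W ∧
      ∀ v ∈ W, Matrix.toLin' (x : Matrix (Fin d ⊕ Fin d) (Fin d ⊕ Fin d) F) v ∈ W) :
    NdGood d m x := by
  obtain ⟨W, h1, h2, h3⟩ := h
  refine ⟨W, h1, nd_of_NDon d W h2, ?_⟩
  rintro _ ⟨v, hv, rfl⟩
  exact h3 v hv

theorem invariant_of_ndGood (d m : ℕ) (x : ↥(Matrix.symplecticGroup (Fin d) F))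
    (h : NdGood d m x) :
    ∃ W : Submodule F (Fin d ⊕ Fin d → F), finrank F W = m ∧ NDon (stdB d) W ∧
      ∀ v ∈ W, Matrix.toLin' (x : Matrix (Fin d ⊕ Fin d) (Fin d ⊕ Fin d) F) v ∈ W := by
  obtain ⟨W, h1, h2, h3⟩ := h
  exact ⟨W, h1, NDon_of_nd d W h2, fun v hv => h3 (Submodule.mem_map_of_mem hv)⟩

/-- normalizing an element with `x ^ r` scalar, `r` odd -/
theorem sp_normalize [Fintype F] (d : ℕ) (hd : 0 < d) (r : ℕ) [Fact r.Prime] (hr2 : r ≠ 2)
    (x : ↥(Matrix.symplecticGroup (Fin d) F)) (z : F)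
    (hz : (x : Matrix (Fin d ⊕ Fin d) (Fin d ⊕ Fin d) F) ^ r = z • 1) :
    ∃ y : End F (Fin d ⊕ Fin d → F), y ^ r = 1 ∧
      (∀ u v, stdB d (y u) (y v) = stdB (F := F) d u v) ∧
      ∀ W : Submodule F (Fin d ⊕ Fin d → F), (∀ v ∈ W, y v ∈ W) →
        ∀ v ∈ W, Matrix.toLin' (x : Matrix (Fin d ⊕ Fin d) (Fin d ⊕ Fin d) F) v ∈ W := by
  have hr : r.Prime := Fact.out
  have hzz : z * z = 1 := by
    apply scalar_sq_of_mem_sp d hd z
    rw [← hz]
    exact (x ^ r).2
  have hz0 : z ≠ 0 := by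
    rintro rfl
    rw [mul_zero] at hzz
    exact zero_ne_one hzz
  have hzr : z ^ (r + 1) = 1 := by
    have hodd : r % 2 = 1 := by
      rcases hr.eq_two_or_odd with h | h
      · exact absurd h hr2
      · exact h
    have : r + 1 = 2 * ((r + 1) / 2) := by omega
    rw [this, pow_mul, pow_two, hzz, one_pow]
  obtain ⟨y₀, hy₀def⟩ : ∃ y₀, y₀ = Matrix.toLin' (x : Matrix (Fin d ⊕ Fin d) (Fin d ⊕ Fin d) F) :=
    ⟨_, rfl⟩
  rw [← hy₀def]
  have hy₀r : y₀ ^ r = z • 1 := by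
    rw [hy₀def, ← Matrix.toLin'_pow, hz, map_smul, Matrix.toLin'_one]
    rfl
  refine ⟨z • y₀, ?_, ?_, ?_⟩
  · rw [_root_.smul_pow, hy₀r, smul_smul, ← pow_succ, hzr, one_smul]
  · intro u v
    rw [LinearMap.smul_apply, LinearMap.smul_apply, map_smul, map_smul, LinearMap.smul_apply,
      smul_eq_mul, smul_eq_mul, ← mul_assoc, hzz, one_mul, hy₀def]
    exact sp_iso d x u v
  · intro W hW v hv
    have h5 := hW v hv
    rw [LinearMap.smul_apply] at h5
    have h6 := Submodule.smul_mem W z⁻¹ h5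
    rwa [smul_smul, inv_mul_cancel₀ hz0, one_smul] at h6

variable [Fintype F] {p : ℕ} [Fact p.Prime] [CharP F p]

/-- the case `r = p > 2` -/
theorem nd_caseA (hp2 : p ≠ 2) (d m : ℕ) (hd : 0 < d) (hme : Even m) (hmn : m ≤ 2 * d) :
    (∀ x : ↥(Matrix.symplecticGroup (Fin d) F),
      (∃ z : F, (x : Matrix (Fin d ⊕ Fin d) (Fin d ⊕ Fin d) F) ^ p = z • 1) →
      (∀ z : F, (x : Matrix (Fin d ⊕ Fin d) (Fin d ⊕ Fin d) F) ≠ z • 1) → NdGood d m x) ↔
    (∀ μ : Multiset ℕ, (∀ a ∈ μ, 0 < a ∧ a ≤ p) → (∀ a : ℕ, Odd a → Even (μ.count a)) →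
      μ.sum = 2 * d →
      ∃ ν : Multiset ℕ, ν ≤ μ ∧ ν.sum = m ∧ ∀ a : ℕ, Odd a → Even (ν.count a)) := by
  have hpp : p.Prime := Fact.out
  constructor
  · intro h μ hμ hpar hsum
    exact uni_nec hp2 d m hd hme hmn (fun x hx hns =>
      invariant_of_ndGood d m x (h x ⟨1, by rw [one_smul]; exact hx⟩ hns)) μ hμ hpar hsum
  · rintro hPC x ⟨z, hz⟩ -
    obtain ⟨y, hyr, hyiso, hyW⟩ := sp_normalize d hd p hp2 x z hz
    have h2 : (2 : F) ≠ 0 := by
      intro h
      have h1 : ((2 : ℕ) : F) = 0 := by rw [Nat.cast_ofNat]; exact h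
      rw [CharP.cast_eq_zero_iff F p 2] at h1
      have := Nat.le_of_dvd (by norm_num) h1
      have := hpp.two_le
      omega
    have hyN : ∀ v, y v = v + (y - 1) v := by
      intro v
      rw [LinearMap.sub_apply, Module.End.one_apply, add_sub_cancel]
    have hNp : ∀ v, ((y - 1) ^ p) v = 0 := by
      have hpoly : ((X : F[X]) - 1) ^ p = X ^ p - 1 := by rw [sub_pow_char, one_pow]
      have h1 := congrArg (aeval y) hpoly
      rw [map_pow, map_sub, map_sub, map_pow, aeval_X, map_one, hyr, sub_self] at h1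
      intro v
      rw [h1, LinearMap.zero_apply]
    obtain ⟨W, hW1, hW2, hW3⟩ := uni_exists_invariant (stdB_alt (F := F) d) hyiso hyN h2 p hNp
      hpp.pos hyr (stdB_NDon_top d) (2 * d) m (finrank_std d) hPC
    exact ndGood_of_invariant d m x ⟨W, hW1, hW2, hyW W hW3⟩

omit [Fact p.Prime] [CharP F p] in
/-- the case `r = p = 2` -/
theorem nd_caseB [CharP F 2] (d m : ℕ) (hd : 0 < d) (hme : Even m) (hmn : m ≤ 2 * d) :
    (∀ x : ↥(Matrix.symplecticGroup (Fin d) F),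
      (∃ z : F, (x : Matrix (Fin d ⊕ Fin d) (Fin d ⊕ Fin d) F) ^ 2 = z • 1) →
      (∀ z : F, (x : Matrix (Fin d ⊕ Fin d) (Fin d ⊕ Fin d) F) ≠ z • 1) → NdGood d m x) ↔
    ((2 * d) % 4 = 2 ∨ m % 4 = 0) := by
  constructor
  · intro h
    by_contra hcon
    push Not at hcon
    obtain ⟨k, hk⟩ := hme
    have hd4 : (2 * d) % 4 = 0 := by omega
    have hm4 : m % 4 = 2 := by omega
    obtain ⟨T, hT2, hTr, hTalt⟩ := SpInvolCount.exists_rep_swap (F := F) d (d / 2) (by omega)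
    have hTr' : ((T : Matrix (Fin d ⊕ Fin d) (Fin d ⊕ Fin d) F) - 1).rank = d := by
      rw [hTr]
      omega
    have hTsq : (T : Matrix (Fin d ⊕ Fin d) (Fin d ⊕ Fin d) F) ^ 2 = 1 := by
      rw [pow_two]
      exact congrArg Subtype.val hT2
    have hT1 : (T : Matrix (Fin d ⊕ Fin d) (Fin d ⊕ Fin d) F) ≠ 1 := by
      intro h1
      rw [h1, sub_self, Matrix.rank_zero] at hTr'
      omega
    have hns : ∀ z : F, (T : Matrix (Fin d ⊕ Fin d) (Fin d ⊕ Fin d) F) ≠ z • 1 := by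
      intro z hz
      have hzz : z * z = 1 := by
        apply scalar_sq_of_mem_sp d hd z
        rw [← hz]
        exact T.2
      have hz1 : z = 1 := by
        have h3 : (z + 1) * (z + 1) = 0 := by
          have h4 : (z + 1) * (z + 1) = z * z + (z + z) + 1 := by ring
          rw [h4, hzz, CharTwo.add_self_eq_zero z, add_zero, CharTwo.add_self_eq_zero]
        have h5 : z + 1 = 0 := mul_self_eq_zero.mp h3
        have h6 := CharTwo.add_self_eq_zero (1 : F)
        calc z = z + (1 + 1) := by rw [h6, add_zero]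
          _ = (z + 1) + 1 := by ring
          _ = 1 := by rw [h5, zero_add]
      apply hT1
      rw [hz, hz1, one_smul]
    obtain ⟨W, hW1, hW2, hW3⟩ := invariant_of_ndGood d m T
      (h T ⟨1, by rw [one_smul]; exact hTsq⟩ hns)
    obtain ⟨y, hy⟩ : ∃ y : End F (Fin d ⊕ Fin d → F),
        y = Matrix.toLin' (T : Matrix (Fin d ⊕ Fin d) (Fin d ⊕ Fin d) F) := ⟨_, rfl⟩
    rw [← hy] at hW3
    have hyy : ∀ v, y (y v) = v := by
      intro v
      rw [hy]
      exact SpInvolCount.toLin_sq d T hT2 v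
    have hyiso : ∀ u v, stdB d (y u) (y v) = stdB (F := F) d u v := by
      rw [hy]
      exact sp_iso d T
    have hNN : ∀ v, (y - 1) ((y - 1) v) = 0 := by
      intro v
      simp only [LinearMap.sub_apply, Module.End.one_apply, map_sub, hyy]
      have hvv : ∀ w : Fin d ⊕ Fin d → F, w + w = 0 := fun w => by
        rw [← two_smul F w, CharTwo.two_eq_zero, zero_smul]
      have h1 : v - y v - (y v - v) = (v + v) - (y v + y v) := by abel
      rw [h1, hvv, hvv, sub_zero]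
    have hNalt : ∀ v, stdB d v ((y - 1) v) = 0 := by
      intro v
      rw [LinearMap.sub_apply, Module.End.one_apply, map_sub, stdB_alt, sub_zero, stdB_apply, hy,
        Matrix.toLin'_apply]
      exact hTalt v
    have hrange : finrank F ↥(LinearMap.range (y - 1)) = d := by
      have h1 := hTr'
      rw [SpInvolCount.rank_eq] at h1
      rw [hy]
      exact h1
    have hker : LinearMap.ker (y - 1) ≤ LinearMap.range (y - 1) := by
      have hle : LinearMap.range (y - 1) ≤ LinearMap.ker (y - 1) := by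
        rintro _ ⟨v, rfl⟩
        exact LinearMap.mem_ker.mpr (hNN v)
      have hrn := LinearMap.finrank_range_add_finrank_ker (y - 1)
      rw [finrank_std] at hrn
      have heq := Submodule.eq_of_le_of_finrank_eq hle (by omega)
      rw [heq]
    have h4 := four_dvd_of_invariant (stdB_alt (F := F) d) y (y - 1) hyiso hyy
      (fun v => by rw [LinearMap.sub_apply, Module.End.one_apply]) hNN hNalt hker W hW3 hW2
    rw [hW1] at h4
    omega
  · rintro hcond x ⟨z, hz⟩ -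
    have hzz : z * z = 1 := by
      apply scalar_sq_of_mem_sp d hd z
      rw [← hz]
      exact (x ^ 2).2
    have hz1 : z = 1 := by
      have h3 : (z + 1) * (z + 1) = 0 := by
        have h4 : (z + 1) * (z + 1) = z * z + (z + z) + 1 := by ring
        rw [h4, hzz, CharTwo.add_self_eq_zero z, add_zero, CharTwo.add_self_eq_zero]
      have h5 : z + 1 = 0 := mul_self_eq_zero.mp h3
      have h6 := CharTwo.add_self_eq_zero (1 : F)
      calc z = z + (1 + 1) := by rw [h6, add_zero]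
        _ = (z + 1) + 1 := by ring
        _ = 1 := by rw [h5, zero_add]
    rw [hz1, one_smul] at hz
    have hyy : ∀ v, Matrix.toLin' (x : Matrix (Fin d ⊕ Fin d) (Fin d ⊕ Fin d) F)
        (Matrix.toLin' (x : Matrix (Fin d ⊕ Fin d) (Fin d ⊕ Fin d) F) v) = v := by
      intro v
      rw [← LinearMap.comp_apply, ← Matrix.toLin'_mul, ← pow_two, hz, Matrix.toLin'_one,
        LinearMap.id_apply]
    apply ndGood_of_invariant
    exact exists_nd_invariant_planes (stdB d) (stdB_alt d) (stdB_nd d) _ (sp_iso d x) hyy d m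
      (finrank_std d) hme hmn (by
        rcases hcond with h | h
        · left
          rw [Nat.odd_iff]
          omega
        · right
          exact h)

/-- the case `r = 2 ≠ p` -/
theorem nd_caseC (hp2 : p ≠ 2) (d m : ℕ) (hd : 0 < d) (hme : Even m) (hmn : m ≤ 2 * d)
    (x : ↥(Matrix.symplecticGroup (Fin d) F))
    (hx : ∃ z : F, (x : Matrix (Fin d ⊕ Fin d) (Fin d ⊕ Fin d) F) ^ 2 = z • 1) :
    NdGood d m x := by
  have hpp : p.Prime := Fact.out
  obtain ⟨z, hz⟩ := hx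
  have h2 : (2 : F) ≠ 0 := by
    intro h
    have h1 : ((2 : ℕ) : F) = 0 := by rw [Nat.cast_ofNat]; exact h
    rw [CharP.cast_eq_zero_iff F p 2] at h1
    have := Nat.le_of_dvd (by norm_num) h1
    have := hpp.two_le
    omega
  have hzz : z * z = 1 := by
    apply scalar_sq_of_mem_sp d hd z
    rw [← hz]
    exact (x ^ 2).2
  obtain ⟨y, hy⟩ : ∃ y : End F (Fin d ⊕ Fin d → F),
      y = Matrix.toLin' (x : Matrix (Fin d ⊕ Fin d) (Fin d ⊕ Fin d) F) := ⟨_, rfl⟩
  have hysq : y ^ 2 = z • 1 := by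
    rw [hy, ← Matrix.toLin'_pow, hz, map_smul, Matrix.toLin'_one]
    rfl
  have hyiso : ∀ u v, stdB d (y u) (y v) = stdB (F := F) d u v := by
    rw [hy]
    exact sp_iso d x
  apply ndGood_of_invariant
  rw [← hy]
  have hz' : (z - 1) * (z + 1) = 0 := by
    have : (z - 1) * (z + 1) = z * z - 1 := by ring
    rw [this, hzz, sub_self]
  rcases mul_eq_zero.mp hz' with h | h
  · have hz1 : z = 1 := sub_eq_zero.mp h
    rw [hz1, one_smul] at hysq
    exact exists_nd_invariant_invol h2 (stdB_alt d) hyiso hysq (stdB_NDon_top d) (2 * d) m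
      (finrank_std d) hme hmn
  · have hz1 : z = -1 := eq_neg_of_add_eq_zero_left h
    have hyy : ∀ v, y (y v) = -v := by
      intro v
      have := LinearMap.congr_fun hysq v
      rw [pow_two, Module.End.mul_apply, hz1, LinearMap.smul_apply, Module.End.one_apply,
        neg_one_smul] at this
      exact this
    exact exists_nd_invariant_neg h2 (stdB_alt d) hyiso hyy (stdB_NDon_top d) (2 * d) m
      (finrank_std d) hme hmn

/-- the case `r ≠ p` odd -/
theorem nd_caseD {q : ℕ} (hq : Fintype.card F = q) (d m : ℕ) (hd : 0 < d) (hme : Even m)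
    (hmn : m ≤ 2 * d) (r : ℕ) [Fact r.Prime] (hr2 : r ≠ 2) (hrp : r ≠ p)
    (hrΩ : r ∣ Nat.card (NdSub F d m)) (c : ℕ) (hc : c = cOf (orderOf (q : ZMod r))) :
    (∀ x : ↥(Matrix.symplecticGroup (Fin d) F),
      (∃ z : F, (x : Matrix (Fin d ⊕ Fin d) (Fin d ⊕ Fin d) F) ^ r = z • 1) →
      (∀ z : F, (x : Matrix (Fin d ⊕ Fin d) (Fin d ⊕ Fin d) F) ≠ z • 1) → NdGood d m x) ↔
    (c ≤ m ∧ m % c ≤ (2 * d) % c) := by
  constructor
  · intro h
    exact nd_nec_odd hq d m hd hme hmn r hr2 hrp hrΩ c hc (fun x hx hns =>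
      invariant_of_ndGood d m x (h x ⟨1, by rw [one_smul]; exact hx⟩ hns))
  · rintro hR x ⟨z, hz⟩ -
    obtain ⟨y, hyr, hyiso, hyW⟩ := sp_normalize d hd r hr2 x z hz
    obtain ⟨W, hW1, hW2, hW3⟩ := exists_nd_invariant hq hrp hr2 (stdB_alt (F := F) d) hyiso hyr
      (stdB_NDon_top d) (2 * d) m (finrank_std d) hme hmn c hc hR.2
    exact ndGood_of_invariant d m x ⟨W, hW1, hW2, hyW W hW3⟩


/-- **S5956** -/
theorem nd_elusive_iff {q : ℕ} (hq : Fintype.card F = q) (d m : ℕ) (hd : 2 ≤ d) (hme : Even m)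
    (hmd : m < d) (r : ℕ) [Fact r.Prime]
    (hrΩ : r ∣ Nat.card {W : Submodule F (Fin d ⊕ Fin d → F) // Module.finrank F ↥W = m ∧
      (∀ u ∈ W, u ≠ 0 → ∃ v ∈ W, Cfsg.sympForm d F u v ≠ 0)})
    (i c : ℕ) (hi : i = orderOf (q : ZMod r)) (hc : c = if Even i then i else 2 * i) :
    (∀ x : ↥(Matrix.symplecticGroup (Fin d) F),
      (∃ z : F, ((x ^ r : ↥(Matrix.symplecticGroup (Fin d) F)) :
        Matrix (Fin d ⊕ Fin d) (Fin d ⊕ Fin d) F) =
          z • (1 : Matrix (Fin d ⊕ Fin d) (Fin d ⊕ Fin d) F)) →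
      (∀ z : F, (x : Matrix (Fin d ⊕ Fin d) (Fin d ⊕ Fin d) F) ≠
        z • (1 : Matrix (Fin d ⊕ Fin d) (Fin d ⊕ Fin d) F)) →
      ∃ W : Submodule F (Fin d ⊕ Fin d → F), Module.finrank F ↥W = m ∧
        (∀ u ∈ W, u ≠ 0 → ∃ v ∈ W, Cfsg.sympForm d F u v ≠ 0) ∧
        W.map (Matrix.toLin' (x : Matrix (Fin d ⊕ Fin d) (Fin d ⊕ Fin d) F)) ≤ W) ↔
    ((r = p ∧ 2 < p ∧ (∀ μ : Multiset ℕ, (∀ a ∈ μ, 0 < a ∧ a ≤ p) →
        (∀ a : ℕ, Odd a → Even (μ.count a)) → μ.sum = 2 * d →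
        ∃ ν : Multiset ℕ, ν ≤ μ ∧ ν.sum = m ∧ ∀ a : ℕ, Odd a → Even (ν.count a))) ∨
     (r = p ∧ p = 2 ∧ ((2 * d) % 4 = 2 ∨ m % 4 = 0)) ∨
     (r = 2 ∧ p ≠ 2) ∨
     (r ≠ p ∧ 2 < r ∧ c ≤ m ∧ m % c ≤ (2 * d) % c)) := by
  have hc' : c = cOf (orderOf (q : ZMod r)) := by rw [hc, hi]; rfl
  have hd0 : 0 < d := by omega
  have hmn : m ≤ 2 * d := by omega
  have hr : r.Prime := Fact.out
  have hpp : p.Prime := Fact.out
  by_cases hrp : r = p
  · by_cases hp2 : p = 2
    · subst hp2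
      subst hrp
      refine (nd_caseB d m hd0 hme hmn).trans ⟨fun h => Or.inr (Or.inl ⟨rfl, rfl, h⟩), ?_⟩
      rintro (⟨_, h, _⟩ | ⟨_, _, h⟩ | ⟨_, h⟩ | ⟨h, _⟩)
      · exact absurd h (lt_irrefl 2)
      · exact h
      · exact absurd rfl h
      · exact absurd rfl h
    · subst hrp
      have h2r : 2 < r := lt_of_le_of_ne hr.two_le (Ne.symm hp2)
      refine (nd_caseA hp2 d m hd0 hme hmn).trans ⟨fun h => Or.inl ⟨rfl, h2r, h⟩, ?_⟩
      rintro (⟨_, _, h⟩ | ⟨_, h, _⟩ | ⟨h, _⟩ | ⟨h, _⟩)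
      · exact h
      · exact absurd h hp2
      · exact absurd h hp2
      · exact absurd rfl h
  · by_cases hr2 : r = 2
    · subst hr2
      have hp2 : p ≠ 2 := fun h => hrp h.symm
      constructor
      · intro _
        exact Or.inr (Or.inr (Or.inl ⟨rfl, hp2⟩))
      · rintro - x hx -
        exact nd_caseC hp2 d m hd0 hme hmn x hx
    · have h2r : 2 < r := lt_of_le_of_ne hr.two_le (Ne.symm hr2)
      refine (nd_caseD hq d m hd0 hme hmn r hr2 hrp hrΩ c hc').trans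
        ⟨fun h => Or.inr (Or.inr (Or.inr ⟨hrp, h2r, h⟩)), ?_⟩
      rintro (⟨h, _⟩ | ⟨h, _⟩ | ⟨h, _⟩ | ⟨_, _, h⟩)
      · exact absurd h hrp
      · exact absurd h hrp
      · exact absurd h hr2
      · exact h

end main

end Cfsg.Agent.Lib.H24.Elus
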