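import Cfsg.Agent.Lib.H24.ElusInv

set_option autoImplicit false

/-!
# Invariant decompositions and flags for `φ ^ r = c` (helper24)
-/

namespace Cfsg.Agent.Lib.H24.Elus

open Polynomial Module
open Cfsg.Agent.Lib.H13

variable {F : Type*} [Field F] [Fintype F] [DecidableEq F] {p q : ℕ} [Fact p.Prime] [CharP F p]

theorem aeval_smul_pow_sub_one {V : Type*} [AddCommGroup V] [Module F V] (r : ℕ) (φ : End F V)
    (c d : F) (hd : d ≠ 0) (hdc : d ^ r = c) (hφ : aeval φ (X ^ r - C c : F[X]) = 0) :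
    aeval (d⁻¹ • φ) (X ^ r - 1 : F[X]) = 0 := by
  rw [map_sub, map_pow, aeval_X, aeval_C, sub_eq_zero] at hφ
  rw [map_sub, map_pow, aeval_X, map_one, _root_.smul_pow, hφ, Algebra.algebraMap_eq_smul_one,
    smul_smul, ← hdc, inv_pow, inv_mul_cancel₀ (pow_ne_zero _ hd), one_smul, sub_self]

theorem exists_compl_of_pow_smul (hF : Fintype.card F = q) {r : ℕ} (hr : r.Prime) (hrp : r ≠ p)
    {V : Type*} [AddCommGroup V] [Module F V] [Module.Finite F V]
    (φ : End F V) (c : F) (hc : c ≠ 0) (hφ : aeval φ (X ^ r - C c : F[X]) = 0) (m : ℕ)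
    (hm : m ≤ finrank F V)
    (h1 : (∃ d : F, d ^ r = c) →
      m % orderOf (q : ZMod r) ≤ finrank F V % orderOf (q : ZMod r))
    (h2 : (∀ d : F, d ^ r ≠ c) → r ∣ m) :
    ∃ (U W : Submodule F V) (_ : ∀ v ∈ U, φ v ∈ U) (_ : ∀ v ∈ W, φ v ∈ W), IsCompl U W ∧
      finrank F U = m := by
  by_cases hex : ∃ d : F, d ^ r = c
  · obtain ⟨d, hd⟩ := hex
    have hd0 : d ≠ 0 := by
      rintro rfl
      rw [zero_pow hr.ne_zero] at hd
      exact hc hd.symm
    obtain ⟨U, W, hU, hW, hcompl, hfin⟩ := exists_compl_pow_one hF hr hrp (d⁻¹ • φ)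
      (aeval_smul_pow_sub_one r φ c d hd0 hd hφ) m hm (h1 ⟨d, hd⟩)
    have key : ∀ (S : Submodule F V), (∀ v ∈ S, (d⁻¹ • φ) v ∈ S) → ∀ v ∈ S, φ v ∈ S := by
      intro S hS v hv
      have := S.smul_mem d (hS v hv)
      rwa [LinearMap.smul_apply, smul_smul, mul_inv_cancel₀ hd0, one_smul] at this
    exact ⟨U, W, key U hU, key W hW, hcompl, hfin⟩
  · have hex : ∀ d : F, d ^ r ≠ c := fun d hd => hex ⟨d, hd⟩
    have hirr : Irreducible (X ^ r - C c : F[X]) := X_pow_sub_C_irreducible_of_prime hr hex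
    exact exists_compl_irred _ hirr φ hφ m hm (by
      rw [natDegree_X_pow_sub_C]
      exact h2 hex)

theorem exists_flag_of_pow_smul (hF : Fintype.card F = q) {r : ℕ} (hr : r.Prime) (hrp : r ≠ p)
    {V : Type*} [AddCommGroup V] [Module F V] [Module.Finite F V]
    (φ : End F V) (c : F) (hc : c ≠ 0) (hφ : aeval φ (X ^ r - C c : F[X]) = 0) (m : ℕ)
    (hm : 2 * m ≤ finrank F V)
    (h1 : (∃ d : F, d ^ r = c) →
      2 * (m % orderOf (q : ZMod r)) ≤ finrank F V % orderOf (q : ZMod r))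
    (h2 : (∀ d : F, d ^ r ≠ c) → r ∣ m) :
    ∃ (U W : Submodule F V), U ≤ W ∧ finrank F U = m ∧ finrank F W = finrank F V - m ∧
      (∀ v ∈ U, φ v ∈ U) ∧ (∀ v ∈ W, φ v ∈ W) := by
  obtain ⟨T, W, -, hW, hcompl, hT⟩ := exists_compl_of_pow_smul hF hr hrp φ c hc hφ m (by omega)
    (fun h => by have := h1 h; omega) h2
  have hWfin : finrank F W = finrank F V - m := by
    have := Submodule.finrank_add_eq_of_isCompl hcompl
    omega
  obtain ⟨U', -, hU', -, -, hU'fin⟩ := exists_compl_of_pow_smul hF hr hrp (φ.restrict hW) c hc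
    (aeval_restrict_eq_zero_of φ W hW _ hφ) m (by omega)
    (fun h => by
      rw [hWfin]
      exact flag_mod _ _ _ hm (h1 h)) h2
  refine ⟨U'.map W.subtype, W, ?_, ?_, hWfin, ?_, hW⟩
  · rintro _ ⟨w, -, rfl⟩
    exact w.2
  · rw [← hU'fin]
    exact (LinearEquiv.finrank_eq (Submodule.equivMapOfInjective W.subtype
      (Submodule.injective_subtype W) U')).symm
  · rintro _ ⟨w, hw, rfl⟩
    exact ⟨φ.restrict hW w, hU' w hw, rfl⟩

end Cfsg.Agent.Lib.H24.Elus
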