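import Mathlib
import Cfsg.Agent.Lib.H24.ElusTiTypes
import Cfsg.Agent.Lib.H24.ElusNdB

set_option autoImplicit false

/-!
# Totally isotropic subspaces and elements of odd prime order `r ≠ p`: necessity (helper24)

* `ti_nec_basic`: if every element of order `r` of `Sp_{2d}(q)` fixes a totally isotropic `m`-space
  (and `ord_r q` divides `2 (d - j)` for some `j < m`), then `i ≤ m` and `2 (m mod i) ≤ 2 d mod c`;
* `ti_nec_types`: for `i` even, moreover `(r - 1) / i + 2 (m / i) ≤ 2 d / i`.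
-/

namespace Cfsg.Agent.Lib.H24.Elus

open Polynomial Module
open Cfsg.Agent.Lib.H13

section nec

variable {F : Type*} [Field F] [Fintype F] {p q : ℕ} [Fact p.Prime] [CharP F p]

theorem ti_nec_basic (hq : Fintype.card F = q) (d m : ℕ) (hd : 0 < d) (hmd : m ≤ d)
    (r : ℕ) [Fact r.Prime] (hr2 : r ≠ 2) (hrp : r ≠ p)
    (j : ℕ) (hj : j < m) (hjr : orderOf (q : ZMod r) ∣ 2 * (d - j))
    (h : ∀ x : ↥(Matrix.symplecticGroup (Fin d) F),
      (x : Matrix (Fin d ⊕ Fin d) (Fin d ⊕ Fin d) F) ^ r = 1 →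
      (∀ z : F, (x : Matrix (Fin d ⊕ Fin d) (Fin d ⊕ Fin d) F) ≠
        z • (1 : Matrix (Fin d ⊕ Fin d) (Fin d ⊕ Fin d) F)) →
      ∃ W : Submodule F (Fin d ⊕ Fin d → F), finrank F W = m ∧ TIon (stdB d) W ∧
        ∀ v ∈ W, Matrix.toLin' (x : Matrix (Fin d ⊕ Fin d) (Fin d ⊕ Fin d) F) v ∈ W) :
    orderOf (q : ZMod r) ≤ m ∧
      2 * (m % orderOf (q : ZMod r)) ≤ (2 * d) % cOf (orderOf (q : ZMod r)) := by
  classical
  have hr : r.Prime := Fact.out
  have hi0 : 0 < orderOf (q : ZMod r) := CycFactor.orderOf_pos hq hr hrp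
  obtain ⟨c, hc⟩ : ∃ c, c = cOf (orderOf (q : ZMod r)) := ⟨_, rfl⟩
  rw [← hc]
  have hc0 : 0 < c := by rw [hc]; exact cOf_pos hi0
  obtain ⟨c', hc'⟩ : ∃ c', c = 2 * c' := by
    obtain ⟨k, hk⟩ := (hc ▸ cOf_even (orderOf (q : ZMod r)) : Even c)
    exact ⟨k, by omega⟩
  have hc'0 : 0 < c' := by omega
  have hic : orderOf (q : ZMod r) ≤ c := by
    rw [hc]
    exact Nat.le_of_dvd (cOf_pos hi0) (dvd_cOf _)
  have hcdvd : c ∣ 2 * (d - j) := by
    rw [hc]
    exact cOf_dvd_iff_dvd_two_mul _ _ hjr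
  obtain ⟨t, ht⟩ := hcdvd
  have hcn : c ≤ 2 * d := by
    have h1 : 0 < 2 * (d - j) := by omega
    have h2 := Nat.le_of_dvd h1 ⟨t, ht⟩
    omega
  obtain ⟨s, hs⟩ : ∃ s, s = d / c' := ⟨_, rfl⟩
  obtain ⟨e, he⟩ : ∃ e, e = d % c' := ⟨_, rfl⟩
  have hd' : d = s * c' + e := by
    rw [hs, he, mul_comm]
    exact (Nat.div_add_mod d c').symm
  have hec' : e < c' := by rw [he]; exact Nat.mod_lt _ hc'0
  have hs1 : 1 ≤ s := by
    rw [hs]
    exact (Nat.one_le_div_iff hc'0).mpr (by omega)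
  have hsc' : c' ≤ s * c' := Nat.le_mul_of_pos_left c' (by omega)
  obtain ⟨x, hx, hfix⟩ := exists_sp_test hq r hrp hr2 c' (by rw [← hc', hc]) e s d hd'
  obtain ⟨y, hy⟩ : ∃ y, y = Matrix.toLin' (x : Matrix (Fin d ⊕ Fin d) (Fin d ⊕ Fin d) F) :=
    ⟨_, rfl⟩
  rw [← hy] at hfix
  have hyr : y ^ r = 1 := by
    rw [hy, ← Matrix.toLin'_pow, hx, Matrix.toLin'_one]
    rfl
  have hyiso : ∀ u v, stdB d (y u) (y v) = stdB (F := F) d u v := by
    rw [hy]
    exact sp_iso d x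
  have hx1 : (x : Matrix (Fin d ⊕ Fin d) (Fin d ⊕ Fin d) F) ≠ 1 := by
    intro h1
    rw [hy, h1, Matrix.toLin'_one] at hfix
    have h2 : aeval (LinearMap.id : End F (Fin d ⊕ Fin d → F)) (X - 1 : F[X]) = 0 := by
      rw [map_sub, aeval_X, map_one]
      exact sub_self _
    rw [h2, LinearMap.ker_zero, finrank_top, finrank_std] at hfix
    omega
  obtain ⟨W, hWm, hWti, hWinv⟩ := h x hx (sp_ne_smul_one d hd r hr2 x hx hx1)
  rw [← hy] at hWinv
  have hmod := mod_of_invariant hq hr hrp y (aeval_pow_sub_one_of_pow hyr) W hWinv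
  rw [hWm] at hmod
  have hrF : (r : F) ≠ 0 := CycFactor.natCast_ne_zero hr hrp
  have hFixnd : NDon (stdB (F := F) d) (LinearMap.ker (aeval y (X - 1 : F[X]))) := by
    have := NDon_fix_part (stdB_alt (F := F) d) hyiso hrF hyr ⊤ (fun _ _ => Submodule.mem_top)
      (stdB_NDon_top d)
    rwa [top_inf_eq] at this
  have hle := finrank_isotropic_le (stdB_alt (F := F) d) _
    (W ⊓ LinearMap.ker (aeval y (X - 1 : F[X]))) hFixnd inf_le_right
    (TIon_mono _ inf_le_left hWti)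
  rw [hfix] at hle
  have hnmod : (2 * d) % c = 2 * e := by
    have h1 : 2 * d = c * s + 2 * e := by rw [hc', hd']; ring
    rw [h1, Nat.mul_add_mod, Nat.mod_eq_of_lt (by omega)]
  obtain ⟨f, hf⟩ : ∃ f, f = finrank F ↥(W ⊓ LinearMap.ker (aeval y (X - 1 : F[X]))) := ⟨_, rfl⟩
  rw [← hf] at hmod hle
  have hfmod : f % orderOf (q : ZMod r) ≤ f := Nat.mod_le _ _
  constructor
  · by_contra hlt
    push Not at hlt
    rw [Nat.mod_eq_of_lt hlt] at hmod
    have h2 : (2 * d) % c = (2 * j) % c := by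
      have h1 : 2 * d = 2 * j + c * t := by omega
      rw [h1, Nat.add_mul_mod_self_left]
    have h3 : (2 * j) % c ≤ 2 * j := Nat.mod_le _ _
    omega
  · rw [hnmod]
    omega

/-- the condition on the number of irreducible factors, `ord_r q` even -/
theorem ti_nec_types (hq : Fintype.card F = q) (d m : ℕ) (hd : 0 < d) (hmd : m ≤ d)
    (r : ℕ) [Fact r.Prime] (hr2 : r ≠ 2) (hrp : r ≠ p)
    (heven : Even (orderOf (q : ZMod r))) (him : orderOf (q : ZMod r) ≤ m)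
    (h : ∀ x : ↥(Matrix.symplecticGroup (Fin d) F),
      (x : Matrix (Fin d ⊕ Fin d) (Fin d ⊕ Fin d) F) ^ r = 1 →
      (∀ z : F, (x : Matrix (Fin d ⊕ Fin d) (Fin d ⊕ Fin d) F) ≠
        z • (1 : Matrix (Fin d ⊕ Fin d) (Fin d ⊕ Fin d) F)) →
      ∃ W : Submodule F (Fin d ⊕ Fin d → F), finrank F W = m ∧ TIon (stdB d) W ∧
        ∀ v ∈ W, Matrix.toLin' (x : Matrix (Fin d ⊕ Fin d) (Fin d ⊕ Fin d) F) v ∈ W) :
    (r - 1) / orderOf (q : ZMod r) + 2 * (m / orderOf (q : ZMod r)) ≤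
      (2 * d) / orderOf (q : ZMod r) := by
  classical
  have hr : r.Prime := Fact.out
  have hrF : (r : F) ≠ 0 := CycFactor.natCast_ne_zero hr hrp
  obtain ⟨i, hi⟩ : ∃ i, i = orderOf (q : ZMod r) := ⟨_, rfl⟩
  rw [← hi] at him heven ⊢
  have hi0 : 0 < i := by rw [hi]; exact CycFactor.orderOf_pos hq hr hrp
  obtain ⟨c', hc'⟩ := heven
  have hc : 2 * c' = orderOf (q : ZMod r) := by rw [← hi]; omega
  have hcard := CycFactor.card_S (F := F) hq hr hrp
  rw [← hi] at hcard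
  obtain ⟨t, ht⟩ : ∃ t, t = Fintype.card (CycFactor.S r F) := ⟨_, rfl⟩
  rw [← ht] at hcard
  have ht' : (r - 1) / i = t := by
    rw [← hcard]
    exact Nat.mul_div_cancel _ hi0
  rw [ht']
  by_contra hcon
  push Not at hcon
  have hm := Nat.div_add_mod m i
  have hn := Nat.div_add_mod (2 * d) i
  have hkl : (2 * d) % i < i := Nat.mod_lt _ hi0
  have hm'1 : 1 ≤ m / i := (Nat.one_le_div_iff hi0).mpr him
  have hn'm' : 2 * (m / i) ≤ 2 * d / i := by
    rw [Nat.le_div_iff_mul_le hi0]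
    have : 2 * (m / i) * i = 2 * (i * (m / i)) := by ring
    omega
  -- the number of types used
  obtain ⟨σ, hσ⟩ : ∃ σ, σ = 2 * d / i - 2 * (m / i) + 1 := ⟨_, rfl⟩
  have hσt : σ ≤ t := by omega
  obtain ⟨T, -, hT⟩ := Finset.exists_subset_card_eq
    (s := (Finset.univ : Finset (CycFactor.S r F))) (n := σ) (by rw [Finset.card_univ, ← ht]; exact hσt)
  have hiσ : i * σ + 2 * (i * (m / i)) = i * (2 * d / i) + i := by
    have h1 : σ + 2 * (m / i) = 2 * d / i + 1 := by omega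
    calc i * σ + 2 * (i * (m / i)) = i * (σ + 2 * (m / i)) := by ring
      _ = i * (2 * d / i + 1) := by rw [h1]
      _ = i * (2 * d / i) + i := by ring
  have hiσ' : i * σ = 2 * (σ * c') := by rw [hc']; ring
  obtain ⟨e, he⟩ : ∃ e, e = d - σ * c' := ⟨_, rfl⟩
  have hσd : σ * c' ≤ d := by
    have h1 : i * σ ≤ i * (2 * d / i) := by
      have : i ≤ i * (m / i) := Nat.le_mul_of_pos_right i hm'1
      omega
    omega
  have hem : e < m := by omega
  obtain ⟨x, hx, hxk, hxf⟩ := exists_sp_types hq r hrp hr2 c' hc e T d (by rw [hT]; omega)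
  obtain ⟨y, hy⟩ : ∃ y, y = Matrix.toLin' (x : Matrix (Fin d ⊕ Fin d) (Fin d ⊕ Fin d) F) :=
    ⟨_, rfl⟩
  rw [← hy] at hxf
  have hyr : y ^ r = 1 := by
    rw [hy, ← Matrix.toLin'_pow, hx, Matrix.toLin'_one]
    rfl
  have hyiso : ∀ u v, stdB d (y u) (y v) = stdB (F := F) d u v := by
    rw [hy]
    exact sp_iso d x
  have hx1 : (x : Matrix (Fin d ⊕ Fin d) (Fin d ⊕ Fin d) F) ≠ 1 := by
    intro h1
    rw [hy, h1, Matrix.toLin'_one] at hxf
    have h2 : aeval (LinearMap.id : End F (Fin d ⊕ Fin d → F)) (X - 1 : F[X]) = 0 := by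
      rw [map_sub, aeval_X, map_one]
      exact sub_self _
    rw [h2, LinearMap.ker_zero, finrank_top, finrank_std] at hxf
    omega
  obtain ⟨W, hWm, hWti, hWinv⟩ := h x hx (sp_ne_smul_one d hd r hr2 x hx hx1)
  rw [← hy] at hWinv
  -- the dimension of `W` by types
  have hirr := CycFactor.irreducible_fJ (F := F) (r := r)
  have hcop := CycFactor.coprime_fJ (F := F) hr hrp
  have hφ' : aeval y (∏ j, CycFactor.fJ (F := F) r j) = 0 := by
    rw [CycFactor.prod_fJ hr hrp]; exact aeval_pow_sub_one_of_pow hyr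
  obtain ⟨hsum, hdvd⟩ := invariant_mults (CycFactor.fJ (F := F) r) hirr hcop y hφ' W hWinv
  rw [Fintype.sum_option, hWm] at hsum
  have htopinv : ∀ v ∈ (⊤ : Submodule F (Fin d ⊕ Fin d → F)), y v ∈ (⊤ : Submodule F _) :=
    fun _ _ => Submodule.mem_top
  have hzero : ∀ s : CycFactor.S r F,
      finrank F ↥(W ⊓ LinearMap.ker (aeval y (CycFactor.fJ (F := F) r (some s)))) = 0 := by
    intro s
    have hnd : NDon (stdB (F := F) d) (LinearMap.ker (aeval y s.1)) := by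
      have := NDon_ker_factor hq hrp (stdB_alt (F := F) d) hyiso hyr (hi ▸ ⟨c', hc'⟩) s ⊤
        htopinv (stdB_NDon_top d)
      rwa [top_inf_eq] at this
    have hle := finrank_isotropic_le (stdB_alt (F := F) d) _
      (W ⊓ LinearMap.ker (aeval y s.1)) hnd inf_le_right (TIon_mono _ inf_le_left hWti)
    have hk := hxk s
    rw [← hy] at hk
    have hk' : finrank F ↥(LinearMap.ker (aeval y s.1)) ≤ i := by
      rw [hk]
      split_ifs <;> omega
    obtain ⟨k, hk2⟩ := hdvd (some s)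
    rw [CycFactor.natDegree_fJ_some hq hr hrp s, ← hi] at hk2
    change finrank F ↥(W ⊓ LinearMap.ker (aeval y s.1)) = i * k at hk2
    show finrank F ↥(W ⊓ LinearMap.ker (aeval y s.1)) = 0
    rw [hk2] at hle ⊢
    rcases Nat.eq_zero_or_pos k with h0 | hpos
    · rw [h0, mul_zero]
    · have : i ≤ i * k := Nat.le_mul_of_pos_right i hpos
      omega
  rw [Finset.sum_eq_zero (fun s _ => hzero s), add_zero] at hsum
  have hFixnd : NDon (stdB (F := F) d) (LinearMap.ker (aeval y (X - 1 : F[X]))) := by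
    have := NDon_fix_part (stdB_alt (F := F) d) hyiso hrF hyr ⊤ htopinv (stdB_NDon_top d)
    rwa [top_inf_eq] at this
  have hle := finrank_isotropic_le (stdB_alt (F := F) d) _
    (W ⊓ LinearMap.ker (aeval y (X - 1 : F[X]))) hFixnd inf_le_right
    (TIon_mono _ inf_le_left hWti)
  rw [hxf] at hle
  change finrank F ↥(W ⊓ LinearMap.ker (aeval y (X - 1 : F[X]))) = m at hsum
  omega

end nec

end Cfsg.Agent.Lib.H24.Elus
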