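import Mathlib
import Cfsg.Agent.Lib.H24.ElusTiCount
import Cfsg.Agent.Lib.H24.ElusTiTwo
import Cfsg.Agent.Lib.H24.ElusTiNec

set_option autoImplicit false

/-!
# Elements of prime order of `PSp_n(q)` and totally isotropic `m`-spaces (helper24)

`ti_elusive_iff` (S5955): for a prime `r` dividing the number of totally isotropic `m`-spaces of the
symplectic space of dimension `n = 2 d`, every element of order `r` of `PSp_n(q)` fixes a totally
isotropic `m`-space iff either `r = 2 ≠ p` and (`m` even or `q ≡ 1 mod 4`), or `r ≠ p` is odd,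
`i ≤ m`, `2 (m mod i) ≤ n mod c` and (`i` odd or `(r - 1) / i + 2 ⌊m / i⌋ ≤ ⌊n / i⌋`).
-/

namespace Cfsg.Agent.Lib.H24.Elus

open Polynomial Module
open Cfsg.Agent.Lib.H13

section main

variable {F : Type*} [Field F]

/-- the conclusion for one element -/
abbrev TiGood (d m : ℕ) (x : ↥(Matrix.symplecticGroup (Fin d) F)) : Prop :=
  ∃ W : Submodule F (Fin d ⊕ Fin d → F), Module.finrank F ↥W = m ∧
    (∀ u ∈ W, ∀ v ∈ W, Cfsg.sympForm d F u v = 0) ∧
    W.map (Matrix.toLin' (x : Matrix (Fin d ⊕ Fin d) (Fin d ⊕ Fin d) F)) ≤ W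

theorem tiGood_of_invariant (d m : ℕ) (x : ↥(Matrix.symplecticGroup (Fin d) F))
    (h : ∃ W : Submodule F (Fin d ⊕ Fin d → F), finrank F W = m ∧ TIon (stdB d) W ∧
      ∀ v ∈ W, Matrix.toLin' (x : Matrix (Fin d ⊕ Fin d) (Fin d ⊕ Fin d) F) v ∈ W) :
    TiGood d m x := by
  obtain ⟨W, h1, h2, h3⟩ := h
  refine ⟨W, h1, ?_, ?_⟩
  · intro u hu v hv
    rw [← stdB_apply]
    exact h2 u hu v hv
  · rintro _ ⟨v, hv, rfl⟩
    exact h3 v hv

theorem invariant_of_tiGood (d m : ℕ) (x : ↥(Matrix.symplecticGroup (Fin d) F))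
    (h : TiGood d m x) :
    ∃ W : Submodule F (Fin d ⊕ Fin d → F), finrank F W = m ∧ TIon (stdB d) W ∧
      ∀ v ∈ W, Matrix.toLin' (x : Matrix (Fin d ⊕ Fin d) (Fin d ⊕ Fin d) F) v ∈ W := by
  obtain ⟨W, h1, h2, h3⟩ := h
  refine ⟨W, h1, ?_, fun v hv => h3 (Submodule.mem_map_of_mem hv)⟩
  intro u hu v hv
  rw [stdB_apply]
  exact h2 u hu v hv

/-- normalizing an element with `x ^ r` scalar, `r` odd -/
theorem sp_normalize_ti [Fintype F] (d : ℕ) (hd : 0 < d) (r : ℕ) [Fact r.Prime] (hr2 : r ≠ 2)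
    (x : ↥(Matrix.symplecticGroup (Fin d) F)) (z : F)
    (hz : (x : Matrix (Fin d ⊕ Fin d) (Fin d ⊕ Fin d) F) ^ r = z • 1) :
    ∃ y : End F (Fin d ⊕ Fin d → F), y ^ r = 1 ∧
      (∀ u v, stdB d (y u) (y v) = stdB (F := F) d u v) ∧
      ∀ W : Submodule F (Fin d ⊕ Fin d → F), (∀ v ∈ W, y v ∈ W) →
        ∀ v ∈ W, Matrix.toLin' (x : Matrix (Fin d ⊕ Fin d) (Fin d ⊕ Fin d) F) v ∈ W := by
  have hr : r.Prime := Fact.out
  have hzz : z * z = 1 := by
    apply scalar_sq_of_mem_sp d hd z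
    rw [← hz]
    exact (x ^ r).2
  have hz0 : z ≠ 0 := by
    rintro rfl
    rw [mul_zero] at hzz
    exact zero_ne_one hzz
  have hzr : z ^ (r + 1) = 1 := by
    have hodd : r % 2 = 1 := by
      rcases hr.eq_two_or_odd with h | h
      · exact absurd h hr2
      · exact h
    have : r + 1 = 2 * ((r + 1) / 2) := by omega
    rw [this, pow_mul, pow_two, hzz, one_pow]
  obtain ⟨y₀, hy₀def⟩ : ∃ y₀, y₀ = Matrix.toLin' (x : Matrix (Fin d ⊕ Fin d) (Fin d ⊕ Fin d) F) :=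
    ⟨_, rfl⟩
  rw [← hy₀def]
  have hy₀r : y₀ ^ r = z • 1 := by
    rw [hy₀def, ← Matrix.toLin'_pow, hz, map_smul, Matrix.toLin'_one]
    rfl
  refine ⟨z • y₀, ?_, ?_, ?_⟩
  · rw [_root_.smul_pow, hy₀r, smul_smul, ← pow_succ, hzr, one_smul]
  · intro u v
    rw [LinearMap.smul_apply, LinearMap.smul_apply, map_smul, map_smul, LinearMap.smul_apply,
      smul_eq_mul, smul_eq_mul, ← mul_assoc, hzz, one_mul, hy₀def]
    exact sp_iso d x u v
  · intro W hW v hv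
    have h5 := hW v hv
    rw [LinearMap.smul_apply] at h5
    have h6 := Submodule.smul_mem W z⁻¹ h5
    rwa [smul_smul, inv_mul_cancel₀ hz0, one_smul] at h6

variable [Fintype F] {p : ℕ} [Fact p.Prime] [CharP F p]

/-- the case `r = 2 ≠ p` -/
theorem ti_caseTwo {q : ℕ} (hq : Fintype.card F = q) (hp2 : p ≠ 2) (d m : ℕ) (hd : 0 < d)
    (hmd : m ≤ d) :
    (∀ x : ↥(Matrix.symplecticGroup (Fin d) F),
      (∃ z : F, (x : Matrix (Fin d ⊕ Fin d) (Fin d ⊕ Fin d) F) ^ 2 = z • 1) →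
      (∀ z : F, (x : Matrix (Fin d ⊕ Fin d) (Fin d ⊕ Fin d) F) ≠ z • 1) → TiGood d m x) ↔
    (Even m ∨ q % 4 = 1) := by
  have hpp : p.Prime := Fact.out
  have h2 : (2 : F) ≠ 0 := by
    intro h
    have h1 : ((2 : ℕ) : F) = 0 := by rw [Nat.cast_ofNat]; exact h
    rw [CharP.cast_eq_zero_iff F p 2] at h1
    have := Nat.le_of_dvd (by norm_num) h1
    have := hpp.two_le
    omega
  have hqodd : q % 2 = 1 := by
    rw [← hq]
    apply FiniteField.odd_card_of_char_ne_two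
    rw [ringChar.eq F p]
    exact hp2
  constructor
  · intro h
    by_contra hcon
    push Not at hcon
    have hq3 : Fintype.card F % 4 = 3 := by
      rw [hq]
      omega
    have hns : ¬ IsSquare (-1 : F) := by
      rw [FiniteField.isSquare_neg_one_iff]
      exact fun h' => h' hq3
    -- the element `J`
    obtain ⟨x, hx⟩ : ∃ x : ↥(Matrix.symplecticGroup (Fin d) F),
        (x : Matrix (Fin d ⊕ Fin d) (Fin d ⊕ Fin d) F) = Matrix.J (Fin d) F :=
      ⟨⟨Matrix.J (Fin d) F, SymplecticGroup.J_mem (Fin d) F⟩, rfl⟩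
    have hxsq : (x : Matrix (Fin d ⊕ Fin d) (Fin d ⊕ Fin d) F) ^ 2 = (-1 : F) • 1 := by
      rw [hx, pow_two, Matrix.J_squared, neg_one_smul]
    have hns' : ∀ z : F, (x : Matrix (Fin d ⊕ Fin d) (Fin d ⊕ Fin d) F) ≠ z • 1 := by
      intro z hz
      have h1 := congrFun (congrFun hz (Sum.inl ⟨0, hd⟩)) (Sum.inr ⟨0, hd⟩)
      rw [hx, Matrix.J] at h1
      simp at h1
    obtain ⟨W, hWm, -, hWinv⟩ := invariant_of_tiGood d m x (h x ⟨-1, hxsq⟩ hns')
    have hyy : ∀ v, Matrix.toLin' (x : Matrix (Fin d ⊕ Fin d) (Fin d ⊕ Fin d) F)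
        (Matrix.toLin' (x : Matrix (Fin d ⊕ Fin d) (Fin d ⊕ Fin d) F) v) = -v := by
      intro v
      rw [← Matrix.toLin'_mul_apply, ← pow_two, hxsq, map_smul, Matrix.toLin'_one,
        LinearMap.smul_apply, LinearMap.id_apply, neg_one_smul]
    have := even_finrank_of_neg hyy hns W hWinv
    rw [hWm] at this
    exact hcon.1 this
  · rintro hcond x ⟨z, hz⟩ -
    have hzz : z * z = 1 := by
      apply scalar_sq_of_mem_sp d hd z
      rw [← hz]
      exact (x ^ 2).2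
    obtain ⟨y, hy⟩ : ∃ y : End F (Fin d ⊕ Fin d → F),
        y = Matrix.toLin' (x : Matrix (Fin d ⊕ Fin d) (Fin d ⊕ Fin d) F) := ⟨_, rfl⟩
    have hysq : y ^ 2 = z • 1 := by
      rw [hy, ← Matrix.toLin'_pow, hz, map_smul, Matrix.toLin'_one]
      rfl
    have hyiso : ∀ u v, stdB d (y u) (y v) = stdB (F := F) d u v := by
      rw [hy]
      exact sp_iso d x
    apply tiGood_of_invariant
    rw [← hy]
    have hz' : (z - 1) * (z + 1) = 0 := by
      have : (z - 1) * (z + 1) = z * z - 1 := by ring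
      rw [this, hzz, sub_self]
    rcases mul_eq_zero.mp hz' with h | h
    · have hz1 : z = 1 := sub_eq_zero.mp h
      rw [hz1, one_smul] at hysq
      exact exists_ti_invol h2 (stdB_alt d) hyiso hysq (stdB_NDon_top d) d m (finrank_std d) hmd
    · have hz1 : z = -1 := eq_neg_of_add_eq_zero_left h
      have hyy : ∀ v, y (y v) = -v := by
        intro v
        have := LinearMap.congr_fun hysq v
        rw [pow_two, Module.End.mul_apply, hz1, LinearMap.smul_apply, Module.End.one_apply,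
          neg_one_smul] at this
        exact this
      rcases hcond with hme | hq1
      · exact exists_ti_neg_even h2 (stdB_alt d) hyiso hyy (stdB_NDon_top d) d m (finrank_std d)
          hmd hme
      · have hsq : IsSquare (-1 : F) := by
          rw [FiniteField.isSquare_neg_one_iff, hq]
          omega
        obtain ⟨ι, hι⟩ := hsq
        exact exists_ti_neg_split h2 hyiso hyy ι hι.symm d m (finrank_std d) hmd

/-- the case `r ≠ p` odd -/
theorem ti_caseOdd {q : ℕ} (hq : Fintype.card F = q) (d m : ℕ) (hd : 0 < d) (hmd : m ≤ d)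
    (r : ℕ) [Fact r.Prime] (hr2 : r ≠ 2) (hrp : r ≠ p)
    (j : ℕ) (hj : j < m) (hjr : orderOf (q : ZMod r) ∣ 2 * (d - j))
    (i : ℕ) (hi : i = orderOf (q : ZMod r)) :
    (∀ x : ↥(Matrix.symplecticGroup (Fin d) F),
      (∃ z : F, (x : Matrix (Fin d ⊕ Fin d) (Fin d ⊕ Fin d) F) ^ r = z • 1) →
      (∀ z : F, (x : Matrix (Fin d ⊕ Fin d) (Fin d ⊕ Fin d) F) ≠ z • 1) → TiGood d m x) ↔
    (i ≤ m ∧ 2 * (m % i) ≤ (2 * d) % cOf i ∧
      (Odd i ∨ (r - 1) / i + 2 * (m / i) ≤ (2 * d) / i)) := by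
  constructor
  · intro h
    have h' : ∀ x : ↥(Matrix.symplecticGroup (Fin d) F),
        (x : Matrix (Fin d ⊕ Fin d) (Fin d ⊕ Fin d) F) ^ r = 1 →
        (∀ z : F, (x : Matrix (Fin d ⊕ Fin d) (Fin d ⊕ Fin d) F) ≠
          z • (1 : Matrix (Fin d ⊕ Fin d) (Fin d ⊕ Fin d) F)) →
        ∃ W : Submodule F (Fin d ⊕ Fin d → F), finrank F W = m ∧ TIon (stdB d) W ∧
          ∀ v ∈ W, Matrix.toLin' (x : Matrix (Fin d ⊕ Fin d) (Fin d ⊕ Fin d) F) v ∈ W :=
      fun x hx hns => invariant_of_tiGood d m x (h x ⟨1, by rw [one_smul]; exact hx⟩ hns)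
    obtain ⟨h1, h2⟩ := ti_nec_basic hq d m hd hmd r hr2 hrp j hj hjr h'
    rw [← hi] at h1 h2
    refine ⟨h1, h2, ?_⟩
    by_cases heven : Even i
    · right
      have := ti_nec_types hq d m hd hmd r hr2 hrp (hi ▸ heven) (hi ▸ h1) h'
      rw [← hi] at this
      exact this
    · left
      exact Nat.not_even_iff_odd.mp heven
  · rintro ⟨-, h2, h3⟩ x ⟨z, hz⟩ -
    obtain ⟨y, hyr, hyiso, hyW⟩ := sp_normalize_ti d hd r hr2 x z hz
    obtain ⟨W, hW1, hW2, hW3⟩ := exists_ti_invariant hq hrp hr2 (stdB_alt (F := F) d) hyiso hyr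
      (stdB_NDon_top d) d m (finrank_std d) hmd i hi h2 h3
    exact tiGood_of_invariant d m x ⟨W, hW1, hW2, hyW W hW3⟩

/-- **S5955** -/
theorem ti_elusive_iff {q : ℕ} (hq : Fintype.card F = q) (d m : ℕ) (hd : 2 ≤ d) (hm : 1 ≤ m)
    (hmd : m ≤ d) (r : ℕ) [Fact r.Prime]
    (hrΩ : r ∣ Nat.card {W : Submodule F (Fin d ⊕ Fin d → F) // Module.finrank F ↥W = m ∧
      (∀ u ∈ W, ∀ v ∈ W, Cfsg.sympForm d F u v = 0)})
    (i c : ℕ) (hi : i = orderOf (q : ZMod r)) (hc : c = if Even i then i else 2 * i) :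
    (∀ x : ↥(Matrix.symplecticGroup (Fin d) F),
      (∃ z : F, ((x ^ r : ↥(Matrix.symplecticGroup (Fin d) F)) :
        Matrix (Fin d ⊕ Fin d) (Fin d ⊕ Fin d) F) =
          z • (1 : Matrix (Fin d ⊕ Fin d) (Fin d ⊕ Fin d) F)) →
      (∀ z : F, (x : Matrix (Fin d ⊕ Fin d) (Fin d ⊕ Fin d) F) ≠
        z • (1 : Matrix (Fin d ⊕ Fin d) (Fin d ⊕ Fin d) F)) →
      ∃ W : Submodule F (Fin d ⊕ Fin d → F), Module.finrank F ↥W = m ∧
        (∀ u ∈ W, ∀ v ∈ W, Cfsg.sympForm d F u v = 0) ∧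
        W.map (Matrix.toLin' (x : Matrix (Fin d ⊕ Fin d) (Fin d ⊕ Fin d) F)) ≤ W) ↔
    ((r = 2 ∧ p ≠ 2 ∧ (Even m ∨ q % 4 = 1)) ∨
     (r ≠ p ∧ 2 < r ∧ i ≤ m ∧ 2 * (m % i) ≤ (2 * d) % c ∧
       (Odd i ∨ (r - 1) / i + 2 * (m / i) ≤ (2 * d) / i))) := by
  have hc' : c = cOf i := by rw [hc]; rfl
  have hd0 : 0 < d := by omega
  have hr : r.Prime := Fact.out
  have hpp : p.Prime := Fact.out
  -- the arithmetic consequence of `r ∣ |Ω|`
  have hcard : Nat.card {W : Submodule F (Fin d ⊕ Fin d → F) // Module.finrank F ↥W = m ∧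
      (∀ u ∈ W, ∀ v ∈ W, Cfsg.sympForm d F u v = 0)} = Nat.card (TiSub (stdB (F := F) d) m) := by
    apply Nat.card_congr
    apply Equiv.subtypeEquivRight
    intro W
    simp only [stdB_apply]
  rw [hcard] at hrΩ
  obtain ⟨j, hj, hjr⟩ := exists_of_dvd_card_tisub (stdB (F := F) d) (stdB_alt d) (stdB_nd d) m
    (by rw [finrank_std]; omega) r hr hrΩ
  rw [finrank_std, hq] at hjr
  have hq1 : 1 ≤ q ^ (2 * d - 2 * j) := Nat.one_le_pow _ _ (by rw [← hq]; exact Fintype.card_pos)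
  have hrp : r ≠ p := by
    intro hrp
    obtain ⟨n, -, hn⟩ := FiniteField.card F p
    rw [hq] at hn
    have h1 : p ∣ q ^ (2 * d - 2 * j) := by
      rw [hn, ← pow_mul]
      exact dvd_pow_self p (by
        have := n.pos
        have : 0 < 2 * d - 2 * j := by omega
        positivity)
    rw [hrp] at hjr
    have h2 := (Nat.dvd_sub h1 hjr)
    have h3 : q ^ (2 * d - 2 * j) - (q ^ (2 * d - 2 * j) - 1) = 1 := by omega
    rw [h3] at h2
    exact hpp.one_lt.ne' (Nat.dvd_one.mp h2)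
  have hjr' : orderOf (q : ZMod r) ∣ 2 * (d - j) := by
    rw [← ZMod.natCast_eq_zero_iff, Nat.cast_sub hq1, Nat.cast_pow, Nat.cast_one, sub_eq_zero]
      at hjr
    have h4 : 2 * (d - j) = 2 * d - 2 * j := by omega
    rw [h4]
    exact orderOf_dvd_iff_pow_eq_one.mpr hjr
  by_cases hr2 : r = 2
  · subst hr2
    have hp2 : p ≠ 2 := fun h => hrp h.symm
    refine (ti_caseTwo hq hp2 d m hd0 hmd).trans ⟨fun h => Or.inl ⟨rfl, hp2, h⟩, ?_⟩
    rintro (⟨_, _, h⟩ | ⟨_, h, _⟩)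
    · exact h
    · exact absurd h (lt_irrefl 2)
  · have h2r : 2 < r := lt_of_le_of_ne hr.two_le (Ne.symm hr2)
    rw [hc']
    refine (ti_caseOdd hq d m hd0 hmd r hr2 hrp j hj hjr' i hi).trans
      ⟨fun h => Or.inr ⟨hrp, h2r, h⟩, ?_⟩
    rintro (⟨h, _⟩ | ⟨_, _, h⟩)
    · exact absurd h hr2
    · exact h

end main

end Cfsg.Agent.Lib.H24.Elus
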