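import Mathlib
import Cfsg.Agent.Lib.H26.EssDefs

/-!
# S5188-P6 common lemmas (helper24): groups of order 16 with elementary abelian centre of order 4
-/

set_option autoImplicit false

namespace Cfsg.Agent.Lib.H24.Ess

open Subgroup

variable {G : Type*} [Group G] [Finite G]

theorem p6_card_quot (hcard : Nat.card G = 2 ^ 4) (hZ : Nat.card (center G) = 2 ^ 2) :
    Nat.card (G ⧸ center G) = 2 ^ 2 := by
  have h := Subgroup.card_eq_card_quotient_mul_card_subgroup (center G)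
  rw [hcard, hZ] at h
  omega

/-- commutators are central -/
theorem p6_comm_mem (hcard : Nat.card G = 2 ^ 4) (hZ : Nat.card (center G) = 2 ^ 2) (g h : G) :
    g * h * g⁻¹ * h⁻¹ ∈ center G := by
  haveI : Fact (Nat.Prime 2) := ⟨Nat.prime_two⟩
  have hcomm := IsPGroup.commutative_of_card_eq_prime_sq (p := 2) (p6_card_quot hcard hZ)
  rw [← QuotientGroup.eq_one_iff]
  have h1 : ((g * h * g⁻¹ * h⁻¹ : G) : G ⧸ center G)
      = (g : G ⧸ center G) * (h : G ⧸ center G) * (g : G ⧸ center G)⁻¹ * (h : G ⧸ center G)⁻¹ := rfl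
  rw [h1, hcomm (g : G ⧸ center G) (h : G ⧸ center G)]
  group

/-- bimultiplicativity of the commutator in the first variable -/
theorem p6_comm_mul_left (hc : ∀ g h : G, g * h * g⁻¹ * h⁻¹ ∈ center G) (a b h : G) :
    (a * b) * h * (a * b)⁻¹ * h⁻¹ = (a * h * a⁻¹ * h⁻¹) * (b * h * b⁻¹ * h⁻¹) := by
  have hk : ∀ g : G, g * (b * h * b⁻¹ * h⁻¹) = (b * h * b⁻¹ * h⁻¹) * g := by
    intro g
    exact (Subgroup.mem_center_iff.1 (hc b h) g)
  calc (a * b) * h * (a * b)⁻¹ * h⁻¹ = a * (b * h * b⁻¹ * h⁻¹) * (h * a⁻¹ * h⁻¹) := by group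
    _ = (b * h * b⁻¹ * h⁻¹) * a * (h * a⁻¹ * h⁻¹) := by rw [hk a]
    _ = (b * h * b⁻¹ * h⁻¹) * (a * h * a⁻¹ * h⁻¹) := by group
    _ = (a * h * a⁻¹ * h⁻¹) * (b * h * b⁻¹ * h⁻¹) := by rw [← hk]

/-- bimultiplicativity of the commutator in the second variable -/
theorem p6_comm_mul_right (hc : ∀ g h : G, g * h * g⁻¹ * h⁻¹ ∈ center G) (g a b : G) :
    g * (a * b) * g⁻¹ * (a * b)⁻¹ = (g * a * g⁻¹ * a⁻¹) * (g * b * g⁻¹ * b⁻¹) := by
  have hk : ∀ u : G, u * (g * b * g⁻¹ * b⁻¹) = (g * b * g⁻¹ * b⁻¹) * u := by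
    intro u
    exact (Subgroup.mem_center_iff.1 (hc g b) u)
  calc g * (a * b) * g⁻¹ * (a * b)⁻¹ = (g * a * g⁻¹) * (g * b * g⁻¹ * b⁻¹) * a⁻¹ := by group
    _ = (g * a * g⁻¹) * ((g * b * g⁻¹ * b⁻¹) * a⁻¹) := by group
    _ = (g * a * g⁻¹) * (a⁻¹ * (g * b * g⁻¹ * b⁻¹)) := by rw [hk a⁻¹]
    _ = (g * a * g⁻¹ * a⁻¹) * (g * b * g⁻¹ * b⁻¹) := by group

theorem p6_comm_of_central {z : G} (hz : z ∈ center G) (h : G) : z * h * z⁻¹ * h⁻¹ = 1 := by
  have := Subgroup.mem_center_iff.1 hz h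
  calc z * h * z⁻¹ * h⁻¹ = (z * h) * z⁻¹ * h⁻¹ := by group
    _ = (h * z) * z⁻¹ * h⁻¹ := by rw [this]
    _ = 1 := by group

theorem p6_comm_of_central' {z : G} (hz : z ∈ center G) (g : G) : g * z * g⁻¹ * z⁻¹ = 1 := by
  have := Subgroup.mem_center_iff.1 hz g
  calc g * z * g⁻¹ * z⁻¹ = (g * z) * g⁻¹ * z⁻¹ := by group
    _ = (z * g) * g⁻¹ * z⁻¹ := by rw [this]
    _ = 1 := by group

/-- squares are central -/
theorem p6_sq_mem (hcard : Nat.card G = 2 ^ 4) (hZ : Nat.card (center G) = 2 ^ 2)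
    (hZe : ∀ z ∈ center G, z ^ 2 = 1) (g : G) : g ^ 2 ∈ center G := by
  have hc := p6_comm_mem (G := G) hcard hZ
  rw [Subgroup.mem_center_iff]
  intro h
  have h1 := p6_comm_mul_left hc g g h
  have h2 : (g * h * g⁻¹ * h⁻¹) * (g * h * g⁻¹ * h⁻¹) = 1 := by
    rw [← pow_two]
    exact hZe _ (hc g h)
  rw [h2] at h1
  rw [pow_two]
  have h3 := mul_inv_eq_one.1 h1
  exact (mul_inv_eq_iff_eq_mul.1 h3).symm

/-- enumeration of `G` by the four cosets of the centre -/
theorem p6_enum (hcard : Nat.card G = 2 ^ 4) (hZ : Nat.card (center G) = 2 ^ 2)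
    (hZe : ∀ z ∈ center G, z ^ 2 = 1) (x y : G) (hx : x ∉ center G) (hy : y ∉ center G)
    (hxy : x⁻¹ * y ∉ center G) (g : G) :
    ∃ z ∈ center G, g = z ∨ g = x * z ∨ g = y * z ∨ g = x * y * z := by
  classical
  have := Fintype.ofFinite (G ⧸ center G)
  have hq := p6_card_quot hcard hZ
  have hx1 : (x : G ⧸ center G) ≠ 1 := fun h => hx ((QuotientGroup.eq_one_iff x).1 h)
  have hy1 : (y : G ⧸ center G) ≠ 1 := fun h => hy ((QuotientGroup.eq_one_iff y).1 h)
  have hxy1 : (x : G ⧸ center G) ≠ (y : G ⧸ center G) := fun h => hxy (QuotientGroup.eq.1 h)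
  have hp1 : ((x * y : G) : G ⧸ center G) ≠ 1 := by
    intro h
    have h1 : x * y ∈ center G := (QuotientGroup.eq_one_iff _).1 h
    have h2 : x ^ 2 ∈ center G := p6_sq_mem hcard hZ hZe x
    apply hxy
    have : x⁻¹ * y = (x ^ 2)⁻¹ * (x * y) := by rw [pow_two]; group
    rw [this]
    exact (center G).mul_mem ((center G).inv_mem h2) h1
  have hpx : ((x * y : G) : G ⧸ center G) ≠ (x : G ⧸ center G) := by
    intro h
    have h1 : (x * y)⁻¹ * x ∈ center G := QuotientGroup.eq.1 h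
    apply hy
    have : y = ((x * y)⁻¹ * x)⁻¹ := by group
    rw [this]
    exact (center G).inv_mem h1
  have hpy : ((x * y : G) : G ⧸ center G) ≠ (y : G ⧸ center G) := by
    intro h
    have h1 : (x * y)⁻¹ * y ∈ center G := QuotientGroup.eq.1 h
    apply hx
    have h2 : y * ((x * y)⁻¹ * y)⁻¹ * y⁻¹ ∈ center G :=
      (inferInstance : (center G).Normal).conj_mem _ ((center G).inv_mem h1) y
    have : x = y * ((x * y)⁻¹ * y)⁻¹ * y⁻¹ := by group
    rw [this]
    exact h2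
  have e1 : (1 : G ⧸ center G) ∉ ({(x : G ⧸ center G), (y : G ⧸ center G),
      ((x * y : G) : G ⧸ center G)} : Finset (G ⧸ center G)) := by
    simp only [Finset.mem_insert, Finset.mem_singleton, not_or]
    exact ⟨fun h => hx1 h.symm, fun h => hy1 h.symm, fun h => hp1 h.symm⟩
  have e2 : (x : G ⧸ center G) ∉ ({(y : G ⧸ center G),
      ((x * y : G) : G ⧸ center G)} : Finset (G ⧸ center G)) := by
    simp only [Finset.mem_insert, Finset.mem_singleton, not_or]
    exact ⟨hxy1, fun h => hpx h.symm⟩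
  have e3 : (y : G ⧸ center G) ∉ ({((x * y : G) : G ⧸ center G)} : Finset (G ⧸ center G)) := by
    simp only [Finset.mem_singleton]
    exact fun h => hpy h.symm
  have hS : (insert (1 : G ⧸ center G) (insert (x : G ⧸ center G) (insert (y : G ⧸ center G)
      ({((x * y : G) : G ⧸ center G)} : Finset (G ⧸ center G))))).card = 4 := by
    rw [Finset.card_insert_of_notMem e1, Finset.card_insert_of_notMem e2,
      Finset.card_insert_of_notMem e3, Finset.card_singleton]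
  have hSu : (insert (1 : G ⧸ center G) (insert (x : G ⧸ center G) (insert (y : G ⧸ center G)
      ({((x * y : G) : G ⧸ center G)} : Finset (G ⧸ center G))))) = Finset.univ := by
    apply Finset.eq_univ_of_card
    rw [hS, Fintype.card_eq_nat_card, hq]
    norm_num
  have hg : (g : G ⧸ center G) ∈ (insert (1 : G ⧸ center G) (insert (x : G ⧸ center G)
      (insert (y : G ⧸ center G) ({((x * y : G) : G ⧸ center G)} : Finset (G ⧸ center G))))) := by
    rw [hSu]; exact Finset.mem_univ _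
  simp only [Finset.mem_insert, Finset.mem_singleton] at hg
  rcases hg with h | h | h | h
  · exact ⟨g, (QuotientGroup.eq_one_iff g).1 h, Or.inl rfl⟩
  · have h1 : x⁻¹ * g ∈ center G := QuotientGroup.eq.1 h.symm
    exact ⟨x⁻¹ * g, h1, Or.inr (Or.inl (by group))⟩
  · have h1 : y⁻¹ * g ∈ center G := QuotientGroup.eq.1 h.symm
    exact ⟨y⁻¹ * g, h1, Or.inr (Or.inr (Or.inl (by group)))⟩
  · have h1 : (x * y)⁻¹ * g ∈ center G := QuotientGroup.eq.1 h.symm
    exact ⟨(x * y)⁻¹ * g, h1, Or.inr (Or.inr (Or.inr (by group)))⟩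

/-- powers indexed by `ZMod n` -/
theorem p6_pow_val_add {n : ℕ} [NeZero n] (x : G) (hx : x ^ n = 1) (i j : ZMod n) :
    x ^ (i + j).val = x ^ i.val * x ^ j.val := by
  rw [ZMod.val_add, ← pow_add, ← pow_eq_pow_mod _ hx]

end Cfsg.Agent.Lib.H24.Ess
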