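import Mathlib
import Cfsg.Agent.Lib.H24.EssP6Core

/-!
# S5188-P6a (helper24): an automorphism of odd order gives quaternion generators
-/

set_option autoImplicit false

namespace Cfsg.Agent.Lib.H24.Ess

open Subgroup Cfsg.Agent.Lib.H26.Ess

variable {G : Type*} [Group G]

theorem p6_aut_center (α : MulAut G) {z : G} (hz : z ∈ center G) : α z ∈ center G := by
  rw [Subgroup.mem_center_iff] at hz ⊢
  intro g
  have h1 := hz (α⁻¹ g)
  have h2 := congrArg α h1
  rw [map_mul, map_mul, MulAut.apply_inv_self] at h2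
  exact h2

theorem p6_aut_center' (α : MulAut G) {z : G} (hz : α z ∈ center G) : z ∈ center G := by
  have := p6_aut_center α⁻¹ hz
  rwa [MulAut.inv_apply_self] at this

/-- all commutators lie in `{1, c}` -/
theorem p6_comm_cases [Finite G] (hcard : Nat.card G = 2 ^ 4) (hZ : Nat.card (center G) = 2 ^ 2)
    (hZe : ∀ z ∈ center G, z ^ 2 = 1) (x0 y0 : G) (h0 : x0 * y0 ≠ y0 * x0) (g h : G) :
    g * h * g⁻¹ * h⁻¹ = 1 ∨ g * h * g⁻¹ * h⁻¹ = x0 * y0 * x0⁻¹ * y0⁻¹ := by
  have hcm := p6_comm_mem (G := G) hcard hZ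
  have hml := p6_comm_mul_left hcm
  have hmr := p6_comm_mul_right hcm
  set c := x0 * y0 * x0⁻¹ * y0⁻¹ with hc
  have hcZ : c ∈ center G := hcm x0 y0
  have hcc : c * c = 1 := by rw [← pow_two]; exact hZe c hcZ
  have hx0 : x0 ∉ center G := fun hh => h0 ((Subgroup.mem_center_iff.1 hh y0).symm)
  have hy0 : y0 ∉ center G := fun hh => h0 (Subgroup.mem_center_iff.1 hh x0)
  have hxy0 : x0⁻¹ * y0 ∉ center G := by
    intro hh
    apply h0
    have h1 := Subgroup.mem_center_iff.1 hh x0
    calc x0 * y0 = x0 * (x0 * (x0⁻¹ * y0)) := by group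
      _ = x0 * ((x0⁻¹ * y0) * x0) := by rw [h1]
      _ = y0 * x0 := by group
  have henum := p6_enum hcard hZ hZe x0 y0 hx0 hy0 hxy0
  -- basic values
  have hyx : y0 * x0 * y0⁻¹ * x0⁻¹ = c := by
    have h1 : y0 * x0 * y0⁻¹ * x0⁻¹ = c⁻¹ := by rw [hc]; group
    rw [h1]
    exact inv_eq_of_mul_eq_one_right hcc
  have hself : ∀ a : G, a * a * a⁻¹ * a⁻¹ = 1 := fun a => by group
  have hT : ∀ u v : G, (u = 1 ∨ u = c) → (v = 1 ∨ v = c) → (u * v = 1 ∨ u * v = c) := by
    rintro u v (rfl | rfl) (rfl | rfl)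
    · left; rw [one_mul]
    · right; rw [one_mul]
    · right; rw [mul_one]
    · left; exact hcc
  have hzl : ∀ a z : G, z ∈ center G → ∀ k : G, (a * z) * k * (a * z)⁻¹ * k⁻¹ = a * k * a⁻¹ * k⁻¹ := by
    intro a z hz k
    rw [hml, p6_comm_of_central hz, mul_one]
  have hzr : ∀ a z : G, z ∈ center G → ∀ k : G, k * (a * z) * k⁻¹ * (a * z)⁻¹ = k * a * k⁻¹ * a⁻¹ := by
    intro a z hz k
    rw [hmr, p6_comm_of_central' hz, mul_one]
  -- Claim A
  have hA : ∀ k : G, (k * x0 * k⁻¹ * x0⁻¹ = 1 ∨ k * x0 * k⁻¹ * x0⁻¹ = c) ∧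
      (k * y0 * k⁻¹ * y0⁻¹ = 1 ∨ k * y0 * k⁻¹ * y0⁻¹ = c) := by
    intro k
    obtain ⟨z, hz, hk | hk | hk | hk⟩ := henum k
    · rw [hk]
      exact ⟨Or.inl (p6_comm_of_central hz _), Or.inl (p6_comm_of_central hz _)⟩
    · rw [hk, hzl _ _ hz, hzl _ _ hz]
      exact ⟨Or.inl (hself x0), Or.inr rfl⟩
    · rw [hk, hzl _ _ hz, hzl _ _ hz]
      exact ⟨Or.inr hyx, Or.inl (hself y0)⟩
    · rw [hk, hzl _ _ hz, hzl _ _ hz, hml, hml, hself x0, hself y0, hyx, one_mul, mul_one]
      exact ⟨Or.inr rfl, Or.inr rfl⟩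
  -- Claim B
  obtain ⟨z, hz, hh | hh | hh | hh⟩ := henum h
  · rw [hh]
    exact Or.inl (p6_comm_of_central' hz _)
  · rw [hh, hzr _ _ hz]
    exact (hA g).1
  · rw [hh, hzr _ _ hz]
    exact (hA g).2
  · rw [hh, hzr _ _ hz, hmr]
    exact hT _ _ (hA g).1 (hA g).2

/-- the key lemma: an automorphism of odd order -/
theorem p6_quat_of_odd_aut [Finite G] (hcard : Nat.card G = 2 ^ 4)
    (hZ : Nat.card (center G) = 2 ^ 2) (hZe : ∀ z ∈ center G, z ^ 2 = 1)
    (α : MulAut G) (m : ℕ) (hm : Odd m) (hαm : α ^ m = 1) (hα1 : α ≠ 1) :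
    ∃ x y : G, x * y ≠ y * x ∧ x ^ 2 = y ^ 2 ∧ (x * y) ^ 2 = x ^ 2 := by
  classical
  have hcm := p6_comm_mem (G := G) hcard hZ
  have hsq := p6_sq_mem hcard hZ hZe
  have hzz : ∀ z ∈ center G, z * z = 1 := fun z hz => by rw [← pow_two]; exact hZe z hz
  -- non-commuting pair
  obtain ⟨x0, y0, h0⟩ : ∃ x0 y0 : G, x0 * y0 ≠ y0 * x0 := by
    by_contra hcon
    push Not at hcon
    have htop : center G = ⊤ := by
      rw [eq_top_iff]
      intro g _
      rw [Subgroup.mem_center_iff]
      intro k
      exact hcon k g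
    rw [htop, Subgroup.card_top, hcard] at hZ
    norm_num at hZ
  set c := x0 * y0 * x0⁻¹ * y0⁻¹ with hc
  have hcZ : c ∈ center G := hcm x0 y0
  have hcc : c * c = 1 := hzz c hcZ
  have hc1 : c ≠ 1 := by
    intro h
    apply h0
    have : x0 * y0 = c * (y0 * x0) := by rw [hc]; group
    rw [this, h, one_mul]
  have hcases := p6_comm_cases hcard hZ hZe x0 y0 h0
  -- `α c = c`
  have hαc : α c = c := by
    have h1 : α c = α x0 * α y0 * (α x0)⁻¹ * (α y0)⁻¹ := by
      rw [hc, map_mul, map_mul, map_mul, map_inv, map_inv]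
    rcases hcases (α x0) (α y0) with h2 | h2
    · exfalso
      rw [← h1] at h2
      apply hc1
      have h3 : α c = α 1 := by rw [h2, map_one]
      exact α.injective h3
    · rw [h1, h2]
  -- a fourth central element
  obtain ⟨d, hdZ, hd1, hdc⟩ : ∃ d ∈ center G, d ≠ 1 ∧ d ≠ c := by
    by_contra hcon
    push Not at hcon
    have hsub : ((center G : Subgroup G) : Set G) ⊆ {1, c} := by
      intro d hd
      by_cases h : d = 1
      · exact Or.inl h
      · exact Or.inr (hcon d hd h)
    have h3 := Set.ncard_le_ncard hsub (Set.toFinite _)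
    have h4 : ({1, c} : Set G).ncard ≤ 2 :=
      (Set.ncard_insert_le _ _).trans (by rw [Set.ncard_singleton])
    have h5 : Nat.card (center G) = ((center G : Subgroup G) : Set G).ncard :=
      Nat.card_coe_set_eq _
    rw [hZ] at h5
    omega
  have hdd : d * d = 1 := hzz d hdZ
  have hcdZ : c * d ∈ center G := (center G).mul_mem hcZ hdZ
  -- enumeration of the centre
  have hZenum : ∀ z ∈ center G, z = 1 ∨ z = c ∨ z = d ∨ z = c * d := by
    have hsub : ({1, c, d, c * d} : Set G) ⊆ ((center G : Subgroup G) : Set G) := by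
      intro u hu
      simp only [Set.mem_insert_iff, Set.mem_singleton_iff] at hu
      rcases hu with rfl | rfl | rfl | rfl
      · exact (center G).one_mem
      · exact hcZ
      · exact hdZ
      · exact hcdZ
    have e3 : d ∉ ({c * d} : Set G) := by
      rw [Set.mem_singleton_iff]
      intro h
      apply hc1
      have : c * d = 1 * d := by rw [one_mul]; exact h.symm
      exact mul_right_cancel this
    have e2 : c ∉ ({d, c * d} : Set G) := by
      simp only [Set.mem_insert_iff, Set.mem_singleton_iff, not_or]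
      refine ⟨fun h => hdc h.symm, fun h => ?_⟩
      apply hd1
      have : c * d = c * 1 := by rw [mul_one]; exact h.symm
      exact mul_left_cancel this
    have e1 : (1 : G) ∉ ({c, d, c * d} : Set G) := by
      simp only [Set.mem_insert_iff, Set.mem_singleton_iff, not_or]
      refine ⟨fun h => hc1 h.symm, fun h => hd1 h.symm, fun h => ?_⟩
      apply hdc
      have h1 : d = c⁻¹ := eq_inv_of_mul_eq_one_right h.symm
      rw [h1]
      exact inv_eq_of_mul_eq_one_right hcc
    have hcard4 : ({1, c, d, c * d} : Set G).ncard = 4 := by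
      rw [Set.ncard_insert_of_notMem e1, Set.ncard_insert_of_notMem e2,
        Set.ncard_insert_of_notMem e3, Set.ncard_singleton]
    have h5 : Nat.card (center G) = ((center G : Subgroup G) : Set G).ncard :=
      Nat.card_coe_set_eq _
    have heq := Set.eq_of_subset_of_ncard_le hsub (by rw [hcard4, ← h5, hZ]; norm_num)
      (Set.toFinite _)
    intro z hz
    have : z ∈ ({1, c, d, c * d} : Set G) := by rw [heq]; exact hz
    simpa only [Set.mem_insert_iff, Set.mem_singleton_iff] using this
  -- `α d = d`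
  have hαd : α d = d := by
    have hαdZ : α d ∈ center G := p6_aut_center α hdZ
    rcases hZenum _ hαdZ with h | h | h | h
    · exfalso
      apply hd1
      exact α.injective (by rw [h, map_one])
    · exfalso
      apply hdc
      exact α.injective (by rw [h, hαc])
    · exact h
    · exfalso
      -- parity
      have hpar : ∀ k : ℕ, (α ^ k) d = if Even k then d else c * d := by
        intro k
        induction k with
        | zero => simp
        | succ k ih =>
          rw [pow_succ', MulAut.mul_apply, ih]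
          by_cases hk : Even k
          · rw [if_pos hk, if_neg (by rw [Nat.even_add_one]; exact not_not.2 hk), h]
          · rw [if_neg hk, if_pos (by rw [Nat.even_add_one]; exact hk), map_mul, hαc, h,
              ← mul_assoc, hcc, one_mul]
      have h1 := hpar m
      rw [hαm, MulAut.one_apply, if_neg (Nat.not_even_iff_odd.2 hm)] at h1
      apply hc1
      have : c * d = 1 * d := by rw [one_mul]; exact h1.symm
      exact mul_right_cancel this
  have hαZ : ∀ z ∈ center G, α z = z := by
    intro z hz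
    rcases hZenum z hz with rfl | rfl | rfl | rfl
    · exact map_one α
    · exact hαc
    · exact hαd
    · rw [map_mul, hαc, hαd]
  -- `α` moves a coset of the centre
  obtain ⟨x, hx⟩ : ∃ x : G, x⁻¹ * α x ∉ center G := by
    by_contra hcon
    push Not at hcon
    apply hα1
    have h2 : α * α = 1 := by
      ext g
      rw [MulAut.mul_apply, MulAut.one_apply]
      have hz := hcon g
      set w := g⁻¹ * α g with hw
      have h3 : α g = g * w := by rw [hw]; group
      rw [h3, map_mul, hαZ w hz, h3, mul_assoc, hzz w hz, mul_one]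
    obtain ⟨t, ht⟩ := hm
    have h3 : α ^ m = α := by
      rw [ht, pow_succ, pow_mul, pow_two, h2, one_pow, one_mul]
    rw [← h3, hαm]
  set y := α x with hy
  have hxZ : x ∉ center G := by
    intro h
    apply hx
    rw [hy, hαZ x h, inv_mul_cancel]
    exact (center G).one_mem
  have hyZ : y ∉ center G := fun h => hxZ (p6_aut_center' α h)
  have henum := p6_enum hcard hZ hZe x y hxZ hyZ hx
  -- the image of `y`
  obtain ⟨z, hz, hαy⟩ : ∃ z ∈ center G, α y = x * y * z := by
    obtain ⟨z, hz, h | h | h | h⟩ := henum (α y)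
    · exfalso
      exact hyZ (p6_aut_center' α (by rw [h]; exact hz))
    · exfalso
      -- parity
      have hpar : ∀ k : ℕ, ∃ w ∈ center G, (α ^ k) x = (if Even k then x else y) * w := by
        intro k
        induction k with
        | zero =>
          exact ⟨1, (center G).one_mem, by rw [pow_zero, MulAut.one_apply, if_pos (by decide : Even 0), mul_one]⟩
        | succ k ih =>
          obtain ⟨w, hw, hk⟩ := ih
          rw [pow_succ', MulAut.mul_apply, hk, map_mul, hαZ w hw]
          by_cases hev : Even k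
          · rw [if_pos hev, if_neg (by rw [Nat.even_add_one]; exact not_not.2 hev)]
            exact ⟨w, hw, rfl⟩
          · rw [if_neg hev, if_pos (by rw [Nat.even_add_one]; exact hev), h]
            exact ⟨z * w, (center G).mul_mem hz hw, by group⟩
      obtain ⟨w, hw, h1⟩ := hpar m
      rw [hαm, MulAut.one_apply, if_neg (Nat.not_even_iff_odd.2 hm)] at h1
      apply hx
      have : x⁻¹ * y = w⁻¹ := by rw [h1]; group
      rw [this]
      exact (center G).inv_mem hw
    · exfalso
      apply hx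
      apply p6_aut_center' α
      have : α (x⁻¹ * y) = z := by
        rw [map_mul, map_inv, h, ← hy]
        group
      rw [this]
      exact hz
    · exact ⟨z, hz, h⟩
  have hzc := Subgroup.mem_center_iff.1 hz
  -- squares
  have hy2 : y ^ 2 = x ^ 2 := by
    rw [hy, ← map_pow, hαZ _ (hsq x)]
  have hxy2 : (x * y) ^ 2 = y ^ 2 := by
    have h1 : α (y ^ 2) = y ^ 2 := hαZ _ (hsq y)
    rw [map_pow, hαy] at h1
    have h2 : (x * y * z) ^ 2 = (x * y) ^ 2 * z ^ 2 := by
      have hcomm : Commute (x * y) z := (hzc (x * y))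
      exact hcomm.mul_pow 2
    rw [h2, hZe z hz, mul_one] at h1
    exact h1
  refine ⟨x, y, ?_, hy2.symm, by rw [hxy2, hy2]⟩
  -- non-commutativity
  intro hcomm
  apply hxZ
  rw [Subgroup.mem_center_iff]
  intro g
  obtain ⟨w, hw, h | h | h | h⟩ := henum g
  · rw [h]
    exact (Subgroup.mem_center_iff.1 hw x).symm
  · rw [h]
    have h1 := Subgroup.mem_center_iff.1 hw x
    calc x * w * x = x * (w * x) := by group
      _ = x * (x * w) := by rw [h1]
  · rw [h]
    have h1 := Subgroup.mem_center_iff.1 hw x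
    calc y * w * x = y * (w * x) := by group
      _ = y * (x * w) := by rw [← h1]
      _ = (y * x) * w := by group
      _ = (x * y) * w := by rw [hcomm]
      _ = x * (y * w) := by group
  · rw [h]
    have h1 := Subgroup.mem_center_iff.1 hw x
    calc x * y * w * x = x * y * (w * x) := by group
      _ = x * y * (x * w) := by rw [← h1]
      _ = x * (y * x) * w := by group
      _ = x * (x * y) * w := by rw [hcomm]
      _ = x * (x * y * w) := by group

theorem exists_quaternion_gens [Finite G]
    (hcard : Nat.card G = 2 ^ 4) (hZ : Nat.card (Subgroup.center G) = 2 ^ 2)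
    (hZe : ∀ z ∈ Subgroup.center G, z ^ 2 = 1)
    {A : Subgroup (MulAut G)} (hA : EssAut 2 A) :
    ∃ x y : G, x * y ≠ y * x ∧ x ^ 2 = y ^ 2 ∧ (x * y) ^ 2 = x ^ 2 := by
  classical
  -- `A` is not a 2-group
  have hnot : ¬ IsPGroup 2 A := by
    intro hp
    obtain ⟨α0, hα0A, _, hα0⟩ := hA.exists_pElt
    have hle := hA.core_le A le_rfl
      (fun a ha b hb => A.mul_mem (A.mul_mem ha hb) (A.inv_mem ha)) hp
    exact hα0 (hle hα0A)
  unfold IsPGroup at hnot
  push Not at hnot
  obtain ⟨β, hβ⟩ := hnot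
  have hfin : orderOf (β : MulAut G) ≠ 0 := (orderOf_pos (β : MulAut G)).ne'
  obtain ⟨k, m, hm, hn⟩ := Nat.exists_eq_two_pow_mul_odd hfin
  refine p6_quat_of_odd_aut hcard hZ hZe ((β : MulAut G) ^ (2 ^ k)) m hm ?_ ?_
  · rw [← pow_mul, ← hn, pow_orderOf_eq_one]
  · intro h
    apply hβ k
    apply Subtype.ext
    rw [Subgroup.coe_pow, h]
    rfl

end Cfsg.Agent.Lib.H24.Ess
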