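import Mathlib
import Cfsg.Agent.Lib.H24.EssP6Core

/-!
# S5188-P6b (helper24): recognition of `Q₈ × C₂`
-/

set_option autoImplicit false

namespace Cfsg.Agent.Lib.H24.Ess

open Subgroup

variable {G : Type*} [Group G]

/-- the map from `Q₈` given by quaternion generators -/
def p6f (x y : G) : QuaternionGroup 2 → G
  | QuaternionGroup.a i => x ^ i.val
  | QuaternionGroup.xa i => y * x ^ i.val

theorem p6f_a (x y : G) (i : ZMod (2 * 2)) : p6f x y (QuaternionGroup.a i) = x ^ i.val := rfl

theorem p6f_xa (x y : G) (i : ZMod (2 * 2)) : p6f x y (QuaternionGroup.xa i) = y * x ^ i.val := rfl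

theorem p6_pow_val_add' {n : ℕ} [NeZero n] (x : G) (hx : x ^ n = 1) (i j : ZMod n) :
    x ^ (i + j).val = x ^ i.val * x ^ j.val := by
  rw [ZMod.val_add, ← pow_add, ← pow_eq_pow_mod _ hx]

theorem p6f_mul (x y : G) (hx4 : x ^ (2 * 2) = 1) (hconj : ∀ k : ℕ, x ^ k * y = y * (x ^ k)⁻¹)
    (hy2 : y * y = x ^ 2) (u v : QuaternionGroup 2) :
    p6f x y (u * v) = p6f x y u * p6f x y v := by
  have hadd := p6_pow_val_add' x hx4
  have hneg : ∀ i : ZMod (2 * 2), x ^ (-i).val = (x ^ i.val)⁻¹ := by
    intro i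
    apply eq_inv_of_mul_eq_one_left
    rw [← hadd, neg_add_cancel, ZMod.val_zero, pow_zero]
  have hsub : ∀ i j : ZMod (2 * 2), x ^ (j - i).val = x ^ j.val * (x ^ i.val)⁻¹ := by
    intro i j
    rw [sub_eq_add_neg, hadd, hneg]
  have hcomm : ∀ i j : ZMod (2 * 2), (x ^ i.val)⁻¹ * x ^ j.val = x ^ j.val * (x ^ i.val)⁻¹ := by
    intro i j
    rw [← hneg, ← hadd, add_comm, hadd]
  have htwo : x ^ (((2 : ℕ) : ZMod (2 * 2))).val = x ^ 2 := by
    rw [ZMod.val_natCast]
  rcases u with i | i <;> rcases v with j | j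
  · rw [QuaternionGroup.a_mul_a, p6f_a, p6f_a, p6f_a, hadd]
  · rw [QuaternionGroup.a_mul_xa, p6f_a, p6f_xa, p6f_xa, hsub]
    calc y * (x ^ j.val * (x ^ i.val)⁻¹) = y * ((x ^ i.val)⁻¹ * x ^ j.val) := by rw [hcomm]
      _ = y * (x ^ i.val)⁻¹ * x ^ j.val := by group
      _ = x ^ i.val * y * x ^ j.val := by rw [hconj]
      _ = x ^ i.val * (y * x ^ j.val) := by group
  · rw [QuaternionGroup.xa_mul_a, p6f_a, p6f_xa, p6f_xa, hadd, mul_assoc]
  · rw [QuaternionGroup.xa_mul_xa, p6f_a, p6f_xa, p6f_xa, hsub, hadd, htwo]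
    calc x ^ 2 * x ^ j.val * (x ^ i.val)⁻¹ = y * y * ((x ^ i.val)⁻¹ * x ^ j.val) := by
          rw [hy2, hcomm, mul_assoc]
      _ = y * (y * (x ^ i.val)⁻¹) * x ^ j.val := by group
      _ = y * (x ^ i.val * y) * x ^ j.val := by rw [hconj]
      _ = y * x ^ i.val * (y * x ^ j.val) := by group

theorem equiv_quaternion_prod [Finite G]
    (hcard : Nat.card G = 2 ^ 4) (hZ : Nat.card (Subgroup.center G) = 2 ^ 2)
    (hZe : ∀ z ∈ Subgroup.center G, z ^ 2 = 1)
    (x y : G) (hxy : x * y ≠ y * x) (h1 : x ^ 2 = y ^ 2) (h2 : (x * y) ^ 2 = x ^ 2) :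
    Nonempty (G ≃* QuaternionGroup 2 × Multiplicative (ZMod 2)) := by
  classical
  have hsq := p6_sq_mem hcard hZ hZe
  have heZ : x ^ 2 ∈ center G := hsq x
  have hee : (x ^ 2) ^ 2 = 1 := hZe _ heZ
  have hx4 : x ^ (2 * 2) = 1 := by rw [pow_mul]; exact hee
  have hy2 : y * y = x ^ 2 := by rw [← pow_two, ← h1]
  have hxy2 : x * y * (x * y) = x ^ 2 := by rw [← pow_two, h2]
  -- `x² ≠ 1`
  have he1 : x ^ 2 ≠ 1 := by
    intro h
    apply hxy
    rw [h] at hy2 hxy2
    have hxx : x * x = 1 := by rw [← pow_two]; exact h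
    have hxi : x⁻¹ = x := inv_eq_of_mul_eq_one_right hxx
    have hyi : y⁻¹ = y := inv_eq_of_mul_eq_one_right hy2
    have h3 : (x * y)⁻¹ = x * y := inv_eq_of_mul_eq_one_right hxy2
    rw [mul_inv_rev, hxi, hyi] at h3
    exact h3.symm
  -- the conjugation relation
  have hc1 : x * y = y * x⁻¹ := by
    have h3 : x * y * x * y = y * y := by
      rw [hy2, ← hxy2]; group
    have h4 : x * y * x = y := mul_right_cancel h3
    exact eq_mul_inv_of_mul_eq h4
  have hconj : ∀ k : ℕ, x ^ k * y = y * (x ^ k)⁻¹ := by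
    intro k
    induction k with
    | zero => simp
    | succ k ih =>
      calc x ^ (k + 1) * y = x ^ k * (x * y) := by rw [pow_succ]; group
        _ = x ^ k * y * x⁻¹ := by rw [hc1]; group
        _ = y * (x ^ k)⁻¹ * x⁻¹ := by rw [ih]
        _ = y * (x ^ (k + 1))⁻¹ := by rw [pow_succ']; group
  -- `x ∉ Z`
  have hxZ : x ∉ center G := by
    intro h
    exact hxy ((Subgroup.mem_center_iff.1 h y).symm)
  -- a central element outside `{1, x²}`
  obtain ⟨d, hdZ, hd1, hde⟩ : ∃ d ∈ center G, d ≠ 1 ∧ d ≠ x ^ 2 := by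
    by_contra hcon
    push Not at hcon
    have hsub : ((center G : Subgroup G) : Set G) ⊆ {1, x ^ 2} := by
      intro d hd
      by_cases h : d = 1
      · exact Or.inl h
      · exact Or.inr (hcon d hd h)
    have h3 := Set.ncard_le_ncard hsub (Set.toFinite _)
    have h4 : ({1, x ^ 2} : Set G).ncard ≤ 2 :=
      (Set.ncard_insert_le _ _).trans (by rw [Set.ncard_singleton])
    have h5 : Nat.card (center G) = ((center G : Subgroup G) : Set G).ncard :=
      Nat.card_coe_set_eq _
    rw [hZ] at h5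
    omega
  have hd2 : d ^ 2 = 1 := hZe d hdZ
  have hdc : ∀ g : G, g * d = d * g := Subgroup.mem_center_iff.1 hdZ
  have hdk : ∀ k : ℕ, ∀ g : G, g * d ^ k = d ^ k * g := by
    intro k g
    exact Subgroup.mem_center_iff.1 ((center G).pow_mem hdZ k) g
  have hdadd := p6_pow_val_add' d hd2
  -- the homomorphism
  let Φ : QuaternionGroup 2 × Multiplicative (ZMod 2) →* G := MonoidHom.mk'
    (fun a => p6f x y a.1 * d ^ (Multiplicative.toAdd a.2).val) (by
      rintro ⟨q, c⟩ ⟨q', c'⟩
      show p6f x y (q * q') * d ^ (Multiplicative.toAdd (c * c')).val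
        = p6f x y q * d ^ (Multiplicative.toAdd c).val
          * (p6f x y q' * d ^ (Multiplicative.toAdd c').val)
      rw [p6f_mul x y hx4 hconj hy2, toAdd_mul, hdadd]
      calc p6f x y q * p6f x y q' * (d ^ (Multiplicative.toAdd c).val * d ^ (Multiplicative.toAdd c').val)
          = p6f x y q * (p6f x y q' * d ^ (Multiplicative.toAdd c).val) * d ^ (Multiplicative.toAdd c').val := by
            group
        _ = p6f x y q * (d ^ (Multiplicative.toAdd c).val * p6f x y q') * d ^ (Multiplicative.toAdd c').val := by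
            rw [hdk _ (p6f x y q')]
        _ = p6f x y q * d ^ (Multiplicative.toAdd c).val
          * (p6f x y q' * d ^ (Multiplicative.toAdd c').val) := by group)
  have hΦ : ∀ q c, Φ (q, c) = p6f x y q * d ^ (Multiplicative.toAdd c).val := fun _ _ => rfl
  -- injectivity
  have hinj : Function.Injective Φ := by
    rw [injective_iff_map_eq_one]
    rintro ⟨q, c⟩ hq
    rw [hΦ] at hq
    have hfZ : p6f x y q ∈ center G := by
      have : p6f x y q = (d ^ (Multiplicative.toAdd c).val)⁻¹ := eq_inv_of_mul_eq_one_left hq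
      rw [this]
      exact (center G).inv_mem ((center G).pow_mem hdZ _)
    have hklt : (Multiplicative.toAdd c).val < 2 := ZMod.val_lt _
    rcases q with i | i
    · rw [p6f_a] at hq hfZ
      have hilt : i.val < 2 * 2 := ZMod.val_lt i
      obtain ⟨m, hm⟩ : ∃ m, m = i.val := ⟨_, rfl⟩
      obtain ⟨k, hk⟩ : ∃ k, k = (Multiplicative.toAdd c).val := ⟨_, rfl⟩
      rw [← hm] at hq hfZ hilt
      rw [← hk] at hq hklt
      have hfin : m = 0 ∧ k = 0 := by
        interval_cases m
        · interval_cases k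
          · exact ⟨rfl, rfl⟩
          · exfalso
            rw [pow_zero, one_mul, pow_one] at hq
            exact hd1 hq
        · exfalso
          rw [pow_one] at hfZ
          exact hxZ hfZ
        · exfalso
          interval_cases k
          · rw [pow_zero, mul_one] at hq
            exact he1 hq
          · rw [pow_one] at hq
            apply hde
            have h3 : d = (x ^ 2)⁻¹ := eq_inv_of_mul_eq_one_right hq
            have h4 : (x ^ 2)⁻¹ = x ^ 2 := by
              apply inv_eq_of_mul_eq_one_right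
              rw [← pow_two]
              exact hee
            rw [h3, h4]
        · exfalso
          apply hxZ
          have h3 : x = (x ^ 3)⁻¹ := by
            apply eq_inv_of_mul_eq_one_left
            rw [← pow_succ']
            exact hx4
          rw [h3]
          exact (center G).inv_mem hfZ
      obtain ⟨hm0, hk0⟩ := hfin
      have hi0 : i = 0 := (ZMod.val_eq_zero i).1 (hm ▸ hm0)
      have hc0 : Multiplicative.toAdd c = 0 := (ZMod.val_eq_zero _).1 (hk ▸ hk0)
      have hc1' : c = 1 := by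
        rw [← ofAdd_toAdd c, hc0]
        rfl
      rw [hi0, hc1']
      rfl
    · exfalso
      rw [p6f_xa] at hfZ
      apply hxy
      have hw := Subgroup.mem_center_iff.1 hfZ
      have hy' : y = (y * x ^ i.val) * (x ^ i.val)⁻¹ := by group
      have hcm : x * (x ^ i.val)⁻¹ = (x ^ i.val)⁻¹ * x := by
        have h3 : x ^ i.val * x = x * x ^ i.val := by rw [← pow_succ, ← pow_succ']
        calc x * (x ^ i.val)⁻¹ = (x ^ i.val)⁻¹ * (x ^ i.val * x) * (x ^ i.val)⁻¹ := by group
          _ = (x ^ i.val)⁻¹ * (x * x ^ i.val) * (x ^ i.val)⁻¹ := by rw [h3]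
          _ = (x ^ i.val)⁻¹ * x := by group
      calc x * y = x * ((y * x ^ i.val) * (x ^ i.val)⁻¹) := by rw [← hy']
        _ = (x * (y * x ^ i.val)) * (x ^ i.val)⁻¹ := by group
        _ = ((y * x ^ i.val) * x) * (x ^ i.val)⁻¹ := by rw [hw x]
        _ = (y * x ^ i.val) * (x * (x ^ i.val)⁻¹) := by group
        _ = (y * x ^ i.val) * ((x ^ i.val)⁻¹ * x) := by rw [hcm]
        _ = y * x := by group
  have hcardQ : Nat.card (QuaternionGroup 2 × Multiplicative (ZMod 2)) = 16 := by
    rw [Nat.card_prod, Nat.card_eq_fintype_card, Nat.card_eq_fintype_card, QuaternionGroup.card,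
      Fintype.card_multiplicative, ZMod.card]
  have hbij : Function.Bijective Φ := by
    apply hinj.bijective_of_nat_card_le
    rw [hcard, hcardQ]
    norm_num
  exact ⟨(MulEquiv.ofBijective Φ hbij).symm⟩

end Cfsg.Agent.Lib.H24.Ess
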