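import Mathlib
import Cfsg.Agent.Lib.H9.ExtSpDefs

/-!
# S5664-P1b: the ascent lemma (helper9's farm-out, blueprint `tools/blueprints/S5664_h9.md` §P1b)

`ascent_of_FL` proves the ascent lemma with the field lemma FL as a hypothesis;
`Cfsg/Agent/Lib/H24/ExtSpP1bFinal.lean` plugs in the landed FL.
-/

set_option autoImplicit false

namespace Cfsg.Agent.Lib.H24.ExtSp

open Module Cfsg.Agent.Lib.H9.ExtSp

variable {F K V : Type*} [Field F] [Field K] [Algebra F K] [AddCommGroup V] [Module F V]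
  [Module K V] [IsScalarTower F K V]
  {B : LinearMap.BilinForm K V} {lam : K →ₗ[F] F} {M : Subgroup (V ≃ₗ[F] V)}

/-! ### generalities -/

/-- `k ↦ k • v` as an `F`-linear map -/
def p1bSmul (F : Type*) {K V : Type*} [Field F] [Field K] [Algebra F K] [AddCommGroup V]
    [Module F V] [Module K V] [IsScalarTower F K V] (v : V) : K →ₗ[F] V :=
  (LinearMap.toSpanSingleton K V v).restrictScalars F

@[simp] theorem p1bSmul_apply (v : V) (k : K) : p1bSmul F v k = k • v := rfl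

theorem p1bSmul_injective {v : V} (hv : v ≠ 0) : Function.Injective (p1bSmul (K := K) F v) := by
  intro k k' h
  rw [p1bSmul_apply, p1bSmul_apply] at h
  by_contra hne
  have : (k - k') • v = 0 := by rw [sub_smul, h, sub_self]
  rcases smul_eq_zero.mp this with h0 | h0
  · exact hne (sub_eq_zero.mp h0)
  · exact hv h0

theorem p1b_range_smul (v : V) : LinearMap.range (p1bSmul (K := K) F v) = kpt F K v := by
  ext x
  rw [LinearMap.mem_range, mem_kpt]
  rfl

theorem p1b_finrank_kpt {v : V} (hv : v ≠ 0) : finrank F ↥(kpt F K v) = finrank F K := by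
  rw [← p1b_range_smul]
  exact (LinearEquiv.ofInjective _ (p1bSmul_injective hv)).finrank_eq.symm

/-- `x ↦ B x v` as an `F`-linear map -/
def p1bB (F : Type*) {K V : Type*} [Field F] [Field K] [Algebra F K] [AddCommGroup V]
    [Module F V] [Module K V] [IsScalarTower F K V] (B : LinearMap.BilinForm K V) (v : V) :
    V →ₗ[F] K :=
  (B.flip v).restrictScalars F

@[simp] theorem p1bB_apply (v x : V) : p1bB F B v x = B x v := rfl

theorem p1b_mem_map_equiv {L : Submodule F V} {g : V ≃ₗ[F] V} {y : V} :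
    y ∈ L.map (g : V →ₗ[F] V) ↔ g⁻¹ y ∈ L := by
  rw [Submodule.mem_map]
  constructor
  · rintro ⟨z, hz, rfl⟩
    have : g⁻¹ (g z) = z := g.symm_apply_apply z
    rw [LinearEquiv.coe_coe, this]
    exact hz
  · intro h
    exact ⟨g⁻¹ y, h, g.apply_symm_apply y⟩

theorem p1b_map_mul_equiv (L : Submodule F V) (g h : V ≃ₗ[F] V) :
    L.map ((g * h : V ≃ₗ[F] V) : V →ₗ[F] V) = (L.map (h : V →ₗ[F] V)).map (g : V →ₗ[F] V) := by
  rw [← Submodule.map_comp]
  rfl

theorem p1b_finrank_map_equiv (L : Submodule F V) (g : V ≃ₗ[F] V) :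
    finrank F ↥(L.map (g : V →ₗ[F] V)) = finrank F ↥L := LinearEquiv.finrank_map_eq g L

/-- rank-nullity for the restriction of a linear map to a subspace -/
theorem p1b_rank_nullity {W' : Type*} [AddCommGroup W'] [Module F W'] [FiniteDimensional F V]
    (g : V →ₗ[F] W') (W : Submodule F V) :
    finrank F ↥(W.map g) + finrank F ↥(W ⊓ LinearMap.ker g) = finrank F ↥W := by
  have h1 := LinearMap.finrank_range_add_finrank_ker (g.domRestrict W)
  have h2 : LinearMap.range (g.domRestrict W) = W.map g := LinearMap.range_domRestrict W g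
  have h3 : finrank F ↥(LinearMap.ker (g.domRestrict W)) = finrank F ↥(W ⊓ LinearMap.ker g) := by
    rw [LinearMap.ker_domRestrict]
    have hc : (LinearMap.ker g).comap W.subtype = (W ⊓ LinearMap.ker g).comap W.subtype := by
      ext x; simp
    have e : ↥((W ⊓ LinearMap.ker g).comap W.subtype) ≃ₗ[F] ↥(W ⊓ LinearMap.ker g) :=
      Submodule.comapSubtypeEquivOfLe inf_le_left
    rw [hc]
    exact e.finrank_eq
  rw [h2, h3] at h1
  exact h1


theorem p1b_inv_apply_apply (g : V ≃ₗ[F] V) (x : V) : g⁻¹ (g x) = x := g.symm_apply_apply x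

theorem p1b_apply_inv_apply (g : V ≃ₗ[F] V) (x : V) : g (g⁻¹ x) = x := g.apply_symm_apply x

/-- dimension of `{x ∈ L' | β x ∈ D'}` -/
theorem p1b_finrank_Wa [FiniteDimensional F V] (β : V →ₗ[F] K) (L' : Submodule F V)
    (D' : Submodule F K) :
    finrank F ↥(L' ⊓ D'.comap β) =
      (finrank F ↥L' - finrank F ↥(L'.map β)) + finrank F ↥(L'.map β ⊓ D') := by
  have h1 := p1b_rank_nullity β (L' ⊓ D'.comap β)
  have h2 := p1b_rank_nullity β L'
  have h3 : (L' ⊓ D'.comap β).map β = L'.map β ⊓ D' := by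
    ext e
    constructor
    · rintro ⟨x, ⟨hx1, hx2⟩, rfl⟩
      exact ⟨Submodule.mem_map_of_mem hx1, hx2⟩
    · rintro ⟨⟨x, hx, rfl⟩, he⟩
      exact ⟨x, ⟨hx, he⟩, rfl⟩
  have h4 : L' ⊓ D'.comap β ⊓ LinearMap.ker β = L' ⊓ LinearMap.ker β := by
    ext x
    constructor
    · rintro ⟨⟨hx1, -⟩, hx3⟩
      exact ⟨hx1, hx3⟩
    · rintro ⟨hx1, hx3⟩
      refine ⟨⟨hx1, ?_⟩, hx3⟩
      show β x ∈ D'
      rw [LinearMap.mem_ker.1 hx3]
      exact D'.zero_mem
  rw [h3, h4] at h1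
  omega

/-- the `f`-isotropy of the members of the orbit -/
theorem p1b_isotropic (S : Setup B lam M) {y : V ≃ₗ[F] V} (hy : y ∈ M) (w₀ : V) {x x' : V}
    (hx : x ∈ (kpt F K w₀).map (y : V →ₗ[F] V)) (hx' : x' ∈ (kpt F K w₀).map (y : V →ₗ[F] V)) :
    lam (B x x') = 0 := by
  obtain ⟨z, hz, rfl⟩ := hx
  obtain ⟨z', hz', rfl⟩ := hx'
  obtain ⟨k, rfl⟩ := mem_kpt.1 hz
  obtain ⟨k', rfl⟩ := mem_kpt.1 hz'
  rw [LinearEquiv.coe_coe, S.sp y hy]
  simp [S.alt]

/-- `L' ⊓ u L' = u {x ∈ L' | a B(x,v) v ∈ L'}` for the `K`-transvection `u = t_{v,a}` -/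
theorem p1b_inf_map_ktv (hB : ∀ x, B x x = 0) (v : V) (a : K) (L' : Submodule F V) :
    L' ⊓ L'.map ((ktv (F := F) B hB v a : V ≃ₗ[F] V) : V →ₗ[F] V) =
      (L' ⊓ ((L'.comap (p1bSmul F v)).comap (LinearMap.mulLeft F a)).comap (p1bB F B v)).map
        ((ktv (F := F) B hB v a : V ≃ₗ[F] V) : V →ₗ[F] V) := by
  ext x
  constructor
  · rintro ⟨hx1, x', hx', rfl⟩
    refine ⟨x', ⟨hx', ?_⟩, rfl⟩
    rw [LinearEquiv.coe_coe, ktv_apply] at hx1
    show (a * B x' v) • v ∈ L'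
    have := L'.sub_mem hx1 hx'
    rwa [add_sub_cancel_left] at this
  · rintro ⟨x', ⟨hx', hx2⟩, rfl⟩
    refine ⟨?_, Submodule.mem_map_of_mem hx'⟩
    rw [LinearEquiv.coe_coe, ktv_apply]
    exact L'.add_mem hx' hx2


/-- **P1b** with the field lemma FL as a hypothesis. -/
theorem ascent_of_FL [FiniteDimensional F K] [FiniteDimensional K V] [FiniteDimensional F V]
    (S : Setup B lam M)
    (hFL : ∀ D E : Submodule F K, (∀ d ∈ D, ∀ e ∈ E, lam (d * e) = 0) → D ≠ ⊥ → D ≠ ⊤ → E ≠ ⊥ →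
      (∀ a : K, (∃ e ∈ E, ∃ e' ∈ E, lam (a * e * e') ≠ 0) →
        (∀ e ∈ E, a * e ∈ D) ∨
        (finrank F K - finrank F E) + finrank F ↥(E ⊓ D.comap (LinearMap.mulLeft F a))
          ≤ finrank F D) →
      finrank F E = 1 ∧ finrank F D + 1 = finrank F K)
    {v : V} {L' : Submodule F V}
    (hgp : GP B M v L') (hne : kpt F K v ⊓ L' ≠ ⊥)
    (hmax : ∀ (v' : V) (L'' : Submodule F V), GP B M v' L'' →
      finrank F ↥(kpt F K v' ⊓ L'') ≤ finrank F ↥(kpt F K v ⊓ L')) :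
    ∃ (w₀ : V) (θ : K →ₗ[F] F), w₀ ≠ 0 ∧ θ ≠ 0 ∧ Star M w₀ θ := by
  classical
  obtain ⟨hv, ⟨y, hyM, w₀, hw₀, hL'⟩, hL'ne, x₁, hx₁L, hx₁B⟩ := hgp
  -- notation
  let ι : K →ₗ[F] V := p1bSmul F v
  let β : V →ₗ[F] K := p1bB F B v
  let D : Submodule F K := L'.comap ι
  let E : Submodule F K := L'.map β
  have hmemD : ∀ k : K, k ∈ D ↔ k • v ∈ L' := fun k => Iff.rfl
  have hmemE : ∀ e : K, e ∈ E ↔ ∃ x ∈ L', B x v = e := fun e => Submodule.mem_map
  have hmemL' : ∀ x, x ∈ L' ↔ ∃ k : K, y (k • w₀) = x := by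
    intro x
    rw [hL', Submodule.mem_map]
    constructor
    · rintro ⟨z, hz, rfl⟩
      obtain ⟨k, rfl⟩ := mem_kpt.1 hz
      exact ⟨k, rfl⟩
    · rintro ⟨k, rfl⟩
      exact ⟨k • w₀, smul_mem_kpt k w₀, rfl⟩
  have hrL' : finrank F ↥L' = finrank F K := by
    rw [hL', p1b_finrank_map_equiv, p1b_finrank_kpt hw₀]
  have hiso : ∀ x ∈ L', ∀ x' ∈ L', lam (B x x') = 0 := by
    intro x hx x' hx'
    rw [hL'] at hx hx'
    exact p1b_isotropic S hyM w₀ hx hx'
  -- dim D = dim (L ⊓ L')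
  have hDdim : finrank F ↥D = finrank F ↥(kpt F K v ⊓ L') := by
    have h1 : (D.map ι) = kpt F K v ⊓ L' := by
      rw [Submodule.map_comap_eq, p1b_range_smul]
    rw [← h1]
    exact (LinearEquiv.finrank_eq (Submodule.equivMapOfInjective ι (p1bSmul_injective hv) D))
  have hDE : ∀ d ∈ D, ∀ e ∈ E, lam (d * e) = 0 := by
    intro d hd e he
    obtain ⟨x, hx, rfl⟩ := (hmemE e).1 he
    have h1 : d * B x v = B x (d • v) := by rw [map_smul, smul_eq_mul]
    rw [h1]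
    exact hiso x hx (d • v) ((hmemD d).1 hd)
  have hD0 : D ≠ ⊥ := by
    obtain ⟨x, hx, hx0⟩ := Submodule.exists_mem_ne_zero_of_ne_bot hne
    obtain ⟨k, rfl⟩ := mem_kpt.1 hx.1
    intro hbot
    have hk : k ∈ D := (hmemD k).2 hx.2
    rw [hbot, Submodule.mem_bot] at hk
    exact hx0 (by rw [hk, zero_smul])
  have hD1 : D ≠ ⊤ := by
    intro htop
    apply hL'ne
    symm
    apply Submodule.eq_of_le_of_finrank_eq
    · intro x hx
      obtain ⟨k, rfl⟩ := mem_kpt.1 hx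
      exact (hmemD k).1 (htop ▸ Submodule.mem_top)
    · rw [hrL', p1b_finrank_kpt hv]
  have hE0 : E ≠ ⊥ := by
    intro hbot
    have : B x₁ v ∈ E := (hmemE _).2 ⟨x₁, hx₁L, rfl⟩
    rw [hbot, Submodule.mem_bot] at this
    exact hx₁B this
  -- the dichotomy
  have hdich : ∀ a : K, (∃ e ∈ E, ∃ e' ∈ E, lam (a * e * e') ≠ 0) →
      (∀ e ∈ E, a * e ∈ D) ∨
      (finrank F K - finrank F E) + finrank F ↥(E ⊓ D.comap (LinearMap.mulLeft F a))
        ≤ finrank F D := by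
    rintro a ⟨e, he, e', he', hee'⟩
    let u : V ≃ₗ[F] V := ktv (F := F) B S.alt v a
    have huM : u ∈ M := ktv_mem S v a
    by_cases hu : L'.map (u : V →ₗ[F] V) = L'
    · left
      intro e₁ he₁
      obtain ⟨x, hx, rfl⟩ := (hmemE e₁).1 he₁
      have h1 : u x ∈ L' := by
        rw [← hu]
        exact Submodule.mem_map_of_mem hx
      have h2 : u x = x + (a * B x v) • v := rfl
      rw [h2] at h1
      have h3 := L'.sub_mem h1 hx
      rw [add_sub_cancel_left] at h3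
      exact (hmemD _).2 h3
    · right
      let L'' : Submodule F V := (kpt F K w₀).map ((y⁻¹ * u * y : V ≃ₗ[F] V) : V →ₗ[F] V)
      have hmapy : L''.map (y : V →ₗ[F] V) = L'.map (u : V →ₗ[F] V) := by
        show ((kpt F K w₀).map ((y⁻¹ * u * y : V ≃ₗ[F] V) : V →ₗ[F] V)).map (y : V →ₗ[F] V) = _
        rw [← p1b_map_mul_equiv, hL', ← p1b_map_mul_equiv]
        congr 2
        group
      have hgp' : GP B M w₀ L'' := by
        refine ⟨hw₀, ⟨y⁻¹ * u * y, M.mul_mem (M.mul_mem (M.inv_mem hyM) huM) hyM, w₀, hw₀, rfl⟩,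
          ?_, ?_⟩
        · intro heq
          apply hu
          rw [← hmapy, heq, ← hL']
        · obtain ⟨x, hx, rfl⟩ := (hmemE e).1 he
          obtain ⟨x', hx', rfl⟩ := (hmemE e').1 he'
          obtain ⟨k, rfl⟩ := (hmemL' x).1 hx
          obtain ⟨k', rfl⟩ := (hmemL' x').1 hx'
          refine ⟨(y⁻¹ * u * y) (k • w₀), Submodule.mem_map_of_mem (smul_mem_kpt k w₀), ?_⟩
          intro h0
          -- f (u x, x') = - lam (a e e')
          have h1 : lam (B (u (y (k • w₀))) (y (k' • w₀))) =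
              lam (B ((y⁻¹ * u * y) (k • w₀)) (k' • w₀)) := by
            rw [← S.sp y hyM ((y⁻¹ * u * y) (k • w₀)) (k' • w₀)]
            simp only [LinearEquiv.mul_apply, p1b_apply_inv_apply]
          rw [(B ((y⁻¹ * u * y) (k • w₀))).map_smul k' w₀, h0, smul_zero, map_zero] at h1
          have h2 : u (y (k • w₀)) = y (k • w₀) + (a * B (y (k • w₀)) v) • v := rfl
          rw [h2, map_add, LinearMap.add_apply, map_add, hiso _ hx _ hx', zero_add, map_smul,
            LinearMap.smul_apply, smul_eq_mul, B_skew B S.alt v] at h1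
          apply hee'
          have h3 : a * B (y (k • w₀)) v * B (y (k' • w₀)) v =
              - (a * B (y (k • w₀)) v * -B (y (k' • w₀)) v) := by ring
          rw [h3, map_neg, h1, neg_zero]
      have h5 := hmax w₀ L'' hgp'
      have h6 : finrank F ↥(kpt F K w₀ ⊓ L'') = finrank F ↥(L' ⊓ L'.map (u : V →ₗ[F] V)) := by
        rw [← p1b_finrank_map_equiv (kpt F K w₀ ⊓ L'') y, Submodule.map_inf _ y.injective, hmapy,
          ← hL']
      have h7 := p1b_inf_map_ktv (F := F) S.alt v a L'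
      have h8 := p1b_finrank_Wa β L' (D.comap (LinearMap.mulLeft F a))
      rw [h6] at h5
      have h9 : finrank F ↥(L' ⊓ L'.map (u : V →ₗ[F] V)) =
          finrank F ↥(L' ⊓ (D.comap (LinearMap.mulLeft F a)).comap β) := by
        show finrank F ↥(L' ⊓ L'.map ((ktv (F := F) B S.alt v a : V ≃ₗ[F] V) : V →ₗ[F] V)) = _
        rw [h7, p1b_finrank_map_equiv]
      rw [h9, h8, hrL'] at h5
      rw [hDdim]
      exact h5
  obtain ⟨hE1, hD2⟩ := hFL D E hDE hD0 hD1 hE0 hdich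
  -- E = F e₀
  obtain ⟨e₀', he₀'0, he₀'⟩ := finrank_eq_one_iff'.1 hE1
  obtain ⟨e₀, he₀E⟩ := e₀'
  have he₀ : e₀ ≠ 0 := by
    intro h
    apply he₀'0
    exact Subtype.ext h
  have hspan : ∀ e ∈ E, ∃ c : F, c • e₀ = e := by
    intro e he
    obtain ⟨c, hc⟩ := he₀' ⟨e, he⟩
    exact ⟨c, congrArg Subtype.val hc⟩
  obtain ⟨φ, hφ⟩ := LinearMap.exists_leftInverse_of_injective (LinearMap.toSpanSingleton F K e₀)
    (LinearMap.ker_toSpanSingleton F he₀)
  have hφ1 : ∀ c : F, φ (c • e₀) = c := by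
    intro c
    have := LinearMap.congr_fun hφ c
    simpa using this
  let θ : K →ₗ[F] F := φ ∘ₗ β ∘ₗ (y : V →ₗ[F] V) ∘ₗ p1bSmul F w₀
  have hθ : ∀ k : K, B (y (k • w₀)) v = θ k • e₀ := by
    intro k
    have h1 : B (y (k • w₀)) v ∈ E := (hmemE _).2 ⟨_, (hmemL' _).2 ⟨k, rfl⟩, rfl⟩
    obtain ⟨c, hc⟩ := hspan _ h1
    have h2 : θ k = φ (B (y (k • w₀)) v) := rfl
    rw [h2, ← hc, hφ1]
  -- the kernel of β on L'
  have hker : ∀ x ∈ L', B x v = 0 → x ∈ kpt F K v := by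
    have hle : kpt F K v ⊓ L' ≤ L' ⊓ LinearMap.ker β := by
      rintro x ⟨hx1, hx2⟩
      refine ⟨hx2, ?_⟩
      obtain ⟨k, rfl⟩ := mem_kpt.1 hx1
      show B (k • v) v = 0
      rw [map_smul, LinearMap.smul_apply, S.alt, smul_zero]
    have hrn := p1b_rank_nullity β L'
    have heq : kpt F K v ⊓ L' = L' ⊓ LinearMap.ker β := by
      apply Submodule.eq_of_le_of_finrank_eq hle
      have : finrank F ↥(L'.map β) = 1 := hE1
      rw [← hDdim]
      omega
    intro x hx hB0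
    have : x ∈ L' ⊓ LinearMap.ker β := ⟨hx, hB0⟩
    rw [← heq] at this
    exact this.1
  refine ⟨w₀, θ, hw₀, ?_, ?_⟩
  · intro h0
    obtain ⟨k, rfl⟩ := (hmemL' x₁).1 hx₁L
    apply hx₁B
    rw [hθ, h0, LinearMap.zero_apply, zero_smul]
  · intro c hc
    have h1 : y (c • w₀) ∈ L' := (hmemL' _).2 ⟨c, rfl⟩
    have h2 : B (y (c • w₀)) v = 0 := by rw [hθ, hc, zero_smul]
    obtain ⟨d, hd⟩ := mem_kpt.1 (hker _ h1 h2)
    refine ⟨y⁻¹ * ktv (F := F) B S.alt v (d / e₀) * y,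
      M.mul_mem (M.mul_mem (M.inv_mem hyM) (ktv_mem S v _)) hyM, ?_⟩
    intro k
    rw [LinearEquiv.mul_apply, LinearEquiv.mul_apply, ktv_apply, hθ]
    have h3 : (d / e₀ * θ k • e₀) • v = θ k • y (c • w₀) := by
      rw [← hd, mul_smul_comm, div_mul_cancel₀ _ he₀, smul_assoc]
    rw [h3, map_add, p1b_inv_apply_apply, map_smul, p1b_inv_apply_apply, add_smul, smul_assoc]

end Cfsg.Agent.Lib.H24.ExtSp
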