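import Cfsg.Agent.Lib.H24.ExtSpP1b
import Cfsg.Agent.Lib.H2.ExtSpFL

/-!
# S5664-P1b: the ascent lemma, exact signature of `tools/blueprints/S5664_sigs.lean`
-/

set_option autoImplicit false

namespace Cfsg.Agent.Lib.H24.ExtSp

open Module Cfsg.Agent.Lib.H9.ExtSp

variable {F K V : Type*} [Field F] [Field K] [Algebra F K] [AddCommGroup V] [Module F V]
  [Module K V] [IsScalarTower F K V]
  {B : LinearMap.BilinForm K V} {lam : K →ₗ[F] F} {M : Subgroup (V ≃ₗ[F] V)}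

/-- **P1b** (the ascent lemma: a good pair with maximal intersection gives (*)). -/
theorem ascent [FiniteDimensional F K] [FiniteDimensional K V] [FiniteDimensional F V]
    (S : Setup B lam M) (hr : (finrank F K).Prime) {v : V} {L' : Submodule F V}
    (hgp : GP B M v L') (hne : kpt F K v ⊓ L' ≠ ⊥)
    (hmax : ∀ (v' : V) (L'' : Submodule F V), GP B M v' L'' →
      finrank F ↥(kpt F K v' ⊓ L'') ≤ finrank F ↥(kpt F K v ⊓ L')) :
    ∃ (w₀ : V) (θ : K →ₗ[F] F), w₀ ≠ 0 ∧ θ ≠ 0 ∧ Star M w₀ θ :=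
  ascent_of_FL S
    (fun D E hDE hD0 hD1 hE0 hdich =>
      Cfsg.Agent.Lib.H2.ExtSp.fieldLemma hr lam S.lam_ne D E hDE hD0 hD1 hE0 hdich)
    hgp hne hmax

end Cfsg.Agent.Lib.H24.ExtSp
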