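import Cfsg.Agent.S5157
import Cfsg.Agent.S5134
import Cfsg.Agent.S5133
import Cfsg.Agent.Lib.H25.MorphismClosed
import Cfsg.Agent.Lib.H24.F59Def
import Cfsg.Agent.Lib.H8.F59INV

/-!
S5159, piece (BWD): if the normal subsystem `E` over `T` and the factor system `D = F/T` are solvable,
then `F` is solvable.  The chain of `E` is made `Aut_F(T)`-invariant by passing to `autCore`, the chain
of `D` is pulled back along `θ`, and the two are concatenated with `S5157.chain_cons`.
-/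

set_option autoImplicit false

namespace Cfsg.Agent.Lib.H24.F59

open Cfsg Cfsg.FusionSystem Cfsg.Agent.Lib.H25 Cfsg.Agent.Lib.H8.F59
open scoped commutatorElement

variable {Ω : Type*} [Group Ω] {S : Subgroup Ω}


/-- The pulled-back chain of the factor system: a chain of `F` from `T` to `S`. -/
theorem chain_of_factor {F : FusionSystem S} {T : Subgroup Ω} {Ω' : Type*} [Group Ω']
    {S' : Subgroup Ω'} {θ : S →* Ω'} {D : FusionSystem S'} (hD : F.IsFactorSystem T θ D)
    (hmor : F.IsMorphism D θ) {k : ℕ} {W : Fin (k + 1) → Subgroup Ω'} (hW0 : W 0 = ⊥)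
    (hWl : W (Fin.last k) = S') (hWm : Monotone W) (hWs : ∀ j, D.StronglyClosed (W j))
    (hWc : ∀ j : Fin k, ⁅W j.succ, W j.succ⁆ ≤ W (Fin.castSucc j)) :
    Cfsg.Agent.S5157.IsChain F T k (fun j => preimageAlong θ (W j)) := by
  have hrange : θ.range = S' := hD.2.2.1
  refine ⟨?_, ?_, ?_, ?_, ?_⟩
  · show preimageAlong θ (W 0) = T
    rw [hW0]
    ext x
    rw [mem_preimageAlong_iff]
    constructor
    · rintro ⟨hxS, hx⟩
      rw [Subgroup.mem_bot] at hx
      exact (hD.2.1 ⟨x, hxS⟩).1 hx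
    · intro hx
      refine ⟨hD.1 hx, ?_⟩
      rw [Subgroup.mem_bot]
      exact (hD.2.1 ⟨x, hD.1 hx⟩).2 hx
  · show preimageAlong θ (W (Fin.last k)) = S
    rw [hWl]
    exact pre_top hrange
  · intro j
    exact pre_mono θ (hWm Fin.castSucc_lt_succ.le)
  · intro j
    exact pre_stronglyClosed hmor (hWs j)
  · intro j
    show ⁅preimageAlong θ (W j.succ), preimageAlong θ (W j.succ)⁆ ≤ preimageAlong θ (W (Fin.castSucc j))
    rw [Subgroup.commutator_le]
    intro x hx y hy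
    obtain ⟨hxS, hx'⟩ := (mem_preimageAlong_iff _ _ _).1 hx
    obtain ⟨hyS, hy'⟩ := (mem_preimageAlong_iff _ _ _).1 hy
    have hmem : ⁅x, y⁆ ∈ S := by
      rw [commutatorElement_def]
      exact S.mul_mem (S.mul_mem (S.mul_mem hxS hyS) (S.inv_mem hxS)) (S.inv_mem hyS)
    rw [mem_preimageAlong_iff]
    refine ⟨hmem, ?_⟩
    have h1 : (⟨⁅x, y⁆, hmem⟩ : S) = ⁅(⟨x, hxS⟩ : S), ⟨y, hyS⟩⁆ := Subtype.ext (by
      simp [commutatorElement_def])
    rw [h1, map_commutatorElement]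
    exact hWc j (Subgroup.commutator_mem_commutator hx' hy')

/-- Downward induction: prepend the `Aut_F(T)`-cores of the chain of `E`. -/
theorem chain_prepend {T : Subgroup Ω} {E : FusionSystem T} {F : FusionSystem S}
    (hinv : E.IsInvariantIn F) {m : ℕ} {U : Fin (m + 1) → Subgroup Ω}
    (hUl : U (Fin.last m) = T) (hUm : Monotone U) (hUs : ∀ i, E.StronglyClosed (U i))
    (hUc : ∀ i : Fin m, ⁅U i.succ, U i.succ⁆ ≤ U (Fin.castSucc i))
    (hT : ∃ (n : ℕ) (Tc : Fin (n + 1) → Subgroup Ω), Cfsg.Agent.S5157.IsChain F T n Tc) :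
    ∀ d : ℕ, ∀ hd : d ≤ m, ∃ (n : ℕ) (Tc : Fin (n + 1) → Subgroup Ω),
      Cfsg.Agent.S5157.IsChain F (autCore (T := T) F (U ⟨m - d, by omega⟩)) n Tc := by
  intro d
  induction d with
  | zero =>
    intro _
    have h : (⟨m - 0, by omega⟩ : Fin (m + 1)) = Fin.last m := Fin.ext (by simp)
    rw [h, hUl, autCore_self]
    exact hT
  | succ d ih =>
    intro hd
    obtain ⟨n, Tc, hTc⟩ := ih (by omega)
    have hlt : m - (d + 1) < m := by omega
    have h1 : (⟨m - (d + 1), by omega⟩ : Fin (m + 1)) = Fin.castSucc ⟨m - (d + 1), hlt⟩ := rfl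
    have h2 : (⟨m - d, by omega⟩ : Fin (m + 1)) = Fin.succ ⟨m - (d + 1), hlt⟩ :=
      Fin.ext (by simp; omega)
    rw [h2] at hTc
    rw [h1]
    refine ⟨n + 1, _, Cfsg.Agent.S5157.chain_cons (autCore_stronglyClosed hinv (hUs _))
      (autCore_mono F (hUm Fin.castSucc_lt_succ.le)) (autCore_commutator_le F (hUc _)) hTc⟩

theorem bwd [Finite S] (p : ℕ) [Fact p.Prime] (hS : IsPGroup p S) (F : FusionSystem S)
    (hF : F.IsSaturated p) {T : Subgroup Ω} (E : FusionSystem T) (hEsat : E.IsSaturated p)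
    (hinv : E.IsInvariantIn F) {Ω' : Type*} [Group Ω'] {S' : Subgroup Ω'} (θ : S →* Ω')
    (D : FusionSystem S') (hD : F.IsFactorSystem T θ D) (hE : E.IsSolvableSystem)
    (hDs : D.IsSolvableSystem) : F.IsSolvableSystem := by
  have hTsc : F.StronglyClosed T := hinv.2.1
  have hTS : T ≤ S := hTsc.1
  have : Finite T := Finite.of_injective (Subgroup.inclusion hTS) (Subgroup.inclusion_injective hTS)
  have hpT : IsPGroup p T := hS.to_le hTS
  have hsm := Cfsg.Agent.S5134.result p hS F hF T hTsc θ D hD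
  have hDsat := Cfsg.Agent.S5133.result p hS F hF D θ hsm
  have hrange : θ.range = S' := hsm.2.1
  have : Finite S' := finite_S' hrange
  have hpS' : IsPGroup p S' := isPGroup_S' hrange hS
  obtain ⟨m, U, hU0, hUl, hUm, hUs, hUc⟩ := (Cfsg.Agent.S5157.result p hpT E hEsat).1 hE
  obtain ⟨k, W, hW0, hWl, hWm, hWs, hWc⟩ := (Cfsg.Agent.S5157.result p hpS' D hDsat).1 hDs
  have hT := chain_of_factor hD hsm.1 hW0 hWl hWm hWs hWc
  obtain ⟨n, Tc, h0, hl, -, hs, hc⟩ := chain_prepend hinv hUl hUm hUs hUc ⟨k, _, hT⟩ m le_rfl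
  have h00 : (⟨m - m, by omega⟩ : Fin (m + 1)) = 0 := Fin.ext (by simp)
  rw [h00, hU0, autCore_bot] at h0
  exact Cfsg.Agent.S5157.solvable_of_chain hS hF h0 hl hs hc

end Cfsg.Agent.Lib.H24.F59
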