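import Cfsg.Agent.Lib.H7.FG19BAS1
import Cfsg.Agent.Lib.H7.FG19BAS2
import Cfsg.Agent.Lib.H15.FG19BAS3
import Cfsg.Agent.Lib.H5.FG19P2

set_option autoImplicit false

namespace Cfsg.Agent.Lib.H24.FG19

open Cfsg Cfsg.Agent.Lib.H1.FG19
open scoped IsMulCommutative Pointwise

section abstract

variable {A : Type*} [CommGroup A]

/-- restriction of a group of automorphisms to a stable subgroup -/
noncomputable def a1Restr (W : Subgroup A) (G : Subgroup (MulAut A))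
    (hG : ∀ Y ∈ G, ∀ w ∈ W, Y w ∈ W) : G →* MulAut W :=
  letI : MulDistribMulAction G W :=
    { smul := fun Y w => ⟨Y.1 w.1, hG Y.1 Y.2 w.1 w.2⟩
      one_smul := fun w => Subtype.ext rfl
      mul_smul := fun Y1 Y2 w => Subtype.ext rfl
      smul_mul := fun Y w1 w2 => Subtype.ext (map_mul Y.1 w1.1 w2.1)
      smul_one := fun Y => Subtype.ext (map_one Y.1) }
  MulDistribMulAction.toMulAut G W

theorem a1Restr_apply (W : Subgroup A) (G : Subgroup (MulAut A))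
    (hG : ∀ Y ∈ G, ∀ w ∈ W, Y w ∈ W) (Y : G) (w : W) :
    ((a1Restr W G hG Y) w : A) = Y.1 w.1 := rfl

/-- a finite 3-group whose order divides `|GL_d(2)|`, `d ≤ 4`, is commutative -/
theorem a1_comm_of_three {H : Type*} [Group H] [Finite H] (hH : IsPGroup 3 H) (d : ℕ) (hd : d ≤ 4)
    (hdvd : Nat.card H ∣ ∏ i ∈ Finset.range d, (2 ^ d - 2 ^ i)) : ∀ a b : H, a * b = b * a := by
  have : Fact (Nat.Prime 3) := ⟨Nat.prime_three⟩
  obtain ⟨n, hn⟩ := IsPGroup.exists_card_eq hH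
  rw [hn] at hdvd
  have hn2 : n ≤ 2 := by
    by_contra hcon
    rw [not_le] at hcon
    have h27 : 3 ^ 3 ∣ ∏ i ∈ Finset.range d, (2 ^ d - 2 ^ i) := (pow_dvd_pow 3 hcon).trans hdvd
    interval_cases d <;> simp [Finset.prod_range_succ] at h27
  interval_cases n
  · intro a b
    have hss : Subsingleton H := (Nat.card_eq_one_iff_unique.1 (by simpa using hn)).1
    rw [Subsingleton.elim a b]
  · have hc : IsCyclic H := isCyclic_of_prime_card (p := 3) (by simpa using hn)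
    intro a b
    exact (IsCyclic.isMulCommutative (α := H)).is_comm.comm a b
  · intro a b
    exact (IsPGroup.isMulCommutative_of_card_eq_prime_sq (p := 3) hn).is_comm.comm a b

/-- the group generated by `X` and `Γ` is a 3-group -/
theorem a1_isPGroup {G : Type*} [Group G] (X Γ : G) (hX : X ^ 3 = 1) (hΓ : Γ ^ 3 = 1)
    (hc1 : Commute Γ (X * Γ * X⁻¹)) (hc2 : Commute Γ (X ^ 2 * Γ * (X ^ 2)⁻¹)) :
    IsPGroup 3 (Subgroup.closure ({X, Γ} : Set G)) := by
  have e1 : X * (X * Γ * X⁻¹) * X⁻¹ = X ^ 2 * Γ * (X ^ 2)⁻¹ := by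
    simp only [pow_two, mul_inv_rev, mul_assoc]
  have e2 : X * (X ^ 2 * Γ * (X ^ 2)⁻¹) * X⁻¹ = Γ := by
    have : X * (X ^ 2 * Γ * (X ^ 2)⁻¹) * X⁻¹ = X ^ 3 * Γ * (X ^ 3)⁻¹ := by group
    rw [this, hX]; simp
  have c12 : Commute (X * Γ * X⁻¹) (X ^ 2 * Γ * (X ^ 2)⁻¹) := by
    rw [← e1]
    exact (Commute.conj_iff X).2 hc1
  -- the commutative subgroup `E`
  let k : Set G := {Γ, X * Γ * X⁻¹, X ^ 2 * Γ * (X ^ 2)⁻¹}
  have hk : ∀ x ∈ k, ∀ y ∈ k, x * y = y * x := by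
    intro x hx y hy
    simp only [k, Set.mem_insert_iff, Set.mem_singleton_iff] at hx hy
    rcases hx with rfl | rfl | rfl <;> rcases hy with rfl | rfl | rfl
    · rfl
    · exact hc1.eq
    · exact hc2.eq
    · exact hc1.eq.symm
    · rfl
    · exact c12.eq
    · exact hc2.eq.symm
    · exact c12.eq.symm
    · rfl
  have hk3 : ∀ x ∈ k, x ^ 3 = 1 := by
    intro x hx
    simp only [k, Set.mem_insert_iff, Set.mem_singleton_iff] at hx
    rcases hx with rfl | rfl | rfl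
    · exact hΓ
    · rw [conj_pow, hΓ]; simp
    · rw [conj_pow, hΓ]; simp
  set E := Subgroup.closure k with hE
  have hEc : IsMulCommutative E := Subgroup.isMulCommutative_closure hk
  have hE3 : ∀ e ∈ E, e ^ 3 = 1 := by
    intro e he
    induction he using Subgroup.closure_induction with
    | mem x hx => exact hk3 x hx
    | one => simp
    | mul x y hx hy ihx ihy =>
      have hxy : Commute x y := by
        have := hEc.is_comm.comm (⟨x, hx⟩ : E) ⟨y, hy⟩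
        exact congrArg Subtype.val this
      rw [hxy.mul_pow, ihx, ihy, one_mul]
    | inv x hx ih => rw [inv_pow, ih, inv_one]
  have hEp : IsPGroup 3 E := by
    intro e
    refine ⟨1, ?_⟩
    apply Subtype.ext
    rw [pow_one]
    exact hE3 e.1 e.2
  have hXp : IsPGroup 3 (Subgroup.zpowers X) := by
    intro y
    refine ⟨1, ?_⟩
    obtain ⟨y, i, rfl⟩ := y
    apply Subtype.ext
    change (X ^ i) ^ 3 ^ 1 = 1
    rw [pow_one, ← zpow_natCast, ← zpow_mul, mul_comm, zpow_mul, zpow_natCast, hX, one_zpow]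
  -- `X` normalises `E`
  have hmap : E.map (MulAut.conj X).toMonoidHom = E := by
    rw [hE, MonoidHom.map_closure]
    congr 1
    ext g
    simp only [k, Set.mem_image, Set.mem_insert_iff, Set.mem_singleton_iff, MulEquiv.coe_toMonoidHom,
      MulAut.conj_apply]
    constructor
    · rintro ⟨x, hx | hx | hx, rfl⟩
      · rw [hx]; right; left; rfl
      · rw [hx, e1]; right; right; rfl
      · rw [hx, e2]; left; rfl
    · rintro (rfl | rfl | rfl)
      · exact ⟨X ^ 2 * g * (X ^ 2)⁻¹, Or.inr (Or.inr rfl), e2⟩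
      · exact ⟨Γ, Or.inl rfl, rfl⟩
      · exact ⟨X * Γ * X⁻¹, Or.inr (Or.inl rfl), e1⟩
  have hXn : X ∈ Subgroup.normalizer (E : Set G) := by
    rw [Subgroup.mem_normalizer_iff]
    intro h
    constructor
    · intro hh
      rw [← hmap]
      exact ⟨h, hh, rfl⟩
    · intro hh
      rw [← hmap] at hh
      obtain ⟨h', hh', heq⟩ := hh
      have : h' = h := by
        have h1 : X * h' * X⁻¹ = X * h * X⁻¹ := heq
        have h2 := congrArg (fun t => X⁻¹ * t * X) h1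
        simpa [mul_assoc] using h2
      rw [← this]; exact hh'
  have hle : Subgroup.zpowers X ≤ Subgroup.normalizer (E : Set G) := by
    rw [Subgroup.zpowers_le]; exact hXn
  have hsup : IsPGroup 3 (Subgroup.zpowers X ⊔ E : Subgroup G) :=
    IsPGroup.to_sup_of_normal_right' hXp hEp hle
  apply hsup.to_le
  rw [Subgroup.closure_le]
  intro g hg
  simp only [Set.mem_insert_iff, Set.mem_singleton_iff] at hg
  rcases hg with rfl | rfl
  · exact (le_sup_left : Subgroup.zpowers g ≤ _) (Subgroup.mem_zpowers g)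
  · exact (le_sup_right : E ≤ _) (Subgroup.subset_closure (by simp [k]))

/-- A1: see `tools/blueprints/S4404.md`; proof here via the central element `Z = [X, Γ]` acting on `[A, Z]`
(order at most 16), where the 3-group `⟨X, Γ⟩` induces an abelian group. -/
theorem comm_of_cube [Finite A] (h2 : ∀ a : A, a * a = 1) (X Γ : MulAut A) (hX : X ^ 3 = 1)
    (hΓ : Γ ^ 3 = 1) (hc1 : Commute Γ (X * Γ * X⁻¹)) (hc2 : Commute Γ (X ^ 2 * Γ * (X ^ 2)⁻¹))
    (hXΓ : (X * Γ) ^ 3 = 1) (hV : Nat.card (cm X) ≤ 4) : X * Γ = Γ * X := by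
  classical
  have hXinv : (X ^ 2)⁻¹ = X := inv_eq_of_mul_eq_one_right (by rw [← pow_succ]; exact hX)
  have hΓ1 : (X * Γ * X⁻¹) ^ 3 = 1 := by rw [conj_pow, hΓ]; simp
  have hprod : (X * Γ * X⁻¹) * (X ^ 2 * Γ * (X ^ 2)⁻¹) * Γ = 1 := by
    rw [hXinv, ← hXΓ]
    simp only [pow_succ, pow_zero, one_mul, mul_assoc, inv_mul_cancel_left]
  have hΓ2 : X ^ 2 * Γ * (X ^ 2)⁻¹ = (X * Γ * X⁻¹)⁻¹ * Γ⁻¹ := by
    have := congrArg (fun t => (X * Γ * X⁻¹)⁻¹ * t * Γ⁻¹) hprod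
    simpa [mul_assoc] using this
  have hsq : (X * Γ * X⁻¹)⁻¹ * (X * Γ * X⁻¹)⁻¹ = X * Γ * X⁻¹ := by
    rw [← mul_inv_rev, ← pow_two]
    exact inv_eq_of_mul_eq_one_right (by rw [← pow_succ]; exact hΓ1)
  set Z := X * Γ * X⁻¹ * Γ⁻¹ with hZdef
  have hcZ : Commute Γ Z := hc1.mul_right (Commute.refl Γ).inv_right
  have hZΓ : Γ * Z * Γ⁻¹ = Z := by rw [hcZ.eq, mul_inv_cancel_right]
  have hZX : X * Z * X⁻¹ = Z := by
    have e : X * Z * X⁻¹ = (X ^ 2 * Γ * (X ^ 2)⁻¹) * (X * Γ * X⁻¹)⁻¹ := by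
      rw [hZdef]; simp only [pow_two, mul_inv_rev, mul_assoc, inv_inv, inv_mul_cancel_left]
    rw [e, hΓ2]
    have hcinv : Commute Γ⁻¹ (X * Γ * X⁻¹)⁻¹ := hc1.inv_left.inv_right
    rw [mul_assoc, hcinv.eq, ← mul_assoc, hsq]
  have hZ3 : Z ^ 3 = 1 := by
    have hc : Commute (X * Γ * X⁻¹) Γ⁻¹ := hc1.symm.inv_right
    rw [hZdef, hc.mul_pow, hΓ1, inv_pow, hΓ, inv_one, one_mul]
  -- `W = [A, Z]`
  set W := cm Z with hW
  have hWX : W.map X.toMonoidHom = W := by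
    rw [hW, Cfsg.Agent.Lib.H7.FG19.cm_conj Z X, hZX]
  have hWΓ : W.map Γ.toMonoidHom = W := by
    rw [hW, Cfsg.Agent.Lib.H7.FG19.cm_conj Z Γ, hZΓ]
  have hstab : ∀ Y : MulAut A, W.map Y.toMonoidHom = W → ∀ w, Y w ∈ W ↔ w ∈ W := by
    intro Y hY w
    constructor
    · intro hw
      rw [← hY] at hw
      obtain ⟨w', hw', heq⟩ := hw
      have : w' = w := Y.injective heq
      rw [← this]; exact hw'
    · intro hw
      rw [← hY]
      exact ⟨w, hw, rfl⟩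
  set G := Subgroup.closure ({X, Γ} : Set (MulAut A)) with hG
  have hGst : ∀ Y ∈ G, ∀ w, Y w ∈ W ↔ w ∈ W := by
    intro Y hY
    induction hY using Subgroup.closure_induction with
    | mem Y hY =>
      simp only [Set.mem_insert_iff, Set.mem_singleton_iff] at hY
      rcases hY with rfl | rfl
      · exact hstab _ hWX
      · exact hstab _ hWΓ
    | one => intro w; rfl
    | mul Y1 Y2 _ _ ih1 ih2 =>
      intro w
      rw [MulAut.mul_apply, ih1, ih2]
    | inv Y _ ih =>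
      intro w
      rw [← ih (Y⁻¹ w), MulAut.apply_inv_self]
  have hXG : X ∈ G := Subgroup.subset_closure (by simp)
  have hΓG : Γ ∈ G := Subgroup.subset_closure (by simp)
  -- `|W| ≤ 16`
  have hW16 : Nat.card W ≤ 16 := by
    have hmem : Z ∈ Subgroup.closure ({X, Γ * X⁻¹ * Γ⁻¹} : Set (MulAut A)) := by
      have e : Z = X * (Γ * X⁻¹ * Γ⁻¹) := by rw [hZdef]; simp only [mul_assoc]
      rw [e]
      exact mul_mem (Subgroup.subset_closure (by simp)) (Subgroup.subset_closure (by simp))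
    have h1 : cm Z ≤ cm X ⊔ cm (Γ * X⁻¹ * Γ⁻¹) :=
      Cfsg.Agent.Lib.H7.FG19.cm_le_of_mem_closure X (Γ * X⁻¹ * Γ⁻¹) Z hmem
    have h3 : cm X⁻¹ ≤ cm X := by
      have := Cfsg.Agent.Lib.H7.FG19.cm_le_of_mem_closure X X X⁻¹
        (inv_mem (Subgroup.subset_closure (by simp)))
      rwa [sup_idem] at this
    have h4 : Nat.card (cm (Γ * X⁻¹ * Γ⁻¹)) ≤ 4 := by
      rw [← Cfsg.Agent.Lib.H7.FG19.cm_conj X⁻¹ Γ,
        Subgroup.card_map_of_injective (show Function.Injective Γ.toMonoidHom from Γ.injective)]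
      exact (Subgroup.card_le_of_le h3).trans hV
    have h5 : Nat.card (cm X ⊔ cm (Γ * X⁻¹ * Γ⁻¹) : Subgroup A) ≤ 16 := by
      have e : ((cm X ⊔ cm (Γ * X⁻¹ * Γ⁻¹) : Subgroup A) : Set A) =
          (cm X : Set A) * (cm (Γ * X⁻¹ * Γ⁻¹) : Set A) := Subgroup.mul_normal _ _
      have h6 : Nat.card (cm X ⊔ cm (Γ * X⁻¹ * Γ⁻¹) : Subgroup A) =
          Nat.card ((cm X : Set A) * (cm (Γ * X⁻¹ * Γ⁻¹) : Set A) : Set A) := by
        rw [← e]; rfl
      rw [h6]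
      calc Nat.card ((cm X : Set A) * (cm (Γ * X⁻¹ * Γ⁻¹) : Set A) : Set A)
          ≤ Nat.card (cm X : Set A) * Nat.card (cm (Γ * X⁻¹ * Γ⁻¹) : Set A) := Set.natCard_mul_le
        _ ≤ 4 * 4 := Nat.mul_le_mul hV h4
    exact (Subgroup.card_le_of_le h1).trans h5
  have : Fact (Nat.Prime 2) := ⟨Nat.prime_two⟩
  have hW2 : IsPGroup 2 W := by
    intro u
    refine ⟨1, ?_⟩
    apply Subtype.ext
    rw [pow_one, pow_two]
    exact h2 u.1
  obtain ⟨d, hd⟩ := IsPGroup.exists_card_eq hW2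
  have hd4 : d ≤ 4 := by
    by_contra hcon
    rw [not_le] at hcon
    have : 2 ^ 5 ≤ 2 ^ d := Nat.pow_le_pow_right (by norm_num) hcon
    rw [hd] at hW16
    omega
  have hWe : ∀ u : W, u * u = 1 := fun u => Subtype.ext (h2 u.1)
  have hcardAut := Cfsg.Agent.Lib.H5.FG19.card_mulAut_eq hWe d hd
  -- the restriction homomorphism
  let ρ : G →* MulAut W := a1Restr W G (fun Y hY w hw => (hGst Y hY w).2 hw)
  have hGp : IsPGroup 3 G := a1_isPGroup X Γ hX hΓ hc1 hc2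
  have hRp : IsPGroup 3 ρ.range := hGp.of_surjective ρ.rangeRestrict ρ.rangeRestrict_surjective
  have hRdvd : Nat.card ρ.range ∣ ∏ i ∈ Finset.range d, (2 ^ d - 2 ^ i) := by
    rw [← hcardAut]
    exact Subgroup.card_subgroup_dvd_card _
  have hRcomm := a1_comm_of_three hRp d hd4 hRdvd
  have hcomm : ρ ⟨X, hXG⟩ * ρ ⟨Γ, hΓG⟩ = ρ ⟨Γ, hΓG⟩ * ρ ⟨X, hXG⟩ := by
    have := hRcomm ⟨ρ ⟨X, hXG⟩, ⟨_, rfl⟩⟩ ⟨ρ ⟨Γ, hΓG⟩, ⟨_, rfl⟩⟩
    exact congrArg Subtype.val this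
  have hρZ : ρ (⟨X, hXG⟩ * ⟨Γ, hΓG⟩ * ⟨X, hXG⟩⁻¹ * ⟨Γ, hΓG⟩⁻¹) = 1 := by
    rw [map_mul, map_mul, map_mul, map_inv, map_inv, hcomm]
    simp
  -- `Z` is trivial on `W`
  have hWfx : W ≤ fx Z := by
    intro w hw
    rw [mem_fx]
    have h := congrArg (fun f : MulAut W => ((f ⟨w, hw⟩ : W) : A)) hρZ
    exact h
  have hbot : W = ⊥ := by
    have h := Cfsg.Agent.Lib.H15.FG19.cm_inf_fx h2 Z (n := 3) (by decide) hZ3
    rw [eq_bot_iff, ← h]
    exact le_inf le_rfl hWfx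
  have hZ1 : Z = 1 := by
    ext a
    have hmem : Z a * a⁻¹ ∈ W := mem_cm.2 ⟨a, rfl⟩
    rw [hbot, Subgroup.mem_bot, mul_inv_eq_one] at hmem
    rw [hmem]; rfl
  have h5 : X * Γ * X⁻¹ = Γ := by
    have := hZ1
    rw [hZdef, mul_inv_eq_one] at this
    exact this
  exact mul_inv_eq_iff_eq_mul.1 h5

end abstract

end Cfsg.Agent.Lib.H24.FG19
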