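import Cfsg.Agent.Lib.H11.FG19P1
import Cfsg.Agent.Lib.H5.FG19P2
import Cfsg.Agent.Lib.H7.FG19BAS2

set_option autoImplicit false

namespace Cfsg.Agent.Lib.H24.FG19

open Cfsg Cfsg.Agent.Lib.H1.FG19
open scoped IsMulCommutative Pointwise

section abstract

variable {A : Type*} [CommGroup A]

/-- Q1 (M): two `F_8`-elements generating a 7-group commute (`|U| ∣ 64`, `7^3 ∤ |GL_d(2)|` for `d ≤ 6`; P1, P2). -/
theorem commute_of_seven [Finite A] (h2 : ∀ a : A, a * a = 1) (B₁ B₂ : MulAut A)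
    (hP : IsPGroup 7 (Subgroup.closure {B₁, B₂})) (h1 : Nat.card (cm B₁) = 8)
    (h2' : Nat.card (cm B₂) = 8) : B₁ * B₂ = B₂ * B₁ := by
  classical
  have : Fact (Nat.Prime 7) := ⟨by norm_num⟩
  have : Fact (Nat.Prime 2) := ⟨Nat.prime_two⟩
  have hfin : Finite (MulAut A) := Finite.of_injective (fun f : MulAut A => (f : A → A))
    (fun f g h => MulEquiv.ext (fun a => congrFun h a))
  set J := Subgroup.closure ({B₁, B₂} : Set (MulAut A)) with hJ
  obtain ⟨n, hn⟩ := IsPGroup.exists_card_eq hP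
  have hodd : Odd (Nat.card J) := by
    rw [hn]; exact Odd.pow (by decide)
  set U := cm B₁ ⊔ cm B₂ with hU
  have hUle : ∀ Z ∈ J, cm Z ≤ U := fun Z hZ =>
    Cfsg.Agent.Lib.H7.FG19.cm_le_of_mem_closure B₁ B₂ Z hZ
  have hdvd : Nat.card J ∣ Nat.card (MulAut U) :=
    Cfsg.Agent.Lib.H11.FG19.card_dvd_card_mulAut h2 J hodd U hUle
  -- `|U| = 2 ^ d`, `d ≤ 6`
  have hU2 : IsPGroup 2 U := by
    intro u
    refine ⟨1, ?_⟩
    apply Subtype.ext
    rw [pow_one, pow_two]
    exact h2 u.1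
  obtain ⟨d, hd⟩ := IsPGroup.exists_card_eq hU2
  have hU64 : Nat.card U ≤ 64 := by
    have e : ((cm B₁ ⊔ cm B₂ : Subgroup A) : Set A) = (cm B₁ : Set A) * (cm B₂ : Set A) :=
      Subgroup.mul_normal (cm B₁) (cm B₂)
    have h3 : Nat.card U = Nat.card ((cm B₁ : Set A) * (cm B₂ : Set A) : Set A) := by
      rw [← e]; rfl
    rw [h3]
    calc Nat.card ((cm B₁ : Set A) * (cm B₂ : Set A) : Set A)
        ≤ Nat.card (cm B₁ : Set A) * Nat.card (cm B₂ : Set A) := Set.natCard_mul_le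
      _ = 64 := by
        have e1 : Nat.card (cm B₁ : Set A) = 8 := h1
        have e2 : Nat.card (cm B₂ : Set A) = 8 := h2'
        rw [e1, e2]
  have hd6 : d ≤ 6 := by
    by_contra hcon
    rw [not_le] at hcon
    have : 2 ^ 7 ≤ 2 ^ d := Nat.pow_le_pow_right (by norm_num) hcon
    rw [hd] at hU64
    omega
  have hUe : ∀ u : U, u * u = 1 := fun u => Subtype.ext (h2 u.1)
  have hcardAut := Cfsg.Agent.Lib.H5.FG19.card_mulAut_eq hUe d hd
  rw [hcardAut, hn] at hdvd
  have hn2 : n ≤ 2 := by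
    by_contra hcon
    rw [not_le] at hcon
    have h343 : 7 ^ 3 ∣ ∏ i ∈ Finset.range d, (2 ^ d - 2 ^ i) :=
      (pow_dvd_pow 7 hcon).trans hdvd
    interval_cases d <;> simp [Finset.prod_range_succ] at h343
  -- groups of order `1, 7, 49` are commutative
  have hcomm : ∀ a b : J, a * b = b * a := by
    interval_cases n
    · intro a b
      have hss : Subsingleton J := (Nat.card_eq_one_iff_unique.1 (by simpa using hn)).1
      rw [Subsingleton.elim a b]
    · have hc : IsCyclic J := isCyclic_of_prime_card (p := 7) (by simpa using hn)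
      intro a b
      exact (IsCyclic.isMulCommutative (α := J)).is_comm.comm a b
    · intro a b
      exact (IsPGroup.isMulCommutative_of_card_eq_prime_sq (p := 7) hn).is_comm.comm a b
  have hB₁ : B₁ ∈ J := Subgroup.subset_closure (by simp)
  have hB₂ : B₂ ∈ J := Subgroup.subset_closure (by simp)
  have := hcomm ⟨B₁, hB₁⟩ ⟨B₂, hB₂⟩
  exact congrArg Subtype.val this

end abstract

end Cfsg.Agent.Lib.H24.FG19
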