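import Mathlib
import Cfsg.Agent.Lib.H24.CharFSInd
import Cfsg.Agent.Lib.H24.CharFS
import Cfsg.Agent.Lib.H24.CharLinearMul
import Cfsg.Agent.Lib.H24.CharTwist
import Cfsg.Agent.Lib.H24.CharOrth
import Cfsg.Agent.Lib.H23.OrbitSum
import Cfsg.Agent.Lib.H23.DegreeDvd
import Cfsg.Agent.Lib.L0.CharLinear
import Cfsg.Agent.Lib.L0.CharInner

/-!
# Twisting by linear characters and the Alperin–Feit–Thompson theorem on involutions in 2-groups
-/

set_option autoImplicit false

namespace Cfsg.Agent.Lib.H24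

open Cfsg Cfsg.Agent.Lib.L0 Cfsg.Agent.Lib.H23
open scoped ComplexConjugate

section Twist

variable {G : Type*} [Group G] [Finite G]

/-- The indicator of a linear character. -/
theorem fsInd_homIrr [Fintype G] [DecidableEq (G →* ℂˣ)] (f : G →* ℂˣ) :
    fsInd (homIrr f : G → ℂ) = if f * f = 1 then 1 else 0 := by
  classical
  have h1 : fsInd (homIrr f : G → ℂ) =
      classInner (homIrr (f * f) : G → ℂ) (trivialIrr G : G → ℂ) := by
    unfold fsInd classInner
    congr 1
    refine Finset.sum_congr rfl (fun s _ => ?_)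
    rw [homIrr_apply, homIrr_apply, trivialIrr_apply, map_one, mul_one, map_mul,
      MonoidHom.mul_apply]
  rw [h1, irr_orthonormal]
  by_cases hff : f * f = 1
  · rw [if_pos hff, if_pos]
    apply Subtype.ext
    funext g
    rw [homIrr_apply, hff, MonoidHom.one_apply, Units.val_one, trivialIrr_apply]
  · rw [if_neg hff, if_neg]
    intro h
    apply hff
    have h2 : homIrr (f * f) = homIrr (1 : G →* ℂˣ) := by
      rw [h]
      apply Subtype.ext
      funext g
      rw [homIrr_apply, MonoidHom.one_apply, Units.val_one, trivialIrr_apply]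
    exact homIrr_injective h2

/-- If `χ` is fixed by twisting with each member of a finite set `T` of linear characters, then
`|T| ≤ χ(1)²`. -/
theorem card_le_sq_of_twist_eq (χ : IrrCharacter G) (T : Finset (G →* ℂˣ))
    (hT : ∀ μ ∈ T, twist μ χ = χ) : T.card ≤ charDegree (χ : G → ℂ) ^ 2 := by
  classical
  have := Fintype.ofFinite G
  set K : Subgroup G := ⨅ μ ∈ T, μ.ker with hK
  have hKmem : ∀ g, g ∈ K ↔ ∀ μ ∈ T, μ g = 1 := by
    intro g
    simp only [hK, Subgroup.mem_iInf, MonoidHom.mem_ker]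
  have hvan : ∀ g, g ∉ K → (χ : G → ℂ) g = 0 := by
    intro g hg
    rw [hKmem] at hg
    push Not at hg
    obtain ⟨μ, hμ, hμg⟩ := hg
    have h1 := congrFun (congrArg Subtype.val (hT μ hμ)) g
    rw [twist_apply] at h1
    by_contra h0
    apply hμg
    have h2 : ((μ g : ℂˣ) : ℂ) = 1 := by
      have : (χ : G → ℂ) g * (μ g : ℂ) = (χ : G → ℂ) g * 1 := by rw [h1, mul_one]
      exact mul_left_cancel₀ h0 this
    exact Units.ext h2
  -- `|G| = Σ ‖χ g‖²`
  have hnorm : ∑ g : G, ‖(χ : G → ℂ) g‖ ^ 2 = (Nat.card G : ℝ) := by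
    have h1 := irr_classInner_self χ.2
    rw [classInner_self_eq] at h1
    have h2 : (Nat.card G : ℝ)⁻¹ * ∑ g : G, ‖(χ : G → ℂ) g‖ ^ 2 = 1 := by exact_mod_cast h1
    have hG : (Nat.card G : ℝ) ≠ 0 := by exact_mod_cast (Nat.card_pos (α := G)).ne'
    field_simp at h2
    linarith
  have hd : ‖(χ : G → ℂ) 1‖ = (charDegree (χ : G → ℂ) : ℝ) := by
    rw [apply_one_eq_charDegree χ.1 χ.2]
    simp
  have hbound : (Nat.card G : ℝ) ≤ (Nat.card K : ℝ) * (charDegree (χ : G → ℂ) : ℝ) ^ 2 := by
    rw [← hnorm]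
    have h1 : ∑ g : G, ‖(χ : G → ℂ) g‖ ^ 2 =
        ∑ g ∈ Finset.univ.filter (· ∈ K), ‖(χ : G → ℂ) g‖ ^ 2 := by
      rw [Finset.sum_filter]
      refine Finset.sum_congr rfl (fun g _ => ?_)
      by_cases hg : g ∈ K
      · rw [if_pos hg]
      · rw [if_neg hg, hvan g hg, norm_zero]
        norm_num
    rw [h1]
    have h2 : ∀ g ∈ Finset.univ.filter (· ∈ K), ‖(χ : G → ℂ) g‖ ^ 2 ≤
        (charDegree (χ : G → ℂ) : ℝ) ^ 2 := by
      intro g _
      have := isCharacter_norm_le (isCharacter_of_irr χ.2) g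
      rw [hd] at this
      exact pow_le_pow_left₀ (norm_nonneg _) this 2
    have h3 := Finset.sum_le_sum h2
    rw [Finset.sum_const, nsmul_eq_mul] at h3
    have h4 : (Finset.univ.filter (· ∈ K)).card = Nat.card K := by
      rw [Nat.card_eq_fintype_card, Fintype.card_subtype]
    rw [h4] at h3
    exact h3
  have hidx : K.index ≤ charDegree (χ : G → ℂ) ^ 2 := by
    have h1 : Nat.card G ≤ Nat.card K * charDegree (χ : G → ℂ) ^ 2 := by exact_mod_cast hbound
    rw [← K.card_mul_index] at h1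
    exact Nat.le_of_mul_le_mul_left h1 Nat.card_pos
  refine le_trans (card_hom_trivial_on_le_index K T ?_) hidx
  intro ν hν i hi
  exact (hKmem i).mp hi ν hν

end Twist

section Congruence

variable {G : Type*} [Group G] [Fintype G]

/-- The indicator as an integer in `{0, 1, -1}`, nonzero exactly for real-valued characters. -/
theorem exists_int_fsInd (χ : IrrCharacter G) : ∃ z : ℤ, (z = 0 ∨ z = 1 ∨ z = -1) ∧
    fsInd (χ : G → ℂ) = (z : ℂ) ∧ (z ≠ 0 ↔ ∀ s : G, ((χ : G → ℂ) s).im = 0) := by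
  rcases fsInd_irr_cases χ with ⟨h0, s, hs⟩ | ⟨h1 | h1, hreal⟩
  · refine ⟨0, Or.inl rfl, by rw [h0]; simp, ?_⟩
    constructor
    · intro h; exact absurd rfl h
    · intro h; exact absurd (h s) hs
  · refine ⟨1, Or.inr (Or.inl rfl), by rw [h1]; simp, ?_⟩
    exact ⟨fun _ => hreal, fun _ => one_ne_zero⟩
  · refine ⟨-1, Or.inr (Or.inr rfl), by rw [h1]; simp, ?_⟩
    exact ⟨fun _ => hreal, fun _ => by norm_num⟩

/-- The Frobenius–Schur count modulo `4` in a `2`-group. -/
theorem fs_congruence (hG : IsPGroup 2 G) [Fintype (IrrCharacter G)] [Fintype (G →* ℂˣ)]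
    [DecidableEq (G →* ℂˣ)]
    [DecidablePred (fun χ : IrrCharacter G => charDegree (χ : G → ℂ) = 2 ∧
      ∀ s : G, ((χ : G → ℂ) s).im = 0)] :
    ((Nat.card {s : G // s * s = 1} : ℕ) : ZMod 4) =
      ((Finset.univ.filter (fun f : G →* ℂˣ => f * f = 1)).card : ZMod 4) +
      2 * ((Finset.univ.filter (fun χ : IrrCharacter G => charDegree (χ : G → ℂ) = 2 ∧
        ∀ s : G, ((χ : G → ℂ) s).im = 0)).card : ZMod 4) := by
  classical
  choose νz hνz using exists_int_fsInd (G := G)
  have hFS := card_sqrt_eq_sum (G := G) 1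
  have hFSz : ((Nat.card {s : G // s * s = 1} : ℕ) : ℤ) =
      ∑ χ : IrrCharacter G, νz χ * (charDegree (χ : G → ℂ) : ℤ) := by
    have : (((Nat.card {s : G // s * s = 1} : ℕ) : ℤ) : ℂ) =
        ((∑ χ : IrrCharacter G, νz χ * (charDegree (χ : G → ℂ) : ℤ) : ℤ) : ℂ) := by
      push_cast
      rw [hFS]
      refine Finset.sum_congr rfl (fun χ _ => ?_)
      rw [(hνz χ).2.1, apply_one_eq_charDegree χ.1 χ.2]
    exact_mod_cast this
  -- degrees are powers of two
  obtain ⟨n, hn⟩ := IsPGroup.iff_card.mp hG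
  have hdeg : ∀ χ : IrrCharacter G, ∃ j : ℕ, charDegree (χ : G → ℂ) = 2 ^ j := by
    intro χ
    have h1 := charDegree_dvd_card χ.1 χ.2
    rw [hn] at h1
    obtain ⟨j, -, hj⟩ := (Nat.dvd_prime_pow Nat.prime_two).mp h1
    exact ⟨j, hj⟩
  have hterm : ∀ χ : IrrCharacter G,
      ((νz χ * (charDegree (χ : G → ℂ) : ℤ) : ℤ) : ZMod 4) =
        (if charDegree (χ : G → ℂ) = 1 then ((νz χ : ℤ) : ZMod 4) else 0) +
        (if charDegree (χ : G → ℂ) = 2 ∧ ∀ s : G, ((χ : G → ℂ) s).im = 0 then 2 else 0) := by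
    intro χ
    obtain ⟨hz, -, hreal⟩ := hνz χ
    have hcases : charDegree (χ : G → ℂ) = 1 ∨ charDegree (χ : G → ℂ) = 2 ∨
        4 ∣ charDegree (χ : G → ℂ) := by
      obtain ⟨j, hj⟩ := hdeg χ
      rcases j with _ | _ | j
      · left; rw [hj, pow_zero]
      · right; left; rw [hj, zero_add, pow_one]
      · right; right
        rw [hj]
        exact ⟨2 ^ j, by ring⟩
    rcases hcases with h1 | h2 | h4
    · rw [if_pos h1, if_neg (fun h => by omega), add_zero, h1]
      simp
    · rw [if_neg (by omega)]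
      by_cases hr : ∀ s : G, ((χ : G → ℂ) s).im = 0
      · rw [if_pos ⟨h2, hr⟩, h2]
        have hne := hreal.mpr hr
        rcases hz with h | h | h
        · exact absurd h hne
        · rw [h]; decide
        · rw [h]; decide
      · rw [if_neg (fun h => hr h.2)]
        have h0 : νz χ = 0 := by
          by_contra hne
          exact hr (hreal.mp hne)
        rw [h0]; simp
    · rw [if_neg (by omega), if_neg (fun h => by omega), add_zero]
      push_cast
      rw [(ZMod.natCast_eq_zero_iff _ 4).mpr h4, mul_zero]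
  have hcast : ((Nat.card {s : G // s * s = 1} : ℕ) : ZMod 4) =
      (((Nat.card {s : G // s * s = 1} : ℕ) : ℤ) : ZMod 4) := by push_cast; rfl
  rw [hcast, hFSz, Int.cast_sum, Finset.sum_congr rfl (fun χ _ => hterm χ),
    Finset.sum_add_distrib]
  congr 1
  · -- linear characters
    rw [← Finset.sum_filter]
    have hbij : ∑ χ ∈ Finset.univ.filter (fun χ : IrrCharacter G => charDegree (χ : G → ℂ) = 1),
        ((νz χ : ℤ) : ZMod 4) = ∑ f : G →* ℂˣ, ((νz (homIrr f) : ℤ) : ZMod 4) := by
      symm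
      refine Finset.sum_bij (fun f _ => homIrr f) ?_ ?_ ?_ ?_
      · intro f _
        exact Finset.mem_filter.mpr ⟨Finset.mem_univ _, charDegree_homIrr f⟩
      · intro f₁ _ f₂ _ h
        exact homIrr_injective h
      · intro χ hχ
        have h1 : (χ : G → ℂ) 1 = 1 := by
          rw [apply_one_eq_charDegree χ.1 χ.2, (Finset.mem_filter.mp hχ).2, Nat.cast_one]
        exact ⟨linearCharHom (isCharacter_of_irr χ.2) h1, Finset.mem_univ _, Subtype.ext rfl⟩
      · intro f _; rfl
    rw [hbij]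
    have hval : ∀ f : G →* ℂˣ, ((νz (homIrr f) : ℤ) : ZMod 4) = if f * f = 1 then 1 else 0 := by
      intro f
      have h1 := (hνz (homIrr f)).2.1
      rw [fsInd_homIrr] at h1
      by_cases hff : f * f = 1
      · rw [if_pos hff] at h1 ⊢
        have : νz (homIrr f) = 1 := by exact_mod_cast h1.symm
        rw [this]; simp
      · rw [if_neg hff] at h1 ⊢
        have : νz (homIrr f) = 0 := by exact_mod_cast h1.symm
        rw [this]; simp
    rw [Finset.sum_congr rfl (fun f _ => hval f), Finset.sum_boole]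
  · rw [← Finset.sum_filter, Finset.sum_const, nsmul_eq_mul, mul_comm]

end Congruence

section Cyclic

variable {G : Type*} [Group G]

/-- The sign homomorphism of a subgroup of index two. -/
noncomputable def signHom (K : Subgroup G) (hK : K.index = 2) : G →* ℂˣ :=
  haveI := Classical.propDecidable
  { toFun := fun g => if g ∈ K then 1 else -1
    map_one' := by simp [K.one_mem]
    map_mul' := by
      intro a b
      have := Subgroup.mul_mem_iff_of_index_two hK (a := a) (b := b)
      by_cases ha : a ∈ K <;> by_cases hb : b ∈ K <;> simp [ha, hb, this] }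

theorem signHom_apply_mem (K : Subgroup G) (hK : K.index = 2) {g : G} (hg : g ∈ K) :
    signHom K hK g = 1 := by
  unfold signHom
  simp [hg]

theorem signHom_apply_not_mem (K : Subgroup G) (hK : K.index = 2) {g : G} (hg : g ∉ K) :
    signHom K hK g = -1 := by
  unfold signHom
  simp [hg]

theorem signHom_mul_self (K : Subgroup G) (hK : K.index = 2) :
    signHom K hK * signHom K hK = 1 := by
  ext g
  by_cases hg : g ∈ K
  · rw [MonoidHom.mul_apply, signHom_apply_mem K hK hg]; simp
  · rw [MonoidHom.mul_apply, signHom_apply_not_mem K hK hg]; simp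

/-- A `2`-group with exactly two homomorphisms to `ℂˣ` of square one is cyclic. -/
theorem isCyclic_of_card_sq_eq_two [Finite G] (hG : IsPGroup 2 G) [Fintype (G →* ℂˣ)]
    [DecidableEq (G →* ℂˣ)]
    (hcard : (Finset.univ.filter (fun f : G →* ℂˣ => f * f = 1)).card = 2) : IsCyclic G := by
  classical
  haveI : Fact (Nat.Prime 2) := ⟨Nat.prime_two⟩
  obtain ⟨a, b, hab, hset⟩ := Finset.card_eq_two.mp hcard
  have hmem : ∀ f : G →* ℂˣ, f * f = 1 → f = a ∨ f = b := by
    intro f hf
    have : f ∈ Finset.univ.filter (fun f : G →* ℂˣ => f * f = 1) :=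
      Finset.mem_filter.mpr ⟨Finset.mem_univ _, hf⟩
    rw [hset] at this
    simpa using this
  -- a nontrivial such homomorphism
  obtain ⟨f₀, hf₀sq, hf₀ne, hf₀all⟩ : ∃ f₀ : G →* ℂˣ, f₀ * f₀ = 1 ∧ f₀ ≠ 1 ∧
      ∀ f : G →* ℂˣ, f * f = 1 → f = 1 ∨ f = f₀ := by
    have ha : a * a = 1 := by
      have : a ∈ Finset.univ.filter (fun f : G →* ℂˣ => f * f = 1) := by rw [hset]; simp
      exact (Finset.mem_filter.mp this).2
    have hb : b * b = 1 := by
      have : b ∈ Finset.univ.filter (fun f : G →* ℂˣ => f * f = 1) := by rw [hset]; simp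
      exact (Finset.mem_filter.mp this).2
    rcases hmem (1 : G →* ℂˣ) (one_mul (1 : G →* ℂˣ)) with h1 | h1
    · refine ⟨b, hb, fun h => hab (h1.symm.trans h.symm), fun f hf => ?_⟩
      rcases hmem f hf with h | h
      · left; rw [h, h1]
      · right; exact h
    · refine ⟨a, ha, fun h => hab (h.trans h1), fun f hf => ?_⟩
      rcases hmem f hf with h | h
      · right; exact h
      · left; rw [h, h1]
  obtain ⟨x, hx⟩ : ∃ x : G, f₀ x ≠ 1 := by
    by_contra hcon
    push Not at hcon
    apply hf₀ne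
    ext g
    rw [hcon g, MonoidHom.one_apply]
  suffices htop : Subgroup.zpowers x = ⊤ by
    exact isCyclic_iff_exists_zpowers_eq_top.mpr ⟨x, htop⟩
  by_contra hne
  obtain ⟨n, hn⟩ := IsPGroup.iff_card.mp hG
  obtain ⟨m, hm⟩ := IsPGroup.iff_card.mp (hG.to_subgroup (Subgroup.zpowers x))
  have hmn : m < n := by
    have h1 : Nat.card (Subgroup.zpowers x) ∣ Nat.card G := Subgroup.card_subgroup_dvd_card _
    rw [hm, hn] at h1
    have h2 : m ≤ n := (Nat.pow_dvd_pow_iff_le_right (by norm_num)).mp h1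
    rcases Nat.lt_or_ge m n with h | h
    · exact h
    · exfalso
      apply hne
      have h3 : m = n := le_antisymm h2 h
      apply Subgroup.eq_top_of_card_eq
      rw [hm, hn, h3]
  obtain ⟨K, hKcard, hHK⟩ := Sylow.exists_subgroup_card_pow_prime_le 2
    (show 2 ^ (n - 1) ∣ Nat.card G by rw [hn]; exact pow_dvd_pow 2 (Nat.sub_le n 1))
    (Subgroup.zpowers x) hm (by omega)
  have hKidx : K.index = 2 := by
    have h1 := K.card_mul_index
    rw [hKcard, hn] at h1
    have h2 : 2 ^ n = 2 ^ (n - 1) * 2 := by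
      rw [← pow_succ]; congr 1; omega
    rw [h2] at h1
    exact Nat.eq_of_mul_eq_mul_left (by positivity) h1
  have hxK : x ∈ K := hHK (Subgroup.mem_zpowers x)
  rcases hf₀all (signHom K hKidx) (signHom_mul_self K hKidx) with h | h
  · -- signHom is nontrivial
    have hKne : K ≠ ⊤ := by
      intro h'
      rw [h', Subgroup.index_top] at hKidx
      norm_num at hKidx
    obtain ⟨g, hg⟩ : ∃ g : G, g ∉ K := by
      by_contra hcon
      push Not at hcon
      exact hKne (eq_top_iff.mpr (fun g _ => hcon g))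
    have h1 := signHom_apply_not_mem K hKidx hg
    rw [h, MonoidHom.one_apply] at h1
    have h2 := congrArg Units.val h1
    norm_num at h2
  · apply hx
    rw [← h, signHom_apply_mem K hKidx hxK]

end Cyclic

section Orbits

variable {G : Type*} [Group G] [Finite G]

/-- Orbit counting mod `2` for the twisting action of a `2`-group of linear characters. -/
theorem card_modEq_card_fixed_twist (E D : Subgroup (G →* ℂˣ)) (hDE : D ≤ E)
    (hE : IsPGroup 2 E) (S : Finset (IrrCharacter G)) [DecidableEq (IrrCharacter G)]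
    [DecidablePred (fun χ : IrrCharacter G => ∀ μ ∈ E, twist μ χ = χ)]
    (hinv : ∀ μ ∈ E, ∀ χ ∈ S, twist μ χ ∈ S) (hD : ∀ μ ∈ D, ∀ χ ∈ S, twist μ χ = χ) :
    S.card ≡ (S.filter (fun χ => ∀ μ ∈ E, twist μ χ = χ)).card [MOD 2] := by
  classical
  obtain ⟨k, hk⟩ := IsPGroup.iff_card.mp hE
  have hidx : ∃ j : ℕ, (D.subgroupOf E).index = 2 ^ j := by
    have h1 : (D.subgroupOf E).index ∣ Nat.card E := Subgroup.index_dvd_card _
    rw [hk] at h1
    obtain ⟨j, -, hj⟩ := (Nat.dvd_prime_pow Nat.prime_two).mp h1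
    exact ⟨j, hj⟩
  have h := sum_modEq_sum_fixed (E := E) (X := IrrCharacter G) 2 Nat.prime_two
    (fun e χ => twist (e : G →* ℂˣ) χ) (fun χ => twist_one χ)
    (fun g h χ => twist_mul (g : G →* ℂˣ) (h : G →* ℂˣ) χ) (D.subgroupOf E) hidx (fun _ => 1) S
    (fun g χ hχ => hinv g g.2 χ hχ)
    (fun d hd χ hχ => hD d (Subgroup.mem_subgroupOf.mp hd) χ hχ)
    (fun _ _ _ => rfl)
  simp only [Finset.sum_const, smul_eq_mul, mul_one] at h
  have hfilter : S.filter (fun χ => ∀ g : E, twist (g : G →* ℂˣ) χ = χ) =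
      S.filter (fun χ => ∀ μ ∈ E, twist μ χ = χ) := by
    apply Finset.filter_congr
    intro χ _
    constructor
    · intro h μ hμ; exact h ⟨μ, hμ⟩
    · intro h g; exact h g g.2
  rw [hfilter] at h
  exact h

/-- A character fixed by twisting with a whole subgroup `E` of linear characters has
`|E| ≤ χ(1)²`. -/
theorem card_subgroup_le_sq_of_twist_eq (χ : IrrCharacter G) (E : Subgroup (G →* ℂˣ))
    (hE : ∀ μ ∈ E, twist μ χ = χ) : Nat.card E ≤ charDegree (χ : G → ℂ) ^ 2 := by
  classical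
  have := Fintype.ofFinite (G →* ℂˣ)
  have h := card_le_sq_of_twist_eq χ (Finset.univ.filter (· ∈ E))
    (fun μ hμ => hE μ (Finset.mem_filter.mp hμ).2)
  have h2 : (Finset.univ.filter (· ∈ E)).card = Nat.card E := by
    rw [Nat.card_eq_fintype_card, Fintype.card_subtype]
  rw [h2] at h
  exact h

end Orbits

end Cfsg.Agent.Lib.H24
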