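import Cfsg.Agent.Lib.H24.GlaubCyclic5
import Cfsg.Agent.Lib.H24.GlaubAmb7
import Cfsg.Agent.Lib.H24.CharKer
import Cfsg.Agent.Lib.H24.CharSchur
import Cfsg.Agent.Lib.H24.CharBasic

/-!
# Flavell's fixed point theorem for a cyclic group of odd order, internal form (helper24)

`Γ = N⟨s⟩`, `N` normal, `(|N|, o(s)) = 1`, `o(s)` odd.  For `h ∈ N` let `cm s h = ⟨h⁻¹ (sⁱ h s⁻ⁱ)⟩`
(`= [h, ⟨s⟩]`) and `W N s = ⟨h⁻¹ (sⁱ h s⁻ⁱ) : h ∈ N⟩` (`= [N, ⟨s⟩]`).  Then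
`C_W(s) = ⟨C_{[h,⟨s⟩]}(s) : h ∈ N⟩` (`flavell_internal`).
The proof is character theoretic (Glauberman correspondence for the cyclic group `⟨s⟩`, the sign formula
`χ̂(c s) = ε β(c)` and a class sum); no solvability is needed.
-/

set_option autoImplicit false

universe u

namespace Cfsg.Agent.Lib.H24.Flav

open Cfsg Cfsg.Agent.Lib.L0 Cfsg.Agent.Lib.H23 Cfsg.Agent.Lib.H8 Cfsg.Agent.Lib.H24
open Cfsg.Agent.Lib.H24.Glaub
open scoped ComplexConjugate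

variable {Γ : Type u} [Group Γ]

/-- `[h, ⟨s⟩]`. -/
def cm (s h : Γ) : Subgroup Γ :=
  Subgroup.closure {c | ∃ i : ℕ, c = h⁻¹ * (s ^ i * h * (s ^ i)⁻¹)}

/-- `[N, ⟨s⟩]`. -/
def WW (N : Subgroup Γ) (s : Γ) : Subgroup Γ :=
  Subgroup.closure {c | ∃ h ∈ N, ∃ i : ℕ, c = h⁻¹ * (s ^ i * h * (s ^ i)⁻¹)}

/-- `⟨C_{[h,⟨s⟩]}(s) : h ∈ N⟩`. -/
def FF (N : Subgroup Γ) (s : Γ) : Subgroup Γ := ⨆ h : N, cm s (h : Γ) ⊓ fixedSub N s

theorem gen_mem_cm (s h : Γ) (i : ℕ) : h⁻¹ * (s ^ i * h * (s ^ i)⁻¹) ∈ cm s h :=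
  Subgroup.subset_closure ⟨i, rfl⟩

theorem cm_le {N : Subgroup Γ} [hN : N.Normal] {s h : Γ} (hh : h ∈ N) : cm s h ≤ N := by
  unfold cm
  rw [Subgroup.closure_le]
  rintro c ⟨i, rfl⟩
  exact N.mul_mem (N.inv_mem hh) (hN.conj_mem h hh (s ^ i))

theorem cm_conj_s (s h : Γ) : ∀ k ∈ cm s h, s * k * s⁻¹ ∈ cm s h := by
  have hle : cm s h ≤ (cm s h).comap (MulAut.conj s).toMonoidHom := by
    conv_lhs => unfold cm
    rw [Subgroup.closure_le]
    rintro c ⟨i, rfl⟩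
    show s * (h⁻¹ * (s ^ i * h * (s ^ i)⁻¹)) * s⁻¹ ∈ cm s h
    have e : s * (h⁻¹ * (s ^ i * h * (s ^ i)⁻¹)) * s⁻¹ =
        (h⁻¹ * (s ^ 1 * h * (s ^ 1)⁻¹))⁻¹ * (h⁻¹ * (s ^ (i + 1) * h * (s ^ (i + 1))⁻¹)) := by
      rw [pow_one, pow_succ']
      group
    rw [e]
    exact Subgroup.mul_mem _ (Subgroup.inv_mem _ (gen_mem_cm s h 1)) (gen_mem_cm s h (i + 1))
  intro k hk
  exact hle hk

theorem FF_le (N : Subgroup Γ) (s : Γ) : FF N s ≤ fixedSub N s :=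
  iSup_le fun _ => inf_le_right

theorem cm_inf_le_FF {N : Subgroup Γ} {s h : Γ} (hh : h ∈ N) : cm s h ⊓ fixedSub N s ≤ FF N s :=
  le_iSup (fun h : N => cm s (h : Γ) ⊓ fixedSub N s) ⟨h, hh⟩

/-- `FF` is normalised by `C_N(s)`. -/
theorem FF_conj {N : Subgroup Γ} [hN : N.Normal] {s : Γ} {c : Γ} (hc : c ∈ fixedSub N s) :
    ∀ f ∈ FF N s, c * f * c⁻¹ ∈ FF N s := by
  have hcs : Commute c s := (mem_fixedSub.mp hc).2
  have hle : FF N s ≤ (FF N s).comap (MulAut.conj c).toMonoidHom := by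
    conv_lhs => unfold FF
    apply iSup_le
    rintro ⟨h, hh⟩ f hf
    rw [Subgroup.mem_comap]
    show c * f * c⁻¹ ∈ FF N s
    have hchc : c * h * c⁻¹ ∈ N := hN.conj_mem h hh c
    apply cm_inf_le_FF hchc
    refine ⟨?_, ?_⟩
    · -- conjugation maps `cm s h` into `cm s (c h c⁻¹)`
      have hle2 : cm s h ≤ (cm s (c * h * c⁻¹)).comap (MulAut.conj c).toMonoidHom := by
        conv_lhs => unfold cm
        rw [Subgroup.closure_le]
        rintro k ⟨i, rfl⟩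
        show c * (h⁻¹ * (s ^ i * h * (s ^ i)⁻¹)) * c⁻¹ ∈ cm s (c * h * c⁻¹)
        have hci : Commute c (s ^ i) := hcs.pow_right i
        have e : c * (h⁻¹ * (s ^ i * h * (s ^ i)⁻¹)) * c⁻¹ =
            (c * h * c⁻¹)⁻¹ * (s ^ i * (c * h * c⁻¹) * (s ^ i)⁻¹) := by
          have e1 : s ^ i * (c * h * c⁻¹) * (s ^ i)⁻¹ = c * (s ^ i * h * (s ^ i)⁻¹) * c⁻¹ := by
            have h1 : s ^ i * c = c * s ^ i := hci.eq.symm
            have h2 : c⁻¹ * (s ^ i)⁻¹ = (s ^ i)⁻¹ * c⁻¹ := by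
              rw [← mul_inv_rev, ← mul_inv_rev, h1]
            calc s ^ i * (c * h * c⁻¹) * (s ^ i)⁻¹
                = (s ^ i * c) * h * (c⁻¹ * (s ^ i)⁻¹) := by group
              _ = (c * s ^ i) * h * ((s ^ i)⁻¹ * c⁻¹) := by rw [h1, h2]
              _ = c * (s ^ i * h * (s ^ i)⁻¹) * c⁻¹ := by group
          rw [e1]
          group
        rw [e]
        exact gen_mem_cm s _ i
      exact hle2 hf.1
    · show c * f * c⁻¹ ∈ fixedSub N s
      rw [mem_fixedSub]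
      have hf2 := mem_fixedSub.mp hf.2
      refine ⟨hN.conj_mem f hf2.1 c, ?_⟩
      have cf : Commute f s := hf2.2
      exact ((hcs.mul_left cf).mul_left hcs.inv_left)
  intro f hf
  exact hle hf

/-- A kernel element can be dropped inside a character value. -/
theorem char_mul_of_ker {X : Type*} [Group X] [Finite X] {χ : X → ℂ} (hχ : IsCharacter X χ)
    {z : X} (hz : χ z = χ 1) (g : X) : χ (z * g) = χ g := by
  obtain ⟨n, ρ, rfl⟩ := hχ
  rw [char_eq_char_one_iff] at hz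
  unfold Representation.character
  rw [map_mul, hz, one_mul]

/-- Irreducible characters separate the identity. -/
theorem exists_irr_ne {X : Type u} [Group X] [Fintype X] {z : X} (hz : z ≠ 1) :
    ∃ ψ : IrrCharacter X, (ψ : X → ℂ) z ≠ (ψ : X → ℂ) 1 := by
  classical
  haveI : Fintype (IrrCharacter X) := Fintype.ofFinite _
  by_contra hcon
  push_neg at hcon
  have h1 := sum_irr_one_mul (G := X) z
  have h2 := sum_irr_one_mul (G := X) 1
  rw [if_neg hz] at h1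
  rw [if_pos rfl] at h2
  rw [Finset.sum_congr rfl (fun ψ _ => by rw [hcon ψ])] at h1
  rw [h1] at h2
  have : (Nat.card X : ℂ) ≠ 0 := by exact_mod_cast Nat.card_pos.ne'
  exact this h2.symm

section Main

variable [Fintype Γ] {N : Subgroup Γ} [hN : N.Normal] {s : Γ}

/-- The coset step: `s · ysy⁻¹` is conjugate to `c s²` with `c ∈ C_{[y⁻¹,⟨s⟩]}(s)`. -/
theorem key_coset (hset : CycSetup N s) (hodd : Odd (orderOf s)) {y : Γ} (hy : y ∈ N) :
    ∃ u : Γ, ∃ c ∈ cm s y⁻¹ ⊓ fixedSub N s, u * (s * (y * s * y⁻¹)) * u⁻¹ = c * s ^ 2 := by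
  obtain ⟨h, hh⟩ : ∃ h : Γ, h = y⁻¹ := ⟨_, rfl⟩
  have hhN : h ∈ N := by rw [hh]; exact N.inv_mem hy
  have hKN : cm s h ≤ N := cm_le hhN
  have hs2 : s ^ 2 ∈ Subgroup.normalizer ((cm s h : Subgroup Γ) : Set Γ) := by
    apply mem_normalizer_of_norm
    intro g hg
    have h1 := cm_conj_s s h _ (cm_conj_s s h g hg)
    have e : s ^ 2 * g * (s ^ 2)⁻¹ = s * (s * g * s⁻¹) * s⁻¹ := by
      rw [pow_two, mul_inv_rev]
      simp only [mul_assoc]
    rw [e]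
    exact h1
  have hcop : (Nat.card (cm s h)).Coprime (orderOf (s ^ 2)) := by
    have h1 : Nat.card (cm s h) ∣ Nat.card N := Subgroup.card_dvd_of_le hKN
    have h2 : orderOf (s ^ 2) ∣ orderOf s := orderOf_pow_dvd 2
    exact Nat.Coprime.coprime_dvd_left h1 (Nat.Coprime.coprime_dvd_right h2 hset.cop)
  have hn : s * (y * s * y⁻¹) * (s ^ 2)⁻¹ ∈ cm s h := by
    have e : s * (y * s * y⁻¹) * (s ^ 2)⁻¹ =
        (h⁻¹ * (s ^ 1 * h * (s ^ 1)⁻¹))⁻¹ * (h⁻¹ * (s ^ 2 * h * (s ^ 2)⁻¹)) := by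
      rw [hh]
      group
    rw [e]
    exact Subgroup.mul_mem _ (Subgroup.inv_mem _ (gen_mem_cm s h 1)) (gen_mem_cm s h 2)
  obtain ⟨u, _, c, hc, huc⟩ := exists_conj_coset (N := cm s h) (s := s ^ 2) hs2 hcop hn
  have e2 : s * (y * s * y⁻¹) * (s ^ 2)⁻¹ * s ^ 2 = s * (y * s * y⁻¹) := by group
  rw [e2] at huc
  have hc' := mem_fixedSub.mp hc
  refine ⟨u, c, ?_, huc⟩
  rw [← hh]
  refine ⟨hc'.1, ?_⟩
  show c ∈ fixedSub N s
  rw [mem_fixedSub]
  refine ⟨hKN hc'.1, ?_⟩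
  have hc2 : Commute c (s ^ 2) := hc'.2
  obtain ⟨m, hm⟩ := hodd
  have hs : s = (s ^ 2) ^ (m + 1) := by
    rw [← pow_mul, show 2 * (m + 1) = orderOf s + 1 by omega, pow_succ, pow_orderOf_eq_one,
      one_mul]
  have h3 : Commute c ((s ^ 2) ^ (m + 1)) := hc2.pow_right _
  rw [← hs] at h3
  exact h3.eq

variable [Fintype N] [Fintype (fixedSub N s)]

/-- An irreducible character of `C_N(s)` with `FF` in its kernel has `C_W(s)` in its kernel. -/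
theorem beta_const (hset : CycSetup N s) (hodd : Odd (orderOf s))
    (β : IrrCharacter (fixedSub N s))
    (hβ : ∀ f (hf : f ∈ FF N s), (β : fixedSub N s → ℂ) ⟨f, FF_le N s hf⟩ =
      (β : fixedSub N s → ℂ) 1)
    (z : Γ) (hz : z ∈ WW N s) (hzs : z ∈ fixedSub N s) :
    (β : fixedSub N s → ℂ) ⟨z, hzs⟩ = (β : fixedSub N s → ℂ) 1 := by
  classical
  obtain ⟨χh, ε, h1, hirr, h3, hε, hsign⟩ := hset.surjective β
  have hχc : IsCharacter Γ χh := isCharacter_of_irr h1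
  have hcf : IsClassFunction Γ χh := isClassFunction_of_isCharacter hχc
  have hss : χh s = (ε : ℂ) * (β : fixedSub N s → ℂ) 1 := by
    have := hsign 1
    rwa [Subgroup.coe_one, one_mul] at this
  have h2cop : Nat.Coprime 2 (orderOf s) := Nat.coprime_two_left.mpr hodd
  have hterm : ∀ g : Γ, χh (g * s * g⁻¹ * s) = χh s := by
    intro g
    obtain ⟨n, hn, k, rfl⟩ := hset.gen g
    obtain ⟨u, c, hc, huc⟩ := key_coset hset hodd hn
    have hcfix : c ∈ fixedSub N s := hc.2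
    have e1 : n * s ^ k * s * (n * s ^ k)⁻¹ * s = n * s * n⁻¹ * s := by
      have : s ^ k * s * (s ^ k)⁻¹ = s := by
        rw [← pow_succ, pow_succ', mul_assoc, mul_inv_cancel, mul_one]
      calc n * s ^ k * s * (n * s ^ k)⁻¹ * s
          = n * (s ^ k * s * (s ^ k)⁻¹) * n⁻¹ * s := by group
        _ = n * s * n⁻¹ * s := by rw [this]
    have e2 : χh (n * s * n⁻¹ * s) = χh (s * (n * s * n⁻¹)) := by
      have := hcf (n * s * n⁻¹ * s) s
      rw [← this]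
      congr 1
      group
    have e4 : χh (s * (n * s * n⁻¹)) = χh (c * s ^ 2) := by
      rw [← huc]
      exact (hcf _ _).symm
    have e5 : χh (c * s ^ 2) = χh (c * s) := hset.canonical_gen h1 hirr h3 h2cop hcfix
    have e6 := hsign ⟨c, hcfix⟩
    have e7 := hβ c (cm_inf_le_FF (N.inv_mem hn) hc)
    rw [e1, e2, e4, e5, e6, e7, hss]
  have hsum := irr_sum_conj_mul (⟨χh, h1⟩ : IrrCharacter Γ) s s
  have hsum' : (Nat.card Γ : ℂ) * χh s = (Nat.card Γ : ℂ) * χh s * χh s / χh 1 := by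
    rw [← hsum]
    show _ = ∑ g : Γ, χh (g * s * g⁻¹ * s)
    rw [Finset.sum_congr rfl (fun g _ => hterm g), Finset.sum_const, Finset.card_univ,
      nsmul_eq_mul, Nat.card_eq_fintype_card]
  obtain ⟨d, hd0, hd1, _⟩ := irr_apply_one_dvd_card χh h1
  obtain ⟨d₀, hd₀0, hd₀1, _⟩ := irr_apply_one_dvd_card _ β.2
  have hεne : (ε : ℂ) ≠ 0 := by
    rcases hε with rfl | rfl <;> simp
  have hχ1 : χh 1 ≠ 0 := by
    rw [hd1]
    exact_mod_cast hd0.ne'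
  have hχs : χh s ≠ 0 := by
    rw [hss, hd₀1]
    have h4 : (d₀ : ℂ) ≠ 0 := by exact_mod_cast hd₀0.ne'
    exact mul_ne_zero hεne h4
  have hcard : (Nat.card Γ : ℂ) ≠ 0 := by
    exact_mod_cast Nat.card_pos.ne'
  have hker1 : χh s = χh 1 := by
    rw [eq_div_iff hχ1] at hsum'
    have h5 : ((Nat.card Γ : ℂ) * χh s) * (χh 1 - χh s) = 0 := by
      linear_combination hsum'
    rcases mul_eq_zero.mp h5 with h6 | h6
    · exact absurd h6 (mul_ne_zero hcard hχs)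
    · exact (sub_eq_zero.mp h6).symm
  have hker : s ∈ charKer χh hχc := mem_charKer.mpr hker1
  have hW : WW N s ≤ charKer χh hχc := by
    unfold WW
    rw [Subgroup.closure_le]
    rintro c ⟨h, _, i, rfl⟩
    have hsi : s ^ i ∈ charKer χh hχc := Subgroup.pow_mem _ hker i
    have e : h⁻¹ * (s ^ i * h * (s ^ i)⁻¹) = h⁻¹ * s ^ i * h⁻¹⁻¹ * (s ^ i)⁻¹ := by group
    show h⁻¹ * (s ^ i * h * (s ^ i)⁻¹) ∈ charKer χh hχc
    rw [e]
    exact Subgroup.mul_mem _ ((charKer_normal χh hχc).conj_mem _ hsi _) (Subgroup.inv_mem _ hsi)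
  have hzk : χh z = χh 1 := mem_charKer.mp (hW hz)
  have h7 : χh (z * s) = χh s := char_mul_of_ker hχc hzk s
  have h8 := hsign ⟨z, hzs⟩
  rw [h7, hss] at h8
  exact (mul_left_cancel₀ hεne h8).symm

/-- **Flavell's fixed point theorem**, internal form. -/
theorem flavell_internal (hset : CycSetup N s) (hodd : Odd (orderOf s))
    (z : Γ) (hz : z ∈ WW N s) (hzs : z ∈ fixedSub N s) : z ∈ FF N s := by
  classical
  by_contra hzF
  obtain ⟨Q, hQ⟩ : ∃ Q : Subgroup (fixedSub N s), Q = (FF N s).subgroupOf (fixedSub N s) :=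
    ⟨_, rfl⟩
  have hmemQ : ∀ c : fixedSub N s, c ∈ Q ↔ (c : Γ) ∈ FF N s := by
    intro c
    rw [hQ, Subgroup.mem_subgroupOf]
  have hnorm : Q.Normal := by
    constructor
    intro f hf c
    rw [hmemQ] at hf ⊢
    exact FF_conj c.2 _ hf
  haveI : Fintype (fixedSub N s ⧸ Q) := Fintype.ofFinite _
  have hz1 : (QuotientGroup.mk' Q ⟨z, hzs⟩) ≠ 1 := by
    intro h
    rw [QuotientGroup.mk'_apply, QuotientGroup.eq_one_iff, hmemQ] at h
    exact hzF h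
  obtain ⟨ψ, hψ⟩ := exists_irr_ne hz1
  have hβirr : IsIrrCharacter (fixedSub N s)
      ((ψ : (fixedSub N s ⧸ Q) → ℂ) ∘ (QuotientGroup.mk' Q)) :=
    isIrrCharacter_comp_of_surjective (QuotientGroup.mk' Q) (QuotientGroup.mk'_surjective Q) ψ.2
  have hβ : ∀ f (hf : f ∈ FF N s),
      ((ψ : (fixedSub N s ⧸ Q) → ℂ) ∘ (QuotientGroup.mk' Q)) ⟨f, FF_le N s hf⟩ =
      ((ψ : (fixedSub N s ⧸ Q) → ℂ) ∘ (QuotientGroup.mk' Q)) 1 := by
    intro f hf
    show (ψ : (fixedSub N s ⧸ Q) → ℂ) (QuotientGroup.mk' Q ⟨f, FF_le N s hf⟩) =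
      (ψ : (fixedSub N s ⧸ Q) → ℂ) (QuotientGroup.mk' Q 1)
    have h1 : QuotientGroup.mk' Q ⟨f, FF_le N s hf⟩ = 1 := by
      rw [QuotientGroup.mk'_apply, QuotientGroup.eq_one_iff, hmemQ]
      exact hf
    rw [h1, map_one]
  have h9 := beta_const hset hodd ⟨_, hβirr⟩ hβ z hz hzs
  apply hψ
  have h10 : (ψ : (fixedSub N s ⧸ Q) → ℂ) (QuotientGroup.mk' Q ⟨z, hzs⟩) =
      (ψ : (fixedSub N s ⧸ Q) → ℂ) (QuotientGroup.mk' Q 1) := h9
  rw [map_one] at h10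
  exact h10

end Main

end Cfsg.Agent.Lib.H24.Flav
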