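import Cfsg.Agent.Lib.H24.Flav1

/-!
# Flavell's fixed point theorem for an automorphism of odd order (helper24)

External form: `H` finite, `x : MulAut H` of odd order coprime to `|H|`.  Then
`C_{[H,⟨x⟩]}(x) = ⟨C_{[h,⟨x⟩]}(x) : h ∈ H⟩`.  Obtained from `Flav.flavell_internal` in the semidirect
product `H ⋊ ⟨x⟩`.
-/

set_option autoImplicit false

universe u

namespace Cfsg.Agent.Lib.H24.Flav

open Cfsg Cfsg.Agent.Lib.H24.Glaub

variable {H : Type u} [Group H] [Finite H]

theorem flavell_external (x : MulAut H) (hodd : Odd (orderOf x))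
    (hcop : (Nat.card H).Coprime (orderOf x)) :
    Subgroup.closure {c : H | ∃ h : H, ∃ i : ℕ, c = h⁻¹ * (x ^ i) h} ⊓
        (x : H →* H).eqLocus (MonoidHom.id H) ≤
      ⨆ h : H, Subgroup.closure {c : H | ∃ i : ℕ, c = h⁻¹ * (x ^ i) h} ⊓
        (x : H →* H).eqLocus (MonoidHom.id H) := by
  classical
  -- the semidirect product
  obtain ⟨φ, hφ⟩ : ∃ φ : ↥(Subgroup.zpowers x) →* MulAut H, φ = (Subgroup.zpowers x).subtype :=
    ⟨_, rfl⟩
  have hpos : 0 < orderOf x := hodd.pos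
  haveI : Finite ↥(Subgroup.zpowers x) := by
    apply Nat.finite_of_card_ne_zero
    rw [Nat.card_zpowers]
    exact hpos.ne'
  haveI : Finite (H ⋊[φ] ↥(Subgroup.zpowers x)) :=
    Finite.of_equiv _ (SemidirectProduct.equivProd (φ := φ)).symm
  haveI : Fintype (H ⋊[φ] ↥(Subgroup.zpowers x)) := Fintype.ofFinite _
  obtain ⟨ι, hι⟩ : ∃ ι : H →* H ⋊[φ] ↥(Subgroup.zpowers x), ι = SemidirectProduct.inl := ⟨_, rfl⟩
  have hιinj : Function.Injective ι := by rw [hι]; exact SemidirectProduct.inl_injective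
  obtain ⟨g₀, hg₀⟩ : ∃ g₀ : ↥(Subgroup.zpowers x), g₀ = ⟨x, Subgroup.mem_zpowers x⟩ := ⟨_, rfl⟩
  obtain ⟨s, hs⟩ : ∃ s : H ⋊[φ] ↥(Subgroup.zpowers x), s = SemidirectProduct.inr g₀ := ⟨_, rfl⟩
  -- conjugation by powers of `s`
  have hconj : ∀ (i : ℕ) (h : H), s ^ i * ι h * (s ^ i)⁻¹ = ι ((x ^ i) h) := by
    intro i h
    rw [hs, hι, ← map_pow, ← map_inv, ← SemidirectProduct.inl_aut]
    congr 1
    rw [hφ, hg₀]
    rfl
  have hconj1 : ∀ h : H, s * ι h * s⁻¹ = ι (x h) := by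
    intro h
    have := hconj 1 h
    rwa [pow_one, pow_one] at this
  have hsord : orderOf s = orderOf x := by
    rw [hs, orderOf_injective _ SemidirectProduct.inr_injective, hg₀]
    exact Subgroup.orderOf_mk x _
  obtain ⟨N, hNdef⟩ : ∃ N : Subgroup (H ⋊[φ] ↥(Subgroup.zpowers x)), N = ι.range := ⟨_, rfl⟩
  haveI hN : N.Normal := by
    rw [hNdef, hι, SemidirectProduct.range_inl_eq_ker_rightHom]
    infer_instance
  have hmemN : ∀ h : H, ι h ∈ N := by
    intro h
    rw [hNdef]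
    exact ⟨h, rfl⟩
  have hset : CycSetup N s := by
    refine ⟨fun g => ?_, ?_⟩
    · have hg := SemidirectProduct.inl_left_mul_inr_right g
      have hr : (g.right : MulAut H) ∈ Subgroup.zpowers x := g.right.2
      rw [← mem_powers_iff_mem_zpowers, Submonoid.mem_powers_iff] at hr
      obtain ⟨k, hk⟩ := hr
      refine ⟨ι g.left, hmemN _, k, ?_⟩
      have e : s ^ k = SemidirectProduct.inr g.right := by
        rw [hs, ← map_pow]
        congr 1
        apply Subtype.ext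
        rw [Subgroup.coe_pow, hg₀]
        exact hk
      rw [e, hι]
      exact hg.symm
    · have hcard : Nat.card N = Nat.card H := by
        rw [hNdef]
        exact (Nat.card_congr (MonoidHom.ofInjective hιinj).toEquiv).symm
      rw [hcard, hsord]
      exact hcop
  have hodd' : Odd (orderOf s) := by rw [hsord]; exact hodd
  -- main
  intro z hz
  have hz1 : z ∈ Subgroup.closure {c : H | ∃ h : H, ∃ i : ℕ, c = h⁻¹ * (x ^ i) h} := hz.1
  have hz2 : x z = z := hz.2
  have hzW : ι z ∈ WW N s := by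
    have hle : Subgroup.closure {c : H | ∃ h : H, ∃ i : ℕ, c = h⁻¹ * (x ^ i) h} ≤
        (WW N s).comap ι := by
      rw [Subgroup.closure_le]
      rintro c ⟨h, i, rfl⟩
      show ι (h⁻¹ * (x ^ i) h) ∈ WW N s
      apply Subgroup.subset_closure
      refine ⟨ι h, hmemN h, i, ?_⟩
      rw [hconj, map_mul, map_inv]
    exact hle hz1
  have hzs : ι z ∈ fixedSub N s := by
    rw [mem_fixedSub]
    refine ⟨hmemN z, ?_⟩
    have := hconj1 z
    rw [hz2] at this
    calc ι z * s = (s * ι z * s⁻¹) * s := by rw [this]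
      _ = s * ι z := by group
  have hmain := flavell_internal hset hodd' (ι z) hzW hzs
  -- back to `H`
  have hle2 : FF N s ≤ (⨆ h : H, Subgroup.closure {c : H | ∃ i : ℕ, c = h⁻¹ * (x ^ i) h} ⊓
        (x : H →* H).eqLocus (MonoidHom.id H)).map ι := by
    unfold FF
    apply iSup_le
    rintro ⟨h, hh⟩
    rw [hNdef] at hh
    obtain ⟨h', rfl⟩ := hh
    intro c hc
    have hc1 : c ∈ cm s (ι h') := hc.1
    have hc2 := mem_fixedSub.mp hc.2
    have hle3 : cm s (ι h') ≤
        (Subgroup.closure {c : H | ∃ i : ℕ, c = h'⁻¹ * (x ^ i) h'}).map ι := by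
      unfold cm
      rw [Subgroup.closure_le]
      rintro d ⟨i, rfl⟩
      refine ⟨h'⁻¹ * (x ^ i) h', Subgroup.subset_closure ⟨i, rfl⟩, ?_⟩
      rw [hconj, map_mul, map_inv]
    obtain ⟨c', hc', rfl⟩ := hle3 hc1
    refine ⟨c', ?_, rfl⟩
    apply (le_iSup (fun h : H => Subgroup.closure {c : H | ∃ i : ℕ, c = h⁻¹ * (x ^ i) h} ⊓
        (x : H →* H).eqLocus (MonoidHom.id H)) h')
    refine ⟨hc', ?_⟩
    show x c' = c'
    apply hιinj
    rw [← hconj1 c']
    have h5 : ι c' * s = s * ι c' := hc2.2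
    calc s * ι c' * s⁻¹ = ι c' * s * s⁻¹ := by rw [h5]
      _ = ι c' := by group
  obtain ⟨z', hz', hzz'⟩ := hle2 hmain
  rw [← hιinj hzz']
  exact hz'

end Cfsg.Agent.Lib.H24.Flav
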