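import Mathlib

/-!
# S4068, piece NUM (architect helper28): `q = 2^a ≥ 4`, `q + 1` prime, `q (q-1) (q+1)` with exactly three
prime factors forces `q = 4`.
-/

set_option autoImplicit false

namespace Cfsg.Agent.Lib.H24.FourOrb

theorem three_pow_mod_eight (c : ℕ) : 3 ^ c % 8 = 1 ∨ 3 ^ c % 8 = 3 := by
  induction c with
  | zero => left; norm_num
  | succ c ih =>
    rw [pow_succ, Nat.mul_mod]
    rcases ih with h | h <;> rw [h] <;> norm_num

theorem two_pow_mod_three (a : ℕ) : 2 ^ a % 3 = if Even a then 1 else 2 := by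
  induction a with
  | zero => simp
  | succ a ih =>
    rw [pow_succ, Nat.mul_mod, ih]
    by_cases h : Even a
    · have : ¬ Even (a + 1) := by rw [Nat.even_add_one]; exact not_not.2 h
      rw [if_pos h, if_neg this]
    · have : Even (a + 1) := by rw [Nat.even_add_one]; exact h
      rw [if_neg h, if_pos this]

/-- **NUM**. -/
theorem q_eq_four (a : ℕ) (ha : 2 ≤ a) (hprime : (2 ^ a + 1).Prime)
    (h3 : (2 ^ a * (2 ^ a - 1) * (2 ^ a + 1)).primeFactors.card = 3) : a = 2 := by
  set q := 2 ^ a with hq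
  have hq4 : 4 ≤ q := by
    calc 4 = 2 ^ 2 := by norm_num
      _ ≤ 2 ^ a := Nat.pow_le_pow_right (by norm_num) ha
  have heven : 2 ∣ q := dvd_pow_self 2 (by omega)
  -- coprimality
  have hc1 : Nat.Coprime q (q - 1) := by
    have : Nat.Coprime (q - 1 + 1) (q - 1) := (Nat.coprime_self_add_left).2 (Nat.coprime_one_left _)
    rwa [Nat.sub_add_cancel (by omega)] at this
  have hodd1 : ¬ 2 ∣ q - 1 := by
    obtain ⟨k, hk⟩ := heven
    omega
  have hodd2 : ¬ 2 ∣ q + 1 := by
    obtain ⟨k, hk⟩ := heven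
    omega
  have hc2 : Nat.Coprime q (q + 1) := by
    simp
  have hc3 : Nat.Coprime (q - 1) (q + 1) := by
    have h2 : q + 1 = (q - 1) + 2 := by omega
    rw [h2, Nat.coprime_self_add_right]
    rw [Nat.coprime_comm, Nat.Prime.coprime_iff_not_dvd Nat.prime_two]
    exact hodd1
  have hc4 : Nat.Coprime (q * (q - 1)) (q + 1) := Nat.Coprime.mul_left hc2 hc3
  rw [hc4.primeFactors_mul, hc1.primeFactors_mul,
    Finset.card_union_of_disjoint (by rw [← hc1.primeFactors_mul]; exact hc4.disjoint_primeFactors),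
    Finset.card_union_of_disjoint hc1.disjoint_primeFactors, hprime.primeFactors,
    hq, Nat.primeFactors_prime_pow (by omega) Nat.prime_two, ← hq, Finset.card_singleton,
    Finset.card_singleton] at h3
  have h1 : (q - 1).primeFactors.card = 1 := by omega
  obtain ⟨r, c, hr, hc, hrc⟩ := (isPrimePow_nat_iff _).1 (isPrimePow_iff_card_primeFactors_eq_one.2 h1)
  -- parity of `a`
  have hmod := two_pow_mod_three a
  rw [← hq] at hmod
  have haeven : Even a := by
    by_contra hodd
    rw [if_neg hodd] at hmod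
    have h3dvd : 3 ∣ q + 1 := by omega
    have := (Nat.prime_dvd_prime_iff_eq Nat.prime_three hprime).1 h3dvd
    omega
  rw [if_pos haeven] at hmod
  have h3dvd : 3 ∣ q - 1 := by omega
  have hr3 : r = 3 := by
    rw [← hrc] at h3dvd
    exact ((Nat.prime_dvd_prime_iff_eq Nat.prime_three hr).1 (Nat.prime_three.dvd_of_dvd_pow h3dvd)).symm
  subst hr3
  by_contra ha2
  have ha3 : 3 ≤ a := by omega
  have h8 : 8 ∣ q := by
    rw [hq]
    calc (8 : ℕ) = 2 ^ 3 := by norm_num
      _ ∣ 2 ^ a := pow_dvd_pow 2 ha3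
  have := three_pow_mod_eight c
  rw [hrc] at this
  obtain ⟨k, hk⟩ := h8
  omega

end Cfsg.Agent.Lib.H24.FourOrb
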