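import Mathlib

/-!
# S4068, piece SIX (architect helper28): a non-solvable group of order 60 is simple
(given that all groups of smaller order are solvable).
-/

set_option autoImplicit false

universe u

namespace Cfsg.Agent.Lib.H24.FourOrb

/-- **SIX**. -/
theorem simple_of_card_sixty {G : Type u} [Group G] [Finite G] (hns : ¬ Group.IsSolvable G)
    (h60 : Nat.card G = 60)
    (hlt : ∀ (n : ℕ) (K : Type u) [Group K] [Finite K], Nat.card K = n → n < 60 →
      Group.IsSolvable K) : IsSimpleGroup G := by
  have hnt : Nontrivial G := by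
    rw [← Finite.one_lt_card_iff_nontrivial, h60]
    norm_num
  refine { exists_pair_ne := hnt.exists_pair_ne, eq_bot_or_eq_top_of_normal := ?_ }
  intro N hN
  by_contra hcon
  rw [not_or] at hcon
  obtain ⟨hbot, htop⟩ := hcon
  apply hns
  have hmul : Nat.card N * N.index = 60 := by rw [Subgroup.card_mul_index, h60]
  have hNpos : 0 < Nat.card N := Nat.card_pos
  have hN1 : Nat.card N ≠ 1 := fun h => hbot (Subgroup.card_eq_one.1 h)
  have hi1 : N.index ≠ 1 := fun h => htop (Subgroup.index_eq_one.1 h)
  have hipos : 0 < N.index := by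
    rcases Nat.eq_zero_or_pos N.index with h | h
    · rw [h, mul_zero] at hmul; omega
    · exact h
  have hi2 : 2 ≤ N.index := by omega
  have hN2 : 2 ≤ Nat.card N := by omega
  have hNlt : Nat.card N < 60 := by
    by_contra hc
    have : 60 * 2 ≤ Nat.card N * N.index := Nat.mul_le_mul (not_lt.1 hc) hi2
    omega
  have hilt : N.index < 60 := by
    by_contra hc
    have : 2 * 60 ≤ Nat.card N * N.index := Nat.mul_le_mul hN2 (not_lt.1 hc)
    omega
  have h1 : Group.IsSolvable N := hlt _ N rfl hNlt
  have h2 : Group.IsSolvable (G ⧸ N) := hlt _ (G ⧸ N) rfl (by rw [← Subgroup.index_eq_card]; exact hilt)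
  refine Group.isSolvable_of_ker_le_range N.subtype (QuotientGroup.mk' N) ?_
  rw [QuotientGroup.ker_mk', Subgroup.range_subtype]

end Cfsg.Agent.Lib.H24.FourOrb
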