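import Cfsg.Agent.Lib.H24.G85NC
import Cfsg.Agent.Lib.H25.G85IDX6
import Cfsg.Agent.Lib.H5.Glaub.OddCore

/-!
# S4385, wave 2, piece (A23): `K / O(K) ≃ S₄`
-/

set_option autoImplicit false

namespace Cfsg.Agent.Lib.H24.G85

/-- (A23) normal four-group `Q = {1,u,v,uv}`, `a`, `b` act on it as two different transvections, `|K| = 8 * odd`. -/
theorem abs_s4 {K : Type*} [Group K] [Finite K] (Q : Subgroup K) [Q.Normal] (u v a b : K)
    (hQ : ∀ g : K, g ∈ Q ↔ g = 1 ∨ g = u ∨ g = v ∨ g = u * v)
    (hu : u ≠ 1) (hv : v ≠ 1) (huv : u ≠ v) (hu2 : u * u = 1) (hv2 : v * v = 1) (hc : u * v = v * u)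
    (hav : a * v * a⁻¹ = v) (hau : a * u * a⁻¹ = u * v)
    (hbu : b * u * b⁻¹ = u) (hbv : b * v * b⁻¹ = v * u)
    (hcard : ∃ m : ℕ, ¬ 2 ∣ m ∧ Nat.card K = 8 * m) :
    Nonempty (K ⧸ Cfsg.oddCore K ≃* Equiv.Perm (Fin 4)) := by
  classical
  have hidx6 := Cfsg.Agent.Lib.H25.G85.index_centralizer_eq_six Q u v a b hQ hu hv huv hu2 hv2 hc
    hav hau hbu hbv
  have huv1 : u * v ≠ u := fun h => hv (by simpa using h)
  have huv2 : u * v ≠ v := fun h => hu (by simpa using h)
  have huv0 : u * v ≠ 1 := by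
    intro h
    apply huv
    have : u = v⁻¹ := eq_inv_of_mul_eq_one_left h
    rw [this]
    exact (eq_inv_of_mul_eq_one_left hv2).symm
  -- squares
  have hQexp : ∀ x ∈ Q, x ^ 2 = 1 := by
    intro x hx
    rcases (hQ x).1 hx with rfl | rfl | rfl | rfl
    · simp
    · rw [pow_two, hu2]
    · rw [pow_two, hv2]
    · rw [pow_two]
      calc u * v * (u * v) = u * (v * u) * v := by group
        _ = u * (u * v) * v := by rw [hc]
        _ = (u * u) * (v * v) := by group
        _ = 1 := by rw [hu2, hv2, one_mul]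
  -- commutativity
  have hQc : ∀ x ∈ Q, ∀ y ∈ Q, x * y = y * x := by
    intro x hx y hy
    have h1 := hQexp x hx
    have h2 := hQexp y hy
    have h3 := hQexp (x * y) (Q.mul_mem hx hy)
    rw [pow_two] at h1 h2 h3
    calc x * y = (y * y) * (x * y) * (x * x) := by rw [h1, h2]; group
      _ = y * (y * x) * (y * x) * x := by group
      _ = y * ((y * x) * (y * x)) * x := by group
      _ = y * x := by
        have h4 : (y * x) * (y * x) = 1 := by
          have : y * x = (x * y)⁻¹ := by
            rw [mul_inv_rev, ← eq_inv_of_mul_eq_one_left h1, ← eq_inv_of_mul_eq_one_left h2]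
          rw [this, ← mul_inv_rev, h3, inv_one]
        rw [h4, mul_one]
  -- cardinality of `Q`
  have hQcard : Nat.card Q = 4 := by
    have hset : (Q : Set K) = {1, u, v, u * v} := by
      ext g
      simp only [SetLike.mem_coe, hQ g, Set.mem_insert_iff, Set.mem_singleton_iff]
    have : Nat.card Q = Nat.card (Q : Set K) := rfl
    rw [this, hset, Nat.card_eq_fintype_card, ← Set.toFinset_card]
    have : ({1, u, v, u * v} : Set K).toFinset = {1, u, v, u * v} := by
      ext g; simp
    rw [this]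
    rw [Finset.card_insert_of_notMem, Finset.card_insert_of_notMem, Finset.card_insert_of_notMem,
      Finset.card_singleton]
    · simpa using huv2.symm
    · simp only [Finset.mem_insert, Finset.mem_singleton, not_or]
      exact ⟨huv, huv1.symm⟩
    · simp only [Finset.mem_insert, Finset.mem_singleton, not_or]
      exact ⟨hu.symm, hv.symm, huv0.symm⟩
  have hQp : IsPGroup 2 Q := by
    have : Fact (Nat.Prime 2) := ⟨Nat.prime_two⟩
    exact IsPGroup.of_card (n := 2) (by rw [hQcard]; norm_num)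
  -- the index of `Q` in its centralizer is odd
  obtain ⟨m, hm, hKcard⟩ := hcard
  set C := Subgroup.centralizer (Q : Set K) with hCdef
  have hQC : Q ≤ C := fun x hx => Subgroup.mem_centralizer_iff.2 (fun y hy => hQc y hy x hx)
  have h1 : Q.relIndex C * Nat.card Q = Nat.card C := by
    have h1 := (Q.subgroupOf C).index_mul_card
    have h2 : Nat.card (Q.subgroupOf C) = Nat.card Q :=
      Nat.card_congr (Subgroup.subgroupOfEquivOfLe hQC).toEquiv
    rw [h2] at h1
    exact h1
  have h2 := C.index_mul_card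
  rw [hidx6, hKcard, ← h1, hQcard] at h2
  have hodd : ¬ 2 ∣ Q.relIndex C := by
    intro hdvd
    apply hm
    obtain ⟨r, hr⟩ := hdvd
    rw [hr] at h2
    omega
  obtain ⟨O, hOn, hOodd, _, hCO, hOidx⟩ := exists_odd_complement Q hQp hQc hodd
  rw [← hCdef, hidx6, hQcard] at hOidx
  have := hOn
  have : (Cfsg.oddCore K).Normal := by
    have : Fact (Nat.Prime 2) := ⟨Nat.prime_two⟩
    exact Cfsg.Agent.Lib.H22.pPrimeCore_normal 2
  exact Cfsg.Agent.Lib.H5.Glaub.quot_oddCore_s4 O hOodd (by rw [hOidx]) Q hQcard hQexp hCO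

end Cfsg.Agent.Lib.H24.G85
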