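import Mathlib
import Cfsg.Prelude.Def_Transfer

/-!
# S5233 piece TORUS (architect helper26): two opposite transvections of an elementary abelian `p`-group
generate an element `d` normalizing `⟨σ⟩` with `d w ∈ w^j ⟨z⟩`, `j ≢ 1 (mod p)`.

We take `d = τ^m * σ * τ^m` with `m * (a * c) + 2 ≡ 0 (mod p)` (`σ w = w z^c`, `τ z = z w^a`); on `⟨z, w⟩` it is
`[[-1, c], [0, -1]]`, it commutes with `σ` and `d w = w^(1 + m a c) z^c`.
-/

set_option autoImplicit false

namespace Cfsg.Agent.Lib.H24.GXS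

/-- exponents only matter mod `p` -/
theorem gxs_pow_congr {B : Type*} [Group B] (p : ℕ) (hB : ∀ b : B, b ^ p = 1) (x : B) {m n : ℕ}
    (h : m ≡ n [MOD p]) : x ^ m = x ^ n := by
  have key : ∀ k : ℕ, x ^ k = x ^ (k % p) := by
    intro k
    conv_lhs => rw [← Nat.div_add_mod k p, pow_add, pow_mul, hB, one_pow, one_mul]
  rw [key m, key n, h]

/-- powers of a transvection -/
theorem gxs_pow_apply {B : Type*} [CommGroup B] (τ : MulAut B) (w : B) (hτw : τ w = w) (v : B) (γ : ℕ)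
    (hv : τ v = v * w ^ γ) (n : ℕ) : (τ ^ n) v = v * w ^ (n * γ) := by
  induction n with
  | zero => simp
  | succ n ih =>
    rw [pow_succ', MulAut.mul_apply, ih, map_mul, map_pow, hτw, hv, Nat.succ_mul, pow_add]
    ac_rfl

theorem exists_torus_comm {B : Type*} [CommGroup B] (p : ℕ) [Fact p.Prime]
    (hp : p ≠ 2) (hB : ∀ b : B, b ^ p = 1) (σ τ : MulAut B) (z w : B)
    (hσ : ∀ b, ∃ k : ℕ, σ b = b * z ^ k) (hτ : ∀ b, ∃ k : ℕ, τ b = b * w ^ k)
    (hσz : σ z = z) (hτw : τ w = w) (hσw : σ w ≠ w) (hτz : τ z ≠ z) :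
    ∃ d ∈ Subgroup.closure ({σ, τ} : Set (MulAut B)), (∃ k : ℕ, d * σ * d⁻¹ = σ ^ k) ∧
      ∃ j i : ℕ, ¬ (j ≡ 1 [MOD p]) ∧ d w = w ^ j * z ^ i := by
  have hpp : p.Prime := Fact.out
  obtain ⟨c, hc⟩ := hσ w
  obtain ⟨a, ha⟩ := hτ z
  -- `p ∤ c`, `p ∤ a`
  have hpc : ¬ p ∣ c := by
    rintro ⟨t, rfl⟩
    apply hσw
    rw [hc, pow_mul, hB, one_pow, mul_one]
  have hpa : ¬ p ∣ a := by
    rintro ⟨t, rfl⟩
    apply hτz
    rw [ha, pow_mul, hB, one_pow, mul_one]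
  have hpac : ¬ p ∣ a * c := fun h => (hpp.dvd_mul.1 h).elim hpa hpc
  -- choose `m` with `p ∣ m * (a * c) + 2`
  obtain ⟨m, hm⟩ : ∃ m : ℕ, p ∣ m * (a * c) + 2 := by
    have hu : ((a * c : ℕ) : ZMod p) ≠ 0 := by
      rw [Ne, ZMod.natCast_eq_zero_iff]
      exact hpac
    refine ⟨((-2 : ZMod p) * ((a * c : ℕ) : ZMod p)⁻¹).val, ?_⟩
    rw [← ZMod.natCast_eq_zero_iff]
    push_cast
    rw [ZMod.natCast_val, ZMod.cast_id', id]
    have : (-2 : ZMod p) * ((a : ZMod p) * (c : ZMod p))⁻¹ * ((a : ZMod p) * (c : ZMod p)) = -2 := by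
      rw [mul_assoc, inv_mul_cancel₀, mul_one]
      simpa using hu
    rw [this]; ring
  -- the element `d`
  have hτm : ∀ (v : B) (γ : ℕ), τ v = v * w ^ γ → (τ ^ m) v = v * w ^ (m * γ) :=
    fun v γ hv => gxs_pow_apply τ w hτw v γ hv m
  have hτmz : (τ ^ m) z = z * w ^ (m * a) := hτm z a ha
  have hτmw : (τ ^ m) w = w := by
    have := hτm w 0 (by rw [pow_zero, mul_one, hτw])
    rwa [Nat.mul_zero, pow_zero, mul_one] at this
  obtain ⟨d, hd⟩ : ∃ d : MulAut B, d = τ ^ m * σ * τ ^ m := ⟨_, rfl⟩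
  have hdv : ∀ (v : B) (φ γ : ℕ), σ v = v * z ^ φ → τ v = v * w ^ γ →
      d v = v * z ^ (φ + c * (m * γ)) * w ^ (m * γ + m * a * φ + (m * γ + m * a * c * (m * γ))) := by
    intro v φ γ h1 h2
    rw [hd, MulAut.mul_apply, MulAut.mul_apply, hτm v γ h2, map_mul, map_pow, h1, hc, map_mul, map_mul,
      map_pow, map_pow, map_mul, map_pow, hτm v γ h2, hτmz, hτmw]
    simp only [mul_pow, ← pow_mul, pow_add]
    simp only [mul_assoc, mul_comm, mul_left_comm]
  -- `d z = z ^ (1 + c m a)`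
  have hdz : d z = z * z ^ (c * (m * a)) := by
    have h0 := hdv z 0 a (by rw [pow_zero, mul_one, hσz]) ha
    have hw0 : w ^ (m * a + m * a * 0 + (m * a + m * a * c * (m * a))) = 1 := by
      have e : m * a + m * a * 0 + (m * a + m * a * c * (m * a)) = (m * a) * (m * (a * c) + 2) := by ring
      rw [e, ← pow_zero w]
      exact gxs_pow_congr p hB w ((Nat.modEq_zero_iff_dvd).2 (Dvd.dvd.mul_left hm _))
    rw [h0, hw0, mul_one, Nat.zero_add]
  refine ⟨d, ?_, ⟨1, ?_⟩, 1 + m * a * c, c, ?_, ?_⟩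
  · have hσmem : σ ∈ Subgroup.closure ({σ, τ} : Set (MulAut B)) := Subgroup.subset_closure (by simp)
    have hτmem : τ ∈ Subgroup.closure ({σ, τ} : Set (MulAut B)) := Subgroup.subset_closure (by simp)
    rw [hd]
    exact Subgroup.mul_mem _ (Subgroup.mul_mem _ (Subgroup.pow_mem _ hτmem m) hσmem)
      (Subgroup.pow_mem _ hτmem m)
  · rw [pow_one, mul_inv_eq_iff_eq_mul]
    ext v
    obtain ⟨φ, h1⟩ := hσ v
    obtain ⟨γ, h2⟩ := hτ v
    rw [MulAut.mul_apply, MulAut.mul_apply, h1, map_mul, map_pow, hdv v φ γ h1 h2, hdz, map_mul, map_mul,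
      map_pow, map_pow, h1, hσz, hc]
    set E1 := φ + c * (m * γ) with hE1
    set E2 := m * γ + m * a * φ + (m * γ + m * a * c * (m * γ)) with hE2
    have hexp : E1 + (1 + c * (m * a)) * φ ≡ φ + E1 + c * E2 [MOD p] := by
      have e : φ + E1 + c * E2 = E1 + (1 + c * (m * a)) * φ + c * (m * γ) * (m * (a * c) + 2) := by
        rw [hE1, hE2]; ring
      rw [e]
      have h0 : c * (m * γ) * (m * (a * c) + 2) ≡ 0 [MOD p] :=
        (Nat.modEq_zero_iff_dvd).2 (Dvd.dvd.mul_left hm _)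
      have := Nat.ModEq.add_left (E1 + (1 + c * (m * a)) * φ) h0
      rw [Nat.add_zero] at this
      exact this.symm
    have hL : v * z ^ E1 * w ^ E2 * (z * z ^ (c * (m * a))) ^ φ
        = v * z ^ (E1 + (1 + c * (m * a)) * φ) * w ^ E2 := by
      simp only [mul_pow, ← pow_mul, pow_add, add_mul, one_mul]
      simp only [mul_assoc, mul_comm, mul_left_comm]
    have hR : v * z ^ φ * z ^ E1 * (w * z ^ c) ^ E2 = v * z ^ (φ + E1 + c * E2) * w ^ E2 := by
      simp only [mul_pow, ← pow_mul, pow_add]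
      simp only [mul_assoc, mul_comm]
    rw [hL, hR, gxs_pow_congr p hB z hexp]
  · intro h
    have h1 : m * a * c ≡ 0 [MOD p] := Nat.ModEq.add_left_cancel' 1 (by simpa using h)
    have h2 : p ∣ m * (a * c) := by
      have := (Nat.modEq_zero_iff_dvd).1 h1
      rwa [mul_assoc] at this
    have h3 : p ∣ 2 := (Nat.dvd_add_right h2).1 hm
    have h4 : p ≤ 2 := Nat.le_of_dvd (by norm_num) h3
    exact hp (le_antisymm h4 hpp.two_le)
  · have h0 := hdv w c 0 hc (by rw [pow_zero, mul_one, hτw])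
    rw [h0]
    simp only [Nat.mul_zero, Nat.add_zero, Nat.zero_add, pow_add, pow_one]
    simp only [mul_assoc, mul_comm, mul_left_comm]

theorem exists_torus {B : Type*} [Group B] (hcomm : ∀ a b : B, a * b = b * a) (p : ℕ) [Fact p.Prime]
    (hp : p ≠ 2) (hB : ∀ b : B, b ^ p = 1) (σ τ : MulAut B) (z w : B)
    (hσ : ∀ b, ∃ k : ℕ, σ b = b * z ^ k) (hτ : ∀ b, ∃ k : ℕ, τ b = b * w ^ k)
    (hσz : σ z = z) (hτw : τ w = w) (hσw : σ w ≠ w) (hτz : τ z ≠ z) :
    ∃ d ∈ Subgroup.closure ({σ, τ} : Set (MulAut B)), (∃ k : ℕ, d * σ * d⁻¹ = σ ^ k) ∧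
      ∃ j i : ℕ, ¬ (j ≡ 1 [MOD p]) ∧ d w = w ^ j * z ^ i := by
  let _ : CommGroup B := { (inferInstance : Group B) with mul_comm := hcomm }
  exact exists_torus_comm p hp hB σ τ z w hσ hτ hσz hτw hσw hτz

end Cfsg.Agent.Lib.H24.GXS
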