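import Mathlib
import Cfsg.Prelude.Def_Transfer
import Cfsg.Agent.Lib.L0.TransferPC

/-!
# Gagola's theorem in the solvable case, part A (helper24's library)

* `npc_of_key` : if the commutators of `H` lie in a subgroup without non-trivial `p`-elements,
  then `H` has a normal `p`-complement and commutative Sylow `p`-subgroups.
* `ringAut_comm` : ring automorphisms of a finite field commute.
* `key_of_model` : the one-dimensional semilinear case.
-/

set_option autoImplicit false

namespace Cfsg.Agent.Lib.H24.GagSolv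

section key

variable {H : Type*} [Group H] [Finite H] {p : ℕ} [hp : Fact p.Prime]

/-- if the commutators of `H` lie in a subgroup without non-trivial `p`-elements then `H` has a
normal `p`-complement and commutative Sylow `p`-subgroups -/
theorem npc_of_key (H₀ : Subgroup H) (hcomm : ∀ g h : H, g * h * g⁻¹ * h⁻¹ ∈ H₀)
    (hp' : ∀ g ∈ H₀, (∃ k : ℕ, g ^ (p ^ k) = 1) → g = 1) :
    Cfsg.HasNormalPComplement p H ∧ ∀ Q : Sylow p H, IsMulCommutative (Q : Subgroup H) := by
  have key : ∀ (Q : Sylow p H) (c : H), c ∈ (Q : Subgroup H) → c ∈ H₀ → c = 1 := by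
    intro Q c hcQ hc0
    apply hp' c hc0
    obtain ⟨k, hk⟩ := Q.2 ⟨c, hcQ⟩
    refine ⟨k, ?_⟩
    have := congrArg Subtype.val hk
    simpa using this
  constructor
  · obtain ⟨P⟩ : Nonempty (Sylow p H) := inferInstance
    apply Cfsg.Agent.Lib.L0.hasNormalPComplement_of_normalizer_le_centralizer P
    intro g hg
    rw [Subgroup.mem_centralizer_iff]
    intro x hx
    have h1 : g * x * g⁻¹ ∈ (P : Subgroup H) := (Subgroup.mem_normalizer_iff.mp hg x).mp hx
    have h2 : g * x * g⁻¹ * x⁻¹ ∈ (P : Subgroup H) := mul_mem h1 (inv_mem hx)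
    have h3 := key P _ h2 (hcomm g x)
    calc x * g = (g * x * g⁻¹ * x⁻¹)⁻¹ * (g * x) := by group
      _ = g * x := by rw [h3, inv_one, one_mul]
  · intro Q
    refine ⟨⟨fun a b => ?_⟩⟩
    apply Subtype.ext
    have h2 : (a : H) * b * (a : H)⁻¹ * (b : H)⁻¹ ∈ (Q : Subgroup H) :=
      mul_mem (mul_mem (mul_mem a.2 b.2) (inv_mem a.2)) (inv_mem b.2)
    have h3 := key Q _ h2 (hcomm a b)
    show (a : H) * b = b * a
    calc (a : H) * b = ((a : H) * b * (a : H)⁻¹ * (b : H)⁻¹) * (b * a) := by group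
      _ = b * a := by rw [h3, one_mul]

end key

section field

variable {F : Type*} [Field F] [Finite F]

/-- ring automorphisms of a finite field commute -/
theorem ringAut_comm (σ τ : F ≃+* F) (x : F) : σ (τ x) = τ (σ x) := by
  classical
  haveI := Fintype.ofFinite F
  obtain ⟨ζ, hζ⟩ := IsCyclic.exists_generator (α := Fˣ)
  by_cases hx : x = 0
  · rw [hx, map_zero, map_zero, map_zero]
  · obtain ⟨k, hk⟩ : ∃ k : ℕ, σ (ζ : F) = (ζ : F) ^ k := by
      have h0 : σ (ζ : F) ≠ 0 := by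
        rw [Ne, map_eq_zero_iff σ σ.injective]
        exact ζ.ne_zero
      obtain ⟨m, hm⟩ := (Subgroup.mem_zpowers_iff.mp (hζ (Units.mk0 _ h0)))
      obtain ⟨k, hk⟩ : ∃ k : ℕ, ζ ^ m = ζ ^ k := by
        refine ⟨(m % (orderOf ζ : ℤ)).toNat, ?_⟩
        rw [← zpow_natCast, Int.toNat_of_nonneg (Int.emod_nonneg _ (by
          exact_mod_cast (orderOf_pos ζ).ne')), zpow_mod_orderOf]
      refine ⟨k, ?_⟩
      have := congrArg (fun u : Fˣ => (u : F)) (hm.symm.trans hk).symm
      simpa using this.symm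
    obtain ⟨l, hl⟩ : ∃ l : ℕ, τ (ζ : F) = (ζ : F) ^ l := by
      have h0 : τ (ζ : F) ≠ 0 := by
        rw [Ne, map_eq_zero_iff τ τ.injective]
        exact ζ.ne_zero
      obtain ⟨m, hm⟩ := (Subgroup.mem_zpowers_iff.mp (hζ (Units.mk0 _ h0)))
      obtain ⟨k, hk⟩ : ∃ k : ℕ, ζ ^ m = ζ ^ k := by
        refine ⟨(m % (orderOf ζ : ℤ)).toNat, ?_⟩
        rw [← zpow_natCast, Int.toNat_of_nonneg (Int.emod_nonneg _ (by
          exact_mod_cast (orderOf_pos ζ).ne')), zpow_mod_orderOf]
      refine ⟨k, ?_⟩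
      have := congrArg (fun u : Fˣ => (u : F)) (hm.symm.trans hk).symm
      simpa using this.symm
    obtain ⟨m, hm⟩ : ∃ m : ℕ, x = (ζ : F) ^ m := by
      obtain ⟨m, hm⟩ := (Subgroup.mem_zpowers_iff.mp (hζ (Units.mk0 x hx)))
      obtain ⟨k, hk⟩ : ∃ k : ℕ, ζ ^ m = ζ ^ k := by
        refine ⟨(m % (orderOf ζ : ℤ)).toNat, ?_⟩
        rw [← zpow_natCast, Int.toNat_of_nonneg (Int.emod_nonneg _ (by
          exact_mod_cast (orderOf_pos ζ).ne')), zpow_mod_orderOf]
      refine ⟨k, ?_⟩
      have := congrArg (fun u : Fˣ => (u : F)) (hm.symm.trans hk).symm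
      simpa using this.symm
    rw [hm, map_pow, map_pow, map_pow, map_pow, hl, hk, map_pow, map_pow, hl, hk]
    simp only [← pow_mul]
    congr 1
    ring

end field

end Cfsg.Agent.Lib.H24.GagSolv
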