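import Mathlib
import Cfsg.Agent.Lib.H24.GagSolvA

/-!
# Gagola's theorem in the solvable case, part B: the semilinear model (helper24's library)
-/

set_option autoImplicit false

namespace Cfsg.Agent.Lib.H24.GagSolv

variable {p : ℕ} [hp : Fact p.Prime] {V : Type*} [AddCommGroup V] [Module (ZMod p) V] [Finite V]
variable {H : Type*} [Group H] [Finite H]

/-- `p` divides the order of a non-trivial finite `ZMod p`-module -/
theorem p_dvd_card [Nontrivial V] : p ∣ Nat.card V := by
  rw [Module.natCard_eq_pow_finrank (K := ZMod p) (V := V), Nat.card_zmod]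
  have h1 : 0 < Module.finrank (ZMod p) V := Module.finrank_pos
  exact dvd_pow_self p h1.ne'

theorem coprime_pow_card_sub_one [Nontrivial V] (k : ℕ) :
    Nat.Coprime (p ^ k) (Nat.card V - 1) := by
  apply Nat.Coprime.pow_left
  rw [Nat.Prime.coprime_iff_not_dvd hp.out]
  intro h
  have h1 : p ∣ Nat.card V := p_dvd_card
  have h2 : 1 ≤ Nat.card V := Nat.card_pos
  have h3 : p ∣ Nat.card V - (Nat.card V - 1) := Nat.dvd_sub h1 h
  have h4 : Nat.card V - (Nat.card V - 1) = 1 := by omega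
  rw [h4] at h3
  exact hp.out.one_lt.ne' (Nat.dvd_one.mp h3)

/-- the one-dimensional semilinear case: the multiplications form a subgroup containing all
commutators and without non-trivial `p`-elements -/
theorem key_of_model [Nontrivial V] (ρ : H →* (V ≃ₗ[ZMod p] V)) (hρ : Function.Injective ρ)
    {F : Type} [Field F] [Fintype F] (e : V ≃+ F)
    (hmodel : ∀ g : H, ∃ (a : F) (σ : F ≃+* F), ∀ v : V, e (ρ g v) = a * σ (e v)) :
    ∃ H₀ : Subgroup H, (∀ g h : H, g * h * g⁻¹ * h⁻¹ ∈ H₀) ∧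
      ∀ g ∈ H₀, (∃ k : ℕ, g ^ (p ^ k) = 1) → g = 1 := by
  classical
  have hne0 : ∀ (g : H) (a : F) (σ : F ≃+* F), (∀ v : V, e (ρ g v) = a * σ (e v)) → a ≠ 0 := by
    intro g a σ h ha
    obtain ⟨v, hv⟩ := exists_ne (0 : V)
    have h1 := h v
    rw [ha, zero_mul] at h1
    have h2 : ρ g v = 0 := by
      have := e.injective (h1.trans (map_zero e).symm)
      exact this
    have h3 : ρ g v = ρ g 0 := by rw [h2, map_zero]
    exact hv ((ρ g).injective h3)
  let H₀ : Subgroup H :=
    { carrier := {g | ∃ a : F, ∀ v : V, e (ρ g v) = a * e v}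
      one_mem' := ⟨1, fun v => by rw [map_one, one_mul]; rfl⟩
      mul_mem' := by
        rintro g h ⟨a, ha⟩ ⟨b, hb⟩
        refine ⟨a * b, fun v => ?_⟩
        rw [map_mul, LinearEquiv.mul_apply, ha, hb, mul_assoc]
      inv_mem' := by
        rintro g ⟨a, ha⟩
        have ha0 : a ≠ 0 := hne0 g a (RingEquiv.refl F) (fun v => by rw [ha]; rfl)
        refine ⟨a⁻¹, fun v => ?_⟩
        have h1 := ha (ρ g⁻¹ v)
        have h2 : ρ g (ρ g⁻¹ v) = v := by
          rw [← LinearEquiv.mul_apply, ← map_mul, mul_inv_cancel, map_one]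
          rfl
        rw [h2] at h1
        rw [h1, ← mul_assoc, inv_mul_cancel₀ ha0, one_mul] }
  have hmem : ∀ g : H, g ∈ H₀ ↔ ∃ a : F, ∀ v : V, e (ρ g v) = a * e v := fun g => Iff.rfl
  refine ⟨H₀, ?_, ?_⟩
  · intro g h
    obtain ⟨a, σ, hg⟩ := hmodel g
    obtain ⟨b, τ, hh⟩ := hmodel h
    obtain ⟨a', σ', hg'⟩ := hmodel g⁻¹
    obtain ⟨b', τ', hh'⟩ := hmodel h⁻¹
    -- `σ σ' = 1`
    have hinv : ∀ (g : H) (a a' : F) (σ σ' : F ≃+* F), (∀ v : V, e (ρ g v) = a * σ (e v)) →
        (∀ v : V, e (ρ g⁻¹ v) = a' * σ' (e v)) → ∀ x : F, σ (σ' x) = x := by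
      intro g a a' σ σ' hg hg' x
      have h2 : ∀ v : V, ρ g (ρ g⁻¹ v) = v := by
        intro v
        rw [← LinearEquiv.mul_apply, ← map_mul, mul_inv_cancel, map_one]
        rfl
      have h3 : ∀ y : F, y = a * σ a' * σ (σ' y) := by
        intro y
        have h4 := hg (ρ g⁻¹ (e.symm y))
        rw [h2, hg', AddEquiv.apply_symm_apply, map_mul, ← mul_assoc] at h4
        exact h4
      have h5 := h3 1
      rw [map_one, map_one, mul_one] at h5
      have h6 := h3 x
      rw [← h5, one_mul] at h6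
      exact h6.symm
    have hσ := hinv g a a' σ σ' hg hg'
    have hτ := hinv h b b' τ τ' hh hh'
    rw [hmem]
    refine ⟨a * σ b * σ (τ a') * σ (τ (σ' b')), fun v => ?_⟩
    rw [map_mul, map_mul, map_mul, LinearEquiv.mul_apply, LinearEquiv.mul_apply,
      LinearEquiv.mul_apply, hg, hh, hg', hh']
    simp only [map_mul]
    have h7 : σ (τ (σ' (τ' (e v)))) = e v := by
      rw [ringAut_comm τ σ', hσ, hτ]
    rw [h7]
    ring
  · rintro g ⟨a, ha⟩ ⟨k, hk⟩
    have ha0 : a ≠ 0 := hne0 g a (RingEquiv.refl F) (fun v => by rw [ha]; rfl)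
    have hpow : ∀ m : ℕ, ∀ v : V, e (ρ (g ^ m) v) = a ^ m * e v := by
      intro m
      induction m with
      | zero => intro v; rw [pow_zero, pow_zero, map_one, one_mul]; rfl
      | succ m ih =>
        intro v
        rw [pow_succ, map_mul, LinearEquiv.mul_apply, ih, ha, pow_succ, mul_assoc]
    have h1 : a ^ (p ^ k) = 1 := by
      have h2 := hpow (p ^ k) (e.symm 1)
      rw [hk, map_one, AddEquiv.apply_symm_apply, mul_one] at h2
      have h3 : e ((1 : V ≃ₗ[ZMod p] V) (e.symm 1)) = 1 := by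
        show e (e.symm 1) = 1
        rw [AddEquiv.apply_symm_apply]
      rw [h3] at h2
      exact h2.symm
    have h2 : a ^ (Fintype.card F - 1) = 1 := FiniteField.pow_card_sub_one_eq_one a ha0
    have hcard : Fintype.card F = Nat.card V := by
      rw [← Nat.card_eq_fintype_card]
      exact (Nat.card_congr e.toEquiv).symm
    rw [hcard] at h2
    have h3 := pow_gcd_eq_one.mpr ⟨h1, h2⟩
    have h4 : Nat.gcd (p ^ k) (Nat.card V - 1) = 1 := coprime_pow_card_sub_one k
    rw [h4, pow_one] at h3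
    apply hρ
    rw [map_one]
    ext v
    apply e.injective
    rw [ha, h3, one_mul]
    rfl

end Cfsg.Agent.Lib.H24.GagSolv
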