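import Mathlib
import Cfsg.Agent.Lib.H4.Hup.QP4

/-!
# Gagola's theorem in the solvable case, part C: the two-dimensional case with structure exported
(helper24's library; the proof is helper4's `case_two` with a different conclusion)
-/

set_option autoImplicit false

namespace Cfsg.Agent.Lib.H24.GagSolv

open Function Cfsg.Agent.Lib.H4.Hup

variable {q : ℕ} [hq : Fact q.Prime] {V : Type*} [AddCommGroup V] [Module (ZMod q) V] [Finite V]
variable {G : Type*} [Group G] [Finite G]
variable {ρ : G →* (V ≃ₗ[ZMod q] V)}

theorem case_two' [Nontrivial V] (hsol : Group.IsSolvable G) (hinj : Injective ρ)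
    (htrans : ∀ v w : V, v ≠ 0 → w ≠ 0 → ∃ g : G, ρ g v = w) (hcard : Nat.card V = q ^ 2)
    (hdvd : q ^ 2 - 1 ∣ Nat.card G) :
    HasIrr ρ ∨ (q ≠ 2 ∧ ∃ N : Subgroup G, N.Normal ∧ Nat.card N = Nat.card (scal ρ) * 4 ∧
      N.index ∣ 6 ∧ Nat.card (scal ρ) ∣ q - 1) := by
  haveI : Finite (Module.End (ZMod q) V) := finite_end
  obtain ⟨A, hA⟩ := exists_maxAb (G := G)
  obtain ⟨N, hN⟩ := exists_maxN hA
  have hstar : Star ρ A := star_of_transitive htrans A hA.normal hA.ab
  obtain ⟨d, e, hk, hde⟩ := card_kk_pow hstar hcard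
  have hd : d = 1 ∨ d = 2 := by
    have h1 : d ∣ 2 := Dvd.intro e hde.symm
    have h2 : d ≤ 2 := Nat.le_of_dvd (by norm_num) h1
    interval_cases d
    · omega
    · exact Or.inl rfl
    · exact Or.inr rfl
  rcases hd with rfl | rfl
  · right
    rw [pow_one] at hk
    obtain ⟨hNn, hAN, hNC, hNc⟩ := hN.prop
    haveI := hNn
    haveI := hA.normal
    have hAscal : A ≤ scal ρ := by
      intro a ha
      rw [mem_scal']
      exact scalar_of_card_kk ρ A hk.le (toEnd_mem_kk ρ ha)
    have hscalA : scal ρ ≤ A :=
      hA.max (scal ρ) inferInstance (fun a ha b _ => scal_central hinj ha b) hAscal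
    have hAeq : A = scal ρ := le_antisymm hAscal hscalA
    have hAcard : Nat.card A ∣ q - 1 := by
      rw [hAeq]
      exact card_scal_dvd hinj
    have hq2 := hq.out.two_le
    -- `G ≠ A`
    obtain ⟨g0, hg0⟩ : ∃ g : G, g ∉ A := by
      by_contra hall
      push Not at hall
      have htop : A = ⊤ := by
        rw [eq_top_iff]
        intro g _
        exact hall g
      have h1 : Nat.card G ∣ q - 1 := by
        rw [← Subgroup.card_top (G := G), ← htop]
        exact hAcard
      have h2 := Nat.le_of_dvd (by omega) (hdvd.trans h1)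
      have h3 : q * 2 ≤ q * q := Nat.mul_le_mul_left q hq2
      rw [sq] at h2
      omega
    have hcentA : ∀ g : G, g ∈ Subgroup.centralizer (A : Set G) := by
      intro g
      rw [Subgroup.mem_centralizer_iff]
      intro a ha
      exact scal_central hinj (hAscal ha) g
    have hNA : N ≠ A := ne_of_centralizer_ne hA hN hsol (hcentA g0) hg0
    have H : Hyp ρ N A := hyp_of_max hinj hA hN hstar
    have hcount := H.card_pow_le
    rw [card_end hcard, hk] at hcount
    have hidx4 : A.relIndex N ≤ 4 := (Nat.pow_le_pow_iff_right hq.out.one_lt).mp hcount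
    have hidx : A.relIndex N = 4 := by
      have h0 : A.relIndex N ≠ 0 := by
        unfold Subgroup.relIndex
        exact Subgroup.index_ne_zero_of_finite
      have h1 : A.relIndex N ≠ 1 := by
        intro h
        rw [Subgroup.relIndex_eq_one] at h
        exact hNA (le_antisymm h hAN)
      have hnp := relIndex_not_prime hA hN
      have h2 : A.relIndex N ≠ 2 := fun h => hnp (h ▸ Nat.prime_two)
      have h3 : A.relIndex N ≠ 3 := fun h => hnp (h ▸ Nat.prime_three)
      omega
    have hsurj : Surjective (comb ρ N A) := by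
      apply H.comb_surjective
      rw [card_end hcard, hk, hidx]
    have hAc : ∀ a ∈ A, ∀ f : Module.End (ZMod q) V, toEnd ρ a * f = f * toEnd ρ a := by
      intro a ha f
      obtain ⟨z, hz⟩ := mem_scal'.mp (hAscal ha)
      rw [hz, smul_mul_assoc, one_mul, mul_smul_comm, mul_one]
    have hself : ∀ g : G, (∀ a ∈ N, a * g * a⁻¹ * g⁻¹ ∈ A) → g ∈ N := by
      intro g hg
      obtain ⟨b, hb, hcomm⟩ := H.exists_mul_inv_commute hsurj hAc hg
      have h1 : toEnd ρ (g * b⁻¹) ∈ kk ρ A := H.mem_kk_of_commute hsurj hcomm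
      have h2 : g * b⁻¹ ∈ scal ρ := by
        rw [mem_scal']
        exact scalar_of_card_kk ρ A hk.le h1
      have : g = (g * b⁻¹) * b := by group
      rw [this]
      exact N.mul_mem (hAN (hscalA h2)) hb
    obtain ⟨φ, hφ⟩ := exists_conj_hom N A
    have hker : φ.ker = N := by
      ext g
      rw [hφ]
      exact ⟨hself g, fun hg a ha => H.comm g hg a ha⟩
    have hNidx : N.index ∣ 6 := by
      rw [← hker, Subgroup.index_ker]
      have h1 := Subgroup.card_subgroup_dvd_card φ.range
      have h2 : Nat.card (↥N ⧸ A.subgroupOf N) = 4 := by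
        rw [← Subgroup.index_eq_card]
        exact hidx
      exact h1.trans (card_mulAut_dvd_six h2)
    have hcardN : Nat.card N = Nat.card A * 4 := by
      have := Subgroup.relIndex_mul_relIndex ⊥ A N bot_le hAN
      rw [Subgroup.relIndex_bot_left, Subgroup.relIndex_bot_left, hidx] at this
      exact this.symm
    have hcardG : Nat.card G = Nat.card A * 4 * N.index := by
      rw [← hcardN, Subgroup.card_mul_index]
    have hq2' : q ≠ 2 := by
      intro h2
      have hA1 : Nat.card A = 1 := by
        rw [h2] at hAcard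
        exact Nat.dvd_one.mp hAcard
      have hAbot : A = ⊥ := Subgroup.card_eq_one.mp hA1
      apply hNA
      apply le_antisymm _ hAN
      intro g hg
      apply center_le_of_max hA hN hg
      intro h hh
      have h1 : h * g * h⁻¹ * g⁻¹ ∈ A := H.comm g hg h hh
      rw [hAbot, Subgroup.mem_bot] at h1
      calc g * h = (h * g * h⁻¹ * g⁻¹)⁻¹ * (h * g) := by group
        _ = h * g := by rw [h1, inv_one, one_mul]
    exact ⟨hq2', N, hNn, by rw [hcardN, hAeq], hNidx, by rw [← hAeq]; exact hAcard⟩
  · left
    apply hasIrr_of_card_kk hinj A hA.normal hA.ab hstar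
    rw [hcard, hk]

end Cfsg.Agent.Lib.H24.GagSolv
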