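import Mathlib
import Cfsg.Agent.Lib.H24.GagSolvB
import Cfsg.Agent.Lib.H24.GagSolvC

/-!
# Gagola's theorem in the solvable case, part D: semiregularity lemmas (helper24's library)
-/

set_option autoImplicit false

namespace Cfsg.Agent.Lib.H24.GagSolv

open Function Cfsg.Agent.Lib.H4.Hup

variable {p : ℕ} [hp : Fact p.Prime] {V : Type*} [AddCommGroup V] [Module (ZMod p) V] [Finite V]
variable {H : Type*} [Group H] [Finite H] {ρ : H →* (V ≃ₗ[ZMod p] V)}

/-- the hypothesis: stabilizers of non-zero vectors consist of `p`-elements -/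
def PStab (ρ : H →* (V ≃ₗ[ZMod p] V)) : Prop :=
  ∀ v : V, v ≠ 0 → ∀ g : H, ρ g v = v → ∃ k : ℕ, g ^ (p ^ k) = 1

omit [Finite V] [Finite H] in
theorem eq_one_of_fix (hstab : PStab ρ) {g : H} {m : ℕ} (hm : Nat.Coprime m p) (hg : g ^ m = 1)
    {v : V} (hv : v ≠ 0) (hgv : ρ g v = v) : g = 1 := by
  obtain ⟨k, hk⟩ := hstab v hv g hgv
  have h1 := pow_gcd_eq_one.mpr ⟨hg, hk⟩
  have h2 : Nat.gcd m (p ^ k) = 1 := Nat.Coprime.pow_right k hm
  rw [h2, pow_one] at h1
  exact h1

omit [Finite V] in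
theorem eq_zero_of_eq_neg (hp2 : p ≠ 2) {w : V} (h : w = -w) : w = 0 := by
  have h1 : (2 : ZMod p) • w = 0 := by
    rw [two_smul]
    nth_rewrite 2 [h]
    exact add_neg_cancel w
  have h2 : (2 : ZMod p) ≠ 0 := by
    intro h2
    have h3 : ((2 : ℕ) : ZMod p) = 0 := by exact_mod_cast h2
    have h4 : p ∣ 2 := (ZMod.natCast_eq_zero_iff 2 p).mp h3
    exact hp2 ((Nat.prime_dvd_prime_iff_eq hp.out Nat.prime_two).mp h4)
  exact (smul_eq_zero.mp h1).resolve_left h2

omit [Finite V] [Finite H] in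
theorem involution_neg (hstab : PStab ρ) (hp2 : p ≠ 2) {t : H} (ht : t * t = 1) (ht1 : t ≠ 1)
    (v : V) : ρ t v = -v := by
  by_contra hne
  have hw : v + ρ t v ≠ 0 := fun h => hne (eq_neg_of_add_eq_zero_right h)
  have hfix : ρ t (v + ρ t v) = v + ρ t v := by
    rw [map_add, ← LinearEquiv.mul_apply, ← map_mul, ht, map_one, add_comm]
    rfl
  apply ht1
  exact eq_one_of_fix hstab (m := 2)
    ((Nat.coprime_primes Nat.prime_two hp.out).mpr (Ne.symm hp2)) (by rw [pow_two]; exact ht)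
    hw hfix

/-- orbit–stabilizer -/
theorem card_eq_mul_pow [Nontrivial V]
    (htrans : ∀ v w : V, v ≠ 0 → w ≠ 0 → ∃ g : H, ρ g v = w) (hstab : PStab ρ) :
    ∃ a : ℕ, Nat.card H = (Nat.card V - 1) * p ^ a := by
  classical
  letI : MulAction H V := MulAction.compHom V ρ
  have hsmul : ∀ (g : H) (v : V), g • v = ρ g v := fun g v => rfl
  obtain ⟨v0, hv0⟩ := exists_ne (0 : V)
  have horb : MulAction.orbit H v0 = ({0} : Set V)ᶜ := by
    ext v
    rw [MulAction.mem_orbit_iff, Set.mem_compl_iff, Set.mem_singleton_iff]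
    constructor
    · rintro ⟨g, rfl⟩ h0
      rw [hsmul] at h0
      have : ρ g v0 = ρ g 0 := by rw [h0, map_zero]
      exact hv0 ((ρ g).injective this)
    · intro hv
      obtain ⟨g, hg⟩ := htrans v0 v hv0 hv
      exact ⟨g, hg⟩
  have h1 := MulAction.index_stabilizer H v0
  rw [horb, Set.ncard_compl, Set.ncard_singleton] at h1
  have hpg : IsPGroup p (MulAction.stabilizer H v0) := by
    intro g
    have hg : ρ (g : H) v0 = v0 := g.2
    obtain ⟨k, hk⟩ := hstab v0 hv0 g hg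
    exact ⟨k, Subtype.ext (by simpa using hk)⟩
  obtain ⟨a, ha⟩ := hpg.exists_card_eq
  refine ⟨a, ?_⟩
  rw [← Subgroup.index_mul_card (MulAction.stabilizer H v0), h1, ha]

end Cfsg.Agent.Lib.H24.GagSolv
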