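import Mathlib
import Cfsg.Agent.Lib.H24.GagSolvD

/-!
# Gagola's theorem in the solvable case, part E: the exceptional two-dimensional case
(helper24's library)
-/

set_option autoImplicit false

namespace Cfsg.Agent.Lib.H24.GagSolv

open Function Cfsg.Agent.Lib.H4.Hup

variable {p : ℕ} [hp : Fact p.Prime] {V : Type*} [AddCommGroup V] [Module (ZMod p) V] [Finite V]
variable {H : Type*} [Group H] [Finite H] {ρ : H →* (V ≃ₗ[ZMod p] V)}

omit [Finite V] [Finite H] in
/-- an involution lies in `scal ρ` -/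
theorem involution_mem_scal (hstab : PStab ρ) (hp2 : p ≠ 2) {t : H} (ht : t * t = 1)
    (ht1 : t ≠ 1) : t ∈ scal ρ := by
  rw [mem_scal]
  refine ⟨-1, fun v => ?_⟩
  rw [involution_neg hstab hp2 ht ht1 v, neg_smul, one_smul]

theorem key_of_two [Nontrivial V] (hstab : PStab ρ) (hp2 : p ≠ 2)
    (hcardV : Nat.card V = p ^ 2) {a : ℕ} (hcardH : Nat.card H = (Nat.card V - 1) * p ^ a)
    (hpH : p ∣ Nat.card H) (N : Subgroup H) (hNn : N.Normal)
    (hNcard : Nat.card N = Nat.card (scal ρ) * 4) (hNidx : N.index ∣ 6)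
    (hZ : Nat.card (scal ρ) ∣ p - 1) :
    ∃ H₀ : Subgroup H, (∀ g h : H, g * h * g⁻¹ * h⁻¹ ∈ H₀) ∧
      ∀ g ∈ H₀, (∃ k : ℕ, g ^ (p ^ k) = 1) → g = 1 := by
  classical
  have hp1 := hp.out.two_le
  have hzpos : 0 < Nat.card (scal ρ) := Nat.card_pos
  have hcard2 : Nat.card H = Nat.card (scal ρ) * 4 * N.index := by
    rw [← hNcard, Subgroup.card_mul_index]
  -- `p ∣ N.index`
  have hpi : p ∣ N.index := by
    rw [hcard2] at hpH
    rcases (Nat.Prime.dvd_mul hp.out).mp hpH with h | h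
    · exfalso
      rcases (Nat.Prime.dvd_mul hp.out).mp h with h | h
      · have h1 := Nat.le_of_dvd hzpos h
        have h2 := Nat.le_of_dvd (by omega) hZ
        omega
      · have h1 : p ∣ 2 ^ 2 := by norm_num; exact h
        have h2 := Nat.Prime.dvd_of_dvd_pow hp.out h1
        exact hp2 ((Nat.prime_dvd_prime_iff_eq hp.out Nat.prime_two).mp h2)
    · exact h
  have hp3 : p = 3 := by
    have h1 : p ∣ 2 * 3 := by norm_num; exact hpi.trans hNidx
    rcases (Nat.Prime.dvd_mul hp.out).mp h1 with h | h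
    · exact absurd ((Nat.prime_dvd_prime_iff_eq hp.out Nat.prime_two).mp h) hp2
    · exact (Nat.prime_dvd_prime_iff_eq hp.out Nat.prime_three).mp h
  subst hp3
  have hz2 : Nat.card (scal ρ) ∣ 2 := hZ
  have hzle : Nat.card (scal ρ) ≤ 2 := Nat.le_of_dvd (by norm_num) hz2
  have hile : N.index ≤ 6 := Nat.le_of_dvd (by norm_num) hNidx
  have hipos : 0 < N.index := Nat.pos_of_ne_zero Subgroup.index_ne_zero_of_finite
  rw [hcardV] at hcardH
  obtain ⟨x, hx⟩ : ∃ x, x = 3 ^ a := ⟨_, rfl⟩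
  have hxodd : x % 2 = 1 := by
    rw [hx]
    exact Nat.odd_iff.mp (Odd.pow (by decide))
  rw [← hx, hcard2] at hcardH
  have hi36 : N.index = 3 ∨ N.index = 6 := by
    obtain ⟨c, hc⟩ := hpi
    obtain ⟨d, hd⟩ := hNidx
    omega
  have hz12 : Nat.card (scal ρ) = 1 ∨ Nat.card (scal ρ) = 2 := by omega
  -- the two good configurations
  have hcases : (Nat.card (scal ρ) = 1 ∧ N.index = 6) ∨ (Nat.card (scal ρ) = 2 ∧ N.index = 3) := by
    rcases hz12 with h1 | h1 <;> rcases hi36 with h2 | h2 <;> rw [h1, h2] at hcardH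
    · omega
    · exact Or.inl ⟨h1, h2⟩
    · exact Or.inr ⟨h1, h2⟩
    · omega
  rcases hcases with ⟨h1, h2⟩ | ⟨h1, h2⟩
  · exfalso
    have hbot : scal ρ = ⊥ := Subgroup.card_eq_one.mp h1
    rw [h1] at hNcard
    haveI : Fact (Nat.Prime 2) := ⟨Nat.prime_two⟩
    obtain ⟨t, ht⟩ := exists_prime_orderOf_dvd_card' (G := ↥N) 2 (by rw [hNcard]; norm_num)
    have ht2 : (t : H) * t = 1 := by
      have := pow_orderOf_eq_one t
      rw [ht, pow_two] at this
      exact congrArg Subtype.val this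
    have ht1 : (t : H) ≠ 1 := by
      intro h
      have h3 : t = 1 := Subtype.ext h
      rw [h3, orderOf_one] at ht
      omega
    have hmem := involution_mem_scal hstab hp2 ht2 ht1
    rw [hbot, Subgroup.mem_bot] at hmem
    exact ht1 hmem
  · rw [h1] at hNcard
    refine ⟨N, ?_, ?_⟩
    · intro g h
      haveI := hNn
      have hq : Nat.card (H ⧸ N) = 3 := by rw [← Subgroup.index_eq_card, h2]
      haveI : Fact (Nat.Prime 3) := ⟨Nat.prime_three⟩
      haveI : IsCyclic (H ⧸ N) := isCyclic_of_prime_card hq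
      have hcomm : ∀ x y : H ⧸ N, x * y = y * x := fun x y =>
        (IsCyclic.commutative (α := H ⧸ N)).is_comm.comm x y
      rw [← QuotientGroup.eq_one_iff]
      simp only [QuotientGroup.mk_mul, QuotientGroup.mk_inv]
      rw [hcomm (g : H ⧸ N) (h : H ⧸ N), mul_inv_cancel_right, mul_inv_cancel]
    · rintro g hg ⟨k, hk⟩
      have h8 : g ^ 8 = 1 := by
        have h3 : (⟨g, hg⟩ : ↥N) ^ Nat.card ↥N = 1 := pow_card_eq_one'
        rw [hNcard] at h3
        have := congrArg Subtype.val h3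
        simpa using this
      have h4 := pow_gcd_eq_one.mpr ⟨h8, hk⟩
      have h5 : Nat.gcd 8 (3 ^ k) = 1 := Nat.Coprime.pow_right k (by norm_num)
      rw [h5, pow_one] at h4
      exact h4

end Cfsg.Agent.Lib.H24.GagSolv
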