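import Mathlib
import Cfsg.Agent.Lib.H24.GagSolvE

/-!
# Gagola's theorem in the solvable case, part F: no exceptional structure in dimension four
(helper24's library)
-/

set_option autoImplicit false

namespace Cfsg.Agent.Lib.H24.GagSolv

open Function Cfsg.Agent.Lib.H4.Hup

theorem zmod_three_cases : ∀ z : ZMod 3, z = 0 ∨ z = 1 ∨ z = -1 := by decide

theorem false_of_exc {V : Type*} [AddCommGroup V] [Module (ZMod 3) V] [Finite V] [Nontrivial V]
    {H : Type*} [Group H] [Finite H] [hp : Fact (Nat.Prime 3)] {ρ : H →* (V ≃ₗ[ZMod 3] V)}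
    (hρ : Injective ρ) (hstab : PStab ρ) (N : Subgroup H) (hN : Exc ρ 4 N) : False := by
  classical
  have hp2 : (3 : ℕ) ≠ 2 := by norm_num
  obtain ⟨v0, hv0⟩ := exists_ne (0 : V)
  have hinj0 : ∀ (g : H) (v : V), ρ g v = 0 → v = 0 := by
    intro g v h
    have : ρ g v = ρ g 0 := by rw [h, map_zero]
    exact (ρ g).injective this
  -- scalars are `±1`
  have Z1 : ∀ g ∈ scal ρ, g = 1 ∨ ∀ v, ρ g v = -v := by
    rintro g ⟨z, hz⟩
    rcases zmod_three_cases z with rfl | rfl | rfl
    · exfalso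
      have := hz v0
      rw [zero_smul] at this
      exact hv0 (hinj0 g v0 this)
    · left
      apply hρ
      rw [map_one]
      ext v
      rw [hz v, one_smul]
      rfl
    · right
      intro v
      rw [hz v, neg_smul, one_smul]
  have hnn : ∀ v : V, v = -v → v = 0 := fun v h => eq_zero_of_eq_neg (p := 3) hp2 h
  -- squares
  have Z2 : ∀ g ∈ N, g ∉ scal ρ → ∀ v, ρ (g * g) v = -v := by
    intro g hg hgZ v
    have hsq := hN.sq g hg
    rw [pow_two] at hsq
    rcases Z1 _ hsq with h1 | h1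
    · exfalso
      have hg1 : g ≠ 1 := by
        rintro rfl
        exact hgZ (Subgroup.one_mem _)
      exact hgZ (involution_mem_scal hstab hp2 h1 hg1)
    · exact h1 v
  -- anticommutation
  have Z3 : ∀ g ∈ N, ∀ h ∈ N, g ∉ scal ρ → h ∉ scal ρ → g * h ∉ scal ρ →
      ∀ v, ρ g (ρ h v) = -ρ h (ρ g v) := by
    intro g hg h hh hgZ hhZ hghZ v
    have hc := hN.comm g hg h hh
    rcases Z1 _ hc with h1 | h1
    · exfalso
      have hcomm : g * h = h * g := by
        calc g * h = (g * h * g⁻¹ * h⁻¹) * (h * g) := by group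
          _ = h * g := by rw [h1, one_mul]
      have h2 := Z2 (g * h) (N.mul_mem hg hh) hghZ v0
      have h3 : g * h * (g * h) = (g * g) * (h * h) := by
        calc g * h * (g * h) = g * (h * g) * h := by group
          _ = g * (g * h) * h := by rw [hcomm]
          _ = (g * g) * (h * h) := by group
      rw [h3, map_mul, LinearEquiv.mul_apply, Z2 h hh hhZ, map_neg, Z2 g hg hgZ, neg_neg] at h2
      exact hv0 (hnn v0 h2)
    · have h2 : g * h = (g * h * g⁻¹ * h⁻¹) * (h * g) := by group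
      have h3 : ρ g (ρ h v) = ρ (g * h) v := by rw [map_mul, LinearEquiv.mul_apply]
      rw [h3, h2, map_mul, LinearEquiv.mul_apply, h1, map_mul, LinearEquiv.mul_apply]
  -- three independent elements
  let Z' : Subgroup ↥N := (scal ρ).subgroupOf N
  have hcardQ : Nat.card (↥N ⧸ Z') = 16 := by
    rw [← Subgroup.index_eq_card]
    have := hN.relIndex
    unfold Subgroup.relIndex at this
    rw [this]
  have : Finite (↥N ⧸ Z') := Nat.finite_of_card_ne_zero (by rw [hcardQ]; norm_num)
  have := Fintype.ofFinite (↥N ⧸ Z')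
  have hcardQ' : (Finset.univ : Finset (↥N ⧸ Z')).card = 16 := by
    rw [Finset.card_univ, ← Nat.card_eq_fintype_card, hcardQ]
  have hmk : ∀ a b : ↥N, (QuotientGroup.mk a : ↥N ⧸ Z') ≠ QuotientGroup.mk b →
      ((a : H)⁻¹ * b) ∉ scal ρ := by
    intro a b hab hmem
    apply hab
    rw [QuotientGroup.eq]
    exact Subgroup.mem_subgroupOf.mpr (by simpa using hmem)
  obtain ⟨x, -, hx⟩ := Finset.exists_mem_notMem_of_card_lt_card
    (s := ({QuotientGroup.mk 1} : Finset (↥N ⧸ Z'))) (t := Finset.univ)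
    (by rw [hcardQ', Finset.card_singleton]; norm_num)
  obtain ⟨g, rfl⟩ := QuotientGroup.mk_surjective x
  obtain ⟨y, -, hy⟩ := Finset.exists_mem_notMem_of_card_lt_card
    (s := ({QuotientGroup.mk 1, QuotientGroup.mk g⁻¹} : Finset (↥N ⧸ Z'))) (t := Finset.univ)
    (by rw [hcardQ']; exact lt_of_le_of_lt Finset.card_le_two (by norm_num))
  obtain ⟨h, rfl⟩ := QuotientGroup.mk_surjective y
  obtain ⟨w, -, hw⟩ := Finset.exists_mem_notMem_of_card_lt_card
    (s := ({QuotientGroup.mk 1, QuotientGroup.mk g⁻¹, QuotientGroup.mk h⁻¹,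
      QuotientGroup.mk (g * h)⁻¹} : Finset (↥N ⧸ Z'))) (t := Finset.univ)
    (by rw [hcardQ']; exact lt_of_le_of_lt Finset.card_le_four (by norm_num))
  obtain ⟨k, rfl⟩ := QuotientGroup.mk_surjective w
  simp only [Finset.mem_insert, Finset.mem_singleton, not_or] at hx hy hw
  have hgZ : (g : H) ∉ scal ρ := by
    have := hmk 1 g (Ne.symm hx)
    simpa using this
  have hhZ : (h : H) ∉ scal ρ := by
    have := hmk 1 h (Ne.symm hy.1)
    simpa using this
  have hghZ : (g : H) * h ∉ scal ρ := by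
    have := hmk g⁻¹ h (Ne.symm hy.2)
    simpa using this
  have hkZ : (k : H) ∉ scal ρ := by
    have := hmk 1 k (Ne.symm hw.1)
    simpa using this
  have hgkZ : (g : H) * k ∉ scal ρ := by
    have := hmk g⁻¹ k (Ne.symm hw.2.1)
    simpa using this
  have hhkZ : (h : H) * k ∉ scal ρ := by
    have := hmk h⁻¹ k (Ne.symm hw.2.2.1)
    simpa using this
  have hghkZ : (g : H) * ((h : H) * k) ∉ scal ρ := by
    have := hmk (g * h)⁻¹ k (Ne.symm hw.2.2.2)
    simpa [mul_assoc] using this
  -- the contradiction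
  have e1 := Z3 g g.2 (h * k) (N.mul_mem h.2 k.2) hgZ hhkZ hghkZ v0
  have e2 : ρ (g : H) (ρ ((h : H) * k) v0) = ρ ((h : H) * k) (ρ (g : H) v0) := by
    rw [map_mul, LinearEquiv.mul_apply, LinearEquiv.mul_apply,
      Z3 g g.2 h h.2 hgZ hhZ hghZ (ρ (k : H) v0), Z3 g g.2 k k.2 hgZ hkZ hgkZ v0, map_neg, neg_neg]
  rw [e2] at e1
  have e3 := hnn _ e1
  exact hv0 (hinj0 _ _ (hinj0 _ _ e3))

end Cfsg.Agent.Lib.H24.GagSolv
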