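import Mathlib
import Cfsg.Agent.S3360
import Cfsg.Agent.Lib.H24.GagSolvF

/-!
# Gagola's theorem in the solvable case, part G: solvable transitive linear groups whose point
stabilizers are `p`-groups (helper24's library)
-/

set_option autoImplicit false

namespace Cfsg.Agent.Lib.H24.GagSolv

open Function Cfsg.Agent.Lib.H4.Hup

theorem key_of_linear {p : ℕ} [hp : Fact p.Prime] {V : Type*} [AddCommGroup V]
    [Module (ZMod p) V] [Finite V] [Nontrivial V] {H : Type*} [Group H] [Finite H]
    (hsol : Group.IsSolvable H) (ρ : H →* (V ≃ₗ[ZMod p] V)) (hρ : Injective ρ)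
    (htrans : ∀ v w : V, v ≠ 0 → w ≠ 0 → ∃ g : H, ρ g v = w) (hstab : PStab ρ) :
    ∃ H₀ : Subgroup H, (∀ g h : H, g * h * g⁻¹ * h⁻¹ ∈ H₀) ∧
      ∀ g ∈ H₀, (∃ k : ℕ, g ^ (p ^ k) = 1) → g = 1 := by
  classical
  by_cases hpH : p ∣ Nat.card H
  swap
  · refine ⟨⊤, fun _ _ => Subgroup.mem_top _, ?_⟩
    rintro g - ⟨k, hk⟩
    have h1 : g ^ Nat.card H = 1 := pow_card_eq_one'
    have h2 := pow_gcd_eq_one.mpr ⟨hk, h1⟩
    have h3 : Nat.gcd (p ^ k) (Nat.card H) = 1 :=
      Nat.Coprime.pow_left k ((Nat.Prime.coprime_iff_not_dvd hp.out).mpr hpH)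
    rwa [h3, pow_one] at h2
  have hmodel : HasIrr ρ → ∃ H₀ : Subgroup H, (∀ g h : H, g * h * g⁻¹ * h⁻¹ ∈ H₀) ∧
      ∀ g ∈ H₀, (∃ k : ℕ, g ^ (p ^ k) = 1) → g = 1 := by
    intro h
    obtain ⟨F, fF, ftF, e, he⟩ := model_of_hasIrr h
    exact key_of_model ρ hρ e he
  obtain ⟨a, hcardH⟩ := card_eq_mul_pow htrans hstab
  rcases Cfsg.Agent.S3360.result p hsol ρ hρ htrans with ⟨F, fF, ftF, e, he⟩ | hset
  · exact key_of_model ρ hρ e he
  · obtain ⟨n, hn⟩ : ∃ n, Nat.card V = p ^ n :=
      ⟨Module.finrank (ZMod p) V, by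
        rw [Module.natCard_eq_pow_finrank (K := ZMod p), Nat.card_zmod]⟩
    have hn0 : n ≠ 0 := by
      rintro rfl
      rw [pow_zero] at hn
      have := Finite.one_lt_card (α := V)
      omega
    simp only [Set.mem_insert_iff, Set.mem_singleton_iff] at hset
    have h2or4 : n = 2 ∨ (p = 3 ∧ n = 4) := by
      rw [hn] at hset
      rcases hset with h | h | h | h | h | h
      · left
        exact (Nat.Prime.pow_inj' hp.out Nat.prime_three hn0 (by norm_num)
          (h.trans (by norm_num : (9 : ℕ) = 3 ^ 2))).2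
      · left
        exact (Nat.Prime.pow_inj' hp.out Nat.prime_five hn0 (by norm_num)
          (h.trans (by norm_num : (25 : ℕ) = 5 ^ 2))).2
      · left
        exact (Nat.Prime.pow_inj' hp.out (by norm_num : Nat.Prime 7) hn0 (by norm_num)
          (h.trans (by norm_num : (49 : ℕ) = 7 ^ 2))).2
      · left
        exact (Nat.Prime.pow_inj' hp.out (by norm_num : Nat.Prime 11) hn0 (by norm_num)
          (h.trans (by norm_num : (121 : ℕ) = 11 ^ 2))).2
      · left
        exact (Nat.Prime.pow_inj' hp.out (by norm_num : Nat.Prime 23) hn0 (by norm_num)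
          (h.trans (by norm_num : (529 : ℕ) = 23 ^ 2))).2
      · right
        exact Nat.Prime.pow_inj' hp.out Nat.prime_three hn0 (by norm_num)
          (h.trans (by norm_num : (81 : ℕ) = 3 ^ 4))
    rcases h2or4 with h2 | ⟨h3, h4⟩
    · subst h2
      have hdvd : p ^ 2 - 1 ∣ Nat.card H := by
        rw [hcardH, hn]
        exact dvd_mul_right _ _
      rcases case_two' hsol hρ htrans hn hdvd with h | ⟨hp2, N, hNn, hNcard, hNidx, hZ⟩
      · exact hmodel h
      · exact key_of_two hstab hp2 hn hcardH hpH N hNn hNcard hNidx hZ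
    · subst h3
      subst h4
      have h80 : 5 ∣ Nat.card H := by
        rw [hcardH, hn]
        exact Dvd.dvd.mul_right (by norm_num) _
      haveI : Fact (Nat.Prime 5) := ⟨by norm_num⟩
      obtain ⟨x, hx⟩ := exists_prime_orderOf_dvd_card' 5 h80
      have hctx : Ctx ρ 4 5 x :=
        { inj := hρ
          card := hn
          two_le := by norm_num
          prime := by norm_num
          ne := by norm_num
          ppd := by
            intro k hk0 hk4
            interval_cases k <;> norm_num
          pow := by rw [← hx]; exact pow_orderOf_eq_one x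
          ne_one := by
            intro h1
            rw [h1, orderOf_one] at hx
            norm_num at hx }
      rcases dichotomy hsol hctx with h | ⟨_, _, _, N, hN⟩
      · exact hmodel h
      · exact (false_of_exc hρ hstab N hN).elim

end Cfsg.Agent.Lib.H24.GagSolv
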