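import Mathlib

/-!
# Gagola's theorem in the solvable case, part H: the linear action on an elementary abelian normal
subgroup (helper24's library)
-/

set_option autoImplicit false

namespace Cfsg.Agent.Lib.H24.GagSolv

universe u

theorem exists_linear_action {G : Type u} [Group G] [Finite G] (N P : Subgroup G)
    [hN : N.Normal] [hP : P.Normal] (p : ℕ) [Fact p.Prime]
    (hcomm : ∀ a b : ↥N, a * b = b * a) (hexp : ∀ a : ↥N, a ^ p = 1) (hN1 : N ≠ ⊥)
    (hPc : P ≤ Subgroup.centralizer (N : Set G)) (hcP : Subgroup.centralizer (N : Set G) ≤ P) :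
    ∃ (V : Type u) (_ : AddCommGroup V) (_ : Module (ZMod p) V) (_ : Finite V) (_ : Nontrivial V)
      (ρ : G ⧸ P →* (V ≃ₗ[ZMod p] V)) (ι : ↥N ≃ V), ι 1 = 0 ∧ Function.Injective ρ ∧
      ∀ (g : G) (n : ↥N), ρ (QuotientGroup.mk g) (ι n) = ι (MulAut.conjNormal g n) := by
  classical
  letI cg : CommGroup ↥N := { (inferInstance : Group ↥N) with mul_comm := hcomm }
  obtain ⟨inst⟩ : Nonempty (Module (ZMod p) (Additive ↥N)) :=
    ⟨AddCommGroup.zmodModule (n := p) (by
      intro a
      show Additive.ofMul (a.toMul ^ p) = 0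
      rw [hexp]
      rfl)⟩
  let lin : G → (Additive ↥N ≃ₗ[ZMod p] Additive ↥N) := fun g =>
    (MulEquiv.toAdditive (MulAut.conjNormal g : ↥N ≃* ↥N)).toLinearEquiv
      (fun c x => ZMod.map_smul _ c x)
  have hlin : ∀ g (a : Additive ↥N), lin g a = Additive.ofMul (MulAut.conjNormal g a.toMul) :=
    fun g a => rfl
  let φ : G →* (Additive ↥N ≃ₗ[ZMod p] Additive ↥N) :=
    { toFun := lin
      map_one' := by
        ext a
        rw [hlin, map_one]
        rfl
      map_mul' := by
        intro g h
        ext a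
        rw [LinearEquiv.mul_apply, hlin, hlin, hlin, map_mul]
        rfl }
  have hφ : ∀ g (a : Additive ↥N), φ g a = Additive.ofMul (MulAut.conjNormal g a.toMul) :=
    fun g a => rfl
  have hker : ∀ x ∈ P, φ x = 1 := by
    intro x hx
    ext a
    rw [hφ]
    have h1 := Subgroup.mem_centralizer_iff.mp (hPc hx) (a.toMul : G) a.toMul.2
    have h2 : MulAut.conjNormal x a.toMul = a.toMul := by
      apply Subtype.ext
      rw [MulAut.conjNormal_apply, ← h1, mul_inv_cancel_right]
    rw [h2]
    rfl
  let ρ : G ⧸ P →* (Additive ↥N ≃ₗ[ZMod p] Additive ↥N) := QuotientGroup.lift P φ hker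
  have hρ : ∀ g, ρ (QuotientGroup.mk g) = φ g := fun g => rfl
  haveI : Nontrivial ↥N := (Subgroup.nontrivial_iff_ne_bot N).mpr hN1
  refine ⟨Additive ↥N, inferInstance, inferInstance, inferInstance, inferInstance, ρ,
    Additive.ofMul, rfl, ?_, ?_⟩
  · rw [injective_iff_map_eq_one]
    intro x hx
    induction x using QuotientGroup.induction_on with
    | _ g =>
      rw [hρ] at hx
      rw [QuotientGroup.eq_one_iff]
      apply hcP
      rw [Subgroup.mem_centralizer_iff]
      intro n hn
      have h1 := hφ g (Additive.ofMul ⟨n, hn⟩)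
      rw [hx] at h1
      have h2 : (⟨n, hn⟩ : ↥N) = MulAut.conjNormal g ⟨n, hn⟩ := Additive.ofMul.injective h1
      have h3 := congrArg Subtype.val h2
      rw [MulAut.conjNormal_apply] at h3
      simp only at h3
      calc n * g = g * n * g⁻¹ * g := by rw [← h3]
        _ = g * n := by group
  · intro g n
    rfl

end Cfsg.Agent.Lib.H24.GagSolv
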