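import Cfsg.Agent.Lib.H24.CharBasic
import Mathlib.GroupTheory.ClassEquation

/-!
# Irreducible characters that are nonzero on exactly two conjugacy classes (helper24's library)
-/

set_option autoImplicit false

namespace Cfsg.Agent.Lib.H24

open scoped ComplexConjugate

variable {G : Type*} [Group G]

/-- Unpacking the hypothesis "nonzero on exactly two classes". -/
theorem two_classes_data (χ : IrrCharacter G)
    (hχ : Nat.card {C : ConjClasses G // ∃ g ∈ C.carrier, (χ : G → ℂ) g ≠ 0} = 2) :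
    ∃ c : G, c ≠ 1 ∧ (χ : G → ℂ) c ≠ 0 ∧ ∀ g : G, (χ : G → ℂ) g ≠ 0 → g = 1 ∨ IsConj c g := by
  classical
  let C₁ : {C : ConjClasses G // ∃ g ∈ C.carrier, (χ : G → ℂ) g ≠ 0} :=
    ⟨ConjClasses.mk 1, 1, ConjClasses.mem_carrier_mk, irr_one_ne_zero χ⟩
  obtain ⟨C₀, hC₀, huniq⟩ := (Nat.card_eq_two_iff' C₁).mp hχ
  obtain ⟨c, hcmem, hc0⟩ := C₀.2
  have hmk : ConjClasses.mk c = C₀.1 := ConjClasses.mem_carrier_iff_mk_eq.mp hcmem
  refine ⟨c, ?_, hc0, ?_⟩
  · rintro rfl
    exact hC₀ (Subtype.ext hmk.symm)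
  · intro g hg
    let Cg : {C : ConjClasses G // ∃ g ∈ C.carrier, (χ : G → ℂ) g ≠ 0} :=
      ⟨ConjClasses.mk g, g, ConjClasses.mem_carrier_mk, hg⟩
    by_cases h : Cg = C₁
    · left
      have h1 : ConjClasses.mk g = ConjClasses.mk 1 := congrArg Subtype.val h
      rw [ConjClasses.mk_eq_mk_iff_isConj] at h1
      exact isConj_one_right.mp h1.symm
    · right
      have h2 : Cg = C₀ := huniq Cg h
      have h3 : ConjClasses.mk g = ConjClasses.mk c := (congrArg Subtype.val h2).trans hmk.symm
      exact (ConjClasses.mk_eq_mk_iff_isConj.mp h3).symm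

/-- Summation of a function supported on `{1} ∪ c^G` and constant on `c^G`. -/
theorem sum_two_classes [Fintype G] (f : G → ℂ) (c : G) (hc : c ≠ 1)
    (hsupp : ∀ g : G, f g ≠ 0 → g = 1 ∨ IsConj c g) (hconst : ∀ g : G, IsConj c g → f g = f c) :
    ∑ g : G, f g = f 1 + ((Subgroup.centralizer ({c} : Set G)).index : ℂ) * f c := by
  classical
  have hsplit : ∑ g : G, f g = ∑ g ∈ insert 1 (Finset.univ.filter (fun g => IsConj c g)), f g := by
    symm
    refine Finset.sum_subset (Finset.subset_univ _) (fun g _ hg => ?_)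
    by_contra hne
    apply hg
    rcases hsupp g hne with h | h
    · rw [h]; exact Finset.mem_insert_self _ _
    · exact Finset.mem_insert_of_mem (Finset.mem_filter.mpr ⟨Finset.mem_univ _, h⟩)
  have hnot : (1 : G) ∉ Finset.univ.filter (fun g => IsConj c g) := by
    intro h
    rw [Finset.mem_filter] at h
    exact hc (isConj_one_left.mp h.2)
  rw [hsplit, Finset.sum_insert hnot]
  congr 1
  rw [Finset.sum_congr rfl (fun g hg => hconst g (Finset.mem_filter.mp hg).2), Finset.sum_const,
    nsmul_eq_mul, index_centralizer_eq_card_conj]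
  congr 2
  rw [Nat.card_eq_fintype_card, Fintype.card_subtype]

/-- An irreducible character nonzero on exactly two classes in a group of order `> 2` is
not the trivial character. -/
theorem two_classes_ne_trivial [Finite G] (hG : 2 < Nat.card G) (χ : IrrCharacter G) (c : G)
    (hc : c ≠ 1) (hsupp : ∀ g : G, (χ : G → ℂ) g ≠ 0 → g = 1 ∨ IsConj c g) :
    χ ≠ trivialIrr G := by
  classical
  have := Fintype.ofFinite G
  rintro rfl
  have hall : ∀ g : G, g = 1 ∨ IsConj c g := fun g => hsupp g (by simp)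
  have hsum := sum_two_classes (fun _ : G => (1 : ℂ)) c hc (fun g _ => hall g) (fun _ _ => rfl)
  simp only [Finset.sum_const, Finset.card_univ, nsmul_eq_mul, mul_one] at hsum
  rw [← Nat.card_eq_fintype_card] at hsum
  have hnat : Nat.card G = 1 + (Subgroup.centralizer ({c} : Set G)).index := by exact_mod_cast hsum
  have hmul := Subgroup.index_mul_card (Subgroup.centralizer ({c} : Set G))
  have h2 : 2 ≤ Nat.card (Subgroup.centralizer ({c} : Set G)) := by
    have hnt : Nontrivial (Subgroup.centralizer ({c} : Set G)) := by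
      refine ⟨⟨⟨c, ?_⟩, 1, ?_⟩⟩
      · rw [Subgroup.mem_centralizer_iff]
        intro x hx
        rw [Set.mem_singleton_iff.mp hx]
      · intro h
        exact hc (congrArg Subtype.val h)
    exact Finite.one_lt_card
  nlinarith

/-- The value of such a character on its second class. -/
theorem two_classes_value [Fintype G] (hG : 2 < Nat.card G) (χ : IrrCharacter G) (c : G)
    (hc : c ≠ 1) (hsupp : ∀ g : G, (χ : G → ℂ) g ≠ 0 → g = 1 ∨ IsConj c g) :
    (χ : G → ℂ) 1 + ((Subgroup.centralizer ({c} : Set G)).index : ℂ) * (χ : G → ℂ) c = 0 := by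
  have hne := two_classes_ne_trivial hG χ c hc hsupp
  have horth := irr_orthonormal χ (trivialIrr G)
  rw [if_neg hne, classInner] at horth
  have hcard : (Nat.card G : ℂ)⁻¹ ≠ 0 := by
    apply inv_ne_zero
    exact_mod_cast Nat.card_pos.ne'
  have h0 := (mul_eq_zero.mp horth).resolve_left hcard
  simp only [trivialIrr_apply, map_one, mul_one] at h0
  rw [sum_two_classes (χ : G → ℂ) c hc hsupp (fun g hg => (irr_eq_of_isConj χ hg).symm)] at h0
  exact h0

/-- Every other irreducible character has `c` in its kernel. -/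
theorem two_classes_other [Fintype G] (hG : 2 < Nat.card G) (χ : IrrCharacter G) (c : G)
    (hc : c ≠ 1) (hsupp : ∀ g : G, (χ : G → ℂ) g ≠ 0 → g = 1 ∨ IsConj c g)
    (ψ : IrrCharacter G) (hψ : ψ ≠ χ) : (ψ : G → ℂ) c = (ψ : G → ℂ) 1 := by
  have hval := two_classes_value hG χ c hc hsupp
  have horth := irr_orthonormal χ ψ
  rw [if_neg (Ne.symm hψ), classInner] at horth
  have hcard : (Nat.card G : ℂ)⁻¹ ≠ 0 := by
    apply inv_ne_zero
    exact_mod_cast Nat.card_pos.ne'
  have h0 := (mul_eq_zero.mp horth).resolve_left hcard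
  rw [sum_two_classes (fun g => (χ : G → ℂ) g * conj ((ψ : G → ℂ) g)) c hc
    (fun g hg => hsupp g (fun h => hg (by simp [h])))
    (fun g hg => by
      rw [← irr_eq_of_isConj χ hg, ← irr_eq_of_isConj ψ hg])] at h0
  -- h0 : χ 1 * conj (ψ 1) + m * (χ c * conj (ψ c)) = 0 ;  hval : χ 1 + m * χ c = 0
  have h1 : (χ : G → ℂ) 1 * (conj ((ψ : G → ℂ) 1) - conj ((ψ : G → ℂ) c)) = 0 := by
    have : ((Subgroup.centralizer ({c} : Set G)).index : ℂ) * (χ : G → ℂ) c = -(χ : G → ℂ) 1 := by
      linear_combination hval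
    linear_combination h0 - conj ((ψ : G → ℂ) c) * this
  have h2 := (mul_eq_zero.mp h1).resolve_left (irr_one_ne_zero χ)
  have h3 : conj ((ψ : G → ℂ) 1) = conj ((ψ : G → ℂ) c) := sub_eq_zero.mp h2
  exact ((starRingEnd ℂ).injective h3).symm

end Cfsg.Agent.Lib.H24
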