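import Cfsg.Agent.S4838
import Cfsg.Agent.Lib.H1.PCore

/-!
# Gagola characters, continued (helper24's library)

Setting: `χ ∈ Irr(G)` nonzero on exactly two classes, `N` its support (a normal `p`-subgroup).
* `gag_comm` : `N` is abelian.
* `gag_coset_conj` : for `x ∉ N`, `n ∈ N`, `x` is conjugate to `x * n` (Camina property).
* `gag_cent_isPGroup` : `C_G(x)` is a `p`-group for `1 ≠ x ∈ N`.
* `gag_centralizer_le` : if `N = O_p(G)` then `C_G(N) ≤ N`.
* `gag_numbers` : the numerical data, with `e` a power of `p`.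
-/

set_option autoImplicit false

namespace Cfsg.Agent.Lib.H24.GagolaB

open Cfsg Cfsg.Agent.Lib.H24 Cfsg.Agent.Lib.L0
open scoped ComplexConjugate

variable {G : Type*} [Group G]

theorem gag_conj [Finite G] (χ : IrrCharacter G)
    (hχ : Nat.card {C : ConjClasses G // ∃ g ∈ C.carrier, (χ : G → ℂ) g ≠ 0} = 2)
    (N : Subgroup G) (hN : ∀ g : G, g ∈ N ↔ (χ : G → ℂ) g ≠ 0)
    (x y : G) (hx : x ∈ N) (hx1 : x ≠ 1) (hy : y ∈ N) (hy1 : y ≠ 1) : IsConj x y := by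
  obtain ⟨c₀, hc₀1, hc₀0, hsupp⟩ := two_classes_data χ hχ
  have h1 : IsConj c₀ x := (hsupp x ((hN x).mp hx)).resolve_left hx1
  have h2 : IsConj c₀ y := (hsupp y ((hN y).mp hy)).resolve_left hy1
  exact h1.symm.trans h2

theorem gag_comm [Finite G] (χ : IrrCharacter G)
    (hχ : Nat.card {C : ConjClasses G // ∃ g ∈ C.carrier, (χ : G → ℂ) g ≠ 0} = 2)
    (p : ℕ) [Fact p.Prime] (N : Subgroup G) [hNn : N.Normal]
    (hN : ∀ g : G, g ∈ N ↔ (χ : G → ℂ) g ≠ 0) (hNp : IsPGroup p N) (hN1 : N ≠ ⊥) :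
    ∀ a b : N, a * b = b * a := by
  classical
  have hNnt : Nontrivial N := (Subgroup.nontrivial_iff_ne_bot N).mpr hN1
  have hcnt : Nontrivial (Subgroup.center N) := hNp.center_nontrivial
  obtain ⟨z, hz⟩ := exists_ne (1 : Subgroup.center N)
  have hz1 : (z.1 : G) ≠ 1 := by
    intro h
    apply hz
    apply Subtype.ext
    apply Subtype.ext
    exact h
  have hzc : ∀ b : N, b * z.1 = z.1 * b := fun b => Subgroup.mem_center_iff.mp z.2 b
  intro a b
  by_cases ha : a = 1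
  · rw [ha, one_mul, mul_one]
  · have ha' : (a : G) ≠ 1 := fun h => ha (Subtype.ext h)
    have h1 : IsConj (z.1 : G) (a : G) := gag_conj χ hχ N hN _ _ z.1.2 hz1 a.2 ha'
    obtain ⟨g, hg⟩ := isConj_iff.mp h1
    apply Subtype.ext
    show (a : G) * b = b * a
    have hb' : g⁻¹ * b * g ∈ N := by
      have := hNn.conj_mem b b.2 g⁻¹
      simpa using this
    have h2 : (g⁻¹ * b * g) * (z.1 : G) = (z.1 : G) * (g⁻¹ * b * g) :=
      congrArg Subtype.val (hzc ⟨g⁻¹ * b * g, hb'⟩)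
    rw [← hg]
    calc g * (z.1 : G) * g⁻¹ * b = g * ((z.1 : G) * (g⁻¹ * b * g)) * g⁻¹ := by group
      _ = g * ((g⁻¹ * b * g) * (z.1 : G)) * g⁻¹ := by rw [h2]
      _ = b * (g * (z.1 : G) * g⁻¹) := by group

/-- Camina property: outside `N`, a conjugacy class is a union of cosets of `N`. -/
theorem gag_coset_conj [Finite G] (hG : 2 < Nat.card G) (χ : IrrCharacter G)
    (hχ : Nat.card {C : ConjClasses G // ∃ g ∈ C.carrier, (χ : G → ℂ) g ≠ 0} = 2)
    (N : Subgroup G) [hNn : N.Normal] (hN : ∀ g : G, g ∈ N ↔ (χ : G → ℂ) g ≠ 0)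
    (x : G) (hx : x ∉ N) (n : G) (hn : n ∈ N) : IsConj x (x * n) := by
  classical
  have := Fintype.ofFinite G
  rw [isConj_iff_forall_irr_eq]
  intro ψ
  obtain ⟨c, hc1, hc0, hsupp⟩ := two_classes_data χ hχ
  have hcN : c ∈ N := (hN c).mpr hc0
  by_cases hψ : ψ = χ
  · rw [hψ]
    have h1 : (χ : G → ℂ) x = 0 := by
      by_contra h
      exact hx ((hN x).mpr h)
    have hxn : x * n ∉ N := by
      intro h
      apply hx
      have : x = x * n * n⁻¹ := by group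
      rw [this]
      exact N.mul_mem h (N.inv_mem hn)
    have h2 : (χ : G → ℂ) (x * n) = 0 := by
      by_contra h
      exact hxn ((hN _).mpr h)
    rw [h1, h2]
  · have hker : ∀ n ∈ N, (ψ : G → ℂ) n = (ψ : G → ℂ) 1 := by
      intro n hn
      by_cases hn1 : n = 1
      · rw [hn1]
      · have hcn : IsConj c n := (hsupp n ((hN n).mp hn)).resolve_left hn1
        rw [← irr_eq_of_isConj ψ hcn]
        exact two_classes_other hG χ c hc1 hsupp ψ hψ
    obtain ⟨ψ', hψ'⟩ := (inflEquiv N).surjective ⟨ψ, hker⟩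
    have h3 : ∀ g : G, (ψ : G → ℂ) g = (ψ' : G ⧸ N → ℂ) (g : G ⧸ N) := by
      intro g
      have : ((inflEquiv N ψ').1 : G → ℂ) g = (ψ' : G ⧸ N → ℂ) (g : G ⧸ N) := rfl
      rw [← this, hψ']
    rw [h3 x, h3 (x * n)]
    congr 1
    rw [QuotientGroup.mk_mul, (QuotientGroup.eq_one_iff n).mpr hn, mul_one]

theorem gag_cent_isPGroup [Finite G] (hG : 2 < Nat.card G) (χ : IrrCharacter G)
    (hχ : Nat.card {C : ConjClasses G // ∃ g ∈ C.carrier, (χ : G → ℂ) g ≠ 0} = 2)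
    (p : ℕ) [Fact p.Prime] (N : Subgroup G) [hNn : N.Normal]
    (hN : ∀ g : G, g ∈ N ↔ (χ : G → ℂ) g ≠ 0) (hNp : IsPGroup p N) (hN1 : N ≠ ⊥)
    (x : G) (hx : x ∈ N) (hx1 : x ≠ 1) : IsPGroup p (Subgroup.centralizer ({x} : Set G)) := by
  obtain ⟨P, hP⟩ := (Cfsg.Agent.S4837.result hG χ hχ p N hN hNp hN1).1 x hx hx1
  rw [hP]
  exact P.2

/-- A `p'`-element commuting with a nonidentity element of `N` is trivial. -/
theorem gag_eq_one_of_commute [Finite G] (hG : 2 < Nat.card G) (χ : IrrCharacter G)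
    (hχ : Nat.card {C : ConjClasses G // ∃ g ∈ C.carrier, (χ : G → ℂ) g ≠ 0} = 2)
    (p : ℕ) [Fact p.Prime] (N : Subgroup G) [hNn : N.Normal]
    (hN : ∀ g : G, g ∈ N ↔ (χ : G → ℂ) g ≠ 0) (hNp : IsPGroup p N) (hN1 : N ≠ ⊥)
    (x : G) (hx : x ∈ N) (hx1 : x ≠ 1) (y : G) (hy : (orderOf y).Coprime p)
    (hxy : y * x = x * y) : y = 1 := by
  have hP := gag_cent_isPGroup hG χ hχ p N hN hNp hN1 x hx hx1
  have hy' : y ∈ Subgroup.centralizer ({x} : Set G) := by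
    rw [Subgroup.mem_centralizer_singleton_iff]
    exact hxy
  obtain ⟨k, hk⟩ := hP ⟨y, hy'⟩
  have hk' : y ^ p ^ k = 1 := congrArg Subtype.val hk
  have hdvd : orderOf y ∣ p ^ k := orderOf_dvd_of_pow_eq_one hk'
  have hcop : (orderOf y).Coprime (p ^ k) := Nat.Coprime.pow_right k hy
  have h1 : orderOf y = 1 := hcop.eq_one_of_dvd hdvd
  exact orderOf_eq_one_iff.mp h1

theorem gag_centralizer_le [Finite G] (hG : 2 < Nat.card G) (χ : IrrCharacter G)
    (hχ : Nat.card {C : ConjClasses G // ∃ g ∈ C.carrier, (χ : G → ℂ) g ≠ 0} = 2)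
    (p : ℕ) [Fact p.Prime] (N : Subgroup G) [hNn : N.Normal]
    (hN : ∀ g : G, g ∈ N ↔ (χ : G → ℂ) g ≠ 0) (hNp : IsPGroup p N) (hN1 : N ≠ ⊥)
    (hcore : N = Cfsg.pCore p G) : Subgroup.centralizer (N : Set G) ≤ N := by
  obtain ⟨x₀, hx₀N, hx₀1⟩ : ∃ x₀ ∈ N, x₀ ≠ 1 := by
    by_contra h
    push Not at h
    apply hN1
    rw [Subgroup.eq_bot_iff_forall]
    exact h
  have hP := gag_cent_isPGroup hG χ hχ p N hN hNp hN1 x₀ hx₀N hx₀1
  have hle : Subgroup.centralizer (N : Set G) ≤ Subgroup.centralizer ({x₀} : Set G) :=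
    Subgroup.centralizer_le (by simpa using hx₀N)
  have hp2 : IsPGroup p (Subgroup.centralizer (N : Set G)) := hP.to_le hle
  have hnorm : (Subgroup.centralizer (N : Set G)).Normal := inferInstance
  conv_rhs => rw [hcore]
  exact Cfsg.Agent.Lib.H1.le_pCore hnorm hp2

/-- The numerical data of a Gagola character: `|N| = 1 + m`, `|G| = e² m |N|`, `e` a power of
`p`, `χ(1) = e m`, `χ(c) = -e` on `N ∖ 1`. -/
theorem gag_numbers [Fintype G] (hG : 2 < Nat.card G) (χ : IrrCharacter G)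
    (hχ : Nat.card {C : ConjClasses G // ∃ g ∈ C.carrier, (χ : G → ℂ) g ≠ 0} = 2)
    (p : ℕ) [Fact p.Prime] (N : Subgroup G) [hNn : N.Normal]
    (hN : ∀ g : G, g ∈ N ↔ (χ : G → ℂ) g ≠ 0) (hNp : IsPGroup p N) (hN1 : N ≠ ⊥) :
    ∃ (e m k : ℕ), 0 < m ∧ Nat.card N = 1 + m ∧ Nat.card G = e ^ 2 * m * Nat.card N ∧
      e = p ^ k ∧ (χ : G → ℂ) 1 = (e : ℂ) * m ∧
      ∀ x ∈ N, x ≠ 1 → (χ : G → ℂ) x = -(e : ℂ) := by
  classical
  have hp : p.Prime := Fact.out
  have hcomm := gag_comm χ hχ p N hN hNp hN1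
  obtain ⟨c, e, m, hcN, hc1, hconj, hmpos, hepos, hNcard, hdeg, hGcard, hidx⟩ :=
    Cfsg.Agent.S4837.gagola_data hG χ hχ N hN hcomm
  have hP := gag_cent_isPGroup hG χ hχ p N hN hNp hN1 c hcN hc1
  obtain ⟨j, hj⟩ := IsPGroup.iff_card.mp hP
  have hmul := Subgroup.index_mul_card (Subgroup.centralizer ({c} : Set G))
  rw [hidx, hj, hGcard] at hmul
  -- m * p^j = e^2 * m * |N|
  have h1 : p ^ j = e ^ 2 * Nat.card N := by
    have : m * p ^ j = m * (e ^ 2 * Nat.card N) := by rw [hmul]; ring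
    exact Nat.eq_of_mul_eq_mul_left hmpos this
  have hedvd : e ∣ p ^ j := by
    rw [h1]
    exact Dvd.intro _ (by ring : e * (e * Nat.card N) = e ^ 2 * Nat.card N)
  obtain ⟨k, _, hk⟩ := (Nat.dvd_prime_pow hp).mp hedvd
  obtain ⟨c', hc'1, hc'0, hsupp⟩ := two_classes_data χ hχ
  have hdeg' : (χ : G → ℂ) 1 = (e : ℂ) * m := by
    rw [← charDegree_irr χ, hdeg]
    push_cast
    ring
  have hval := two_classes_value hG χ c hc1 (by
    intro g hg
    by_cases hg1 : g = 1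
    · exact Or.inl hg1
    · exact Or.inr (hconj g ((hN g).mpr hg) hg1))
  rw [hidx, hdeg'] at hval
  have hmC : (m : ℂ) ≠ 0 := by exact_mod_cast hmpos.ne'
  have hcval : (χ : G → ℂ) c = -(e : ℂ) := by
    have : (m : ℂ) * ((e : ℂ) + (χ : G → ℂ) c) = 0 := by linear_combination hval
    have := (mul_eq_zero.mp this).resolve_left hmC
    linear_combination this
  refine ⟨e, m, k, hmpos, hNcard, hGcard, hk, hdeg', ?_⟩
  intro x hx hx1
  rw [← irr_eq_of_isConj χ (hconj x hx hx1)]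
  exact hcval

end Cfsg.Agent.Lib.H24.GagolaB
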