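import Cfsg.Agent.Lib.H24.GagolaB
import Cfsg.Agent.Lib.H24.CharFSInd

/-!
# Gagola characters: the case `p` odd with `C_G(N) ≤ N` (helper24's library)

`gag_odd_card` : for `p` odd, if `C_G(N) ≤ N` then `|G| = (|N| - 1) |N|`.
The proof computes the Frobenius–Schur indicator of `χ`: it equals `I / (e |N|)` with `I` the
number of involutions, and all involutions lie in one coset of `C_G(N)`.
-/

set_option autoImplicit false

namespace Cfsg.Agent.Lib.H24.GagolaC

open Cfsg Cfsg.Agent.Lib.H24 Cfsg.Agent.Lib.L0 Cfsg.Agent.Lib.H24.GagolaB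
open scoped ComplexConjugate

variable {G : Type*} [Group G]

/-- An involution outside `N` inverts `N` (for `p` odd). -/
theorem gag_invert [Finite G] (hG : 2 < Nat.card G) (χ : IrrCharacter G)
    (hχ : Nat.card {C : ConjClasses G // ∃ g ∈ C.carrier, (χ : G → ℂ) g ≠ 0} = 2)
    (p : ℕ) [Fact p.Prime] (hp2 : p ≠ 2) (N : Subgroup G) [hNn : N.Normal]
    (hN : ∀ g : G, g ∈ N ↔ (χ : G → ℂ) g ≠ 0) (hNp : IsPGroup p N) (hN1 : N ≠ ⊥)
    (s : G) (hs : s * s = 1) (hs1 : s ≠ 1) (n : G) (hn : n ∈ N) : s * n * s⁻¹ = n⁻¹ := by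
  have hp : p.Prime := Fact.out
  have hcomm := gag_comm χ hχ p N hN hNp hN1
  have hsn : s * n * s⁻¹ ∈ N := hNn.conj_mem n hn s
  have hsinv : s⁻¹ = s := inv_eq_of_mul_eq_one_left hs
  set u := n * (s * n * s⁻¹) with hu
  have huN : u ∈ N := N.mul_mem hn hsn
  have hc : n * (s * n * s⁻¹) = (s * n * s⁻¹) * n :=
    congrArg Subtype.val (hcomm ⟨n, hn⟩ ⟨s * n * s⁻¹, hsn⟩)
  have hsu : s * u = u * s := by
    rw [hu, hsinv]
    rw [hsinv] at hc
    calc s * (n * (s * n * s)) = s * ((s * n * s) * n) := by rw [hc]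
      _ = (s * s) * n * s * n := by group
      _ = n * s * n := by rw [hs, one_mul]
      _ = n * s * n * (s * s) := by rw [hs, mul_one]
      _ = n * (s * n * s) * s := by group
  by_contra hne
  have hu1 : u ≠ 1 := by
    intro h
    apply hne
    rw [hu] at h
    exact (eq_inv_of_mul_eq_one_right h)
  have hos : orderOf s = 2 := orderOf_eq_prime (by rw [pow_two]; exact hs) hs1
  have hcop : (orderOf s).Coprime p := by
    rw [hos]
    exact (Nat.coprime_primes Nat.prime_two hp).mpr (Ne.symm hp2)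
  exact hs1 (gag_eq_one_of_commute hG χ hχ p N hN hNp hN1 u huN hu1 s hcop hsu)


/-- For `p` odd, a nonidentity element of `N` is not an involution. -/
theorem gag_sq_ne_one [Finite G] (p : ℕ) [Fact p.Prime] (hp2 : p ≠ 2) (N : Subgroup G)
    (hNp : IsPGroup p N) (s : G) (hsN : s ∈ N) (hs1 : s ≠ 1) : s * s ≠ 1 := by
  have hp : p.Prime := Fact.out
  intro hs
  have hos : orderOf s = 2 := orderOf_eq_prime (by rw [pow_two]; exact hs) hs1
  obtain ⟨k, hk⟩ := hNp ⟨s, hsN⟩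
  have hk' : s ^ p ^ k = 1 := congrArg Subtype.val hk
  have hdvd : 2 ∣ p ^ k := by rw [← hos]; exact orderOf_dvd_of_pow_eq_one hk'
  have : 2 ∣ p := Nat.Prime.dvd_of_dvd_pow Nat.prime_two hdvd
  exact hp2 ((Nat.prime_dvd_prime_iff_eq Nat.prime_two hp).mp this).symm

/-- For `p` odd and `s ∉ N`: `s * s ∈ N` forces `s * s = 1`. -/
theorem gag_sq_outside [Finite G] (hG : 2 < Nat.card G) (χ : IrrCharacter G)
    (hχ : Nat.card {C : ConjClasses G // ∃ g ∈ C.carrier, (χ : G → ℂ) g ≠ 0} = 2)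
    (p : ℕ) [Fact p.Prime] (hp2 : p ≠ 2) (N : Subgroup G) [hNn : N.Normal]
    (hN : ∀ g : G, g ∈ N ↔ (χ : G → ℂ) g ≠ 0) (hNp : IsPGroup p N) (hN1 : N ≠ ⊥)
    (s : G) (hsN : s ∉ N) (hss : s * s ∈ N) : s * s = 1 := by
  have hp : p.Prime := Fact.out
  by_contra hne
  have hP := gag_cent_isPGroup hG χ hχ p N hN hNp hN1 (s * s) hss hne
  have hs' : s ∈ Subgroup.centralizer ({s * s} : Set G) := by
    rw [Subgroup.mem_centralizer_singleton_iff]
    group
  obtain ⟨k, hk⟩ := hP ⟨s, hs'⟩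
  have hk' : s ^ p ^ k = 1 := congrArg Subtype.val hk
  have hodd : Odd (p ^ k) := (hp.odd_of_ne_two hp2).pow
  obtain ⟨j, hj⟩ := hodd
  apply hsN
  have h1 : s = (s * s) ^ (j + 1) := by
    have h2 : (s * s) ^ (j + 1) = s ^ (2 * j + 1) * s := by
      rw [← pow_two, ← pow_mul, ← pow_succ]
      rfl
    rw [h2, ← hj, hk', one_mul]
  rw [h1]
  exact N.pow_mem hss _

/-- The sum `∑ χ(s²)` counts involutions, for `p` odd. -/
theorem gag_sum_sq [Fintype G] [DecidableEq G] (hG : 2 < Nat.card G) (χ : IrrCharacter G)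
    (hχ : Nat.card {C : ConjClasses G // ∃ g ∈ C.carrier, (χ : G → ℂ) g ≠ 0} = 2)
    (p : ℕ) [Fact p.Prime] (hp2 : p ≠ 2) (N : Subgroup G) [hNn : N.Normal] [DecidablePred (· ∈ N)]
    (hN : ∀ g : G, g ∈ N ↔ (χ : G → ℂ) g ≠ 0) (hNp : IsPGroup p N) (hN1 : N ≠ ⊥) :
    ∑ s : G, (χ : G → ℂ) (s * s)
      = ((Finset.univ.filter (fun s : G => s ∉ N ∧ s * s = 1)).card : ℂ) * (χ : G → ℂ) 1 := by
  obtain ⟨e, m, k, hmpos, hNcard, hGcard, hek, hdeg, hval⟩ :=
    gag_numbers hG χ hχ p N hN hNp hN1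
  rw [← Finset.sum_filter_add_sum_filter_not Finset.univ (fun s : G => s ∈ N)]
  have h1 : ∑ s ∈ Finset.univ.filter (fun s : G => s ∈ N), (χ : G → ℂ) (s * s) = 0 := by
    have hform : ∀ s ∈ Finset.univ.filter (fun s : G => s ∈ N),
        (χ : G → ℂ) (s * s) = (if s = 1 then ((e : ℂ) * m + e) else 0) - e := by
      intro s hs
      have hsN : s ∈ N := (Finset.mem_filter.mp hs).2
      by_cases hs1 : s = 1
      · rw [if_pos hs1, hs1, mul_one, hdeg]; ring
      · rw [if_neg hs1, hval (s * s) (N.mul_mem hsN hsN) (gag_sq_ne_one p hp2 N hNp s hsN hs1)]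
        ring
    rw [Finset.sum_congr rfl hform, Finset.sum_sub_distrib, Finset.sum_ite_eq']
    rw [if_pos (Finset.mem_filter.mpr ⟨Finset.mem_univ _, N.one_mem⟩)]
    rw [Finset.sum_const, nsmul_eq_mul]
    have hc : (Finset.univ.filter (fun s : G => s ∈ N)).card = Nat.card N := by
      rw [Nat.card_eq_fintype_card, Fintype.card_subtype]
    rw [hc, hNcard]
    push_cast
    ring
  have h2 : ∑ s ∈ Finset.univ.filter (fun s : G => ¬ s ∈ N), (χ : G → ℂ) (s * s)
      = ∑ s ∈ Finset.univ.filter (fun s : G => ¬ s ∈ N),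
          (if s * s = 1 then (χ : G → ℂ) 1 else 0) := by
    refine Finset.sum_congr rfl (fun s hs => ?_)
    have hsN : s ∉ N := (Finset.mem_filter.mp hs).2
    by_cases hss : s * s = 1
    · rw [if_pos hss, hss]
    · rw [if_neg hss]
      by_contra hne
      have : s * s ∈ N := (hN _).mpr hne
      exact hss (gag_sq_outside hG χ hχ p hp2 N hN hNp hN1 s hsN this)
  rw [h1, h2, zero_add, ← Finset.sum_filter, Finset.sum_const, nsmul_eq_mul, Finset.filter_filter]


/-- For `p` odd: if `C_G(N) ≤ N` then `|G| = (|N| - 1) |N|`. -/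
theorem gag_odd_card [Finite G] (hG : 2 < Nat.card G) (χ : IrrCharacter G)
    (hχ : Nat.card {C : ConjClasses G // ∃ g ∈ C.carrier, (χ : G → ℂ) g ≠ 0} = 2)
    (p : ℕ) [Fact p.Prime] (hp2 : p ≠ 2) (N : Subgroup G) [hNn : N.Normal]
    (hN : ∀ g : G, g ∈ N ↔ (χ : G → ℂ) g ≠ 0) (hNp : IsPGroup p N) (hN1 : N ≠ ⊥)
    (hcent : Subgroup.centralizer (N : Set G) ≤ N) :
    Nat.card G = (Nat.card N - 1) * Nat.card N := by
  classical
  have := Fintype.ofFinite G
  have hp : p.Prime := Fact.out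
  obtain ⟨e, m, k, hmpos, hNcard, hGcard, hek, hdeg, hval⟩ :=
    gag_numbers hG χ hχ p N hN hNp hN1
  have hepos : 0 < e := by rw [hek]; exact pow_pos hp.pos k
  set I := (Finset.univ.filter (fun s : G => s ∉ N ∧ s * s = 1)) with hI
  have hsum := gag_sum_sq hG χ hχ p hp2 N hN hNp hN1
  have hNpos : 0 < Nat.card N := Nat.card_pos
  have hfs : fsInd (χ : G → ℂ) * ((e : ℂ) * (Nat.card N : ℂ)) = (I.card : ℂ) := by
    rw [fsInd_def, hsum, hdeg, hGcard]
    have he0 : (e : ℂ) ≠ 0 := by exact_mod_cast hepos.ne'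
    have hm0 : (m : ℂ) ≠ 0 := by exact_mod_cast hmpos.ne'
    have hn0 : (Nat.card N : ℂ) ≠ 0 := by exact_mod_cast hNpos.ne'
    push_cast
    field_simp
    rfl
  -- an involution outside N
  obtain ⟨b, hb⟩ := IsPGroup.iff_card.mp hNp
  have hodd : Odd (Nat.card N) := by rw [hb]; exact (hp.odd_of_ne_two hp2).pow
  have hmeven : 2 ∣ m := by
    rw [hNcard] at hodd
    obtain ⟨j, hj⟩ := hodd
    exact ⟨j, by omega⟩
  have h2G : 2 ∣ Nat.card G := by
    rw [hGcard]
    exact Dvd.dvd.mul_right (Dvd.dvd.mul_left hmeven _) _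
  have : Fact (Nat.Prime 2) := ⟨Nat.prime_two⟩
  obtain ⟨s₀, hs₀⟩ := exists_prime_orderOf_dvd_card' 2 h2G
  have hs₀s : s₀ * s₀ = 1 := by rw [← pow_two, ← hs₀]; exact pow_orderOf_eq_one s₀
  have hs₀1 : s₀ ≠ 1 := by
    intro h
    rw [h, orderOf_one] at hs₀
    omega
  have hs₀N : s₀ ∉ N := fun h => gag_sq_ne_one p hp2 N hNp s₀ h hs₀1 hs₀s
  have hs₀I : s₀ ∈ I := Finset.mem_filter.mpr ⟨Finset.mem_univ _, hs₀N, hs₀s⟩
  have hIpos : 0 < I.card := Finset.card_pos.mpr ⟨s₀, hs₀I⟩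
  -- all involutions lie in the coset s₀ N
  have hIle : I.card ≤ Nat.card N := by
    have hc : (Finset.univ.filter (fun s : G => s ∈ N)).card = Nat.card N := by
      rw [Nat.card_eq_fintype_card, Fintype.card_subtype]
    rw [← hc]
    apply Finset.card_le_card_of_injOn (fun t => s₀⁻¹ * t)
    · intro t ht
      have ht' := (Finset.mem_filter.mp ht).2
      have ht1 : t ≠ 1 := fun h => ht'.1 (h ▸ N.one_mem)
      simp only [Finset.coe_filter, Finset.mem_univ, true_and, Set.mem_ofPred_eq]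
      apply hcent
      rw [Subgroup.mem_centralizer_iff]
      intro n hn
      have h1 := gag_invert hG χ hχ p hp2 N hN hNp hN1 t ht'.2 ht1 n hn
      have h2 := gag_invert hG χ hχ p hp2 N hN hNp hN1 s₀ hs₀s hs₀1 n hn
      have h3 : t * n = n⁻¹ * t := by
        have : t * n = (t * n * t⁻¹) * t := by group
        rw [this, h1]
      have h4 : n * s₀⁻¹ = s₀⁻¹ * n⁻¹ := by
        have : n * s₀⁻¹ = s₀⁻¹ * (s₀ * n * s₀⁻¹) := by group
        rw [this, h2]
      calc n * (s₀⁻¹ * t) = (n * s₀⁻¹) * t := by group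
        _ = s₀⁻¹ * n⁻¹ * t := by rw [h4]
        _ = s₀⁻¹ * (n⁻¹ * t) := by group
        _ = s₀⁻¹ * (t * n) := by rw [h3]
        _ = s₀⁻¹ * t * n := by group
    · intro a _ b _ hab
      exact mul_left_cancel hab
  -- the indicator is 1
  have hcases := fsInd_irr_cases χ
  have hI1 : I.card = e * Nat.card N := by
    rcases hcases with ⟨h0, _⟩ | ⟨h1 | h1, _⟩
    · rw [h0, zero_mul] at hfs
      have : I.card = 0 := by exact_mod_cast hfs.symm
      omega
    · rw [h1, one_mul] at hfs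
      exact_mod_cast hfs.symm
    · rw [h1] at hfs
      have h3 : ((I.card : ℕ) : ℂ) + ((e * Nat.card N : ℕ) : ℂ) = 0 := by
        push_cast
        rw [← hfs]
        ring
      have h4 : I.card + e * Nat.card N = 0 := by exact_mod_cast h3
      omega
  have he1 : e = 1 := by
    rw [hI1] at hIle
    have : e * Nat.card N ≤ 1 * Nat.card N := by omega
    have := Nat.le_of_mul_le_mul_right this hNpos
    omega
  rw [hGcard, he1, hNcard]
  simp

end Cfsg.Agent.Lib.H24.GagolaC
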