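import Cfsg.Agent.Lib.H24.GagolaB
import Cfsg.Agent.Lib.H20.TwoInvolutions

/-!
# Gagola characters: the case `p = 2` with `N = O_2(G)` (helper24's library)

`gag_two_card` : for `p = 2`, if `N = O_2(G)` then `|G| = (|N| - 1) |N|`.
All involutions of `G` lie in `N` (Camina property plus `C_G(N) = N`); hence in `G/N` no involution
inverts a nontrivial element of odd order, so by Baer–Suzuki the involutions of `G/N` generate a
normal `2`-subgroup, which is trivial as `O_2(G) = N`.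
-/

set_option autoImplicit false

namespace Cfsg.Agent.Lib.H24.GagolaD

open Cfsg Cfsg.Agent.Lib.H24 Cfsg.Agent.Lib.L0 Cfsg.Agent.Lib.H24.GagolaB
open scoped ComplexConjugate

variable {G : Type*} [Group G]

/-- Every element of `N` squares to one when `p = 2`. -/
theorem gag_sq_eq_one [Finite G] (χ : IrrCharacter G)
    (hχ : Nat.card {C : ConjClasses G // ∃ g ∈ C.carrier, (χ : G → ℂ) g ≠ 0} = 2)
    (N : Subgroup G) (hN : ∀ g : G, g ∈ N ↔ (χ : G → ℂ) g ≠ 0) (hNp : IsPGroup 2 N)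
    (hN1 : N ≠ ⊥) (n : G) (hn : n ∈ N) : n * n = 1 := by
  have : Fact (Nat.Prime 2) := ⟨Nat.prime_two⟩
  obtain ⟨b, hb⟩ := IsPGroup.iff_card.mp hNp
  have hb1 : b ≠ 0 := by
    rintro rfl
    rw [pow_zero] at hb
    exact hN1 ((Subgroup.eq_bot_iff_card N).mpr hb)
  have h2 : 2 ∣ Nat.card N := by rw [hb]; exact dvd_pow_self 2 hb1
  obtain ⟨z, hz⟩ := exists_prime_orderOf_dvd_card' 2 h2
  have hzz : z * z = 1 := by rw [← pow_two, ← hz]; exact pow_orderOf_eq_one z
  have hz1 : (z : G) ≠ 1 := by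
    intro h
    have : z = 1 := Subtype.ext h
    rw [this, orderOf_one] at hz
    omega
  have hzz' : (z : G) * z = 1 := congrArg Subtype.val hzz
  by_cases hn1 : n = 1
  · rw [hn1, mul_one]
  · obtain ⟨g, hg⟩ := isConj_iff.mp (gag_conj χ hχ N hN (z : G) n z.2 hz1 hn hn1)
    rw [← hg]
    calc g * (z : G) * g⁻¹ * (g * (z : G) * g⁻¹) = g * ((z : G) * z) * g⁻¹ := by group
      _ = 1 := by rw [hzz']; group

/-- For `p = 2` with `C_G(N) ≤ N`: every involution of `G` lies in `N`. -/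
theorem gag_involution_mem [Finite G] (hG : 2 < Nat.card G) (χ : IrrCharacter G)
    (hχ : Nat.card {C : ConjClasses G // ∃ g ∈ C.carrier, (χ : G → ℂ) g ≠ 0} = 2)
    (N : Subgroup G) [hNn : N.Normal] (hN : ∀ g : G, g ∈ N ↔ (χ : G → ℂ) g ≠ 0)
    (hNp : IsPGroup 2 N) (hN1 : N ≠ ⊥) (hcent : Subgroup.centralizer (N : Set G) ≤ N)
    (x : G) (hx : x * x = 1) : x ∈ N := by
  by_contra hxN
  apply hxN
  apply hcent
  rw [Subgroup.mem_centralizer_iff]
  intro n hn
  obtain ⟨g, hg⟩ := isConj_iff.mp (gag_coset_conj hG χ hχ N hN x hxN n hn)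
  have h1 : (x * n) * (x * n) = 1 := by
    rw [← hg]
    calc g * x * g⁻¹ * (g * x * g⁻¹) = g * (x * x) * g⁻¹ := by group
      _ = 1 := by rw [hx]; group
  have h2 : n * n = 1 := gag_sq_eq_one χ hχ N hN hNp hN1 n hn
  -- x n x n = 1, x x = 1, n n = 1  ⟹  n x = x n
  have h3 : n * x = x * n := by
    have e1 : n * x = (x * x) * (n * x) * (n * n) := by rw [hx, h2, one_mul, mul_one]
    have e2 : (x * x) * (n * x) * (n * n) = x * ((x * n) * (x * n)) * n := by group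
    rw [e1, e2, h1, mul_one]
  exact h3


/-- In `G ⧸ N` (for `p = 2`, `C_G(N) ≤ N`) no involution inverts a nontrivial element of odd
order. -/
theorem gag_no_inversion [Finite G] (hG : 2 < Nat.card G) (χ : IrrCharacter G)
    (hχ : Nat.card {C : ConjClasses G // ∃ g ∈ C.carrier, (χ : G → ℂ) g ≠ 0} = 2)
    (N : Subgroup G) [hNn : N.Normal] (hN : ∀ g : G, g ∈ N ↔ (χ : G → ℂ) g ≠ 0)
    (hNp : IsPGroup 2 N) (hN1 : N ≠ ⊥) (hcent : Subgroup.centralizer (N : Set G) ≤ N)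
    (s w : G ⧸ N) (hs : orderOf s = 2) (hw : Odd (orderOf w)) (hsw : s * w * s⁻¹ = w⁻¹) :
    w = 1 := by
  have : Fact (Nat.Prime 2) := ⟨Nat.prime_two⟩
  by_contra hw1
  obtain ⟨s₀, rfl⟩ := QuotientGroup.mk_surjective s
  obtain ⟨w₀, rfl⟩ := QuotientGroup.mk_surjective w
  set m' := orderOf (w₀ : G ⧸ N) with hm'
  have hm1 : 1 < m' := by
    have h0 : 0 < m' := orderOf_pos _
    have h1 : m' ≠ 1 := fun h => hw1 (orderOf_eq_one_iff.mp h)
    omega
  obtain ⟨b, hb⟩ := IsPGroup.iff_card.mp hNp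
  have hcop2 : Nat.Coprime 2 m' := Nat.coprime_two_left.mpr hw
  have hcop : Nat.Coprime (2 ^ b) m' := Nat.Coprime.pow_left b hcop2
  obtain ⟨c, _, hc⟩ := Nat.exists_mul_mod_eq_one_of_coprime hcop hm1
  set w := w₀ ^ (2 ^ b * c) with hwdef
  have hwbar : ((w : G) : G ⧸ N) = (w₀ : G ⧸ N) := by
    rw [hwdef, QuotientGroup.mk_pow, ← pow_mod_orderOf, ← hm', hc, pow_one]
  have hw₀N : w₀ ^ m' ∈ N := by
    rw [← QuotientGroup.eq_one_iff, QuotientGroup.mk_pow, hm']
    exact pow_orderOf_eq_one _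
  have hwm : w ^ m' = 1 := by
    have h1 : (w₀ ^ m') ^ (2 ^ b) = 1 := by
      have h2 : (⟨w₀ ^ m', hw₀N⟩ : N) ^ Nat.card N = 1 := pow_card_eq_one'
      rw [hb] at h2
      exact congrArg Subtype.val h2
    calc w ^ m' = ((w₀ ^ m') ^ (2 ^ b)) ^ c := by
          rw [hwdef, ← pow_mul, ← pow_mul, ← pow_mul]
          congr 1
          ring
      _ = 1 := by rw [h1, one_pow]
  have hwne : w ≠ 1 := by
    intro h
    apply hw1
    rw [← hwbar, h]
    rfl
  have hword : (orderOf w).Coprime 2 := by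
    have hdvd : orderOf w ∣ m' := orderOf_dvd_of_pow_eq_one hwm
    exact Nat.Coprime.coprime_dvd_left hdvd hcop2.symm
  -- C_N(w) = 1
  have hCN : ∀ n ∈ N, w * n = n * w → n = 1 := by
    intro n hn hcomm'
    by_contra hn1
    exact hwne (gag_eq_one_of_commute hG χ hχ 2 N hN hNp hN1 n hn hn1 w hword hcomm')
  set v := s₀ * w * s₀⁻¹ with hv
  have hn₁ : w * v ∈ N := by
    rw [← QuotientGroup.eq_one_iff, QuotientGroup.mk_mul, hv, QuotientGroup.mk_mul,
      QuotientGroup.mk_mul, QuotientGroup.mk_inv, hwbar, hsw]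
    group
  let φ : N → N := fun n =>
    ⟨w * (n : G)⁻¹ * w⁻¹ * n, N.mul_mem (hNn.conj_mem _ (N.inv_mem n.2) w) n.2⟩
  have hφinj : Function.Injective φ := by
    intro a b hab
    have h : w * (a : G)⁻¹ * w⁻¹ * a = w * (b : G)⁻¹ * w⁻¹ * b := congrArg Subtype.val hab
    have e1 : (a : G) * (b : G)⁻¹ = (w * (a : G)⁻¹ * w⁻¹)⁻¹ * (w * (a : G)⁻¹ * w⁻¹ * a) * (b : G)⁻¹ := by
      group
    rw [h] at e1
    have e2 : (w * (a : G)⁻¹ * w⁻¹)⁻¹ * (w * (b : G)⁻¹ * w⁻¹ * b) * (b : G)⁻¹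
        = w * ((a : G) * (b : G)⁻¹) * w⁻¹ := by group
    rw [e2] at e1
    have hd : w * ((a : G) * (b : G)⁻¹) = ((a : G) * (b : G)⁻¹) * w := by
      conv_rhs => rw [e1]
      group
    have h1 := hCN _ (N.mul_mem a.2 (N.inv_mem b.2)) hd
    exact Subtype.ext (mul_inv_eq_one.mp h1)
  obtain ⟨n, hn⟩ := Finite.surjective_of_injective hφinj ⟨w * v, hn₁⟩
  have hn' : w * (n : G)⁻¹ * w⁻¹ * n = w * v := congrArg Subtype.val hn
  set t := (n : G) * s₀ with ht
  have htw : t * w * t⁻¹ = w⁻¹ := by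
    have e1 : t * w * t⁻¹ = (n : G) * (w⁻¹ * (w * v)) * (n : G)⁻¹ := by
      rw [ht, hv]; group
    rw [e1, ← hn']
    group
  have htbar : ((t : G) : G ⧸ N) = (s₀ : G ⧸ N) := by
    rw [ht, QuotientGroup.mk_mul, (QuotientGroup.eq_one_iff (n : G)).mpr n.2, one_mul]
  have hss : ((s₀ : G) : G ⧸ N) * (s₀ : G ⧸ N) = 1 := by
    rw [← pow_two, ← hs]; exact pow_orderOf_eq_one _
  have htN : t ∉ N := by
    intro h
    have h1 : ((t : G) : G ⧸ N) = 1 := (QuotientGroup.eq_one_iff t).mpr h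
    rw [htbar] at h1
    rw [h1, orderOf_one] at hs
    omega
  have httN : t * t ∈ N := by
    rw [← QuotientGroup.eq_one_iff, QuotientGroup.mk_mul, htbar]
    exact hss
  have httw : w * (t * t) = (t * t) * w := by
    have h1 : t * w⁻¹ * t⁻¹ = w := by
      have : t * w⁻¹ * t⁻¹ = (t * w * t⁻¹)⁻¹ := by group
      rw [this, htw, inv_inv]
    have h2 : (t * t) * w = w * (t * t) := by
      calc (t * t) * w = t * (t * w * t⁻¹) * t := by group
        _ = t * w⁻¹ * t := by rw [htw]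
        _ = (t * w⁻¹ * t⁻¹) * (t * t) := by group
        _ = w * (t * t) := by rw [h1]
    exact h2.symm
  have htt : t * t = 1 := hCN _ httN httw
  exact htN (gag_involution_mem hG χ hχ N hN hNp hN1 hcent t htt)


/-- For `p = 2`: if `N = O_2(G)` then `|G| = (|N| - 1) |N|`. -/
theorem gag_two_card [Finite G] (hG : 2 < Nat.card G) (χ : IrrCharacter G)
    (hχ : Nat.card {C : ConjClasses G // ∃ g ∈ C.carrier, (χ : G → ℂ) g ≠ 0} = 2)
    (N : Subgroup G) [hNn : N.Normal] (hN : ∀ g : G, g ∈ N ↔ (χ : G → ℂ) g ≠ 0)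
    (hNp : IsPGroup 2 N) (hN1 : N ≠ ⊥) (hcore : N = Cfsg.pCore 2 G) :
    Nat.card G = (Nat.card N - 1) * Nat.card N := by
  classical
  have := Fintype.ofFinite G
  have : Fact (Nat.Prime 2) := ⟨Nat.prime_two⟩
  have hcent := gag_centralizer_le hG χ hχ 2 N hN hNp hN1 hcore
  set K : Set (G ⧸ N) := {s | orderOf s = 2} with hK
  have hKconj : ∀ g : G ⧸ N, ∀ x ∈ K, g * x * g⁻¹ ∈ K := by
    intro g x hx
    show orderOf (g * x * g⁻¹) = 2
    have hx' : orderOf x = 2 := hx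
    rw [← hx', ← MulAut.conj_apply]
    exact MulEquiv.orderOf_eq (MulAut.conj g) x
  have hinv := gag_no_inversion hG χ hχ N hN hNp hN1 hcent
  have hcl : IsPGroup 2 (Subgroup.closure K) :=
    Cfsg.Agent.Lib.H16.isPGroup_closure_of_pairwise K hKconj
      (fun x hx y hy => Cfsg.Agent.Lib.H20.two_involutions_of_no_inversion hinv x y hx hy)
  have hnorm : (Subgroup.closure K).Normal :=
    Cfsg.Agent.Lib.H16.closure_normal_of_conj_mem K hKconj
  set M := (Subgroup.closure K).comap (QuotientGroup.mk' N) with hM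
  have hM2 : IsPGroup 2 M :=
    hcl.comap_of_ker_isPGroup (QuotientGroup.mk' N) (by rw [QuotientGroup.ker_mk']; exact hNp)
  have hMn : M.Normal := hnorm.comap _
  have hMle : M ≤ N := by
    conv_rhs => rw [hcore]
    exact Cfsg.Agent.Lib.H1.le_pCore hMn hM2
  have hKempty : ∀ s : G ⧸ N, orderOf s ≠ 2 := by
    intro s hs
    obtain ⟨s₀, rfl⟩ := QuotientGroup.mk_surjective s
    have h0 : s₀ ∈ M := by
      rw [hM, Subgroup.mem_comap]
      exact Subgroup.subset_closure hs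
    have h1 : ((s₀ : G) : G ⧸ N) = 1 := (QuotientGroup.eq_one_iff s₀).mpr (hMle h0)
    rw [h1, orderOf_one] at hs
    omega
  have h2 : ¬ 2 ∣ Nat.card (G ⧸ N) := by
    intro h
    obtain ⟨x, hx⟩ := exists_prime_orderOf_dvd_card' 2 h
    exact hKempty x hx
  obtain ⟨e, m, k, hmpos, hNcard, hGcard, hek, hdeg, hval⟩ :=
    gag_numbers hG χ hχ 2 N hN hNp hN1
  have hQ : Nat.card (G ⧸ N) = e ^ 2 * m := by
    have h3 := Subgroup.card_eq_card_quotient_mul_card_subgroup N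
    rw [hGcard] at h3
    exact (Nat.eq_of_mul_eq_mul_right Nat.card_pos h3).symm
  have he1 : e = 1 := by
    rw [hek]
    by_contra hne
    have hk : k ≠ 0 := by
      rintro rfl
      simp at hne
    apply h2
    rw [hQ, hek]
    exact Dvd.dvd.mul_right (Dvd.dvd.pow (dvd_pow_self 2 hk) two_ne_zero) _
  rw [hGcard, he1, hNcard]
  simp

end Cfsg.Agent.Lib.H24.GagolaD
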