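import Cfsg.Agent.Lib.H24.GagolaC
import Cfsg.Agent.Lib.H24.GagolaD

/-!
# Gagola characters: `N = O_p(G)` iff doubly transitive Frobenius (helper24's library)
-/

set_option autoImplicit false

namespace Cfsg.Agent.Lib.H24.GagolaE

open Cfsg Cfsg.Agent.Lib.H24 Cfsg.Agent.Lib.L0 Cfsg.Agent.Lib.H24.GagolaB
open scoped ComplexConjugate Pointwise

variable {G : Type*} [Group G]

/-- If `N = O_p(G)` then `|G| = (|N| - 1) |N|`. -/
theorem gag_card_of_core [Finite G] (hG : 2 < Nat.card G) (χ : IrrCharacter G)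
    (hχ : Nat.card {C : ConjClasses G // ∃ g ∈ C.carrier, (χ : G → ℂ) g ≠ 0} = 2)
    (p : ℕ) [Fact p.Prime] (N : Subgroup G) [hNn : N.Normal]
    (hN : ∀ g : G, g ∈ N ↔ (χ : G → ℂ) g ≠ 0) (hNp : IsPGroup p N) (hN1 : N ≠ ⊥)
    (hcore : N = Cfsg.pCore p G) : Nat.card G = (Nat.card N - 1) * Nat.card N := by
  by_cases hp2 : p = 2
  · subst hp2
    exact Cfsg.Agent.Lib.H24.GagolaD.gag_two_card hG χ hχ N hN hNp hN1 hcore
  · exact Cfsg.Agent.Lib.H24.GagolaC.gag_odd_card hG χ hχ p hp2 N hN hNp hN1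
      (gag_centralizer_le hG χ hχ p N hN hNp hN1 hcore)

/-- From `|G| = (|N| - 1) |N|` to a Frobenius complement. -/
theorem gag_frobenius [Finite G] (hG : 2 < Nat.card G) (χ : IrrCharacter G)
    (hχ : Nat.card {C : ConjClasses G // ∃ g ∈ C.carrier, (χ : G → ℂ) g ≠ 0} = 2)
    (p : ℕ) [Fact p.Prime] (N : Subgroup G) [hNn : N.Normal]
    (hN : ∀ g : G, g ∈ N ↔ (χ : G → ℂ) g ≠ 0) (hNp : IsPGroup p N) (hN1 : N ≠ ⊥)
    (hcard : Nat.card G = (Nat.card N - 1) * Nat.card N) :
    ∃ H : Subgroup G, Cfsg.IsFrobeniusComplement H ∧ Cfsg.frobeniusKernel H = (N : Set G) ∧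
      Nat.card H + 1 = Nat.card N := by
  have hp : p.Prime := Fact.out
  obtain ⟨b, hb⟩ := IsPGroup.iff_card.mp hNp
  have hb1 : b ≠ 0 := by
    rintro rfl
    rw [pow_zero] at hb
    exact hN1 ((Subgroup.eq_bot_iff_card N).mpr hb)
  have hN2 : 2 ≤ Nat.card N := by
    rw [hb]
    calc 2 ≤ p := hp.two_le
      _ = p ^ 1 := (pow_one p).symm
      _ ≤ p ^ b := Nat.pow_le_pow_right hp.pos (Nat.pos_of_ne_zero hb1)
  have hidx : N.index = Nat.card N - 1 := by
    have h1 := Subgroup.index_mul_card N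
    rw [hcard] at h1
    exact Nat.eq_of_mul_eq_mul_right Nat.card_pos h1
  have hcopN : Nat.Coprime (Nat.card N) (Nat.card N - 1) := by
    have : Nat.card N = (Nat.card N - 1) + 1 := by omega
    conv_lhs => rw [this]
    exact (Nat.coprime_self_add_left.mpr (Nat.coprime_one_left _))
  obtain ⟨H, hH⟩ := Subgroup.exists_right_complement'_of_coprime (N := N) (by rw [hidx]; exact hcopN)
  have hHcard : Nat.card H = Nat.card N - 1 := by
    have h1 := hH.card_mul_card
    rw [hcard, mul_comm] at h1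
    exact Nat.eq_of_mul_eq_mul_right Nat.card_pos h1
  have hdisj : ∀ x : G, x ∈ N → x ∈ H → x = 1 := fun x hxN hxH =>
    Subgroup.disjoint_def.mp hH.disjoint hxN hxH
  have hbij : Function.Bijective (fun x : N × H => (x.1 : G) * (x.2 : G)) := hH
  -- orders of elements of H are prime to p
  have hHcop : ∀ x ∈ H, (orderOf x).Coprime p := by
    intro x hx
    have h1 : orderOf x ∣ Nat.card H := by
      have := orderOf_dvd_natCard (⟨x, hx⟩ : H)
      rwa [Subgroup.orderOf_mk] at this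
    rw [hHcard] at h1
    have h2 : Nat.Coprime (Nat.card N - 1) p := by
      apply Nat.Coprime.symm
      rw [hp.coprime_iff_not_dvd]
      intro hdvd
      have h3 : p ∣ Nat.card N := by rw [hb]; exact dvd_pow_self p hb1
      have h4 : p ∣ Nat.card N - (Nat.card N - 1) := Nat.dvd_sub h3 hdvd
      have h5 : Nat.card N - (Nat.card N - 1) = 1 := by omega
      rw [h5] at h4
      exact hp.one_lt.ne' (Nat.dvd_one.mp h4)
    exact Nat.Coprime.coprime_dvd_left h1 h2
  -- fixed-point-free action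
  have hfpf : ∀ x ∈ H, ∀ n ∈ N, n ≠ 1 → x * n = n * x → x = 1 := by
    intro x hx n hn hn1 hxn
    exact gag_eq_one_of_commute hG χ hχ p N hN hNp hN1 n hn hn1 x (hHcop x hx) hxn
  refine ⟨H, ⟨?_, ?_, ?_⟩, ?_, by omega⟩
  · -- H ≠ ⊥
    intro h
    have h1 : Nat.card H = 1 := by rw [h]; exact Subgroup.card_bot
    rw [hHcard] at h1
    have h2 : Nat.card N = 2 := by omega
    rw [h2] at hcard
    omega
  · -- H ≠ ⊤
    intro h
    have h1 : Nat.card H = Nat.card G := by rw [h]; exact Subgroup.card_top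
    rw [hHcard, hcard] at h1
    have h3 : 1 ≤ Nat.card N - 1 := by omega
    nlinarith
  · -- TI
    intro g hg
    rw [Subgroup.eq_bot_iff_forall]
    intro x hx
    obtain ⟨hxH, hxg⟩ := Subgroup.mem_inf.mp hx
    rw [Cfsg.Agent.Lib.H1.mem_conj_smul_iff] at hxg
    obtain ⟨⟨n, h⟩, hnh⟩ := hbij.2 g
    have hnh' : (n : G) * (h : G) = g := hnh
    have hn1 : (n : G) ≠ 1 := by
      intro h1
      apply hg
      rw [← hnh', h1, one_mul]
      exact h.2
    -- y = n⁻¹ x n ∈ H
    have hy : (n : G)⁻¹ * x * n ∈ H := by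
      have e1 : (n : G)⁻¹ * x * n = (h : G) * (g⁻¹ * x * g) * (h : G)⁻¹ := by
        rw [← hnh']; group
      rw [e1]
      exact H.mul_mem (H.mul_mem h.2 hxg) (H.inv_mem h.2)
    have hz : x⁻¹ * ((n : G)⁻¹ * x * n) = 1 := by
      apply hdisj
      · have e2 : x⁻¹ * ((n : G)⁻¹ * x * n) = (x⁻¹ * (n : G)⁻¹ * x⁻¹⁻¹) * n := by group
        rw [e2]
        exact N.mul_mem (hNn.conj_mem _ (N.inv_mem n.2) _) n.2
      · exact H.mul_mem (H.inv_mem hxH) hy
    have hcomm : x * n = n * x := by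
      have e3 : x * n = n * (x * (x⁻¹ * ((n : G)⁻¹ * x * n))) := by group
      rw [e3, hz, mul_one]
    exact hfpf x hxH n n.2 hn1 hcomm
  · -- kernel
    ext x
    constructor
    · rintro (rfl | hx)
      · exact N.one_mem
      · by_contra hxN
        obtain ⟨⟨n, h⟩, hnh⟩ := hbij.2 x
        have hnh' : (n : G) * (h : G) = x := hnh
        have hh1 : (h : G) ≠ 1 := by
          intro h1
          apply hxN
          rw [SetLike.mem_coe, ← hnh', h1, mul_one]
          exact n.2
        let φ : N → N := fun k =>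
          ⟨(k : G) * h * (k : G)⁻¹ * (h : G)⁻¹, by
            have e : (k : G) * h * (k : G)⁻¹ * (h : G)⁻¹ = k * ((h : G) * (k : G)⁻¹ * (h : G)⁻¹) := by
              group
            rw [e]
            exact N.mul_mem k.2 (hNn.conj_mem _ (N.inv_mem k.2) _)⟩
        have hφinj : Function.Injective φ := by
          intro a c hac
          have e0 : (a : G) * h * (a : G)⁻¹ * (h : G)⁻¹ = (c : G) * h * (c : G)⁻¹ * (h : G)⁻¹ :=
            congrArg Subtype.val hac
          have e1 : (a : G) * h * (a : G)⁻¹ = (c : G) * h * (c : G)⁻¹ := mul_right_cancel e0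
          have e2 : (h : G) * ((c : G)⁻¹ * a) = ((c : G)⁻¹ * a) * h := by
            have : (h : G) * ((c : G)⁻¹ * a) = (c : G)⁻¹ * ((c : G) * h * (c : G)⁻¹) * a := by group
            rw [this, ← e1]
            group
          by_contra hne
          have hne' : (c : G)⁻¹ * a ≠ 1 := by
            intro h1
            apply hne
            apply Subtype.ext
            have : (a : G) = c * ((c : G)⁻¹ * a) := by group
            rw [this, h1, mul_one]
          exact hh1 (hfpf h h.2 _ (N.mul_mem (N.inv_mem c.2) a.2) hne' e2)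
        obtain ⟨k, hk⟩ := Finite.surjective_of_injective hφinj n
        have hk' : (k : G) * h * (k : G)⁻¹ * (h : G)⁻¹ = n := congrArg Subtype.val hk
        apply hx k
        rw [Cfsg.Agent.Lib.H1.mem_conj_smul_iff]
        have e : (k : G)⁻¹ * x * k = h := by
          rw [← hnh', ← hk']; group
        rw [e]
        exact h.2
    · intro hxN
      by_cases hx1 : x = 1
      · exact Or.inl hx1
      · right
        intro g hg
        rw [Cfsg.Agent.Lib.H1.mem_conj_smul_iff] at hg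
        have h1 : g⁻¹ * x * g ∈ N := by
          have := hNn.conj_mem x hxN g⁻¹
          simpa using this
        have h2 := hdisj _ h1 hg
        apply hx1
        have : x = g * (g⁻¹ * x * g) * g⁻¹ := by group
        rw [this, h2]; group

/-- The converse: a doubly transitive Frobenius structure forces `N = O_p(G)`. -/
theorem gag_core_of_frobenius [Finite G] (p : ℕ) [Fact p.Prime] (N : Subgroup G) [hNn : N.Normal]
    (hNp : IsPGroup p N) (hN1 : N ≠ ⊥) (H : Subgroup G)
    (hker : Cfsg.frobeniusKernel H = (N : Set G)) (hcard : Nat.card H + 1 = Nat.card N) :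
    N = Cfsg.pCore p G := by
  have hp : p.Prime := Fact.out
  apply le_antisymm (Cfsg.Agent.Lib.H1.le_pCore hNn hNp)
  intro x hx
  by_contra hxN
  have hxk : x ∉ Cfsg.frobeniusKernel H := by rw [hker]; exact hxN
  have hxk' : ¬ (x = 1 ∨ ∀ g : G, x ∉ MulAut.conj g • H) := hxk
  push Not at hxk'
  obtain ⟨hx1, g, hg⟩ := hxk'
  rw [Cfsg.Agent.Lib.H1.mem_conj_smul_iff] at hg
  obtain ⟨b, hb⟩ := IsPGroup.iff_card.mp hNp
  have hb1 : b ≠ 0 := by
    rintro rfl
    rw [pow_zero] at hb
    exact hN1 ((Subgroup.eq_bot_iff_card N).mpr hb)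
  -- order of x is a nontrivial power of p
  obtain ⟨k, hk⟩ := (Cfsg.Agent.Lib.H1.pCore_isPGroup p G) ⟨x, hx⟩
  have hk' : x ^ p ^ k = 1 := congrArg Subtype.val hk
  obtain ⟨j, _, hj⟩ := (Nat.dvd_prime_pow hp).mp (orderOf_dvd_of_pow_eq_one hk')
  have hj0 : j ≠ 0 := by
    rintro rfl
    rw [pow_zero] at hj
    exact hx1 (orderOf_eq_one_iff.mp hj)
  have hpo : p ∣ orderOf x := by rw [hj]; exact dvd_pow_self p hj0
  have hord : orderOf (g⁻¹ * x * g) = orderOf x := by
    have : g⁻¹ * x * g = MulAut.conj g⁻¹ x := by simp [MulAut.conj_apply]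
    rw [this]
    exact MulEquiv.orderOf_eq _ x
  have h1 : orderOf (g⁻¹ * x * g) ∣ Nat.card H := by
    have := orderOf_dvd_natCard (⟨g⁻¹ * x * g, hg⟩ : H)
    rwa [Subgroup.orderOf_mk] at this
  rw [hord] at h1
  have h2 : p ∣ Nat.card H := hpo.trans h1
  have h3 : p ∣ Nat.card N := by rw [hb]; exact dvd_pow_self p hb1
  rw [← hcard] at h3
  have h4 : p ∣ 1 := (Nat.dvd_add_right h2).mp h3
  exact hp.one_lt.ne' (Nat.dvd_one.mp h4)

end Cfsg.Agent.Lib.H24.GagolaE
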