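import Cfsg.Agent.Lib.H24.GlaubPCyc
import Cfsg.Agent.Lib.H23.CliffordCorr

/-!
# Characters of subgroups of an ambient group: restriction, conjugation, invariance (helper24)

For subgroups of a fixed finite group `Γ`:
* `res h χ`: restriction of `χ : G → ℂ` to `C ≤ G`;
* `resMult h χ ξ : ℕ`: the multiplicity `[χ_C, ξ]`;
* `InvUnder G x χ`: `χ` is invariant under conjugation by `x` (in the form used by the statements);
* `conjN G x hx : G ≃* G`: conjugation by a normalizing element; `conjIrr`.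
-/

set_option autoImplicit false

universe u

namespace Cfsg.Agent.Lib.H24.Glaub

open Cfsg Cfsg.Agent.Lib.L0 Cfsg.Agent.Lib.H23 Cfsg.Agent.Lib.H8 Cfsg.Agent.Lib.H24
open scoped ComplexConjugate

variable {Γ : Type u} [Group Γ]

/-- Restriction to a smaller subgroup. -/
def res {G C : Subgroup Γ} (h : C ≤ G) (χ : G → ℂ) : C → ℂ := fun c => χ ⟨c, h c.2⟩

theorem res_apply {G C : Subgroup Γ} (h : C ≤ G) (χ : G → ℂ) (c : C) :
    res h χ c = χ ⟨c, h c.2⟩ := rfl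

theorem res_eq_comp {G C : Subgroup Γ} (h : C ≤ G) (χ : G → ℂ) :
    res h χ = χ ∘ (Subgroup.inclusion h) := rfl

theorem isCharacter_res {G C : Subgroup Γ} (h : C ≤ G) {χ : G → ℂ} (hχ : IsCharacter G χ) :
    IsCharacter C (res h χ) := by
  rw [res_eq_comp]
  exact isCharacter_comp _ hχ

theorem res_res {G B C : Subgroup Γ} (hBG : B ≤ G) (hCB : C ≤ B) (χ : G → ℂ) :
    res hCB (res hBG χ) = res (hCB.trans hBG) χ := rfl

/-- The multiplicity `[χ_C, ξ]` as a natural number. -/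
noncomputable def resMult {G C : Subgroup Γ} [Fintype C] (h : C ≤ G) (χ : G → ℂ) (ξ : C → ℂ) : ℕ :=
  ⌊(classInner (res h χ) ξ).re⌋₊

theorem resMult_spec {G C : Subgroup Γ} [Fintype C] (h : C ≤ G) {χ : G → ℂ}
    (hχ : IsCharacter G χ) {ξ : C → ℂ} (hξ : IsIrrCharacter C ξ) :
    (resMult h χ ξ : ℂ) = classInner (res h χ) ξ := by
  obtain ⟨m, hm⟩ := classInner_char_irr_nat (isCharacter_res h hχ) hξ
  unfold resMult
  rw [hm]
  simp

/-- `χ` is invariant under conjugation by `x`. -/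
def InvUnder (G : Subgroup Γ) (x : Γ) (χ : G → ℂ) : Prop :=
  ∀ g g' : G, (g' : Γ) = x * g * x⁻¹ → χ g' = χ g

/-- Conjugation by a normalizing element as an automorphism. -/
def conjN (G : Subgroup Γ) (x : Γ) (hx : ∀ g ∈ G, x * g * x⁻¹ ∈ G)
    (hx' : ∀ g ∈ G, x⁻¹ * g * x ∈ G) : G ≃* G where
  toFun g := ⟨x * g * x⁻¹, hx g g.2⟩
  invFun g := ⟨x⁻¹ * g * x, hx' g g.2⟩
  left_inv g := by
    apply Subtype.ext
    show x⁻¹ * (x * (g : Γ) * x⁻¹) * x = g
    group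
  right_inv g := by
    apply Subtype.ext
    show x * (x⁻¹ * (g : Γ) * x) * x⁻¹ = g
    group
  map_mul' g h := by
    apply Subtype.ext
    show x * ((g : Γ) * (h : Γ)) * x⁻¹ = x * g * x⁻¹ * (x * h * x⁻¹)
    group

theorem conjN_apply (G : Subgroup Γ) (x : Γ) (hx : ∀ g ∈ G, x * g * x⁻¹ ∈ G)
    (hx' : ∀ g ∈ G, x⁻¹ * g * x ∈ G) (g : G) :
    ((conjN G x hx hx' g : G) : Γ) = x * g * x⁻¹ := rfl

theorem inv_norm_of_norm [Finite Γ] {G : Subgroup Γ} {x : Γ} (hx : ∀ g ∈ G, x * g * x⁻¹ ∈ G) :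
    ∀ g ∈ G, x⁻¹ * g * x ∈ G := by
  have h1 : x ∈ Subgroup.normalizer (G : Set Γ) := by
    have h2 : G.map (MulAut.conj x).toMonoidHom ≤ G := by
      rintro y ⟨g, hg, rfl⟩
      exact hx g hg
    have h3 : G.map (MulAut.conj x).toMonoidHom = G := by
      apply Subgroup.eq_of_le_of_card_ge h2
      rw [Subgroup.card_map_of_injective (MulAut.conj x).injective]
    rw [Subgroup.mem_normalizer_iff]
    intro g
    constructor
    · exact hx g
    · intro hg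
      rw [← h3] at hg
      obtain ⟨g', hg', h4⟩ := hg
      have h5 : x * g' * x⁻¹ = x * g * x⁻¹ := h4
      have h6 : g' = g := by
        have := mul_left_cancel (mul_right_cancel h5)
        exact this
      rw [← h6]
      exact hg'
  intro g hg
  have h7 := (Subgroup.mem_normalizer_iff.mp (Subgroup.inv_mem _ h1) g).mp hg
  rwa [inv_inv] at h7

theorem invUnder_iff_comp (G : Subgroup Γ) (x : Γ) (hx : ∀ g ∈ G, x * g * x⁻¹ ∈ G)
    (hx' : ∀ g ∈ G, x⁻¹ * g * x ∈ G) (χ : G → ℂ) :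
    InvUnder G x χ ↔ χ ∘ (conjN G x hx hx') = χ := by
  constructor
  · intro h
    funext g
    exact h g _ rfl
  · intro h g g' hgg'
    have h1 : g' = conjN G x hx hx' g := Subtype.ext hgg'
    rw [h1]
    exact congrFun h g

theorem invUnder_of_mem {G : Subgroup Γ} {x : Γ} (hx : x ∈ G) {χ : G → ℂ}
    (hχ : IsClassFunction G χ) : InvUnder G x χ := by
  intro g g' hgg'
  have h1 : g' = ⟨x, hx⟩ * g * ⟨x, hx⟩⁻¹ := Subtype.ext hgg'
  rw [h1]
  exact hχ g ⟨x, hx⟩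

theorem InvUnder.mul {G : Subgroup Γ} {x y : Γ} {χ : G → ℂ} (hx : InvUnder G x χ)
    (hy : InvUnder G y χ) (hyn : ∀ g ∈ G, y * g * y⁻¹ ∈ G) : InvUnder G (x * y) χ := by
  intro g g' hgg'
  have h1 : (g' : Γ) = x * ((⟨y * g * y⁻¹, hyn g g.2⟩ : G) : Γ) * x⁻¹ := by
    rw [hgg']
    show x * y * (g : Γ) * (x * y)⁻¹ = x * (y * g * y⁻¹) * x⁻¹
    group
  rw [hx _ g' h1]
  exact hy g _ rfl

theorem InvUnder.inv {G : Subgroup Γ} {x : Γ} {χ : G → ℂ} (hx : InvUnder G x χ) :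
    InvUnder G x⁻¹ χ := by
  intro g g' hgg'
  have h1 : (g : Γ) = x * (g' : Γ) * x⁻¹ := by
    rw [hgg']; group
  exact (hx g' g h1).symm

theorem invUnder_one {G : Subgroup Γ} {χ : G → ℂ} : InvUnder G 1 χ := by
  intro g g' hgg'
  have : g' = g := Subtype.ext (by rw [hgg']; group)
  rw [this]

/-- The elements of the normalizer of `G` fixing `χ` form a subgroup. -/
def invStab (G : Subgroup Γ) (χ : G → ℂ) : Subgroup Γ where
  carrier := {x | x ∈ Subgroup.normalizer (G : Set Γ) ∧ InvUnder G x χ}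
  mul_mem' := by
    rintro x y ⟨hx1, hx2⟩ ⟨hy1, hy2⟩
    refine ⟨Subgroup.mul_mem _ hx1 hy1, hx2.mul hy2 ?_⟩
    intro g hg
    exact (Subgroup.mem_normalizer_iff.mp hy1 g).mp hg
  one_mem' := ⟨Subgroup.one_mem _, invUnder_one⟩
  inv_mem' := by
    rintro x ⟨hx1, hx2⟩
    exact ⟨Subgroup.inv_mem _ hx1, hx2.inv⟩

theorem mem_invStab {G : Subgroup Γ} {χ : G → ℂ} {x : Γ} :
    x ∈ invStab G χ ↔ x ∈ Subgroup.normalizer (G : Set Γ) ∧ InvUnder G x χ := Iff.rfl

end Cfsg.Agent.Lib.H24.Glaub
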