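import Cfsg.Agent.Lib.H24.GlaubAmb1

/-!
# The Glauberman correspondence for a `p`-element, ambient form (helper24)

`B ≤ Γ` normalised by a `p`-element `s`, `p ∤ |B|`, `C = C_B(s)`: `pcyc_ambient` gives the
correspondence `Irr_s(B) → Irr(C)` in the form `GCorr p hCB (InvUnder B s)`.
-/

set_option autoImplicit false

universe u

namespace Cfsg.Agent.Lib.H24.Glaub

open Cfsg Cfsg.Agent.Lib.L0 Cfsg.Agent.Lib.H23 Cfsg.Agent.Lib.H8 Cfsg.Agent.Lib.H24
open scoped ComplexConjugate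

variable {Γ : Type u} [Group Γ]

/-- A correspondence `χ ↦ β` between the irreducible characters of `G` satisfying `Inv` and the
irreducible characters of `C ≤ G`, characterised by multiplicities modulo `p`. -/
structure GCorr (p : ℕ) {G C : Subgroup Γ} [Fintype C] (hCG : C ≤ G)
    (Inv : (G → ℂ) → Prop) : Prop where
  exists_corr : ∀ χ : IrrCharacter G, Inv (χ : G → ℂ) →
    ∃ (β : IrrCharacter C) (ε : ℤ), (ε = 1 ∨ ε = -1) ∧ ∀ ξ : IrrCharacter C,
      (p : ℤ) ∣ (resMult hCG (χ : G → ℂ) (ξ : C → ℂ) : ℤ) - ε * (if ξ = β then 1 else 0)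
  inj : ∀ χ χ' : IrrCharacter G, Inv (χ : G → ℂ) → Inv (χ' : G → ℂ) → ∀ β : IrrCharacter C,
    ¬ p ∣ resMult hCG (χ : G → ℂ) (β : C → ℂ) → ¬ p ∣ resMult hCG (χ' : G → ℂ) (β : C → ℂ) →
    χ = χ'
  surj : ∀ β : IrrCharacter C, ∃ χ : IrrCharacter G, Inv (χ : G → ℂ) ∧
    ¬ p ∣ resMult hCG (χ : G → ℂ) (β : C → ℂ)

section Transport

variable (B : Subgroup Γ) (s : Γ)

/-- The subgroup `B⟨s⟩`. -/
def LL : Subgroup Γ := B ⊔ Subgroup.zpowers s

theorem le_LL : B ≤ LL B s := le_sup_left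

theorem mem_LL : s ∈ LL B s := le_sup_right (a := B) (Subgroup.mem_zpowers s)

/-- `B` as a subgroup of `B⟨s⟩`. -/
def NN : Subgroup (LL B s) := B.subgroupOf (LL B s)

/-- `s` as an element of `B⟨s⟩`. -/
def ss : LL B s := ⟨s, mem_LL B s⟩

/-- `B` inside `B⟨s⟩` is isomorphic to `B`. -/
def eB : NN B s ≃* B := Subgroup.subgroupOfEquivOfLe (le_LL B s)

theorem eB_coe (x : NN B s) : ((eB B s x : B) : Γ) = ((x : LL B s) : Γ) := rfl

theorem mem_NN {x : LL B s} : x ∈ NN B s ↔ (x : Γ) ∈ B := Subgroup.mem_subgroupOf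

theorem orderOf_ss : orderOf (ss B s) = orderOf s := by
  unfold ss
  rw [Subgroup.orderOf_mk]

theorem card_NN : Nat.card (NN B s) = Nat.card B := Nat.card_congr (eB B s).toEquiv

theorem mem_fixedSub_NN {x : LL B s} :
    x ∈ fixedSub (NN B s) (ss B s) ↔ (x : Γ) ∈ fixedSub B s := by
  rw [mem_fixedSub, mem_fixedSub, mem_NN]
  refine and_congr Iff.rfl ?_
  constructor
  · intro h
    exact congrArg (Subtype.val : LL B s → Γ) h
  · intro h
    exact Subtype.ext h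

theorem coe_mem_fixedSub_of_eq {C : Subgroup Γ} (hC : C = fixedSub B s) (c : C) :
    (c : Γ) ∈ fixedSub B s := by
  have h : ∀ x : Γ, x ∈ C → x ∈ fixedSub B s := by
    intro x hx
    rw [← hC]
    exact hx
  exact h c c.2

theorem coe_mem_of_eq {C : Subgroup Γ} (hC : C = fixedSub B s) {x : Γ} (hx : x ∈ fixedSub B s) :
    x ∈ C := by
  rw [hC]
  exact hx

/-- `C_B(s)` computed inside `B⟨s⟩` is isomorphic to `C_B(s)`. -/
def eC {C : Subgroup Γ} (hC : C = fixedSub B s) : fixedSub (NN B s) (ss B s) ≃* C where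
  toFun x := ⟨((x : LL B s) : Γ), coe_mem_of_eq B s hC ((mem_fixedSub_NN B s).mp x.2)⟩
  invFun c := ⟨⟨(c : Γ), le_LL B s (fixedSub_le B s (coe_mem_fixedSub_of_eq B s hC c))⟩,
    (mem_fixedSub_NN B s).mpr (coe_mem_fixedSub_of_eq B s hC c)⟩
  left_inv _ := rfl
  right_inv _ := rfl
  map_mul' _ _ := rfl

theorem eC_coe {C : Subgroup Γ} (hC : C = fixedSub B s) (x : fixedSub (NN B s) (ss B s)) :
    ((eC B s hC x : C) : Γ) = ((x : LL B s) : Γ) := rfl

variable {B s}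

theorem normal_NN (hs : ∀ b ∈ B, s * b * s⁻¹ ∈ B) [Finite Γ] : (NN B s).Normal := by
  unfold NN
  rw [Subgroup.normal_subgroupOf_iff_le_normalizer (le_LL B s)]
  unfold LL
  apply sup_le Subgroup.le_normalizer
  rw [Subgroup.zpowers_le]
  rw [Subgroup.mem_normalizer_iff]
  intro b
  constructor
  · exact hs b
  · intro hb
    have h1 := inv_norm_of_norm hs _ hb
    have h2 : s⁻¹ * (s * b * s⁻¹) * s = b := by group
    rwa [h2] at h1

theorem cycSetup_NN [Finite Γ] (hs : ∀ b ∈ B, s * b * s⁻¹ ∈ B)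
    (hcop : (Nat.card B).Coprime (orderOf s)) : CycSetup (NN B s) (ss B s) := by
  refine ⟨fun x => ?_, by rw [card_NN, orderOf_ss]; exact hcop⟩
  have hx : (x : Γ) ∈ ((B ⊔ Subgroup.zpowers s : Subgroup Γ) : Set Γ) := x.2
  have hnorm : Subgroup.zpowers s ≤ Subgroup.normalizer (B : Set Γ) := by
    rw [Subgroup.zpowers_le, Subgroup.mem_normalizer_iff]
    intro b
    constructor
    · exact hs b
    · intro hb
      have h1 := inv_norm_of_norm hs _ hb
      have h2 : s⁻¹ * (s * b * s⁻¹) * s = b := by group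
      rwa [h2] at h1
  rw [Subgroup.coe_mul_of_right_le_normalizer_left B _ hnorm] at hx
  obtain ⟨n, hn, t, ht, hnt⟩ := Set.mem_mul.mp hx
  have ht' : t ∈ Subgroup.zpowers s := ht
  rw [← mem_powers_iff_mem_zpowers, Submonoid.mem_powers_iff] at ht'
  obtain ⟨k, rfl⟩ := ht'
  refine ⟨⟨n, le_LL B s hn⟩, (mem_NN B s).mpr hn, k, ?_⟩
  apply Subtype.ext
  rw [Subgroup.coe_mul, Subgroup.coe_pow]
  exact hnt.symm

end Transport

end Cfsg.Agent.Lib.H24.Glaub
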