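import Cfsg.Agent.Lib.H24.GlaubAmb2

/-!
# The Glauberman correspondence for a `p`-element, ambient form: main theorem (helper24)
-/

set_option autoImplicit false

universe u

namespace Cfsg.Agent.Lib.H24.Glaub

open Cfsg Cfsg.Agent.Lib.L0 Cfsg.Agent.Lib.H23 Cfsg.Agent.Lib.H8 Cfsg.Agent.Lib.H24
open scoped ComplexConjugate

variable {Γ : Type u} [Group Γ]

theorem not_dvd_of_dvd_sub_sign {p : ℕ} (hp : p.Prime) {m : ℕ} {ε : ℤ} (hε : ε = 1 ∨ ε = -1)
    (h : (p : ℤ) ∣ (m : ℤ) - ε * 1) : ¬ p ∣ m := by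
  intro hm
  have h1 : (p : ℤ) ∣ (m : ℤ) := Int.natCast_dvd_natCast.mpr hm
  have h2 : (p : ℤ) ∣ ε := by
    have := dvd_sub h1 h
    rwa [mul_one, sub_sub_cancel] at this
  have h3 : (p : ℤ) ∣ 1 := by
    rcases hε with rfl | rfl
    · exact h2
    · exact (dvd_neg.mp h2)
  have h4 : p ∣ 1 := by exact_mod_cast h3
  exact hp.one_lt.ne' (Nat.dvd_one.mp h4)

theorem dvd_of_dvd_sub_zero {p : ℕ} {m : ℕ} {ε : ℤ} (h : (p : ℤ) ∣ (m : ℤ) - ε * 0) : p ∣ m := by
  rw [mul_zero, sub_zero] at h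
  exact_mod_cast h

section

variable [Fintype Γ] {p : ℕ} {B C : Subgroup Γ} [Fintype C] {s : Γ}

/-- Pull back an irreducible character of `C` to `C_B(s)` computed inside `B⟨s⟩`. -/
def pullIrr (hC : C = fixedSub B s) (ξ : IrrCharacter C) :
    IrrCharacter (fixedSub (NN B s) (ss B s)) :=
  ⟨(ξ : C → ℂ) ∘ (eC B s hC), isIrrCharacter_comp_of_surjective (eC B s hC).toMonoidHom
    (eC B s hC).surjective ξ.2⟩

def pushIrr (hC : C = fixedSub B s) (β₀ : IrrCharacter (fixedSub (NN B s) (ss B s))) :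
    IrrCharacter C :=
  ⟨(β₀ : fixedSub (NN B s) (ss B s) → ℂ) ∘ (eC B s hC).symm,
    isIrrCharacter_comp_of_surjective (eC B s hC).symm.toMonoidHom
    (eC B s hC).symm.surjective β₀.2⟩

omit [Fintype Γ] [Fintype C] in
theorem pull_eq_iff (hC : C = fixedSub B s) (ξ : IrrCharacter C)
    (β₀ : IrrCharacter (fixedSub (NN B s) (ss B s))) :
    pullIrr hC ξ = β₀ ↔ ξ = pushIrr hC β₀ := by
  constructor
  · intro h
    apply Subtype.ext
    funext c
    rw [← h]
    show (ξ : C → ℂ) c = (ξ : C → ℂ) ((eC B s hC) ((eC B s hC).symm c))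
    rw [MulEquiv.apply_symm_apply]
  · intro h
    apply Subtype.ext
    funext c
    rw [h]
    show (β₀ : _ → ℂ) ((eC B s hC).symm ((eC B s hC) c)) = (β₀ : _ → ℂ) c
    rw [MulEquiv.symm_apply_apply]

theorem pcyc_key2 (hp : p.Prime) (hord : ∃ a : ℕ, orderOf s = p ^ a) (hpB : ¬ p ∣ Nat.card B)
    (hC : C = fixedSub B s) (hCB : C ≤ B) [Fintype (fixedSub (NN B s) (ss B s))]
    (ψ : IrrCharacter B) (χh : LL B s → ℂ)
    (β₀ : IrrCharacter (fixedSub (NN B s) (ss B s))) (ε : ℤ) (hχh : IsCharacter (LL B s) χh)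
    (hres : ∀ n : NN B s, χh n = (ψ : B → ℂ) (eB B s n))
    (hβ₀ : ∀ c : fixedSub (NN B s) (ss B s),
      χh ((c : LL B s) * ss B s) = (ε : ℂ) * (β₀ : _ → ℂ) c) (ξ : IrrCharacter C) :
    (p : ℤ) ∣ (resMult hCB (ψ : B → ℂ) (ξ : C → ℂ) : ℤ) -
      ε * (if pullIrr hC ξ = β₀ then 1 else 0) := by
  classical
  haveI : Fintype (LL B s) := Fintype.ofFinite _
  have hord₀ : ∃ a : ℕ, orderOf (ss B s) = p ^ a := by rw [orderOf_ss]; exact hord
  have hpN : ¬ p ∣ Nat.card (NN B s) := by rw [card_NN]; exact hpB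
  obtain ⟨m, hm, hdvd⟩ := congr_pElement hp hord₀ hpN hχh β₀ ε hβ₀ (pullIrr hC ξ)
  have h1 : (resMult hCB (ψ : B → ℂ) (ξ : C → ℂ) : ℂ) = m := by
    rw [resMult_spec hCB (isCharacter_of_irr ψ.2) ξ.2, ← hm,
      ← classInner_comp_equiv (eC B s hC) (res hCB (ψ : B → ℂ)) (ξ : C → ℂ)]
    congr 1
    funext c
    have hc : (c : LL B s) ∈ NN B s := fixedSub_le _ _ c.2
    rw [show χh (c : LL B s) = χh ((⟨(c : LL B s), hc⟩ : NN B s) : LL B s) from rfl, hres]
    rfl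
  have h2 : resMult hCB (ψ : B → ℂ) (ξ : C → ℂ) = m := by exact_mod_cast h1
  rw [h2]
  exact hdvd

theorem pcyc_ambient (hp : p.Prime) (hs : ∀ b ∈ B, s * b * s⁻¹ ∈ B)
    (hord : ∃ a : ℕ, orderOf s = p ^ a) (hpB : ¬ p ∣ Nat.card B)
    (hC : C = fixedSub B s) (hCB : C ≤ B) : GCorr p hCB (InvUnder B s) := by
  classical
  haveI : Fintype (LL B s) := Fintype.ofFinite _
  haveI hNn : (NN B s).Normal := normal_NN hs
  haveI : Fintype (NN B s) := Fintype.ofFinite _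
  haveI : Fintype (fixedSub (NN B s) (ss B s)) := Fintype.ofFinite _
  have hcop : (Nat.card B).Coprime (orderOf s) := by
    obtain ⟨a, ha⟩ := hord
    rw [ha]
    exact (Nat.Coprime.pow_left a ((Nat.Prime.coprime_iff_not_dvd hp).mpr hpB)).symm
  have hset : CycSetup (NN B s) (ss B s) := cycSetup_NN hs hcop
  have hirr₀ : ∀ ψ : IrrCharacter B, IsIrrCharacter (NN B s) ((ψ : B → ℂ) ∘ (eB B s)) :=
    fun ψ => isIrrCharacter_comp_of_surjective (eB B s).toMonoidHom (eB B s).surjective ψ.2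
  have key : ∀ ψ : IrrCharacter B, InvUnder B s (ψ : B → ℂ) →
      ∃ (χh : LL B s → ℂ) (β₀ : IrrCharacter (fixedSub (NN B s) (ss B s))) (ε : ℤ),
        IsIrrCharacter (LL B s) χh ∧ (∀ n : NN B s, χh n = (ψ : B → ℂ) (eB B s n)) ∧
        (ε = 1 ∨ ε = -1) ∧
        ∀ c : fixedSub (NN B s) (ss B s),
          χh ((c : LL B s) * ss B s) = (ε : ℂ) * (β₀ : _ → ℂ) c := by
    intro ψ hinv
    have hinv₀ : SInv (NN B s) (ss B s) ((ψ : B → ℂ) ∘ (eB B s)) := by
      intro n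
      exact hinv (eB B s n) _ rfl
    obtain ⟨χh, h1, h2, h3⟩ := hset.exists_canonical (hirr₀ ψ) hinv₀
    have hirr : IsIrrCharacter (NN B s) (fun n : NN B s => χh n) := by
      have : (fun n : NN B s => χh n) = (ψ : B → ℂ) ∘ (eB B s) := funext h2
      rw [this]
      exact hirr₀ ψ
    obtain ⟨β₀, ε, hε, hβ₀⟩ := hset.exists_sign_irr h1 hirr h3
    exact ⟨χh, β₀, ε, h1, h2, hε, hβ₀⟩
  refine ⟨?_, ?_, ?_⟩
  · intro ψ hinv
    obtain ⟨χh, β₀, ε, h1, h2, hε, hβ₀⟩ := key ψ hinv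
    refine ⟨pushIrr hC β₀, ε, hε, fun ξ => ?_⟩
    have h3 := pcyc_key2 hp hord hpB hC hCB ψ χh β₀ ε (isCharacter_of_irr h1) h2 hβ₀ ξ
    have h4 : (pullIrr hC ξ = β₀) = (ξ = pushIrr hC β₀) := propext (pull_eq_iff hC ξ β₀)
    simp only [h4] at h3
    exact h3
  · intro ψ ψ' hinv hinv' β hψ hψ'
    obtain ⟨χh, β₀, ε, h1, h2, hε, hβ₀⟩ := key ψ hinv
    obtain ⟨χh', β₀', ε', h1', h2', hε', hβ₀'⟩ := key ψ' hinv'
    have h3 := pcyc_key2 hp hord hpB hC hCB ψ χh β₀ ε (isCharacter_of_irr h1) h2 hβ₀ β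
    have h3' := pcyc_key2 hp hord hpB hC hCB ψ' χh' β₀' ε' (isCharacter_of_irr h1') h2' hβ₀' β
    have e1 : pullIrr hC β = β₀ := by
      by_contra hne
      rw [if_neg hne] at h3
      exact hψ (dvd_of_dvd_sub_zero h3)
    have e2 : pullIrr hC β = β₀' := by
      by_contra hne
      rw [if_neg hne] at h3'
      exact hψ' (dvd_of_dvd_sub_zero h3')
    have hirr : IsIrrCharacter (NN B s) (fun n : NN B s => χh n) := by
      have : (fun n : NN B s => χh n) = (ψ : B → ℂ) ∘ (eB B s) := funext h2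
      rw [this]
      exact hirr₀ ψ
    have hirr' : IsIrrCharacter (NN B s) (fun n : NN B s => χh' n) := by
      have : (fun n : NN B s => χh' n) = (ψ' : B → ℂ) ∘ (eB B s) := funext h2'
      rw [this]
      exact hirr₀ ψ'
    have h5 := hset.injective h1 h1' hirr hirr' β₀ ε ε' hε hε' hβ₀
      (by rw [← e1, e2]; exact hβ₀')
    apply Subtype.ext
    funext b
    have h6 : χh (((eB B s).symm b : NN B s) : LL B s) =
        χh' (((eB B s).symm b : NN B s) : LL B s) := congrFun h5 ((eB B s).symm b)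
    rw [h2, h2', MulEquiv.apply_symm_apply] at h6
    exact h6
  · intro β
    obtain ⟨χh, ε, h1, h2, h3, hε, hβ⟩ := hset.surjective (pullIrr hC β)
    have hirrψ : IsIrrCharacter B ((fun n : NN B s => χh n) ∘ (eB B s).symm) :=
      isIrrCharacter_comp_of_surjective (eB B s).symm.toMonoidHom (eB B s).symm.surjective h2
    refine ⟨⟨_, hirrψ⟩, ?_, ?_⟩
    · intro g g' hgg'
      show χh (((eB B s).symm g' : NN B s) : LL B s) = χh (((eB B s).symm g : NN B s) : LL B s)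
      have h4 : (((eB B s).symm g' : NN B s) : LL B s) =
          ss B s * (((eB B s).symm g : NN B s) : LL B s) * (ss B s)⁻¹ := by
        apply Subtype.ext
        exact hgg'
      rw [h4]
      exact isClassFunction_of_isCharacter (isCharacter_of_irr h1) _ _
    · have h5 := pcyc_key2 hp hord hpB hC hCB ⟨_, hirrψ⟩ χh (pullIrr hC β) ε
        (isCharacter_of_irr h1)
        (fun n => by
          show χh n = χh (((eB B s).symm ((eB B s) n) : NN B s) : LL B s)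
          rw [MulEquiv.symm_apply_apply]) hβ β
      rw [if_pos rfl] at h5
      exact not_dvd_of_dvd_sub_sign hp hε h5

end

end Cfsg.Agent.Lib.H24.Glaub
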