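import Mathlib

/-!
# Weighted fixed-point congruence for `p`-group actions

`sum_modEq_sum_fixedPoints`: if a finite `p`-group `P` acts on a finite set `X` and `f : X → ℤ` is
`P`-invariant, then `∑ x, f x ≡ ∑ x ∈ Fix, f x  (mod p)`.
-/

set_option autoImplicit false

namespace Cfsg.Agent.Lib.H24

open MulAction

section

variable {P X : Type*} [Group P] [MulAction P X] [Fintype X] {p : ℕ} [Fact p.Prime]

/-- Level sets of an invariant function, as sub-actions. -/
theorem card_levelSet_modEq (hP : IsPGroup p P) [DecidableEq X] (f : X → ℤ)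
    (hf : ∀ (g : P) (x : X), f (g • x) = f x) [DecidablePred (· ∈ fixedPoints P X)] (v : ℤ) :
    ((Finset.univ.filter (fun x : X => f x = v)).card : ZMod p) =
      ((Finset.univ.filter (fun x : X => f x = v ∧ x ∈ fixedPoints P X)).card : ZMod p) := by
  classical
  let L : SubMulAction P X := ⟨{x | f x = v}, fun g x hx => by
    show f (g • x) = v
    rw [hf]; exact hx⟩
  have h1 : Nat.card L ≡ Nat.card (fixedPoints P L) [MOD p] := hP.card_modEq_card_fixedPoints L
  have h2 : Nat.card L = (Finset.univ.filter (fun x : X => f x = v)).card := by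
    have h0 : Nat.card L = Nat.card {x : X // f x = v} := rfl
    rw [h0, Nat.card_eq_fintype_card, Fintype.card_subtype]
  have h3 : Nat.card (fixedPoints P L) =
      (Finset.univ.filter (fun x : X => f x = v ∧ x ∈ fixedPoints P X)).card := by
    rw [← Fintype.card_subtype, ← Nat.card_eq_fintype_card]
    apply Nat.card_congr
    refine ⟨fun x => ⟨x.1.1, x.1.2, fun g => ?_⟩, fun x => ⟨⟨x.1, x.2.1⟩, fun g => ?_⟩, ?_, ?_⟩
    · have := x.2 g
      exact congrArg Subtype.val this
    · apply Subtype.ext
      exact x.2.2 g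
    · intro x; rfl
    · intro x; rfl
  rw [← h2, ← h3]
  exact (ZMod.natCast_eq_natCast_iff _ _ p).mpr h1

/-- **Weighted fixed point congruence** for a `p`-group acting on a finite set. -/
theorem sum_modEq_sum_fixedPoints (hP : IsPGroup p P) (f : X → ℤ)
    (hf : ∀ (g : P) (x : X), f (g • x) = f x) [DecidablePred (· ∈ fixedPoints P X)] :
    (∑ x : X, f x) ≡ ∑ x : X, (if x ∈ fixedPoints P X then f x else 0) [ZMOD p] := by
  classical
  rw [← ZMod.intCast_eq_intCast_iff]
  have hmaps : ∀ x ∈ (Finset.univ : Finset X), f x ∈ Finset.univ.image f :=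
    fun x _ => Finset.mem_image_of_mem f (Finset.mem_univ x)
  rw [← Finset.sum_fiberwise_of_maps_to hmaps (fun x => f x),
    ← Finset.sum_fiberwise_of_maps_to hmaps (fun x => if x ∈ fixedPoints P X then f x else 0)]
  push_cast
  refine Finset.sum_congr rfl fun v _ => ?_
  have h1 : ∑ x ∈ Finset.univ.filter (fun x : X => f x = v), ((f x : ℤ) : ZMod p) =
      ((Finset.univ.filter (fun x : X => f x = v)).card : ZMod p) * (v : ZMod p) := by
    rw [Finset.sum_congr rfl (g := fun _ => ((v : ℤ) : ZMod p))]
    · rw [Finset.sum_const, nsmul_eq_mul]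
    · intro x hx
      rw [(Finset.mem_filter.mp hx).2]
  have h2 : ∑ x ∈ Finset.univ.filter (fun x : X => f x = v),
      (if x ∈ fixedPoints P X then ((f x : ℤ) : ZMod p) else 0) =
      ((Finset.univ.filter (fun x : X => f x = v ∧ x ∈ fixedPoints P X)).card : ZMod p) *
        (v : ZMod p) := by
    have h3 : ∀ x ∈ Finset.univ.filter (fun x : X => f x = v),
        (if x ∈ fixedPoints P X then ((f x : ℤ) : ZMod p) else 0) =
          if x ∈ fixedPoints P X then ((v : ℤ) : ZMod p) else 0 := by
      intro x hx
      rw [(Finset.mem_filter.mp hx).2]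
    rw [Finset.sum_congr rfl h3, ← Finset.sum_filter, Finset.filter_filter, Finset.sum_const,
      nsmul_eq_mul]
  rw [h1, h2, card_levelSet_modEq hP f hf v]

end

end Cfsg.Agent.Lib.H24
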