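import Cfsg.Agent.Lib.H24.GlaubAmb3
import Cfsg.Agent.Lib.H24.OrbitSum

/-!
# Tools for composing Glauberman correspondences (helper24)

* `resMult_trans`: `[χ_C, ξ] = ∑_ψ [χ_B, ψ] [ψ_C, ξ]` for `C ≤ B ≤ G`;
* `irrPerm e`: the permutation `ψ ↦ ψ ∘ e` of `Irr(B)` for an automorphism `e` of `B`;
* `sum_modEq_sum_fixed_perm`: orbit counting modulo `p` for a permutation of `p`-power order;
* `resMult_conj_left`, `resMult_conj_right`.
-/

set_option autoImplicit false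

universe u

namespace Cfsg.Agent.Lib.H24.Glaub

open Cfsg Cfsg.Agent.Lib.L0 Cfsg.Agent.Lib.H23 Cfsg.Agent.Lib.H8 Cfsg.Agent.Lib.H24
open scoped ComplexConjugate

section Perm

/-- Orbit counting modulo `p` for a permutation of `p`-power order and an invariant weight. -/
theorem sum_modEq_sum_fixed_perm {X : Type*} [Fintype X] [DecidableEq X] (σ : Equiv.Perm X)
    {p : ℕ} (hp : p.Prime) (a : ℕ) (hσ : σ ^ (p ^ a) = 1) (f : X → ℤ)
    (hf : ∀ x, f (σ x) = f x) :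
    (∑ x : X, f x) ≡ ∑ x : X, (if σ x = x then f x else 0) [ZMOD p] := by
  classical
  haveI : Fact p.Prime := ⟨hp⟩
  set P : Subgroup (Equiv.Perm X) := Subgroup.zpowers σ with hP
  have hPp : IsPGroup p P := by
    have h1 : orderOf σ ∣ p ^ a := orderOf_dvd_of_pow_eq_one hσ
    obtain ⟨b, _, hb⟩ := (Nat.dvd_prime_pow hp).mp h1
    apply IsPGroup.of_card (n := b)
    rw [hP, Nat.card_zpowers, hb]
  have hinv : ∀ (g : P) (x : X), f (g • x) = f x := by
    rintro ⟨g, hg⟩ x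
    obtain ⟨k, rfl⟩ := Subgroup.mem_zpowers_iff.mp hg
    show f ((σ ^ k) x) = f x
    induction k using Int.induction_on generalizing x with
    | zero => simp
    | succ k ih =>
      rw [zpow_add_one, Equiv.Perm.mul_apply, ih (σ x) , hf]
      exact Subgroup.zpow_mem _ (Subgroup.mem_zpowers σ) _
    | pred k ih =>
      rw [zpow_sub_one, Equiv.Perm.mul_apply]
      have h2 := ih (σ⁻¹ x) (Subgroup.zpow_mem _ (Subgroup.mem_zpowers σ) _)
      rw [h2]
      have h3 := hf (σ⁻¹ x)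
      have h3' : σ (σ⁻¹ x) = x := by simp
      rw [h3'] at h3
      exact h3.symm
  have h4 := sum_modEq_sum_fixedPoints hPp f hinv
  have h5 : ∀ x : X, x ∈ MulAction.fixedPoints P X ↔ σ x = x := by
    intro x
    constructor
    · intro hx
      exact hx ⟨σ, Subgroup.mem_zpowers σ⟩
    · intro hx
      rintro ⟨g, hg⟩
      obtain ⟨k, rfl⟩ := Subgroup.mem_zpowers_iff.mp hg
      show (σ ^ k) x = x
      exact Equiv.Perm.zpow_apply_eq_self_of_apply_eq_self hx k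
  have h6 : ∑ x : X, (if x ∈ MulAction.fixedPoints P X then f x else 0) =
      ∑ x : X, (if σ x = x then f x else 0) := by
    refine Finset.sum_congr rfl fun x _ => ?_
    simp only [h5]
  rw [← h6]
  exact h4

end Perm

variable {Γ : Type u} [Group Γ]

section Trans

variable {G B C : Subgroup Γ} [Fintype B] [Fintype C]

theorem res_smul {G C : Subgroup Γ} (h : C ≤ G) (a : ℂ) (χ : G → ℂ) :
    res h (a • χ) = a • res h χ := rfl

theorem res_sum {G C : Subgroup Γ} (h : C ≤ G) {ι : Type*} (t : Finset ι) (f : ι → G → ℂ) :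
    res h (∑ i ∈ t, f i) = ∑ i ∈ t, res h (f i) := by
  funext c
  simp only [res_apply, Finset.sum_apply]

theorem resMult_trans [Fintype (IrrCharacter B)] (hBG : B ≤ G) (hCB : C ≤ B) {χ : G → ℂ}
    (hχ : IsCharacter G χ) {ξ : C → ℂ} (hξ : IsIrrCharacter C ξ) :
    (resMult (hCB.trans hBG) χ ξ : ℤ) =
      ∑ ψ : IrrCharacter B, (resMult hBG χ (ψ : B → ℂ) : ℤ) * (resMult hCB (ψ : B → ℂ) ξ : ℤ) := by
  have h1 : ((resMult (hCB.trans hBG) χ ξ : ℤ) : ℂ) =
      ((∑ ψ : IrrCharacter B, (resMult hBG χ (ψ : B → ℂ) : ℤ) *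
        (resMult hCB (ψ : B → ℂ) ξ : ℤ) : ℤ) : ℂ) := by
    push_cast
    rw [resMult_spec _ hχ hξ, ← res_res hBG hCB χ]
    have hexp := classFunction_expansion (res hBG χ)
      (isClassFunction_of_isCharacter (isCharacter_res hBG hχ))
    conv_lhs => rw [hexp]
    rw [res_sum, classInner_sum_left]
    refine Finset.sum_congr rfl fun ψ _ => ?_
    rw [res_smul, classInner_smul_left, resMult_spec hBG hχ ψ.2,
      resMult_spec hCB (isCharacter_of_irr ψ.2) hξ]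
  exact_mod_cast h1

end Trans

section Conj

/-- The permutation `ψ ↦ ψ ∘ e` of the irreducible characters. -/
noncomputable def irrPerm {B : Type*} [Group B] (e : B ≃* B) : Equiv.Perm (IrrCharacter B) where
  toFun ψ := ⟨(ψ : B → ℂ) ∘ e, isIrrCharacter_comp_of_surjective e.toMonoidHom e.surjective ψ.2⟩
  invFun ψ := ⟨(ψ : B → ℂ) ∘ e.symm,
    isIrrCharacter_comp_of_surjective e.symm.toMonoidHom e.symm.surjective ψ.2⟩
  left_inv ψ := by
    apply Subtype.ext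
    funext b
    show (ψ : B → ℂ) (e (e.symm b)) = (ψ : B → ℂ) b
    rw [MulEquiv.apply_symm_apply]
  right_inv ψ := by
    apply Subtype.ext
    funext b
    show (ψ : B → ℂ) (e.symm (e b)) = (ψ : B → ℂ) b
    rw [MulEquiv.symm_apply_apply]

theorem irrPerm_apply {B : Type*} [Group B] (e : B ≃* B) (ψ : IrrCharacter B) (b : B) :
    ((irrPerm e ψ : IrrCharacter B) : B → ℂ) b = (ψ : B → ℂ) (e b) := rfl

theorem irrPerm_pow {B : Type*} [Group B] (e : MulAut B) (k : ℕ) :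
    (irrPerm e) ^ k = irrPerm (e ^ k) := by
  induction k with
  | zero =>
    ext ψ b
    rfl
  | succ k ih =>
    rw [pow_succ, ih]
    ext ψ b
    show (ψ : B → ℂ) (e ((e ^ k) b)) = (ψ : B → ℂ) ((e ^ (k + 1)) b)
    rw [pow_succ']
    rfl

theorem conjN_pow_apply (B : Subgroup Γ) (x : Γ) (hx : ∀ g ∈ B, x * g * x⁻¹ ∈ B)
    (hx' : ∀ g ∈ B, x⁻¹ * g * x ∈ B) (k : ℕ) (b : B) :
    ((((conjN B x hx hx' : MulAut B) ^ k) b : B) : Γ) = x ^ k * b * (x ^ k)⁻¹ := by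
  induction k generalizing b with
  | zero => simp
  | succ k ih =>
    rw [pow_succ, MulAut.mul_apply, ih, conjN_apply, pow_succ]
    group

theorem irrPerm_conjN_pow_eq_one (B : Subgroup Γ) (x : Γ) (hx : ∀ g ∈ B, x * g * x⁻¹ ∈ B)
    (hx' : ∀ g ∈ B, x⁻¹ * g * x ∈ B) (n : ℕ) (hn : x ^ n = 1) :
    (irrPerm (conjN B x hx hx')) ^ n = 1 := by
  have h1 : (irrPerm (conjN B x hx hx')) ^ n = irrPerm ((conjN B x hx hx' : MulAut B) ^ n) :=
    irrPerm_pow (conjN B x hx hx' : MulAut B) n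
  rw [h1]
  ext ψ b
  show (ψ : B → ℂ) (((conjN B x hx hx' : MulAut B) ^ n) b) = (ψ : B → ℂ) b
  have h2 : ((conjN B x hx hx' : MulAut B) ^ n) b = b := by
    apply Subtype.ext
    rw [conjN_pow_apply, hn]
    simp
  rw [h2]

variable {G B C : Subgroup Γ} [Fintype B] [Fintype C]

theorem resMult_conj_right (hBG : B ≤ G) {s : Γ}
    (hsB : ∀ b ∈ B, s * b * s⁻¹ ∈ B) (hsB' : ∀ b ∈ B, s⁻¹ * b * s ∈ B) {χ : G → ℂ}
    (hinv : InvUnder G s χ) (ψ : B → ℂ) :
    resMult hBG χ (ψ ∘ conjN B s hsB hsB') = resMult hBG χ ψ := by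
  unfold resMult
  have h1 : res hBG χ = (res hBG χ) ∘ (conjN B s hsB hsB') := by
    funext b
    show χ ⟨b, hBG b.2⟩ = χ ⟨s * b * s⁻¹, hBG (hsB b b.2)⟩
    exact (hinv ⟨b, hBG b.2⟩ ⟨s * b * s⁻¹, hBG (hsB b b.2)⟩ rfl).symm
  conv_lhs => rw [h1]
  rw [classInner_comp_equiv]

omit [Fintype B] in
theorem resMult_conj_left (hCB : C ≤ B) {s : Γ}
    (hsB : ∀ b ∈ B, s * b * s⁻¹ ∈ B) (hsB' : ∀ b ∈ B, s⁻¹ * b * s ∈ B)
    (hsC : ∀ c ∈ C, s * c * s⁻¹ = c) (ψ : B → ℂ) (ξ : C → ℂ) :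
    resMult hCB (ψ ∘ conjN B s hsB hsB') ξ = resMult hCB ψ ξ := by
  unfold resMult
  have h1 : res hCB (ψ ∘ conjN B s hsB hsB') = res hCB ψ := by
    funext c
    show ψ (conjN B s hsB hsB' ⟨c, hCB c.2⟩) = ψ ⟨c, hCB c.2⟩
    congr 1
    apply Subtype.ext
    exact hsC c c.2
  rw [h1]

end Conj

end Cfsg.Agent.Lib.H24.Glaub
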