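import Cfsg.Agent.Lib.H24.GlaubAmb4

/-!
# Composing Glauberman correspondences (helper24)

* `comp_congr`: the multiplicity congruence for the composite `G ⊇ B ⊇ C`;
* `gcorr_base`: the trivial correspondence (`C = G`);
* `gcorr_step`: if `S = T⟨s⟩`, `B = C_G(T)`, `C = C_B(s)`, then the correspondences for `(G, T, B)`
  and `(B, s, C)` compose to one for `(G, S, C)`.
-/

set_option autoImplicit false

universe u

namespace Cfsg.Agent.Lib.H24.Glaub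

open Cfsg Cfsg.Agent.Lib.L0 Cfsg.Agent.Lib.H23 Cfsg.Agent.Lib.H8 Cfsg.Agent.Lib.H24
open scoped ComplexConjugate

variable {Γ : Type u} [Group Γ] [Fintype Γ]

section Comp

variable {p : ℕ} {G B C : Subgroup Γ} [Fintype B] [Fintype C]

theorem comp_congr (hp : p.Prime) (hBG : B ≤ G) (hCB : C ≤ B) {s : Γ}
    (hsB : ∀ b ∈ B, s * b * s⁻¹ ∈ B) (hsB' : ∀ b ∈ B, s⁻¹ * b * s ∈ B)
    (hsC : ∀ c ∈ C, s * c * s⁻¹ = c) (a : ℕ) (hsa : s ^ (p ^ a) = 1)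
    (χ : IrrCharacter G) (hinv : InvUnder G s (χ : G → ℂ))
    (ψ₀ : IrrCharacter B) (ε₁ : ℤ)
    (h₁ : ∀ ψ : IrrCharacter B,
      (p : ℤ) ∣ (resMult hBG (χ : G → ℂ) (ψ : B → ℂ) : ℤ) - ε₁ * (if ψ = ψ₀ then 1 else 0))
    (hψ₀ : InvUnder B s (ψ₀ : B → ℂ)) (β : IrrCharacter C) (ε₂ : ℤ)
    (h₂ : ∀ ξ : IrrCharacter C,
      (p : ℤ) ∣ (resMult hCB (ψ₀ : B → ℂ) (ξ : C → ℂ) : ℤ) - ε₂ * (if ξ = β then 1 else 0))
    (ξ : IrrCharacter C) :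
    (p : ℤ) ∣ (resMult (hCB.trans hBG) (χ : G → ℂ) (ξ : C → ℂ) : ℤ) -
      (ε₁ * ε₂) * (if ξ = β then 1 else 0) := by
  classical
  haveI : Fintype (IrrCharacter B) := Fintype.ofFinite _
  set σ : Equiv.Perm (IrrCharacter B) := irrPerm (conjN B s hsB hsB') with hσ
  have hσp : σ ^ (p ^ a) = 1 := irrPerm_conjN_pow_eq_one B s hsB hsB' _ hsa
  set f : IrrCharacter B → ℤ := fun ψ =>
    (resMult hBG (χ : G → ℂ) (ψ : B → ℂ) : ℤ) * (resMult hCB (ψ : B → ℂ) (ξ : C → ℂ) : ℤ) with hf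
  have hfσ : ∀ ψ, f (σ ψ) = f ψ := by
    intro ψ
    show (resMult hBG (χ : G → ℂ) ((ψ : B → ℂ) ∘ conjN B s hsB hsB') : ℤ) *
      (resMult hCB ((ψ : B → ℂ) ∘ conjN B s hsB hsB') (ξ : C → ℂ) : ℤ) = _
    rw [resMult_conj_right hBG hsB hsB' hinv, resMult_conj_left hCB hsB hsB' hsC]
  have hσψ₀ : σ ψ₀ = ψ₀ := by
    apply Subtype.ext
    exact (invUnder_iff_comp B s hsB hsB' _).mp hψ₀
  have h3 := sum_modEq_sum_fixed_perm σ hp a hσp f hfσ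
  have h4 : (∑ ψ : IrrCharacter B, (if σ ψ = ψ then f ψ else 0)) ≡
      ∑ ψ : IrrCharacter B, (if ψ = ψ₀ then f ψ₀ else 0) [ZMOD p] := by
    apply Int.ModEq.sum
    intro ψ _
    by_cases hψ : ψ = ψ₀
    · rw [hψ, if_pos hσψ₀, if_pos rfl]
    · rw [if_neg hψ]
      by_cases hfix : σ ψ = ψ
      · rw [if_pos hfix]
        have h5 := h₁ ψ
        rw [if_neg hψ, mul_zero, sub_zero] at h5
        rw [Int.modEq_zero_iff_dvd]
        exact Dvd.dvd.mul_right h5 _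
      · rw [if_neg hfix]
  have h6 : ∑ ψ : IrrCharacter B, (if ψ = ψ₀ then f ψ₀ else 0) = f ψ₀ := by
    rw [Finset.sum_ite_eq' Finset.univ ψ₀ (fun _ => f ψ₀)]
    simp
  rw [h6] at h4
  have h7 : (resMult (hCB.trans hBG) (χ : G → ℂ) (ξ : C → ℂ) : ℤ) ≡ f ψ₀ [ZMOD p] := by
    rw [resMult_trans hBG hCB (isCharacter_of_irr χ.2) ξ.2]
    exact h3.trans h4
  have h8 : f ψ₀ ≡ ε₁ * (ε₂ * (if ξ = β then 1 else 0)) [ZMOD p] := by
    apply Int.ModEq.mul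
    · have h9 := h₁ ψ₀
      rw [if_pos rfl, mul_one] at h9
      exact (Int.modEq_iff_dvd.mpr h9).symm
    · exact (Int.modEq_iff_dvd.mpr (h₂ ξ)).symm
  have h10 := (h7.trans h8).symm
  rw [Int.modEq_iff_dvd] at h10
  rw [mul_assoc]
  exact h10

end Comp

end Cfsg.Agent.Lib.H24.Glaub
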