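import Cfsg.Agent.Lib.H24.GlaubAmb5

/-!
# Composing Glauberman correspondences: base and step (helper24)
-/

set_option autoImplicit false

universe u

namespace Cfsg.Agent.Lib.H24.Glaub

open Cfsg Cfsg.Agent.Lib.L0 Cfsg.Agent.Lib.H23 Cfsg.Agent.Lib.H8 Cfsg.Agent.Lib.H24
open scoped ComplexConjugate

variable {Γ : Type u} [Group Γ] [Fintype Γ]

theorem resMult_self {G : Subgroup Γ} [Fintype G] (h : G ≤ G) (χ ξ : IrrCharacter G) :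
    resMult h (χ : G → ℂ) (ξ : G → ℂ) = if ξ = χ then 1 else 0 := by
  have h1 : res h (χ : G → ℂ) = (χ : G → ℂ) := rfl
  have h2 : (resMult h (χ : G → ℂ) (ξ : G → ℂ) : ℂ) = ((if ξ = χ then 1 else 0 : ℕ) : ℂ) := by
    rw [resMult_spec h (isCharacter_of_irr χ.2) ξ.2, h1]
    by_cases hξ : ξ = χ
    · rw [if_pos hξ, hξ, irr_classInner_self χ.2]
      simp
    · rw [if_neg hξ, irr_classInner_ne χ.2 ξ.2 (fun h => hξ (Subtype.ext h.symm))]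
      simp
  exact_mod_cast h2

/-- The trivial correspondence. -/
theorem gcorr_base {p : ℕ} (hp : p.Prime) {G : Subgroup Γ} [Fintype G] (h : G ≤ G)
    (Inv : (G → ℂ) → Prop) (hInv : ∀ χ : IrrCharacter G, Inv (χ : G → ℂ)) : GCorr p h Inv := by
  refine ⟨?_, ?_, ?_⟩
  · intro χ _
    refine ⟨χ, 1, Or.inl rfl, fun ξ => ?_⟩
    rw [resMult_self]
    split_ifs <;> simp
  · intro χ χ' _ _ β h1 h2
    rw [resMult_self] at h1 h2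
    have e1 : β = χ := by
      by_contra hne
      rw [if_neg hne] at h1
      exact h1 (dvd_zero p)
    have e2 : β = χ' := by
      by_contra hne
      rw [if_neg hne] at h2
      exact h2 (dvd_zero p)
    rw [← e1, ← e2]
  · intro β
    refine ⟨β, hInv β, ?_⟩
    rw [resMult_self, if_pos rfl]
    intro h1
    exact hp.one_lt.ne' (Nat.dvd_one.mp h1)

section Step

variable {p : ℕ} {G S T B C : Subgroup Γ} [Fintype B] [Fintype C] {s : Γ}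

/-- Uniqueness of the correspondent from the congruences. -/
theorem GCorr.eq_of_not_dvd {G C : Subgroup Γ} [Fintype C] {hCG : C ≤ G} {χ : G → ℂ}
    {β ξ : IrrCharacter C} {ε : ℤ}
    (h : ∀ ξ : IrrCharacter C,
      (p : ℤ) ∣ (resMult hCG χ (ξ : C → ℂ) : ℤ) - ε * (if ξ = β then 1 else 0))
    (hξ : ¬ p ∣ resMult hCG χ (ξ : C → ℂ)) : ξ = β := by
  by_contra hne
  have h1 := h ξ
  rw [if_neg hne] at h1
  exact hξ (dvd_of_dvd_sub_zero h1)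

theorem gcorr_step (hp : p.Prime) (hBG : B ≤ G) (hCB : C ≤ B)
    (hsG : ∀ g ∈ G, s * g * s⁻¹ ∈ G)
    (hsB : ∀ b ∈ B, s * b * s⁻¹ ∈ B) (hsC : ∀ c ∈ C, s * c * s⁻¹ = c)
    (hsT : ∀ t ∈ T, s * t * s⁻¹ ∈ T)
    (hTG : ∀ t ∈ T, ∀ g ∈ G, t * g * t⁻¹ ∈ G)
    (a : ℕ) (hsa : s ^ (p ^ a) = 1) (hTS : T ≤ S) (hsS : s ∈ S)
    (hgen : ∀ χ : G → ℂ, (∀ t ∈ T, InvUnder G t χ) → InvUnder G s χ → ∀ x ∈ S, InvUnder G x χ)
    (corrT : GCorr p hBG (fun χ => ∀ t ∈ T, InvUnder G t χ))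
    (corrS : GCorr p hCB (InvUnder B s)) :
    GCorr p (hCB.trans hBG) (fun χ => ∀ x ∈ S, InvUnder G x χ) := by
  classical
  have hsG' := inv_norm_of_norm hsG
  have hsB' := inv_norm_of_norm hsB
  -- analysis of an `S`-invariant `χ`
  have key : ∀ χ : IrrCharacter G, (∀ x ∈ S, InvUnder G x (χ : G → ℂ)) →
      ∃ (ψ₀ : IrrCharacter B) (ε₁ : ℤ) (β : IrrCharacter C) (ε₂ : ℤ),
        (ε₁ = 1 ∨ ε₁ = -1) ∧ (ε₂ = 1 ∨ ε₂ = -1) ∧ InvUnder B s (ψ₀ : B → ℂ) ∧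
        (∀ ψ : IrrCharacter B, (p : ℤ) ∣ (resMult hBG (χ : G → ℂ) (ψ : B → ℂ) : ℤ) -
          ε₁ * (if ψ = ψ₀ then 1 else 0)) ∧
        (∀ ξ : IrrCharacter C, (p : ℤ) ∣ (resMult hCB (ψ₀ : B → ℂ) (ξ : C → ℂ) : ℤ) -
          ε₂ * (if ξ = β then 1 else 0)) ∧
        ∀ ξ : IrrCharacter C, (p : ℤ) ∣ (resMult (hCB.trans hBG) (χ : G → ℂ) (ξ : C → ℂ) : ℤ) -
          (ε₁ * ε₂) * (if ξ = β then 1 else 0) := by
    intro χ hχ
    obtain ⟨ψ₀, ε₁, hε₁, h₁⟩ := corrT.exists_corr χ (fun t ht => hχ t (hTS ht))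
    have hχs : InvUnder G s (χ : G → ℂ) := hχ s hsS
    -- `ψ₀` is `s`-invariant
    have hψ₀ : InvUnder B s (ψ₀ : B → ℂ) := by
      rw [invUnder_iff_comp B s hsB hsB']
      have h2 : ¬ p ∣ resMult hBG (χ : G → ℂ) ((irrPerm (conjN B s hsB hsB') ψ₀ : IrrCharacter B) :
          B → ℂ) := by
        show ¬ p ∣ resMult hBG (χ : G → ℂ) ((ψ₀ : B → ℂ) ∘ conjN B s hsB hsB')
        rw [resMult_conj_right hBG hsB hsB' hχs]
        have h3 := h₁ ψ₀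
        rw [if_pos rfl] at h3
        exact not_dvd_of_dvd_sub_sign hp hε₁ h3
      have h4 := GCorr.eq_of_not_dvd h₁ h2
      exact congrArg Subtype.val h4
    obtain ⟨β, ε₂, hε₂, h₂⟩ := corrS.exists_corr ψ₀ hψ₀
    exact ⟨ψ₀, ε₁, β, ε₂, hε₁, hε₂, hψ₀, h₁, h₂,
      comp_congr hp hBG hCB hsB hsB' hsC a hsa χ hχs ψ₀ ε₁ h₁ hψ₀ β ε₂ h₂⟩
  have hsign : ∀ ε₁ ε₂ : ℤ, (ε₁ = 1 ∨ ε₁ = -1) → (ε₂ = 1 ∨ ε₂ = -1) →
      (ε₁ * ε₂ = 1 ∨ ε₁ * ε₂ = -1) := by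
    rintro ε₁ ε₂ (rfl | rfl) (rfl | rfl) <;> simp
  refine ⟨?_, ?_, ?_⟩
  · intro χ hχ
    obtain ⟨ψ₀, ε₁, β, ε₂, hε₁, hε₂, -, -, -, h⟩ := key χ hχ
    exact ⟨β, ε₁ * ε₂, hsign ε₁ ε₂ hε₁ hε₂, h⟩
  · intro χ χ' hχ hχ' β hβ hβ'
    obtain ⟨ψ₀, ε₁, β₁, ε₂, hε₁, hε₂, hψ₀, h₁, h₂, h⟩ := key χ hχ
    obtain ⟨ψ₀', ε₁', β₁', ε₂', hε₁', hε₂', hψ₀', h₁', h₂', h'⟩ := key χ' hχ'
    have e1 : β = β₁ := GCorr.eq_of_not_dvd h hβ
    have e2 : β = β₁' := GCorr.eq_of_not_dvd h' hβ'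
    have n1 : ¬ p ∣ resMult hCB (ψ₀ : B → ℂ) (β : C → ℂ) := by
      have h3 := h₂ β
      rw [if_pos e1] at h3
      exact not_dvd_of_dvd_sub_sign hp hε₂ h3
    have n2 : ¬ p ∣ resMult hCB (ψ₀' : B → ℂ) (β : C → ℂ) := by
      have h3 := h₂' β
      rw [if_pos e2] at h3
      exact not_dvd_of_dvd_sub_sign hp hε₂' h3
    have e3 : ψ₀ = ψ₀' := corrS.inj ψ₀ ψ₀' hψ₀ hψ₀' β n1 n2
    have n3 : ¬ p ∣ resMult hBG (χ : G → ℂ) (ψ₀ : B → ℂ) := by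
      have h3 := h₁ ψ₀
      rw [if_pos rfl] at h3
      exact not_dvd_of_dvd_sub_sign hp hε₁ h3
    have n4 : ¬ p ∣ resMult hBG (χ' : G → ℂ) (ψ₀ : B → ℂ) := by
      have h3 := h₁' ψ₀
      rw [if_pos e3] at h3
      exact not_dvd_of_dvd_sub_sign hp hε₁' h3
    exact corrT.inj χ χ' (fun t ht => hχ t (hTS ht)) (fun t ht => hχ' t (hTS ht)) ψ₀ n3 n4
  · intro β
    obtain ⟨ψ₀, hψ₀, hψ₀β⟩ := corrS.surj β
    obtain ⟨χ, hχT, hχψ₀⟩ := corrT.surj ψ₀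
    -- the conjugate `χ^s`
    set χs : IrrCharacter G := irrPerm (conjN G s hsG hsG') χ with hχs
    have hχsT : ∀ t ∈ T, InvUnder G t (χs : G → ℂ) := by
      intro t ht g g' hgg'
      show (χ : G → ℂ) (conjN G s hsG hsG' g') = (χ : G → ℂ) (conjN G s hsG hsG' g)
      apply hχT (s * t * s⁻¹) (hsT t ht)
      rw [conjN_apply, conjN_apply, hgg']
      group
    have hχsψ₀ : ¬ p ∣ resMult hBG (χs : G → ℂ) (ψ₀ : B → ℂ) := by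
      have h1 : resMult hBG (χs : G → ℂ) (ψ₀ : B → ℂ) =
          resMult hBG (χ : G → ℂ) (ψ₀ : B → ℂ) := by
        unfold resMult
        have h2 : res hBG (χs : G → ℂ) = (res hBG (χ : G → ℂ)) ∘ (conjN B s hsB hsB') := rfl
        have h3 : (ψ₀ : B → ℂ) = (ψ₀ : B → ℂ) ∘ (conjN B s hsB hsB') :=
          ((invUnder_iff_comp B s hsB hsB' _).mp hψ₀).symm
        rw [h2]
        conv_lhs => rw [h3]
        rw [classInner_comp_equiv]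
      rw [h1]
      exact hχψ₀
    have e1 : χs = χ := corrT.inj χs χ hχsT hχT ψ₀ hχsψ₀ hχψ₀
    have hχsinv : InvUnder G s (χ : G → ℂ) := by
      rw [invUnder_iff_comp G s hsG hsG']
      exact congrArg Subtype.val e1
    have hχS : ∀ x ∈ S, InvUnder G x (χ : G → ℂ) := hgen _ hχT hχsinv
    refine ⟨χ, hχS, ?_⟩
    obtain ⟨ψ₁, ε₁, β₁, ε₂, hε₁, hε₂, hψ₁, h₁, h₂, h⟩ := key χ hχS
    have e2 : ψ₀ = ψ₁ := GCorr.eq_of_not_dvd h₁ hχψ₀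
    have e3 : β = β₁ := by
      rw [← e2] at h₂
      exact GCorr.eq_of_not_dvd h₂ hψ₀β
    have h3 := h β
    rw [if_pos e3] at h3
    exact not_dvd_of_dvd_sub_sign hp (hsign ε₁ ε₂ hε₁ hε₂) h3

end Step

end Cfsg.Agent.Lib.H24.Glaub
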