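import Cfsg.Agent.Lib.H24.GlaubAmb7
import Cfsg.Agent.Lib.H24.CharPermLemma

/-!
# Conjugacy classes under a coprime `p`-group of operators (helper24)

`Q ≤ Γ` a `p`-group normalising `G ≤ Γ`, `p ∤ |G|`, `B = C_G(Q)`:
* `pfix`: a `Q`-stable set (under conjugation) of cardinality prime to `p` contains a `Q`-fixed element;
* `exists_conj_mem_centralizer`: a `Q`-stable class of `G` meets `C_G(Q)`;
* `exists_conj_of_conj`: elements of `C_G(Q)` conjugate in `G` are conjugate in `C_G(Q)`.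
-/

set_option autoImplicit false

universe u

namespace Cfsg.Agent.Lib.H24.Glaub

open Cfsg

variable {Γ : Type u} [Group Γ]

theorem pfix {p : ℕ} [Fact p.Prime] {Q : Subgroup Γ} (hQ : IsPGroup p Q) (X : Set Γ)
    (hstab : ∀ q ∈ Q, ∀ x ∈ X, q * x * q⁻¹ ∈ X) (hX : ¬ p ∣ Nat.card X) :
    ∃ x ∈ X, ∀ q ∈ Q, q * x * q⁻¹ = x := by
  letI : MulAction Q Γ := MulAction.compHom Γ ((MulAut.conj : Γ →* MulAut Γ).comp Q.subtype)
  have hsmul : ∀ (q : Q) (x : Γ), q • x = (q : Γ) * x * (q : Γ)⁻¹ := fun q x => rfl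
  let Y : SubMulAction Q Γ := ⟨X, fun q x hx => by
    rw [hsmul]
    exact hstab q q.2 x hx⟩
  have hY : ¬ p ∣ Nat.card Y := hX
  obtain ⟨y, hy⟩ := hQ.nonempty_fixed_point_of_prime_not_dvd_card Y hY
  refine ⟨y.1, y.2, fun q hq => ?_⟩
  have h1 := hy ⟨q, hq⟩
  have h2 := congrArg Subtype.val h1
  exact h2

variable [Finite Γ]

/-- A `Q`-stable conjugacy class of `G` contains an element centralised by `Q`. -/
theorem exists_conj_mem_centralizer {p : ℕ} [Fact p.Prime] {G Q : Subgroup Γ} (hQ : IsPGroup p Q)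
    (hnorm : ∀ q ∈ Q, ∀ g ∈ G, q * g * q⁻¹ ∈ G) (hpG : ¬ p ∣ Nat.card G) (g : G)
    (hstab : ∀ q ∈ Q, ∀ g' : G, (g' : Γ) = q * g * q⁻¹ → IsConj g' g) :
    ∃ x : G, ∀ q ∈ Q, q * ((x * g * x⁻¹ : G) : Γ) * q⁻¹ = ((x * g * x⁻¹ : G) : Γ) := by
  classical
  set X : Set Γ := Subtype.val '' {h : G | ConjClasses.mk h = ConjClasses.mk g} with hX
  have hcard : Nat.card X = Nat.card {h : G // ConjClasses.mk h = ConjClasses.mk g} := by
    rw [hX]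
    exact Nat.card_image_of_injective Subtype.val_injective _
  have hdvd : Nat.card X ∣ Nat.card G := by
    rw [hcard]
    exact Dvd.intro _ (Cfsg.Agent.Lib.H24.card_class_mul_card_centralizer g)
  have hpX : ¬ p ∣ Nat.card X := fun h => hpG (h.trans hdvd)
  have hXstab : ∀ q ∈ Q, ∀ x ∈ X, q * x * q⁻¹ ∈ X := by
    rintro q hq x ⟨h, hh, rfl⟩
    have hh' : IsConj h g := ConjClasses.mk_eq_mk_iff_isConj.mp hh
    obtain ⟨y, hy⟩ := isConj_iff.mp hh'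
    -- `q h q⁻¹ = (q y q⁻¹) (q g q⁻¹) (q y q⁻¹)⁻¹`
    have hqg := hstab q hq ⟨q * g * q⁻¹, hnorm q hq g g.2⟩ rfl
    refine ⟨⟨q * h * q⁻¹, hnorm q hq h h.2⟩, ?_, rfl⟩
    show ConjClasses.mk _ = ConjClasses.mk g
    rw [ConjClasses.mk_eq_mk_iff_isConj]
    refine IsConj.trans ?_ hqg
    rw [isConj_iff]
    refine ⟨⟨q * y * q⁻¹, hnorm q hq _ y.2⟩, ?_⟩
    apply Subtype.ext
    have hy' : (y : Γ) * (h : Γ) * (y : Γ)⁻¹ = (g : Γ) := congrArg Subtype.val hy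
    show q * (y : Γ) * q⁻¹ * (q * h * q⁻¹) * (q * (y : Γ) * q⁻¹)⁻¹ = q * g * q⁻¹
    rw [← hy']
    group
  obtain ⟨x, ⟨h, hh, rfl⟩, hfix⟩ := pfix hQ X hXstab hpX
  have hh' : IsConj g h := (ConjClasses.mk_eq_mk_iff_isConj.mp hh).symm
  obtain ⟨y, hy⟩ := isConj_iff.mp hh'
  refine ⟨y, fun q hq => ?_⟩
  rw [hy]
  exact hfix q hq

/-- Elements of `C_G(Q)` that are conjugate in `G` are conjugate in `C_G(Q)`. -/
theorem exists_conj_of_conj {p : ℕ} [Fact p.Prime] {G Q : Subgroup Γ} (hQ : IsPGroup p Q)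
    (hnorm : ∀ q ∈ Q, ∀ g ∈ G, q * g * q⁻¹ ∈ G) (hpG : ¬ p ∣ Nat.card G) {b b' x : Γ}
    (hb : ∀ q ∈ Q, q * b * q⁻¹ = b) (hb' : ∀ q ∈ Q, q * b' * q⁻¹ = b') (hx : x ∈ G)
    (hxb : x * b * x⁻¹ = b') :
    ∃ y ∈ G, (∀ q ∈ Q, q * y * q⁻¹ = y) ∧ y * b * y⁻¹ = b' := by
  classical
  set X : Set Γ := {y | y ∈ G ∧ y * b * y⁻¹ = b'} with hX
  set Z : Subgroup Γ := G ⊓ Subgroup.centralizer {b} with hZ
  have hcard : Nat.card X = Nat.card Z := by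
    symm
    refine Nat.card_congr (Equiv.ofBijective
      (fun c : Z => (⟨x * c, ⟨G.mul_mem hx (Subgroup.mem_inf.mp c.2).1, ?_⟩⟩ : X)) ⟨?_, ?_⟩)
    · have hc : (c : Γ) * b = b * (c : Γ) :=
        Subgroup.mem_centralizer_singleton_iff.mp (Subgroup.mem_inf.mp c.2).2
      calc x * (c : Γ) * b * (x * (c : Γ))⁻¹ = x * ((c : Γ) * b) * (c : Γ)⁻¹ * x⁻¹ := by group
        _ = x * (b * (c : Γ)) * (c : Γ)⁻¹ * x⁻¹ := by rw [hc]
        _ = x * b * x⁻¹ := by group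
        _ = b' := hxb
    · intro c c' hcc'
      have h1 : x * (c : Γ) = x * (c' : Γ) := congrArg (fun y : X => (y : Γ)) hcc'
      exact Subtype.ext (mul_left_cancel h1)
    · rintro ⟨y, hyG, hyb⟩
      have hmem : x⁻¹ * y ∈ Z := by
        refine Subgroup.mem_inf.mpr ⟨G.mul_mem (G.inv_mem hx) hyG, ?_⟩
        rw [Subgroup.mem_centralizer_singleton_iff]
        have h2 : y * b * y⁻¹ = x * b * x⁻¹ := hyb.trans hxb.symm
        calc x⁻¹ * y * b = x⁻¹ * (y * b * y⁻¹) * y := by group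
          _ = x⁻¹ * (x * b * x⁻¹) * y := by rw [h2]
          _ = b * (x⁻¹ * y) := by group
      refine ⟨⟨x⁻¹ * y, hmem⟩, ?_⟩
      apply Subtype.ext
      show x * (x⁻¹ * y) = y
      group
  have hdvd : Nat.card X ∣ Nat.card G := by
    rw [hcard]
    exact Subgroup.card_dvd_of_le inf_le_left
  have hpX : ¬ p ∣ Nat.card X := fun h => hpG (h.trans hdvd)
  have hXstab : ∀ q ∈ Q, ∀ y ∈ X, q * y * q⁻¹ ∈ X := by
    rintro q hq y ⟨hyG, hyb⟩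
    refine ⟨hnorm q hq y hyG, ?_⟩
    have h1 : q⁻¹ * b * q = b := by
      have := hb q hq
      calc q⁻¹ * b * q = q⁻¹ * (q * b * q⁻¹) * q := by rw [this]
        _ = b := by group
    calc q * y * q⁻¹ * b * (q * y * q⁻¹)⁻¹ = q * (y * (q⁻¹ * b * q) * y⁻¹) * q⁻¹ := by group
      _ = q * (y * b * y⁻¹) * q⁻¹ := by rw [h1]
      _ = q * b' * q⁻¹ := by rw [hyb]
      _ = b' := hb' q hq
  obtain ⟨y, ⟨hyG, hyb⟩, hfix⟩ := pfix hQ X hXstab hpX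
  exact ⟨y, hyG, hfix, hyb⟩

end Cfsg.Agent.Lib.H24.Glaub
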