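import Cfsg.Agent.Lib.H24.GlaubCyclic1

/-!
# The cyclic Glauberman correspondence, part 2 (helper24)

* `cosetFun N s χh : C_N(s) → ℂ`, `c ↦ χh (c s)`; it is a class function;
* `CycSetup.cosetFun_inner`: inner products of coset functions as sums over the coset `N s`;
* `CycSetup.exists_decomp`: `[c ↦ χh (c s^k), ξ] = ∑ i, m i * ω i ^ k` with `m i ∈ ℕ`,
  `ω i ^ o(s) = 1`;
* `CycSetup.cosetFun_inner_int`: `[cosetFun χh, ξ] ∈ ℤ` for the canonical extension `χh`.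
-/

set_option autoImplicit false

universe u

namespace Cfsg.Agent.Lib.H24.Glaub

open Cfsg Cfsg.Agent.Lib.L0 Cfsg.Agent.Lib.H23 Cfsg.Agent.Lib.H8 Cfsg.Agent.Lib.H24
open scoped ComplexConjugate

variable {Γ : Type u} [Group Γ] [Fintype Γ] (N : Subgroup Γ) [hN : N.Normal] (s : Γ)

/-- `c ↦ χh (c s)` on `C_N(s)`. -/
def cosetFun (χh : Γ → ℂ) : fixedSub N s → ℂ := fun c => χh ((c : Γ) * s)

variable {N s}

omit [Fintype Γ] hN in
theorem cosetFun_isClassFunction {χh : Γ → ℂ} (hχ : IsClassFunction Γ χh) :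
    IsClassFunction (fixedSub N s) (cosetFun N s χh) := by
  intro g y
  unfold cosetFun
  have hy : (y : Γ) * s = s * (y : Γ) := (mem_fixedSub.mp y.2).2
  have h1 : ((y * g * y⁻¹ : fixedSub N s) : Γ) * s = (y : Γ) * ((g : Γ) * s) * (y : Γ)⁻¹ := by
    push_cast
    calc (y : Γ) * (g : Γ) * (y : Γ)⁻¹ * s
        = (y : Γ) * (g : Γ) * (y : Γ)⁻¹ * (s * (y : Γ)) * (y : Γ)⁻¹ := by group
      _ = (y : Γ) * (g : Γ) * (y : Γ)⁻¹ * ((y : Γ) * s) * (y : Γ)⁻¹ := by rw [hy]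
      _ = (y : Γ) * ((g : Γ) * s) * (y : Γ)⁻¹ := by group
  rw [h1]
  exact hχ _ _

variable [Fintype N] [Fintype (fixedSub N s)]

theorem CycSetup.cosetFun_inner (h : CycSetup N s) {χ₁ χ₂ : Γ → ℂ} (h₁ : IsClassFunction Γ χ₁)
    (h₂ : IsClassFunction Γ χ₂) :
    classInner (cosetFun N s χ₁) (cosetFun N s χ₂) =
      (Nat.card N : ℂ)⁻¹ * ∑ n : N, χ₁ ((n : Γ) * s) * conj (χ₂ ((n : Γ) * s)) := by
  have h3 := coset_sum h.normalizer h.cop (fun y => χ₁ y * conj (χ₂ y))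
    (fun x _ y => by rw [h₁ y x, h₂ y x])
  have hC : (Nat.card (fixedSub N s) : ℂ) ≠ 0 :=
    Nat.cast_ne_zero.mpr (Nat.card_pos (α := fixedSub N s)).ne'
  have hNn : (Nat.card N : ℂ) ≠ 0 := Nat.cast_ne_zero.mpr (Nat.card_pos (α := N)).ne'
  unfold classInner cosetFun
  field_simp
  linear_combination (-1 : ℂ) * h3

theorem CycSetup.cosetFun_norm (h : CycSetup N s) {χh : Γ → ℂ} (h₁ : IsIrrCharacter Γ χh)
    (hirr : IsIrrCharacter N (fun n : N => χh n)) :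
    classInner (cosetFun N s χh) (cosetFun N s χh) = 1 := by
  have hcf := isClassFunction_of_isCharacter (isCharacter_of_irr h₁)
  rw [h.cosetFun_inner hcf hcf]
  have h2 := (Cfsg.Agent.S0868.result N χh h₁ hirr χh h₁ _ rfl).2.2 rfl
  exact congrFun h2 s

theorem CycSetup.cosetFun_orth (h : CycSetup N s) {χ₁ χ₂ : Γ → ℂ} (h₁ : IsIrrCharacter Γ χ₁)
    (h₂ : IsIrrCharacter Γ χ₂) (hirr₁ : IsIrrCharacter N (fun n : N => χ₁ n))
    (hirr₂ : IsIrrCharacter N (fun n : N => χ₂ n))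
    (hne : (fun n : N => χ₁ n) ≠ (fun n : N => χ₂ n)) :
    classInner (cosetFun N s χ₁) (cosetFun N s χ₂) = 0 := by
  have hcf₁ := isClassFunction_of_isCharacter (isCharacter_of_irr h₁)
  have hcf₂ := isClassFunction_of_isCharacter (isCharacter_of_irr h₂)
  rw [h.cosetFun_inner hcf₁ hcf₂]
  have h0 : classInner (fun n : N => χ₁ n) (fun n : N => χ₂ n) = 0 :=
    irr_classInner_ne hirr₁ hirr₂ hne
  have h2 := (Cfsg.Agent.S0868.result N χ₂ h₂ hirr₂ χ₁ h₁ _ rfl).2.1 h0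
  exact congrFun h2 s

/-- The multiplication map `C_N(s) × ⟨s⟩ → Γ`. -/
def prodHom (N : Subgroup Γ) (s : Γ) : fixedSub N s × Subgroup.zpowers s →* Γ where
  toFun p := (p.1 : Γ) * (p.2 : Γ)
  map_one' := by simp
  map_mul' p q := by
    have h1 : Commute (q.1 : Γ) (p.2 : Γ) := by
      obtain ⟨k, hk⟩ := Subgroup.mem_zpowers_iff.mp p.2.2
      rw [← hk]
      exact (show Commute (q.1 : Γ) s from (mem_fixedSub.mp q.1.2).2).zpow_right k
    show ((p.1 * q.1 : fixedSub N s) : Γ) * ((p.2 * q.2 : Subgroup.zpowers s) : Γ) = _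
    push_cast
    calc (p.1 : Γ) * (q.1 : Γ) * ((p.2 : Γ) * (q.2 : Γ))
        = (p.1 : Γ) * ((q.1 : Γ) * (p.2 : Γ)) * (q.2 : Γ) := by group
      _ = (p.1 : Γ) * ((p.2 : Γ) * (q.1 : Γ)) * (q.2 : Γ) := by rw [h1.eq]
      _ = (p.1 : Γ) * (p.2 : Γ) * ((q.1 : Γ) * (q.2 : Γ)) := by group

omit [Fintype N] in
theorem exists_decomp {χh : Γ → ℂ} (hχ : IsCharacter Γ χh)
    {ξ : fixedSub N s → ℂ} (hξ : IsIrrCharacter (fixedSub N s) ξ) :
    ∃ (ι : Type u) (_ : Fintype ι) (m : ι → ℕ) (ω : ι → ℂ), (∀ i, ω i ^ orderOf s = 1) ∧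
      ∀ k : ℕ, classInner (fun c : fixedSub N s => χh ((c : Γ) * s ^ k)) ξ =
        ∑ i, (m i : ℂ) * ω i ^ k := by
  classical
  haveI : Fintype (Subgroup.zpowers s) := Fintype.ofFinite _
  haveI : Fintype (IrrCharacter (Subgroup.zpowers s)) := Fintype.ofFinite _
  have hcomm : ∀ a b : Subgroup.zpowers s, a * b = b * a := by
    intro a b
    obtain ⟨i, hi⟩ := Subgroup.mem_zpowers_iff.mp a.2
    obtain ⟨j, hj⟩ := Subgroup.mem_zpowers_iff.mp b.2
    apply Subtype.ext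
    show (a : Γ) * (b : Γ) = (b : Γ) * (a : Γ)
    rw [← hi, ← hj]
    exact zpow_mul_comm s i j
  set Ψ : fixedSub N s × Subgroup.zpowers s → ℂ := χh ∘ (prodHom N s) with hΨ
  have hΨc : IsCharacter (fixedSub N s × Subgroup.zpowers s) Ψ := isCharacter_comp _ hχ
  obtain ⟨m, hm⟩ := exists_nat_decomp hcomm Ψ hΨc ξ hξ
  set s₀ : Subgroup.zpowers s := ⟨s, Subgroup.mem_zpowers s⟩ with hs₀
  have hlin : ∀ (ψ : IrrCharacter (Subgroup.zpowers s)) (k : ℕ),
      (ψ : Subgroup.zpowers s → ℂ) (s₀ ^ k) = (ψ : Subgroup.zpowers s → ℂ) s₀ ^ k := by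
    intro ψ k
    have h1 : (ψ : Subgroup.zpowers s → ℂ) 1 = 1 := irr_apply_one_of_comm hcomm ψ
    have h2 := linearCharHom_apply (isCharacter_of_irr ψ.2) h1
    rw [← h2, ← h2, map_pow, Units.val_pow_eq_pow_val]
  refine ⟨IrrCharacter (Subgroup.zpowers s), inferInstance, m,
    fun ψ => (ψ : Subgroup.zpowers s → ℂ) s₀, fun ψ => ?_, fun k => ?_⟩
  · rw [← hlin]
    have h3 : s₀ ^ orderOf s = 1 := by
      apply Subtype.ext
      rw [Subgroup.coe_pow, Subgroup.coe_one]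
      exact pow_orderOf_eq_one s
    rw [h3]
    exact irr_apply_one_of_comm hcomm ψ
  · have h4 := hm (s₀ ^ k)
    have h5 : (fun c : fixedSub N s => Ψ (c, s₀ ^ k)) =
        fun c : fixedSub N s => χh ((c : Γ) * s ^ k) := by
      funext c
      rfl
    rw [h5] at h4
    rw [h4]
    refine Finset.sum_congr rfl fun ψ _ => ?_
    rw [hlin]

theorem CycSetup.cosetFun_inner_int (h : CycSetup N s) {χh : Γ → ℂ} (h₁ : IsIrrCharacter Γ χh)
    (hirr : IsIrrCharacter N (fun n : N => χh n))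
    (hd : (Cfsg.detOrder χh).Coprime (orderOf s))
    {ξ : fixedSub N s → ℂ} (hξ : IsIrrCharacter (fixedSub N s) ξ) :
    ∃ z : ℤ, classInner (cosetFun N s χh) ξ = z := by
  classical
  obtain ⟨ι, hι, m, ω, hω, hdec⟩ := exists_decomp (N := N) (s := s) (isCharacter_of_irr h₁) hξ
  have hn : 0 < orderOf s := orderOf_pos s
  have : NeZero (orderOf s) := ⟨hn.ne'⟩
  have hζ := Complex.isPrimitiveRoot_exp (orderOf s) hn.ne'
  set ζ := Complex.exp (2 * Real.pi * Complex.I / (orderOf s : ℂ)) with hζdef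
  have hj : ∀ i : ι, ∃ j : ℕ, ζ ^ j = ω i := by
    intro i
    obtain ⟨j, _, hj⟩ := hζ.eq_pow_of_pow_eq_one (hω i)
    exact ⟨j, hj⟩
  choose j hj using hj
  set M : Polynomial ℤ := ∑ i, Polynomial.C (m i : ℤ) * Polynomial.X ^ (j i) with hM
  apply int_of_const_on_primitiveRoots M (orderOf s) hn
  intro η hη
  obtain ⟨k, _, hk⟩ := hζ.eq_pow_of_pow_eq_one hη.pow_eq_one
  have hkcop : k.Coprime (orderOf s) := by
    rw [← hk] at hη
    exact (hζ.pow_iff_coprime hn k).mp hη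
  have h2 : classInner (cosetFun N s χh) ξ =
      classInner (fun c : fixedSub N s => χh ((c : Γ) * s ^ k)) ξ := by
    congr 1
    funext c
    exact (h.canonical_gen h₁ hirr hd hkcop c.2).symm
  rw [h2, hdec k, hM, map_sum]
  refine Finset.sum_congr rfl fun i _ => ?_
  rw [map_mul, Polynomial.aeval_C, map_pow, Polynomial.aeval_X, ← hj i, ← hk, ← pow_mul, ← pow_mul,
    mul_comm k (j i)]
  simp

end Cfsg.Agent.Lib.H24.Glaub
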