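import Cfsg.Agent.Lib.H24.GlaubCyclic2
import Cfsg.Agent.Lib.H24.CharPermLemma

/-!
# The cyclic Glauberman correspondence, part 3 (helper24)

* `CycSetup.exists_sign_irr`: `χh (c s) = ε β(c)` for a unique `β ∈ Irr(C_N(s))` and sign `ε`;
* `CycSetup.constituent`: `β` is a constituent of the restriction of `χh` to `C_N(s)`;
* `sign_irr_unique`, `CycSetup.injective`, `CycSetup.surjective`.
-/

set_option autoImplicit false

universe u

namespace Cfsg.Agent.Lib.H24.Glaub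

open Cfsg Cfsg.Agent.Lib.L0 Cfsg.Agent.Lib.H23 Cfsg.Agent.Lib.H8 Cfsg.Agent.Lib.H24
open scoped ComplexConjugate

variable {Γ : Type u} [Group Γ] [Fintype Γ] {N : Subgroup Γ} [hN : N.Normal] {s : Γ}
variable [Fintype N] [Fintype (fixedSub N s)]

theorem CycSetup.exists_sign_irr (h : CycSetup N s) {χh : Γ → ℂ} (h₁ : IsIrrCharacter Γ χh)
    (hirr : IsIrrCharacter N (fun n : N => χh n))
    (hd : (Cfsg.detOrder χh).Coprime (orderOf s)) :
    ∃ (β : IrrCharacter (fixedSub N s)) (ε : ℤ), (ε = 1 ∨ ε = -1) ∧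
      ∀ c : fixedSub N s, χh ((c : Γ) * s) = (ε : ℂ) * (β : fixedSub N s → ℂ) c := by
  classical
  haveI : Fintype (IrrCharacter (fixedSub N s)) := Fintype.ofFinite _
  have hcf : IsClassFunction (fixedSub N s) (cosetFun N s χh) :=
    cosetFun_isClassFunction (isClassFunction_of_isCharacter (isCharacter_of_irr h₁))
  have hint : ∀ ξ : IrrCharacter (fixedSub N s), ∃ z : ℤ,
      classInner (cosetFun N s χh) (ξ : fixedSub N s → ℂ) = z :=
    fun ξ => h.cosetFun_inner_int h₁ hirr hd ξ.2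
  choose z hz using hint
  have hexp := classFunction_expansion (cosetFun N s χh) hcf
  have hgen : IsGeneralizedCharacter (fixedSub N s) (cosetFun N s χh) := by
    rw [hexp]
    apply isGeneralizedCharacter_sum
    intro ξ _
    rw [hz ξ, Int.cast_smul_eq_zsmul]
    exact isGeneralizedCharacter_zsmul
      (isGeneralizedCharacter_of_isCharacter (isCharacter_of_irr ξ.2)) (z ξ)
  rcases genChar_norm_one hgen (h.cosetFun_norm h₁ hirr) with h2 | h2
  · refine ⟨⟨cosetFun N s χh, h2⟩, 1, Or.inl rfl, fun c => ?_⟩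
    show χh ((c : Γ) * s) = ((1 : ℤ) : ℂ) * cosetFun N s χh c
    rw [Int.cast_one, one_mul]
    rfl
  · refine ⟨⟨-cosetFun N s χh, h2⟩, -1, Or.inr rfl, fun c => ?_⟩
    show χh ((c : Γ) * s) = ((-1 : ℤ) : ℂ) * (-cosetFun N s χh) c
    rw [Pi.neg_apply]
    push_cast
    rw [neg_one_mul, neg_neg]
    rfl

omit [Fintype N] in
theorem constituent_of_sign {χh : Γ → ℂ} (h₁ : IsCharacter Γ χh)
    (β : IrrCharacter (fixedSub N s)) (ε : ℤ) (hε : ε = 1 ∨ ε = -1)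
    (hβ : ∀ c : fixedSub N s, χh ((c : Γ) * s) = (ε : ℂ) * (β : fixedSub N s → ℂ) c) :
    classInner (fun c : fixedSub N s => χh (c : Γ)) (β : fixedSub N s → ℂ) ≠ 0 := by
  classical
  obtain ⟨ι, hι, m, ω, hω, hdec⟩ := exists_decomp (N := N) (s := s) h₁ β.2
  have h1 := hdec 1
  have h2 : (fun c : fixedSub N s => χh ((c : Γ) * s ^ 1)) =
      (ε : ℂ) • (β : fixedSub N s → ℂ) := by
    funext c
    rw [pow_one, hβ c]
    rfl
  rw [h2, classInner_smul_left, irr_classInner_self β.2, mul_one] at h1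
  have hε0 : (ε : ℂ) ≠ 0 := by
    rcases hε with rfl | rfl <;> norm_num
  have h3 : ∃ i, m i ≠ 0 := by
    by_contra hno
    push Not at hno
    apply hε0
    rw [h1]
    apply Finset.sum_eq_zero
    intro i _
    rw [hno i, Nat.cast_zero, zero_mul]
  obtain ⟨i₀, hi₀⟩ := h3
  have h4 := hdec 0
  have h5 : (fun c : fixedSub N s => χh ((c : Γ) * s ^ 0)) =
      fun c : fixedSub N s => χh (c : Γ) := by
    funext c
    rw [pow_zero, mul_one]
  rw [h5] at h4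
  rw [h4]
  have h6 : ∑ i, (m i : ℂ) * ω i ^ 0 = ((∑ i, m i : ℕ) : ℂ) := by
    push_cast
    refine Finset.sum_congr rfl fun i _ => ?_
    rw [pow_zero, mul_one]
  rw [h6]
  have h7 : 0 < ∑ i, m i :=
    Finset.sum_pos' (fun i _ => Nat.zero_le _) ⟨i₀, Finset.mem_univ _, Nat.pos_of_ne_zero hi₀⟩
  exact_mod_cast h7.ne'

theorem sign_irr_unique {C : Type*} [Group C] [Finite C] (β β' : IrrCharacter C) (ε ε' : ℤ)
    (hε : ε = 1 ∨ ε = -1) (hε' : ε' = 1 ∨ ε' = -1)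
    (h : ∀ c : C, (ε : ℂ) * (β : C → ℂ) c = (ε' : ℂ) * (β' : C → ℂ) c) : β = β' ∧ ε = ε' := by
  obtain ⟨n, hn, hn1⟩ := irr_one_eq β
  obtain ⟨n', hn', hn1'⟩ := irr_one_eq β'
  have h1 := h 1
  rw [hn1, hn1'] at h1
  have h2 : ε * (n : ℤ) = ε' * (n' : ℤ) := by exact_mod_cast h1
  have hεε : ε = ε' := by
    rcases hε with rfl | rfl <;> rcases hε' with rfl | rfl
    · rfl
    · exfalso; omega
    · exfalso; omega
    · rfl
  refine ⟨?_, hεε⟩
  apply Subtype.ext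
  funext c
  have h3 := h c
  rw [hεε] at h3
  have hε0 : (ε' : ℂ) ≠ 0 := by
    rcases hε' with rfl | rfl <;> norm_num
  exact mul_left_cancel₀ hε0 h3

theorem CycSetup.injective (h : CycSetup N s) {χ₁ χ₂ : Γ → ℂ} (h₁ : IsIrrCharacter Γ χ₁)
    (h₂ : IsIrrCharacter Γ χ₂) (hirr₁ : IsIrrCharacter N (fun n : N => χ₁ n))
    (hirr₂ : IsIrrCharacter N (fun n : N => χ₂ n))
    (β : IrrCharacter (fixedSub N s)) (ε₁ ε₂ : ℤ) (hε₁ : ε₁ = 1 ∨ ε₁ = -1)
    (hε₂ : ε₂ = 1 ∨ ε₂ = -1)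
    (hβ₁ : ∀ c : fixedSub N s, χ₁ ((c : Γ) * s) = (ε₁ : ℂ) * (β : fixedSub N s → ℂ) c)
    (hβ₂ : ∀ c : fixedSub N s, χ₂ ((c : Γ) * s) = (ε₂ : ℂ) * (β : fixedSub N s → ℂ) c) :
    (fun n : N => χ₁ n) = fun n : N => χ₂ n := by
  by_contra hne
  have h0 := h.cosetFun_orth h₁ h₂ hirr₁ hirr₂ hne
  have e₁ : cosetFun N s χ₁ = (ε₁ : ℂ) • (β : fixedSub N s → ℂ) := by
    funext c
    exact hβ₁ c
  have e₂ : cosetFun N s χ₂ = (ε₂ : ℂ) • (β : fixedSub N s → ℂ) := by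
    funext c
    exact hβ₂ c
  rw [e₁, e₂, classInner_smul_left, classInner_smul_right, irr_classInner_self β.2, mul_one] at h0
  rcases hε₁ with rfl | rfl <;> rcases hε₂ with rfl | rfl <;> norm_num at h0

end Cfsg.Agent.Lib.H24.Glaub
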