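import Cfsg.Agent.Lib.H24.GlaubCyclic3

/-!
# The cyclic Glauberman correspondence, part 4: surjectivity (helper24)

* `CycSetup.exists_canonical`: an `s`-invariant irreducible character of `N` has a canonical
  extension to `Γ = N⟨s⟩`;
* `CycSetup.card_invariant`: the number of `s`-invariant irreducible characters of `N` is
  `|Irr(C_N(s))|`;
* `CycSetup.surjective`: every `β ∈ Irr(C_N(s))` comes from some canonical extension.
-/

set_option autoImplicit false

universe u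

namespace Cfsg.Agent.Lib.H24.Glaub

open Cfsg Cfsg.Agent.Lib.L0 Cfsg.Agent.Lib.H23 Cfsg.Agent.Lib.H8 Cfsg.Agent.Lib.H24
open scoped ComplexConjugate

variable {Γ : Type u} [Group Γ] [Fintype Γ] {N : Subgroup Γ} [hN : N.Normal] {s : Γ}

/-- `χ` is invariant under conjugation by `s`. -/
def SInv (N : Subgroup Γ) [hN : N.Normal] (s : Γ) (χ : N → ℂ) : Prop :=
  ∀ n : N, χ ⟨s * n * s⁻¹, hN.conj_mem n n.2 s⟩ = χ n

omit [Fintype Γ] in
theorem SInv.pow {χ : N → ℂ} (hinv : SInv N s χ) (k : ℕ) :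
    ∀ n : N, χ ⟨s ^ k * n * (s ^ k)⁻¹, hN.conj_mem n n.2 (s ^ k)⟩ = χ n := by
  induction k with
  | zero =>
    intro n
    congr 1
    apply Subtype.ext
    simp
  | succ k ih =>
    intro n
    rw [← ih n, ← hinv ⟨s ^ k * n * (s ^ k)⁻¹, hN.conj_mem n n.2 (s ^ k)⟩]
    congr 1
    apply Subtype.ext
    show s ^ (k + 1) * (n : Γ) * (s ^ (k + 1))⁻¹ = s * (s ^ k * (n : Γ) * (s ^ k)⁻¹) * s⁻¹
    rw [pow_succ']
    group

theorem CycSetup.exists_canonical (h : CycSetup N s) {χ : N → ℂ} (hχ : IsIrrCharacter N χ)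
    (hinv : SInv N s χ) :
    ∃ χh : Γ → ℂ, IsIrrCharacter Γ χh ∧ (∀ n : N, χh n = χ n) ∧
      (Cfsg.detOrder χh).Coprime (orderOf s) := by
  have hcf := isClassFunction_of_isCharacter (isCharacter_of_irr hχ)
  have hinv' : ∀ (g : Γ) (n : N), χ ⟨g * n * g⁻¹, hN.conj_mem (n : Γ) n.2 g⟩ = χ n := by
    intro g n
    obtain ⟨n₀, hn₀, k, rfl⟩ := h.gen g
    rw [← hinv.pow k n]
    have h1 := hcf ⟨s ^ k * n * (s ^ k)⁻¹, hN.conj_mem n n.2 (s ^ k)⟩ ⟨n₀, hn₀⟩
    rw [← h1]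
    congr 1
    apply Subtype.ext
    show n₀ * s ^ k * (n : Γ) * (n₀ * s ^ k)⁻¹ = n₀ * (s ^ k * (n : Γ) * (s ^ k)⁻¹) * n₀⁻¹
    group
  obtain ⟨d, _, hd, hdvd⟩ := irr_apply_one_dvd_card χ hχ
  have hdet : (Cfsg.detOrder χ).Coprime (orderOf s) :=
    Nat.Coprime.coprime_dvd_left (detOrder_dvd_card (isCharacter_of_irr hχ)) h.cop
  have hcop : Nat.Coprime N.index (Cfsg.detOrder χ * d) := by
    have h3 : Nat.Coprime (orderOf s) (Cfsg.detOrder χ * d) := by
      apply Nat.Coprime.mul_right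
      · exact hdet.symm
      · exact (Nat.Coprime.coprime_dvd_left hdvd h.cop).symm
    exact Nat.Coprime.coprime_dvd_left h.index_dvd h3
  obtain ⟨χ₀, ⟨h1, h2, h3⟩, _⟩ := exists_unique_extension_coprime N χ hχ hinv' d hd hcop
  exact ⟨χ₀, h1, h2, by rw [h3]; exact hdet⟩

theorem CycSetup.card_invariant (h : CycSetup N s) :
    Nat.card {χ : IrrCharacter N // SInv N s (χ : N → ℂ)} =
      Nat.card (IrrCharacter (fixedSub N s)) := by
  classical
  set τ : N → N := fun n => (MulAut.conjNormal s : N ≃* N) n with hτ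
  have hτapp : ∀ n : N, τ n = ⟨s * n * s⁻¹, hN.conj_mem n n.2 s⟩ := by
    intro n
    apply Subtype.ext
    exact MulAut.conjNormal_apply s n
  have hτirr : ∀ χ : IrrCharacter N, IsIrrCharacter N ((χ : N → ℂ) ∘ τ) := by
    intro χ
    exact isIrrCharacter_comp_of_surjective (MulAut.conjNormal s : N ≃* N).toMonoidHom
      (MulAut.conjNormal s : N ≃* N).surjective χ.2
  have h1 : Nat.card {χ : IrrCharacter N // SInv N s (χ : N → ℂ)} =
      Nat.card {χ : IrrCharacter N // (χ : N → ℂ) ∘ τ = (χ : N → ℂ)} := by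
    apply Nat.card_congr
    apply Equiv.subtypeEquivRight
    intro χ
    constructor
    · intro hinv
      funext n
      rw [Function.comp_apply, hτapp]
      exact hinv n
    · intro hc n
      rw [← hτapp]
      exact congrFun hc n
  rw [h1, perm_lemma τ hτirr, card_irr_eq_card_conjClasses]
  exact card_stable_classes h.cop

variable [Fintype N] [Fintype (fixedSub N s)]

theorem CycSetup.surjective (h : CycSetup N s) (β : IrrCharacter (fixedSub N s)) :
    ∃ (χh : Γ → ℂ) (ε : ℤ), IsIrrCharacter Γ χh ∧ IsIrrCharacter N (fun n : N => χh n) ∧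
      (Cfsg.detOrder χh).Coprime (orderOf s) ∧ (ε = 1 ∨ ε = -1) ∧
      ∀ c : fixedSub N s, χh ((c : Γ) * s) = (ε : ℂ) * (β : fixedSub N s → ℂ) c := by
  classical
  have hex : ∀ χ : {χ : IrrCharacter N // SInv N s (χ : N → ℂ)},
      ∃ (χh : Γ → ℂ) (β' : IrrCharacter (fixedSub N s)) (ε : ℤ), IsIrrCharacter Γ χh ∧
        (∀ n : N, χh n = (χ.1 : N → ℂ) n) ∧
        (Cfsg.detOrder χh).Coprime (orderOf s) ∧ (ε = 1 ∨ ε = -1) ∧
        ∀ c : fixedSub N s, χh ((c : Γ) * s) = (ε : ℂ) * (β' : fixedSub N s → ℂ) c := by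
    intro χ
    obtain ⟨χh, h1, h2, h3⟩ := h.exists_canonical χ.1.2 χ.2
    have hirr : IsIrrCharacter N (fun n : N => χh n) := by
      have : (fun n : N => χh n) = (χ.1 : N → ℂ) := funext h2
      rw [this]
      exact χ.1.2
    obtain ⟨β', ε, hε, hβ'⟩ := h.exists_sign_irr h1 hirr h3
    exact ⟨χh, β', ε, h1, h2, h3, hε, hβ'⟩
  choose χh β' ε h1 h2 h3 hε hβ' using hex
  have hinj : Function.Injective β' := by
    intro χ₁ χ₂ h12
    have hirr₁ : IsIrrCharacter N (fun n : N => χh χ₁ n) := by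
      have : (fun n : N => χh χ₁ n) = (χ₁.1 : N → ℂ) := funext (h2 χ₁)
      rw [this]
      exact χ₁.1.2
    have hirr₂ : IsIrrCharacter N (fun n : N => χh χ₂ n) := by
      have : (fun n : N => χh χ₂ n) = (χ₂.1 : N → ℂ) := funext (h2 χ₂)
      rw [this]
      exact χ₂.1.2
    have h4 := h.injective (h1 χ₁) (h1 χ₂) hirr₁ hirr₂ (β' χ₁) (ε χ₁) (ε χ₂) (hε χ₁) (hε χ₂)
      (hβ' χ₁) (by rw [h12]; exact hβ' χ₂)
    apply Subtype.ext
    apply Subtype.ext
    funext n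
    rw [← h2 χ₁ n, ← h2 χ₂ n]
    exact congrFun h4 n
  have hbij : Function.Bijective β' :=
    hinj.bijective_of_nat_card_le (le_of_eq h.card_invariant.symm)
  obtain ⟨χ, hχ⟩ := hbij.2 β
  refine ⟨χh χ, ε χ, h1 χ, ?_, h3 χ, hε χ, ?_⟩
  · have : (fun n : N => χh χ n) = (χ.1 : N → ℂ) := funext (h2 χ)
    rw [this]
    exact χ.1.2
  · rw [← hχ]
    exact hβ' χ

end Cfsg.Agent.Lib.H24.Glaub
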