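import Cfsg.Agent.Lib.H24.GlaubCyclic5

/-!
# Coset values of a Galois-stable extension at arbitrary elements (helper24)

A version of the first half of the cyclic Glauberman correspondence in which the element `x` need
not generate `Γ` modulo `N`: if `χh` is an irreducible character of `Γ` with irreducible restriction
to `N ⊴ Γ`, `(|N|, o(x)) = 1` and `χh (c x ^ k) = χh (c x)` for `c ∈ C_N(x)` and `k` coprime to
`o(x)`, then `c ↦ χh (c x)` is `±` an irreducible character of `C_N(x)`.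
-/

set_option autoImplicit false

universe u

namespace Cfsg.Agent.Lib.H24.Glaub

open Cfsg Cfsg.Agent.Lib.L0 Cfsg.Agent.Lib.H23 Cfsg.Agent.Lib.H8 Cfsg.Agent.Lib.H24
open scoped ComplexConjugate

theorem exists_coprime_lift {d t k : ℕ} (hdt : d ∣ t) (ht : t ≠ 0) (hk : k.Coprime d) :
    ∃ k' : ℕ, k'.Coprime t ∧ k' ≡ k [MOD d] := by
  have : NeZero t := ⟨ht⟩
  obtain ⟨u, hu⟩ := ZMod.unitsMap_surjective hdt (ZMod.unitOfCoprime k hk)
  refine ⟨(u : ZMod t).val, ZMod.val_coe_unit_coprime u, ?_⟩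
  rw [← ZMod.natCast_eq_natCast_iff]
  have h1 : ((ZMod.unitsMap hdt u : (ZMod d)ˣ) : ZMod d) = (k : ZMod d) := by
    rw [hu, ZMod.coe_unitOfCoprime]
  rw [← h1, ZMod.natCast_val]
  rfl

variable {Γ : Type u} [Group Γ]

theorem exists_exponent_gen [Finite Γ] (N : Subgroup Γ) {x : Γ} {t : ℕ}
    (hcard : Nat.card Γ ∣ Nat.card N * t) (hNt : (Nat.card N).Coprime t)
    (hxt : orderOf x ∣ t) (ht : t ≠ 0) {k : ℕ} (hk : k.Coprime (orderOf x)) :
    ∃ m : ℕ, m.Coprime (Nat.card Γ) ∧ m ≡ 1 [MOD Nat.card N] ∧ m ≡ k [MOD orderOf x] := by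
  obtain ⟨k', hk', hkk⟩ := exists_coprime_lift hxt ht hk
  obtain ⟨m, hm1, hm2⟩ := Nat.chineseRemainder hNt 1 k'
  refine ⟨m, ?_, hm1, (hm2.of_dvd hxt).trans hkk⟩
  apply Nat.Coprime.coprime_dvd_right hcard
  apply Nat.Coprime.mul_right
  · have h1 : Nat.gcd m (Nat.card N) = Nat.gcd 1 (Nat.card N) := hm1.gcd_eq
    rw [Nat.Coprime, h1, Nat.gcd_one_left]
  · have h1 : Nat.gcd m t = Nat.gcd k' t := hm2.gcd_eq
    rw [Nat.Coprime, h1]
    exact hk'

theorem canonical_gen_gen [Fintype Γ] {N : Subgroup Γ} [N.Normal] {x : Γ} {t : ℕ} {χh : Γ → ℂ}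
    (hcard : Nat.card Γ ∣ Nat.card N * t) (hNt : (Nat.card N).Coprime t)
    (hxt : orderOf x ∣ t) (ht : t ≠ 0)
    (hgal : ∀ m : ℕ, m.Coprime (Nat.card Γ) → m ≡ 1 [MOD Nat.card N] →
      ∀ y : Γ, χh (y ^ m) = χh y)
    {k : ℕ} (hk : k.Coprime (orderOf x)) {c : Γ} (hc : c ∈ fixedSub N x) :
    χh (c * x ^ k) = χh (c * x) := by
  obtain ⟨m, hm, hm1, hm2⟩ := exists_exponent_gen N hcard hNt hxt ht hk
  rw [mem_fixedSub] at hc
  have h2 : (c * x) ^ m = c * x ^ k := by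
    rw [(show Commute c x from hc.2).mul_pow, pow_eq_self_of_modEq hc.1 hm1]
    congr 1
    exact pow_eq_pow_iff_modEq.mpr hm2
  rw [← h2]
  exact hgal m hm hm1 (c * x)

variable [Fintype Γ] {N : Subgroup Γ} [hN : N.Normal] {x : Γ}
variable [Fintype N] [Fintype (fixedSub N x)]

theorem cosetFun_inner_gen (hcop : (Nat.card N).Coprime (orderOf x)) {χ₁ χ₂ : Γ → ℂ}
    (h₁ : IsClassFunction Γ χ₁) (h₂ : IsClassFunction Γ χ₂) :
    classInner (cosetFun N x χ₁) (cosetFun N x χ₂) =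
      (Nat.card N : ℂ)⁻¹ * ∑ n : N, χ₁ ((n : Γ) * x) * conj (χ₂ ((n : Γ) * x)) := by
  have hx : x ∈ Subgroup.normalizer (N : Set Γ) := by
    rw [Subgroup.normalizer_eq_top]
    trivial
  have h3 := coset_sum hx hcop (fun y => χ₁ y * conj (χ₂ y))
    (fun x _ y => by rw [h₁ y x, h₂ y x])
  have hC : (Nat.card (fixedSub N x) : ℂ) ≠ 0 :=
    Nat.cast_ne_zero.mpr (Nat.card_pos (α := fixedSub N x)).ne'
  have hNn : (Nat.card N : ℂ) ≠ 0 := Nat.cast_ne_zero.mpr (Nat.card_pos (α := N)).ne'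
  unfold classInner cosetFun
  field_simp
  linear_combination (-1 : ℂ) * h3

theorem cosetFun_norm_gen (hcop : (Nat.card N).Coprime (orderOf x)) {χh : Γ → ℂ}
    (h₁ : IsIrrCharacter Γ χh) (hirr : IsIrrCharacter N (fun n : N => χh n)) :
    classInner (cosetFun N x χh) (cosetFun N x χh) = 1 := by
  have hcf := isClassFunction_of_isCharacter (isCharacter_of_irr h₁)
  rw [cosetFun_inner_gen hcop hcf hcf]
  have h2 := (Cfsg.Agent.S0868.result N χh h₁ hirr χh h₁ _ rfl).2.2 rfl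
  exact congrFun h2 x

omit [Fintype N] in
theorem cosetFun_inner_int_gen {χh : Γ → ℂ} (h₁ : IsCharacter Γ χh)
    (hgen : ∀ k : ℕ, k.Coprime (orderOf x) → ∀ c ∈ fixedSub N x, χh (c * x ^ k) = χh (c * x))
    {ξ : fixedSub N x → ℂ} (hξ : IsIrrCharacter (fixedSub N x) ξ) :
    ∃ z : ℤ, classInner (cosetFun N x χh) ξ = z := by
  classical
  obtain ⟨ι, hι, m, ω, hω, hdec⟩ := exists_decomp (N := N) (s := x) h₁ hξ
  have hn : 0 < orderOf x := orderOf_pos x
  have : NeZero (orderOf x) := ⟨hn.ne'⟩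
  have hζ := Complex.isPrimitiveRoot_exp (orderOf x) hn.ne'
  set ζ := Complex.exp (2 * Real.pi * Complex.I / (orderOf x : ℂ)) with hζdef
  have hj : ∀ i : ι, ∃ j : ℕ, ζ ^ j = ω i := by
    intro i
    obtain ⟨j, _, hj⟩ := hζ.eq_pow_of_pow_eq_one (hω i)
    exact ⟨j, hj⟩
  choose j hj using hj
  set M : Polynomial ℤ := ∑ i, Polynomial.C (m i : ℤ) * Polynomial.X ^ (j i) with hM
  apply int_of_const_on_primitiveRoots M (orderOf x) hn
  intro η hη
  obtain ⟨k, _, hk⟩ := hζ.eq_pow_of_pow_eq_one hη.pow_eq_one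
  have hkcop : k.Coprime (orderOf x) := by
    rw [← hk] at hη
    exact (hζ.pow_iff_coprime hn k).mp hη
  have h2 : classInner (cosetFun N x χh) ξ =
      classInner (fun c : fixedSub N x => χh ((c : Γ) * x ^ k)) ξ := by
    congr 1
    funext c
    exact (hgen k hkcop c c.2).symm
  rw [h2, hdec k, hM, map_sum]
  refine Finset.sum_congr rfl fun i _ => ?_
  rw [map_mul, Polynomial.aeval_C, map_pow, Polynomial.aeval_X, ← hj i, ← hk, ← pow_mul, ← pow_mul,
    mul_comm k (j i)]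
  simp

theorem exists_sign_irr_gen (hcop : (Nat.card N).Coprime (orderOf x)) {χh : Γ → ℂ}
    (h₁ : IsIrrCharacter Γ χh) (hirr : IsIrrCharacter N (fun n : N => χh n))
    (hgen : ∀ k : ℕ, k.Coprime (orderOf x) → ∀ c ∈ fixedSub N x, χh (c * x ^ k) = χh (c * x)) :
    ∃ (β : IrrCharacter (fixedSub N x)) (ε : ℤ), (ε = 1 ∨ ε = -1) ∧
      ∀ c : fixedSub N x, χh ((c : Γ) * x) = (ε : ℂ) * (β : fixedSub N x → ℂ) c := by
  classical
  have : Fintype (IrrCharacter (fixedSub N x)) := Fintype.ofFinite _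
  have hcf : IsClassFunction (fixedSub N x) (cosetFun N x χh) :=
    cosetFun_isClassFunction (isClassFunction_of_isCharacter (isCharacter_of_irr h₁))
  have hint : ∀ ξ : IrrCharacter (fixedSub N x), ∃ z : ℤ,
      classInner (cosetFun N x χh) (ξ : fixedSub N x → ℂ) = z :=
    fun ξ => cosetFun_inner_int_gen (isCharacter_of_irr h₁) hgen ξ.2
  choose z hz using hint
  have hexp := classFunction_expansion (cosetFun N x χh) hcf
  have hgenc : IsGeneralizedCharacter (fixedSub N x) (cosetFun N x χh) := by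
    rw [hexp]
    apply isGeneralizedCharacter_sum
    intro ξ _
    rw [hz ξ, Int.cast_smul_eq_zsmul]
    exact isGeneralizedCharacter_zsmul
      (isGeneralizedCharacter_of_isCharacter (isCharacter_of_irr ξ.2)) (z ξ)
  rcases genChar_norm_one hgenc (cosetFun_norm_gen hcop h₁ hirr) with h2 | h2
  · refine ⟨⟨cosetFun N x χh, h2⟩, 1, Or.inl rfl, fun c => ?_⟩
    show χh ((c : Γ) * x) = ((1 : ℤ) : ℂ) * cosetFun N x χh c
    rw [Int.cast_one, one_mul]
    rfl
  · refine ⟨⟨-cosetFun N x χh, h2⟩, -1, Or.inr rfl, fun c => ?_⟩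
    show χh ((c : Γ) * x) = ((-1 : ℤ) : ℂ) * (-cosetFun N x χh) c
    rw [Pi.neg_apply]
    push_cast
    rw [neg_one_mul, neg_neg]
    rfl

omit [Fintype (fixedSub N x)] in
/-- The same with the fixed-point subgroup given as an arbitrary `C`. -/
theorem exists_sign_irr_gen' (C : Subgroup Γ) [Fintype C] (hC : fixedSub N x = C)
    (hcop : (Nat.card N).Coprime (orderOf x)) {χh : Γ → ℂ}
    (h₁ : IsIrrCharacter Γ χh) (hirr : IsIrrCharacter N (fun n : N => χh n))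
    (hgen : ∀ k : ℕ, k.Coprime (orderOf x) → ∀ c ∈ C, χh (c * x ^ k) = χh (c * x)) :
    ∃ (β : IrrCharacter C) (ε : ℤ), (ε = 1 ∨ ε = -1) ∧
      ∀ c : C, χh ((c : Γ) * x) = (ε : ℂ) * (β : C → ℂ) c := by
  subst hC
  exact exists_sign_irr_gen hcop h₁ hirr hgen

end Cfsg.Agent.Lib.H24.Glaub
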