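import Cfsg.Agent.Lib.H24.GlaubFPF1

/-!
# Counting lemmas for the fixed-point-free cyclic action (helper24)

* `int_config`: integers `m i` (`i` in a type with `n ≥ 2` elements) with
  `n ∑ m i ^ 2 = (∑ m i) ^ 2 + N`, `0 ≤ N ≤ n - 1`: either all `m i` are equal (and `N = 0`), or
  `N = n - 1` and all but one are equal, the last one differing by `ε = ± 1`;
* `parseval_nat`: `[∑ m ψ ψ, ∑ m ψ ψ] = ∑ (m ψ) ^ 2`;
* `card_irr_of_comm`, `sum_irr_apply_of_ne_one` for commutative groups.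
-/

set_option autoImplicit false

universe u

namespace Cfsg.Agent.Lib.H24.Glaub

open Cfsg Cfsg.Agent.Lib.L0 Cfsg.Agent.Lib.H23 Cfsg.Agent.Lib.H8 Cfsg.Agent.Lib.H24
open scoped ComplexConjugate

theorem exists_unique_one {ι : Type*} [Fintype ι] [DecidableEq ι] (u : ι → ℤ)
    (hu : ∀ i, u i = 0 ∨ u i = 1) (hs : ∑ i, u i = 1) :
    ∃ i₀, u i₀ = 1 ∧ ∀ i, i ≠ i₀ → u i = 0 := by
  have h1 : ∃ i₀, u i₀ = 1 := by
    by_contra hno
    push Not at hno
    have : ∑ i, u i = 0 := Finset.sum_eq_zero (fun i _ => (hu i).resolve_right (hno i))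
    omega
  obtain ⟨i₀, hi₀⟩ := h1
  refine ⟨i₀, hi₀, fun i hi => ?_⟩
  have h2 := Finset.add_sum_erase Finset.univ u (Finset.mem_univ i₀)
  rw [hs, hi₀] at h2
  have h3 : ∑ j ∈ Finset.univ.erase i₀, u j = 0 := by omega
  have h4 := (Finset.sum_eq_zero_iff_of_nonneg
    (fun j _ => by rcases hu j with h | h <;> omega)).mp h3
  exact h4 i (Finset.mem_erase.mpr ⟨hi, Finset.mem_univ _⟩)

theorem int_config {ι : Type*} [Fintype ι] [DecidableEq ι] (m : ι → ℤ) (n N : ℤ)
    (hn : (Fintype.card ι : ℤ) = n) (hn2 : 2 ≤ n) (hN0 : 0 ≤ N) (hN : N ≤ n - 1)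
    (hid : n * ∑ i, m i ^ 2 = (∑ i, m i) ^ 2 + N) :
    (N = 0 ∧ ∀ i, n * m i = ∑ j, m j) ∨
    (N = n - 1 ∧ ∃ (i₀ : ι) (ε : ℤ), (ε = 1 ∨ ε = -1) ∧
      ∀ i, n * m i = (∑ j, m j) - ε + (if i = i₀ then n * ε else 0)) := by
  obtain ⟨e, he⟩ : ∃ e, e = ∑ j, m j := ⟨_, rfl⟩
  rw [← he] at hid ⊢
  obtain ⟨q, hq⟩ : ∃ q, q = (-e) / n := ⟨_, rfl⟩
  obtain ⟨r, hr⟩ : ∃ r, r = (-e) % n := ⟨_, rfl⟩
  have hqr : n * q + r = -e := by rw [hq, hr]; exact Int.mul_ediv_add_emod (-e) n
  have hr0 : 0 ≤ r := by rw [hr]; exact Int.emod_nonneg _ (by omega)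
  have hrn : r < n := by rw [hr]; exact Int.emod_lt_of_pos _ (by omega)
  obtain ⟨t, ht⟩ : ∃ t : ι → ℤ, t = fun i => -(m i + q) := ⟨_, rfl⟩
  have ht' : ∀ i, m i = -q - t i := fun i => by rw [ht]; ring
  have hsum_t : ∑ i, t i = r := by
    rw [ht]
    simp only [Finset.sum_neg_distrib, Finset.sum_add_distrib, Finset.sum_const, Finset.card_univ,
      nsmul_eq_mul]
    rw [hn, ← he]
    linarith
  have hsum_t2 : n * ∑ i, t i ^ 2 = r ^ 2 + N := by
    have h1 : ∑ i, t i ^ 2 = ∑ i, m i ^ 2 + 2 * q * e + n * q ^ 2 := by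
      rw [ht]
      have h2 : ∀ i, (-(m i + q)) ^ 2 = m i ^ 2 + 2 * q * m i + q ^ 2 := fun i => by ring
      simp only [h2, Finset.sum_add_distrib, ← Finset.mul_sum, Finset.sum_const, Finset.card_univ,
        nsmul_eq_mul, hn]
      rw [he]
    have h3 : r = -e - n * q := by linarith
    rw [h1, h3]
    linear_combination hid
  have hsum_ge : r ≤ ∑ i, t i ^ 2 := by
    rw [← hsum_t]
    exact Finset.sum_le_sum (fun i _ => Int.le_self_sq (t i))
  rcases eq_or_lt_of_le hr0 with hr00 | hrpos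
  · left
    have h1 : n * ∑ i, t i ^ 2 = N := by rw [hsum_t2, ← hr00]; ring
    have h2 : 0 ≤ ∑ i, t i ^ 2 := Finset.sum_nonneg (fun i _ => sq_nonneg _)
    have h3 : ∑ i, t i ^ 2 = 0 := by nlinarith
    have h4 : ∀ i, t i = 0 := by
      intro i
      have h5 := (Finset.sum_eq_zero_iff_of_nonneg (fun j _ => sq_nonneg (t j))).mp h3 i
        (Finset.mem_univ i)
      exact (pow_eq_zero_iff two_ne_zero).mp h5
    refine ⟨by rw [← h1, h3, mul_zero], fun i => ?_⟩
    rw [ht' i, h4 i]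
    linear_combination (-1 : ℤ) * hqr - hr00
  · right
    have hr1 : 1 ≤ r := hrpos
    have hkey : 0 ≤ (r - 1) * (n - 1 - r) := mul_nonneg (by omega) (by omega)
    have hle : n * r ≤ r ^ 2 + N := by
      rw [← hsum_t2]
      exact mul_le_mul_of_nonneg_left hsum_ge (by omega)
    have hNeq : N = n - 1 := by nlinarith
    have hr_cases : r = 1 ∨ r = n - 1 := by
      have h1 : (r - 1) * (n - 1 - r) = 0 := by nlinarith
      rcases mul_eq_zero.mp h1 with h | h
      · left; omega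
      · right; omega
    have hsum_eq : ∑ i, t i ^ 2 = r := by
      have h1 : n * ∑ i, t i ^ 2 = n * r := by
        rw [hsum_t2, hNeq]
        rcases hr_cases with h | h <;> rw [h] <;> ring
      exact mul_left_cancel₀ (by omega) h1
    have ht01 : ∀ i, t i = 0 ∨ t i = 1 := by
      have h0 : ∑ i, (t i ^ 2 - t i) = 0 := by
        rw [Finset.sum_sub_distrib, hsum_eq, hsum_t, sub_self]
      intro i
      have h4 := (Finset.sum_eq_zero_iff_of_nonneg
        (fun j _ => sub_nonneg.mpr (Int.le_self_sq (t j)))).mp h0 i (Finset.mem_univ i)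
      have h5 : t i * (t i - 1) = 0 := by linear_combination h4
      rcases mul_eq_zero.mp h5 with h | h
      · left; exact h
      · right; omega
    refine ⟨hNeq, ?_⟩
    rcases hr_cases with h1 | h1
    · obtain ⟨i₀, hi₀, hoth⟩ := exists_unique_one t ht01 (by rw [hsum_t, h1])
      refine ⟨i₀, -1, Or.inr rfl, fun i => ?_⟩
      by_cases hi : i = i₀
      · rw [if_pos hi, hi, ht' i₀, hi₀]
        linear_combination (-1 : ℤ) * hqr + h1
      · rw [if_neg hi, ht' i, hoth i hi]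
        linear_combination (-1 : ℤ) * hqr + h1
    · obtain ⟨i₀, hi₀, hoth⟩ := exists_unique_one (fun i => 1 - t i)
        (fun i => by rcases ht01 i with h | h <;> simp [h])
        (by
          rw [Finset.sum_sub_distrib, hsum_t, h1]
          simp only [Finset.sum_const, Finset.card_univ, nsmul_eq_mul, mul_one]
          rw [hn]
          ring)
      have hi₀' : t i₀ = 0 := by
        have : 1 - t i₀ = 1 := hi₀
        omega
      refine ⟨i₀, 1, Or.inl rfl, fun i => ?_⟩
      by_cases hi : i = i₀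
      · rw [if_pos hi, hi, ht' i₀, hi₀']
        linear_combination (-1 : ℤ) * hqr + h1
      · have h5 : t i = 1 := by
          have : 1 - t i = 0 := hoth i hi
          omega
        rw [if_neg hi, ht' i, h5]
        linear_combination (-1 : ℤ) * hqr + h1

variable {S : Type u} [Group S] [Fintype S] [Fintype (IrrCharacter S)]

theorem classInner_sum_irr (m : IrrCharacter S → ℂ) (φ : IrrCharacter S) :
    classInner (∑ ψ : IrrCharacter S, m ψ • (ψ : S → ℂ)) (φ : S → ℂ) = m φ := by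
  classical
  rw [classInner_sum_left]
  rw [Finset.sum_eq_single φ]
  · rw [classInner_smul_left, irr_classInner_self φ.2, mul_one]
  · intro ψ _ hne
    rw [classInner_smul_left, irr_classInner_ne ψ.2 φ.2 (fun h => hne (Subtype.ext h)), mul_zero]
  · intro h
    exact absurd (Finset.mem_univ φ) h

theorem parseval_nat (m : IrrCharacter S → ℕ) :
    classInner (∑ ψ : IrrCharacter S, (m ψ : ℂ) • (ψ : S → ℂ))
      (∑ ψ : IrrCharacter S, (m ψ : ℂ) • (ψ : S → ℂ)) = ∑ ψ : IrrCharacter S, (m ψ : ℂ) ^ 2 := by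
  classical
  rw [classInner_sum_right]
  refine Finset.sum_congr rfl fun φ _ => ?_
  rw [classInner_smul_right, classInner_sum_irr (fun ψ => (m ψ : ℂ)) φ, Complex.conj_natCast, sq]

theorem card_irr_of_comm (hcomm : ∀ a b : S, a * b = b * a) :
    Fintype.card (IrrCharacter S) = Nat.card S := by
  have h1 := sum_irr_one_sq (G := S)
  have h2 : ∑ χ : IrrCharacter S, (χ : S → ℂ) 1 ^ 2 = (Fintype.card (IrrCharacter S) : ℂ) := by
    rw [Finset.sum_congr rfl (fun χ _ => by rw [irr_apply_one_of_comm hcomm χ, one_pow])]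
    simp
  rw [h2] at h1
  exact_mod_cast h1

theorem sum_irr_apply_of_ne_one (hcomm : ∀ a b : S, a * b = b * a) {x : S} (hx : x ≠ 1) :
    ∑ ψ : IrrCharacter S, (ψ : S → ℂ) x = 0 := by
  classical
  have h1 := second_orthogonality (G := S) x 1
  rw [if_neg (fun h => hx (isConj_one_left.mp h))] at h1
  rw [← h1]
  refine Finset.sum_congr rfl fun ψ _ => ?_
  rw [irr_apply_one_of_comm hcomm ψ, map_one, mul_one]

end Cfsg.Agent.Lib.H24.Glaub
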