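import Cfsg.Agent.Lib.H24.GlaubOver1

/-!
# Equivariance of the `p`-group Glauberman correspondence (helper24)

Setting of `GlaubSolv1`: `S` normalises `G`; `Q ≤ S` a `p`-group, `p ∤ |G|`; `K` centralises `G`;
every `S`-conjugate of an element of `Q` lies in `K Q`; `B = C_G(Q)`.
* `step_inv_down`: `χ ∈ Irr_S(G)`, `p ∤ [χ_B, ψ]` ⟹ `ψ` is `S`-invariant;
* `step_inv_up`: `χ ∈ Irr_Q(G)`, `ψ ∈ Irr_S(B)`, `p ∤ [χ_B, ψ]` ⟹ `χ` is `S`-invariant.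
-/

set_option autoImplicit false

universe u

namespace Cfsg.Agent.Lib.H24.Glaub

open Cfsg Cfsg.Agent.Lib.L0 Cfsg.Agent.Lib.H23 Cfsg.Agent.Lib.H8 Cfsg.Agent.Lib.H24

variable {Γ : Type u} [Group Γ] [Fintype Γ]

variable {p : ℕ} {G S Q K B : Subgroup Γ} [Fintype B]

theorem step_inv_down (hp : p.Prime) (hnorm : ∀ s ∈ S, ∀ g ∈ G, s * g * s⁻¹ ∈ G)
    (hQS : Q ≤ S) (hQ : IsPGroup p Q) (hpG : ¬ p ∣ Nat.card G)
    (hK : ∀ k ∈ K, ∀ g ∈ G, k * g * k⁻¹ = g)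
    (hP : ∀ x ∈ S, ∀ q ∈ Q, ∃ k ∈ K, ∃ q' ∈ Q, x * q * x⁻¹ = k * q')
    (hB : B = G ⊓ Subgroup.centralizer (Q : Set Γ)) (hBG : B ≤ G)
    (χ : IrrCharacter G) (hχ : ∀ s ∈ S, InvUnder G s (χ : G → ℂ)) (ψ : IrrCharacter B)
    (hψ : ¬ p ∣ resMult hBG (χ : G → ℂ) (ψ : B → ℂ)) :
    ∀ s ∈ S, InvUnder B s (ψ : B → ℂ) := by
  classical
  have corr := pgroup_corr hp (Nat.card Q) G Q B rfl (fun q hq => hnorm q (hQS hq)) hQ hpG hB hBG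
  have hSB := step_norm hnorm hK hP hB
  intro x hx
  obtain ⟨ψ₀, ε, hε, h⟩ := corr.exists_corr χ (fun q hq => hχ q (hQS hq))
  have e0 : ψ = ψ₀ := GCorr.eq_of_not_dvd h hψ
  have hxB := hSB x hx
  have hxB' := inv_norm_of_norm hxB
  rw [invUnder_iff_comp B x hxB hxB']
  have h2 : ¬ p ∣ resMult hBG (χ : G → ℂ) ((irrPerm (conjN B x hxB hxB') ψ : IrrCharacter B) :
      B → ℂ) := by
    show ¬ p ∣ resMult hBG (χ : G → ℂ) ((ψ : B → ℂ) ∘ conjN B x hxB hxB')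
    rw [resMult_conj_right hBG hxB hxB' (hχ x hx)]
    exact hψ
  have e1 := GCorr.eq_of_not_dvd h h2
  rw [← e0] at e1
  exact congrArg Subtype.val e1

theorem step_inv_up (hp : p.Prime) (hnorm : ∀ s ∈ S, ∀ g ∈ G, s * g * s⁻¹ ∈ G)
    (hQS : Q ≤ S) (hQ : IsPGroup p Q) (hpG : ¬ p ∣ Nat.card G)
    (hK : ∀ k ∈ K, ∀ g ∈ G, k * g * k⁻¹ = g)
    (hP : ∀ x ∈ S, ∀ q ∈ Q, ∃ k ∈ K, ∃ q' ∈ Q, x * q * x⁻¹ = k * q')
    (hB : B = G ⊓ Subgroup.centralizer (Q : Set Γ)) (hBG : B ≤ G)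
    (χ : IrrCharacter G) (hχ : ∀ q ∈ Q, InvUnder G q (χ : G → ℂ)) (ψ : IrrCharacter B)
    (hψ : ∀ s ∈ S, InvUnder B s (ψ : B → ℂ))
    (hχψ : ¬ p ∣ resMult hBG (χ : G → ℂ) (ψ : B → ℂ)) :
    ∀ s ∈ S, InvUnder G s (χ : G → ℂ) := by
  classical
  have corr := pgroup_corr hp (Nat.card Q) G Q B rfl (fun q hq => hnorm q (hQS hq)) hQ hpG hB hBG
  have hSB := step_norm hnorm hK hP hB
  intro x hx
  have hxG := hnorm x hx
  have hxG' := inv_norm_of_norm hxG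
  have hxB := hSB x hx
  have hxB' := inv_norm_of_norm hxB
  set χx : IrrCharacter G := irrPerm (conjN G x hxG hxG') χ with hχx
  have hχxQ : ∀ q ∈ Q, InvUnder G q (χx : G → ℂ) := by
    intro q hq g g' hgg'
    obtain ⟨k, hk, q', hq', hkq⟩ := hP x hx q hq
    show (χ : G → ℂ) (conjN G x hxG hxG' g') = (χ : G → ℂ) (conjN G x hxG hxG' g)
    apply hχ q' hq'
    rw [conjN_apply, conjN_apply, hgg']
    have h1 : x * (q * (g : Γ) * q⁻¹) * x⁻¹ =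
        (x * q * x⁻¹) * (x * (g : Γ) * x⁻¹) * (x * q * x⁻¹)⁻¹ := by group
    rw [h1, hkq]
    have h2 : q' * (x * (g : Γ) * x⁻¹) * q'⁻¹ ∈ G :=
      hnorm q' (hQS hq') _ (hxG g g.2)
    have h3 := hK k hk _ h2
    calc k * q' * (x * (g : Γ) * x⁻¹) * (k * q')⁻¹
        = k * (q' * (x * (g : Γ) * x⁻¹) * q'⁻¹) * k⁻¹ := by group
      _ = q' * (x * (g : Γ) * x⁻¹) * q'⁻¹ := h3
  have hχxψ : ¬ p ∣ resMult hBG (χx : G → ℂ) (ψ : B → ℂ) := by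
    have h3 : (ψ : B → ℂ) = (ψ : B → ℂ) ∘ (conjN B x hxB hxB') :=
      ((invUnder_iff_comp B x hxB hxB' _).mp (hψ x hx)).symm
    have h4 : resMult hBG (χx : G → ℂ) (ψ : B → ℂ) = resMult hBG (χ : G → ℂ) (ψ : B → ℂ) := by
      conv_lhs => rw [h3]
      exact resMult_conj_both hBG hxG hxG' hxB hxB' _ _
    rw [h4]
    exact hχψ
  have e1 : χx = χ := corr.inj χx χ hχxQ hχ ψ hχxψ hχψ
  rw [invUnder_iff_comp G x hxG hxG']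
  exact congrArg Subtype.val e1

end Cfsg.Agent.Lib.H24.Glaub
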