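import Cfsg.Agent.Lib.H24.GlaubOver2

/-!
# Glauberman correspondence and lying over (Isaacs 13.29 for `p`-groups) (helper24)

`Q` a `p`-group normalising `G` and `N ⊴ G`, `p ∤ |G|`, `B = C_G(Q)`, `D = C_N(Q)`.  For
`χ ∈ Irr_Q(G)` with correspondent `β ∈ Irr(B)` and `θ ∈ Irr_Q(N)` with correspondent
`ξ ∈ Irr(D)`:
* `over_forward`: `θ` under `χ` ⟹ `ξ` under `β`;
* `over_backward`: `ξ` under `β` ⟹ `θ` under `χ`.
-/

set_option autoImplicit false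

universe u

namespace Cfsg.Agent.Lib.H24.Glaub

open Cfsg Cfsg.Agent.Lib.L0 Cfsg.Agent.Lib.H23 Cfsg.Agent.Lib.H8 Cfsg.Agent.Lib.H24

variable {Γ : Type u} [Group Γ] [Fintype Γ]

variable {p : ℕ} {G N Q B D : Subgroup Γ} [Fintype G] [Fintype N] [Fintype B] [Fintype D]

theorem over_forward (hp : p.Prime) (hQG : ∀ q ∈ Q, ∀ g ∈ G, q * g * q⁻¹ ∈ G)
    (hQN : ∀ q ∈ Q, ∀ n ∈ N, q * n * q⁻¹ ∈ N) (hNG : N ≤ G)
    (hNn : ∀ g ∈ G, ∀ n ∈ N, g * n * g⁻¹ ∈ N) (hQ : IsPGroup p Q) (hpG : ¬ p ∣ Nat.card G)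
    (hB : B = G ⊓ Subgroup.centralizer (Q : Set Γ))
    (hD : D = N ⊓ Subgroup.centralizer (Q : Set Γ)) (hBG : B ≤ G) (hDN : D ≤ N) (hDB : D ≤ B)
    (χ : IrrCharacter G) (hχ : ∀ q ∈ Q, InvUnder G q (χ : G → ℂ))
    (θ₁ : IrrCharacter N) (hθ₁ : ∀ q ∈ Q, InvUnder N q (θ₁ : N → ℂ))
    (hover : resMult hNG (χ : G → ℂ) (θ₁ : N → ℂ) ≠ 0)
    (β : IrrCharacter B) (hβ : ¬ p ∣ resMult hBG (χ : G → ℂ) (β : B → ℂ))
    (ξ₁ : IrrCharacter D) (hξ₁ : ¬ p ∣ resMult hDN (θ₁ : N → ℂ) (ξ₁ : D → ℂ)) :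
    resMult hDB (β : B → ℂ) (ξ₁ : D → ℂ) ≠ 0 := by
  classical
  letI : Fintype (IrrCharacter N) := Fintype.ofFinite _
  letI : Fintype (IrrCharacter B) := Fintype.ofFinite _
  have hpN : ¬ p ∣ Nat.card N := fun h => hpG (h.trans (Subgroup.card_dvd_of_le hNG))
  have corrG := pgroup_corr hp (Nat.card Q) G Q B rfl hQG hQ hpG hB hBG
  have corrN := pgroup_corr hp (Nat.card Q) N Q D rfl hQN hQ hpN hD hDN
  have hχc := isCharacter_of_irr χ.2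
  have ha := resMult_trans hBG hDB hχc ξ₁.2
  have hb := resMult_trans hNG hDN hχc ξ₁.2
  have hmm : (resMult (hDB.trans hBG) (χ : G → ℂ) (ξ₁ : D → ℂ) : ℤ) =
      (resMult (hDN.trans hNG) (χ : G → ℂ) (ξ₁ : D → ℂ) : ℤ) := rfl
  -- (b): the sum over `Irr(N)` is not divisible by `p`
  set f : IrrCharacter N → ℤ := fun φ =>
    (resMult hNG (χ : G → ℂ) (φ : N → ℂ) : ℤ) * (resMult hDN (φ : N → ℂ) (ξ₁ : D → ℂ) : ℤ)
    with hf
  have hDc : ∀ c ∈ D, ∀ q ∈ Q, q * c * q⁻¹ = c := by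
    intro c hc q hq
    rw [hD, Subgroup.mem_inf, Subgroup.mem_centralizer_iff] at hc
    rw [hc.2 q hq]
    group
  have hfinv : ∀ (q : Q) (φ : IrrCharacter N), f ((irrAct N Q hQN).smul q φ) = f φ := by
    intro q φ
    have hq' : (q : Γ)⁻¹ ∈ Q := Q.inv_mem q.2
    show (resMult hNG (χ : G → ℂ) (((irrAct N Q hQN).smul q φ : IrrCharacter N) : N → ℂ) : ℤ) *
      (resMult hDN (((irrAct N Q hQN).smul q φ : IrrCharacter N) : N → ℂ) (ξ₁ : D → ℂ) : ℤ) = _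
    rw [irrAct_smul_coe,
      resMult_conj_right hNG (hQN _ hq') (inv_norm_of_norm (hQN _ hq')) (hχ _ hq'),
      resMult_conj_left hDN (hQN _ hq') (inv_norm_of_norm (hQN _ hq'))
        (fun c hc => hDc c hc _ hq')]
  have h1 := sum_irr_modEq N Q hQN hp hQ f hfinv
  have h2 : (p : ℤ) ∣ (∑ φ : IrrCharacter N,
      (if ∀ q ∈ Q, InvUnder N q (φ : N → ℂ) then f φ else 0)) - f θ₁ := by
    have h3 : (∑ φ : IrrCharacter N,
        (if ∀ q ∈ Q, InvUnder N q (φ : N → ℂ) then f φ else 0)) - f θ₁ =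
        ∑ φ ∈ Finset.univ.erase θ₁,
          (if ∀ q ∈ Q, InvUnder N q (φ : N → ℂ) then f φ else 0) := by
      rw [Finset.sum_erase_eq_sub (Finset.mem_univ θ₁), if_pos hθ₁]
    rw [h3]
    apply Finset.dvd_sum
    intro φ hφ
    have hne : φ ≠ θ₁ := Finset.ne_of_mem_erase hφ
    by_cases hinv : ∀ q ∈ Q, InvUnder N q (φ : N → ℂ)
    · rw [if_pos hinv]
      have h4 : p ∣ resMult hDN (φ : N → ℂ) (ξ₁ : D → ℂ) := by
        by_contra h5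
        exact hne (corrN.inj φ θ₁ hinv hθ₁ ξ₁ h5 hξ₁)
      exact Dvd.dvd.mul_left (Int.natCast_dvd_natCast.mpr h4) _
    · rw [if_neg hinv]
      exact dvd_zero _
  have hpe : ¬ p ∣ resMult hNG (χ : G → ℂ) (θ₁ : N → ℂ) := by
    intro h
    have h3 := resMult_dvd_charDegree hNG hNn χ θ₁ hover
    have h4 : charDegree (χ : G → ℂ) ∣ Nat.card G :=
      Cfsg.Agent.Lib.H23.charDegree_dvd_card _ χ.2
    exact hpG (h.trans (h3.trans h4))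
  have hpf : ¬ (p : ℤ) ∣ f θ₁ := by
    intro h
    have h3 : p ∣ resMult hNG (χ : G → ℂ) (θ₁ : N → ℂ) *
        resMult hDN (θ₁ : N → ℂ) (ξ₁ : D → ℂ) := by
      have : (p : ℤ) ∣ ((resMult hNG (χ : G → ℂ) (θ₁ : N → ℂ) *
          resMult hDN (θ₁ : N → ℂ) (ξ₁ : D → ℂ) : ℕ) : ℤ) := by
        push_cast
        exact h
      exact Int.natCast_dvd_natCast.mp this
    rcases (Nat.Prime.dvd_mul hp).mp h3 with h4 | h4
    · exact hpe h4
    · exact hξ₁ h4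
  have hpm : ¬ (p : ℤ) ∣ (resMult (hDN.trans hNG) (χ : G → ℂ) (ξ₁ : D → ℂ) : ℤ) := by
    intro h
    rw [hb] at h
    have h3 : (p : ℤ) ∣ (∑ φ : IrrCharacter N,
        (if ∀ q ∈ Q, InvUnder N q (φ : N → ℂ) then f φ else 0)) :=
      (Int.ModEq.dvd_iff h1).mp h
    have h4 := dvd_sub h3 h2
    rw [sub_sub_cancel] at h4
    exact hpf h4
  -- (a)
  intro h0
  apply hpm
  rw [← hmm, ha]
  obtain ⟨β₀, ε, hε, h⟩ := corrG.exists_corr χ hχ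
  have e0 : β = β₀ := GCorr.eq_of_not_dvd h hβ
  apply Finset.dvd_sum
  intro ψ _
  by_cases hψ : ψ = β
  · rw [hψ, h0, Nat.cast_zero, mul_zero]
    exact dvd_zero _
  · have h3 := h ψ
    rw [if_neg (fun h' => hψ (h'.trans e0.symm))] at h3
    exact Dvd.dvd.mul_right (Int.natCast_dvd_natCast.mpr (dvd_of_dvd_sub_zero h3)) _

end Cfsg.Agent.Lib.H24.Glaub
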