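import Cfsg.Agent.Lib.H24.GlaubCyclic5
import Cfsg.Agent.Lib.L0.PRegCongP

/-!
# The cyclic Glauberman correspondence for a `p`-element (helper24)

`CycSetup.congr_pElement`: if `s` is a `p`-element, `p ∤ |N|`, and `χh (c s) = ε β(c)` on `C = C_N(s)`,
then `[χh|_C, ξ] ≡ ε [β, ξ] (mod p)` for every `ξ ∈ Irr(C)` (Isaacs 13.14).
-/

set_option autoImplicit false

universe u

namespace Cfsg.Agent.Lib.H24.Glaub

open Cfsg Cfsg.Agent.Lib.L0 Cfsg.Agent.Lib.H23 Cfsg.Agent.Lib.H8 Cfsg.Agent.Lib.H24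
open scoped ComplexConjugate

variable {Γ : Type u} [Group Γ] [Fintype Γ] {N : Subgroup Γ} {s : Γ}
variable [Fintype (fixedSub N s)]

theorem congr_pElement {p : ℕ} (hp : p.Prime) (hs : ∃ a : ℕ, orderOf s = p ^ a)
    (hpN : ¬ p ∣ Nat.card N) {χh : Γ → ℂ} (h₁ : IsCharacter Γ χh)
    (β : IrrCharacter (fixedSub N s)) (ε : ℤ)
    (hβ : ∀ c : fixedSub N s, χh ((c : Γ) * s) = (ε : ℂ) * (β : fixedSub N s → ℂ) c)
    (ξ : IrrCharacter (fixedSub N s)) :
    ∃ m : ℕ, classInner (fun c : fixedSub N s => χh (c : Γ)) (ξ : fixedSub N s → ℂ) = m ∧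
      (p : ℤ) ∣ (m : ℤ) - ε * (if ξ = β then 1 else 0) := by
  classical
  obtain ⟨M, hM⟩ := Cfsg.Agent.Lib.L0.PRegP.exists_isPModular hp
  haveI hP : M.IsPrime := isPrime_of_isPModular hM
  have hres : IsCharacter (fixedSub N s) (fun c : fixedSub N s => χh (c : Γ)) :=
    isCharacter_restrict (fixedSub N s) h₁
  obtain ⟨m, hm⟩ := classInner_char_irr_nat hres ξ.2
  refine ⟨m, hm, ?_⟩
  rw [← intCast_memLocalIdeal_iff hM]
  -- the difference as an inner product
  have hδ : classInner (β : fixedSub N s → ℂ) (ξ : fixedSub N s → ℂ) =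
      if ξ = β then 1 else 0 := by
    by_cases hξβ : ξ = β
    · rw [if_pos hξβ, hξβ]
      exact irr_classInner_self β.2
    · rw [if_neg hξβ]
      exact irr_classInner_ne β.2 ξ.2 (fun h => hξβ (Subtype.ext h.symm))
  have h2 : (((m : ℤ) - ε * (if ξ = β then 1 else 0) : ℤ) : ℂ) =
      classInner ((fun c : fixedSub N s => χh (c : Γ)) - (ε : ℂ) • (β : fixedSub N s → ℂ))
        (ξ : fixedSub N s → ℂ) := by
    rw [classInner_sub_left, classInner_smul_left, hm, hδ]
    push_cast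
    split_ifs <;> simp
  rw [h2]
  unfold classInner
  have hCdvd : Nat.card (fixedSub N s) ∣ Nat.card N :=
    Subgroup.card_dvd_of_le (fixedSub_le N s)
  have hpC : ¬ p ∣ Nat.card (fixedSub N s) := fun h => hpN (h.trans hCdvd)
  apply memLocalIdeal_mul_left (memLocalRing_inv_natCast hM hpC)
  apply memLocalIdeal_sum
  intro c _
  apply memLocalIdeal_mul_right
  · -- `χh c - ε β c = χh c - χh (c s)`
    simp only [Pi.sub_apply, Pi.smul_apply, smul_eq_mul]
    rw [← hβ c]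
    have hcs : (c : Γ) * s = s * (c : Γ) := (mem_fixedSub.mp c.2).2
    have hord : ¬ p ∣ orderOf (c : Γ) := by
      intro h
      apply hpN
      have h3 : orderOf (c : Γ) ∣ Nat.card N := by
        have h4 : orderOf (⟨(c : Γ), fixedSub_le N s c.2⟩ : N) ∣ Nat.card N := orderOf_dvd_natCard _
        rwa [Subgroup.orderOf_mk] at h4
      exact h.trans h3
    have hpp : IsPPart p (s * (c : Γ)) s := ⟨(c : Γ), rfl, hcs.symm, hs, hord⟩
    have h5 := Cfsg.Agent.Lib.L0.PReg.char_ppart_congr hM h₁ hpp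
    have h6 : s⁻¹ * (s * (c : Γ)) = (c : Γ) := by group
    rw [h6, ← hcs] at h5
    have h7 := memLocalIdeal_neg h5
    rw [neg_sub] at h7
    exact h7
  · exact mem_localRing.mp (isIntegral_mem_localRing (isIntegral_conj (irr_isIntegral ξ c)))

end Cfsg.Agent.Lib.H24.Glaub
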