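import Cfsg.Agent.Lib.H24.GlaubCls

/-!
# One step of the solvable Glauberman count (helper24)

Setting: `S` normalises `G`; `Q ≤ S` a `p`-group, `p ∤ |G|`; `K` centralises `G`; every
`S`-conjugate of an element of `Q` lies in `K Q`; `B = C_G(Q)`.  Then
* `step_norm`: `S` normalises `B`;
* `step_card_irr`: `|Irr_S(G)| = |Irr_S(B)|`;
* `step_card_cls`: the numbers of `S`-invariant classes of `G` and of `B` agree.
-/

set_option autoImplicit false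

universe u

namespace Cfsg.Agent.Lib.H24.Glaub

open Cfsg Cfsg.Agent.Lib.L0 Cfsg.Agent.Lib.H23 Cfsg.Agent.Lib.H8 Cfsg.Agent.Lib.H24
open scoped ComplexConjugate

variable {Γ : Type u} [Group Γ] [Fintype Γ]

/-- A class of `G` is invariant under conjugation by the elements of `S` (statement form). -/
def ClsInv (G S : Subgroup Γ) (cl : ConjClasses G) : Prop :=
  ∀ s ∈ S, ∀ g g' : G, (g' : Γ) = s * g * s⁻¹ → ConjClasses.mk g = cl → ConjClasses.mk g' = cl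

theorem resMult_conj_both {G B : Subgroup Γ} [Fintype B] (hBG : B ≤ G) {x : Γ}
    (hxG : ∀ g ∈ G, x * g * x⁻¹ ∈ G) (hxG' : ∀ g ∈ G, x⁻¹ * g * x ∈ G)
    (hxB : ∀ b ∈ B, x * b * x⁻¹ ∈ B) (hxB' : ∀ b ∈ B, x⁻¹ * b * x ∈ B) (χ : G → ℂ) (ψ : B → ℂ) :
    resMult hBG (χ ∘ conjN G x hxG hxG') (ψ ∘ conjN B x hxB hxB') = resMult hBG χ ψ := by
  unfold resMult
  have h2 : res hBG (χ ∘ conjN G x hxG hxG') = (res hBG χ) ∘ (conjN B x hxB hxB') := rfl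
  rw [h2, classInner_comp_equiv]

section Step

variable {p : ℕ} {G S Q K B : Subgroup Γ}

theorem step_norm (hnorm : ∀ s ∈ S, ∀ g ∈ G, s * g * s⁻¹ ∈ G)
    (hK : ∀ k ∈ K, ∀ g ∈ G, k * g * k⁻¹ = g)
    (hP : ∀ x ∈ S, ∀ q ∈ Q, ∃ k ∈ K, ∃ q' ∈ Q, x * q * x⁻¹ = k * q')
    (hB : B = G ⊓ Subgroup.centralizer (Q : Set Γ)) :
    ∀ x ∈ S, ∀ b ∈ B, x * b * x⁻¹ ∈ B := by
  intro x hx b hb
  rw [hB, Subgroup.mem_inf, Subgroup.mem_centralizer_iff] at hb ⊢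
  refine ⟨hnorm x hx b hb.1, fun q hq => ?_⟩
  obtain ⟨k, hk, q', hq', hkq⟩ := hP x⁻¹ (S.inv_mem hx) q hq
  rw [inv_inv] at hkq
  have h1 : k * b = b * k := by
    have := hK k hk b hb.1
    calc k * b = k * b * k⁻¹ * k := by group
      _ = b * k := by rw [this]
  have h2 : q' * b = b * q' := hb.2 q' hq'
  have h3 : x⁻¹ * q * x * b = b * (x⁻¹ * q * x) := by
    rw [hkq]
    calc k * q' * b = k * (q' * b) := by group
      _ = k * (b * q') := by rw [h2]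
      _ = k * b * q' := by group
      _ = b * k * q' := by rw [h1]
      _ = b * (k * q') := by group
  calc q * (x * b * x⁻¹) = x * (x⁻¹ * q * x * b) * x⁻¹ := by group
    _ = x * (b * (x⁻¹ * q * x)) * x⁻¹ := by rw [h3]
    _ = x * b * x⁻¹ * q := by group

variable [Fintype B]

theorem step_card_irr (hp : p.Prime) (hnorm : ∀ s ∈ S, ∀ g ∈ G, s * g * s⁻¹ ∈ G)
    (hQS : Q ≤ S) (hQ : IsPGroup p Q) (hpG : ¬ p ∣ Nat.card G)
    (hK : ∀ k ∈ K, ∀ g ∈ G, k * g * k⁻¹ = g)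
    (hP : ∀ x ∈ S, ∀ q ∈ Q, ∃ k ∈ K, ∃ q' ∈ Q, x * q * x⁻¹ = k * q')
    (hB : B = G ⊓ Subgroup.centralizer (Q : Set Γ)) (hBG : B ≤ G) :
    Nat.card {χ : IrrCharacter G // ∀ s ∈ S, InvUnder G s (χ : G → ℂ)} =
      Nat.card {ψ : IrrCharacter B // ∀ s ∈ S, InvUnder B s (ψ : B → ℂ)} := by
  classical
  have corr := pgroup_corr hp (Nat.card Q) G Q B rfl (fun q hq => hnorm q (hQS hq)) hQ hpG hB hBG
  have hSB := step_norm hnorm hK hP hB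
  -- (B1)
  have b1 : ∀ χ : IrrCharacter G, (∀ s ∈ S, InvUnder G s (χ : G → ℂ)) → ∀ ψ : IrrCharacter B,
      ¬ p ∣ resMult hBG (χ : G → ℂ) (ψ : B → ℂ) → ∀ s ∈ S, InvUnder B s (ψ : B → ℂ) := by
    intro χ hχ ψ hψ x hx
    obtain ⟨ψ₀, ε, hε, h⟩ := corr.exists_corr χ (fun q hq => hχ q (hQS hq))
    have e0 : ψ = ψ₀ := GCorr.eq_of_not_dvd h hψ
    have hxB := hSB x hx
    have hxB' := inv_norm_of_norm hxB
    rw [invUnder_iff_comp B x hxB hxB']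
    have h2 : ¬ p ∣ resMult hBG (χ : G → ℂ) ((irrPerm (conjN B x hxB hxB') ψ : IrrCharacter B) :
        B → ℂ) := by
      show ¬ p ∣ resMult hBG (χ : G → ℂ) ((ψ : B → ℂ) ∘ conjN B x hxB hxB')
      rw [resMult_conj_right hBG hxB hxB' (hχ x hx)]
      exact hψ
    have e1 := GCorr.eq_of_not_dvd h h2
    rw [← e0] at e1
    exact congrArg Subtype.val e1
  -- (B2)
  have b2 : ∀ χ : IrrCharacter G, (∀ q ∈ Q, InvUnder G q (χ : G → ℂ)) → ∀ ψ : IrrCharacter B,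
      (∀ s ∈ S, InvUnder B s (ψ : B → ℂ)) → ¬ p ∣ resMult hBG (χ : G → ℂ) (ψ : B → ℂ) →
      ∀ s ∈ S, InvUnder G s (χ : G → ℂ) := by
    intro χ hχ ψ hψ hχψ x hx
    have hxG := hnorm x hx
    have hxG' := inv_norm_of_norm hxG
    have hxB := hSB x hx
    have hxB' := inv_norm_of_norm hxB
    set χx : IrrCharacter G := irrPerm (conjN G x hxG hxG') χ with hχx
    have hχxQ : ∀ q ∈ Q, InvUnder G q (χx : G → ℂ) := by
      intro q hq g g' hgg'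
      obtain ⟨k, hk, q', hq', hkq⟩ := hP x hx q hq
      show (χ : G → ℂ) (conjN G x hxG hxG' g') = (χ : G → ℂ) (conjN G x hxG hxG' g)
      apply hχ q' hq'
      rw [conjN_apply, conjN_apply, hgg']
      have h1 : x * (q * (g : Γ) * q⁻¹) * x⁻¹ =
          (x * q * x⁻¹) * (x * (g : Γ) * x⁻¹) * (x * q * x⁻¹)⁻¹ := by group
      rw [h1, hkq]
      have h2 : q' * (x * (g : Γ) * x⁻¹) * q'⁻¹ ∈ G :=
        hnorm q' (hQS hq') _ (hxG g g.2)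
      have h3 := hK k hk _ h2
      calc k * q' * (x * (g : Γ) * x⁻¹) * (k * q')⁻¹
          = k * (q' * (x * (g : Γ) * x⁻¹) * q'⁻¹) * k⁻¹ := by group
        _ = q' * (x * (g : Γ) * x⁻¹) * q'⁻¹ := h3
    have hχxψ : ¬ p ∣ resMult hBG (χx : G → ℂ) (ψ : B → ℂ) := by
      have h3 : (ψ : B → ℂ) = (ψ : B → ℂ) ∘ (conjN B x hxB hxB') :=
        ((invUnder_iff_comp B x hxB hxB' _).mp (hψ x hx)).symm
      have h4 : resMult hBG (χx : G → ℂ) (ψ : B → ℂ) = resMult hBG (χ : G → ℂ) (ψ : B → ℂ) := by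
        conv_lhs => rw [h3]
        exact resMult_conj_both hBG hxG hxG' hxB hxB' _ _
      rw [h4]
      exact hχψ
    have e1 : χx = χ := corr.inj χx χ hχxQ hχ ψ hχxψ hχψ
    rw [invUnder_iff_comp G x hxG hxG']
    exact congrArg Subtype.val e1
  -- the map
  have hex : ∀ χ : {χ : IrrCharacter G // ∀ s ∈ S, InvUnder G s (χ : G → ℂ)},
      ∃ ψ : {ψ : IrrCharacter B // ∀ s ∈ S, InvUnder B s (ψ : B → ℂ)},
        ¬ p ∣ resMult hBG (χ.1 : G → ℂ) (ψ.1 : B → ℂ) := by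
    intro χ
    obtain ⟨ψ₀, ε, hε, h⟩ := corr.exists_corr χ.1 (fun q hq => χ.2 q (hQS hq))
    have h1 : ¬ p ∣ resMult hBG (χ.1 : G → ℂ) (ψ₀ : B → ℂ) := by
      have h2 := h ψ₀
      rw [if_pos rfl] at h2
      exact not_dvd_of_dvd_sub_sign hp hε h2
    exact ⟨⟨ψ₀, b1 χ.1 χ.2 ψ₀ h1⟩, h1⟩
  choose F hF using hex
  apply Nat.card_eq_of_bijective F
  constructor
  · intro χ χ' hχχ'
    apply Subtype.ext
    have h1 := hF χ'
    rw [← hχχ'] at h1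
    exact corr.inj χ.1 χ'.1 (fun q hq => χ.2 q (hQS hq)) (fun q hq => χ'.2 q (hQS hq))
      (F χ).1 (hF χ) h1
  · intro ψ
    obtain ⟨χ, hχQ, hχψ⟩ := corr.surj ψ.1
    have hχS := b2 χ hχQ ψ.1 ψ.2 hχψ
    refine ⟨⟨χ, hχS⟩, ?_⟩
    apply Subtype.ext
    obtain ⟨ψ₀, ε, hε, h⟩ := corr.exists_corr χ hχQ
    have e1 : (F ⟨χ, hχS⟩).1 = ψ₀ := GCorr.eq_of_not_dvd h (hF ⟨χ, hχS⟩)
    have e2 : ψ.1 = ψ₀ := GCorr.eq_of_not_dvd h hχψ
    rw [e1, e2]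

end Step

end Cfsg.Agent.Lib.H24.Glaub
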