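import Cfsg.Agent.Lib.H24.GlaubSolv1

/-!
# One step of the solvable Glauberman count: conjugacy classes (helper24)
-/

set_option autoImplicit false

universe u

namespace Cfsg.Agent.Lib.H24.Glaub

open Cfsg

variable {Γ : Type u} [Group Γ] [Fintype Γ]

variable {p : ℕ} {G S Q K B : Subgroup Γ}

theorem step_card_cls (hp : p.Prime) (hnorm : ∀ s ∈ S, ∀ g ∈ G, s * g * s⁻¹ ∈ G)
    (hQS : Q ≤ S) (hQ : IsPGroup p Q) (hpG : ¬ p ∣ Nat.card G)
    (hSB : ∀ x ∈ S, ∀ b ∈ B, x * b * x⁻¹ ∈ B)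
    (hB : B = G ⊓ Subgroup.centralizer (Q : Set Γ)) (hBG : B ≤ G) :
    Nat.card {cl : ConjClasses G // ClsInv G S cl} =
      Nat.card {cl : ConjClasses B // ClsInv B S cl} := by
  classical
  haveI : Fact p.Prime := ⟨hp⟩
  have hnormQ : ∀ q ∈ Q, ∀ g ∈ G, q * g * q⁻¹ ∈ G := fun q hq => hnorm q (hQS hq)
  have hBmem : ∀ x : Γ, x ∈ B ↔ x ∈ G ∧ ∀ q ∈ Q, q * x * q⁻¹ = x := by
    intro x
    rw [hB, Subgroup.mem_inf, Subgroup.mem_centralizer_iff]
    refine and_congr Iff.rfl ?_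
    constructor
    · intro h q hq
      rw [h q hq]; group
    · intro h q hq
      calc q * x = q * x * q⁻¹ * q := by group
        _ = x * q := by rw [h q hq]
  set ι : B →* G := Subgroup.inclusion hBG with hι
  -- conjugacy in `G` of elements of `B` descends to `B`
  have hdesc : ∀ b b' : B, IsConj (ι b) (ι b') → IsConj b b' := by
    intro b b' h
    obtain ⟨x, hx⟩ := isConj_iff.mp h
    have hx' : (x : Γ) * (b : Γ) * (x : Γ)⁻¹ = (b' : Γ) := congrArg Subtype.val hx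
    obtain ⟨y, hyG, hyQ, hyb⟩ := exists_conj_of_conj hQ hnormQ hpG
      ((hBmem b).mp b.2).2 ((hBmem b').mp b'.2).2 x.2 hx'
    rw [isConj_iff]
    exact ⟨⟨y, (hBmem y).mpr ⟨hyG, hyQ⟩⟩, Subtype.ext hyb⟩
  symm
  have hwd : ∀ (cl : ConjClasses B), ClsInv B S cl → ClsInv G S (ConjClasses.map ι cl) := by
    intro cl
    induction cl using Quotient.inductionOn with | _ b => ?_
    intro hcl s hs g g' hgg' hg
    show ConjClasses.mk g' = ConjClasses.mk (ι b)
    have hg' : IsConj g (ι b) := ConjClasses.mk_eq_mk_iff_isConj.mp hg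
    obtain ⟨y, hy⟩ := isConj_iff.mp hg'
    have hy' : (y : Γ) * (g : Γ) * (y : Γ)⁻¹ = (b : Γ) := congrArg Subtype.val hy
    set b₂ : B := ⟨s * b * s⁻¹, hSB s hs b b.2⟩ with hb₂
    have h1 : ConjClasses.mk b₂ = ConjClasses.mk b := hcl s hs b b₂ rfl rfl
    have h2 : IsConj (ι b₂) (ι b) := ι.map_isConj (ConjClasses.mk_eq_mk_iff_isConj.mp h1)
    rw [ConjClasses.mk_eq_mk_iff_isConj]
    refine IsConj.trans ?_ h2
    rw [isConj_iff]
    refine ⟨⟨s * y * s⁻¹, hnorm s hs y y.2⟩, ?_⟩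
    apply Subtype.ext
    show s * (y : Γ) * s⁻¹ * (g' : Γ) * (s * (y : Γ) * s⁻¹)⁻¹ = s * (b : Γ) * s⁻¹
    rw [hgg', ← hy']
    group
  refine Nat.card_eq_of_bijective
    (fun cl : {cl : ConjClasses B // ClsInv B S cl} =>
      (⟨ConjClasses.map ι cl.1, hwd cl.1 cl.2⟩ : {cl : ConjClasses G // ClsInv G S cl})) ⟨?_, ?_⟩
  · rintro ⟨cl, hcl⟩ ⟨cl', hcl'⟩ h
    apply Subtype.ext
    have h1 : ConjClasses.map ι cl = ConjClasses.map ι cl' := congrArg Subtype.val h
    induction cl using Quotient.inductionOn with | _ b => ?_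
    induction cl' using Quotient.inductionOn with | _ b' => ?_
    have h2 : ConjClasses.mk (ι b) = ConjClasses.mk (ι b') := h1
    exact ConjClasses.mk_eq_mk_iff_isConj.mpr
      (hdesc b b' (ConjClasses.mk_eq_mk_iff_isConj.mp h2))
  · rintro ⟨cl, hcl⟩
    induction cl using Quotient.inductionOn with | _ g => ?_
    have hstab : ∀ q ∈ Q, ∀ g' : G, (g' : Γ) = q * g * q⁻¹ → IsConj g' g := by
      intro q hq g' hgg'
      exact ConjClasses.mk_eq_mk_iff_isConj.mp (hcl q (hQS hq) g g' hgg' rfl)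
    obtain ⟨x, hx⟩ := exists_conj_mem_centralizer hQ hnormQ hpG g hstab
    set b : B := ⟨((x * g * x⁻¹ : G) : Γ), (hBmem _).mpr ⟨(x * g * x⁻¹ : G).2, hx⟩⟩ with hb
    have hιb : ι b = x * g * x⁻¹ := Subtype.ext rfl
    have hbg : IsConj (ι b) g := by
      rw [hιb]
      exact (isConj_iff.mpr ⟨x, rfl⟩).symm
    have hclb : ClsInv B S (ConjClasses.mk b) := by
      intro s hs c c' hcc' hc
      have h1 : IsConj (ι c) (ι b) := ι.map_isConj (ConjClasses.mk_eq_mk_iff_isConj.mp hc)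
      have h2 : ConjClasses.mk (ι c) = (Quotient.mk _ g : ConjClasses G) :=
        ConjClasses.mk_eq_mk_iff_isConj.mpr (h1.trans hbg)
      have h3 := hcl s hs (ι c) (ι c') hcc' h2
      have h4 : IsConj (ι c') (ι b) :=
        (ConjClasses.mk_eq_mk_iff_isConj.mp h3).trans hbg.symm
      exact ConjClasses.mk_eq_mk_iff_isConj.mpr (hdesc c' b h4)
    refine ⟨⟨ConjClasses.mk b, hclb⟩, ?_⟩
    apply Subtype.ext
    show ConjClasses.mk (ι b) = (Quotient.mk _ g : ConjClasses G)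
    exact ConjClasses.mk_eq_mk_iff_isConj.mpr hbg

end Cfsg.Agent.Lib.H24.Glaub
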