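import Cfsg.Agent.Lib.H24.GlaubSolv2
import Cfsg.Agent.Lib.H20.Solvable

/-!
# Group theory for the solvable Glauberman count (helper24)

`exists_pgroup_step`: `S` finite solvable, `K ⊴ S` proper; then there are a prime `p` dividing
`|S : K|` and a `p`-subgroup `Q ≤ S`, `Q ⊄ K`, such that `K Q ⊴ S`.
-/

set_option autoImplicit false

universe u

namespace Cfsg.Agent.Lib.H24.Glaub

open scoped Pointwise

theorem exists_pgroup_step_type {T : Type*} [Group T] [Finite T] [Group.IsSolvable T]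
    (K : Subgroup T) [hKn : K.Normal] (hK : K ≠ ⊤) :
    ∃ (p : ℕ) (Q : Subgroup T), p.Prime ∧ IsPGroup p Q ∧ ¬ Q ≤ K ∧ p ∣ K.index ∧
      (K ⊔ Q).Normal := by
  classical
  haveI : Nontrivial (T ⧸ K) := by
    rw [← Finite.one_lt_card_iff_nontrivial, ← Subgroup.index_eq_card]
    have h1 : K.index ≠ 1 := fun h => hK (Subgroup.index_eq_one.mp h)
    have h2 : K.index ≠ 0 := Subgroup.index_ne_zero_of_finite
    omega
  obtain ⟨p, M, hp, hMn, hM1, hMp⟩ :=
    Cfsg.Agent.Lib.H20.exists_normal_pGroup_of_solvable (G := T ⧸ K)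
  haveI : Fact p.Prime := ⟨hp⟩
  set π : T →* T ⧸ K := QuotientGroup.mk' K with hπ
  have hπs : Function.Surjective π := QuotientGroup.mk'_surjective K
  set P : Subgroup T := M.comap π with hP
  haveI hPn : P.Normal := hMn.comap π
  have hKP : K ≤ P := by
    intro k hk
    rw [hP, Subgroup.mem_comap]
    have : π k = 1 := (QuotientGroup.eq_one_iff k).mpr hk
    rw [this]
    exact M.one_mem
  have hmapP : P.map π = M := Subgroup.map_comap_eq_self_of_surjective hπs M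
  -- index of `K` in `P`
  obtain ⟨a, ha⟩ := IsPGroup.iff_card.mp hMp
  have hKrel : K.relIndex P = p ^ a := by
    have h1 : K = (⊥ : Subgroup (T ⧸ K)).comap π := by
      rw [MonoidHom.comap_bot, hπ, QuotientGroup.ker_mk']
    conv_lhs => rw [h1]
    rw [Subgroup.relIndex_comap, hmapP, Subgroup.relIndex_bot_left, ha]
  -- a Sylow subgroup of `P`
  obtain ⟨Q₁⟩ : Nonempty (Sylow p P) := inferInstance
  set K₁ : Subgroup P := K.subgroupOf P with hK₁
  haveI : K₁.Normal := hKn.subgroupOf P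
  have htop : K₁ ⊔ (Q₁ : Subgroup P) = ⊤ := by
    rw [← Subgroup.index_eq_one]
    have h1 : (K₁ ⊔ (Q₁ : Subgroup P)).index ∣ p ^ a := by
      rw [← hKrel]
      exact Subgroup.index_dvd_of_le le_sup_left
    have h2 : (K₁ ⊔ (Q₁ : Subgroup P)).index ∣ (Q₁ : Subgroup P).index :=
      Subgroup.index_dvd_of_le le_sup_right
    obtain ⟨b, _, hb⟩ := (Nat.dvd_prime_pow hp).mp h1
    rcases Nat.eq_zero_or_pos b with hb0 | hb0
    · rw [hb, hb0, pow_zero]
    · exfalso
      have h3 : p ∣ (Q₁ : Subgroup P).index := by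
        refine dvd_trans ?_ h2
        rw [hb]
        exact dvd_pow_self p hb0.ne'
      exact Q₁.not_dvd_index h3
  set Q : Subgroup T := (Q₁ : Subgroup P).map P.subtype with hQ
  have hKQ : K ⊔ Q = P := by
    have h1 : (K₁ ⊔ (Q₁ : Subgroup P)).map P.subtype = K ⊔ Q := by
      rw [Subgroup.map_sup, hK₁, Subgroup.map_subgroupOf_eq_of_le hKP]
    rw [← h1, htop, ← MonoidHom.range_eq_map, Subgroup.range_subtype]
  refine ⟨p, Q, hp, Q₁.isPGroup'.map P.subtype, ?_, ?_, ?_⟩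
  · intro hQK
    have h1 : P = K := by
      rw [← hKQ]
      exact sup_eq_left.mpr hQK
    apply hM1
    rw [← hmapP, Subgroup.map_eq_bot_iff]
    intro x hx
    rw [MonoidHom.mem_ker]
    rw [h1] at hx
    exact (QuotientGroup.eq_one_iff x).mpr hx
  · rw [Subgroup.index_eq_card]
    have h1 : p ∣ Nat.card M := by
      rcases hMp.card_eq_or_dvd with h | h
      · exact absurd (Subgroup.card_eq_one.mp h) hM1
      · exact h
    exact h1.trans (Subgroup.card_subgroup_dvd_card M)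
  · rw [hKQ]
    exact hPn

theorem exists_pgroup_step {Γ : Type u} [Group Γ] [Finite Γ] (S K : Subgroup Γ)
    (hsolv : Group.IsSolvable S) (hKS : K ≤ S) (hKn : ∀ x ∈ S, ∀ k ∈ K, x * k * x⁻¹ ∈ K)
    (hne : K ≠ S) :
    ∃ (p : ℕ) (Q : Subgroup Γ), p.Prime ∧ Q ≤ S ∧ IsPGroup p Q ∧ ¬ Q ≤ K ∧ p ∣ K.relIndex S ∧
      ∀ x ∈ S, ∀ q ∈ Q, ∃ k ∈ K, ∃ q' ∈ Q, x * q * x⁻¹ = k * q' := by
  classical
  set K' : Subgroup S := K.subgroupOf S with hK'
  haveI : K'.Normal := by
    constructor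
    intro k hk x
    rw [hK', Subgroup.mem_subgroupOf] at hk ⊢
    exact hKn x x.2 k hk
  have hK'top : K' ≠ ⊤ := by
    intro h
    apply hne
    apply le_antisymm hKS
    rw [hK', Subgroup.subgroupOf_eq_top] at h
    exact h
  obtain ⟨p, Q', hp, hQ'p, hQ'K, hpK, hn⟩ := exists_pgroup_step_type K' hK'top
  refine ⟨p, Q'.map S.subtype, hp, Subgroup.map_subtype_le Q', hQ'p.map S.subtype, ?_, hpK, ?_⟩
  · intro h
    apply hQ'K
    intro q hq
    rw [hK', Subgroup.mem_subgroupOf]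
    exact h (Subgroup.mem_map_of_mem S.subtype hq)
  · rintro x hx q ⟨q₀, hq₀, rfl⟩
    have h1 : (⟨x, hx⟩ : S) * q₀ * (⟨x, hx⟩ : S)⁻¹ ∈ K' ⊔ Q' :=
      hn.conj_mem q₀ (le_sup_right (a := K') hq₀) ⟨x, hx⟩
    have h2 : (⟨x, hx⟩ : S) * q₀ * (⟨x, hx⟩ : S)⁻¹ ∈ ((K' ⊔ Q' : Subgroup S) : Set S) := h1
    rw [Subgroup.normal_mul] at h2
    obtain ⟨k, hk, q', hq', hkq⟩ := Set.mem_mul.mp h2
    refine ⟨(k : Γ), ?_, (q' : Γ), Subgroup.mem_map_of_mem S.subtype hq', ?_⟩
    · rw [hK'] at hk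
      exact Subgroup.mem_subgroupOf.mp hk
    · have := congrArg (Subtype.val : S → Γ) hkq
      simp only [Subgroup.coe_mul, Subgroup.coe_inv] at this
      exact this.symm

end Cfsg.Agent.Lib.H24.Glaub
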