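import Mathlib.GroupTheory.SchurZassenhaus
import Mathlib.GroupTheory.Sylow
import Mathlib.GroupTheory.SpecificGroups.Cyclic
import Mathlib.Tactic.Group
import Cfsg.Prelude.Def_Solvable

/-!
# Groups of order `p * d` with `d < p` (helper24's library)

* `exists_normal_of_card_prime_mul` : such a group has a normal subgroup of order `p`.
* `frobenius_of_small` : if moreover `1 < d` and all abelian subgroups have order at most `p`, the
  group is a Frobenius group whose kernel has order `p`.
-/

set_option autoImplicit false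

namespace Cfsg.Agent.Lib.H24

open Cfsg

section small

variable {G : Type*} [Group G] [Finite G]

theorem exists_normal_of_card_prime_mul (p d : ℕ) (hp : p.Prime) (hcard : Nat.card G = p * d)
    (hd0 : 0 < d) (hlt : d < p) :
    ∃ P : Subgroup G, P.Normal ∧ Nat.card P = p ∧ P.index = d := by
  haveI : Fact p.Prime := ⟨hp⟩
  let P : Sylow p G := default
  have hpd : ¬ p ∣ d := Nat.not_dvd_of_pos_of_lt hd0 hlt
  have hPcard : Nat.card P = p := by
    rw [Sylow.card_eq_multiplicity, hcard, Nat.factorization_mul hp.ne_zero hd0.ne']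
    simp [hp.factorization_self, Nat.factorization_eq_zero_of_not_dvd hpd]
  have hPidx : (P : Subgroup G).index = d := by
    have h1 := Subgroup.index_mul_card (P : Subgroup G)
    rw [hPcard, hcard, mul_comm p d] at h1
    exact Nat.eq_of_mul_eq_mul_right hp.pos h1
  have hn1 : Nat.card (Sylow p G) = 1 := by
    have h1 := card_sylow_modEq_one p G
    have h2 := P.card_dvd_index
    rw [hPidx] at h2
    have h3 : Nat.card (Sylow p G) ≤ d := Nat.le_of_dvd hd0 h2
    have h4 : Nat.card (Sylow p G) < p := lt_of_le_of_lt h3 hlt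
    have h5 : Nat.card (Sylow p G) % p = 1 % p := h1
    rw [Nat.mod_eq_of_lt h4, Nat.mod_eq_of_lt hp.one_lt] at h5
    exact h5
  haveI : Subsingleton (Sylow p G) := (Nat.card_eq_one_iff_unique.mp hn1).1
  exact ⟨P, P.normal_of_subsingleton, hPcard, hPidx⟩

theorem frobenius_of_small (p d : ℕ) (hp : p.Prime) (hcard : Nat.card G = p * d)
    (h1 : 1 < d) (hlt : d < p)
    (habel : ∀ A : Subgroup G, (∀ a ∈ A, ∀ b ∈ A, a * b = b * a) → Nat.card A ≤ p) :
    ∃ H : Subgroup G, IsFrobeniusComplement H ∧ Nat.card (frobeniusKernel H) = p := by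
  have hd0 : 0 < d := by omega
  obtain ⟨P, hPn, hPcard, hPidx⟩ := exists_normal_of_card_prime_mul p d hp hcard hd0 hlt
  haveI := hPn
  have hcop : Nat.Coprime (Nat.card P) P.index := by
    rw [hPcard, hPidx]
    exact (Nat.Prime.coprime_iff_not_dvd hp).mpr (Nat.not_dvd_of_pos_of_lt hd0 hlt)
  obtain ⟨H, hH⟩ := Subgroup.exists_left_complement'_of_coprime hcop
  have hHcard : Nat.card H = d := by
    have := hH.card_mul_card
    rw [hPcard, hcard, mul_comm] at this
    exact Nat.eq_of_mul_eq_mul_left hp.pos this
  have hdisj : ∀ z : G, z ∈ P → z ∈ H → z = 1 := by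
    intro z hzP hzH
    have := hH.disjoint
    rw [Subgroup.disjoint_def] at this
    exact this hzH hzP
  -- every element is a product x * h with x ∈ P, h ∈ H
  have hprod : ∀ g : G, ∃ x ∈ P, ∃ h ∈ H, g = x * h := by
    intro g
    have htop : P ⊔ H = ⊤ := by rw [sup_comm]; exact hH.sup_eq_top
    have hg : g ∈ P ⊔ H := by rw [htop]; trivial
    rw [← SetLike.mem_coe, Subgroup.normal_mul] at hg
    obtain ⟨x, hx, h, hh, rfl⟩ := Set.mem_mul.mp hg
    exact ⟨x, hx, h, hh, rfl⟩
  -- fixed-point-freeness
  have hfpf : ∀ x ∈ P, x ≠ 1 → ∀ y ∈ H, y ≠ 1 → x * y ≠ y * x := by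
    intro x hx hx1 y hy hy1 hcomm
    have hox : orderOf x = p := by
      have h2 : orderOf (⟨x, hx⟩ : P) ∣ p := by
        rw [← hPcard]; exact orderOf_dvd_natCard _
      rw [Subgroup.orderOf_mk] at h2
      rcases (Nat.dvd_prime hp).mp h2 with h | h
      · exact absurd (orderOf_eq_one_iff.mp h) hx1
      · exact h
    have hoy : orderOf y ∣ d := by
      have h2 : orderOf (⟨y, hy⟩ : H) ∣ d := by
        rw [← hHcard]; exact orderOf_dvd_natCard _
      rwa [Subgroup.orderOf_mk] at h2
    have hoy1 : 1 < orderOf y := by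
      have h0 : 0 < orderOf y := orderOf_pos y
      have hne : orderOf y ≠ 1 := fun h => hy1 (orderOf_eq_one_iff.mp h)
      omega
    have hcop' : Nat.Coprime (orderOf x) (orderOf y) := by
      rw [hox]
      apply (Nat.Prime.coprime_iff_not_dvd hp).mpr
      intro hdvd
      have := Nat.le_of_dvd hd0 (hdvd.trans hoy)
      omega
    have hoxy : orderOf (x * y) = p * orderOf y := by
      rw [Commute.orderOf_mul_eq_mul_orderOf_of_coprime hcomm hcop', hox]
    have hA := habel (Subgroup.zpowers (x * y)) (by
      intro a ha b hb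
      obtain ⟨i, rfl⟩ := Subgroup.mem_zpowers_iff.mp ha
      obtain ⟨j, rfl⟩ := Subgroup.mem_zpowers_iff.mp hb
      rw [← zpow_add, ← zpow_add, add_comm])
    rw [Nat.card_zpowers, hoxy] at hA
    have : p * 2 ≤ p * orderOf y := Nat.mul_le_mul_left p hoy1
    have hp0 := hp.pos
    omega
  refine ⟨H, ⟨?_, ?_, ?_⟩, ?_⟩
  · intro h
    rw [h, Subgroup.card_bot] at hHcard
    omega
  · intro h
    rw [h, Subgroup.card_top, hcard] at hHcard
    have hp1 := hp.one_lt
    have : d < p * d := by nlinarith
    omega
  · intro g hg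
    rw [eq_bot_iff]
    intro y hy
    rw [Subgroup.mem_inf, Subgroup.mem_smul_pointwise_iff_exists] at hy
    obtain ⟨hyH, k, hk, hky⟩ := hy
    rw [MulAut.smul_def, MulAut.conj_apply] at hky
    obtain ⟨x, hx, h₀, hh₀, rfl⟩ := hprod g
    have hx1 : x ≠ 1 := by
      rintro rfl
      apply hg
      rw [one_mul]; exact hh₀
    set k' := h₀ * k * h₀⁻¹ with hk'
    have hk'H : k' ∈ H := H.mul_mem (H.mul_mem hh₀ hk) (H.inv_mem hh₀)
    have hy' : y = x * k' * x⁻¹ := by
      rw [← hky, hk']; group
    have hyk : y * k'⁻¹ = 1 := by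
      apply hdisj
      · have h2 : y * k'⁻¹ = x * (k' * x⁻¹ * k'⁻¹) := by rw [hy']; group
        rw [h2]
        exact P.mul_mem hx (hPn.conj_mem _ (P.inv_mem hx) k')
      · exact H.mul_mem hyH (H.inv_mem hk'H)
    have hyk' : y = k' := mul_inv_eq_one.mp hyk
    rw [Subgroup.mem_bot]
    by_contra hy1
    apply hfpf x hx hx1 y hyH hy1
    have h3 : y = x * y * x⁻¹ := by
      conv_lhs => rw [hy', ← hyk']
    calc x * y = (x * y * x⁻¹) * x := by group
      _ = y * x := by rw [← h3]
  · -- the kernel is P
    have hset : frobeniusKernel H = (P : Set G) := by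
      ext x
      simp only [frobeniusKernel, Set.mem_ofPred_eq, SetLike.mem_coe]
      constructor
      · rintro (rfl | hx)
        · exact P.one_mem
        · by_contra hxP
          obtain ⟨u, hu, h, hh, rfl⟩ := hprod x
          have hh1 : h ≠ 1 := by
            rintro rfl
            apply hxP
            rw [mul_one]; exact hu
          -- the map v ↦ v * (h * v⁻¹ * h⁻¹) on P is injective, hence surjective
          let φ : P → P := fun v => ⟨(v : G) * (h * (v : G)⁻¹ * h⁻¹),
            P.mul_mem v.2 (hPn.conj_mem _ (P.inv_mem v.2) h)⟩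
          have hφinj : Function.Injective φ := by
            intro v w hvw
            have h2 : (v : G) * (h * (v : G)⁻¹ * h⁻¹) = (w : G) * (h * (w : G)⁻¹ * h⁻¹) :=
              congrArg Subtype.val hvw
            have h3 : ((w : G)⁻¹ * (v : G)) * h = h * ((w : G)⁻¹ * (v : G)) := by
              have h4 : (v : G) * h * (v : G)⁻¹ = (w : G) * h * (w : G)⁻¹ := by
                have := congrArg (fun z => z * h) h2
                simp only [mul_assoc, inv_mul_cancel, mul_one] at this
                simpa [mul_assoc] using this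
              calc ((w : G)⁻¹ * (v : G)) * h = (w : G)⁻¹ * ((v : G) * h * (v : G)⁻¹) * (v : G) := by
                    group
                _ = (w : G)⁻¹ * ((w : G) * h * (w : G)⁻¹) * (v : G) := by rw [h4]
                _ = h * ((w : G)⁻¹ * (v : G)) := by group
            have h5 : (w : G)⁻¹ * (v : G) = 1 := by
              by_contra hne
              exact hfpf _ (P.mul_mem (P.inv_mem w.2) v.2) hne h hh hh1 h3
            apply Subtype.ext
            have := inv_mul_eq_one.mp h5
            exact this.symm
          have hφsurj : Function.Surjective φ := Finite.injective_iff_surjective.mp hφinj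
          obtain ⟨v, hv⟩ := hφsurj ⟨u, hu⟩
          have hv' : (v : G) * (h * (v : G)⁻¹ * h⁻¹) = u := congrArg Subtype.val hv
          apply hx (v : G)
          rw [Subgroup.mem_smul_pointwise_iff_exists]
          refine ⟨h, hh, ?_⟩
          rw [MulAut.smul_def, MulAut.conj_apply, ← hv']
          group
      · intro hxP
        by_cases hx1 : x = 1
        · exact Or.inl hx1
        · right
          intro g hxg
          rw [Subgroup.mem_smul_pointwise_iff_exists] at hxg
          obtain ⟨k, hk, hkx⟩ := hxg
          rw [MulAut.smul_def, MulAut.conj_apply] at hkx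
          have hkP : k ∈ P := by
            have : k = g⁻¹ * x * g⁻¹⁻¹ := by rw [← hkx]; group
            rw [this]
            exact hPn.conj_mem x hxP g⁻¹
          have hk1 := hdisj k hkP hk
          apply hx1
          rw [← hkx, hk1]; group
    rw [hset]
    exact hPcard

end small

end Cfsg.Agent.Lib.H24
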