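import Mathlib.GroupTheory.Transfer
import Mathlib.GroupTheory.SpecificGroups.Cyclic
import Mathlib.GroupTheory.Sylow
import Mathlib.GroupTheory.Abelianization.Defs
import Mathlib.GroupTheory.PGroup

/-!
# Perfect groups: small-order obstructions (helper24's library)

* `le_center_of_perfect_of_normal_cyclic` : a cyclic normal subgroup of a perfect group is central.
* `not_perfect_of_card` : a group of order `p * d` with `0 < d ≤ p` is not perfect.
-/

set_option autoImplicit false

namespace Cfsg.Agent.Lib.H24

section perfect

theorem le_center_of_perfect_of_normal_cyclic {G : Type*} [Group G] (hperf : commutator G = ⊤)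
    (P : Subgroup G) [P.Normal] [hc : IsCyclic P] : P ≤ Subgroup.center G := by
  let _ : CommGroup (MulAut P) :=
    (IsCyclic.mulAutMulEquiv P).toMonoidHom.commGroupOfInjective (IsCyclic.mulAutMulEquiv P).injective
  have h := Abelianization.commutator_subset_ker (MulAut.conjNormal : G →* MulAut P)
  rw [hperf] at h
  intro z hz
  rw [Subgroup.mem_center_iff]
  intro g
  have hg : g ∈ (MulAut.conjNormal : G →* MulAut P).ker := h (Subgroup.mem_top g)
  rw [MonoidHom.mem_ker] at hg
  have h1 : (MulAut.conjNormal g : MulAut P) ⟨z, hz⟩ = ⟨z, hz⟩ := by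
    rw [hg]; rfl
  have h2 := congrArg Subtype.val h1
  rw [MulAut.conjNormal_apply] at h2
  -- g * z * g⁻¹ = z
  calc g * z = (g * z * g⁻¹) * g := by group
    _ = z * g := by rw [h2]

theorem not_perfect_of_card {H : Type*} [Group H] [Finite H] (p d : ℕ) (hp : p.Prime)
    (hcard : Nat.card H = p * d) (hd : d ≤ p) (hd0 : 0 < d) : commutator H ≠ ⊤ := by
  intro hperf
  haveI : Fact p.Prime := ⟨hp⟩
  rcases Nat.lt_or_ge d p with hlt | hge
  · -- Sylow p-subgroup of order p
    let P : Sylow p H := default
    have hpd : ¬ p ∣ d := Nat.not_dvd_of_pos_of_lt hd0 hlt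
    have hPcard : Nat.card P = p := by
      rw [Sylow.card_eq_multiplicity, hcard, Nat.factorization_mul hp.ne_zero hd0.ne']
      simp [hp.factorization_self, Nat.factorization_eq_zero_of_not_dvd hpd]
    have hPidx : (P : Subgroup H).index = d := by
      have h1 := Subgroup.index_mul_card (P : Subgroup H)
      rw [hPcard, hcard, mul_comm p d] at h1
      exact Nat.eq_of_mul_eq_mul_right hp.pos h1
    have hn1 : Nat.card (Sylow p H) = 1 := by
      have h1 := card_sylow_modEq_one p H
      have h2 := P.card_dvd_index
      rw [hPidx] at h2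
      have h3 : Nat.card (Sylow p H) ≤ d := Nat.le_of_dvd hd0 h2
      have h4 : Nat.card (Sylow p H) < p := lt_of_le_of_lt h3 hlt
      have h5 : Nat.card (Sylow p H) % p = 1 % p := h1
      rw [Nat.mod_eq_of_lt h4, Nat.mod_eq_of_lt hp.one_lt] at h5
      exact h5
    haveI : Subsingleton (Sylow p H) := (Nat.card_eq_one_iff_unique.mp hn1).1
    haveI hPn : (P : Subgroup H).Normal := P.normal_of_subsingleton
    haveI hPc : IsCyclic (P : Subgroup H) := isCyclic_of_prime_card hPcard
    have hcen := le_center_of_perfect_of_normal_cyclic hperf (P : Subgroup H)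
    have hP : Subgroup.normalizer (P : Set H) ≤ Subgroup.centralizer (P : Set H) := by
      have : Subgroup.centralizer (P : Set H) = ⊤ :=
        Subgroup.centralizer_eq_top_iff_subset.mpr hcen
      rw [this]
      exact le_top
    have hker : (MonoidHom.transferSylow P hP).ker = ⊤ := by
      rw [eq_top_iff, ← hperf, commutator_def, Subgroup.commutator_le]
      intro a _ b _
      rw [MonoidHom.mem_ker, map_commutatorElement, commutatorElement_eq_one_iff_commute]
      exact (isMulCommutative_iff.mp inferInstance) _ _
    have hcompl := MonoidHom.ker_transferSylow_isComplement' P hP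
    have h1 := hcompl.card_mul_card
    rw [hker, Subgroup.card_top, hPcard, hcard] at h1
    have : p * d * p = p * d * 1 := by rw [h1, mul_one]
    have h2 := Nat.eq_of_mul_eq_mul_left (Nat.mul_pos hp.pos hd0) this
    exact hp.one_lt.ne' h2
  · have hdp : d = p := le_antisymm hd hge
    subst hdp
    have hcomm := IsPGroup.commutative_of_card_eq_prime_sq (p := d) (G := H) (by rw [hcard]; ring)
    have hbot : commutator H = ⊥ := by
      rw [commutator_eq_bot_iff_center_eq_top, eq_top_iff]
      intro z _
      rw [Subgroup.mem_center_iff]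
      intro g
      exact hcomm g z
    rw [hbot] at hperf
    have h1 : Nat.card (⊥ : Subgroup H) = Nat.card (⊤ : Subgroup H) := by rw [hperf]
    rw [Subgroup.card_bot, Subgroup.card_top, hcard] at h1
    have : 1 < d * d := by
      have := hp.one_lt
      nlinarith
    omega

end perfect

end Cfsg.Agent.Lib.H24
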