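import Mathlib
import Cfsg.Agent.Lib.H17.HJDefs

/-!
# S3313 piece AZCOUNT (helper17 blueprint): pure counting (helper24)
-/

set_option autoImplicit false
set_option linter.style.haveILetI false

namespace Cfsg.Agent.Lib.H24.HJ

open Cfsg Cfsg.Agent.Lib.H17.HJ

/-- `|I × J| - ∑_{v ∈ J} #{u ∈ I | u v = v u} = a b - b c` -/
theorem count_noncomm {G : Type*} [Group G] [Finite G] (I J : Set G) (a b c : ℕ)
    (hI : Nat.card ↥I = a) (hJ : Nat.card ↥J = b)
    (hc : ∀ v ∈ J, Nat.card {u : G // u ∈ I ∧ u * v = v * u} = c) :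
    Nat.card {p : G × G // p.1 ∈ I ∧ p.2 ∈ J ∧ ¬ (p.1 * p.2 = p.2 * p.1)} = a * b - b * c := by
  classical
  letI := Fintype.ofFinite G
  set IF : Finset G := Finset.univ.filter (· ∈ I) with hIF
  set JF : Finset G := Finset.univ.filter (· ∈ J) with hJF
  have hIa : IF.card = a := by
    rw [← hI, Nat.card_eq_fintype_card, Fintype.card_subtype]
  have hJb : JF.card = b := by
    rw [← hJ, Nat.card_eq_fintype_card, Fintype.card_subtype]
  set S : Finset (G × G) := IF ×ˢ JF with hS
  have hScard : S.card = a * b := by rw [hS, Finset.card_product, hIa, hJb]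
  have hsplit := Finset.card_filter_add_card_filter_not (s := S)
    (fun p : G × G => p.1 * p.2 = p.2 * p.1)
  -- the commuting pairs
  have hcomm : (S.filter (fun p : G × G => p.1 * p.2 = p.2 * p.1)).card = b * c := by
    have h1 : (S.filter (fun p : G × G => p.1 * p.2 = p.2 * p.1)).card =
        ∑ v ∈ JF, ((S.filter (fun p : G × G => p.1 * p.2 = p.2 * p.1)).filter
          (fun p => p.2 = v)).card := by
      apply Finset.card_eq_sum_card_fiberwise
      intro p hp
      rw [Finset.mem_coe, Finset.mem_filter, hS, Finset.mem_product] at hp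
      exact hp.1.2
    rw [h1]
    have h2 : ∀ v ∈ JF, ((S.filter (fun p : G × G => p.1 * p.2 = p.2 * p.1)).filter
          (fun p => p.2 = v)).card = c := by
      intro v hv
      have hvJ : v ∈ J := by
        rw [hJF, Finset.mem_filter] at hv
        exact hv.2
      rw [← hc v hvJ, Nat.card_eq_fintype_card, Fintype.card_subtype]
      apply Finset.card_bij (fun p _ => p.1)
      · intro p hp
        simp only [Finset.mem_filter, hS, Finset.mem_product, hIF, Finset.mem_univ, true_and] at hp ⊢
        obtain ⟨⟨⟨h1, _⟩, h3⟩, h4⟩ := hp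
        rw [h4] at h3
        exact ⟨h1, h3⟩
      · intro p hp q hq hpq
        simp only [Finset.mem_filter] at hp hq
        exact Prod.ext hpq (hp.2.trans hq.2.symm)
      · intro u hu
        simp only [Finset.mem_filter, Finset.mem_univ, true_and] at hu
        refine ⟨(u, v), ?_, rfl⟩
        simp only [Finset.mem_filter, hS, Finset.mem_product, hIF, hJF, Finset.mem_univ, true_and,
          and_true]
        exact ⟨⟨hu.1, hvJ⟩, hu.2⟩
    rw [Finset.sum_congr rfl h2, Finset.sum_const, hJb, smul_eq_mul]
  have hgoal : Nat.card {p : G × G // p.1 ∈ I ∧ p.2 ∈ J ∧ ¬ (p.1 * p.2 = p.2 * p.1)} =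
      (S.filter (fun p : G × G => ¬ (p.1 * p.2 = p.2 * p.1))).card := by
    rw [Nat.card_eq_fintype_card, Fintype.card_subtype]
    congr 1
    ext p
    simp only [Finset.mem_filter, Finset.mem_univ, true_and, hS, Finset.mem_product, hIF, hJF]
    tauto
  rw [hgoal]
  rw [hcomm, hScard] at hsplit
  omega

end Cfsg.Agent.Lib.H24.HJ
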