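import Mathlib
import Cfsg.Agent.Lib.H17.HJDefs

/-!
# S3313 piece CRIT (helper17 blueprint): `z ∈ ⟨u v⟩ ↔ u, v do not commute` (helper24)
-/

set_option autoImplicit false

namespace Cfsg.Agent.Lib.H24.HJ

open Cfsg Cfsg.Agent.Lib.H17.HJ

theorem z_mem_zpowers_iff {G : Type*} [Group G] {z : G} {Q : Subgroup G} (hQ : QData z Q)
    (hcomm4 : ∀ u w : G, u ∈ Q → w ∈ Q → u * u = 1 → w * w = 1 → u ≠ 1 → u ≠ z → u * w = w * u →
      w = 1 ∨ w = z ∨ w = u ∨ w = u * z)
    (u v : G) (hu : u ∈ Q) (hu2 : orderOf u = 2) (huz : u ≠ z) (hvz : v * z = z * v)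
    (hv2 : orderOf v = 2) (hvQ : v ∉ Q) (hvn : v * u * v⁻¹ ∈ Q) :
    z ∈ Subgroup.zpowers (u * v) ↔ ¬ (u * v = v * u) := by
  have huu : u * u = 1 := by
    have := pow_orderOf_eq_one u
    rw [hu2, pow_two] at this
    exact this
  have hvv : v * v = 1 := by
    have := pow_orderOf_eq_one v
    rw [hv2, pow_two] at this
    exact this
  have hu1 : u ≠ 1 := by
    intro h
    rw [h, orderOf_one] at hu2
    norm_num at hu2
  have hvinv : v⁻¹ = v := inv_eq_of_mul_eq_one_left hvv
  have huinv : u⁻¹ = u := inv_eq_of_mul_eq_one_left huu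
  constructor
  · intro hz hcomm
    have hsq : (u * v) ^ 2 = 1 := by
      rw [pow_two]
      calc u * v * (u * v) = u * (v * u) * v := by group
        _ = u * (u * v) * v := by rw [hcomm]
        _ = (u * u) * (v * v) := by group
        _ = 1 := by rw [huu, hvv, one_mul]
    rw [Subgroup.mem_zpowers_iff] at hz
    obtain ⟨k, hk⟩ := hz
    rcases Int.even_or_odd' k with ⟨j, rfl | rfl⟩
    · rw [zpow_mul, zpow_ofNat, hsq, one_zpow] at hk
      exact hQ.z_ne hk.symm
    · rw [zpow_add, zpow_mul, zpow_ofNat, hsq, one_zpow, one_mul, zpow_one] at hk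
      apply hvQ
      have hv : v = u * z := by
        rw [← hk]
        calc v = (u * u) * v := by rw [huu, one_mul]
          _ = u * (u * v) := by group
      rw [hv]
      exact Q.mul_mem hu hQ.z_mem
  · intro hnc
    set w := v * u * v⁻¹ with hw
    have hww : w * w = 1 := by
      rw [hw]
      calc v * u * v⁻¹ * (v * u * v⁻¹) = v * (u * u) * v⁻¹ := by group
        _ = 1 := by rw [huu]; group
    have hw1 : w ≠ 1 := by
      intro h
      apply hu1
      calc u = v⁻¹ * (v * u * v⁻¹) * v := by group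
        _ = v⁻¹ * 1 * v := by rw [← hw, h]
        _ = 1 := by group
    have hwz : w ≠ z := by
      intro h
      apply huz
      calc u = v⁻¹ * (v * u * v⁻¹) * v := by group
        _ = v⁻¹ * z * v := by rw [← hw, h]
        _ = v⁻¹ * (z * v) := by group
        _ = v⁻¹ * (v * z) := by rw [hvz]
        _ = z := by group
    have hx : u * w = (u * v) ^ 2 := by
      rw [hw, hvinv, pow_two]
      group
    have hxQ : u * w ∈ Q := Q.mul_mem hu hvn
    rcases hQ.sq (u * w) hxQ with h1 | hz
    · -- `u w = w u`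
      have e1 : (u * w)⁻¹ = u * w := inv_eq_of_mul_eq_one_left h1
      have hwinv : w⁻¹ = w := inv_eq_of_mul_eq_one_left hww
      have hcomm : u * w = w * u := by
        calc u * w = (u * w)⁻¹ := e1.symm
          _ = w⁻¹ * u⁻¹ := mul_inv_rev u w
          _ = w * u := by rw [hwinv, huinv]
      rcases hcomm4 u w hu hvn huu hww hu1 huz hcomm with h | h | h | h
      · exact absurd h hw1
      · exact absurd h hwz
      · exfalso
        apply hnc
        have : v * u * v⁻¹ = u := h
        calc u * v = (v * u * v⁻¹) * v := by rw [this]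
          _ = v * u := by group
      · rw [Subgroup.mem_zpowers_iff]
        refine ⟨2, ?_⟩
        rw [zpow_ofNat, ← hx, h]
        calc u * (u * z) = (u * u) * z := by group
          _ = z := by rw [huu, one_mul]
    · rw [Subgroup.mem_zpowers_iff]
      refine ⟨4, ?_⟩
      have : (u * v) ^ (4 : ℤ) = ((u * v) ^ 2) * ((u * v) ^ 2) := by
        rw [zpow_ofNat]
        group
      rw [this, ← hx, hz]

end Cfsg.Agent.Lib.H24.HJ
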