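import Cfsg.Agent.Lib.H13.HSDefs2

/-!
# S2535 piece A5-E : `A_5` has no subgroup of index `3` (helper24)

Exact signature of `tools/blueprints/S2535_A5_sigs.lean`: `a5_no_index_three`.
-/

set_option linter.unusedSectionVars false
set_option linter.unusedVariables false

namespace Cfsg.Agent.Lib.H24.HS

open Equiv MulAction Cfsg.Agent.Lib.H13.HS
open scoped Pointwise

/-- a simple group of order `> 6` has no subgroup of index `3`. -/
theorem a5e_simple_no_index_three {A : Type*} [Group A] [Finite A] [IsSimpleGroup A]
    (hc : ¬ Nat.card A ∣ 6) (H : Subgroup A) (hH : H.index = 3) : False := by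
  let f := MulAction.toPermHom A (A ⧸ H)
  rcases IsSimpleGroup.eq_bot_or_eq_top_of_normal f.ker inferInstance with hk | hk
  · have hinj : Function.Injective f := (MonoidHom.ker_eq_bot_iff f).mp hk
    have hd : Nat.card A ∣ Nat.card (Perm (A ⧸ H)) := Subgroup.card_dvd_of_injective f hinj
    have h3 : Nat.card (A ⧸ H) = 3 := hH
    have : Finite (A ⧸ H) := Nat.finite_of_card_ne_zero (by rw [h3]; norm_num)
    rw [Nat.card_perm, h3] at hd
    exact hc hd
  · have h1 : H.normalCore = ⊤ := by rw [Subgroup.normalCore_eq_ker]; exact hk
    have h2 : H = ⊤ := top_le_iff.mp (h1 ▸ Subgroup.normalCore_le H)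
    rw [h2, Subgroup.index_top] at hH
    omega

theorem a5_no_index_three {α : Type*} [Finite α] (h5 : Nat.card α = 5) (M : Subgroup (Perm α))
    (hle : M ≤ altSub α) (h : M.relIndex (altSub α) = 3) : False := by
  classical
  have : Fintype α := Fintype.ofFinite α
  have hA : altSub α = alternatingGroup α := altSub_eq α
  rw [hA] at hle h
  have hsimp : IsSimpleGroup (alternatingGroup α) := alternatingGroup.isSimpleGroup (by omega)
  have : Nontrivial α := by
    rw [← Finite.one_lt_card_iff_nontrivial]
    omega
  have hcard : Nat.card (alternatingGroup α) = 60 := by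
    rw [nat_card_alternatingGroup, h5]
    rfl
  refine a5e_simple_no_index_three (A := alternatingGroup α) ?_ (M.subgroupOf (alternatingGroup α)) h
  rw [hcard]
  norm_num

end Cfsg.Agent.Lib.H24.HS
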