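import Cfsg.Agent.Lib.H13.HSDefs2

/-!
# S2535 piece A5-F : the order of a Hall `{2, n}`-subgroup of `A_n` is `2 ^ a * n ^ b` (helper24)

Exact signature of `tools/blueprints/S2535_A5_sigs.lean`: `a5_card_eq`.
-/

set_option linter.unusedSectionVars false
set_option linter.unusedVariables false

namespace Cfsg.Agent.Lib.H24.HS

open Equiv MulAction Cfsg.Agent.Lib.H13.HS
open scoped Pointwise

/-- a positive number all of whose prime factors are `2` or `n` is `2 ^ a * n ^ b`. -/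
theorem a5f_aux (n : ℕ) : ∀ m : ℕ, m ≠ 0 → (∀ s : ℕ, s.Prime → s ∣ m → s = 2 ∨ s = n) →
    ∃ a b : ℕ, m = 2 ^ a * n ^ b := by
  intro m
  induction m using Nat.strong_induction_on with
  | _ m ih =>
    intro hm0 h
    by_cases hm1 : m = 1
    · exact ⟨0, 0, by simp [hm1]⟩
    · obtain ⟨p, hp, hpm⟩ : ∃ p : ℕ, p.Prime ∧ p ∣ m := ⟨m.minFac, Nat.minFac_prime hm1, Nat.minFac_dvd m⟩
      obtain ⟨m', hm'⟩ := hpm
      have hm'0 : m' ≠ 0 := by
        rintro rfl
        exact hm0 (by simpa using hm')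
      have hlt : m' < m := by
        have h2 := hp.two_le
        have hpos := Nat.pos_of_ne_zero hm'0
        calc m' < 2 * m' := by omega
          _ ≤ p * m' := Nat.mul_le_mul_right _ h2
          _ = m := hm'.symm
      obtain ⟨a, b, hab⟩ := ih m' hlt hm'0
        (fun s hs hd => h s hs (hm' ▸ Dvd.dvd.mul_left hd _))
      rcases h p hp ⟨m', hm'⟩ with h2 | h2
      · exact ⟨a + 1, b, by rw [hm', h2, hab]; ring⟩
      · exact ⟨a, b + 1, by rw [hm', h2, hab]; ring⟩

theorem a5_card_eq {α : Type*} [Finite α] {π : Set ℕ} {M : Subgroup (Perm α)}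
    (hM : Cfsg.IsPiHallOf π M (altSub α)) (hn : (Nat.card α).Prime)
    (hfew : ∀ s : ℕ, s.Prime → s ∈ π → s ≤ Nat.card α → s = 2 ∨ s = Nat.card α) :
    ∃ a b : ℕ, Nat.card M = 2 ^ a * Nat.card α ^ b := by
  apply a5f_aux (Nat.card α) (Nat.card M) Nat.card_pos.ne'
  intro s hs hd
  have hsπ : s ∈ π := hM.2.1 s hs hd
  have hdvd : s ∣ (Nat.card α).factorial := by
    rw [← Nat.card_perm]
    exact dvd_trans hd (Subgroup.card_subgroup_dvd_card M)
  exact hfew s hs hsπ ((Nat.Prime.dvd_factorial hs).mp hdvd)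

end Cfsg.Agent.Lib.H24.HS
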