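import Cfsg.Agent.Lib.H4.HT.Defs
import Cfsg.Prelude.Def_CaseTheorems

/-!
# S3371 (helper4 blueprint): piece EQ `eqStab_of_half` (helper24)
-/

set_option autoImplicit false

namespace Cfsg.Agent.Lib.H24.HT

open Cfsg Cfsg.Agent.Lib.H4.HT

variable {q : ℕ} {V : Type*} [AddCommGroup V] [Module (ZMod q) V] {G : Type*} [Group G]

/-- the orbit of `v` has `|G| / |G_v|` elements -/
theorem card_orbit_mul_card_stab [Finite G] (ρ : G →* (V ≃ₗ[ZMod q] V)) (v : V) :
    Nat.card {u : V | ∃ g : G, ρ g v = u} * Nat.card (stab ρ v) = Nat.card G := by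
  let _ : MulAction G V := MulAction.compHom V ρ
  have hsmul : ∀ (g : G) (u : V), g • u = ρ g u := fun _ _ => rfl
  have h1 : {u : V | ∃ g : G, ρ g v = u} = MulAction.orbit G v := by
    ext u
    rfl
  have h2 : stab ρ v = MulAction.stabilizer G v := by
    ext g
    rfl
  rw [h1, h2]
  have e := MulAction.orbitEquivQuotientStabilizer G v
  rw [Nat.card_congr e, mul_comm]
  exact (Subgroup.card_eq_card_quotient_mul_card_subgroup (MulAction.stabilizer G v)).symm ▸
    (mul_comm _ _)

/-- P0 (E): orbit-stabiliser: equal orbit sizes give equal stabiliser orders. -/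
theorem eqStab_of_half [Finite G] (ρ : G →* (V ≃ₗ[ZMod q] V))
    (hhalf : ∀ v w : V, v ≠ 0 → w ≠ 0 →
      Nat.card {u : V | ∃ g : G, ρ g v = u} = Nat.card {u : V | ∃ g : G, ρ g w = u}) :
    EqStab ρ := by
  intro v w hv hw
  have h1 := card_orbit_mul_card_stab ρ v
  have h2 := card_orbit_mul_card_stab ρ w
  rw [hhalf v w hv hw] at h1
  have hpos : 0 < Nat.card {u : V | ∃ g : G, ρ g w = u} := by
    rcases Nat.eq_zero_or_pos (Nat.card {u : V | ∃ g : G, ρ g w = u}) with h | h
    · rw [h, zero_mul] at h2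
      exact absurd h2.symm Nat.card_pos.ne'
    · exact h
  exact Nat.eq_of_mul_eq_mul_left hpos (h1.trans h2.symm)

end Cfsg.Agent.Lib.H24.HT
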