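import Cfsg.Agent.Lib.H4.HT.Defs
import Cfsg.Prelude.Def_CaseTheorems

/-!
# S3371 (helper4 blueprint): piece NC `noncyclic_of_pair` (helper24)
-/

set_option autoImplicit false

namespace Cfsg.Agent.Lib.H24.HT

open Cfsg Cfsg.Agent.Lib.H4.HT

variable {q : ℕ} {V : Type*} [AddCommGroup V] [Module (ZMod q) V] {G : Type*} [Group G]

/-- a finite cyclic group does not contain `p + 1` solutions of `x ^ p = 1`:
an element `g` of order dividing `p` lies in `⟨z⟩` for every `z` of order `p` -/
theorem mem_zpowers_of_isCyclic {C : Type*} [Group C] [Finite C] [IsCyclic C] {p : ℕ}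
    (hp : p.Prime) (g z : C) (hg : g ^ p = 1) (hz1 : z ≠ 1) (hzp : z ^ p = 1) :
    g ∈ Subgroup.zpowers z := by
  classical
  by_contra hgz
  let _ : Fintype C := Fintype.ofFinite C
  have : Fact p.Prime := ⟨hp⟩
  have hoz : orderOf z = p := orderOf_eq_prime hzp hz1
  -- the map `none ↦ g`, `some i ↦ z ^ i`
  let f : Option (Fin p) → C := fun o => match o with
    | none => g
    | some i => z ^ (i : ℕ)
  have hf : Function.Injective f := by
    intro a b hab
    cases a with
    | none =>
      cases b with
      | none => rfl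
      | some j =>
        exfalso
        apply hgz
        have : g = z ^ (j : ℕ) := hab
        rw [this]
        exact Subgroup.npow_mem_zpowers z _
    | some i =>
      cases b with
      | none =>
        exfalso
        apply hgz
        have : z ^ (i : ℕ) = g := hab
        rw [← this]
        exact Subgroup.npow_mem_zpowers z _
      | some j =>
        have h : z ^ (i : ℕ) = z ^ (j : ℕ) := hab
        have hi : (i : ℕ) < orderOf z := by rw [hoz]; exact i.2
        have hj : (j : ℕ) < orderOf z := by rw [hoz]; exact j.2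
        have := pow_injOn_Iio_orderOf (Set.mem_Iio.mpr hi) (Set.mem_Iio.mpr hj) h
        exact congrArg some (Fin.ext this)
  have hmem : ∀ o, f o ∈ (Finset.univ.filter (fun a : C => a ^ p = 1)) := by
    intro o
    rw [Finset.mem_filter]
    refine ⟨Finset.mem_univ _, ?_⟩
    cases o with
    | none => exact hg
    | some i =>
      show (z ^ (i : ℕ)) ^ p = 1
      rw [← pow_mul, mul_comm, pow_mul, hzp, one_pow]
  have h1 : Fintype.card (Option (Fin p)) ≤ (Finset.univ.filter (fun a : C => a ^ p = 1)).card :=
    Finset.card_le_card_of_injOn (s := Finset.univ) f (fun o _ => hmem o) (fun a _ b _ h => hf h)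
  have h2 := IsCyclic.card_pow_eq_one_le (α := C) hp.pos
  rw [Fintype.card_option, Fintype.card_fin] at h1
  omega

/-- P12a' (M, pure group theory): such a pair generates a non-cyclic abelian subgroup. -/
theorem noncyclic_of_pair [Finite G] {p : ℕ} [Fact p.Prime] (g z : G) (hg : g ^ p = 1) (hg1 : g ≠ 1)
    (hz : z ∈ Subgroup.center G) (hz1 : z ≠ 1) (hzp : z ^ p = 1) (hgz : g ∉ Subgroup.zpowers z) :
    ∃ B : Subgroup G, IsMulCommutative B ∧ ¬ IsCyclic B := by
  have hcomm : ∀ x ∈ ({g, z} : Set G), ∀ y ∈ ({g, z} : Set G), x * y = y * x := by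
    intro x hx y hy
    rcases hx with rfl | rfl
    · rcases hy with rfl | rfl
      · rfl
      · exact (Subgroup.mem_center_iff.mp hz x)
    · rcases hy with rfl | rfl
      · exact (Subgroup.mem_center_iff.mp hz y).symm
      · rfl
  refine ⟨Subgroup.closure {g, z}, Subgroup.isMulCommutative_closure hcomm, ?_⟩
  intro hcyc
  have hgB : g ∈ Subgroup.closure ({g, z} : Set G) := Subgroup.subset_closure (by simp)
  have hzB : z ∈ Subgroup.closure ({g, z} : Set G) := Subgroup.subset_closure (by simp)
  have h := mem_zpowers_of_isCyclic (C := ↥(Subgroup.closure ({g, z} : Set G)))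
    (Fact.out : p.Prime) ⟨g, hgB⟩ ⟨z, hzB⟩ (Subtype.ext (by simpa using hg))
    (fun h => hz1 (congrArg Subtype.val h)) (Subtype.ext (by simpa using hzp))
  apply hgz
  obtain ⟨k, hk⟩ := Subgroup.mem_zpowers_iff.mp h
  refine Subgroup.mem_zpowers_iff.mpr ⟨k, ?_⟩
  have := congrArg Subtype.val hk
  simpa using this

end Cfsg.Agent.Lib.H24.HT
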