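import Cfsg.Agent.Lib.H4.HT.Defs
import Cfsg.Prelude.Def_CaseTheorems

/-!
# S3371 (helper4 blueprint): piece NS `exists_pair_of_not_semireg` (helper24)
-/

set_option autoImplicit false

namespace Cfsg.Agent.Lib.H24.HT

open Cfsg Cfsg.Agent.Lib.H4.HT

variable {q : ℕ} {V : Type*} [AddCommGroup V] [Module (ZMod q) V] {G : Type*} [Group G]

/-- a non-trivial finite `p`-subgroup contains an element of order `p` -/
theorem exists_orderOf_eq_of_ne_bot [Finite G] {p : ℕ} [Fact p.Prime] (hG : IsPGroup p G)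
    (H : Subgroup G) (hH : H ≠ ⊥) : ∃ x ∈ H, orderOf x = p := by
  have hp : IsPGroup p H := hG.to_subgroup H
  rcases hp.card_eq_or_dvd with h | h
  · exact absurd (Subgroup.card_eq_one.mp h) hH
  · obtain ⟨x, hx⟩ := exists_prime_orderOf_dvd_card' p h
    refine ⟨x, x.2, ?_⟩
    rw [← hx]
    exact (Subgroup.orderOf_coe x)

/-- P12a (M). -/
theorem exists_pair_of_not_semireg [Finite G] {p : ℕ} [Fact p.Prime] (hG : IsPGroup p G)
    (ρ : G →* (V ≃ₗ[ZMod q] V)) (hc : CentFpf ρ) (hns : ¬ Semireg ρ) :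
    ∃ g z : G, g ^ p = 1 ∧ g ≠ 1 ∧ z ∈ Subgroup.center G ∧ z ≠ 1 ∧ z ^ p = 1 ∧
      g ∉ Subgroup.zpowers z := by
  unfold Semireg at hns
  push Not at hns
  obtain ⟨v, hv, h, hh, hh1⟩ := hns
  have hp1 : p ≠ 1 := (Fact.out : p.Prime).ne_one
  -- an element of order `p` fixing `v`
  have hz0 : Subgroup.zpowers h ≠ ⊥ := by
    intro hb
    exact hh1 (Subgroup.zpowers_eq_bot.mp hb)
  obtain ⟨g, hgm, hgo⟩ := exists_orderOf_eq_of_ne_bot hG (Subgroup.zpowers h) hz0
  have hgv : ρ g v = v := by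
    have hle : Subgroup.zpowers h ≤ stab ρ v := by
      rw [Subgroup.zpowers_le]
      exact hh
    exact hle hgm
  have hg1 : g ≠ 1 := by
    intro h1
    rw [h1, orderOf_one] at hgo
    exact hp1 hgo.symm
  have hgp : g ^ p = 1 := by
    rw [← hgo]
    exact pow_orderOf_eq_one g
  -- a central element of order `p`
  have hnt : Nontrivial G := ⟨⟨g, 1, hg1⟩⟩
  have hcn : Subgroup.center G ≠ ⊥ := by
    have := hG.center_nontrivial
    intro hb
    rw [hb] at this
    exact not_nontrivial _ this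
  obtain ⟨z, hzc, hzo⟩ := exists_orderOf_eq_of_ne_bot hG (Subgroup.center G) hcn
  have hz1 : z ≠ 1 := by
    intro h1
    rw [h1, orderOf_one] at hzo
    exact hp1 hzo.symm
  have hzp : z ^ p = 1 := by
    rw [← hzo]
    exact pow_orderOf_eq_one z
  refine ⟨g, z, hgp, hg1, hzc, hz1, hzp, ?_⟩
  intro hgz
  have hgc : g ∈ Subgroup.center G := (Subgroup.zpowers_le.mpr hzc) hgz
  exact hv (hc g hgc hg1 v hgv)

end Cfsg.Agent.Lib.H24.HT
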