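import Cfsg.Agent.Lib.H4.HT.Defs
import Cfsg.Prelude.Def_CaseTheorems

/-!
# S3371 (helper4 blueprint): piece PQ `trivial_of_eq` (helper24)
-/

set_option autoImplicit false

namespace Cfsg.Agent.Lib.H24.HT

open Cfsg Cfsg.Agent.Lib.H4.HT

variable {q : ℕ} {V : Type*} [AddCommGroup V] [Module (ZMod q) V] {G : Type*} [Group G]

/-- a non-trivial finite module over `ZMod q`, `q` prime, has order divisible by `q` -/
theorem dvd_card_of_nontrivial [Fact q.Prime] [Finite V] [Nontrivial V] : q ∣ Nat.card V := by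
  obtain ⟨v, hv⟩ := exists_ne (0 : V)
  have h1 : q • v = 0 := by
    rw [← Nat.cast_smul_eq_nsmul (ZMod q) q v, ZMod.natCast_self, zero_smul]
  have h2 : addOrderOf v ∣ q := addOrderOf_dvd_of_nsmul_eq_zero h1
  rcases (Nat.dvd_prime (Fact.out : q.Prime)).mp h2 with h | h
  · exact absurd (AddMonoid.addOrderOf_eq_one_iff.mp h) hv
  · rw [← h]
    exact addOrderOf_dvd_natCard v

/-- P1 (M): the case `p = q`. -/
theorem trivial_of_eq [Fact q.Prime] [Finite V] [Nontrivial V] [Finite G] (hG : IsPGroup q G)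
    (ρ : G →* (V ≃ₗ[ZMod q] V)) (hρ : Function.Injective ρ)
    (hhalf : ∀ v w : V, v ≠ 0 → w ≠ 0 →
      Nat.card {u : V | ∃ g : G, ρ g v = u} = Nat.card {u : V | ∃ g : G, ρ g w = u}) :
    ∀ g : G, g = 1 := by
  let _ : MulAction G V := MulAction.compHom V ρ
  have hsmul : ∀ (g : G) (u : V), g • u = ρ g u := fun _ _ => rfl
  have h0 : (0 : V) ∈ MulAction.fixedPoints G V := by
    intro g
    rw [hsmul, map_zero]
  obtain ⟨v, hvf, hv0⟩ := hG.exists_fixed_point_of_prime_dvd_card_of_fixed_point V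
    (dvd_card_of_nontrivial (q := q) (V := V)) h0
  have hv : v ≠ 0 := fun h => hv0 h.symm
  -- the orbit of `v` is a singleton
  have horb : ∀ w : V, w ≠ 0 → Nat.card {u : V | ∃ g : G, ρ g w = u} = 1 := by
    intro w hw
    rw [← hhalf v w hv hw]
    have : {u : V | ∃ g : G, ρ g v = u} = {v} := by
      ext u
      constructor
      · rintro ⟨g, rfl⟩
        exact hvf g
      · intro hu
        rw [Set.mem_singleton_iff] at hu
        exact ⟨1, by rw [hu, rho_one]⟩
    rw [this]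
    exact Nat.card_unique
  intro g
  apply hρ
  rw [map_one]
  apply LinearEquiv.ext
  intro w
  show ρ g w = w
  by_cases hw : w = 0
  · rw [hw, map_zero]
  · have h1 := horb w hw
    rw [Nat.card_eq_one_iff_unique] at h1
    obtain ⟨hs, -⟩ := h1
    have a1 : (⟨ρ g w, ⟨g, rfl⟩⟩ : {u : V | ∃ g : G, ρ g w = u}) = ⟨w, ⟨1, rho_one ρ w⟩⟩ :=
      Subsingleton.elim _ _
    exact congrArg Subtype.val a1

end Cfsg.Agent.Lib.H24.HT
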