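import Mathlib
import Cfsg.Agent.Lib.H15.HigBasic
import Cfsg.Agent.Lib.H15.HigVPINV
import Cfsg.Agent.Lib.H6.HigXV0
import Cfsg.Agent.Lib.H16.HigCOMM
import Cfsg.Agent.Lib.H16.HigALG

/-!
# S3050 pieces XLE + TOP (twins, helper24): `X ≤ Vp` and `Vp = ⊤`
-/

set_option autoImplicit false
set_option linter.unusedSectionVars false
set_option linter.style.haveILetI false

namespace Cfsg.Agent.Lib.H24.Hig

open Matrix Cfsg.Agent.Lib.H15.Hig

section abstract
variable {K : Type*} [Field K] [CharP K 2] {V : Type*} [AddCommGroup V] (O : Ops K V)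

/-- XLE (twin). -/
theorem X_le_Vp (hg : Good K V) : X O ≤ Vp O := by
  intro m hm
  letI := modV0 O hg
  let P : K → V0 O := fun a => ⟨O.U a m - m, Cfsg.Agent.Lib.H6.Hig.sub_mem_V0_of_mem_X O hg hm a⟩
  have hPadd : ∀ a b, P (a + b) = P a + P b := by
    intro a b
    apply Subtype.ext
    exact Cfsg.Agent.Lib.H6.Hig.sub_add_of_mem_X O hg hm a b
  have hP0 : P 0 = 0 := by
    apply Subtype.ext
    show O.U 0 m - m = 0
    rw [O.U_zero, sub_self]
  let s : V0 O := ⟨m + m, Cfsg.Agent.Lib.H16.Hig.two_mem_V0 O hg hm⟩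
  have h2 : ∀ x : V0 O, x + x = 0 := by
    intro x
    apply Subtype.ext
    exact add_self_of_mem_V0 O hg x.2
  let θ : K →+ V0 O :=
    { toFun := fun a => P a + a • P 1 + a • s
      map_zero' := by
        rw [hP0, zero_smul, zero_smul, add_zero, add_zero]
      map_add' := by
        intro a b
        rw [hPadd, add_smul, add_smul]
        abel }
  have hθ : ∀ a, θ a = P a + a • P 1 + a • s := fun a => rfl
  have hcomm : ∀ a : K, a ≠ 0 → a • s + s = a • P (a⁻¹ ^ 2) + P a⁻¹ + P a + a • P 1 := by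
    intro a ha
    apply Subtype.ext
    have := Cfsg.Agent.Lib.H16.Hig.comm_identity O hg hm ha
    simp only [AddSubgroup.coe_add, coe_smul_V0 O hg ha]
    exact this
  have hi : ∀ a : K, a ≠ 0 → θ 1 = a • θ (a⁻¹ ^ 2) + θ a⁻¹ + θ a := by
    intro a ha
    have hmul : a * a⁻¹ ^ 2 = a⁻¹ := by
      field_simp
    rw [hθ, hθ, hθ, hθ]
    simp only [smul_add, smul_smul, hmul, one_smul]
    linear_combination (norm := abel) hcomm a ha + h2 (P 1) - h2 (a • s) - h2 (a⁻¹ • P 1) -
      h2 (a⁻¹ • s)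
  have hzero := Cfsg.Agent.Lib.H16.Hig.theta_eq_zero hg.big hg.sq θ hi
  have hs : s = 0 := by
    have h1 := hzero 1
    rw [hθ, one_smul, one_smul, h2, zero_add] at h1
    exact h1
  have hPa : ∀ a, P a = a • P 1 := by
    intro a
    have h1 := hzero a
    rw [hθ, hs, smul_zero, add_zero] at h1
    have h3 := h2 (a • P 1)
    linear_combination (norm := abel) h1 - h3
  -- `m' := m + W p(1)` is fixed by all `U a`
  have hm' : m + O.W (P 1 : V) ∈ V0 O := by
    intro a
    by_cases ha : a = 0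
    · rw [ha, O.U_zero]
    · rw [map_add, U_W_of_mem_V0' O hg ha (P 1).2]
      have h4 : ((P a : V0 O) : V) = O.H a (P 1 : V) := by
        rw [hPa a]
        exact coe_smul_V0 O hg ha (P 1)
      have h5 : O.U a m = m + O.H a (P 1 : V) := by
        rw [← h4]
        show O.U a m = m + (O.U a m - m)
        abel
      have h6 := add_self_of_mem_V0 O hg (H_mem_V0 O ha (P 1).2)
      rw [h5]
      linear_combination (norm := abel) h6
  rw [mem_Vp]
  refine ⟨m + O.W (P 1 : V), hm', -(P 1 : V), (V0 O).neg_mem (P 1).2, ?_⟩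
  rw [map_neg]
  abel

/-- TOP from XLE. -/
theorem Vp_eq_top_of_X_le [Finite K] [Finite V] (hg : Good K V) (hXle : X O ≤ Vp O) :
    Vp O = ⊤ := by
  by_contra hne
  have hmap : ∀ a : K, Vp O ≤ (Vp O).comap (O.U a) := fun a m hm => U_mem_Vp O hg a hm
  letI : MulAction (Multiplicative K) (V ⧸ Vp O) :=
    { smul := fun a => QuotientAddGroup.map (Vp O) (Vp O) (O.U a.toAdd) (hmap _)
      one_smul := by
        intro q
        induction q using QuotientAddGroup.induction_on with
        | H m =>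
          show QuotientAddGroup.map (Vp O) (Vp O) (O.U (0 : K)) (hmap _) (m : V ⧸ Vp O) = _
          rw [QuotientAddGroup.map_mk, O.U_zero]
      mul_smul := by
        intro a b q
        induction q using QuotientAddGroup.induction_on with
        | H m =>
          show QuotientAddGroup.map (Vp O) (Vp O) (O.U (a.toAdd + b.toAdd)) (hmap _)
            (m : V ⧸ Vp O) = QuotientAddGroup.map (Vp O) (Vp O) (O.U a.toAdd) (hmap _)
              (QuotientAddGroup.map (Vp O) (Vp O) (O.U b.toAdd) (hmap _) (m : V ⧸ Vp O))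
          rw [QuotientAddGroup.map_mk, QuotientAddGroup.map_mk, QuotientAddGroup.map_mk, O.U_add] }
  have hsmul : ∀ (a : Multiplicative K) (m : V),
      a • (m : V ⧸ Vp O) = ((O.U a.toAdd m : V) : V ⧸ Vp O) := fun a m => rfl
  have hP : IsPGroup 2 (Multiplicative K) := by
    intro g
    refine ⟨1, ?_⟩
    rw [pow_one]
    show Multiplicative.ofAdd (2 • g.toAdd) = 1
    rw [two_nsmul, CharTwo.add_self_eq_zero]
    rfl
  -- `2 ∣ |V ⧸ Vp|`
  have hex : ∃ m : V, m ∉ Vp O := by
    by_contra hall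
    push Not at hall
    exact hne (eq_top_iff.mpr fun m _ => hall m)
  obtain ⟨m₀, hm₀⟩ := hex
  have hq0 : ((m₀ : V) : V ⧸ Vp O) ≠ 0 := by
    intro h0
    exact hm₀ ((QuotientAddGroup.eq_zero_iff m₀).mp h0)
  have h2 : 2 ∣ Nat.card (V ⧸ Vp O) := by
    obtain ⟨k, hk⟩ := hg.tors m₀
    have hk' : 2 ^ k • ((m₀ : V) : V ⧸ Vp O) = 0 := by
      rw [← QuotientAddGroup.mk_nsmul, hk]
      rfl
    have hdvd := addOrderOf_dvd_of_nsmul_eq_zero hk'
    obtain ⟨j, _, hj⟩ := (Nat.dvd_prime_pow Nat.prime_two).mp hdvd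
    have hj0 : j ≠ 0 := by
      intro h0
      rw [h0, pow_zero, AddMonoid.addOrderOf_eq_one_iff] at hj
      exact hq0 hj
    have h2dvd : 2 ∣ addOrderOf ((m₀ : V) : V ⧸ Vp O) := by
      rw [hj]
      exact dvd_pow_self 2 hj0
    exact h2dvd.trans (addOrderOf_dvd_natCard _)
  haveI : Fact (Nat.Prime 2) := ⟨Nat.prime_two⟩
  have hfix0 : (0 : V ⧸ Vp O) ∈ MulAction.fixedPoints (Multiplicative K) (V ⧸ Vp O) := by
    intro a
    show a • (((0 : V)) : V ⧸ Vp O) = _
    rw [hsmul, map_zero]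
    rfl
  obtain ⟨b, hb, hb0⟩ := hP.exists_fixed_point_of_prime_dvd_card_of_fixed_point (V ⧸ Vp O) h2 hfix0
  induction b using QuotientAddGroup.induction_on with
  | H m =>
    have hmX : m ∈ X O := by
      intro a
      have := hb (Multiplicative.ofAdd a)
      rw [hsmul] at this
      have h3 : ((O.U a m - m : V) : V ⧸ Vp O) = 0 := by
        rw [QuotientAddGroup.mk_sub, toAdd_ofAdd] at *
        rw [this, sub_self]
      exact (QuotientAddGroup.eq_zero_iff _).mp h3
    apply hb0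
    symm
    exact (QuotientAddGroup.eq_zero_iff m).mpr (hXle hmX)


/-- TOP (L10) : `Vp = ⊤`. -/
theorem Vp_eq_top [Finite K] [Finite V] (hg : Good K V) : Vp O = ⊤ :=
  Vp_eq_top_of_X_le O hg (X_le_Vp O hg)

end abstract

end Cfsg.Agent.Lib.H24.Hig
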