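import Mathlib
import Cfsg.Agent.Lib.H15.HigBasic
import Cfsg.Agent.Lib.H15.HigVPINV
import Cfsg.Agent.Lib.H24.HigTOP

/-!
# S3050 piece DEC (helper15 blueprint): the decomposition `V ≃+ V0 × V0` (helper24)
-/

set_option autoImplicit false
set_option linter.unusedSectionVars false

namespace Cfsg.Agent.Lib.H24.Hig

open Matrix Cfsg.Agent.Lib.H15.Hig

section abstract
variable {K : Type*} [Field K] [CharP K 2] {V : Type*} [AddCommGroup V] (O : Ops K V)

/-- the map `(x, y) ↦ x + W y`. -/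
def decHom : (V0 O × V0 O) →+ V where
  toFun p := (p.1 : V) + O.W (p.2 : V)
  map_zero' := by simp
  map_add' p q := by
    simp only [Prod.fst_add, Prod.snd_add, AddSubgroup.coe_add, map_add]
    abel

theorem decHom_apply (p : V0 O × V0 O) : decHom O p = (p.1 : V) + O.W (p.2 : V) := rfl

theorem decHom_injective (hg : Good K V) : Function.Injective (decHom O) := by
  rw [injective_iff_map_eq_zero]
  intro p hp
  rw [decHom_apply] at hp
  have h1 : (p.1 : V) = O.W (-(p.2 : V)) := by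
    rw [map_neg]
    exact eq_neg_of_add_eq_zero_left hp
  have hmem : (p.1 : V) ∈ V0 O ⊓ V1 O := by
    rw [AddSubgroup.mem_inf]
    refine ⟨p.1.2, ?_⟩
    rw [mem_V1]
    exact ⟨-(p.2 : V), (V0 O).neg_mem p.2.2, h1.symm⟩
  rw [V0_inf_V1 O hg.tors, AddSubgroup.mem_bot] at hmem
  have h2 : O.W (p.2 : V) = 0 := by
    rw [hmem, zero_add] at hp
    exact hp
  have h3 : (p.2 : V) = 0 := by
    apply W_injective O
    rw [h2, map_zero]
  ext
  · simpa using hmem
  · simpa using h3

theorem decHom_surjective (htop : Vp O = ⊤) : Function.Surjective (decHom O) := by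
  intro m
  have hm : m ∈ Vp O := by
    rw [htop]
    exact AddSubgroup.mem_top m
  obtain ⟨x, hx, y, hy, rfl⟩ := (mem_Vp O).1 hm
  exact ⟨(⟨x, hx⟩, ⟨y, hy⟩), rfl⟩

theorem exists_decomp_of_top (hg : Good K V) (htop : Vp O = ⊤) :
    ∃ D : V ≃+ (V0 O × V0 O),
      (∀ m, ((D m).1 : V) + O.W (D m).2 = m) ∧
      (∀ a m, D (O.U a m) = ((D m).1 + sm O a (D m).2, (D m).2)) ∧
      (∀ m, D (O.W m) = ((D m).2, (D m).1)) := by
  let E : (V0 O × V0 O) ≃+ V :=
    AddEquiv.ofBijective (decHom O) ⟨decHom_injective O hg, decHom_surjective O htop⟩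
  have hE : ∀ p, E p = (p.1 : V) + O.W (p.2 : V) := fun p => rfl
  have hD : ∀ m, ((E.symm m).1 : V) + O.W (E.symm m).2 = m := by
    intro m
    rw [← hE, AddEquiv.apply_symm_apply]
  refine ⟨E.symm, hD, ?_, ?_⟩
  · intro a m
    rw [AddEquiv.symm_apply_eq, hE]
    by_cases ha : a = 0
    · subst ha
      rw [sm_zero_left, add_zero, O.U_zero]
      exact (hD m).symm
    · show O.U a m = (((E.symm m).1 + sm O a (E.symm m).2 : V0 O) : V) + O.W ((E.symm m).2 : V)
      rw [AddSubgroup.coe_add, coe_sm_of_ne O ha]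
      conv_lhs => rw [← hD m]
      exact U_add_W O hg ha (E.symm m).1.2 (E.symm m).2.2
  · intro m
    rw [AddEquiv.symm_apply_eq, hE]
    show O.W m = ((E.symm m).2 : V) + O.W ((E.symm m).1 : V)
    conv_lhs => rw [← hD m]
    rw [map_add, O.W_W, add_comm]

/-- DEC. -/
theorem exists_decomp [Finite K] [Finite V] (hg : Good K V) :
    ∃ D : V ≃+ (V0 O × V0 O),
      (∀ m, ((D m).1 : V) + O.W (D m).2 = m) ∧
      (∀ a m, D (O.U a m) = ((D m).1 + sm O a (D m).2, (D m).2)) ∧
      (∀ m, D (O.W m) = ((D m).2, (D m).1)) :=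
  exists_decomp_of_top O hg (Vp_eq_top O hg)

end abstract

end Cfsg.Agent.Lib.H24.Hig
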