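import Mathlib
import Cfsg.Agent.Lib.H15.HigBasic
import Cfsg.Agent.Lib.H24.HigDEC

/-!
# S3050 piece COORD (helper15 blueprint): coordinates `V ≃+ (K²)^k` (helper24)
-/

set_option autoImplicit false
set_option linter.unusedSectionVars false
set_option linter.style.haveILetI false

namespace Cfsg.Agent.Lib.H24.Hig

open Matrix Cfsg.Agent.Lib.H15.Hig

/-- pairs of functions as functions into `Fin 2 → K`. -/
def pairEquiv (K : Type*) [AddCommGroup K] (k : ℕ) :
    ((Fin k → K) × (Fin k → K)) ≃+ (Fin k → Fin 2 → K) where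
  toFun p i := ![p.1 i, p.2 i]
  invFun Ψ := (fun i => Ψ i 0, fun i => Ψ i 1)
  left_inv p := by
    ext i <;> simp
  right_inv Ψ := by
    funext i j
    fin_cases j <;> simp
  map_add' p q := by
    funext i j
    fin_cases j <;> simp

theorem pairEquiv_apply (K : Type*) [AddCommGroup K] (k : ℕ) (p : (Fin k → K) × (Fin k → K))
    (i : Fin k) : pairEquiv K k p i = ![p.1 i, p.2 i] := rfl

section abstract
variable {K : Type*} [Field K] [CharP K 2] {V : Type*} [AddCommGroup V] (O : Ops K V)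

theorem exists_coords_of_decomp [Finite K] [Finite V] (hg : Good K V)
    (D : V ≃+ (V0 O × V0 O))
    (hU : ∀ a m, D (O.U a m) = ((D m).1 + sm O a (D m).2, (D m).2))
    (hW : ∀ m, D (O.W m) = ((D m).2, (D m).1)) :
    ∃ (k : ℕ) (Φ : V ≃+ (Fin k → Fin 2 → K)),
      (∀ a m i, Φ (O.U a m) i = ![Φ m i 0 + a * Φ m i 1, Φ m i 1]) ∧
      (∀ m i, Φ (O.W m) i = ![Φ m i 1, Φ m i 0]) := by
  letI := modV0 O hg
  haveI : Module.Finite K (V0 O) := Module.Finite.of_finite
  let b := Module.finBasis K (V0 O)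
  let e : (V0 O) ≃+ (Fin (Module.finrank K (V0 O)) → K) := b.equivFun.toAddEquiv
  have he_add : ∀ x y, e (x + y) = e x + e y := fun x y => map_add e x y
  have he_smul : ∀ (a : K) (y : V0 O), e (sm O a y) = a • e y := by
    intro a y
    have h1 : sm O a y = a • y := rfl
    rw [h1]
    exact map_smul b.equivFun a y
  let Φ : V ≃+ (Fin (Module.finrank K (V0 O)) → Fin 2 → K) :=
    (D.trans (AddEquiv.prodCongr e e)).trans (pairEquiv K _)
  have hΦ : ∀ m i, Φ m i = ![e (D m).1 i, e (D m).2 i] := fun m i => rfl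
  refine ⟨Module.finrank K (V0 O), Φ, ?_, ?_⟩
  · intro a m i
    rw [hΦ, hΦ, hU]
    simp only [he_add, he_smul, Pi.add_apply, Pi.smul_apply, smul_eq_mul, Matrix.cons_val_zero,
      Matrix.cons_val_one]
  · intro m i
    rw [hΦ, hΦ, hW]
    simp only [Matrix.cons_val_zero, Matrix.cons_val_one]

/-- COORD. -/
theorem exists_coords [Finite K] [Finite V] (hg : Good K V) :
    ∃ (k : ℕ) (Φ : V ≃+ (Fin k → Fin 2 → K)),
      (∀ a m i, Φ (O.U a m) i = ![Φ m i 0 + a * Φ m i 1, Φ m i 1]) ∧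
      (∀ m i, Φ (O.W m) i = ![Φ m i 1, Φ m i 0]) := by
  obtain ⟨D, _, hU, hW⟩ := exists_decomp O hg
  exact exists_coords_of_decomp O hg D hU hW

end abstract

end Cfsg.Agent.Lib.H24.Hig
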