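import Mathlib
import Cfsg.Agent.Lib.H15.HigBasic
import Cfsg.Agent.Lib.H15.Nat2
import Cfsg.Agent.Lib.H15.Nat5
import Cfsg.Agent.Lib.H15.HigOPS
import Cfsg.Agent.Lib.H29.HigACT
import Cfsg.Agent.Lib.H29.HigFIELD
import Cfsg.Agent.Lib.H27.HigHF
import Cfsg.Agent.Lib.H6.HigPAIR2

/-!
# S3050 piece PAIRG (twin, helper24): Lemma C for groups
-/

set_option autoImplicit false
set_option linter.unusedSectionVars false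
set_option linter.style.haveILetI false

namespace Cfsg.Agent.Lib.H24.Hig

open Matrix Cfsg.Agent.Lib.H2.SL2 Cfsg.Agent.Lib.H15.Nat Cfsg.Agent.Lib.H15.Hig
open scoped IsMulCommutative

/-- PAIRG. -/
theorem pairing_groups {K : Type*} [Field K] [Fintype K] {n : ℕ} (hn : 2 ≤ n)
    (hK : Fintype.card K = 2 ^ n)
    {G₁ : Type*} [Group G₁] [Finite G₁] {G₂ : Type*} [Group G₂] [Finite G₂]
    (π₁ : G₁ →* SpecialLinearGroup (Fin 2) K) (hπ₁ : Function.Surjective π₁)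
    (π₂ : G₂ →* SpecialLinearGroup (Fin 2) K) (hπ₂ : Function.Surjective π₂)
    (A₁ : Subgroup G₁) [A₁.Normal] (hA₁ : IsPGroup 2 ↥A₁)
    (hcomm₁ : ∀ a ∈ A₁, ∀ b ∈ A₁, a * b = b * a)
    (hcen₁ : ∀ q ∈ π₁.ker, ∀ a ∈ A₁, q * a = a * q)
    (A₂ : Subgroup G₂) [A₂.Normal] (hA₂ : IsPGroup 2 ↥A₂)
    (hcomm₂ : ∀ a ∈ A₂, ∀ b ∈ A₂, a * b = b * a)
    (hcen₂ : ∀ q ∈ π₂.ker, ∀ a ∈ A₂, q * a = a * q)
    (x₁ : G₁) (hx₁3 : x₁ ^ 3 = 1) (hx₁1 : π₁ x₁ ≠ 1) (hfpf₁ : ∀ a ∈ A₁, x₁ * a * x₁⁻¹ = a → a = 1)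
    (x₂ : G₂) (hx₂3 : x₂ ^ 3 = 1) (hx₂1 : π₂ x₂ ≠ 1) (hfpf₂ : ∀ a ∈ A₂, x₂ * a * x₂⁻¹ = a → a = 1)
    (c : ↥A₁ → ↥A₁ → ↥A₂)
    (hmul1 : ∀ u u' v, c (u * u') v = c u v * c u' v)
    (hmul2 : ∀ u v v', c u (v * v') = c u v * c u v')
    (heq : ∀ (g₁ : G₁) (g₂ : G₂), π₁ g₁ = π₂ g₂ → ∀ (u v u' v' : ↥A₁),
      (u' : G₁) = g₁ * u * g₁⁻¹ → (v' : G₁) = g₁ * v * g₁⁻¹ →
      ((c u' v' : ↥A₂) : G₂) = g₂ * (c u v : ↥A₂) * g₂⁻¹) :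
    ∀ u v, c u v = 1 := by
  obtain ⟨hchar, hbig, hsq⟩ := Cfsg.Agent.Lib.H29.Hig.field_facts hn hK
  haveI := hchar
  haveI : IsMulCommutative ↥A₁ := ⟨⟨fun a b => Subtype.ext (hcomm₁ a a.2 b b.2)⟩⟩
  haveI : IsMulCommutative ↥A₂ := ⟨⟨fun a b => Subtype.ext (hcomm₂ a a.2 b b.2)⟩⟩
  have hF₁ := Cfsg.Agent.Lib.H27.Hig.act_hF π₁ hπ₁ hsq A₁ hcen₁ x₁ hx₁3 hx₁1 hfpf₁
  have hF₂ := Cfsg.Agent.Lib.H27.Hig.act_hF π₂ hπ₂ hsq A₂ hcen₂ x₂ hx₂3 hx₂1 hfpf₂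
  have hg₁ : Good K (Additive ↥A₁) := Cfsg.Agent.Lib.H29.Hig.good_additive hbig hsq hA₁
  have hg₂ : Good K (Additive ↥A₂) := Cfsg.Agent.Lib.H29.Hig.good_additive hbig hsq hA₂
  -- the general equivariance
  have hgen : ∀ (s : SpecialLinearGroup (Fin 2) K) (x y : Additive ↥A₁),
      Additive.ofMul (c (Cfsg.Agent.Lib.H29.Hig.act π₁ hπ₁ A₁ hcen₁ s x).toMul
        (Cfsg.Agent.Lib.H29.Hig.act π₁ hπ₁ A₁ hcen₁ s y).toMul) =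
      Cfsg.Agent.Lib.H29.Hig.act π₂ hπ₂ A₂ hcen₂ s (Additive.ofMul (c x.toMul y.toMul)) := by
    intro s x y
    obtain ⟨g₁, rfl⟩ := hπ₁ s
    obtain ⟨g₂, hg₂s⟩ := hπ₂ (π₁ g₁)
    have h1 := Cfsg.Agent.Lib.H29.Hig.act_apply π₁ hπ₁ A₁ hcen₁ g₁ x.toMul
    have h2 := Cfsg.Agent.Lib.H29.Hig.act_apply π₁ hπ₁ A₁ hcen₁ g₁ y.toMul
    have h3 := heq g₁ g₂ hg₂s.symm x.toMul y.toMul _ _ h1 h2
    have h4 := Cfsg.Agent.Lib.H29.Hig.act_apply π₂ hπ₂ A₂ hcen₂ g₂ (c x.toMul y.toMul)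
    rw [hg₂s] at h4
    apply Additive.toMul.injective
    apply Subtype.ext
    rw [h4]
    exact h3
  have key := Cfsg.Agent.Lib.H6.Hig.pairing_eq_zero
    (opsOf (Cfsg.Agent.Lib.H29.Hig.act π₁ hπ₁ A₁ hcen₁) hF₁)
    (opsOf (Cfsg.Agent.Lib.H29.Hig.act π₂ hπ₂ A₂ hcen₂) hF₂) hg₁ hg₂
    (fun x y => Additive.ofMul (c x.toMul y.toMul))
    (fun x y z => by
      show Additive.ofMul (c (x.toMul * y.toMul) z.toMul) = _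
      rw [hmul1]
      rfl)
    (fun x y z => by
      show Additive.ofMul (c x.toMul (y.toMul * z.toMul)) = _
      rw [hmul2]
      rfl)
    (fun a x y => hgen (uSL a) x y)
    (fun x y => hgen (nSL 1) x y)
    (fun a _ x y => hgen (hSL a) x y)
  intro u v
  exact congrArg Additive.toMul (key (Additive.ofMul u) (Additive.ofMul v))

end Cfsg.Agent.Lib.H24.Hig
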