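import Mathlib
import Cfsg.Agent.Lib.H15.HigBasic
import Cfsg.Agent.Lib.H15.Nat2
import Cfsg.Agent.Lib.H15.Nat5
import Cfsg.Agent.Lib.H22.HigCPAIR
import Cfsg.Agent.Lib.H26.HigQUOT
import Cfsg.Agent.Lib.H24.HigPAIRG

/-!
# S3050 piece STEP (twin, helper24): if `Q/Z(Q)` is abelian then `Q` is abelian
-/

set_option autoImplicit false
set_option linter.unusedSectionVars false

namespace Cfsg.Agent.Lib.H24.Hig

open Matrix Cfsg.Agent.Lib.H2.SL2 Cfsg.Agent.Lib.H15.Nat Cfsg.Agent.Lib.H15.Hig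
open scoped IsMulCommutative

/-- STEP. -/
theorem comm_step {K : Type*} [Field K] [Fintype K] {n : ℕ} (hn : 2 ≤ n)
    (hK : Fintype.card K = 2 ^ n) {G : Type*} [Group G] [Finite G]
    (π : G →* SpecialLinearGroup (Fin 2) K) (hπ : Function.Surjective π)
    (hQ : IsPGroup 2 ↥π.ker) (x : G) (hx3 : x ^ 3 = 1) (hx1 : π x ≠ 1)
    (hfpf : ∀ q ∈ π.ker, x * q * x⁻¹ = q → q = 1)
    (Z : Subgroup G) [Z.Normal] (hZ : Z = π.ker ⊓ Subgroup.centralizer (π.ker : Set G))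
    (hZker : Z ≤ π.ker)
    (hIH : ∀ a ∈ (QuotientGroup.lift Z π hZker).ker, ∀ b ∈ (QuotientGroup.lift Z π hZker).ker,
      a * b = b * a) :
    ∀ a ∈ π.ker, ∀ b ∈ π.ker, a * b = b * a := by
  obtain ⟨hπ', hker', hP', hx'3, hx'1, hfpf', _⟩ :=
    Cfsg.Agent.Lib.H26.Hig.quot_data π hπ hQ x hx3 hx1 hfpf Z hZker
  set π' := QuotientGroup.lift Z π hZker with hπ'def
  -- `Z` is centralized by `Q`
  have hcen : ∀ q ∈ π.ker, ∀ z ∈ Z, q * z = z * q := by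
    intro q hq z hz
    rw [hZ] at hz
    exact (Subgroup.mem_centralizer_iff.mp hz.2 q hq)
  -- commutators of `Q` lie in `Z`
  have hab : ∀ a ∈ π.ker, ∀ b ∈ π.ker, a * b * a⁻¹ * b⁻¹ ∈ Z := by
    intro a ha b hb
    have h1 := hIH (a : G ⧸ Z) ((hker' a).mpr ha) (b : G ⧸ Z) ((hker' b).mpr hb)
    rw [← QuotientGroup.eq_one_iff]
    have : ((a * b * a⁻¹ * b⁻¹ : G) : G ⧸ Z) =
        (a : G ⧸ Z) * (b : G ⧸ Z) * (a : G ⧸ Z)⁻¹ * (b : G ⧸ Z)⁻¹ := by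
      simp
    rw [this, h1]
    group
  obtain ⟨c, hc, hmul1, hmul2⟩ :=
    Cfsg.Agent.Lib.H22.Hig.exists_comm_pairing π.ker Z hZker hcen hab π'.ker hker'
  have hZP : IsPGroup 2 ↥Z := hQ.to_le hZker
  have hZcomm : ∀ a ∈ Z, ∀ b ∈ Z, a * b = b * a := fun a ha b hb => hcen a (hZker ha) b hb
  have hcz : ∀ u v, c u v = 1 := by
    refine pairing_groups hn hK π' hπ' π hπ π'.ker hP' hIH hIH Z hZP hZcomm hcen
      (x : G ⧸ Z) hx'3 hx'1 hfpf' x hx3 hx1 (fun a ha => hfpf a (hZker ha)) c hmul1 hmul2 ?_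
    intro g₁ g₂ hg u v u' v' hu' hv'
    obtain ⟨g', rfl⟩ := QuotientGroup.mk_surjective g₁
    obtain ⟨a, ha⟩ := QuotientGroup.mk_surjective (u : G ⧸ Z)
    obtain ⟨b, hb⟩ := QuotientGroup.mk_surjective (v : G ⧸ Z)
    have haQ : a ∈ π.ker := (hker' a).mp (by rw [ha]; exact u.2)
    have hbQ : b ∈ π.ker := (hker' b).mp (by rw [hb]; exact v.2)
    have hu'' : (u' : G ⧸ Z) = ((g' * a * g'⁻¹ : G) : G ⧸ Z) := by
      rw [hu', ← ha]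
      simp
    have hv'' : (v' : G ⧸ Z) = ((g' * b * g'⁻¹ : G) : G ⧸ Z) := by
      rw [hv', ← hb]
      simp
    rw [hc (g' * a * g'⁻¹) (g' * b * g'⁻¹) u' v' hu'' hv'', hc a b u v ha.symm hb.symm]
    -- `g' = g₂ q` with `q ∈ Q`
    have hq : g₂⁻¹ * g' ∈ π.ker := by
      rw [MonoidHom.mem_ker, map_mul, map_inv]
      have : π g' = π g₂ := by
        rw [← hg]
        rfl
      rw [this, inv_mul_cancel]
    have hcomm := hcen (g₂⁻¹ * g') hq (a * b * a⁻¹ * b⁻¹) (hab a haQ b hbQ)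
    have e1 : g' * a * g'⁻¹ * (g' * b * g'⁻¹) * (g' * a * g'⁻¹)⁻¹ * (g' * b * g'⁻¹)⁻¹ =
        g₂ * ((g₂⁻¹ * g') * (a * b * a⁻¹ * b⁻¹)) * g'⁻¹ := by group
    rw [e1, hcomm]
    group
  intro a ha b hb
  have h1 := hc a b ⟨(a : G ⧸ Z), (hker' a).mpr ha⟩ ⟨(b : G ⧸ Z), (hker' b).mpr hb⟩ rfl rfl
  rw [hcz] at h1
  have h2 : a * b * a⁻¹ * b⁻¹ = 1 := h1.symm
  calc a * b = (a * b * a⁻¹ * b⁻¹) * (b * a) := by group
    _ = b * a := by rw [h2, one_mul]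

end Cfsg.Agent.Lib.H24.Hig
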