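import Mathlib
import Cfsg.Agent.Lib.H24.HigSTEP

/-!
# S3050 piece MAINCOMM (twin, helper24): `ker π` is abelian
-/

set_option autoImplicit false
set_option linter.unusedSectionVars false
set_option linter.style.haveILetI false

namespace Cfsg.Agent.Lib.H24.Hig

open Matrix Cfsg.Agent.Lib.H2.SL2 Cfsg.Agent.Lib.H15.Nat Cfsg.Agent.Lib.H15.Hig
open scoped IsMulCommutative

universe u

theorem ker_comm_aux {K : Type*} [Field K] [Fintype K] {n : ℕ} (hn : 2 ≤ n)
    (hK : Fintype.card K = 2 ^ n) :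
    ∀ (N : ℕ) (G : Type u) [Group G] [Finite G]
    (π : G →* SpecialLinearGroup (Fin 2) K) (_ : Function.Surjective π)
    (_ : IsPGroup 2 ↥π.ker) (x : G) (_ : x ^ 3 = 1) (_ : π x ≠ 1)
    (_ : ∀ q ∈ π.ker, x * q * x⁻¹ = q → q = 1), Nat.card ↥π.ker = N →
    ∀ a ∈ π.ker, ∀ b ∈ π.ker, a * b = b * a := by
  intro N
  induction N using Nat.strong_induction_on with
  | _ N ih =>
    intro G _ _ π hπ hQ x hx3 hx1 hfpf hN
    by_cases htriv : π.ker = ⊥
    · intro a ha b hb
      rw [htriv, Subgroup.mem_bot] at ha hb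
      rw [ha, hb]
    · -- the centre of `Q`
      let Z : Subgroup G := π.ker ⊓ Subgroup.centralizer (π.ker : Set G)
      haveI : Z.Normal := Subgroup.normal_inf_normal _ _
      have hZker : Z ≤ π.ker := inf_le_left
      -- `Z` is nontrivial
      haveI : Nontrivial ↥π.ker := by
        rw [Subgroup.nontrivial_iff_ne_bot]
        exact htriv
      haveI := hQ.center_nontrivial
      obtain ⟨z, hz⟩ := exists_ne (1 : Subgroup.center ↥π.ker)
      have hzZ : ((z : ↥π.ker) : G) ∈ Z := by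
        rw [Subgroup.mem_inf]
        refine ⟨(z : ↥π.ker).2, ?_⟩
        rw [Subgroup.mem_centralizer_iff]
        intro q hq
        have := (Subgroup.mem_center_iff.mp z.2) ⟨q, hq⟩
        exact congrArg Subtype.val this
      have hz1 : ((z : ↥π.ker) : G) ≠ 1 := by
        intro h1
        apply hz
        apply Subtype.ext
        apply Subtype.ext
        exact h1
      have hZcard : 1 < Nat.card ↥Z := by
        rw [Finite.one_lt_card_iff_nontrivial]
        exact ⟨⟨⟨_, hzZ⟩, 1, fun h => hz1 (congrArg Subtype.val h)⟩⟩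
      obtain ⟨hπ', hker', hP', hx'3, hx'1, hfpf', hcard⟩ :=
        Cfsg.Agent.Lib.H26.Hig.quot_data π hπ hQ x hx3 hx1 hfpf Z hZker
      have hlt : Nat.card ↥(QuotientGroup.lift Z π hZker).ker < N := by
        rw [← hN, ← hcard]
        have hpos : 0 < Nat.card ↥(QuotientGroup.lift Z π hZker).ker := Nat.card_pos
        nlinarith
      have hIH := ih _ hlt (G ⧸ Z) (QuotientGroup.lift Z π hZker) hπ' hP' (x : G ⧸ Z) hx'3 hx'1
        hfpf' rfl
      exact comm_step hn hK π hπ hQ x hx3 hx1 hfpf Z rfl hZker hIH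

/-- MAINCOMM. -/
theorem ker_comm {K : Type*} [Field K] [Fintype K] {n : ℕ} (hn : 2 ≤ n)
    (hK : Fintype.card K = 2 ^ n) {G : Type*} [Group G] [Finite G]
    (π : G →* SpecialLinearGroup (Fin 2) K) (hπ : Function.Surjective π)
    (hQ : IsPGroup 2 ↥π.ker) (x : G) (hx3 : x ^ 3 = 1) (hx1 : π x ≠ 1)
    (hfpf : ∀ q ∈ π.ker, x * q * x⁻¹ = q → q = 1) :
    ∀ a ∈ π.ker, ∀ b ∈ π.ker, a * b = b * a :=
  ker_comm_aux hn hK _ G π hπ hQ x hx3 hx1 hfpf rfl

end Cfsg.Agent.Lib.H24.Hig
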