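import Mathlib
import Cfsg.Agent.Lib.H24.BrolineGarrison
import Cfsg.Agent.Lib.H24.CharAbelian
import Cfsg.Agent.Lib.H23.Ito
import Cfsg.Agent.Lib.H23.DegreeDvd
import Cfsg.Agent.Lib.H23.BrauerThm
import Cfsg.Agent.Lib.L0.CharIndChar

/-!
# Characters induced from subgroups: degree criteria (helper24's library)

* `eq_indFun_of_degree_eq` : an irreducible `χ` of `G` and a constituent `ψ` of `χ_H` with
  `|G : H| ψ(1) = χ(1)` satisfy `χ = ψ^G`.
* `isIrrCharacter_of_indFun_irr` : if `θ^G` is irreducible then so is `θ`.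
-/

set_option autoImplicit false

namespace Cfsg.Agent.Lib.H24

open scoped ComplexConjugate
open Cfsg Cfsg.Agent.Lib.L0 Cfsg.Agent.Lib.H23

section

variable {G : Type*} [Group G] [Fintype G]

/-- An irreducible constituent `ψ` of `χ_H` lies under `χ`: `χ(1) ≤ |G : H| ψ(1)`. -/
theorem degree_le_index_mul (H : Subgroup G) [Fintype H] {χ : G → ℂ} (hχ : IsIrrCharacter G χ)
    {ψ : H → ℂ} (hψ : IsIrrCharacter H ψ) (hc : classInner (fun h : H => χ h) ψ ≠ 0) (b : ℕ)
    (hb : ψ 1 = b) : charDegree χ ≤ H.index * b := by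
  have hind : IsCharacter G (indFun H ψ) := isCharacter_indFun H (isCharacter_of_irr hψ)
  have h1 : classInner (indFun H ψ) χ ≠ 0 := by
    rw [frobenius_reciprocity H ψ χ (isClassFunction_of_isCharacter (isCharacter_of_irr hχ))]
    intro h0
    apply hc
    rw [← classInner_conj_symm, h0, map_zero]
  have h2 : indFun H ψ 1 = ((H.index * b : ℕ) : ℂ) := by
    rw [Cfsg.Agent.Lib.H24.indFun_one, hb]; push_cast; ring
  exact charDegree_le_of_constituent hind ⟨χ, hχ⟩ h1 _ h2

/-- If `|G : H| ψ(1) = χ(1)` for a constituent `ψ` of `χ_H`, then `χ = ψ^G`. -/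
theorem eq_indFun_of_degree_eq (H : Subgroup G) [Fintype H] {χ : G → ℂ} (hχ : IsIrrCharacter G χ)
    {ψ : H → ℂ} (hψ : IsIrrCharacter H ψ) (hc : classInner (fun h : H => χ h) ψ ≠ 0) (b : ℕ)
    (hb : ψ 1 = b) (hdeg : H.index * b = charDegree χ) : χ = indFun H ψ := by
  have hind : IsCharacter G (indFun H ψ) := isCharacter_indFun H (isCharacter_of_irr hψ)
  have h1 : classInner (indFun H ψ) χ ≠ 0 := by
    rw [frobenius_reciprocity H ψ χ (isClassFunction_of_isCharacter (isCharacter_of_irr hχ))]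
    intro h0
    apply hc
    rw [← classInner_conj_symm, h0, map_zero]
  have h2 : indFun H ψ 1 = ((H.index * b : ℕ) : ℂ) := by
    rw [Cfsg.Agent.Lib.H24.indFun_one, hb]; push_cast; ring
  have h3 : charDegree (indFun H ψ) = H.index * b := charDegree_eq_of_apply_one h2
  exact (eq_of_constituent_of_degree_le hind hχ h1 (by rw [h3, hdeg])).symm

/-- If `θ^G` is irreducible, then `θ` is irreducible. -/
theorem isIrrCharacter_of_indFun_irr (H : Subgroup G) [Fintype H] {θ : H → ℂ}
    (hθ : IsCharacter H θ) (hirr : IsIrrCharacter G (indFun H θ)) : IsIrrCharacter H θ := by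
  classical
  obtain ⟨l, hl, rfl⟩ := isCharacter_exists_irr_decomp hθ
  match l, hl, hirr with
  | [], _, hirr =>
    exfalso
    rw [List.sum_nil, indFun_zero] at hirr
    exact irr_one_ne_zero ⟨_, hirr⟩ rfl
  | [ψ], hl, _ =>
    rw [List.sum_singleton]
    exact hl ψ (by simp)
  | ψ₀ :: ψ₁ :: l', hl, hirr =>
    exfalso
    set χ := indFun H (ψ₀ :: ψ₁ :: l').sum with hχdef
    have hψ₀ : IsIrrCharacter H ψ₀ := hl ψ₀ (by simp)
    have hψ₁ : IsIrrCharacter H ψ₁ := hl ψ₁ (by simp)
    have hrest : IsCharacter H (ψ₁ :: l').sum := by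
      have : ∀ l : List (H → ℂ), (∀ ψ ∈ l, IsIrrCharacter H ψ) → l ≠ [] → IsCharacter H l.sum := by
        intro l
        induction l with
        | nil => intro _ h; exact absurd rfl h
        | cons a l ih =>
          intro hl _
          by_cases hnil : l = []
          · subst hnil
            rw [List.sum_singleton]
            exact isCharacter_of_irr (hl a (by simp))
          · rw [List.sum_cons]
            exact isCharacter_add (isCharacter_of_irr (hl a (by simp)))
              (ih (fun ψ hψ => hl ψ (List.mem_cons_of_mem _ hψ)) hnil)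
      exact this _ (fun ψ hψ => hl ψ (List.mem_cons_of_mem _ hψ)) (by simp)
    have hα : IsCharacter G (indFun H ψ₀) := isCharacter_indFun H (isCharacter_of_irr hψ₀)
    have hβ : IsCharacter G (indFun H (ψ₁ :: l').sum) := isCharacter_indFun H hrest
    have hsum : χ = indFun H ψ₀ + indFun H (ψ₁ :: l').sum := by
      rw [hχdef, List.sum_cons, indFun_add]
    -- degrees
    obtain ⟨a, ha0, ha⟩ := irr_one_eq ⟨ψ₀, hψ₀⟩
    simp only at ha
    have hα1 : indFun H ψ₀ 1 = ((H.index * a : ℕ) : ℂ) := by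
      rw [Cfsg.Agent.Lib.H24.indFun_one, ha]; push_cast; ring
    have hidx : 0 < H.index := Nat.pos_of_ne_zero Subgroup.index_ne_zero_of_finite
    have hα1ne : indFun H ψ₀ 1 ≠ 0 := by
      rw [hα1]
      exact_mod_cast (Nat.mul_pos hidx ha0).ne'
    -- β(1) ≠ 0 as well
    obtain ⟨a₁, ha₁0, ha₁⟩ := irr_one_eq ⟨ψ₁, hψ₁⟩
    simp only at ha₁
    -- an irreducible constituent of α is χ
    obtain ⟨ξ, hξ, hξc⟩ := exists_irr_constituent hα hα1ne
    obtain ⟨m₁, hm₁⟩ := classInner_char_irr_nat hα hξ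
    obtain ⟨m₂, hm₂⟩ := classInner_char_irr_nat hβ hξ
    have hχξ : classInner χ ξ ≠ 0 := by
      rw [hsum, classInner_add_left, hm₁, hm₂]
      have : m₁ ≠ 0 := by
        intro h0; apply hξc; rw [hm₁, h0]; simp
      exact_mod_cast (by omega : m₁ + m₂ ≠ 0)
    have hξχ : χ = ξ := by
      by_contra hne
      exact hχξ (irr_classInner_ne hirr hξ hne)
    have hαχ : classInner (indFun H ψ₀) χ ≠ 0 := by rw [hξχ]; exact hξc
    have hle := charDegree_le_of_constituent hα ⟨χ, hirr⟩ hαχ _ hα1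
    -- but χ(1) = α(1) + β(1) > α(1)
    obtain ⟨bβ, hbβ⟩ := isCharacter_apply_one hβ
    obtain ⟨c₁, hc₁⟩ := isCharacter_apply_one (isCharacter_indFun H (isCharacter_of_irr hψ₁))
    have hχ1 : χ 1 = ((H.index * a + bβ : ℕ) : ℂ) := by
      rw [hsum, Pi.add_apply, hα1, hbβ]; push_cast; ring
    have hdeg : charDegree χ = H.index * a + bβ := charDegree_eq_of_apply_one hχ1
    have hbβ0 : bβ ≠ 0 := by
      intro h0
      rw [h0] at hbβ
      -- β(1) = index * (ψ₁ + ...)(1) ≠ 0
      rw [Cfsg.Agent.Lib.H24.indFun_one] at hbβ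
      obtain ⟨d', hd', -⟩ := list_degree_le l' (fun ψ hψ => hl ψ (by simp [hψ]))
      rw [List.sum_cons, Pi.add_apply, ha₁, hd'] at hbβ
      have : ((H.index * (a₁ + d') : ℕ) : ℂ) = 0 := by
        push_cast; simpa using hbβ
      have h2 : H.index * (a₁ + d') = 0 := by exact_mod_cast this
      have h3 : 0 < H.index * (a₁ + d') := Nat.mul_pos hidx (by omega)
      omega
    simp only at hle
    omega

end

end Cfsg.Agent.Lib.H24
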