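import Mathlib
import Cfsg.Agent.Lib.H3.Wielandt2

/-!
# Toolkit for the Y-lemma (helper24), part A

Relative subnormality `RSN A H` (for subgroups `A ≤ H` of a group `G`), the relative normal closure
`ncl A H = ⟨A^h : h ∈ H⟩`, the predicate `Sig A H` (`A ≤ H < G`, `H = ⟨A^H⟩`) and `Y A`.
-/

set_option autoImplicit false

namespace Cfsg.Agent.Lib.H24.YL

open scoped Pointwise

variable {G : Type*} [Group G]

/-! ### conjugation helpers -/

theorem conj_smul_eq_of_mem_normalizer {N : Subgroup G} {h : G}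
    (hh : h ∈ Subgroup.normalizer (N : Set G)) : MulAut.conj h • N = N := by
  ext y
  rw [Subgroup.mem_pointwise_smul_iff_inv_smul_mem]
  have := (Subgroup.mem_normalizer_iff.mp (Subgroup.inv_mem _ hh)) y
  simp only [MulAut.smul_def, MulAut.conj_inv_apply]
  rw [this]
  simp

theorem mem_normalizer_of_conj_smul_le [Finite G] {N : Subgroup G} {h : G}
    (hh : MulAut.conj h • N ≤ N) : h ∈ Subgroup.normalizer (N : Set G) := by
  apply Subgroup.mem_normalizer_fintype
  intro n hn
  exact hh ⟨n, hn, rfl⟩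

theorem conj_smul_le_of_le_of_mem_normalizer {A N : Subgroup G} {h : G} (hA : A ≤ N)
    (hh : h ∈ Subgroup.normalizer (N : Set G)) : MulAut.conj h • A ≤ N := by
  have h1 : MulAut.conj h • A ≤ MulAut.conj h • N :=
    Subgroup.pointwise_smul_le_pointwise_smul_iff.mpr hA
  rwa [conj_smul_eq_of_mem_normalizer hh] at h1

theorem conj_smul_le_of_le_of_mem {A K : Subgroup G} {h : G} (hA : A ≤ K) (hh : h ∈ K) :
    MulAut.conj h • A ≤ K :=
  conj_smul_le_of_le_of_mem_normalizer hA (Subgroup.le_normalizer hh)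

theorem card_conj_smul (g : G) (A : Subgroup G) :
    Nat.card (MulAut.conj g • A : Subgroup G) = Nat.card A := by
  have e : A ≃ (MulAut.conj g • A : Subgroup G) :=
    { toFun := fun a => ⟨MulAut.conj g • (a : G), Subgroup.smul_mem_pointwise_smul _ _ _ a.2⟩
      invFun := fun b => ⟨(MulAut.conj g)⁻¹ • (b : G), by
        have := b.2
        rw [Subgroup.mem_pointwise_smul_iff_inv_smul_mem] at this
        exact this⟩
      left_inv := fun a => by ext; simp [MulAut.conj_apply, mul_assoc]
      right_inv := fun b => by ext; simp [MulAut.conj_apply, mul_assoc] }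
  exact (Nat.card_congr e).symm

theorem conj_smul_ne_top {A : Subgroup G} (g : G) (hA : A ≠ ⊤) : MulAut.conj g • A ≠ ⊤ := by
  intro h
  apply hA
  rw [eq_top_iff] at h ⊢
  intro x _
  have := h (Subgroup.mem_top (MulAut.conj g • x))
  rwa [Subgroup.smul_mem_pointwise_smul_iff] at this

/-! ### relative subnormality -/

/-- `A` is a subnormal subgroup of `H` (both subgroups of `G`). -/
def RSN (A H : Subgroup G) : Prop := A ≤ H ∧ (A.subgroupOf H).IsSubnormal

theorem RSN.refl (A : Subgroup G) : RSN A A :=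
  ⟨le_rfl, by rw [Subgroup.subgroupOf_self]; exact Subgroup.IsSubnormal.top⟩

theorem RSN.of_le_normalizer {A H : Subgroup G} (hAH : A ≤ H)
    (hn : H ≤ Subgroup.normalizer (A : Set G)) : RSN A H :=
  ⟨hAH, ((Subgroup.normal_subgroupOf_iff_le_normalizer hAH).mpr hn).isSubnormal⟩

theorem RSN.of_le {A H L : Subgroup G} (hAH : A ≤ H) (hHL : H ≤ L) (h : RSN A L) : RSN A H := by
  refine ⟨hAH, ?_⟩
  have e : A.subgroupOf H = (A.subgroupOf L).comap (Subgroup.inclusion hHL) := by
    ext x
    simp [Subgroup.mem_subgroupOf]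
  rw [e]
  exact h.2.comap _

theorem RSN.trans {A H L : Subgroup G} (h1 : RSN A H) (h2 : RSN H L) : RSN A L := by
  refine ⟨h1.1.trans h2.1, ?_⟩
  have hle : A.subgroupOf L ≤ H.subgroupOf L := by
    intro x hx
    exact h1.1 hx
  refine Subgroup.IsSubnormal.trans hle ?_ h2.2
  have e : (A.subgroupOf L).subgroupOf (H.subgroupOf L) =
      (A.subgroupOf H).comap (Subgroup.subgroupOfEquivOfLe h2.1).toMonoidHom := by
    ext x
    simp [Subgroup.mem_subgroupOf, Subgroup.subgroupOfEquivOfLe]
  rw [e]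
  exact h1.2.comap _

theorem rsn_sSup [Finite G] {S : Set (Subgroup G)} {L : Subgroup G}
    (h : ∀ U ∈ S, RSN U L) : RSN (sSup S) L := by
  have hle : sSup S ≤ L := sSup_le (fun U hU => (h U hU).1)
  refine ⟨hle, ?_⟩
  set X : Subgroup L := sSup ((fun U : Subgroup G => U.subgroupOf L) '' S) with hX
  have hXsn : X.IsSubnormal := by
    apply Cfsg.Agent.Lib.H3.isSubnormal_sSup
    rintro _ ⟨U, hU, rfl⟩
    exact (h U hU).2
  have hmap : X.map L.subtype = sSup S := by
    rw [hX, Cfsg.Agent.Lib.H3.map_sSup_eq]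
    apply le_antisymm
    · apply iSup₂_le
      rintro _ ⟨U, hU, rfl⟩
      rw [Subgroup.map_subgroupOf_eq_of_le (h U hU).1]
      exact le_sSup hU
    · apply sSup_le
      intro U hU
      have : U = (U.subgroupOf L).map L.subtype :=
        (Subgroup.map_subgroupOf_eq_of_le (h U hU).1).symm
      rw [this]
      exact le_iSup₂ (f := fun (V : Subgroup L) (_ : V ∈ (fun U : Subgroup G => U.subgroupOf L) '' S) =>
        V.map L.subtype) (U.subgroupOf L) ⟨U, hU, rfl⟩
  have : (sSup S).subgroupOf L = X := by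
    rw [← hmap]
    exact Subgroup.comap_map_eq_self_of_injective L.subtype_injective X
  rw [this]
  exact hXsn

theorem rsn_sup [Finite G] {A B L : Subgroup G} (hA : RSN A L) (hB : RSN B L) : RSN (A ⊔ B) L := by
  have := rsn_sSup (S := {A, B}) (L := L) (by
    intro U hU
    rcases hU with rfl | rfl
    · exact hA
    · exact hB)
  rwa [sSup_pair] at this

/-- A proper relatively subnormal subgroup lies in a proper relatively normal subgroup. -/
theorem RSN.exists_normal {A H : Subgroup G} (h : RSN A H) (hne : A ≠ H) :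
    ∃ N : Subgroup G, A ≤ N ∧ N ≤ H ∧ N ≠ H ∧ H ≤ Subgroup.normalizer (N : Set G) := by
  have hnt : A.subgroupOf H ≠ ⊤ := by
    intro ht
    rw [Subgroup.subgroupOf_eq_top] at ht
    exact hne (le_antisymm h.1 ht)
  obtain ⟨K', hK'n, hAK', hK'lt⟩ := h.2.exists_normal_and_le_and_lt_top_of_ne hnt
  have hNH : K'.map H.subtype ≤ H := Subgroup.map_subtype_le K'
  have hcomap : (K'.map H.subtype).subgroupOf H = K' :=
    Subgroup.comap_map_eq_self_of_injective H.subtype_injective K'
  refine ⟨K'.map H.subtype, ?_, hNH, ?_, ?_⟩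
  · intro a ha
    exact ⟨⟨a, h.1 ha⟩, hAK' (Subgroup.mem_subgroupOf.mpr ha), rfl⟩
  · intro heq
    have : K' = ⊤ := by
      rw [← hcomap, heq, Subgroup.subgroupOf_self]
    exact absurd this hK'lt.ne
  · rw [← Subgroup.normal_subgroupOf_iff_le_normalizer hNH, hcomap]
    exact hK'n

/-! ### relative normal closure -/

/-- The subgroup generated by the `H`-conjugates of `A`. -/
def ncl (A H : Subgroup G) : Subgroup G := ⨆ h : H, MulAut.conj (h : G) • A

theorem conj_smul_le_ncl {A H : Subgroup G} {h : G} (hh : h ∈ H) : MulAut.conj h • A ≤ ncl A H :=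
  le_iSup (fun h : H => MulAut.conj (h : G) • A) ⟨h, hh⟩

theorem le_ncl (A H : Subgroup G) : A ≤ ncl A H := by
  have := conj_smul_le_ncl (A := A) (H := H) (h := 1) H.one_mem
  simpa using this

theorem ncl_le_of_le_normalizer {A H N : Subgroup G} (hA : A ≤ N)
    (hH : H ≤ Subgroup.normalizer (N : Set G)) : ncl A H ≤ N :=
  iSup_le (fun h => conj_smul_le_of_le_of_mem_normalizer hA (hH h.2))

theorem ncl_le {A H : Subgroup G} (hA : A ≤ H) : ncl A H ≤ H :=
  ncl_le_of_le_normalizer hA Subgroup.le_normalizer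

theorem ncl_mono_right {A H H' : Subgroup G} (h : H ≤ H') : ncl A H ≤ ncl A H' :=
  iSup_le (fun x => conj_smul_le_ncl (h x.2))

theorem ncl_eq_sSup (A H : Subgroup G) :
    ncl A H = sSup {C : Subgroup G | ∃ h ∈ H, C = MulAut.conj h • A} := by
  apply le_antisymm
  · exact iSup_le (fun h => le_sSup ⟨h, h.2, rfl⟩)
  · apply sSup_le
    rintro _ ⟨h, hh, rfl⟩
    exact conj_smul_le_ncl hh

theorem conj_smul_ncl (A H : Subgroup G) {x : G} (hx : x ∈ H) :
    MulAut.conj x • ncl A H ≤ ncl A H := by
  have : MulAut.conj x • ncl A H = (ncl A H).map (MulAut.conj x).toMonoidHom := rfl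
  rw [this, ncl, Subgroup.map_iSup]
  apply iSup_le
  intro h
  have e : (MulAut.conj (h : G) • A).map (MulAut.conj x).toMonoidHom =
      MulAut.conj (x * h) • A := by
    have : (MulAut.conj (h : G) • A).map (MulAut.conj x).toMonoidHom =
        MulAut.conj x • (MulAut.conj (h : G) • A) := rfl
    rw [this, smul_smul, ← map_mul]
  rw [e]
  exact conj_smul_le_ncl (H.mul_mem hx h.2)

theorem le_normalizer_ncl [Finite G] (A H : Subgroup G) :
    H ≤ Subgroup.normalizer ((ncl A H : Subgroup G) : Set G) :=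
  fun _ hx => mem_normalizer_of_conj_smul_le (conj_smul_ncl A H hx)

theorem ncl_conj (A H : Subgroup G) (g : G) :
    ncl (MulAut.conj g • A) (MulAut.conj g • H) = MulAut.conj g • ncl A H := by
  apply le_antisymm
  · apply iSup_le
    rintro ⟨h', hh'⟩
    obtain ⟨h, hh, rfl⟩ := hh'
    have e : MulAut.conj ((MulAut.conj g).toMonoidHom h) • MulAut.conj g • A =
        MulAut.conj g • MulAut.conj h • A := by
      rw [smul_smul, smul_smul, ← map_mul, ← map_mul]
      congr 2
      simp [MulAut.conj_apply]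
    show MulAut.conj ((MulAut.conj g).toMonoidHom h) • MulAut.conj g • A ≤ _
    rw [e]
    exact Subgroup.pointwise_smul_le_pointwise_smul_iff.mpr (conj_smul_le_ncl hh)
  · have : MulAut.conj g • ncl A H = (ncl A H).map (MulAut.conj g).toMonoidHom := rfl
    rw [this, ncl, Subgroup.map_iSup]
    apply iSup_le
    intro h
    have e : (MulAut.conj (h : G) • A).map (MulAut.conj g).toMonoidHom =
        MulAut.conj ((MulAut.conj g).toMonoidHom (h : G)) • MulAut.conj g • A := by
      have : (MulAut.conj (h : G) • A).map (MulAut.conj g).toMonoidHom =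
          MulAut.conj g • (MulAut.conj (h : G) • A) := rfl
      rw [this, smul_smul, smul_smul, ← map_mul, ← map_mul]
      congr 2
      simp [MulAut.conj_apply]
    rw [e]
    exact conj_smul_le_ncl (H := MulAut.conj g • H) ⟨h, h.2, rfl⟩

/-- Comparison with Mathlib's normal closure inside the subtype. -/
theorem ncl_eq_iff [Finite G] {A H : Subgroup G} (hAH : A ≤ H) :
    ncl A H = H ↔
      Subgroup.normalClosure ((A.subgroupOf H : Subgroup ↥H) : Set ↥H) = ⊤ := by
  set N' : Subgroup H := Subgroup.normalClosure ((A.subgroupOf H : Subgroup ↥H) : Set ↥H) with hN'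
  have hmap : N'.map H.subtype = ncl A H := by
    apply le_antisymm
    · have hnorm : ((ncl A H).subgroupOf H).Normal :=
        (Subgroup.normal_subgroupOf_iff_le_normalizer (ncl_le hAH)).mpr (le_normalizer_ncl A H)
      have hle : N' ≤ (ncl A H).subgroupOf H := by
        apply Subgroup.normalClosure_le_normal
        intro x hx
        exact le_ncl A H hx
      calc N'.map H.subtype ≤ ((ncl A H).subgroupOf H).map H.subtype := Subgroup.map_mono hle
        _ ≤ ncl A H := by
          rw [Subgroup.map_subgroupOf_eq_of_le (ncl_le hAH)]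
    · apply iSup_le
      rintro h _ ⟨a, ha, rfl⟩
      have haN : (⟨a, hAH ha⟩ : H) ∈ N' := Subgroup.subset_normalClosure ha
      have hn : N'.Normal := Subgroup.normalClosure_normal
      have := hn.conj_mem _ haN h
      exact ⟨_, this, by simp [MulAut.conj_apply]⟩
  constructor
  · intro h
    rw [← hmap] at h
    have : N'.map H.subtype = (⊤ : Subgroup H).map H.subtype := by
      rw [h, ← MonoidHom.range_eq_map, Subgroup.range_subtype]
    exact Subgroup.map_injective H.subtype_injective this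
  · intro h
    rw [← hmap, h, ← MonoidHom.range_eq_map, Subgroup.range_subtype]

/-! ### the family `Σ(A)` and `Y(A)` -/

/-- `H` is a proper subgroup containing `A` generated by the `H`-conjugates of `A`. -/
def Sig (A H : Subgroup G) : Prop := A ≤ H ∧ H ≠ ⊤ ∧ ncl A H = H

/-- The join of all members of `Sig A`. -/
def Y (A : Subgroup G) : Subgroup G := sSup {H | Sig A H}

theorem Sig.le_Y {A H : Subgroup G} (h : Sig A H) : H ≤ Y A := le_sSup h

theorem sig_self {A : Subgroup G} (hA : A ≠ ⊤) : Sig A A :=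
  ⟨le_rfl, hA, le_antisymm (ncl_le le_rfl) (le_ncl A A)⟩

theorem le_Y {A : Subgroup G} (hA : A ≠ ⊤) : A ≤ Y A := (sig_self hA).le_Y

theorem Sig.eq_of_rsn {A H : Subgroup G} (h : Sig A H) (hs : RSN A H) : H = A := by
  by_contra hne
  obtain ⟨N, hAN, hNH, hNne, hnorm⟩ := hs.exists_normal (Ne.symm hne)
  apply hNne
  apply le_antisymm hNH
  rw [← h.2.2]
  exact ncl_le_of_le_normalizer hAN hnorm

theorem sig_Y {A : Subgroup G} (hA : A ≠ ⊤) (hY : Y A ≠ ⊤) : Sig A (Y A) := by
  refine ⟨le_Y hA, hY, le_antisymm (ncl_le (le_Y hA)) ?_⟩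
  apply sSup_le
  intro H hH
  rw [← hH.2.2]
  exact ncl_mono_right hH.le_Y

/-- Members of `Sig B` are members of `Sig A` when `B` is. -/
theorem Sig.trans [Finite G] {A B H : Subgroup G} (hAB : Sig A B) (hBH : Sig B H) : Sig A H := by
  refine ⟨hAB.1.trans hBH.1, hBH.2.1, le_antisymm (ncl_le (hAB.1.trans hBH.1)) ?_⟩
  have h1 : B ≤ ncl A H := by
    rw [← hAB.2.2]
    exact ncl_mono_right hBH.1
  calc H = ncl B H := hBH.2.2.symm
    _ ≤ ncl A H := ncl_le_of_le_normalizer h1 (le_normalizer_ncl A H)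

theorem Y_le_of_sig [Finite G] {A B : Subgroup G} (hAB : Sig A B) : Y B ≤ Y A :=
  sSup_le (fun _ hH => (hAB.trans hH).le_Y)

theorem Sig.conj {A H : Subgroup G} (h : Sig A H) (g : G) :
    Sig (MulAut.conj g • A) (MulAut.conj g • H) :=
  ⟨Subgroup.pointwise_smul_le_pointwise_smul_iff.mpr h.1, conj_smul_ne_top g h.2.1, by
    rw [ncl_conj, h.2.2]⟩

theorem Y_conj (A : Subgroup G) (g : G) : Y (MulAut.conj g • A) = MulAut.conj g • Y A := by
  apply le_antisymm
  · apply sSup_le
    intro H hH
    have h1 := hH.conj g⁻¹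
    rw [smul_smul, ← map_mul, inv_mul_cancel, map_one, one_smul] at h1
    have h2 := h1.le_Y
    rw [Subgroup.subset_pointwise_smul_iff, ← map_inv]
    exact h2
  · rw [Subgroup.pointwise_smul_subset_iff]
    apply sSup_le
    intro H hH
    rw [← Subgroup.pointwise_smul_subset_iff]
    exact (hH.conj g).le_Y

/-- Every proper overgroup `X` of `A` contains a member of `Sig A` that is subnormal in `X`. -/
theorem exists_sig_rsn [Finite G] (A : Subgroup G) :
    ∀ X : Subgroup G, A ≤ X → X ≠ ⊤ → ∃ H, Sig A H ∧ H ≤ X ∧ RSN H X := by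
  intro X
  induction X using WellFoundedLT.induction with
  | ind X ih =>
  intro hAX hX
  by_cases hc : ncl A X = X
  · exact ⟨X, ⟨hAX, hX, hc⟩, le_rfl, RSN.refl X⟩
  · have hlt : ncl A X < X := lt_of_le_of_ne (ncl_le hAX) hc
    have hnt : ncl A X ≠ ⊤ := fun h => hX (top_le_iff.mp (h ▸ hlt.le))
    obtain ⟨H, hH, hHle, hHs⟩ := ih (ncl A X) hlt (le_ncl A X) hnt
    refine ⟨H, hH, hHle.trans hlt.le, hHs.trans ?_⟩
    exact RSN.of_le_normalizer hlt.le (le_normalizer_ncl A X)

end Cfsg.Agent.Lib.H24.YL
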