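import Mathlib
import Cfsg.Agent.Lib.H24.YLemmaA
import Cfsg.Agent.Lib.H20.Zipper

/-!
# Y-lemma (helper24), part B: points, their special maximal subgroup, the Σ-lemma
-/

set_option autoImplicit false

namespace Cfsg.Agent.Lib.H24.YL

open scoped Pointwise

variable {G : Type*} [Group G] [Finite G]

theorem card_lt_of_lt' {H K : Subgroup G} (h : H < K) : Nat.card H < Nat.card K := by
  rcases lt_or_eq_of_le (Subgroup.card_le_of_le h.le) with h1 | h1
  · exact h1
  · exact absurd (Subgroup.eq_of_le_of_card_ge h.le h1.ge) h.ne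

theorem isCoatom_conj_smul {M : Subgroup G} (hM : IsCoatom M) (g : G) :
    IsCoatom (MulAut.conj g • M) := by
  refine ⟨conj_smul_ne_top g hM.1, ?_⟩
  intro L hL
  have h1 : M < (MulAut.conj g)⁻¹ • L := by
    refine lt_of_le_of_ne ?_ ?_
    · rw [← Subgroup.pointwise_smul_subset_iff]; exact hL.le
    · intro h
      apply hL.ne
      rw [h, smul_smul, mul_inv_cancel, one_smul]
  have h2 := hM.2 _ h1
  have : L = MulAut.conj g • ((MulAut.conj g)⁻¹ • L) := by
    rw [smul_smul, mul_inv_cancel, one_smul]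
  rw [this, h2]
  rw [eq_top_iff]
  intro x _
  rw [Subgroup.mem_pointwise_smul_iff_inv_smul_mem]
  exact Subgroup.mem_top _

/-- The conclusion of the Y-lemma for `B`. -/
def Concl (B : Subgroup G) : Prop := Y B = ⊤ ∨ ∃! M : Subgroup G, IsCoatom M ∧ B ≤ M

/-- The Y-lemma holds for all subgroups of order `> n`. -/
def IH (G : Type*) [Group G] [Finite G] (n : ℕ) : Prop :=
  ∀ B : Subgroup G, n < Nat.card B → B ≠ ⊤ → Subgroup.normalClosure (B : Set G) = ⊤ → Concl B

/-- `M` is the only maximal subgroup containing `X`. -/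
def OnlyIn (X M : Subgroup G) : Prop :=
  IsCoatom M ∧ X ≤ M ∧ ∀ L : Subgroup G, IsCoatom L → X ≤ L → L = M

theorem OnlyIn.of_existsUnique {B M₀ : Subgroup G}
    (h : ∃! M : Subgroup G, IsCoatom M ∧ B ≤ M) (hM₀ : IsCoatom M₀) (hB : B ≤ M₀) :
    OnlyIn B M₀ := by
  obtain ⟨M, _, huniq⟩ := h
  refine ⟨hM₀, hB, fun L hL hBL => ?_⟩
  rw [huniq L ⟨hL, hBL⟩, huniq M₀ ⟨hM₀, hB⟩]

theorem OnlyIn.mono {X X' M : Subgroup G} (h : OnlyIn X M) (hXX' : X ≤ X') (hX' : X' ≤ M) :
    OnlyIn X' M :=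
  ⟨h.1, hX', fun L hL hX'L => h.2.2 L hL (hXX'.trans hX'L)⟩

/-- Points: subgroups of order `n` with full normal closure for which `Y ≠ ⊤`. -/
structure Pt (n : ℕ) (C : Subgroup G) : Prop where
  card : Nat.card C = n
  ne_top : C ≠ ⊤
  ncl_top : Subgroup.normalClosure (C : Set G) = ⊤
  Y_ne : Y C ≠ ⊤

theorem normalClosure_eq_top_of_le {C B : Subgroup G}
    (hC : Subgroup.normalClosure (C : Set G) = ⊤) (hCB : C ≤ B) :
    Subgroup.normalClosure (B : Set G) = ⊤ := by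
  rw [eq_top_iff, ← hC]
  exact Subgroup.normalClosure_mono hCB

theorem Pt.conj {n : ℕ} {C : Subgroup G} (hC : Pt n C) (g : G) : Pt n (MulAut.conj g • C) := by
  refine ⟨by rw [card_conj_smul, hC.card], conj_smul_ne_top g hC.ne_top, ?_, ?_⟩
  · rw [eq_top_iff, ← hC.ncl_top]
    apply Subgroup.normalClosure_le_normal
    intro c hc
    have h1 : MulAut.conj g • c ∈ Subgroup.normalClosure ((MulAut.conj g • C : Subgroup G) : Set G) :=
      Subgroup.subset_normalClosure (Subgroup.smul_mem_pointwise_smul _ _ _ hc)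
    have hn : (Subgroup.normalClosure ((MulAut.conj g • C : Subgroup G) : Set G)).Normal :=
      Subgroup.normalClosure_normal
    have h2 := hn.conj_mem _ h1 g⁻¹
    simpa [MulAut.conj_apply, mul_assoc] using h2
  · rw [Y_conj]
    exact conj_smul_ne_top g hC.Y_ne

theorem Pt.not_isSubnormal {n : ℕ} {C : Subgroup G} (hC : Pt n C) : ¬ C.IsSubnormal := by
  intro hs
  obtain ⟨K, hKn, hCK, hKlt⟩ := hs.exists_normal_and_le_and_lt_top_of_ne hC.ne_top
  have : Subgroup.normalClosure (C : Set G) ≤ K := Subgroup.normalClosure_le_normal hCK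
  rw [hC.ncl_top] at this
  exact hKlt.ne (top_le_iff.mp this)

theorem Pt.exists_onlyIn {n : ℕ} (ih : IH G n) {C : Subgroup G} (hC : Pt n C) :
    ∃ M, OnlyIn (Y C) M := by
  by_cases hYC : Y C = C
  · have hz : ∃! M : Subgroup G, IsCoatom M ∧ C ≤ M := by
      apply Cfsg.Agent.Lib.H20.zipper_lemma C ?_ hC.not_isSubnormal
      intro g H hgH hH
      obtain ⟨H', hH', hH'H, hs⟩ := exists_sig_rsn (MulAut.conj g • C) H hgH hH
      have h1 : H' ≤ MulAut.conj g • C := by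
        have := hH'.le_Y
        rwa [Y_conj, hYC] at this
      have h2 : H' = MulAut.conj g • C := le_antisymm h1 hH'.1
      rw [h2] at hs
      exact hs.2
    have hz' := hz
    obtain ⟨M, ⟨hM, hCM⟩, _⟩ := hz'
    refine ⟨M, ?_⟩
    rw [hYC]
    exact OnlyIn.of_existsUnique hz hM hCM
  · have hlt : C < Y C := lt_of_le_of_ne (le_Y hC.ne_top) (Ne.symm hYC)
    have hcard : n < Nat.card (Y C) := by
      rw [← hC.card]; exact card_lt_of_lt' hlt
    rcases ih (Y C) hcard hC.Y_ne (normalClosure_eq_top_of_le hC.ncl_top hlt.le) with h | h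
    · exfalso
      have := Y_le_of_sig (sig_Y hC.ne_top hC.Y_ne)
      rw [h] at this
      exact hC.Y_ne (top_le_iff.mp this)
    · have h' := h
      obtain ⟨M, ⟨hM, hYM⟩, _⟩ := h'
      exact ⟨M, OnlyIn.of_existsUnique h hM hYM⟩

open Classical in
/-- The special maximal subgroup of a point. -/
noncomputable def Mx (C : Subgroup G) : Subgroup G :=
  if h : ∃ M, OnlyIn (Y C) M then h.choose else ⊤

theorem Pt.onlyIn_Mx {n : ℕ} (ih : IH G n) {C : Subgroup G} (hC : Pt n C) : OnlyIn (Y C) (Mx C) := by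
  have h := hC.exists_onlyIn ih
  unfold Mx
  rw [dif_pos h]
  exact h.choose_spec

theorem Pt.coatom_Mx {n : ℕ} (ih : IH G n) {C : Subgroup G} (hC : Pt n C) : IsCoatom (Mx C) :=
  (hC.onlyIn_Mx ih).1

theorem Pt.le_Mx {n : ℕ} (ih : IH G n) {C : Subgroup G} (hC : Pt n C) : C ≤ Mx C :=
  (le_Y hC.ne_top).trans (hC.onlyIn_Mx ih).2.1

theorem Pt.Mx_conj {n : ℕ} (ih : IH G n) {C : Subgroup G} (hC : Pt n C) (g : G) :
    Mx (MulAut.conj g • C) = MulAut.conj g • Mx C := by
  have h1 := (hC.conj g).onlyIn_Mx ih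
  refine (h1.2.2 _ (isCoatom_conj_smul (hC.coatom_Mx ih) g) ?_).symm
  rw [Y_conj]
  exact Subgroup.pointwise_smul_le_pointwise_smul_iff.mpr (hC.onlyIn_Mx ih).2.1

theorem Pt.Mx_conj_of_mem {n : ℕ} (ih : IH G n) {C : Subgroup G} (hC : Pt n C) {k : G}
    (hk : k ∈ Mx C) : Mx (MulAut.conj k • C) = Mx C := by
  rw [hC.Mx_conj ih, Subgroup.conj_smul_eq_self_of_mem hk]

theorem Pt.Mx_not_normal {n : ℕ} (ih : IH G n) {C : Subgroup G} (hC : Pt n C) :
    ¬ (Mx C).Normal := by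
  intro hn
  have : Subgroup.normalClosure (C : Set G) ≤ Mx C := Subgroup.normalClosure_le_normal (hC.le_Mx ih)
  rw [hC.ncl_top] at this
  exact (hC.coatom_Mx ih).1 (top_le_iff.mp this)

theorem Pt.normalizer_Mx {n : ℕ} (ih : IH G n) {C : Subgroup G} (hC : Pt n C) :
    Subgroup.normalizer ((Mx C : Subgroup G) : Set G) = Mx C := by
  have hle : Mx C ≤ Subgroup.normalizer ((Mx C : Subgroup G) : Set G) := Subgroup.le_normalizer
  rcases (hC.coatom_Mx ih).le_iff.mp hle with h | h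
  · exact absurd (Subgroup.normalizer_eq_top_iff.mp h) (hC.Mx_not_normal ih)
  · exact h

theorem Pt.normalizer_le_Mx {n : ℕ} (ih : IH G n) {C : Subgroup G} (hC : Pt n C) :
    Subgroup.normalizer (C : Set G) ≤ Mx C := by
  intro g hg
  have h1 : Mx C = MulAut.conj g • Mx C := by
    have := hC.Mx_conj ih g
    rwa [conj_smul_eq_of_mem_normalizer hg] at this
  rw [← hC.normalizer_Mx ih]
  apply mem_normalizer_of_conj_smul_le
  rw [← h1]

theorem eq_of_coatom_le {L M : Subgroup G} (hL : IsCoatom L) (hM : IsCoatom M) (h : L ≤ M) :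
    L = M := by
  rcases hL.le_iff.mp h with h1 | h1
  · exact absurd h1 hM.1
  · exact h1.symm

/-- (★): a point is subnormal in every proper overgroup not inside its special maximal subgroup. -/
theorem Pt.rsn {n : ℕ} (ih : IH G n) {C X : Subgroup G} (hC : Pt n C) (hCX : C ≤ X) (hX : X ≠ ⊤)
    (hn : ¬ X ≤ Mx C) : RSN C X := by
  obtain ⟨H, hH, hHX, hHs⟩ := exists_sig_rsn C X hCX hX
  by_cases hHC : H = C
  · rw [hHC] at hHs; exact hHs
  exfalso
  have hlt : C < H := lt_of_le_of_ne hH.1 (Ne.symm hHC)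
  have hcard : n < Nat.card H := by rw [← hC.card]; exact card_lt_of_lt' hlt
  rcases ih H hcard hH.2.1 (normalClosure_eq_top_of_le hC.ncl_top hlt.le) with h | h
  · have := Y_le_of_sig hH
    rw [h] at this
    exact hC.Y_ne (top_le_iff.mp this)
  · have hHM : H ≤ Mx C := hH.le_Y.trans (hC.onlyIn_Mx ih).2.1
    have ho := OnlyIn.of_existsUnique h (hC.coatom_Mx ih) hHM
    obtain ⟨L, hL, hXL⟩ := (eq_top_or_exists_le_coatom X).resolve_left hX
    have := ho.2.2 L hL (hHX.trans hXL)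
    exact hn (this ▸ hXL)

/-- The Σ-lemma. -/
theorem exists_Mx_eq_of_sig {n : ℕ} (ih : IH G n) {S : Set (Subgroup G)} (hS : ∀ C ∈ S, Pt n C)
    {H L : Subgroup G} (hH : Sig (sSup S) H) (hne : H ≠ sSup S) (hL : IsCoatom L) (hHL : H ≤ L) :
    ∃ C ∈ S, Mx C = L := by
  by_contra hcon
  push Not at hcon
  apply hne
  apply hH.eq_of_rsn
  apply rsn_sSup
  intro C hCS
  have hCH : C ≤ H := (le_sSup hCS).trans hH.1
  have h1 : RSN C L := by
    apply (hS C hCS).rsn ih (hCH.trans hHL) hL.1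
    intro hle
    exact hcon C hCS (eq_of_coatom_le hL ((hS C hCS).coatom_Mx ih) hle).symm
  exact h1.of_le hCH hHL

theorem onlyIn_of_forall {n : ℕ} (ih : IH G n) {S : Set (Subgroup G)} (hS : ∀ C ∈ S, Pt n C)
    (hne : S.Nonempty) (hcard : n < Nat.card (sSup S : Subgroup G)) {M₀ : Subgroup G}
    (hM₀ : IsCoatom M₀) (hB : sSup S ≤ M₀) (h : ∀ C ∈ S, sSup S ≤ Mx C → Mx C = M₀) :
    OnlyIn (sSup S) M₀ := by
  obtain ⟨C₀, hC₀⟩ := hne
  have hBtop : sSup S ≠ ⊤ := fun ht => hM₀.1 (top_le_iff.mp (ht ▸ hB))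
  have hncl : Subgroup.normalClosure ((sSup S : Subgroup G) : Set G) = ⊤ :=
    normalClosure_eq_top_of_le (hS C₀ hC₀).ncl_top (le_sSup hC₀)
  have hY : Y (sSup S) ≤ M₀ := by
    apply sSup_le
    intro H hH
    by_cases hHB : H = sSup S
    · rw [hHB]; exact hB
    obtain ⟨L, hL, hHL⟩ := (eq_top_or_exists_le_coatom H).resolve_left hH.2.1
    obtain ⟨C, hCS, hCL⟩ := exists_Mx_eq_of_sig ih hS hH hHB hL hHL
    have := h C hCS (by rw [hCL]; exact hH.1.trans hHL)
    rw [← this, hCL]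
    exact hHL
  rcases ih (sSup S) hcard hBtop hncl with h1 | h1
  · exact absurd (top_le_iff.mp (h1 ▸ hY)) hM₀.1
  · exact OnlyIn.of_existsUnique h1 hM₀ hB

theorem card_lt_sup {n : ℕ} {C E : Subgroup G} (hC : Nat.card C = n) (hE : Nat.card E = n)
    (hne : C ≠ E) : n < Nat.card (C ⊔ E : Subgroup G) := by
  rw [← hC]
  apply card_lt_of_lt'
  refine lt_of_le_of_ne le_sup_left ?_
  intro h
  apply hne
  have hEC : E ≤ C := by rw [h]; exact le_sup_right
  exact (Subgroup.eq_of_le_of_card_ge hEC (by rw [hC, hE])).symm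

/-- Two distinct points with the same special maximal subgroup generate a subgroup lying only
in it. -/
theorem onlyIn_of_Mx_eq {n : ℕ} (ih : IH G n) {C E : Subgroup G} (hC : Pt n C) (hE : Pt n E)
    (hne : C ≠ E) (h : Mx C = Mx E) : OnlyIn (C ⊔ E) (Mx C) := by
  have := onlyIn_of_forall ih (S := {C, E}) (M₀ := Mx C)
    (by rintro X (rfl | rfl); exacts [hC, hE]) ⟨C, Set.mem_insert _ _⟩
    (by rw [sSup_pair]; exact card_lt_sup hC.card hE.card hne) (hC.coatom_Mx ih)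
    (by rw [sSup_pair]; exact sup_le (hC.le_Mx ih) (h ▸ hE.le_Mx ih))
    (by rintro X (rfl | rfl) _; exacts [rfl, h.symm])
  rwa [sSup_pair] at this

/-- (★★) -/
theorem onlyIn_of_not_le {n : ℕ} (ih : IH G n) {C E : Subgroup G} (hC : Pt n C) (hE : Pt n E)
    (hne : C ≠ E) (h1 : C ≤ Mx E) (h2 : ¬ E ≤ Mx C) : OnlyIn (C ⊔ E) (Mx E) := by
  have := onlyIn_of_forall ih (S := {C, E}) (M₀ := Mx E)
    (by rintro X (rfl | rfl); exacts [hC, hE]) ⟨C, Set.mem_insert _ _⟩
    (by rw [sSup_pair]; exact card_lt_sup hC.card hE.card hne) (hE.coatom_Mx ih)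
    (by rw [sSup_pair]; exact sup_le h1 (hE.le_Mx ih))
    (by
      rintro X (rfl | rfl) hX
      · rw [sSup_pair] at hX
        exact absurd (le_sup_right.trans hX) h2
      · rfl)
  rwa [sSup_pair] at this

/-- `M_C ∩ K` normalizes `C` for every maximal subgroup `K ≠ M_C` containing the point `C`. -/
theorem inf_le_normalizer {n : ℕ} (ih : IH G n) {C K : Subgroup G} (hC : Pt n C)
    (hK : IsCoatom K) (hKne : K ≠ Mx C) (hCK : C ≤ K) :
    Mx C ⊓ K ≤ Subgroup.normalizer (C : Set G) := by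
  intro k hk
  by_contra hkn
  have hne : C ≠ MulAut.conj k • C := by
    intro h
    apply hkn
    apply mem_normalizer_of_conj_smul_le
    rw [← h]
  have ho := onlyIn_of_Mx_eq ih hC (hC.conj k) hne (hC.Mx_conj_of_mem ih hk.1).symm
  have hle : C ⊔ MulAut.conj k • C ≤ K := sup_le hCK (conj_smul_le_of_le_of_mem hCK hk.2)
  exact hKne (ho.2.2 K hK hle)

/-- Adjacency of points. -/
def Adj (C E : Subgroup G) : Prop := C ≠ E ∧ C ≤ Mx E ∧ E ≤ Mx C ∧ Mx C ≠ Mx E

theorem Adj.symm {C E : Subgroup G} (h : Adj C E) : Adj E C :=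
  ⟨h.1.symm, h.2.2.1, h.2.1, h.2.2.2.symm⟩

theorem Adj.le_normalizer {n : ℕ} (ih : IH G n) {C E : Subgroup G} (hC : Pt n C) (hE : Pt n E)
    (h : Adj C E) : E ≤ Subgroup.normalizer (C : Set G) := by
  have := inf_le_normalizer ih hC (hE.coatom_Mx ih) h.2.2.2.symm h.2.1
  exact (le_inf h.2.2.1 (hE.le_Mx ih)).trans this

theorem Adj.inf_le {n : ℕ} (ih : IH G n) {C E : Subgroup G} (hC : Pt n C) (hE : Pt n E)
    (h : Adj C E) : Mx C ⊓ Mx E ≤ Subgroup.normalizer (C : Set G) :=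
  inf_le_normalizer ih hC (hE.coatom_Mx ih) h.2.2.2.symm h.2.1

/-- Any other point inside `M_C ∩ K` is adjacent to `C`. -/
theorem adj_of_le {n : ℕ} (ih : IH G n) {C E K : Subgroup G} (hC : Pt n C) (hE : Pt n E)
    (hK : IsCoatom K) (hKne : K ≠ Mx C) (hCK : C ≤ K) (hne : C ≠ E) (hEK : E ≤ K)
    (hEM : E ≤ Mx C) : Adj C E := by
  have hMne : Mx C ≠ Mx E := by
    intro h
    have ho := onlyIn_of_Mx_eq ih hC hE hne h
    exact hKne (ho.2.2 K hK (sup_le hCK hEK))
  refine ⟨hne, ?_, hEM, hMne⟩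
  by_contra hCE
  have ho := onlyIn_of_not_le ih hE hC hne.symm hEM hCE
  exact hKne (ho.2.2 K hK (sup_le hEK hCK))

end Cfsg.Agent.Lib.H24.YL
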