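import Mathlib
import Cfsg.Agent.Lib.H24.YLemmaB

/-!
# Y-lemma (helper24), part C: the subgroups `Q`, lines, and the final contradiction
-/

set_option autoImplicit false

namespace Cfsg.Agent.Lib.H24.YL

open scoped Pointwise

variable {G : Type*} [Group G] [Finite G]

theorem inv_conj_smul_eq {N : Subgroup G} {h : G} (e : MulAut.conj h • N = N) :
    MulAut.conj h⁻¹ • N = N := by
  rw [map_inv, inv_smul_eq_iff, e]

/-- For a point `C` and a maximal subgroup `K ≠ M_C` containing it there is `Q ≤ K` lying only in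
`K`, not normalizing `C`, all of whose conjugates of `C` normalize `C`. -/
theorem exists_Q {n : ℕ} (ih : IH G n) {C K : Subgroup G} (hC : Pt n C) (hK : IsCoatom K)
    (hKne : K ≠ Mx C) (hCK : C ≤ K) :
    ∃ Q : Subgroup G, C ≤ Q ∧ Q ≤ K ∧ ¬ Q ≤ Subgroup.normalizer (C : Set G) ∧
      ncl C Q ≤ Subgroup.normalizer (C : Set G) ∧ OnlyIn Q K := by
  let 𝒳 : Set (Subgroup G) :=
    {X | C ≤ X ∧ X ≤ K ∧ ¬ X ≤ Subgroup.normalizer (C : Set G) ∧ OnlyIn X K}
  have hKn : ¬ K ≤ Subgroup.normalizer (C : Set G) := by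
    intro h
    exact hKne (eq_of_coatom_le hK (hC.coatom_Mx ih) (h.trans (hC.normalizer_le_Mx ih)))
  have hK𝒳 : K ∈ 𝒳 :=
    ⟨hCK, le_rfl, hKn, hK, le_rfl, fun L hL hKL => (eq_of_coatom_le hK hL hKL).symm⟩
  obtain ⟨X, hX⟩ := (Set.toFinite 𝒳).exists_minimal ⟨K, hK𝒳⟩
  obtain ⟨⟨hCX, hXK, hXn, hXo⟩, hmin⟩ := hX
  refine ⟨X, hCX, hXK, hXn, ?_, hXo⟩
  by_contra hcon
  have hX'X : ncl C X ≤ X := ncl_le hCX
  by_cases hEq : ncl C X = X
  · have hs : Sig C X := ⟨hCX, fun h => hK.1 (top_le_iff.mp (h ▸ hXK)), hEq⟩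
    have : X ≤ Mx C := hs.le_Y.trans (hC.onlyIn_Mx ih).2.1
    exact hKne (hXo.2.2 (Mx C) (hC.coatom_Mx ih) this).symm
  · have hlt : C < ncl C X := by
      refine lt_of_le_of_ne (le_ncl C X) ?_
      intro h
      apply hcon
      rw [← h]
      exact Subgroup.le_normalizer
    have ho : OnlyIn (ncl C X) K := by
      rw [ncl_eq_sSup]
      apply onlyIn_of_forall ih
      · rintro _ ⟨h, _, rfl⟩; exact hC.conj h
      · exact ⟨C, 1, X.one_mem, by simp⟩
      · rw [← ncl_eq_sSup, ← hC.card]; exact card_lt_of_lt' hlt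
      · exact hK
      · rw [← ncl_eq_sSup]; exact hX'X.trans hXK
      · rintro _ ⟨h, hh, rfl⟩ hle
        exfalso
        rw [← ncl_eq_sSup, hC.Mx_conj ih, Subgroup.subset_pointwise_smul_iff, ← map_inv,
          inv_conj_smul_eq (conj_smul_eq_of_mem_normalizer (le_normalizer_ncl C X hh))] at hle
        apply hcon
        exact (le_inf hle (hX'X.trans hXK)).trans (inf_le_normalizer ih hC hK hKne hCK)
    have hmem : ncl C X ∈ 𝒳 := ⟨le_ncl C X, hX'X.trans hXK, hcon, ho⟩
    exact hEq (le_antisymm hX'X (hmin hmem hX'X))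

/-- In the situation `A ~ D`, a subgroup `Q ≤ M_D` all of whose conjugates of `A` normalize `A`
normalizes `D`. -/
theorem Q_le_normalizer {n : ℕ} (ih : IH G n) {A D Q : Subgroup G} (hA : Pt n A) (hD : Pt n D)
    (hAD : Adj A D) (hQ : Q ≤ Mx D) (hR : ncl A Q ≤ Subgroup.normalizer (A : Set G)) :
    Q ≤ Subgroup.normalizer (D : Set G) := by
  intro q hq
  have hqD : q ∈ Mx D := hQ hq
  by_cases hqA : MulAut.conj q • A = A
  · have h1 : q ∈ Mx A := hA.normalizer_le_Mx ih (mem_normalizer_of_conj_smul_le hqA.le)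
    exact hAD.symm.inf_le ih hD hA ⟨hqD, h1⟩
  · have hCpt := hA.conj q
    have hMC : Mx (MulAut.conj q • A) = MulAut.conj q • Mx A := hA.Mx_conj ih q
    have hCN : MulAut.conj q • A ≤ Subgroup.normalizer (A : Set G) := (conj_smul_le_ncl hq).trans hR
    have hCD : MulAut.conj q • A ≤ Mx D := conj_smul_le_of_le_of_mem hAD.2.1 hqD
    have hqinv : q⁻¹ ∈ Mx D := (Mx D).inv_mem hqD
    have hCneD : MulAut.conj q • A ≠ D := by
      intro h
      have h1 := hD.Mx_conj_of_mem ih hqinv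
      rw [← h, smul_smul, ← map_mul, inv_mul_cancel, map_one, one_smul] at h1
      exact hAD.2.2.2 (by rw [h1, h])
    have hDC : D ≤ Mx (MulAut.conj q • A) := by
      by_contra hcon
      have ho := onlyIn_of_not_le ih hCpt hD hCneD hCD hcon
      have hle : MulAut.conj q • A ⊔ D ≤ Mx A :=
        (sup_le hCN (hAD.le_normalizer ih hA hD)).trans (hA.normalizer_le_Mx ih)
      exact hAD.2.2.2 (ho.2.2 (Mx A) (hA.coatom_Mx ih) hle)
    have hEpt := hD.conj q⁻¹
    have hME : Mx (MulAut.conj q⁻¹ • D) = Mx D := hD.Mx_conj_of_mem ih hqinv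
    have hEA : MulAut.conj q⁻¹ • D ≤ Mx A := by
      rw [hMC, Subgroup.subset_pointwise_smul_iff, ← map_inv] at hDC
      exact hDC
    by_cases hED : MulAut.conj q⁻¹ • D = D
    · have : q⁻¹ ∈ Subgroup.normalizer (D : Set G) := mem_normalizer_of_conj_smul_le hED.le
      simpa using (Subgroup.normalizer (D : Set G)).inv_mem this
    · exfalso
      have ho := onlyIn_of_Mx_eq ih hD hEpt (Ne.symm hED) hME.symm
      have hle : D ⊔ MulAut.conj q⁻¹ • D ≤ Mx A := sup_le hAD.2.2.1 hEA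
      exact hAD.2.2.2 (ho.2.2 (Mx A) (hA.coatom_Mx ih) hle)

/-! ### lines -/

/-- The points inside `M_A ∩ M_D`. -/
def line (n : ℕ) (A D : Subgroup G) : Set (Subgroup G) := {C | Pt n C ∧ C ≤ Mx A ⊓ Mx D}

section lines

variable {n : ℕ} (ih : IH G n) {A D : Subgroup G} (hA : Pt n A) (hD : Pt n D) (hAD : Adj A D)

include ih hA hD hAD

theorem mem_line_left : A ∈ line n A D := ⟨hA, le_inf (hA.le_Mx ih) hAD.2.1⟩

theorem mem_line_right : D ∈ line n A D := ⟨hD, le_inf hAD.2.2.1 (hD.le_Mx ih)⟩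

theorem line_adj_left {C : Subgroup G} (hC : C ∈ line n A D) (hne : C ≠ A) : Adj A C :=
  adj_of_le ih hA hC.1 (hD.coatom_Mx ih) hAD.2.2.2.symm hAD.2.1 (Ne.symm hne)
    (hC.2.trans inf_le_right) (hC.2.trans inf_le_left)

theorem line_adj_right {C : Subgroup G} (hC : C ∈ line n A D) (hne : C ≠ D) : Adj D C :=
  adj_of_le ih hD hC.1 (hA.coatom_Mx ih) hAD.2.2.2 hAD.2.2.1 (Ne.symm hne)
    (hC.2.trans inf_le_left) (hC.2.trans inf_le_right)

theorem line_clique {C₁ C₂ : Subgroup G} (h1 : C₁ ∈ line n A D) (h2 : C₂ ∈ line n A D)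
    (hne : C₁ ≠ C₂) : Adj C₁ C₂ := by
  by_cases e1 : C₁ = A
  · subst e1
    exact line_adj_left ih hA hD hAD h2 (Ne.symm hne)
  by_cases e2 : C₂ = A
  · subst e2
    exact (line_adj_left ih hA hD hAD h1 hne).symm
  have a1 := line_adj_left ih hA hD hAD h1 e1
  have a2 := line_adj_left ih hA hD hAD h2 e2
  by_contra hnadj
  have hS : ∀ C ∈ ({A, C₁, C₂} : Set (Subgroup G)), Pt n C := by
    rintro X (rfl | rfl | rfl)
    exacts [hA, h1.1, h2.1]
  have hle1 : A ⊔ C₁ ≤ sSup ({A, C₁, C₂} : Set (Subgroup G)) :=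
    sup_le (le_sSup (by simp)) (le_sSup (by simp))
  have hBle : sSup ({A, C₁, C₂} : Set (Subgroup G)) ≤ Mx A ⊓ Mx D := by
    apply sSup_le
    rintro X (rfl | rfl | rfl)
    exacts [(mem_line_left ih hA hD hAD).2, h1.2, h2.2]
  have ho : OnlyIn (sSup ({A, C₁, C₂} : Set (Subgroup G))) (Mx A) := by
    apply onlyIn_of_forall ih hS ⟨A, by simp⟩ _ (hA.coatom_Mx ih) (hBle.trans inf_le_left)
    · rintro X (rfl | rfl | rfl) hX
      · rfl
      · exfalso
        apply hnadj
        exact adj_of_le ih h1.1 h2.1 (hA.coatom_Mx ih) a1.2.2.2 a1.2.2.1 hne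
          (h2.2.trans inf_le_left) ((le_sSup (by simp)).trans hX)
      · exfalso
        apply hnadj
        exact (adj_of_le ih h2.1 h1.1 (hA.coatom_Mx ih) a2.2.2.2 a2.2.2.1 (Ne.symm hne)
          (h1.2.trans inf_le_left) ((le_sSup (by simp)).trans hX)).symm
    · exact lt_of_lt_of_le (card_lt_sup hA.card h1.1.card (Ne.symm e1)) (Subgroup.card_le_of_le hle1)
  exact hAD.2.2.2 (ho.2.2 (Mx D) (hD.coatom_Mx ih) (hBle.trans inf_le_right)).symm

theorem line_subset {C C' : Subgroup G} (hC : C ∈ line n A D) (hC' : C' ∈ line n A D) :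
    line n A D ⊆ line n C C' := by
  intro E hE
  refine ⟨hE.1, le_inf ?_ ?_⟩
  · by_cases e : E = C
    · rw [e]; exact hC.1.le_Mx ih
    · exact (line_clique ih hA hD hAD hE hC e).2.1
  · by_cases e : E = C'
    · rw [e]; exact hC'.1.le_Mx ih
    · exact (line_clique ih hA hD hAD hE hC' e).2.1

end lines

theorem line_eq {n : ℕ} (ih : IH G n) {A D : Subgroup G} (hA : Pt n A) (hD : Pt n D)
    (hAD : Adj A D) {C C' : Subgroup G} (hC : C ∈ line n A D) (hC' : C' ∈ line n A D)
    (hne : C ≠ C') : line n C C' = line n A D := by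
  have hCC' : Adj C C' := line_clique ih hA hD hAD hC hC' hne
  have hsub := line_subset ih hA hD hAD hC hC'
  apply Set.Subset.antisymm _ hsub
  exact line_subset ih hC.1 hC'.1 hCC' (hsub (mem_line_left ih hA hD hAD))
    (hsub (mem_line_right ih hA hD hAD))

theorem conj_mem_line {n : ℕ} (ih : IH G n) {A D C : Subgroup G} (hA : Pt n A) (hD : Pt n D)
    (hC : C ∈ line n A D) (g : G) :
    MulAut.conj g • C ∈ line n (MulAut.conj g • A) (MulAut.conj g • D) := by
  refine ⟨hC.1.conj g, ?_⟩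
  rw [hA.Mx_conj ih, hD.Mx_conj ih, ← Subgroup.smul_inf]
  exact Subgroup.pointwise_smul_le_pointwise_smul_iff.mpr hC.2

/-- An element moving `A`, `D` to two points of the line normalizes the span of the line. -/
theorem mem_normalizer_line {n : ℕ} (ih : IH G n) {A D : Subgroup G} (hA : Pt n A) (hD : Pt n D)
    (hAD : Adj A D) {q : G} (h1 : MulAut.conj q • A ∈ line n A D)
    (h2 : MulAut.conj q • D ∈ line n A D) :
    q ∈ Subgroup.normalizer ((sSup (line n A D) : Subgroup G) : Set G) := by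
  apply mem_normalizer_of_conj_smul_le
  have hne : MulAut.conj q • A ≠ MulAut.conj q • D := by
    intro h
    apply hAD.1
    have := congrArg (fun K : Subgroup G => MulAut.conj q⁻¹ • K) h
    simpa [smul_smul, ← map_mul] using this
  have hl := line_eq ih hA hD hAD h1 h2 hne
  have e : MulAut.conj q • sSup (line n A D) =
      (sSup (line n A D)).map (MulAut.conj q).toMonoidHom := rfl
  rw [e, Cfsg.Agent.Lib.H3.map_sSup_eq]
  apply iSup₂_le
  intro U hU
  have : U.map (MulAut.conj q).toMonoidHom = MulAut.conj q • U := rfl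
  rw [this]
  apply le_sSup
  rw [← hl]
  exact conj_mem_line ih hA hD hU q

/-- The final contradiction. -/
theorem no_adj {n : ℕ} (ih : IH G n) {A D : Subgroup G} (hA : Pt n A) (hD : Pt n D)
    (hAD : Adj A D) : False := by
  obtain ⟨Q, hAQ, hQM, hQn, hQR, hQo⟩ :=
    exists_Q ih hA (hD.coatom_Mx ih) hAD.2.2.2.symm hAD.2.1
  obtain ⟨P, hDP, hPM, hPn, hPR, hPo⟩ :=
    exists_Q ih hD (hA.coatom_Mx ih) hAD.2.2.2 hAD.2.2.1
  have hQD : Q ≤ Subgroup.normalizer (D : Set G) := Q_le_normalizer ih hA hD hAD hQM hQR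
  have hPA : P ≤ Subgroup.normalizer (A : Set G) := Q_le_normalizer ih hD hA hAD.symm hPM hPR
  set W : Subgroup G := sSup (line n A D) with hW
  have hAW : A ≤ W := le_sSup (mem_line_left ih hA hD hAD)
  have hWM : W ≤ Mx A := sSup_le (fun C hC => hC.2.trans inf_le_left)
  have hQW : Q ≤ Subgroup.normalizer (W : Set G) := by
    intro q hq
    apply mem_normalizer_line ih hA hD hAD
    · refine ⟨hA.conj q, le_inf ?_ ?_⟩
      · exact ((conj_smul_le_ncl hq).trans hQR).trans (hA.normalizer_le_Mx ih)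
      · exact conj_smul_le_of_le_of_mem hAD.2.1 (hQM hq)
    · rw [conj_smul_eq_of_mem_normalizer (hQD hq)]
      exact mem_line_right ih hA hD hAD
  have hPW : P ≤ Subgroup.normalizer (W : Set G) := by
    intro p hp
    apply mem_normalizer_line ih hA hD hAD
    · rw [conj_smul_eq_of_mem_normalizer (hPA hp)]
      exact mem_line_left ih hA hD hAD
    · refine ⟨hD.conj p, le_inf ?_ ?_⟩
      · exact conj_smul_le_of_le_of_mem hAD.2.2.1 (hPM hp)
      · exact ((conj_smul_le_ncl hp).trans hPR).trans (hD.normalizer_le_Mx ih)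
  have hNtop : Subgroup.normalizer (W : Set G) ≠ ⊤ := by
    intro h
    have hn : W.Normal := Subgroup.normalizer_eq_top_iff.mp h
    have : Subgroup.normalClosure (A : Set G) ≤ W := Subgroup.normalClosure_le_normal hAW
    rw [hA.ncl_top] at this
    exact (hA.coatom_Mx ih).1 (top_le_iff.mp (this.trans hWM))
  obtain ⟨L, hL, hNL⟩ := (eq_top_or_exists_le_coatom _).resolve_left hNtop
  have e1 := hQo.2.2 L hL (hQW.trans hNL)
  have e2 := hPo.2.2 L hL (hPW.trans hNL)
  exact hAD.2.2.2 (e2.symm.trans e1)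

/-- The core step: the Y-lemma for subgroups of order `n`, given it for larger orders. -/
theorem core {n : ℕ} (ih : IH G n) {A : Subgroup G} (hcard : Nat.card A = n) (hAtop : A ≠ ⊤)
    (hncl : Subgroup.normalClosure (A : Set G) = ⊤) : Concl A := by
  by_cases hY : Y A = ⊤
  · exact Or.inl hY
  right
  have hA : Pt n A := ⟨hcard, hAtop, hncl, hY⟩
  by_contra hnu
  have hex : ∃ K : Subgroup G, IsCoatom K ∧ A ≤ K ∧ K ≠ Mx A := by
    by_contra hcon
    push Not at hcon
    exact hnu ⟨Mx A, ⟨hA.coatom_Mx ih, hA.le_Mx ih⟩, fun K hK => hcon K hK.1 hK.2⟩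
  obtain ⟨K, hK, hAK, hKne⟩ := hex
  obtain ⟨Q, hAQ, hQK, hQn, hQR, -⟩ := exists_Q ih hA hK hKne hAK
  obtain ⟨q, hqQ, hqn⟩ := SetLike.not_le_iff_exists.mp hQn
  have hne : A ≠ MulAut.conj q • A := by
    intro h
    apply hqn
    apply mem_normalizer_of_conj_smul_le
    rw [← h]
  have hDM : MulAut.conj q • A ≤ Mx A :=
    ((conj_smul_le_ncl hqQ).trans hQR).trans (hA.normalizer_le_Mx ih)
  have hDK : MulAut.conj q • A ≤ K := conj_smul_le_of_le_of_mem hAK (hQK hqQ)
  exact no_adj ih hA (hA.conj q) (adj_of_le ih hA (hA.conj q) hK hKne hAK hne hDK hDM)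

theorem IH_all (G : Type*) [Group G] [Finite G] : ∀ k : ℕ, IH G (Nat.card G - k) := by
  intro k
  induction k with
  | zero =>
    intro B hB
    exact absurd (Subgroup.card_le_card_group B) (by simpa using hB)
  | succ k ih =>
    intro B hB hBtop hncl
    by_cases h : Nat.card G - k < Nat.card B
    · exact ih B h hBtop hncl
    · have hle : Nat.card G - k ≤ Nat.card G - (k + 1) + 1 := by omega
      have hih : IH G (Nat.card B) := by
        intro B' hB'
        exact ih B' (by omega)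
      exact core hih rfl hBtop hncl

/-- **The Y-lemma** in terms of `Y`. -/
theorem ylemma (A : Subgroup G) (hAtop : A ≠ ⊤)
    (hncl : Subgroup.normalClosure (A : Set G) = ⊤) : Concl A := by
  have h := IH_all G (Nat.card G)
  rw [Nat.sub_self] at h
  exact h A Nat.card_pos hAtop hncl

end Cfsg.Agent.Lib.H24.YL
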