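import Mathlib
import Cfsg.Agent.Lib.H24.YLemmaC

/-!
# Iterated conjugates generate (helper24)

`closure_range_iterate_psi`: if the normal closure of `a` is the finite group `Γ`, then for every
`k` the values of the `k`-th iterate of `x ↦ x a x⁻¹` generate `Γ`.
-/

set_option autoImplicit false

namespace Cfsg.Agent.Lib.H24.YL

open scoped Pointwise

/-- `x ↦ x a x⁻¹`. -/
def psi {Γ : Type*} [Group Γ] (a : Γ) : Γ → Γ := fun x => x * a * x⁻¹

theorem psi_self {Γ : Type*} [Group Γ] (a : Γ) : psi a a = a := by simp [psi]

theorem iterate_psi_self {Γ : Type*} [Group Γ] (a : Γ) (k : ℕ) : (psi a)^[k] a = a := by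
  induction k with
  | zero => rfl
  | succ k ih => rw [Function.iterate_succ_apply', ih, psi_self]

theorem iterate_psi_subtype {Γ : Type*} [Group Γ] (L : Subgroup Γ) (a : Γ) (ha : a ∈ L) (k : ℕ)
    (l : L) : (((psi (⟨a, ha⟩ : L))^[k] l : L) : Γ) = (psi a)^[k] (l : Γ) := by
  induction k with
  | zero => rfl
  | succ k ih =>
    rw [Function.iterate_succ_apply', Function.iterate_succ_apply', ← ih]
    simp [psi]

theorem closure_range_iterate_psi.{u} : ∀ (N : ℕ) (Γ : Type u) [Group Γ] [Finite Γ] (a : Γ),
    Nat.card Γ = N → Subgroup.normalClosure ({a} : Set Γ) = ⊤ →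
    ∀ k : ℕ, Subgroup.closure (Set.range ((psi a)^[k])) = ⊤ := by
  intro N
  induction N using Nat.strong_induction_on with
  | _ N IHN =>
  intro Γ _ _ a hcard hncl k
  induction k with
  | zero =>
    rw [eq_top_iff]
    intro x _
    exact Subgroup.subset_closure ⟨x, rfl⟩
  | succ k ihk =>
    by_contra hK
    set K : Subgroup Γ := Subgroup.closure (Set.range ((psi a)^[k + 1])) with hKdef
    have haK : a ∈ K := Subgroup.subset_closure ⟨a, iterate_psi_self a (k + 1)⟩
    have hAK : Subgroup.zpowers a ≤ K := (Subgroup.zpowers_le).mpr haK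
    have hAtop : Subgroup.zpowers a ≠ ⊤ := fun h => hK (top_le_iff.mp (h ▸ hAK))
    have hAncl : Subgroup.normalClosure ((Subgroup.zpowers a : Subgroup Γ) : Set Γ) = ⊤ := by
      rw [eq_top_iff, ← hncl]
      apply Subgroup.normalClosure_mono
      intro x hx
      rw [Set.mem_singleton_iff] at hx
      rw [hx]
      exact Subgroup.mem_zpowers a
    rcases ylemma (Subgroup.zpowers a) hAtop hAncl with hY | hU
    · -- every member of `Sig` lies in `K`
      apply hK
      rw [eq_top_iff, ← hY]
      apply sSup_le
      intro L hL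
      have haL : a ∈ L := hL.1 (Subgroup.mem_zpowers a)
      have hLcard : Nat.card L < N := by
        rw [← hcard]
        have hlt : L < ⊤ := lt_top_iff_ne_top.mpr hL.2.1
        have := card_lt_of_lt' hlt
        rwa [Subgroup.card_top] at this
      have hnclL : Subgroup.normalClosure ({(⟨a, haL⟩ : L)} : Set L) = ⊤ := by
        have h1 := (ncl_eq_iff hL.1).mp hL.2.2
        rw [eq_top_iff, ← h1]
        apply Subgroup.normalClosure_le_normal
        rintro ⟨x, hxL⟩ hx
        have hx' : x ∈ Subgroup.zpowers a := hx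
        obtain ⟨m, rfl⟩ := Subgroup.mem_zpowers_iff.mp hx'
        have : (⟨a ^ m, hxL⟩ : L) = (⟨a, haL⟩ : L) ^ m := by
          ext; simp
        rw [this]
        exact Subgroup.zpow_mem _ (Subgroup.subset_normalClosure (Set.mem_singleton _)) m
      have hgen := IHN (Nat.card L) hLcard L ⟨a, haL⟩ rfl hnclL (k + 1)
      have hmap : L = (Subgroup.closure (Set.range ((psi (⟨a, haL⟩ : L))^[k + 1]))).map L.subtype := by
        rw [hgen, ← MonoidHom.range_eq_map, Subgroup.range_subtype]
      rw [hmap, MonoidHom.map_closure]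
      apply Subgroup.closure_mono
      rintro _ ⟨_, ⟨l, rfl⟩, rfl⟩
      exact ⟨(l : Γ), (iterate_psi_subtype L a haL (k + 1) l).symm⟩
    · -- unique maximal subgroup
      obtain ⟨M, ⟨hM, hAM⟩, huniq⟩ := hU
      obtain ⟨L, hL, hKL⟩ := (eq_top_or_exists_le_coatom K).resolve_left hK
      have hLM : L = M := huniq L ⟨hL, hAK.trans hKL⟩
      have hKM : K ≤ M := hLM ▸ hKL
      have hex : ∃ x ∈ Set.range ((psi a)^[k]), x ∉ M := by
        by_contra hcon
        push Not at hcon
        have : Subgroup.closure (Set.range ((psi a)^[k])) ≤ M := (Subgroup.closure_le M).mpr hcon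
        rw [ihk] at this
        exact hM.1 (top_le_iff.mp this)
      obtain ⟨x, ⟨y, rfl⟩, hxM⟩ := hex
      set x := (psi a)^[k] y with hx
      have hpx : psi a x ∈ M := by
        apply hKM
        apply Subgroup.subset_closure
        exact ⟨y, Function.iterate_succ_apply' _ _ _⟩
      have hconj : MulAut.conj x • Subgroup.zpowers a ≤ M := by
        rintro _ ⟨z, hz, rfl⟩
        obtain ⟨m, rfl⟩ := Subgroup.mem_zpowers_iff.mp hz
        have : (MulAut.conj x).toMonoidHom (a ^ m) = (psi a x) ^ m := by
          simp [psi, MulAut.conj_apply, conj_zpow]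
        show (MulAut.conj x).toMonoidHom (a ^ m) ∈ M
        rw [this]
        exact Subgroup.zpow_mem _ hpx m
      have hA' : Subgroup.zpowers a ≤ MulAut.conj x⁻¹ • M := by
        rw [map_inv, ← Subgroup.pointwise_smul_subset_iff]
        exact hconj
      have hMeq : MulAut.conj x⁻¹ • M = M := huniq _ ⟨isCoatom_conj_smul hM x⁻¹, hA'⟩
      have hxinv : x⁻¹ ∈ Subgroup.normalizer (M : Set Γ) := mem_normalizer_of_conj_smul_le hMeq.le
      have hNM : Subgroup.normalizer (M : Set Γ) = M := by
        rcases hM.le_iff.mp (Subgroup.le_normalizer (H := M)) with h | h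
        · exfalso
          have hn : M.Normal := Subgroup.normalizer_eq_top_iff.mp h
          have : Subgroup.normalClosure ((Subgroup.zpowers a : Subgroup Γ) : Set Γ) ≤ M :=
            Subgroup.normalClosure_le_normal hAM
          rw [hAncl] at this
          exact hM.1 (top_le_iff.mp this)
        · exact h
      rw [hNM] at hxinv
      exact hxM (by simpa using M.inv_mem hxinv)

/-- If `[G, α] = G` then the `k`-fold commutators `[g, α, …, α]` generate `G` for every `k ≥ 1`. -/
theorem closure_range_iterate_comm {G : Type*} [Group G] [Finite G] (α : MulAut G)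
    (hG : Subgroup.closure (Set.range (fun c : G => c * (α c)⁻¹)) = ⊤) (k : ℕ) (hk : 1 ≤ k) :
    Subgroup.closure (Set.range ((fun c : G => c * (α c)⁻¹)^[k])) = ⊤ := by
  classical
  set f : G → G := fun c : G => c * (α c)⁻¹ with hf
  let H : Subgroup (MulAut G) := Subgroup.zpowers α
  let φ : H →* MulAut G := H.subtype
  let a' : H := ⟨α, Subgroup.mem_zpowers α⟩
  let a : G ⋊[φ] H := SemidirectProduct.inr a'
  have : Finite (G ⋊[φ] H) := Finite.of_equiv _ (SemidirectProduct.equivProd (φ := φ)).symm
  have hφa : ∀ y : G, φ a' y = α y := fun y => rfl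
  have hHcomm : ∀ x y : H, x * y = y * x := by
    intro x y
    obtain ⟨m, hm⟩ := Subgroup.mem_zpowers_iff.mp x.2
    obtain ⟨m', hm'⟩ := Subgroup.mem_zpowers_iff.mp y.2
    ext1
    show (x : MulAut G) * y = y * x
    rw [← hm, ← hm', ← zpow_add, ← zpow_add, add_comm]
  -- the map `psi a` in terms of `f`
  have F1 : ∀ x : G ⋊[φ] H, psi a x = SemidirectProduct.inl (f x.left) * a := by
    intro x
    have hr : x.right * a' * x.right⁻¹ = a' := by
      rw [hHcomm x.right a', mul_assoc, mul_inv_cancel, mul_one]
    refine SemidirectProduct.ext ?_ ?_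
    · simp only [psi, a, SemidirectProduct.mul_left,
        SemidirectProduct.mul_right,
        SemidirectProduct.inv_left, SemidirectProduct.left_inr, SemidirectProduct.right_inr,
        SemidirectProduct.left_inl, SemidirectProduct.right_inl, map_one, mul_one]
      rw [← MulAut.mul_apply, ← map_mul, hr, hφa, map_inv]
    · simp only [psi, a, SemidirectProduct.mul_right,
        SemidirectProduct.inv_right,
        SemidirectProduct.right_inr, SemidirectProduct.right_inl, one_mul]
      exact hr
  have F2 : ∀ (j : ℕ) (x : G ⋊[φ] H), (psi a)^[j + 1] x =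
      SemidirectProduct.inl (f^[j + 1] x.left) * a := by
    intro j
    induction j with
    | zero => intro x; exact F1 x
    | succ j ih =>
      intro x
      have hl : (SemidirectProduct.inl (f^[j + 1] x.left) * a).left = f^[j + 1] x.left := by
        simp [a]
      rw [Function.iterate_succ_apply', ih x, F1, hl, ← Function.iterate_succ_apply' f]
  -- the normal closure of `a`
  have F3 : Subgroup.normalClosure ({a} : Set (G ⋊[φ] H)) = ⊤ := by
    set N := Subgroup.normalClosure ({a} : Set (G ⋊[φ] H)) with hN
    have hnorm : N.Normal := Subgroup.normalClosure_normal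
    have haN : a ∈ N := Subgroup.subset_normalClosure (Set.mem_singleton a)
    have h1 : ∀ c : G, SemidirectProduct.inl (f c) ∈ N := by
      intro c
      have h2 : psi a (SemidirectProduct.inl c) ∈ N :=
        hnorm.conj_mem a haN _
      rw [F1] at h2
      have h3 := N.mul_mem h2 (N.inv_mem haN)
      simpa using h3
    have h2 : ∀ g : G, SemidirectProduct.inl g ∈ N := by
      intro g
      have hg : g ∈ Subgroup.closure (Set.range f) := by rw [hG]; exact Subgroup.mem_top g
      have hle : Subgroup.closure (Set.range f) ≤ N.comap (SemidirectProduct.inl (φ := φ)) := by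
        rw [Subgroup.closure_le]
        rintro _ ⟨c, rfl⟩
        exact h1 c
      exact hle hg
    rw [eq_top_iff]
    intro x _
    rw [← SemidirectProduct.inl_left_mul_inr_right x]
    apply N.mul_mem (h2 _)
    obtain ⟨m, hm⟩ := Subgroup.mem_zpowers_iff.mp x.right.2
    have : x.right = a' ^ m := by
      ext1
      rw [Subgroup.coe_zpow]
      exact hm.symm
    rw [this, map_zpow]
    exact N.zpow_mem haN m
  have hgen := closure_range_iterate_psi (Nat.card (G ⋊[φ] H)) (G ⋊[φ] H) a rfl F3 k
  -- invariance of `F` under `zpowers α`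
  set F : Subgroup G := Subgroup.closure (Set.range (f^[k])) with hF
  have hcomm : ∀ (j : ℕ) (c : G), α (f^[j] c) = f^[j] (α c) := by
    intro j
    induction j with
    | zero => intro c; rfl
    | succ j ih =>
      intro c
      rw [Function.iterate_succ_apply', Function.iterate_succ_apply', ← ih]
      simp [hf]
  have hαF : α • F = F := by
    rw [hF, Subgroup.smul_closure]
    congr 1
    ext y
    rw [Set.mem_smul_set]
    constructor
    · rintro ⟨_, ⟨c, rfl⟩, rfl⟩
      exact ⟨α c, (hcomm k c).symm⟩
    · rintro ⟨c, rfl⟩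
      refine ⟨f^[k] (α.symm c), ⟨_, rfl⟩, ?_⟩
      show α (f^[k] (α.symm c)) = f^[k] c
      rw [hcomm]
      simp
  have hinv : ∀ β : H, ∀ g ∈ F, φ β g ∈ F := by
    intro β g hg
    have hle : H ≤ MulAction.stabilizer (MulAut G) F :=
      Subgroup.zpowers_le.mpr (MulAction.mem_stabilizer_iff.mpr hαF)
    have hβ : (β : MulAut G) • F = F := MulAction.mem_stabilizer_iff.mp (hle β.2)
    have : (β : MulAut G) • g ∈ (β : MulAut G) • F := Subgroup.smul_mem_pointwise_smul _ _ _ hg
    rw [hβ] at this
    exact this
  let Γ' : Subgroup (G ⋊[φ] H) :=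
    { carrier := {x | x.left ∈ F}
      mul_mem' := by
        intro x y hx hy
        show (x * y).left ∈ F
        rw [SemidirectProduct.mul_left]
        exact F.mul_mem hx (hinv _ _ hy)
      one_mem' := F.one_mem
      inv_mem' := by
        intro x hx
        show (x⁻¹).left ∈ F
        rw [SemidirectProduct.inv_left]
        exact hinv _ _ (F.inv_mem hx) }
  have hle : Subgroup.closure (Set.range ((psi a)^[k])) ≤ Γ' := by
    rw [Subgroup.closure_le]
    rintro _ ⟨x, rfl⟩
    obtain ⟨j, rfl⟩ : ∃ j, k = j + 1 := ⟨k - 1, by omega⟩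
    rw [F2]
    show (SemidirectProduct.inl (f^[j + 1] x.left) * a).left ∈ F
    have : (SemidirectProduct.inl (f^[j + 1] x.left) * a).left = f^[j + 1] x.left := by simp [a]
    rw [this]
    exact Subgroup.subset_closure ⟨_, rfl⟩
  rw [hgen] at hle
  rw [eq_top_iff]
  intro g _
  have : (SemidirectProduct.inl g : G ⋊[φ] H) ∈ Γ' := hle (Subgroup.mem_top _)
  exact this

end Cfsg.Agent.Lib.H24.YL
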