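import Mathlib

/-!
# S3206 piece COUNT : `N_G(S)` is transitive on the 7 nonidentity elements of `S` (helper24)

Exact signature of `tools/blueprints/S3206_sigs.lean`: `COUNT`.
-/

set_option autoImplicit false
set_option linter.style.haveILetI false

namespace Cfsg.Agent.Lib.H24.JRCOUNT

/-- the conjugation action of `N_G(S)` on `S` -/
@[reducible] def conjAct {G : Type*} [Group G] (S : Subgroup G) :
    MulAction ↥(Subgroup.normalizer (S : Set G)) ↥S where
  smul n s := ⟨n * s * n⁻¹, (Subgroup.mem_normalizer_iff.mp n.2 s).mp s.2⟩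
  one_smul s := by
    apply Subtype.ext
    show ((1 : ↥(Subgroup.normalizer (S : Set G))) : G) * s * ((1 : ↥(Subgroup.normalizer (S : Set G))) : G)⁻¹ = s
    simp
  mul_smul m n s := by
    apply Subtype.ext
    show ((m * n : ↥(Subgroup.normalizer (S : Set G))) : G) * s *
      ((m * n : ↥(Subgroup.normalizer (S : Set G))) : G)⁻¹ = (m : G) * ((n : G) * s * (n : G)⁻¹) * (m : G)⁻¹
    simp [mul_assoc]

attribute [local instance] conjAct

theorem conjAct_coe {G : Type*} [Group G] (S : Subgroup G)
    (n : ↥(Subgroup.normalizer (S : Set G))) (s : ↥S) :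
    ((n • s : ↥S) : G) = (n : G) * s * (n : G)⁻¹ := rfl

theorem COUNT {G : Type*} [Group G] [Finite G] (S : Sylow 2 G)
    (hcomm : ∀ a ∈ (S : Subgroup G), ∀ b ∈ (S : Subgroup G), a * b = b * a)
    (hcard : Nat.card ↥(S : Subgroup G) = 8)
    (hfix : ∀ u ∈ (S : Subgroup G), u ≠ 1 →
      ∃ n ∈ Subgroup.normalizer ((S : Subgroup G) : Set G), n * u * n⁻¹ ≠ u) :
    ∀ a ∈ (S : Subgroup G), ∀ b ∈ (S : Subgroup G), a ≠ 1 → b ≠ 1 →
      ∃ n ∈ Subgroup.normalizer ((S : Subgroup G) : Set G), n * a * n⁻¹ = b := by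
  classical
  set H := Subgroup.normalizer ((S : Subgroup G) : Set G) with hH
  have hsmul : ∀ (n : ↥H) (s : ↥(S : Subgroup G)), ((n • s : ↥(S : Subgroup G)) : G) = n * s * (n : G)⁻¹ :=
    fun n s => conjAct_coe (S : Subgroup G) n s
  -- orbit sizes are odd
  have hSH : (S : Subgroup G) ≤ H := Subgroup.le_normalizer
  have hodd : ∀ x : ↥(S : Subgroup G), Odd (MulAction.orbit ↥H x).ncard := by
    intro x
    rw [← MulAction.index_stabilizer]
    have hle : (S : Subgroup G).subgroupOf H ≤ MulAction.stabilizer ↥H x := by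
      intro n hn
      rw [Subgroup.mem_subgroupOf] at hn
      rw [MulAction.mem_stabilizer_iff]
      apply Subtype.ext
      rw [hsmul, hcomm _ hn _ x.2, mul_assoc, mul_inv_cancel, mul_one]
    have h1 : (MulAction.stabilizer ↥H x).index ∣ ((S : Subgroup G).subgroupOf H).index :=
      Subgroup.index_dvd_of_le hle
    have h2 : ((S : Subgroup G).subgroupOf H).index ∣ (S : Subgroup G).index :=
      Subgroup.relIndex_dvd_index_of_le hSH
    have h3 : Odd (S : Subgroup G).index := by
      rw [← Nat.not_even_iff_odd, even_iff_two_dvd]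
      exact S.not_dvd_index
    exact (h3.of_dvd_nat h2).of_dvd_nat h1
  -- orbits of nonidentity elements have at least 3 elements and avoid `1`
  have hone : ∀ x : ↥(S : Subgroup G), x ≠ 1 → (1 : ↥(S : Subgroup G)) ∉ MulAction.orbit ↥H x := by
    intro x hx h1
    obtain ⟨n, hn⟩ := MulAction.mem_orbit_iff.mp h1
    have := congrArg Subtype.val hn
    rw [hsmul] at this
    apply hx
    apply Subtype.ext
    have h2 : (x : G) = (n : G)⁻¹ * ((n : G) * x * (n : G)⁻¹) * n := by group
    rw [h2, this]
    simp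
  have hge : ∀ x : ↥(S : Subgroup G), x ≠ 1 → 3 ≤ (MulAction.orbit ↥H x).ncard := by
    intro x hx
    have hx' : (x : G) ≠ 1 := fun h => hx (Subtype.ext h)
    obtain ⟨n, hn, hne⟩ := hfix x x.2 hx'
    have h1 : 1 < (MulAction.orbit ↥H x).ncard := by
      rw [Set.one_lt_ncard_iff (Set.toFinite _)]
      refine ⟨x, (⟨n, hn⟩ : ↥H) • x, MulAction.mem_orbit_self x, MulAction.mem_orbit _ _, ?_⟩
      intro h
      apply hne
      have := congrArg Subtype.val h
      rw [hsmul] at this
      exact this.symm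
    obtain ⟨k, hk⟩ := hodd x
    omega
  have huniv : (Set.univ : Set ↥(S : Subgroup G)).ncard = 8 := by
    rw [Set.ncard_univ, hcard]
  intro a ha b hb ha1 hb1
  set a' : ↥(S : Subgroup G) := ⟨a, ha⟩ with ha'
  set b' : ↥(S : Subgroup G) := ⟨b, hb⟩ with hb'
  have ha'1 : a' ≠ 1 := fun h => ha1 (congrArg Subtype.val h)
  have hb'1 : b' ≠ 1 := fun h => hb1 (congrArg Subtype.val h)
  by_cases hmem : b' ∈ MulAction.orbit ↥H a'
  · obtain ⟨n, hn⟩ := MulAction.mem_orbit_iff.mp hmem
    refine ⟨n, n.2, ?_⟩
    have := congrArg Subtype.val hn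
    rw [hsmul] at this
    exact this
  · exfalso
    -- abbreviations are avoided on purpose: everything is stated with explicit orbits
    have hdisj : Disjoint (MulAction.orbit ↥H a') (MulAction.orbit ↥H b') := by
      rcases MulAction.orbit.eq_or_disjoint (G := ↥H) a' b' with h | h
      · exact absurd (by rw [h]; exact MulAction.mem_orbit_self b') hmem
      · exact h
    have hAB1 : Disjoint (MulAction.orbit ↥H a' ∪ MulAction.orbit ↥H b')
        ({1} : Set ↥(S : Subgroup G)) := by
      rw [Set.disjoint_singleton_right]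
      rintro (h | h)
      · exact hone a' ha'1 h
      · exact hone b' hb'1 h
    have hcardU : ((MulAction.orbit ↥H a' ∪ MulAction.orbit ↥H b') ∪ {1}).ncard =
        (MulAction.orbit ↥H a').ncard + (MulAction.orbit ↥H b').ncard + 1 := by
      rw [Set.ncard_union_eq hAB1 (Set.toFinite _) (Set.toFinite _),
        Set.ncard_union_eq hdisj (Set.toFinite _) (Set.toFinite _), Set.ncard_singleton]
    have hle8 : ((MulAction.orbit ↥H a' ∪ MulAction.orbit ↥H b') ∪ {1}).ncard ≤ 8 := by
      rw [← huniv]
      exact Set.ncard_le_ncard (Set.subset_univ _) (Set.toFinite _)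
    have hA3 := hge a' ha'1
    have hB3 := hge b' hb'1
    obtain ⟨ka, hka⟩ := hodd a'
    obtain ⟨kb, hkb⟩ := hodd b'
    have hA_eq : (MulAction.orbit ↥H a').ncard = 3 := by omega
    have hB_eq : (MulAction.orbit ↥H b').ncard = 3 := by omega
    -- there is a further element `c`
    have hex : ∃ c : ↥(S : Subgroup G),
        c ∉ (MulAction.orbit ↥H a' ∪ MulAction.orbit ↥H b') ∪ {1} := by
      by_contra hcon
      have hall : ∀ c : ↥(S : Subgroup G),
          c ∈ (MulAction.orbit ↥H a' ∪ MulAction.orbit ↥H b') ∪ {1} := by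
        intro c
        by_contra hc
        exact hcon ⟨c, hc⟩
      have : ((MulAction.orbit ↥H a' ∪ MulAction.orbit ↥H b') ∪ {1}) = Set.univ :=
        Set.eq_univ_of_forall hall
      rw [this, huniv] at hcardU
      omega
    obtain ⟨c, hc⟩ := hex
    have hc1 : c ≠ 1 := fun h => hc (Or.inr (by rw [h]; rfl))
    have hcA : c ∉ MulAction.orbit ↥H a' := fun h => hc (Or.inl (Or.inl h))
    have hcB : c ∉ MulAction.orbit ↥H b' := fun h => hc (Or.inl (Or.inr h))
    have hdA : Disjoint (MulAction.orbit ↥H a') (MulAction.orbit ↥H c) := by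
      rcases MulAction.orbit.eq_or_disjoint (G := ↥H) a' c with h | h
      · exact absurd (by rw [h]; exact MulAction.mem_orbit_self c) hcA
      · exact h
    have hdB : Disjoint (MulAction.orbit ↥H b') (MulAction.orbit ↥H c) := by
      rcases MulAction.orbit.eq_or_disjoint (G := ↥H) b' c with h | h
      · exact absurd (by rw [h]; exact MulAction.mem_orbit_self c) hcB
      · exact h
    have hC3 := hge c hc1
    have hd1 : Disjoint ((MulAction.orbit ↥H a' ∪ MulAction.orbit ↥H b') ∪ MulAction.orbit ↥H c)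
        ({1} : Set ↥(S : Subgroup G)) := by
      rw [Set.disjoint_singleton_right]
      rintro ((h | h) | h)
      · exact hone a' ha'1 h
      · exact hone b' hb'1 h
      · exact hone c hc1 h
    have hdABC : Disjoint (MulAction.orbit ↥H a' ∪ MulAction.orbit ↥H b') (MulAction.orbit ↥H c) :=
      Set.disjoint_union_left.mpr ⟨hdA, hdB⟩
    have hcard2 : (((MulAction.orbit ↥H a' ∪ MulAction.orbit ↥H b') ∪ MulAction.orbit ↥H c) ∪ {1}).ncard =
        (MulAction.orbit ↥H a').ncard + (MulAction.orbit ↥H b').ncard + (MulAction.orbit ↥H c).ncard + 1 := by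
      rw [Set.ncard_union_eq hd1 (Set.toFinite _) (Set.toFinite _),
        Set.ncard_union_eq hdABC (Set.toFinite _) (Set.toFinite _),
        Set.ncard_union_eq hdisj (Set.toFinite _) (Set.toFinite _), Set.ncard_singleton]
    have hle8' : (((MulAction.orbit ↥H a' ∪ MulAction.orbit ↥H b') ∪ MulAction.orbit ↥H c) ∪ {1}).ncard ≤ 8 := by
      rw [← huniv]
      exact Set.ncard_le_ncard (Set.subset_univ _) (Set.toFinite _)
    omega

end Cfsg.Agent.Lib.H24.JRCOUNT
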