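import Mathlib

/-!
# S3206 piece XFER : a central involution of a perfect group lies in `T'` for `T` of odd index (helper24)

Exact signature of `tools/blueprints/S3206_sigs.lean`: `XFER`.
-/

set_option autoImplicit false

namespace Cfsg.Agent.Lib.H24.JRXFER

theorem XFER {L : Type*} [Group L] [Finite L] (hperf : commutator L = ⊤) (T : Subgroup L)
    (hT : Odd T.index) (z : L) (hzc : z ∈ Subgroup.center L) (hzT : z ∈ T) (hz2 : z * z = 1) :
    z ∈ ⁅T, T⁆ := by
  have key : ∀ (k : ℕ) (g₀ : L), g₀⁻¹ * z ^ k * g₀ ∈ T → g₀⁻¹ * z ^ k * g₀ = z ^ k := by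
    intro k g₀ _
    have hc : z ^ k ∈ Subgroup.center L := Subgroup.pow_mem _ hzc k
    rw [Subgroup.mem_center_iff] at hc
    rw [mul_assoc, ← hc g₀, ← mul_assoc, inv_mul_cancel, one_mul]
  have h1 := MonoidHom.transfer_eq_pow (Abelianization.of : ↥T →* Abelianization ↥T) z key
  have h2 : (Abelianization.of : ↥T →* Abelianization ↥T).transfer z = 1 := by
    have : z ∈ ((Abelianization.of : ↥T →* Abelianization ↥T).transfer).ker := by
      apply Abelianization.commutator_subset_ker
      rw [hperf]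
      exact Subgroup.mem_top z
    exact this
  rw [h2] at h1
  -- `z ^ T.index = z`
  obtain ⟨k, hk⟩ := hT
  have hpow : z ^ T.index = z := by
    rw [hk, pow_succ, pow_mul, pow_two, hz2, one_pow, one_mul]
  have h3 : (⟨z, hzT⟩ : ↥T) ∈ commutator ↥T := by
    rw [← Abelianization.ker_of, MonoidHom.mem_ker]
    have : (⟨z ^ T.index, by rw [hpow]; exact hzT⟩ : ↥T) = ⟨z, hzT⟩ := Subtype.ext hpow
    rw [← this]
    exact h1.symm
  rw [← Subgroup.map_subtype_commutator]
  exact ⟨⟨z, hzT⟩, h3, rfl⟩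

end Cfsg.Agent.Lib.H24.JRXFER
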