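import Cfsg.Agent.Lib.H28.KB.Defs

/-!
# S4539 piece FORM (helper24): the contributions as values of the Hermitian form `formH`

`p^d · contrib(z^k)(χ, ψ) = formH α β γ X_χ Y_χ X_ψ Y_ψ` with `X = galW z (cfD D₁ ·) k`,
`Y = galW z (cfD D₂ ·) k`, from `contrib_eq_sum` and the integral Gram identity `hG`.
-/

set_option autoImplicit false

namespace Cfsg.Agent.Lib.H24.KB

open Cfsg Cfsg.Agent.Lib.H23 Cfsg.Agent.Lib.H23.Contrib Cfsg.Agent.Lib.H28.KB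
open scoped ComplexConjugate

/-- `conj` of a `galW` (the coefficients are integers). -/
theorem conj_galW {K : Type*} [Group K] [Fintype (IrrCharacter K)] (z : K)
    (c : IrrCharacter K → ℤ) (k : ℕ) :
    conj (galW z c k) =
      ∑ ξ : IrrCharacter K, (c ξ : ℂ) * conj ((ξ : K → ℂ) (z ^ k) / (ξ : K → ℂ) 1) := by
  unfold galW
  rw [map_sum]
  refine Finset.sum_congr rfl fun ξ _ => ?_
  rw [map_mul, map_intCast]

/-- product of a `galW` with the conjugate of a `galW` as a double sum. -/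
theorem galW_mul_conj_galW {K : Type*} [Group K] [Fintype (IrrCharacter K)] (z : K)
    (c c' : IrrCharacter K → ℤ) (k : ℕ) :
    galW z c k * conj (galW z c' k) =
      ∑ ξ : IrrCharacter K, ∑ ξ' : IrrCharacter K,
        ((c ξ : ℂ) * (c' ξ' : ℂ)) *
          (((ξ : K → ℂ) (z ^ k) / (ξ : K → ℂ) 1) *
            conj ((ξ' : K → ℂ) (z ^ k) / (ξ' : K → ℂ) 1)) := by
  rw [conj_galW]
  unfold galW
  rw [Finset.sum_mul_sum]
  refine Finset.sum_congr rfl fun ξ _ => Finset.sum_congr rfl fun ξ' _ => ?_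
  ring

theorem pow_mul_contrib_eq_formH {G : Type*} [Group G] [Fintype G] {p : ℕ} {M : Ideal AlgInt}
    [Fintype (IrrCharacter G)] (hM : IsPModular p M)
    (H : Subgroup G) [Fintype H] [Fintype (IrrCharacter H)] (ξ₁ : IrrCharacter H)
    [DecidablePred (· ∈ blockOf M (ξ₁ : H → ℂ))] {z : H} (hzc : z ∈ Subgroup.center H) (d : ℕ)
    (D₁ D₂ : IrrCharacter H → ℤ) (α β γ : ℤ)
    (hG : ∀ ξ ξ' : IrrCharacter H, ξ ∈ blockOf M (ξ₁ : H → ℂ) → ξ' ∈ blockOf M (ξ₁ : H → ℂ) →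
      (p : ℂ) ^ d * pin p (ξ : H → ℂ) (ξ' : H → ℂ) =
        ((α * D₁ ξ * D₁ ξ' + β * (D₁ ξ * D₂ ξ' + D₂ ξ * D₁ ξ') + γ * D₂ ξ * D₂ ξ' : ℤ) : ℂ))
    (χ ψ : IrrCharacter G) (k : ℕ) :
    (p : ℂ) ^ d * contrib p H (blockOf M (ξ₁ : H → ℂ)) (z ^ k) (χ : G → ℂ) (ψ : G → ℂ) =
      formH α β γ
        (galW z (cfD H (blockOf M (ξ₁ : H → ℂ)) D₁ χ) k) (galW z (cfD H (blockOf M (ξ₁ : H → ℂ)) D₂ χ) k)
        (galW z (cfD H (blockOf M (ξ₁ : H → ℂ)) D₁ ψ) k) (galW z (cfD H (blockOf M (ξ₁ : H → ℂ)) D₂ ψ) k) := by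
  classical
  have hzk : z ^ k ∈ Subgroup.center H := Subgroup.pow_mem _ hzc k
  rw [contrib_eq_sum H (blockOf M (ξ₁ : H → ℂ)) (z ^ k) hM hzk ξ₁ rfl χ ψ]
  unfold formH
  rw [galW_mul_conj_galW, galW_mul_conj_galW, galW_mul_conj_galW, galW_mul_conj_galW]
  simp only [Finset.mul_sum, ← Finset.sum_add_distrib]
  refine Finset.sum_congr rfl fun ξ _ => Finset.sum_congr rfl fun ξ' _ => ?_
  by_cases h : ξ ∈ blockOf M (ξ₁ : H → ℂ) ∧ ξ' ∈ blockOf M (ξ₁ : H → ℂ)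
  · rw [if_pos h]
    have h1 := hG ξ ξ' h.1 h.2
    unfold cfD lamW
    rw [if_pos h.1, if_pos h.2, if_pos h.1, if_pos h.2]
    rw [resNat_spec H χ ξ, resNat_spec H ψ ξ']
    have h2 : (p : ℂ) ^ d * ((resNat H χ ξ : ℂ) * (resNat H ψ ξ' : ℂ) *
        (((ξ : H → ℂ) (z ^ k) / (ξ : H → ℂ) 1) * conj ((ξ' : H → ℂ) (z ^ k) / (ξ' : H → ℂ) 1)) *
        pin p (ξ : H → ℂ) (ξ' : H → ℂ)) =
        (resNat H χ ξ : ℂ) * (resNat H ψ ξ' : ℂ) *
        (((ξ : H → ℂ) (z ^ k) / (ξ : H → ℂ) 1) * conj ((ξ' : H → ℂ) (z ^ k) / (ξ' : H → ℂ) 1)) *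
        ((p : ℂ) ^ d * pin p (ξ : H → ℂ) (ξ' : H → ℂ)) := by ring
    rw [h2, h1]
    push_cast
    ring
  · rw [if_neg h, mul_zero]
    unfold cfD
    rcases not_and_or.mp h with h' | h'
    · rw [if_neg h', if_neg h']
      push_cast
      ring
    · rw [if_neg h', if_neg h']
      push_cast
      ring

end Cfsg.Agent.Lib.H24.KB
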