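import Mathlib
import Cfsg.Agent.Lib.H23.CliffordCorr
import Cfsg.Agent.Lib.H23.Ito
import Cfsg.Agent.Lib.H23.DegreeDvd
import Cfsg.Agent.Lib.L0.CharIndChar
import Cfsg.Agent.Lib.L0.CharDegree
import Cfsg.Agent.Lib.L0.CharOps

/-!
# S4591 piece B3 (helper24 twin): a `p'`-degree irreducible character has a `P`-invariant irreducible constituent on
a normal subgroup (Clifford correspondence + Sylow)
-/

set_option autoImplicit false
set_option linter.unusedSectionVars false

namespace Cfsg.Agent.Lib.H24.KPP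

open Cfsg Cfsg.Agent.Lib.L0 Cfsg.Agent.Lib.H23

variable {G : Type*} [Group G] [Fintype G] (p : ℕ) [hp : Fact p.Prime]

/-- a `p`-subgroup is conjugate into any subgroup of index prime to `p` -/
theorem exists_conj_le_of_not_dvd_index (P : Subgroup G) (hP : IsPGroup p P) (T : Subgroup G)
    (hT : ¬ p ∣ T.index) : ∃ g : G, ∀ s ∈ P, g⁻¹ * s * g ∈ T := by
  have hcard : ¬ p ∣ Nat.card (G ⧸ T) := hT
  obtain ⟨x, hx⟩ := hP.nonempty_fixed_point_of_prime_not_dvd_card (G ⧸ T) hcard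
  obtain ⟨g, rfl⟩ := QuotientGroup.mk_surjective x
  refine ⟨g, fun s hs => ?_⟩
  have h1 : (⟨s, hs⟩ : P) • (g : G ⧸ T) = (g : G ⧸ T) := hx ⟨s, hs⟩
  have h2 : ((s * g : G) : G ⧸ T) = (g : G ⧸ T) := h1
  have h3 := QuotientGroup.eq.mp h2
  -- `(s g)⁻¹ g ∈ T`
  have h4 : g⁻¹ * s⁻¹ * g ∈ T := by
    have : (s * g)⁻¹ * g = g⁻¹ * s⁻¹ * g := by group
    rwa [this] at h3
  have h5 := T.inv_mem h4
  have : (g⁻¹ * s⁻¹ * g)⁻¹ = g⁻¹ * s * g := by group
  rwa [this] at h5

/-- B3 (Clifford): `χ ∈ Irr(G)` of `p'`-degree has a `P`-invariant irreducible constituent on `L ⊴ G`. -/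
theorem exists_invariant_constituent (P : Sylow p G) (L : Subgroup G) [hLn : L.Normal] [Fintype L]
    (χ : G → ℂ) (hχ : IsIrrCharacter G χ) (hdeg : ¬ p ∣ charDegree χ) :
    ∃ θ : IrrCharacter L, classInner (fun n : L => χ n) (θ : L → ℂ) ≠ 0 ∧
      ∀ s ∈ (P : Subgroup G), ∀ g g' : L, (g' : G) = s * g * s⁻¹ →
        (θ : L → ℂ) g' = (θ : L → ℂ) g := by
  classical
  have hχc : IsCharacter G χ := isCharacter_of_irr hχ
  have hχcl : IsClassFunction G χ := isClassFunction_of_isCharacter hχc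
  have hχ1 : χ 1 = (charDegree χ : ℂ) := apply_one_eq_charDegree χ hχ
  have hd0 : charDegree χ ≠ 0 := by
    intro h0
    apply hdeg
    rw [h0]
    exact dvd_zero p
  -- a constituent of `χ_L`
  have hres : IsCharacter L (fun n : L => χ n) := isCharacter_restrict L hχc
  have hres1 : (fun n : L => χ n) 1 ≠ 0 := by
    show χ ((1 : L) : G) ≠ 0
    rw [Subgroup.coe_one, hχ1]
    exact_mod_cast hd0
  obtain ⟨θ₀, hθ₀, hcon₀⟩ := exists_irr_constituent hres hres1
  -- its inertia group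
  set T : Subgroup G := inertia L θ₀ with hTdef
  have : Fintype T := Fintype.ofFinite _
  have hLT : L ≤ T := le_inertia L (isClassFunction_of_isCharacter (isCharacter_of_irr hθ₀))
  obtain ⟨ψ, hψ, hind, -⟩ := clifford_correspondence L T hLT θ₀ hθ₀ (fun g => mem_inertia L θ₀ g) χ hχ hcon₀
  -- `|G : T|` divides `χ 1`
  have hψ1 : ψ 1 = (charDegree ψ : ℂ) := apply_one_eq_charDegree ψ hψ
  have hdegeq : charDegree χ = T.index * charDegree ψ := by
    have h1 : χ 1 = (T.index : ℂ) * ψ 1 := by rw [← hind, indFun_apply_one]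
    rw [hχ1, hψ1] at h1
    exact_mod_cast h1
  have hTidx : ¬ p ∣ T.index := fun h => hdeg (by rw [hdegeq]; exact Dvd.dvd.mul_right h _)
  obtain ⟨g, hg⟩ := exists_conj_le_of_not_dvd_index p (P : Subgroup G) P.isPGroup' T hTidx
  -- the conjugation automorphism `n ↦ g⁻¹ n g` of `L`
  let c : L ≃* L :=
    { toFun := fun n => ⟨g⁻¹ * n * g, by
        have := hLn.conj_mem (n : G) n.2 g⁻¹
        rwa [inv_inv] at this⟩
      invFun := fun n => ⟨g * n * g⁻¹, hLn.conj_mem (n : G) n.2 g⟩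
      left_inv := fun n => by
        apply Subtype.ext
        show g * (g⁻¹ * (n : G) * g) * g⁻¹ = n
        group
      right_inv := fun n => by
        apply Subtype.ext
        show g⁻¹ * (g * (n : G) * g⁻¹) * g = n
        group
      map_mul' := fun n n' => by
        apply Subtype.ext
        show g⁻¹ * ((n : G) * (n' : G)) * g = (g⁻¹ * (n : G) * g) * (g⁻¹ * (n' : G) * g)
        group }
  have hθirr : IsIrrCharacter L (θ₀ ∘ c) :=
    isIrrCharacter_comp_of_surjective c.toMonoidHom c.surjective hθ₀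
  refine ⟨⟨θ₀ ∘ c, hθirr⟩, ?_, ?_⟩
  · -- still a constituent
    have hχc' : (fun n : L => χ n) = (fun n : L => χ n) ∘ c := by
      funext n
      show χ n = χ (g⁻¹ * (n : G) * g)
      have := hχcl (n : G) g⁻¹
      rw [inv_inv] at this
      exact this.symm
    show classInner (fun n : L => χ n) (θ₀ ∘ c) ≠ 0
    rw [hχc', classInner_comp_equiv c]
    exact hcon₀
  · intro s hs n n' hn'
    show θ₀ (c n') = θ₀ (c n)
    have hsT := hg s hs
    have h1 := (mem_inertia L θ₀ (g⁻¹ * s * g)).mp hsT (c n)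
    rw [← h1]
    congr 1
    apply Subtype.ext
    show g⁻¹ * (n' : G) * g = (g⁻¹ * s * g) * (g⁻¹ * (n : G) * g) * (g⁻¹ * s * g)⁻¹
    rw [hn']
    group

end Cfsg.Agent.Lib.H24.KPP
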