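import Mathlib
import Cfsg.Agent.Lib.H24.CharKer
import Cfsg.Agent.Lib.H23.CliffordCorr
import Cfsg.Agent.Lib.H23.DegreeDvd
import Cfsg.Agent.Lib.L0.CharOps
import Cfsg.Agent.Lib.L0.CharDecomp

/-!
# S4591 piece C2 (helper24 twin): a `p'`-degree irreducible character has nonzero sum over any subgroup of `P'`

`χ_P` has a linear constituent (the degrees of `Irr(P)` are powers of `p`), which is trivial on `P' ⊇ R`; every other
constituent `μ` has `Σ_{r ∈ R} μ(r) = |R| [μ_R, 1_R] ≥ 0`.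
-/

set_option autoImplicit false
set_option linter.unusedSectionVars false

namespace Cfsg.Agent.Lib.H24.KPP

open Cfsg Cfsg.Agent.Lib.L0 Cfsg.Agent.Lib.H23 Cfsg.Agent.Lib.H24
open scoped ComplexConjugate commutatorElement

variable {G : Type*} [Group G] [Fintype G] (p : ℕ) [hp : Fact p.Prime]

section general

variable {Q : Subgroup G} [Fintype Q] (R : Subgroup G) [Fintype R] (hRQ : R ≤ Q)

/-- the sum of a character of `Q` over a subgroup `R ≤ Q` is a natural multiple of `|R|` -/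
theorem sum_char_eq_card_mul (μ : Q → ℂ) (hμ : IsCharacter Q μ) :
    ∃ n : ℕ, ∑ r : R, μ ⟨(r : G), hRQ r.2⟩ = (Nat.card R : ℂ) * n := by
  obtain ⟨n, hn⟩ := classInner_char_irr_nat (isCharacter_resTo R Q hRQ hμ) (isIrrCharacter_one (G := R))
  refine ⟨n, ?_⟩
  have hR : (Nat.card R : ℂ) ≠ 0 := by exact_mod_cast (Nat.card_pos (α := R)).ne'
  unfold classInner at hn
  simp only [map_one, mul_one] at hn
  rw [← hn, ← mul_assoc, mul_inv_cancel₀ hR, one_mul]
  rfl

/-- the sum of a list of irreducible characters of `Q` over `R ≤ Q`: a natural multiple of `|R|`, positive if some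
member of the list is identically `1` on `R` -/
theorem sum_list_eq_card_mul (l : List (Q → ℂ)) (hl : ∀ ψ ∈ l, IsIrrCharacter Q ψ) :
    ∃ n : ℕ, ∑ r : R, l.sum ⟨(r : G), hRQ r.2⟩ = (Nat.card R : ℂ) * n ∧
      ((∃ ψ ∈ l, ∀ r : R, ψ ⟨(r : G), hRQ r.2⟩ = 1) → 1 ≤ n) := by
  induction l with
  | nil =>
    refine ⟨0, ?_, ?_⟩
    · simp
    · rintro ⟨ψ, hψ, -⟩
      simp at hψ
  | cons a l ih =>
    obtain ⟨n, hn, hn1⟩ := ih (fun ψ hψ => hl ψ (List.mem_cons_of_mem a hψ))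
    obtain ⟨k, hk⟩ := sum_char_eq_card_mul R hRQ a (isCharacter_of_irr (hl a List.mem_cons_self))
    refine ⟨k + n, ?_, ?_⟩
    · simp only [List.sum_cons, Pi.add_apply]
      rw [Finset.sum_add_distrib, hk, hn]
      push_cast
      ring
    · rintro ⟨ψ, hψ, hψ1⟩
      rcases List.mem_cons.mp hψ with rfl | hψ'
      · have hR : (Nat.card R : ℂ) ≠ 0 := by exact_mod_cast (Nat.card_pos (α := R)).ne'
        have h2 : ∑ r : R, ψ ⟨(r : G), hRQ r.2⟩ = (Nat.card R : ℂ) := by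
          rw [Finset.sum_congr rfl (fun r _ => hψ1 r), Finset.sum_const, Finset.card_univ, nsmul_eq_mul, mul_one,
            Nat.card_eq_fintype_card]
        rw [h2] at hk
        have h3 : (k : ℂ) = 1 := by
          have := mul_left_cancel₀ hR (show (Nat.card R : ℂ) * 1 = (Nat.card R : ℂ) * k by rw [mul_one]; exact hk)
          exact this.symm
        have : k = 1 := by exact_mod_cast h3
        omega
      · have := hn1 ⟨ψ, hψ', hψ1⟩
        omega

/-- a list of irreducible characters whose degrees are `1` or multiples of `p`, with total degree prime to `p`, has a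
linear member -/
theorem exists_linear_of_list (l : List (Q → ℂ)) (hl : ∀ ψ ∈ l, IsIrrCharacter Q ψ)
    (hdiv : ∀ ψ ∈ l, p ∣ charDegree ψ ∨ ψ 1 = 1) (d : ℕ) (hd : l.sum 1 = d) (hpd : ¬ p ∣ d) :
    ∃ ψ ∈ l, ψ 1 = 1 := by
  by_contra hne
  push Not at hne
  apply hpd
  have hall : ∀ ψ ∈ l, p ∣ charDegree ψ := fun ψ hψ => (hdiv ψ hψ).resolve_right (hne ψ hψ)
  have hsum : l.sum 1 = (((l.map (fun ψ => charDegree ψ)).sum : ℕ) : ℂ) := by
    clear hd hdiv hne hall
    induction l with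
    | nil => simp
    | cons a l ih =>
      simp only [List.sum_cons, Pi.add_apply, List.map_cons]
      rw [ih (fun ψ hψ => hl ψ (List.mem_cons_of_mem a hψ)), apply_one_eq_charDegree a (hl a List.mem_cons_self)]
      push_cast
      rfl
  have hd' : d = (l.map (fun ψ => charDegree ψ)).sum := by
    rw [hsum] at hd
    exact_mod_cast hd.symm
  rw [hd']
  apply List.dvd_sum
  intro x hx
  obtain ⟨ψ, hψ, rfl⟩ := List.mem_map.mp hx
  exact hall ψ hψ

end general

/-- C2: a `p'`-degree irreducible character has nonzero sum over any subgroup of `P'`. -/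
theorem sum_ne_zero_of_le_commutator (P : Sylow p G) (χ : G → ℂ) (hχ : IsIrrCharacter G χ)
    (hdeg : ¬ p ∣ charDegree χ) (R : Subgroup G) [Fintype R]
    (hR : R ≤ ⁅(P : Subgroup G), (P : Subgroup G)⁆) : ∑ r : R, χ r ≠ 0 := by
  classical
  have : Fintype ↥(P : Subgroup G) := Fintype.ofFinite _
  have hPP : ⁅(P : Subgroup G), (P : Subgroup G)⁆ ≤ (P : Subgroup G) := by
    rw [Subgroup.commutator_le]
    intro g₁ h₁ g₂ h₂
    rw [commutatorElement_def]
    exact (P : Subgroup G).mul_mem ((P : Subgroup G).mul_mem ((P : Subgroup G).mul_mem h₁ h₂)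
      ((P : Subgroup G).inv_mem h₁)) ((P : Subgroup G).inv_mem h₂)
  have hRP : R ≤ (P : Subgroup G) := hR.trans hPP
  have hχc : IsCharacter G χ := isCharacter_of_irr hχ
  have hχ1 : χ 1 = (charDegree χ : ℂ) := apply_one_eq_charDegree χ hχ
  -- decompose `χ_P`
  obtain ⟨l, hl, hsum⟩ := isCharacter_exists_irr_decomp (isCharacter_restrict (P : Subgroup G) hχc)
  -- the degrees are `1` or multiples of `p`
  have hdiv : ∀ ψ ∈ l, p ∣ charDegree ψ ∨ ψ 1 = 1 := by
    intro ψ hψ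
    have h1 := charDegree_dvd_card ψ (hl ψ hψ)
    obtain ⟨k, hk⟩ := IsPGroup.iff_card.mp P.isPGroup'
    rw [hk] at h1
    obtain ⟨j, -, hj⟩ := (Nat.dvd_prime_pow hp.out).mp h1
    rcases Nat.eq_zero_or_pos j with rfl | hjpos
    · right
      rw [apply_one_eq_charDegree ψ (hl ψ hψ), hj, pow_zero, Nat.cast_one]
    · left
      rw [hj]
      exact dvd_pow_self p hjpos.ne'
  have hd : l.sum 1 = (charDegree χ : ℂ) := by
    rw [← hsum]
    show χ ((1 : ↥(P : Subgroup G)) : G) = _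
    rw [Subgroup.coe_one, hχ1]
  obtain ⟨μ₀, hμ₀l, hμ₀1⟩ := exists_linear_of_list p l hl hdiv (charDegree χ) hd hdeg
  -- `μ₀` is trivial on `P'`
  have hμ₀c : IsCharacter ↥(P : Subgroup G) μ₀ := isCharacter_of_irr (hl μ₀ hμ₀l)
  have hker : ⁅(P : Subgroup G), (P : Subgroup G)⁆ ≤ (charKer μ₀ hμ₀c).map (P : Subgroup G).subtype := by
    rw [Subgroup.commutator_le]
    intro g₁ h₁ g₂ h₂
    refine ⟨⁅(⟨g₁, h₁⟩ : ↥(P : Subgroup G)), ⟨g₂, h₂⟩⁆, ?_, rfl⟩
    show μ₀ ⁅(⟨g₁, h₁⟩ : ↥(P : Subgroup G)), ⟨g₂, h₂⟩⁆ = μ₀ 1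
    rw [commutatorElement_def, linear_commutator hμ₀c hμ₀1, hμ₀1]
  have hμ₀R : ∀ r : R, μ₀ ⟨(r : G), hRP r.2⟩ = 1 := by
    intro r
    obtain ⟨x, hx, hxr⟩ := hker (hR r.2)
    have : x = ⟨(r : G), hRP r.2⟩ := Subtype.ext hxr
    rw [← this, ← hμ₀1]
    exact hx
  obtain ⟨n, hn, hn1⟩ := sum_list_eq_card_mul R hRP l hl
  have hn1' := hn1 ⟨μ₀, hμ₀l, hμ₀R⟩
  have hsumR : ∑ r : R, χ r = ∑ r : R, l.sum ⟨(r : G), hRP r.2⟩ := by
    refine Finset.sum_congr rfl fun r _ => ?_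
    rw [← hsum]
  rw [hsumR, hn]
  have hR0 : (Nat.card R : ℂ) ≠ 0 := by exact_mod_cast (Nat.card_pos (α := R)).ne'
  have hn0 : (n : ℂ) ≠ 0 := by
    have : n ≠ 0 := by omega
    exact_mod_cast this
  exact mul_ne_zero hR0 hn0

end Cfsg.Agent.Lib.H24.KPP
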