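import Mathlib
import Cfsg.Agent.Lib.H24.CoprimeCount
import Cfsg.Agent.Lib.H24.CoprimeAbove
import Cfsg.Agent.Lib.H23.Ito
import Cfsg.Agent.Lib.H23.DegreeDvd
import Cfsg.Agent.Lib.L0.CharIndChar
import Cfsg.Agent.Lib.L0.CharDegree
import Cfsg.Agent.Lib.H14.KPPPPC

/-!
# S4591 piece F2 (helper24 twin): a `P`-invariant `θ ∈ Irr(L)`, `L ⊴ G` a `p'`-group, lies under some `χ ∈ Irr(G)` of
`p'`-degree (extension to `L P` + induction + Frobenius reciprocity)
-/

set_option autoImplicit false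
set_option linter.unusedSectionVars false

namespace Cfsg.Agent.Lib.H24.KPP

open Cfsg Cfsg.Agent.Lib.L0 Cfsg.Agent.Lib.H23 Cfsg.Agent.Lib.H24
open scoped ComplexConjugate

variable {G : Type*} [Group G] [Fintype G] (p : ℕ) [hp : Fact p.Prime]

/-- F2 (extension + induction): a `P`-invariant `θ ∈ Irr(L)`, `L ⊴ G` a `p'`-group, lies under some
`χ ∈ Irr(G)` of `p'`-degree. -/
theorem exists_pprime_over_invariant (P : Sylow p G) (L : Subgroup G) [hLn : L.Normal] [Fintype L]
    (hc : (Nat.card L).Coprime p) (θ : IrrCharacter L)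
    (hinv : ∀ s ∈ (P : Subgroup G), ∀ g g' : L, (g' : G) = s * g * s⁻¹ →
      (θ : L → ℂ) g' = (θ : L → ℂ) g) :
    ∃ χ : IrrCharacter G, ¬ p ∣ charDegree (χ : G → ℂ) ∧
      classInner (fun n : L => (χ : G → ℂ) n) (θ : L → ℂ) ≠ 0 := by
  classical
  set H : Subgroup G := L ⊔ (P : Subgroup G) with hHdef
  have hLH : L ≤ H := le_sup_left
  have hPH : (P : Subgroup G) ≤ H := le_sup_right
  have : Fintype H := Fintype.ofFinite _
  have : Fintype (L.subgroupOf H) := Fintype.ofFinite _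
  have hKn : (L.subgroupOf H).Normal := Subgroup.normal_subgroupOf
  let e : L.subgroupOf H ≃* L := Subgroup.subgroupOfEquivOfLe hLH
  -- the inertia group of `θ` contains `H`
  have hθcl : IsClassFunction L (θ : L → ℂ) := isClassFunction_of_isCharacter (isCharacter_of_irr θ.2)
  have hHT : H ≤ inertia L (θ : L → ℂ) := by
    apply sup_le
    · exact le_inertia L hθcl
    · intro s hs
      rw [mem_inertia]
      intro n
      exact hinv s hs n _ rfl
  -- the transported character
  have hθ' : IsIrrCharacter (L.subgroupOf H) ((θ : L → ℂ) ∘ e) :=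
    isIrrCharacter_comp_of_surjective e.toMonoidHom e.surjective θ.2
  have hinv' : ∀ (g : H) (n : L.subgroupOf H),
      ((θ : L → ℂ) ∘ e) ⟨g * n * g⁻¹, hKn.conj_mem (n : H) n.2 g⟩ = ((θ : L → ℂ) ∘ e) n := by
    intro g n
    have h1 := (mem_inertia L (θ : L → ℂ) (g : G)).mp (hHT g.2) (e n)
    show (θ : L → ℂ) (e ⟨g * n * g⁻¹, _⟩) = (θ : L → ℂ) (e n)
    rw [← h1]
    congr 1
  -- the Hall property
  have hcardK : Nat.card (L.subgroupOf H) = Nat.card L := Nat.card_congr e.toEquiv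
  have hidx : (L.subgroupOf H).index ∣ Nat.card (P : Subgroup G) := by
    have h1 : (L.subgroupOf H).index = L.relIndex H := rfl
    rw [h1, hHdef, Subgroup.relIndex_sup_left]
    exact Subgroup.relIndex_dvd_card L (P : Subgroup G)
  have hcop : (Nat.card (L.subgroupOf H)).Coprime (L.subgroupOf H).index := by
    rw [hcardK]
    obtain ⟨k, hk⟩ := IsPGroup.iff_card.mp P.isPGroup'
    rw [hk] at hidx
    exact Nat.Coprime.coprime_dvd_right hidx (Nat.Coprime.pow_right k hc)
  obtain ⟨η, hη, hηK⟩ := exists_extension_of_hall (L.subgroupOf H) hcop ((θ : L → ℂ) ∘ e) hθ' hinv'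
  -- induce
  have hΨ : IsCharacter G (indFun H η) := isCharacter_indFun H (isCharacter_of_irr hη)
  have hθ1 : (θ : L → ℂ) 1 = (charDegree (θ : L → ℂ) : ℂ) := apply_one_eq_charDegree _ θ.2
  have hη1 : η 1 = (charDegree (θ : L → ℂ) : ℂ) := by
    have := hηK 1
    rw [Subgroup.coe_one] at this
    rw [this]
    show (θ : L → ℂ) (e 1) = _
    rw [map_one, hθ1]
  have hΨ1 : indFun H η 1 = ((H.index * charDegree (θ : L → ℂ) : ℕ) : ℂ) := by
    rw [indFun_apply_one, hη1]
    push_cast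
    rfl
  have hpd : ¬ p ∣ H.index * charDegree (θ : L → ℂ) := by
    intro hdvd
    rcases (Nat.Prime.dvd_mul hp.out).mp hdvd with h | h
    · exact P.not_dvd_index (dvd_trans h (Subgroup.index_dvd_of_le hPH))
    · have h2 : p ∣ Nat.card L := dvd_trans h (charDegree_dvd_card _ θ.2)
      have h3 := Nat.Coprime.eq_one_of_dvd hc.symm h2
      exact hp.out.one_lt.ne' h3
  obtain ⟨χ, hχdeg, hχcon⟩ := Cfsg.Agent.Lib.H14.KPP.exists_pprime_constituent p (indFun H η) hΨ _ hΨ1 hpd
  refine ⟨χ, hχdeg, ?_⟩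
  have hχcl : IsClassFunction G (χ : G → ℂ) := isClassFunction_of_isCharacter (isCharacter_of_irr χ.2)
  rw [frobenius_reciprocity H η _ hχcl] at hχcon
  have h1 : classInner (fun m : H => (χ : G → ℂ) m) η ≠ 0 := by
    rw [← classInner_conj_symm]
    intro h0
    apply hχcon
    have := congrArg conj h0
    rwa [Complex.conj_conj, map_zero] at this
  have h2 : classInner (fun n : L.subgroupOf H => η n) ((θ : L → ℂ) ∘ (Subgroup.subgroupOfEquivOfLe hLH)) ≠ 0 := by
    have : (fun n : L.subgroupOf H => η n) = (θ : L → ℂ) ∘ e := funext hηK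
    rw [this, irr_classInner_self hθ']
    exact one_ne_zero
  exact constituent_trans L H hLH (χ : G → ℂ) (isCharacter_of_irr χ.2) η hη (θ : L → ℂ) θ.2 h1 h2

end Cfsg.Agent.Lib.H24.KPP
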