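import Mathlib
import Cfsg.Agent.Lib.H2.KRDEFS
import Cfsg.Agent.Lib.L0.BlockRankTrace
import Cfsg.Agent.Lib.L0.SectionSum
import Cfsg.Agent.Lib.H23.BlockEquiv
import Cfsg.Agent.S4511
import Cfsg.Agent.Lib.H24.KRK1

/-!
# S4651, piece K3 (helper24): the contribution of the section of a `p`-element

For a union of blocks `U` of `K`, a `p`-element `x` and `C = C_K(x)`:
`∑_{ζ ∈ U} secSum p |ζ|² x = |C| · l(pull M U C)`.
-/

set_option autoImplicit false

namespace Cfsg.Agent.Lib.H24.KR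

open Cfsg Cfsg.Agent.Lib.H2.KR Cfsg.Agent.Lib.H23 Cfsg.Agent.Lib.L0.BlockRankTrace
  Cfsg.Agent.Lib.L0.SectionSum Cfsg.Agent.Lib.L0.BlockParseval
open scoped Classical ComplexConjugate

variable {K : Type*} [Group K] [Fintype K] {p : ℕ} {M : Ideal AlgInt}

/-- A sum over a union of blocks, block by block. -/
theorem sum_closed_eq_sum_blocks [hPr : M.IsPrime] [Fintype (IrrCharacter K)]
    (U : Set (IrrCharacter K)) (hU : ∀ ζ ∈ U, blockOf M (ζ : K → ℂ) ⊆ U)
    (F : IrrCharacter K → ℂ) :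
    ∑ ζ ∈ Finset.univ.filter (· ∈ U), F ζ =
      ∑ β ∈ blocks M K,
        if β ⊆ U then ∑ ζ : IrrCharacter K, (if ζ ∈ β then F ζ else 0) else 0 := by
  have h1 : ∀ β ∈ blocks M K,
      (if β ⊆ U then ∑ ζ : IrrCharacter K, (if ζ ∈ β then F ζ else 0) else 0) =
        ∑ ζ : IrrCharacter K, (if β ⊆ U ∧ ζ ∈ β then F ζ else 0) := by
    intro β _
    by_cases h : β ⊆ U
    · rw [if_pos h]
      refine Finset.sum_congr rfl fun ζ _ => ?_
      by_cases hζ : ζ ∈ β
      · rw [if_pos hζ, if_pos ⟨h, hζ⟩]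
      · rw [if_neg hζ, if_neg (fun h' => hζ h'.2)]
    · rw [if_neg h]
      symm
      refine Finset.sum_eq_zero fun ζ _ => ?_
      rw [if_neg]
      exact fun h' => h h'.1
  rw [Finset.sum_congr rfl h1, Finset.sum_comm, Finset.sum_filter]
  refine Finset.sum_congr rfl fun ζ _ => ?_
  rw [Finset.sum_eq_single (blockOf M (ζ : K → ℂ))]
  · by_cases hζ : ζ ∈ U
    · rw [if_pos hζ, if_pos ⟨hU ζ hζ, mem_blockOf_self ζ⟩]
    · rw [if_neg hζ, if_neg]
      intro h
      exact hζ (h.1 (mem_blockOf_self ζ))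
  · intro β hβ hne
    rw [if_neg]
    rintro ⟨_, hmem⟩
    apply hne
    obtain ⟨ξ, rfl⟩ := mem_blocks.1 hβ
    exact (blockOf_eq_of_mem hmem).symm
  · intro h
    exact absurd (mem_blocks.2 ⟨ζ, rfl⟩) h

omit [Fintype K] in
/-- The pulled-back set is a union of blocks. -/
theorem pull_closed [hPr : M.IsPrime] (U : Set (IrrCharacter K)) (C : Subgroup K) [Fintype C] :
    ∀ ψ ∈ pull M U C, blockOf M (ψ : C → ℂ) ⊆ pull M U C := by
  rintro ψ ⟨b', β, hψ, hind, hβ⟩ ψ' hψ'
  refine ⟨b', β, ?_, hind, hβ⟩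
  obtain ⟨ξ, rfl⟩ := hind.1
  rw [← blockOf_eq_of_mem hψ]
  exact hψ'

/-- (K3 PX) the contribution of the section of the `p`-element `x`. -/
theorem sum_secSum_eq_card_mul_rank (hM : IsPModular p M) [Fintype (IrrCharacter K)]
    (U : Set (IrrCharacter K)) (hU : ∀ ζ ∈ U, blockOf M (ζ : K → ℂ) ⊆ U)
    {x : K} (hx : ∃ k : ℕ, orderOf x = p ^ k) (C : Subgroup K)
    (hC : C = Subgroup.centralizer ({x} : Set K)) :
    ∑ ζ ∈ Finset.univ.filter (· ∈ U),
        secSum p (fun g => conj ((ζ : K → ℂ) g) * (ζ : K → ℂ) g) x =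
      (Nat.card C : ℂ) * (blockRank p (pull M U C) : ℂ) := by
  subst hC
  have hPr := isPrime_of_isPModular hM
  have : Fact p.Prime := ⟨hM.1⟩
  haveI : Fintype (Subgroup.centralizer ({x} : Set K)) := Fintype.ofFinite _
  haveI : Fintype (IrrCharacter (Subgroup.centralizer ({x} : Set K))) := Fintype.ofFinite _
  have h1 : ∀ ζ : IrrCharacter K,
      secSum p (fun g => conj ((ζ : K → ℂ) g) * (ζ : K → ℂ) g) x =
        ∑ s : Subgroup.centralizer ({x} : Set K), (if p ∣ orderOf s then 0 else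
          conj ((ζ : K → ℂ) (x * (s : K))) * (ζ : K → ℂ) (x * (s : K))) :=
    fun ζ => secSum_eq _ hx
  rw [Finset.sum_congr rfl fun ζ _ => h1 ζ, sum_closed_eq_sum_blocks U hU]
  have h2 : ∀ β ∈ blocks M K,
      (if β ⊆ U then ∑ ζ : IrrCharacter K, (if ζ ∈ β then
          ∑ s : Subgroup.centralizer ({x} : Set K), (if p ∣ orderOf s then 0 else
            conj ((ζ : K → ℂ) (x * (s : K))) * (ζ : K → ℂ) (x * (s : K))) else 0) else 0) =
        ∑ b ∈ blocks M (Subgroup.centralizer ({x} : Set K)),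
          (if β ⊆ U ∧ IsInducedBlock M (Subgroup.centralizer ({x} : Set K)) b β then
            (Nat.card (Subgroup.centralizer ({x} : Set K)) : ℂ) * (blockRank p b : ℂ) else 0) := by
    intro β hβ
    by_cases h : β ⊆ U
    · rw [if_pos h, Cfsg.Agent.S4511.per_x hM hx (mem_blocks.1 hβ), Finset.mul_sum]
      refine Finset.sum_congr rfl fun b _ => ?_
      by_cases hb : IsInducedBlock M (Subgroup.centralizer ({x} : Set K)) b β
      · rw [if_pos hb, if_pos ⟨h, hb⟩]
      · rw [if_neg hb, if_neg (fun h' => hb h'.2), mul_zero]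
    · rw [if_neg h]
      symm
      refine Finset.sum_eq_zero fun b _ => ?_
      rw [if_neg]
      exact fun h' => h h'.1
  rw [Finset.sum_congr rfl h2, Finset.sum_comm]
  have hcl := pull_closed (M := M) U (Subgroup.centralizer ({x} : Set K))
  rw [← sum_inner0_eq_blockRank_of_closed hM (pull M U (Subgroup.centralizer ({x} : Set K))) hcl,
    sum_closed_eq_sum_blocks _ hcl, Finset.mul_sum]
  refine Finset.sum_congr rfl fun b hb => ?_
  obtain ⟨ξ₀, rfl⟩ := mem_blocks.1 hb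
  have hrank : ∑ ψ : IrrCharacter (Subgroup.centralizer ({x} : Set K)),
      (if ψ ∈ blockOf M (ξ₀ : Subgroup.centralizer ({x} : Set K) → ℂ) then
        inner0 p (ψ : Subgroup.centralizer ({x} : Set K) → ℂ)
          (ψ : Subgroup.centralizer ({x} : Set K) → ℂ) else 0) =
      (blockRank p (blockOf M (ξ₀ : Subgroup.centralizer ({x} : Set K) → ℂ)) : ℂ) := by
    rw [← Finset.sum_filter]
    exact sum_inner0_eq_blockRank hM ξ₀
  by_cases hsub : blockOf M (ξ₀ : Subgroup.centralizer ({x} : Set K) → ℂ) ⊆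
      pull M U (Subgroup.centralizer ({x} : Set K))
  · rw [if_pos hsub, hrank]
    obtain ⟨b'', β₀, hξ₀, hind, hβ₀⟩ := hsub (mem_blockOf_self ξ₀)
    have hb'' : b'' = blockOf M (ξ₀ : Subgroup.centralizer ({x} : Set K) → ℂ) := by
      obtain ⟨ξ, rfl⟩ := hind.1
      exact (blockOf_eq_of_mem hξ₀).symm
    rw [hb''] at hind
    rw [Finset.sum_eq_single β₀]
    · rw [if_pos ⟨hβ₀, hind⟩]
    · intro β _ hne
      rw [if_neg]
      rintro ⟨_, hind'⟩
      exact hne (isInducedBlock_unique _ hind' hind)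
    · intro h
      exact absurd (mem_blocks.2 hind.2.1) h
  · rw [if_neg hsub, mul_zero]
    refine Finset.sum_eq_zero fun β _ => ?_
    rw [if_neg]
    rintro ⟨hβ, hind⟩
    apply hsub
    intro ψ hψ
    exact ⟨_, β, hψ, hind, hβ⟩

end Cfsg.Agent.Lib.H24.KR
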