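/-
helper24: tools for Mann's lower bound on the order of a `p`-group of given derived length (S4009).
Part A: weights in the lower central series, cyclic top factors, generators of small sections.
-/
import Mathlib
import Cfsg.Agent.Lib.H19.HallComm

set_option autoImplicit false

namespace Cfsg.Agent.Lib.H24.Mann

open Cfsg.Agent.Lib.H19
open scoped commutatorElement

variable {G : Type*} [Group G]

/-- `Gam G j = γ_{j+1}(G)` as an iterated commutator -/
def Gam (G : Type*) [Group G] (j : ℕ) : Subgroup G := iterComm (⊤ : Subgroup G) j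

instance Gam_normal (j : ℕ) : (Gam G j).Normal := by
  unfold Gam; infer_instance

theorem iterComm_add (K : Subgroup G) (a b : ℕ) : iterComm (iterComm K a) b = iterComm K (a + b) := by
  induction b with
  | zero => rfl
  | succ b ih => rw [iterComm_succ, ih, ← Nat.add_assoc, iterComm_succ]

theorem iterComm_Gam (a j : ℕ) : iterComm (Gam G a) j = Gam G (a + j) := iterComm_add _ a j

theorem Gam_succ_le (j : ℕ) : Gam G (j + 1) ≤ Gam G j := by
  unfold Gam
  rw [iterComm_succ]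
  exact Subgroup.commutator_le_left _ _

theorem Gam_antitone {a b : ℕ} (h : a ≤ b) : Gam G b ≤ Gam G a := by
  induction b with
  | zero =>
    have : a = 0 := by omega
    subst this; exact le_rfl
  | succ b ih =>
    rcases Nat.eq_or_lt_of_le h with rfl | h'
    · exact le_rfl
    · exact (Gam_succ_le b).trans (ih (by omega))

/-- P. Hall: `[N, H] ≤ [N, G; v+1]` for `N` normal and `H ≤ γ_{v+1}(G)`. -/
theorem comm_le_iter (N H : Subgroup G) [N.Normal] (v : ℕ) (hH : H ≤ Gam G v) :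
    ⁅N, H⁆ ≤ iterComm N (v + 1) := by
  calc ⁅N, H⁆ ≤ ⁅N, Gam G v⁆ := Subgroup.commutator_mono le_rfl hH
    _ ≤ iterComm N (v + 1) := by
      unfold Gam
      rw [iterComm_top_eq]
      exact commutator_lowerCentralSeries_le v N

/-- `[γ_{a+1}, γ_{b+1}] ≤ γ_{a+b+2}` -/
theorem comm_Gam_le (a b : ℕ) {A B : Subgroup G} (hA : A ≤ Gam G a) (hB : B ≤ Gam G b) :
    ⁅A, B⁆ ≤ Gam G (a + b + 1) := by
  calc ⁅A, B⁆ ≤ ⁅Gam G a, B⁆ := Subgroup.commutator_mono hA le_rfl
    _ ≤ iterComm (Gam G a) (b + 1) := comm_le_iter (Gam G a) B b hB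
    _ = Gam G (a + b + 1) := by rw [iterComm_Gam, Nat.add_assoc]

theorem iterComm_le_Gam {H : Subgroup G} {v : ℕ} (hH : H ≤ Gam G v) (j : ℕ) :
    iterComm H j ≤ Gam G (v + j) := by
  rw [← iterComm_Gam]
  exact iterComm_mono hH j

/-- `[H, A ⊔ B] ≤ [H, A] ⊔ [H, B]` for normal subgroups. -/
theorem comm_sup_le (H A B : Subgroup G) [H.Normal] [A.Normal] [B.Normal] :
    ⁅H, A ⊔ B⁆ ≤ ⁅H, A⁆ ⊔ ⁅H, B⁆ := by
  rw [Subgroup.commutator_comm]
  apply commutator_sup_le_of_le (⁅H, A⁆ ⊔ ⁅H, B⁆)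
  · rw [Subgroup.commutator_comm]; exact le_sup_left
  · rw [Subgroup.commutator_comm]; exact le_sup_right

theorem zpowers_comm_self_le (x : G) (M : Subgroup G) :
    ⁅Subgroup.zpowers x, Subgroup.zpowers x⁆ ≤ M := by
  rw [Subgroup.commutator_le]
  rintro a ⟨i, rfl⟩ b ⟨j, rfl⟩
  have : ⁅x ^ i, x ^ j⁆ = 1 :=
    commutatorElement_eq_one_iff_commute.mpr ((Commute.refl x).zpow_zpow i j)
  rw [this]; exact M.one_mem

/-- the top factor `H / [H,G] H'` is cyclic -/
def IsCycTop (H : Subgroup G) : Prop :=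
  ∃ x ∈ H, H ≤ Subgroup.zpowers x ⊔ (⁅H, (⊤ : Subgroup G)⁆ ⊔ ⁅H, H⁆)

/-- If the top factor is cyclic then `H' ≤ [H, [H,G] H']`. -/
theorem comm_le_of_cycTop (H : Subgroup G) [H.Normal] (hc : IsCycTop H) :
    ⁅H, H⁆ ≤ ⁅H, ⁅H, (⊤ : Subgroup G)⁆ ⊔ ⁅H, H⁆⁆ := by
  obtain ⟨x, hx, hH⟩ := hc
  set L : Subgroup G := ⁅H, (⊤ : Subgroup G)⁆ ⊔ ⁅H, H⁆ with hL
  have hLH : L ≤ H := sup_le (Subgroup.commutator_le_left H ⊤) (Subgroup.commutator_le_left H H)
  have hxH : Subgroup.zpowers x ≤ H := Subgroup.zpowers_le.mpr hx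
  have hM : (⁅H, L⁆).Normal := inferInstance
  have h1 : ⁅L, H⁆ ≤ ⁅H, L⁆ := by rw [Subgroup.commutator_comm]
  have h2 : ⁅Subgroup.zpowers x, H⁆ ≤ ⁅H, L⁆ := by
    calc ⁅Subgroup.zpowers x, H⁆ ≤ ⁅Subgroup.zpowers x, Subgroup.zpowers x ⊔ L⁆ :=
          Subgroup.commutator_mono le_rfl hH
      _ = ⁅Subgroup.zpowers x ⊔ L, Subgroup.zpowers x⁆ := Subgroup.commutator_comm _ _
      _ ≤ ⁅H, L⁆ := by
          apply commutator_sup_le_of_le (⁅H, L⁆)
          · exact zpowers_comm_self_le x _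
          · calc ⁅L, Subgroup.zpowers x⁆ ≤ ⁅L, H⁆ := Subgroup.commutator_mono le_rfl hxH
              _ ≤ ⁅H, L⁆ := h1
  calc ⁅H, H⁆ ≤ ⁅Subgroup.zpowers x ⊔ L, H⁆ := Subgroup.commutator_mono hH le_rfl
    _ ≤ ⁅H, L⁆ := commutator_sup_le_of_le (⁅H, L⁆) h2 h1

section pgroup

variable [Finite G] {p : ℕ} [Fact p.Prime]

theorem relIndex_eq_pow (hG : IsPGroup p G) (A B : Subgroup G) : ∃ b : ℕ, A.relIndex B = p ^ b := by
  have hp := (Fact.out : p.Prime)
  obtain ⟨a, ha⟩ := IsPGroup.iff_card.mp hG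
  have hdvd : A.relIndex B ∣ p ^ a := by
    rw [← ha]
    exact (Subgroup.relIndex_dvd_card A B).trans (Subgroup.card_subgroup_dvd_card B)
  obtain ⟨b, _, hb⟩ := (Nat.dvd_prime_pow hp).mp hdvd
  exact ⟨b, hb⟩

/-- contrapositive of the nilpotent action: if `[A, G; m] ≰ M` then `|A : M| ≥ p^(m+1)`. -/
theorem pow_le_relIndex_of_not_le (hG : IsPGroup p G) (m : ℕ) (A M : Subgroup G) [A.Normal] [M.Normal]
    (hMA : M ≤ A) (h : ¬ iterComm A m ≤ M) : p ^ (m + 1) ≤ M.relIndex A := by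
  have hp := (Fact.out : p.Prime)
  obtain ⟨b, hb⟩ := relIndex_eq_pow hG M A
  rw [hb]
  apply Nat.pow_le_pow_right hp.pos
  by_contra hlt
  push Not at hlt
  apply h
  apply iterComm_le_of_relIndex_le hG m A M hMA
  rw [hb]
  exact Nat.pow_le_pow_right hp.pos (by omega)

/-- a section of order at most `p` is generated by one element -/
theorem exists_gen_of_relIndex_le (hG : IsPGroup p G) (L H : Subgroup G) (hLH : L ≤ H)
    (h : L.relIndex H ≤ p) : ∃ x ∈ H, H ≤ Subgroup.zpowers x ⊔ L := by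
  have hp := (Fact.out : p.Prime)
  by_cases hHL : H ≤ L
  · exact ⟨1, H.one_mem, hHL.trans le_sup_right⟩
  · obtain ⟨x, hxH, hxL⟩ := SetLike.not_le_iff_exists.mp hHL
    refine ⟨x, hxH, ?_⟩
    set S : Subgroup G := Subgroup.zpowers x ⊔ L with hS
    have hLS : L ≤ S := le_sup_right
    have hSH : S ≤ H := sup_le (Subgroup.zpowers_le.mpr hxH) hLH
    have hxS : x ∈ S := (le_sup_left : Subgroup.zpowers x ≤ S) (Subgroup.mem_zpowers x)
    have hmul := Subgroup.relIndex_mul_relIndex L S H hLS hSH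
    obtain ⟨b, hb⟩ := relIndex_eq_pow hG L S
    obtain ⟨c, hc⟩ := relIndex_eq_pow hG S H
    have hb1 : b ≠ 0 := by
      rintro rfl
      rw [pow_zero] at hb
      exact hxL (Subgroup.relIndex_eq_one.mp hb hxS)
    have hc0 : c = 0 := by
      by_contra hc0
      have h1 : p ^ 1 ≤ p ^ b := Nat.pow_le_pow_right hp.pos (by omega)
      have h2 : p ^ 1 ≤ p ^ c := Nat.pow_le_pow_right hp.pos (by omega)
      have h3 : p * p ≤ p ^ b * p ^ c := by
        rw [pow_one] at h1 h2; exact Nat.mul_le_mul h1 h2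
      rw [← hb, ← hc, hmul] at h3
      have : p * p ≤ p := h3.trans h
      have hp2 := hp.two_le
      nlinarith
    rw [hc0, pow_zero] at hc
    exact Subgroup.relIndex_eq_one.mp hc

/-- a section of order at most `p²` is generated by two elements -/
theorem exists_two_gen_of_relIndex_le (hG : IsPGroup p G) (R H : Subgroup G) (hRH : R ≤ H)
    (h : R.relIndex H ≤ p ^ 2) :
    ∃ x ∈ H, ∃ y ∈ H, H ≤ (Subgroup.zpowers x ⊔ Subgroup.zpowers y) ⊔ R := by
  have hp := (Fact.out : p.Prime)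
  by_cases hHR : H ≤ R
  · exact ⟨1, H.one_mem, 1, H.one_mem, hHR.trans le_sup_right⟩
  · obtain ⟨x, hxH, hxR⟩ := SetLike.not_le_iff_exists.mp hHR
    set S : Subgroup G := Subgroup.zpowers x ⊔ R with hS
    have hRS : R ≤ S := le_sup_right
    have hSH : S ≤ H := sup_le (Subgroup.zpowers_le.mpr hxH) hRH
    have hxS : x ∈ S := (le_sup_left : Subgroup.zpowers x ≤ S) (Subgroup.mem_zpowers x)
    have hmul := Subgroup.relIndex_mul_relIndex R S H hRS hSH
    obtain ⟨b, hb⟩ := relIndex_eq_pow hG R S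
    have hb1 : b ≠ 0 := by
      rintro rfl
      rw [pow_zero] at hb
      exact hxR (Subgroup.relIndex_eq_one.mp hb hxS)
    have h1 : p ≤ R.relIndex S := by
      rw [hb]
      calc p = p ^ 1 := (pow_one p).symm
        _ ≤ p ^ b := Nat.pow_le_pow_right hp.pos (by omega)
    have h2 : S.relIndex H ≤ p := by
      have : p * S.relIndex H ≤ p * p := by
        calc p * S.relIndex H ≤ R.relIndex S * S.relIndex H := Nat.mul_le_mul_right _ h1
          _ = R.relIndex H := hmul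
          _ ≤ p ^ 2 := h
          _ = p * p := sq p
      exact Nat.le_of_mul_le_mul_left this hp.pos
    obtain ⟨y, hyH, hy⟩ := exists_gen_of_relIndex_le hG S H hSH h2
    refine ⟨x, hxH, y, hyH, ?_⟩
    calc H ≤ Subgroup.zpowers y ⊔ S := hy
      _ ≤ (Subgroup.zpowers x ⊔ Subgroup.zpowers y) ⊔ R := by
        rw [hS]
        refine sup_le (le_sup_of_le_left le_sup_right) (sup_le (le_sup_of_le_left le_sup_left) le_sup_right)

end pgroup

end Cfsg.Agent.Lib.H24.Mann
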