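/-
helper24: tools for Mann's lower bound (S4009).  Part B: the level lemma.
For `H ⊴ G` (`G` a finite `p`-group), `H ≤ γ_{v+1}(G)`, `H' ≠ 1`:
* `H' ≤ γ_{2v+2}(G)`, and `H' ≤ γ_{2v+3}(G)` if the top factor `H/[H,G]H'` is cyclic;
* `|H : H'| ≥ p^(v+2)`;
* if `|H : H'| = p^(v+2)` then the top factor of `H'` is cyclic.
-/
import Cfsg.Agent.Lib.H24.MannA

set_option autoImplicit false

namespace Cfsg.Agent.Lib.H24.Mann

open Cfsg.Agent.Lib.H19
open scoped commutatorElement

variable {G : Type*} [Group G]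

theorem zpowers_comm_le (Z : Subgroup G) [Z.Normal] (x y : G) (h : ⁅x, y⁆ ∈ Z) :
    ⁅Subgroup.zpowers x, Subgroup.zpowers y⁆ ≤ Z := by
  rw [Subgroup.commutator_le]
  rintro a ⟨i, rfl⟩ b ⟨j, rfl⟩
  have hc : Commute (QuotientGroup.mk' Z x) (QuotientGroup.mk' Z y) := by
    rw [← commutatorElement_eq_one_iff_commute, ← map_commutatorElement]
    exact (QuotientGroup.eq_one_iff _).mpr h
  have h2 : Commute (QuotientGroup.mk' Z (x ^ i)) (QuotientGroup.mk' Z (y ^ j)) := by
    rw [map_zpow, map_zpow]; exact hc.zpow_zpow i j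
  have h3 : QuotientGroup.mk' Z ⁅x ^ i, y ^ j⁆ = 1 := by
    rw [map_commutatorElement]; exact commutatorElement_eq_one_iff_commute.mpr h2
  exact (QuotientGroup.eq_one_iff _).mp h3

/-- If `H = ⟨x, y⟩ R` with `[R, H] ≤ [H', G]` then `H'/[H', G]` is cyclic. -/
theorem cycTop_comm_of_two_gen (H : Subgroup G) [H.Normal] (R : Subgroup G) (hRH : R ≤ H)
    (hR : ⁅R, H⁆ ≤ ⁅⁅H, H⁆, (⊤ : Subgroup G)⁆)
    (x y : G) (hx : x ∈ H) (hy : y ∈ H)
    (hgen : H ≤ (Subgroup.zpowers x ⊔ Subgroup.zpowers y) ⊔ R) :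
    IsCycTop ⁅H, H⁆ := by
  set H' : Subgroup G := ⁅H, H⁆ with hH'
  set K : Subgroup G := ⁅H', (⊤ : Subgroup G)⁆ with hK
  have hKn : K.Normal := inferInstance
  set c : G := ⁅x, y⁆ with hc
  have hcH' : c ∈ H' := Subgroup.commutator_mem_commutator hx hy
  -- the image of `c` is central in `G ⧸ K`
  have hcent : ∀ q : G ⧸ K, Commute (QuotientGroup.mk' K c) q := by
    intro q
    obtain ⟨g, rfl⟩ := QuotientGroup.mk'_surjective K q
    rw [← commutatorElement_eq_one_iff_commute, ← map_commutatorElement]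
    exact (QuotientGroup.eq_one_iff _).mpr
      (Subgroup.commutator_mem_commutator hcH' (Subgroup.mem_top g))
  set Zb : Subgroup (G ⧸ K) := Subgroup.zpowers (QuotientGroup.mk' K c) with hZb
  have hZbn : Zb.Normal := by
    constructor
    intro n hn q
    obtain ⟨k, rfl⟩ := hn
    have : Commute q (QuotientGroup.mk' K c ^ k) := ((hcent q).symm).zpow_right k
    have h2 : q * QuotientGroup.mk' K c ^ k * q⁻¹ = QuotientGroup.mk' K c ^ k := by
      rw [this.eq, mul_inv_cancel_right]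
    rw [h2]
    exact ⟨k, rfl⟩
  set Z : Subgroup G := Zb.comap (QuotientGroup.mk' K) with hZ
  have hZn : Z.Normal := hZbn.comap _
  have hKZ : K ≤ Z := by
    intro k hk
    show QuotientGroup.mk' K k ∈ Zb
    rw [QuotientGroup.mk'_apply, (QuotientGroup.eq_one_iff k).mpr hk]
    exact Zb.one_mem
  have hcZ : c ∈ Z := by
    show QuotientGroup.mk' K c ∈ Zb
    exact Subgroup.mem_zpowers _
  have hcZ' : ⁅y, x⁆ ∈ Z := by
    rw [← commutatorElement_inv]; exact Z.inv_mem hcZ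
  set X : Subgroup G := Subgroup.zpowers x ⊔ Subgroup.zpowers y with hX
  have hXH : X ≤ H := sup_le (Subgroup.zpowers_le.mpr hx) (Subgroup.zpowers_le.mpr hy)
  have hRHZ : ⁅R, H⁆ ≤ Z := hR.trans hKZ
  -- `[X, X] ≤ Z`
  have hXX : ⁅X, X⁆ ≤ Z := by
    apply commutator_sup_le_of_le Z
    · rw [Subgroup.commutator_comm]
      apply commutator_sup_le_of_le Z
      · exact zpowers_comm_self_le x Z
      · exact zpowers_comm_le Z y x hcZ'
    · rw [Subgroup.commutator_comm]
      apply commutator_sup_le_of_le Z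
      · exact zpowers_comm_le Z x y hcZ
      · exact zpowers_comm_self_le y Z
  have hXS : ⁅X, X ⊔ R⁆ ≤ Z := by
    rw [Subgroup.commutator_comm]
    apply commutator_sup_le_of_le Z hXX
    exact (Subgroup.commutator_mono le_rfl hXH).trans hRHZ
  have hH'Z : H' ≤ Z := by
    calc H' = ⁅H, H⁆ := rfl
      _ ≤ ⁅X ⊔ R, H⁆ := Subgroup.commutator_mono hgen le_rfl
      _ ≤ Z := by
        apply commutator_sup_le_of_le Z
        · exact (Subgroup.commutator_mono le_rfl hgen).trans hXS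
        · exact hRHZ
  refine ⟨c, hcH', ?_⟩
  intro h hh
  have hhZ : QuotientGroup.mk' K h ∈ Zb := hH'Z hh
  obtain ⟨k, hk⟩ := hhZ
  have h1 : (c ^ k)⁻¹ * h ∈ K := by
    rw [← QuotientGroup.eq_one_iff, ← QuotientGroup.mk'_apply, map_mul, map_inv, map_zpow]
    simp only at hk
    rw [hk, inv_mul_cancel]
  have h2 : h = c ^ k * ((c ^ k)⁻¹ * h) := by group
  rw [h2]
  exact Subgroup.mul_mem_sup (Subgroup.zpow_mem_zpowers c k) (le_sup_left (a := K) h1)

section pgroup

variable [Finite G] {p : ℕ} [Fact p.Prime]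

theorem not_le_comm_top (hG : IsPGroup p G) (M : Subgroup G) [M.Normal] (hM : M ≠ ⊥) :
    ¬ M ≤ ⁅M, (⊤ : Subgroup G)⁆ := by
  intro h
  have hnil : Group.IsNilpotent G := hG.isNilpotent
  have h3 : ⁅M, (⊤ : Subgroup G)⁆ ⊔ ⊥ = M := by
    rw [sup_bot_eq]
    exact le_antisymm (Subgroup.commutator_le_left M ⊤) h
  exact hM (eq_of_commutator_sup_eq M ⊥ bot_le h3)

theorem level_weight (H : Subgroup G) (v : ℕ) (hH : H ≤ Gam G v) : ⁅H, H⁆ ≤ Gam G (2 * v + 1) := by
  have := comm_Gam_le v v hH hH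
  rwa [show v + v + 1 = 2 * v + 1 by ring] at this

theorem comm_top_le_Gam (H : Subgroup G) (v : ℕ) (hH : H ≤ Gam G v) :
    ⁅H, (⊤ : Subgroup G)⁆ ≤ Gam G (v + 1) := by
  have : Gam G (v + 1) = ⁅Gam G v, (⊤ : Subgroup G)⁆ := rfl
  rw [this]
  exact Subgroup.commutator_mono hH le_rfl

theorem level_weight_cyc (H : Subgroup G) [H.Normal] (v : ℕ) (hH : H ≤ Gam G v) (hc : IsCycTop H) :
    ⁅H, H⁆ ≤ Gam G (2 * v + 2) := by
  have h0 := comm_le_of_cycTop H hc
  have h1 : ⁅H, ⁅H, (⊤ : Subgroup G)⁆⁆ ≤ Gam G (2 * v + 2) := by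
    have := comm_Gam_le v (v + 1) hH (comm_top_le_Gam H v hH)
    rwa [show v + (v + 1) + 1 = 2 * v + 2 by ring] at this
  have h2 : ⁅H, ⁅H, H⁆⁆ ≤ Gam G (2 * v + 2) := by
    have := comm_Gam_le v (2 * v + 1) hH (level_weight H v hH)
    exact this.trans (Gam_antitone (by omega))
  exact h0.trans ((comm_sup_le H _ _).trans (sup_le h1 h2))

/-- the two conclusions in the case of a cyclic top factor -/
theorem level_cyc (hG : IsPGroup p G) (H : Subgroup G) [H.Normal] (v : ℕ) (hH : H ≤ Gam G v)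
    (hne : ⁅H, H⁆ ≠ ⊥) (hc : IsCycTop H) :
    p ^ (v + 2) ≤ (⁅H, H⁆).relIndex H ∧ ((⁅H, H⁆).relIndex H = p ^ (v + 2) → IsCycTop ⁅H, H⁆) := by
  have hp := (Fact.out : p.Prime)
  set H' : Subgroup G := ⁅H, H⁆ with hH'
  set K : Subgroup G := ⁅H', (⊤ : Subgroup G)⁆ with hK
  have hH'H : H' ≤ H := Subgroup.commutator_le_left H H
  have hH'K : ⁅H', H⁆ ≤ K := Subgroup.commutator_mono le_rfl le_top
  -- `H' ≤ N (v+2) ⊔ K`
  have hA : H' ≤ iterComm H (v + 2) ⊔ K := by
    have h0 := comm_le_of_cycTop H hc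
    have h1 : ⁅H, ⁅H, (⊤ : Subgroup G)⁆⁆ ≤ iterComm H (v + 2) := by
      rw [Subgroup.commutator_comm]
      have := comm_le_iter ⁅H, (⊤ : Subgroup G)⁆ H v hH
      rwa [← iterComm_succ'] at this
    have h2 : ⁅H, H'⁆ ≤ K := by rw [Subgroup.commutator_comm]; exact hH'K
    exact h0.trans ((comm_sup_le H _ _).trans (sup_le_sup h1 h2))
  have hB : ¬ iterComm H (v + 1) ≤ H' := by
    intro h
    have h1 : iterComm H (v + 2) ≤ K := by
      rw [iterComm_succ]; exact Subgroup.commutator_mono h le_rfl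
    exact not_le_comm_top hG H' hne (hA.trans (sup_le h1 le_rfl))
  have hidx := pow_le_relIndex_of_not_le hG (v + 1) H H' hH'H hB
  refine ⟨hidx, ?_⟩
  intro heq
  have hN : iterComm H (v + 2) ≤ H' := iterComm_le_of_relIndex_le hG (v + 2) H H' hH'H (le_of_eq heq)
  set R : Subgroup G := iterComm H 2 ⊔ H' with hR
  have hRn : R.Normal := inferInstance
  have hRH : R ≤ H := sup_le (iterComm_le H 2) hH'H
  have hH'R : H' ≤ R := le_sup_right
  have hRK : ⁅R, H⁆ ≤ K := by
    apply commutator_sup_le_of_le K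
    · have h1 := comm_le_iter (iterComm H 2) H v hH
      rw [iterComm_add] at h1
      have h2 : iterComm H (2 + (v + 1)) = ⁅iterComm H (v + 2), (⊤ : Subgroup G)⁆ := by
        rw [show 2 + (v + 1) = (v + 2) + 1 by ring, iterComm_succ]
      rw [h2] at h1
      exact h1.trans (Subgroup.commutator_mono hN le_rfl)
    · exact hH'K
  have hmul := Subgroup.relIndex_mul_relIndex H' R H hH'R hRH
  have hlow : p ^ v ≤ H'.relIndex R := by
    rcases Nat.eq_zero_or_pos v with rfl | hv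
    · rw [pow_zero]
      exact Nat.pos_of_ne_zero Subgroup.index_ne_zero_of_finite
    · obtain ⟨u, rfl⟩ : ∃ u, v = u + 1 := ⟨v - 1, by omega⟩
      apply pow_le_relIndex_of_not_le hG u R H' hH'R
      intro h
      apply hB
      have : iterComm H (u + 1 + 1) = iterComm (iterComm H 2) u := by
        rw [iterComm_add]; congr 1; ring
      rw [this]
      exact (iterComm_mono le_sup_left u).trans h
  have hRle : R.relIndex H ≤ p ^ 2 := by
    have h1 : p ^ v * R.relIndex H ≤ p ^ v * p ^ 2 := by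
      calc p ^ v * R.relIndex H ≤ H'.relIndex R * R.relIndex H := Nat.mul_le_mul_right _ hlow
        _ = p ^ (v + 2) := by rw [hmul, heq]
        _ = p ^ v * p ^ 2 := pow_add p v 2
    exact Nat.le_of_mul_le_mul_left h1 (pow_pos hp.pos v)
  obtain ⟨x, hx, y, hy, hgen⟩ := exists_two_gen_of_relIndex_le hG R H hRH hRle
  exact cycTop_comm_of_two_gen H R hRH hRK x y hx hy hgen

/-- the two conclusions in the case of a non-cyclic top factor -/
theorem level_noncyc (hG : IsPGroup p G) (H : Subgroup G) [H.Normal] (v : ℕ) (hH : H ≤ Gam G v)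
    (hne : ⁅H, H⁆ ≠ ⊥) (hc : ¬ IsCycTop H) :
    p ^ (v + 2) ≤ (⁅H, H⁆).relIndex H ∧ ((⁅H, H⁆).relIndex H = p ^ (v + 2) → IsCycTop ⁅H, H⁆) := by
  have hp := (Fact.out : p.Prime)
  set H' : Subgroup G := ⁅H, H⁆ with hH'
  set K : Subgroup G := ⁅H', (⊤ : Subgroup G)⁆ with hK
  have hH'H : H' ≤ H := Subgroup.commutator_le_left H H
  have hH'K : ⁅H', H⁆ ≤ K := Subgroup.commutator_mono le_rfl le_top
  set L : Subgroup G := ⁅H, (⊤ : Subgroup G)⁆ ⊔ H' with hL
  have hLn : L.Normal := inferInstance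
  have hLH : L ≤ H := sup_le (Subgroup.commutator_le_left H ⊤) hH'H
  have hH'L : H' ≤ L := le_sup_right
  have hN1 : iterComm H 1 = ⁅H, (⊤ : Subgroup G)⁆ := rfl
  -- top factor of order at least `p²`
  have hC : p ^ 2 ≤ L.relIndex H := by
    obtain ⟨b, hb⟩ := relIndex_eq_pow hG L H
    rw [hb]
    apply Nat.pow_le_pow_right hp.pos
    by_contra hlt
    push Not at hlt
    apply hc
    have h1 : L.relIndex H ≤ p := by
      rw [hb]
      calc p ^ b ≤ p ^ 1 := Nat.pow_le_pow_right hp.pos (by omega)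
        _ = p := pow_one p
    obtain ⟨x, hx, hxL⟩ := exists_gen_of_relIndex_le hG L H hLH h1
    exact ⟨x, hx, hxL⟩
  have hA : H' ≤ iterComm H (v + 1) := comm_le_iter H H v hH
  have hB : ¬ iterComm H v ≤ H' := by
    intro h
    have h1 : iterComm H (v + 1) ≤ K := by
      rw [iterComm_succ]; exact Subgroup.commutator_mono h le_rfl
    exact not_le_comm_top hG H' hne (hA.trans h1)
  have hmul := Subgroup.relIndex_mul_relIndex H' L H hH'L hLH
  have hlow : p ^ v ≤ H'.relIndex L := by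
    rcases Nat.eq_zero_or_pos v with rfl | hv
    · rw [pow_zero]
      exact Nat.pos_of_ne_zero Subgroup.index_ne_zero_of_finite
    · obtain ⟨u, rfl⟩ : ∃ u, v = u + 1 := ⟨v - 1, by omega⟩
      apply pow_le_relIndex_of_not_le hG u L H' hH'L
      intro h
      apply hB
      rw [iterComm_succ']
      exact (iterComm_mono le_sup_left u).trans h
  have hidx : p ^ (v + 2) ≤ H'.relIndex H := by
    rw [← hmul, pow_add]
    exact Nat.mul_le_mul hlow hC
  refine ⟨hidx, ?_⟩
  intro heq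
  have hLle : L.relIndex H ≤ p ^ 2 := by
    have h1 : p ^ v * L.relIndex H ≤ p ^ v * p ^ 2 := by
      calc p ^ v * L.relIndex H ≤ H'.relIndex L * L.relIndex H := Nat.mul_le_mul_right _ hlow
        _ = p ^ (v + 2) := by rw [hmul, heq]
        _ = p ^ v * p ^ 2 := pow_add p v 2
    exact Nat.le_of_mul_le_mul_left h1 (pow_pos hp.pos v)
  have hH'Lle : H'.relIndex L ≤ p ^ v := by
    have h1 : H'.relIndex L * p ^ 2 ≤ p ^ v * p ^ 2 := by
      calc H'.relIndex L * p ^ 2 ≤ H'.relIndex L * L.relIndex H := Nat.mul_le_mul_left _ hC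
        _ = p ^ (v + 2) := by rw [hmul, heq]
        _ = p ^ v * p ^ 2 := pow_add p v 2
    exact Nat.le_of_mul_le_mul_right h1 (pow_pos hp.pos 2)
  have hN : iterComm H (v + 1) ≤ H' := by
    rw [iterComm_succ']
    exact (iterComm_mono le_sup_left v).trans (iterComm_le_of_relIndex_le hG v L H' hH'L hH'Lle)
  have hLK : ⁅L, H⁆ ≤ K := by
    apply commutator_sup_le_of_le K
    · have h1 := comm_le_iter ⁅H, (⊤ : Subgroup G)⁆ H v hH
      rw [← iterComm_succ', iterComm_succ] at h1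
      exact h1.trans (Subgroup.commutator_mono hN le_rfl)
    · exact hH'K
  obtain ⟨x, hx, y, hy, hgen⟩ := exists_two_gen_of_relIndex_le hG L H hLH hLle
  exact cycTop_comm_of_two_gen H L hLH hLK x y hx hy hgen

end pgroup

end Cfsg.Agent.Lib.H24.Mann
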