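/-
helper24: Mann's lower bound (S4009).  Part C: the arithmetic and the induction along the derived series.
A finite `p`-group of order `p^n` with `G^(k) ≠ 1` has `n ≥ 2^k + 2k - 2`.
-/
import Cfsg.Agent.Lib.H24.MannB

set_option autoImplicit false

namespace Cfsg.Agent.Lib.H24.Mann

open Cfsg.Agent.Lib.H19

/-- `v_i + 1` is the weight of `G^(i)`: `v_0 = 0`, `v_{i+1} = 2 v_i + 1 + c_i` -/
def vSeq (c : ℕ → ℕ) : ℕ → ℕ
  | 0 => 0
  | i + 1 => 2 * vSeq c i + 1 + c i

/-- the accumulated lower bound for `log_p |G : G^(i)|` -/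
def tSeq (c : ℕ → ℕ) : ℕ → ℕ
  | 0 => 0
  | i + 1 => tSeq c i + vSeq c i + 2 + (1 - c (i + 1))

theorem arith (c : ℕ → ℕ) (hc : ∀ i, c i ≤ 1) (k : ℕ) :
    2 ^ k ≤ vSeq c k + 1 ∧ 2 ^ k + 2 * k ≤ tSeq c k + 3 ∧
      (vSeq c k + 1 = 2 ^ k → 2 ^ k + 2 * k ≤ tSeq c k + 1 + c k) := by
  induction k with
  | zero =>
    simp only [vSeq, tSeq, pow_zero]
    omega
  | succ k ih =>
    obtain ⟨ha, hb, hcc⟩ := ih
    have h1 := hc k
    have h2 := hc (k + 1)
    have hv : vSeq c (k + 1) = 2 * vSeq c k + 1 + c k := rfl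
    have ht : tSeq c (k + 1) = tSeq c k + vSeq c k + 2 + (1 - c (k + 1)) := rfl
    have hpow : 2 ^ (k + 1) = 2 * 2 ^ k := by rw [pow_succ]; ring
    rw [hv, ht, hpow]
    refine ⟨by omega, ?_, ?_⟩
    · by_cases he : vSeq c k + 1 = 2 ^ k
      · have := hcc he
        omega
      · omega
    · intro he
      have he' : vSeq c k + 1 = 2 ^ k := by omega
      have := hcc he'
      omega

variable {P : Type*} [Group P] [Finite P] {p : ℕ} [Fact p.Prime]

open Classical in
/-- the indicator of a cyclic top factor along the derived series -/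
noncomputable def cycSeq (P : Type*) [Group P] (i : ℕ) : ℕ :=
  if IsCycTop (derivedSeries P i) then 1 else 0

theorem cycSeq_le_one (P : Type*) [Group P] (i : ℕ) : cycSeq P i ≤ 1 := by
  unfold cycSeq; split_ifs <;> omega

theorem mann_bound (hP : IsPGroup p P) (n k : ℕ) (hcard : Nat.card P = p ^ n)
    (hk : derivedSeries P k ≠ ⊥) : 2 ^ k + 2 * k ≤ n + 2 := by
  have hp := (Fact.out : p.Prime)
  set c : ℕ → ℕ := cycSeq P with hcdef
  have hc : ∀ i, c i ≤ 1 := cycSeq_le_one P
  have hne : ∀ i, i ≤ k → derivedSeries P i ≠ ⊥ := by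
    intro i hi h
    apply hk
    rw [eq_bot_iff, ← h]
    exact derivedSeries_antitone P hi
  -- weights
  have hA : ∀ i, i ≤ k → derivedSeries P i ≤ Gam P (vSeq c i) := by
    intro i
    induction i with
    | zero => intro _; rw [derivedSeries_zero]; exact le_rfl
    | succ i ih =>
      intro hi
      have h1 := ih (by omega)
      rw [derivedSeries_succ]
      show _ ≤ Gam P (2 * vSeq c i + 1 + c i)
      by_cases hcy : IsCycTop (derivedSeries P i)
      · have : c i = 1 := by simp only [hcdef, cycSeq, if_pos hcy]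
        rw [this]
        exact level_weight_cyc _ _ h1 hcy
      · have : c i = 0 := by simp only [hcdef, cycSeq, if_neg hcy]
        rw [this]
        exact level_weight _ _ h1
  -- indices of consecutive terms
  have hB : ∀ i, i < k → p ^ (vSeq c i + 2 + (1 - c (i + 1))) ≤
      (derivedSeries P (i + 1)).relIndex (derivedSeries P i) := by
    intro i hi
    have h1 := hA i (by omega)
    have hne1 : ⁅derivedSeries P i, derivedSeries P i⁆ ≠ ⊥ := by
      rw [← derivedSeries_succ]; exact hne (i + 1) (by omega)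
    have hlev : p ^ (vSeq c i + 2) ≤ (⁅derivedSeries P i, derivedSeries P i⁆).relIndex (derivedSeries P i) ∧
        ((⁅derivedSeries P i, derivedSeries P i⁆).relIndex (derivedSeries P i) = p ^ (vSeq c i + 2) →
          IsCycTop ⁅derivedSeries P i, derivedSeries P i⁆) := by
      by_cases hcy : IsCycTop (derivedSeries P i)
      · exact level_cyc hP _ _ h1 hne1 hcy
      · exact level_noncyc hP _ _ h1 hne1 hcy
    rw [← derivedSeries_succ] at hlev
    obtain ⟨hl1, hl2⟩ := hlev
    by_cases hcy : IsCycTop (derivedSeries P (i + 1))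
    · have : c (i + 1) = 1 := by simp only [hcdef, cycSeq, if_pos hcy]
      rw [this]
      exact hl1
    · have : c (i + 1) = 0 := by simp only [hcdef, cycSeq, if_neg hcy]
      rw [this]
      obtain ⟨b, hb⟩ := relIndex_eq_pow hP (derivedSeries P (i + 1)) (derivedSeries P i)
      rw [hb] at hl1 hl2 ⊢
      have h2 : vSeq c i + 2 ≤ b := (Nat.pow_le_pow_iff_right hp.one_lt).mp hl1
      have h3 : b ≠ vSeq c i + 2 := by
        intro h; exact hcy (hl2 (by rw [h]))
      exact Nat.pow_le_pow_right hp.pos (by omega)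
  -- index of `G^(i)`
  have hC : ∀ i, i ≤ k → p ^ tSeq c i ≤ (derivedSeries P i).index := by
    intro i
    induction i with
    | zero =>
      intro _
      rw [derivedSeries_zero, Subgroup.index_top]
      exact le_of_eq (pow_zero p)
    | succ i ih =>
      intro hi
      have h1 := ih (by omega)
      have h2 := hB i (by omega)
      have h3 := Subgroup.relIndex_mul_index (derivedSeries_antitone P (Nat.le_succ i))
      rw [← h3]
      show p ^ (tSeq c i + vSeq c i + 2 + (1 - c (i + 1))) ≤ _
      calc p ^ (tSeq c i + vSeq c i + 2 + (1 - c (i + 1)))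
          = p ^ (vSeq c i + 2 + (1 - c (i + 1))) * p ^ tSeq c i := by
            rw [← pow_add]; congr 1; ring
        _ ≤ _ := Nat.mul_le_mul h2 h1
  have h1 := hC k le_rfl
  -- `G^(k)` has order at least `p`
  have h2 : p ≤ Nat.card (derivedSeries P k) := by
    have hPk : IsPGroup p (derivedSeries P k) := hP.to_subgroup _
    obtain ⟨b, hb⟩ := IsPGroup.iff_card.mp hPk
    rw [hb]
    have hb0 : b ≠ 0 := by
      rintro rfl
      rw [pow_zero] at hb
      exact hk ((Subgroup.card_eq_one).mp hb)
    calc p = p ^ 1 := (pow_one p).symm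
      _ ≤ p ^ b := Nat.pow_le_pow_right hp.pos (by omega)
  have h3 : p ^ (tSeq c k + 1) ≤ p ^ n := by
    rw [← hcard, ← Subgroup.index_mul_card (derivedSeries P k), pow_succ]
    exact Nat.mul_le_mul h1 h2
  have h4 : tSeq c k + 1 ≤ n := (Nat.pow_le_pow_iff_right hp.one_lt).mp h3
  have h5 := (arith c hc k).2.1
  omega

end Cfsg.Agent.Lib.H24.Mann
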