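import Mathlib
import Cfsg.Agent.Lib.H13.NSE11Defs
import Cfsg.Agent.Lib.H5.OrderCount

/-!
# S3592 pieces G1 (`card_sylow11_of_good`) and G2 (`no_order_11q`) (helper24),
exact signatures of `tools/blueprints/S3592_sigs.lean`.
-/

set_option autoImplicit false

universe u

namespace Cfsg.Agent.Lib.H24.NSE11

open Cfsg.Agent.Lib.H13.NSE11

variable {G : Type u} [Group G] [Finite G]

theorem factorization_7920_11 : (7920 : ℕ).factorization 11 = 1 := by
  have h : (7920 : ℕ) = 11 * 720 := by norm_num
  rw [h, Nat.factorization_mul (by norm_num) (by norm_num)]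
  have h1 : (11 : ℕ).factorization 11 = 1 := Nat.Prime.factorization_self (by norm_num)
  have h2 : (720 : ℕ).factorization 11 = 0 :=
    Nat.factorization_eq_zero_of_not_dvd (by norm_num)
  simp [h1, h2]

/-- Sylow 11-subgroups of a group of order 7920 have order 11. -/
theorem card_sylow11_sub (hG : Nat.card G = 7920) [Fact (Nat.Prime 11)] (P : Sylow 11 G) :
    Nat.card (P : Subgroup G) = 11 := by
  have h := Sylow.card_eq_multiplicity P
  rw [hG, factorization_7920_11, pow_one] at h
  exact h

theorem divisors_aux : ∀ k < 66, (11 * k + 1) ∣ 720 →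
    11 * k + 1 = 1 ∨ 11 * k + 1 = 12 ∨ 11 * k + 1 = 45 ∨ 11 * k + 1 = 144 := by
  decide

/-- the possible numbers of Sylow 11-subgroups -/
theorem card_sylow11_cases (hG : Nat.card G = 7920) [Fact (Nat.Prime 11)] :
    Nat.card (Sylow 11 G) = 1 ∨ Nat.card (Sylow 11 G) = 12 ∨ Nat.card (Sylow 11 G) = 45 ∨
      Nat.card (Sylow 11 G) = 144 := by
  obtain ⟨P⟩ : Nonempty (Sylow 11 G) := inferInstance
  have hP := card_sylow11_sub hG P
  have hidx : (P : Subgroup G).index = 720 := by
    have h := (P : Subgroup G).card_mul_index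
    rw [hP, hG] at h
    omega
  have hdvd : Nat.card (Sylow 11 G) ∣ 720 := by
    rw [← hidx]; exact Sylow.card_dvd_index P
  have hmod : Nat.card (Sylow 11 G) % 11 = 1 := by
    have := card_sylow_modEq_one 11 G
    exact this
  set n := Nat.card (Sylow 11 G) with hn
  have hle : n ≤ 720 := Nat.le_of_dvd (by norm_num) hdvd
  have hk : n = 11 * (n / 11) + 1 := by omega
  have hk66 : n / 11 < 66 := by omega
  have := divisors_aux (n / 11) hk66 (by rw [← hk]; exact hdvd)
  rw [← hk] at this
  exact this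

/-- (G1) -/
theorem card_sylow11_of_good (hG : Nat.card G = 7920)
    (hgood : ∀ n, 0 < Nat.card {g : G // orderOf g = n} →
      Good (Nat.card {g : G // orderOf g = n})) :
    Nat.card (Sylow 11 G) = 144 := by
  haveI : Fact (Nat.Prime 11) := ⟨by norm_num⟩
  have hcount : Nat.card {g : G // orderOf g = 11} = Nat.card (Sylow 11 G) * (11 - 1) :=
    Cfsg.Agent.Lib.H5.card_orderOf_eq_prime (fun Q => card_sylow11_sub hG Q)
  have hcases := card_sylow11_cases (G := G) hG
  have hpos : 0 < Nat.card {g : G // orderOf g = 11} := by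
    rw [hcount]
    rcases hcases with h | h | h | h <;> rw [h] <;> norm_num
  have hg := hgood 11 hpos
  rw [hcount] at hg
  unfold Good at hg
  rcases hcases with h | h | h | h
  · rw [h] at hg; omega
  · rw [h] at hg; omega
  · rw [h] at hg; omega
  · exact h

/-- (G2) -/
theorem no_order_11q (hG : Nat.card G = 7920) (h144 : Nat.card (Sylow 11 G) = 144) (q : ℕ)
    (hq : q = 2 ∨ q = 3) : ¬ ∃ g : G, orderOf g = 11 * q := by
  haveI : Fact (Nat.Prime 11) := ⟨by norm_num⟩
  rintro ⟨g, hg⟩
  have hq0 : 0 < q := by rcases hq with h | h <;> omega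
  -- `x = g ^ q` has order 11
  have hx : orderOf (g ^ q) = 11 := by
    rw [orderOf_pow' g hq0.ne', hg, Nat.gcd_eq_right (Dvd.intro_left 11 rfl)]
    exact Nat.mul_div_cancel 11 hq0
  -- `zpowers x` is a Sylow 11-subgroup
  have hcardx : Nat.card (Subgroup.zpowers (g ^ q)) = 11 := by
    rw [Nat.card_zpowers, hx]
  let P : Sylow 11 G := Sylow.ofCard (Subgroup.zpowers (g ^ q)) (by
    rw [hcardx, hG, factorization_7920_11, pow_one])
  have hPc : (P : Subgroup G) = Subgroup.zpowers (g ^ q) := rfl
  have hN : Nat.card (Subgroup.normalizer ((P : Subgroup G) : Set G)) = 55 := by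
    have h1 : Nat.card (Sylow 11 G) =
        (Subgroup.normalizer ((P : Subgroup G) : Set G)).index := Sylow.card_eq_index_normalizer P
    have h2 := (Subgroup.normalizer ((P : Subgroup G) : Set G)).card_mul_index
    rw [← h1, h144, hG] at h2
    omega
  -- `g` normalizes `zpowers (g ^ q)`
  have hgN : g ∈ Subgroup.normalizer ((P : Subgroup G) : Set G) := by
    rw [hPc, Subgroup.mem_normalizer_iff]
    intro h
    have hcomm : ∀ k : ℤ, g * (g ^ q) ^ k * g⁻¹ = (g ^ q) ^ k := by
      intro k
      have hc : Commute g ((g ^ q) ^ k) := ((Commute.refl g).pow_right q).zpow_right k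
      rw [hc.eq, mul_assoc, mul_inv_cancel, mul_one]
    constructor
    · intro hh
      obtain ⟨k, rfl⟩ := Subgroup.mem_zpowers_iff.1 hh
      rw [hcomm k]; exact Subgroup.zpow_mem_zpowers _ k
    · intro hh
      obtain ⟨k, hk⟩ := Subgroup.mem_zpowers_iff.1 hh
      have h5 : g * h * g⁻¹ = g * (g ^ q) ^ k * g⁻¹ := by rw [hcomm k]; exact hk.symm
      have h6 : h = (g ^ q) ^ k := mul_left_cancel (mul_right_cancel h5)
      rw [h6]; exact Subgroup.zpow_mem_zpowers _ k
  have hdvd : orderOf g ∣ 55 := by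
    have := orderOf_dvd_natCard (⟨g, hgN⟩ : ↥(Subgroup.normalizer ((P : Subgroup G) : Set G)))
    rw [hN] at this
    rwa [← Subgroup.orderOf_coe] at this
  rw [hg] at hdvd
  rcases hq with h | h <;> rw [h] at hdvd <;> omega

end Cfsg.Agent.Lib.H24.NSE11
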