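import Cfsg.Agent.Lib.H24.NSEG4core
import Cfsg.Agent.Lib.H20.NSE55sig

/-!
# S3592 piece G4 = `isSimpleGroup_of_good`, exact signature of `tools/blueprints/S3592_sigs.lean` (helper24).
-/

set_option autoImplicit false

universe u

namespace Cfsg.Agent.Lib.H24.NSE11

open Cfsg.Agent.Lib.H13.NSE11

variable {G : Type u} [Group G] [Finite G]

/-- (G4) landed `S2490` with `A = {11}`. -/
theorem isSimpleGroup_of_good (hG : Nat.card G = 7920)
    (hgood : ∀ n, 0 < Nat.card {g : G // orderOf g = n} →
      Good (Nat.card {g : G // orderOf g = n})) :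
    IsSimpleGroup G :=
  isSimpleGroup_of_good_core hG hgood
    (Cfsg.Agent.Lib.H20.NSE11.no_order_55 hG (card_sylow11_of_good hG hgood) hgood)

end Cfsg.Agent.Lib.H24.NSE11
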