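import Mathlib
import Cfsg.Agent.S2490
import Cfsg.Agent.Lib.H13.NSE11Defs
import Cfsg.Agent.Lib.H13.NSE11G

/-!
# S3592 piece G4, core (helper24): `|G| = 7920`, all positive order-counts `Good`, no element of order 55
⟹ `G` simple (landed S2490 with `A = {11}`, on helper13's landed G1/G2).
-/

set_option autoImplicit false

universe u

namespace Cfsg.Agent.Lib.H24.NSE11

open Cfsg.Agent.Lib.H13.NSE11

variable {G : Type u} [Group G] [Finite G]

theorem prime_dvd_7920 (b : ℕ) (hb : b.Prime) (hd : b ∣ 7920) : b = 2 ∨ b = 3 ∨ b = 5 ∨ b = 11 := by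
  have h : (7920 : ℕ) = 2 ^ 4 * 3 ^ 2 * 5 * 11 := by norm_num
  rw [h] at hd
  rcases (Nat.Prime.dvd_mul hb).1 hd with h1 | h1
  · rcases (Nat.Prime.dvd_mul hb).1 h1 with h2 | h2
    · rcases (Nat.Prime.dvd_mul hb).1 h2 with h3 | h3
      · left
        exact (Nat.prime_dvd_prime_iff_eq hb Nat.prime_two).1 (hb.dvd_of_dvd_pow h3)
      · right; left
        exact (Nat.prime_dvd_prime_iff_eq hb Nat.prime_three).1 (hb.dvd_of_dvd_pow h3)
    · right; right; left
      exact (Nat.prime_dvd_prime_iff_eq hb (by norm_num)).1 h2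
  · right; right; right
    exact (Nat.prime_dvd_prime_iff_eq hb (by norm_num)).1 h1

/-- G4 core: NO55 as an explicit hypothesis. -/
theorem isSimpleGroup_of_good_core (hG : Nat.card G = 7920)
    (hgood : ∀ n, 0 < Nat.card {g : G // orderOf g = n} →
      Good (Nat.card {g : G // orderOf g = n}))
    (h55 : ¬ ∃ g : G, orderOf g = 11 * 5) :
    IsSimpleGroup G := by
  have h144 : Nat.card (Sylow 11 G) = 144 := card_sylow11_of_good hG hgood
  refine Cfsg.Agent.S2490.result hG ⟨{11}, ⟨11, rfl, by norm_num, by rw [hG]; norm_num⟩,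
    ⟨2, by simp, Nat.prime_two, by rw [hG]; norm_num⟩, ?_⟩
  intro a ha b hb _ hbp _ hbd
  rw [Set.mem_singleton_iff] at ha hb
  subst ha
  rw [hG] at hbd
  rcases prime_dvd_7920 b hbp hbd with h | h | h | h
  · subst h; exact no_order_11q hG h144 2 (Or.inl rfl)
  · subst h; exact no_order_11q hG h144 3 (Or.inr rfl)
  · subst h; exact h55
  · exact absurd h hb

end Cfsg.Agent.Lib.H24.NSE11
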