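import Mathlib
import Cfsg.Prelude.Def_Characters
import Cfsg.Agent.Lib.H23.RelMGroup
import Cfsg.Agent.Lib.H23.CliffordCorr
import Cfsg.Agent.Lib.H24.ChiefFactor
import Cfsg.Agent.Lib.H1.CoprimeAction

/-!
# The action of the normalizer of `N` on functions and irreducible characters of `N`

`normFun N x f n = f (x⁻¹ n x)` for `x` in the normalizer of `N ≤ Γ`; `normIrr`, `normIrrHom` are
the induced action on `IrrCharacter N`. Also Clifford conjugacy for two subgroups `N ≤ G` of an
ambient group.
-/

set_option autoImplicit false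

namespace Cfsg.Agent.Lib.H24

open Cfsg Cfsg.Agent.Lib.L0 Cfsg.Agent.Lib.H23

section

variable {Γ : Type*} [Group Γ] (N : Subgroup Γ)

/-- Conjugate of a function on `N` by an element normalizing `N`: `(x·f)(n) = f(x⁻¹ n x)`. -/
def normFun (x : Subgroup.normalizer (N : Set Γ)) (f : N → ℂ) : N → ℂ :=
  f ∘ (N.normalizerMonoidHom x⁻¹)

theorem normFun_apply (x : Subgroup.normalizer (N : Set Γ)) (f : N → ℂ) (n : N)
    (h : (x : Γ)⁻¹ * n * x ∈ N) : normFun N x f n = f ⟨(x : Γ)⁻¹ * n * x, h⟩ := by
  unfold normFun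
  rw [Function.comp_apply]
  congr 1
  apply Subtype.ext
  simp

theorem normFun_one (f : N → ℂ) : normFun N 1 f = f := by
  funext n
  unfold normFun
  rw [Function.comp_apply, inv_one, map_one]
  rfl

theorem normFun_mul (x y : Subgroup.normalizer (N : Set Γ)) (f : N → ℂ) :
    normFun N (x * y) f = normFun N x (normFun N y f) := by
  funext n
  unfold normFun
  rw [Function.comp_apply, Function.comp_apply, Function.comp_apply, mul_inv_rev, map_mul]
  rfl

theorem isIrrCharacter_normFun (x : Subgroup.normalizer (N : Set Γ)) {f : N → ℂ}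
    (hf : IsIrrCharacter N f) : IsIrrCharacter N (normFun N x f) :=
  isIrrCharacter_comp_mulEquiv (N.normalizerMonoidHom x⁻¹) hf

theorem classInner_normFun [Fintype N] (x : Subgroup.normalizer (N : Set Γ)) (a b : N → ℂ) :
    classInner (normFun N x a) (normFun N x b) = classInner a b :=
  classInner_comp_equiv (N.normalizerMonoidHom x⁻¹) a b

/-- If `f` is invariant under conjugation by `x`, then `normFun N x f = f`. -/
theorem normFun_eq_self_of_forall (x : Subgroup.normalizer (N : Set Γ)) (f : N → ℂ)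
    (h : ∀ n n' : N, (n' : Γ) = (x : Γ)⁻¹ * n * x → f n' = f n) : normFun N x f = f := by
  funext n
  unfold normFun
  rw [Function.comp_apply]
  apply h
  simp

/-- The action on irreducible characters. -/
noncomputable def normIrr (x : Subgroup.normalizer (N : Set Γ)) (θ : IrrCharacter N) :
    IrrCharacter N :=
  ⟨normFun N x θ, isIrrCharacter_normFun N x θ.2⟩

theorem normIrr_coe (x : Subgroup.normalizer (N : Set Γ)) (θ : IrrCharacter N) :
    ((normIrr N x θ : IrrCharacter N) : N → ℂ) = normFun N x θ := rfl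

/-- The action of the normalizer on `IrrCharacter N` as a `MulAction` structure (not an
instance). -/
noncomputable def normIrrMulAction :
    MulAction (Subgroup.normalizer (N : Set Γ)) (IrrCharacter N) where
  smul := normIrr N
  one_smul θ := Subtype.ext (normFun_one N θ)
  mul_smul x y θ := Subtype.ext (normFun_mul N x y θ)

/-- The permutation representation of the normalizer on `IrrCharacter N`. -/
noncomputable def normIrrHom : Subgroup.normalizer (N : Set Γ) →* Equiv.Perm (IrrCharacter N) :=
  @MulAction.toPermHom _ _ _ (normIrrMulAction N)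

theorem normIrrHom_apply (x : Subgroup.normalizer (N : Set Γ)) (θ : IrrCharacter N) :
    normIrrHom N x θ = normIrr N x θ := rfl

end

section clifford

variable {Γ : Type*} [Group Γ] (G N : Subgroup Γ)

theorem le_normalizer_of_subgroupOf_normal (hNG : N ≤ G) [hNn : (N.subgroupOf G).Normal] :
    G ≤ Subgroup.normalizer (N : Set Γ) :=
  (Subgroup.normal_subgroupOf_iff_le_normalizer hNG).mp hNn

variable [Fintype Γ] [Fintype G] [Fintype N] (hNG : N ≤ G) [hNn : (N.subgroupOf G).Normal]

/-- Clifford: two irreducible constituents of `χ_N` are conjugate under `G`. -/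
theorem conj_of_constituent_sub (χ : G → ℂ) (hχ : IsIrrCharacter G χ) (θ ξ : N → ℂ)
    (hθ : IsIrrCharacter N θ) (hξ : IsIrrCharacter N ξ)
    (hcθ : classInner (fun n : N => χ ⟨n, hNG n.2⟩) θ ≠ 0)
    (hcξ : classInner (fun n : N => χ ⟨n, hNG n.2⟩) ξ ≠ 0) :
    ∃ g : G, ξ = normFun N ⟨g, le_normalizer_of_subgroupOf_normal G N hNG g.2⟩ θ := by
  classical
  set L := N.subgroupOf G with hL
  set e : L ≃* N := Subgroup.subgroupOfEquivOfLe hNG with he
  haveI : Fintype L := Fintype.ofFinite _
  have hres : (fun n : L => χ n) = (fun n : N => χ ⟨n, hNG n.2⟩) ∘ e := by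
    funext n
    rw [Function.comp_apply]
    congr 1
  have h1 : classInner (fun n : L => χ n) (θ ∘ e) ≠ 0 := by
    rw [hres, classInner_comp_equiv]; exact hcθ
  have h2 : classInner (fun n : L => χ n) (ξ ∘ e) ≠ 0 := by
    rw [hres, classInner_comp_equiv]; exact hcξ
  obtain ⟨k, hk⟩ := conj_of_constituent L χ hχ (θ ∘ e) (ξ ∘ e)
    (isIrrCharacter_comp_mulEquiv e hθ) (isIrrCharacter_comp_mulEquiv e hξ) h1 h2
  refine ⟨k⁻¹, ?_⟩
  funext m
  have h3 := congrFun hk (e.symm m)
  rw [Function.comp_apply, MulEquiv.apply_symm_apply, conjChar_apply, Function.comp_apply] at h3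
  rw [h3]
  have hmem : ((⟨(k⁻¹ : G), le_normalizer_of_subgroupOf_normal G N hNG (k⁻¹).2⟩ :
      Subgroup.normalizer (N : Set Γ)) : Γ)⁻¹ * m * ((k⁻¹ : G) : Γ) ∈ N := by
    have := (Subgroup.mem_normalizer_iff.mp
      (le_normalizer_of_subgroupOf_normal G N hNG k.2) m).mp m.2
    simpa using this
  rw [normFun_apply N _ θ m hmem]
  congr 1
  apply Subtype.ext
  show (k : Γ) * m * (k : Γ)⁻¹ = (((k⁻¹ : G)) : Γ)⁻¹ * m * ((k⁻¹ : G) : Γ)
  simp

end clifford

end Cfsg.Agent.Lib.H24
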