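import Mathlib
import Cfsg.Prelude.Def_Characters
import Cfsg.Agent.Lib.H25.O4320ARITH
import Cfsg.Agent.Lib.H11.O4320O0
import Cfsg.Agent.Lib.H15.O4320O2
import Cfsg.Agent.Lib.H14.O4320O4
import Cfsg.Agent.Lib.H24.O4320O5
import Cfsg.Agent.Lib.H24.CharOrth
import Cfsg.Agent.Lib.H24.CharBasic
import Cfsg.Agent.Lib.H24.BrauerP4
import Cfsg.Agent.Lib.H23.ClassProduct
import Cfsg.Agent.Lib.H23.DegreeDvd
import Cfsg.Agent.Lib.L0.CharOps

/-!
# S0977 piece (O6) (helper24): assembly of the case `C_G(K) = K`, `|N_G(K)| = 20` for order 4320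
-/

set_option autoImplicit false

namespace Cfsg.Agent.Lib.H24.O4320

open Cfsg Cfsg.Agent.Lib.L0 Cfsg.Agent.Lib.H24
open scoped ComplexConjugate

universe u


theorem false_of_data {G : Type u} [Group G] [Fintype G] (hG : Nat.card G = 4320)
    (hperf : commutator G = ⊤) (K : Subgroup G) (hK : Nat.card K = 5)
    (hC : Subgroup.centralizer (K : Set G) = K)
    (hN : Nat.card (Subgroup.normalizer (K : Set G)) = 20) : False := by
  classical
  have : Fintype (IrrCharacter G) := Fintype.ofFinite _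
  have : Fact (Nat.Prime 5) := ⟨by norm_num⟩
  have : Fact (Nat.Prime 2) := ⟨by norm_num⟩
  -- `x ∈ K`, `x ≠ 1`
  obtain ⟨x, hxK, hx1⟩ : ∃ x ∈ K, x ≠ 1 := by
    have h1 : 1 < Nat.card K := by rw [hK]; norm_num
    have : Nontrivial K := (Finite.one_lt_card_iff_nontrivial).1 h1
    obtain ⟨y, hy⟩ := exists_ne (1 : K)
    exact ⟨y, y.2, fun h => hy (Subtype.ext h)⟩
  -- `t ∈ N` of order 2
  obtain ⟨t, htN, ht⟩ : ∃ t ∈ Subgroup.normalizer (K : Set G), orderOf t = 2 := by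
    have h2 : 2 ∣ Nat.card (Subgroup.normalizer (K : Set G)) := by rw [hN]; norm_num
    obtain ⟨y, hy⟩ := exists_prime_orderOf_dvd_card' 2 h2
    refine ⟨y, y.2, ?_⟩
    rw [← hy, Subgroup.orderOf_coe]
  have hconj : ∀ k ∈ K, k ≠ 1 → IsConj x k :=
    fun k hk hk1 => Cfsg.Agent.Lib.H11.O4320.isConj_of_mem K hK hC hN hxK hx1 hk hk1
  obtain ⟨χ, ε, hinj, hne1, hε, hχx, hvan, hPhi⟩ :=
    Cfsg.Agent.Lib.H15.O4320.b0_structure K hK hC hxK hx1 hconj
  -- degrees of all irreducible characters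
  have hDex : ∀ ψ : IrrCharacter G, ∃ n : ℕ, 0 < n ∧ (ψ : G → ℂ) 1 = n := fun ψ => irr_one_eq ψ
  choose D hDpos hD using hDex
  set d : Fin 4 → ℕ := fun i => D (χ i) with hd_def
  have hd : ∀ i, (χ i : G → ℂ) 1 = d i := fun i => hD (χ i)
  -- involution values
  have hiv := fun i => Cfsg.Agent.Lib.H14.O4320.invol_values K hK hC hxK hx1 hconj htN ht (χ i) (d i) (hd i) (ε i)
    (by rw [hχx i])
  choose np nm hnp hv using hiv
  set v : Fin 4 → ℤ := fun i => (np i : ℤ) - nm i with hv_def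
  have hvC : ∀ i, (χ i : G → ℂ) t = ((v i : ℤ) : ℂ) := by
    intro i
    rw [hv i, hv_def]
    push_cast
    ring
  -- the trivial character
  set triv : IrrCharacter G := ⟨(1 : G → ℂ), Cfsg.Agent.Lib.L0.isIrrCharacter_one⟩ with htriv
  have htriv_ne : ∀ i, triv ≠ χ i := by
    intro i h
    apply hne1 i
    rw [← h]
  -- the set of the five characters
  set S : Finset (IrrCharacter G) := insert triv (Finset.univ.image χ) with hS
  have htriv_notin : triv ∉ Finset.univ.image χ := by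
    intro h
    obtain ⟨i, _, hi⟩ := Finset.mem_image.1 h
    exact htriv_ne i hi.symm
  have hsumS : ∀ f : IrrCharacter G → ℂ, ∑ ψ ∈ S, f ψ = f triv + ∑ i, f (χ i) := by
    intro f
    rw [hS, Finset.sum_insert htriv_notin, Finset.sum_image (fun a _ b _ h => hinj h)]
  have hsumSR : ∀ f : IrrCharacter G → ℝ, ∑ ψ ∈ S, f ψ = f triv + ∑ i, f (χ i) := by
    intro f
    rw [hS, Finset.sum_insert htriv_notin, Finset.sum_image (fun a _ b _ h => hinj h)]
  have hsumSN : ∀ f : IrrCharacter G → ℕ, ∑ ψ ∈ S, f ψ = f triv + ∑ i, f (χ i) := by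
    intro f
    rw [hS, Finset.sum_insert htriv_notin, Finset.sum_image (fun a _ b _ h => hinj h)]
  have hvanS : ∀ ψ : IrrCharacter G, ψ ∉ S → (ψ : G → ℂ) x = 0 := by
    intro ψ hψ
    rw [hS, Finset.mem_insert, not_or] at hψ
    apply hvan ψ
    · intro h
      apply hψ.1
      exact Subtype.ext h
    · intro i h
      apply hψ.2
      exact Finset.mem_image.2 ⟨i, Finset.mem_univ _, h.symm⟩
  -- `1` and `t` are not conjugate to `x`
  have h1x : ¬ IsConj (1 : G) x := by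
    intro h
    exact hx1 (isConj_one_right.1 h)
  have hordx : orderOf x = 5 := by
    have h1 : orderOf x ∣ 5 := by
      have := orderOf_dvd_natCard (⟨x, hxK⟩ : K)
      rwa [Subgroup.orderOf_mk, hK] at this
    rcases (Nat.dvd_prime (by norm_num : Nat.Prime 5)).1 h1 with h | h
    · exact absurd (orderOf_eq_one_iff.1 h) hx1
    · exact h
  have htx : ¬ IsConj t x := by
    intro h
    obtain ⟨c, hc⟩ := h
    have : orderOf t = orderOf x := SemiconjBy.orderOf_eq _ hc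
    rw [hordx, ht] at this
    norm_num at this
  -- (hdeg)
  have hdeg : 1 + ∑ i, ε i * (d i : ℤ) = 0 := by
    have h := hPhi 1 h1x
    simp only [hd] at h
    exact_mod_cast h
  -- (hlin)
  have hlin : 1 + ∑ i, ε i * v i = 0 := by
    have h := hPhi t htx
    simp only [hvC] at h
    exact_mod_cast h
  -- (hd) divisibility
  have hddvd : ∀ i, d i ∣ 4320 := by
    intro i
    have h := Cfsg.Agent.Lib.H23.charDegree_dvd_card (χ i : G → ℂ) (χ i).2
    rw [Cfsg.Agent.Lib.H23.charDegree_eq_of_apply_one (hd i), hG] at h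
    exact h
  -- (hd1)
  have hd1 : ∀ i, d i ≠ 1 := by
    intro i h
    apply hne1 i
    apply BrP.linear_eq_one_of_perfect hperf (χ i : G → ℂ) (χ i).2
    rw [hd i, h]
    simp
  -- (hsq)
  have hsq : 1 + ∑ i, (d i) ^ 2 ≤ 4320 := by
    have h := sum_irr_one_sq (G := G)
    simp only [hD] at h
    rw [hG] at h
    have h' : ∑ ψ : IrrCharacter G, (D ψ) ^ 2 = 4320 := by exact_mod_cast h
    have hle : ∑ ψ ∈ S, (D ψ) ^ 2 ≤ ∑ ψ : IrrCharacter G, (D ψ) ^ 2 :=
      Finset.sum_le_sum_of_subset (Finset.subset_univ S)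
    rw [hsumSN, h'] at hle
    have htr : D triv = 1 := by
      have := hD triv
      have h1 : (triv : G → ℂ) 1 = 1 := rfl
      rw [h1] at this
      exact_mod_cast this.symm
    rw [htr] at hle
    simpa using hle
  -- `|C_G(t)|`
  set ct : ℕ := Nat.card (Subgroup.centralizer ({t} : Set G)) with hct_def
  have hct : ct ∣ 4320 := by
    rw [← hG]
    exact Subgroup.card_subgroup_dvd_card _
  -- (hbound)
  have hbound : 1 + ∑ i, (v i) ^ 2 ≤ (ct : ℤ) := by
    have h := second_orthogonality (G := G) t t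
    rw [if_pos (IsConj.refl t)] at h
    have h2 : ∀ ψ : IrrCharacter G, (ψ : G → ℂ) t * conj ((ψ : G → ℂ) t) =
        ((Complex.normSq ((ψ : G → ℂ) t) : ℝ) : ℂ) := fun ψ => Complex.mul_conj _
    simp only [h2] at h
    have h3 : ∑ ψ : IrrCharacter G, Complex.normSq ((ψ : G → ℂ) t) = (ct : ℝ) := by
      have : ((∑ ψ : IrrCharacter G, Complex.normSq ((ψ : G → ℂ) t) : ℝ) : ℂ) = ((ct : ℝ) : ℂ) := by
        push_cast
        exact h
      exact_mod_cast this
    have hle : ∑ ψ ∈ S, Complex.normSq ((ψ : G → ℂ) t) ≤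
        ∑ ψ : IrrCharacter G, Complex.normSq ((ψ : G → ℂ) t) :=
      Finset.sum_le_sum_of_subset_of_nonneg (Finset.subset_univ S)
        (fun ψ _ _ => Complex.normSq_nonneg _)
    rw [hsumSR, h3] at hle
    have htr : Complex.normSq ((triv : G → ℂ) t) = 1 := by
      have h1 : (triv : G → ℂ) t = 1 := rfl
      rw [h1]
      simp
    have hχn : ∀ i, Complex.normSq ((χ i : G → ℂ) t) = ((v i : ℤ) : ℝ) ^ 2 := by
      intro i
      rw [hvC i]
      have : (((v i : ℤ) : ℂ)) = (((v i : ℤ) : ℝ) : ℂ) := by push_cast; rfl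
      rw [this, Complex.normSq_ofReal]
      ring
    rw [htr] at hle
    simp only [hχn] at hle
    exact_mod_cast hle
  -- (hclass)
  have hclass : (5 : ℚ) * (ct : ℚ) ^ 2 =
      4320 * (1 + ∑ i, (ε i : ℚ) * (v i : ℚ) ^ 2 / (d i : ℚ)) := by
    have h1 := Cfsg.Agent.Lib.H23.sum_sum_ite_conj_mul_eq (G := G) t t x
    rw [card_pairs_inverting (p := 5) (by norm_num) K hK hC htN ht hxK hx1, hG] at h1
    -- `ψ x⁻¹ = ψ x`
    have hxinv : ∀ ψ : IrrCharacter G, (ψ : G → ℂ) x⁻¹ = (ψ : G → ℂ) x := by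
      intro ψ
      have hc : IsConj x x⁻¹ := hconj x⁻¹ (K.inv_mem hxK) (fun h => hx1 (inv_eq_one.1 h))
      exact (isClassFunction_eq_of_isConj (isClassFunction_irr ψ) hc).symm
    have h2 : ∑ ψ : IrrCharacter G,
        (ψ : G → ℂ) t * (ψ : G → ℂ) t * (ψ : G → ℂ) x⁻¹ / (ψ : G → ℂ) 1 =
        ∑ ψ ∈ S, (ψ : G → ℂ) t * (ψ : G → ℂ) t * (ψ : G → ℂ) x⁻¹ / (ψ : G → ℂ) 1 := by
      symm
      apply Finset.sum_subset (Finset.subset_univ S)
      intro ψ _ hψ
      rw [hxinv, hvanS ψ hψ, mul_zero, zero_div]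
    rw [h2, hsumS] at h1
    have htr : (triv : G → ℂ) t * (triv : G → ℂ) t * (triv : G → ℂ) x⁻¹ / (triv : G → ℂ) 1 = 1 := by
      have h1 : ∀ g, (triv : G → ℂ) g = 1 := fun g => rfl
      simp only [h1]
      norm_num
    have hχt : ∀ i, (χ i : G → ℂ) t * (χ i : G → ℂ) t * (χ i : G → ℂ) x⁻¹ / (χ i : G → ℂ) 1 =
        (((ε i : ℚ) * (v i : ℚ) ^ 2 / (d i : ℚ) : ℚ) : ℂ) := by
      intro i
      rw [hxinv, hvC i, hχx i, hd i]
      push_cast
      ring
    rw [htr] at h1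
    simp only [hχt] at h1
    have h3 : (((5 : ℚ) * (ct : ℚ) ^ 2 : ℚ) : ℂ) =
        ((4320 * (1 + ∑ i, (ε i : ℚ) * (v i : ℚ) ^ 2 / (d i : ℚ)) : ℚ) : ℂ) := by
      push_cast
      push_cast at h1
      rw [← h1]
      ring
    exact_mod_cast h3
  exact Cfsg.Agent.Lib.H25.O4320.arith_false d ε v np nm ct hε hddvd hd1 hnp (fun i => rfl) hdeg hsq hlin hct hbound hclass

end Cfsg.Agent.Lib.H24.O4320
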