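import Mathlib
import Cfsg.Prelude.Def_KGroupFacts
import Cfsg.Prelude.Def_Classical
import Cfsg.Agent.Lib.H17.O7Main
import Cfsg.Agent.Lib.H18.SchurTransport
import Cfsg.Agent.Lib.H11.OmegaSimple

set_option autoImplicit false

/-!
# S2095 piece TR (helper28 blueprint): transport of the Schur multiplier from `Om` to `PΩ₇(F)`, `|F| = 3`.
-/

namespace Cfsg.Agent.Lib.H24.O73M

open Matrix

section FieldIso

variable {K : Type*} {F : Type*} [Field K] [Field F] {ι : Type} [Fintype ι] [DecidableEq ι]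

/-- the isomorphism of general linear groups induced by a ring isomorphism -/
noncomputable def glEquiv (e : K ≃+* F) :
    Matrix.GeneralLinearGroup ι K ≃* Matrix.GeneralLinearGroup ι F :=
  Units.mapEquiv (RingEquiv.mapMatrix e (m := ι)).toMulEquiv

theorem glEquiv_val (e : K ≃+* F) (g : Matrix.GeneralLinearGroup ι K) :
    ((glEquiv e g : Matrix.GeneralLinearGroup ι F) : Matrix ι ι F) =
      (g : Matrix ι ι K).map e := rfl

omit [DecidableEq ι] in
theorem map_mulVec_comp (e : K ≃+* F) (M : Matrix ι ι K) (v : ι → K) :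
    (M.map e) *ᵥ (e ∘ v) = e ∘ (M *ᵥ v) := by
  ext i
  exact (RingHom.map_mulVec (e : K →+* F) M v i).symm

theorem mem_iso_iff (e : K ≃+* F) (QK : (ι → K) → K) (QF : (ι → F) → F)
    (hQ : ∀ v : ι → K, QF (e ∘ v) = e (QK v)) (g : Matrix.GeneralLinearGroup ι K) :
    g ∈ Cfsg.isometryGroup K QK ↔ glEquiv e g ∈ Cfsg.isometryGroup F QF := by
  constructor
  · intro h u _
    have hu : u = e ∘ (e.symm ∘ u) := by
      ext i; simp
    have h1 := h (e.symm ∘ u) (e.symm ∘ u)
    simp only [Units.coeHom_apply] at h1 ⊢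
    rw [glEquiv_val, hu, map_mulVec_comp, hQ, hQ, h1]
  · intro h u _
    have h1 := h (e ∘ u) (e ∘ u)
    simp only [Units.coeHom_apply] at h1 ⊢
    rw [glEquiv_val, map_mulVec_comp, hQ, hQ] at h1
    exact e.injective h1

/-- the isomorphism of isometry groups induced by a ring isomorphism compatible with the forms -/
noncomputable def isoFieldEquiv (e : K ≃+* F) (QK : (ι → K) → K) (QF : (ι → F) → F)
    (hQ : ∀ v : ι → K, QF (e ∘ v) = e (QK v)) :
    ↥(Cfsg.isometryGroup K QK) ≃* ↥(Cfsg.isometryGroup F QF) :=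
  ((glEquiv e).subgroupMap (Cfsg.isometryGroup K QK)).trans (MulEquiv.subgroupCongr (by
    ext g'
    rw [Subgroup.mem_map]
    constructor
    · rintro ⟨g, hg, rfl⟩
      exact (mem_iso_iff e QK QF hQ g).mp hg
    · intro hg'
      refine ⟨(glEquiv e).symm g', ?_, ?_⟩
      · rw [mem_iso_iff e QK QF hQ]
        have : glEquiv e ((glEquiv e).symm g') = g' := (glEquiv e).apply_symm_apply g'
        rw [this]
        exact hg'
      · exact (glEquiv e).apply_symm_apply g'))

theorem quadFormOdd_comp (e : K ≃+* F) (m : ℕ) (v : Unit ⊕ (Fin m ⊕ Fin m) → K) :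
    Cfsg.quadFormOdd m F (e ∘ v) = e (Cfsg.quadFormOdd m K v) := by
  simp only [Cfsg.quadFormOdd, Function.comp_apply, map_add, map_pow, map_sum, map_mul]

/-- `PΩ` of the odd-dimensional form over isomorphic fields -/
noncomputable def pomegaOddEquiv (e : K ≃+* F) (m : ℕ) :
    Cfsg.POmega K (Cfsg.quadFormOdd m K) ≃* Cfsg.POmega F (Cfsg.quadFormOdd m F) :=
  Cfsg.Agent.Lib.H11.OmegaSimple.centerQuotCongr
    (Cfsg.Agent.Lib.H11.OmegaSimple.commutatorCongr
      (isoFieldEquiv e (Cfsg.quadFormOdd m K) (Cfsg.quadFormOdd m F) (quadFormOdd_comp e m)))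

end FieldIso

/-- **TR**. -/
theorem mult_transport {F : Type*} [Field F] [Fintype F] (hF : Fintype.card F = 3)
    (h : Cfsg.HasCyclicSchurMultiplier ↥Cfsg.Agent.Lib.H17.O7Main.Om 6) :
    Cfsg.HasCyclicSchurMultiplier (Cfsg.POmega F (Cfsg.quadFormOdd 3 F)) 6 := by
  have hp : Nat.Prime 3 := by norm_num
  let e : ZMod 3 ≃+* F := ZMod.ringEquivOfPrime F hp hF
  have : Finite ↥Cfsg.Agent.Lib.H17.O7Vec.O7 := inferInstance
  have : Finite ↥Cfsg.Agent.Lib.H17.O7Main.Om := inferInstance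
  exact Cfsg.Agent.Lib.H18.SchurTransport.hasSchurMultiplier_of_group_mulEquiv
    (Cfsg.Agent.Lib.H17.O7Main.isoP.symm.trans (pomegaOddEquiv e 3)) h

end Cfsg.Agent.Lib.H24.O73M
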