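import Cfsg.Agent.Lib.H24.ODP3B
import Cfsg.Agent.Lib.H24.ChiefFactor
import Cfsg.Agent.Lib.H11.OD3A

/-!
# S4930, piece (P3ab) (helper24)

`odd_trivial_on_complement`: a normal subgroup `K` with `K ⊓ N_G(P) = ⊥` (`P` a Sylow 2-subgroup)
lies in the kernel of every irreducible character of odd degree.
-/

set_option autoImplicit false

namespace Cfsg.Agent.Lib.H24.OD

open Cfsg Cfsg.Agent.Lib.H24

universe u

/-- A normal subgroup meeting a Sylow `2`-subgroup trivially has odd order. -/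
theorem odd_card_of_inf_sylow_eq_bot {G : Type u} [Group G] [Finite G] (P : Sylow 2 G) (K : Subgroup G)
    [hKn : K.Normal] (hKP : K ⊓ (P : Subgroup G) = ⊥) : ¬ 2 ∣ Nat.card K := by
  intro h2
  haveI : Fact (Nat.Prime 2) := ⟨Nat.prime_two⟩
  obtain ⟨k, hk⟩ := exists_prime_orderOf_dvd_card' 2 h2
  have hkG : orderOf (k : G) = 2 := by rw [Subgroup.orderOf_coe]; exact hk
  have hZ : IsPGroup 2 (Subgroup.zpowers (k : G)) := by
    apply IsPGroup.of_card (n := 1)
    rw [Nat.card_zpowers, hkG, pow_one]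
  obtain ⟨Q, hQ⟩ := hZ.exists_le_sylow
  obtain ⟨g, hg⟩ := MulAction.exists_smul_eq G Q P
  have hkQ : (k : G) ∈ (Q : Subgroup G) := hQ (Subgroup.mem_zpowers _)
  have hmem : g * (k : G) * g⁻¹ ∈ (P : Subgroup G) := by
    rw [← hg, Sylow.coe_subgroup_smul, Subgroup.mem_pointwise_smul_iff_inv_smul_mem]
    have : (MulAut.conj g)⁻¹ • (g * (k : G) * g⁻¹) = (k : G) := by
      rw [← map_inv, MulAut.smul_def, MulAut.conj_apply]
      group
    rw [this]
    exact hkQ
  have hmemK : g * (k : G) * g⁻¹ ∈ K := hKn.conj_mem _ k.2 g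
  have h1 : g * (k : G) * g⁻¹ ∈ K ⊓ (P : Subgroup G) := ⟨hmemK, hmem⟩
  rw [hKP, Subgroup.mem_bot] at h1
  have hk1 : (k : G) = 1 := by
    have : (k : G) = g⁻¹ * (g * (k : G) * g⁻¹) * g := by group
    rw [this, h1]
    group
  rw [hk1, orderOf_one] at hkG
  omega

/-- (P3ab) -/
theorem odd_trivial_on_complement {G : Type u} [Group G] [Finite G] (P : Sylow 2 G) (K : Subgroup G) [K.Normal]
    (hKN : K ⊓ Subgroup.normalizer ((P : Subgroup G) : Set G) = ⊥) (χ : IrrCharacter G)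
    (hχ : ¬ 2 ∣ charDegree (χ : G → ℂ)) : ∀ k ∈ K, (χ : G → ℂ) k = (χ : G → ℂ) 1 := by
  classical
  haveI : Fintype G := Fintype.ofFinite G
  haveI : Fintype ↥K := Fintype.ofFinite _
  have hKP : K ⊓ (P : Subgroup G) = ⊥ := by
    rw [eq_bot_iff, ← hKN]
    exact inf_le_inf_left K Subgroup.le_normalizer
  have hKC : K ⊓ Subgroup.centralizer ((P : Subgroup G) : Set G) = ⊥ := by
    rw [eq_bot_iff, ← hKN]
    exact inf_le_inf_left K (Subgroup.centralizer_le_normalizer _)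
  have hodd := odd_card_of_inf_sylow_eq_bot P K hKP
  obtain ⟨θ, hθc, hθinv⟩ := Cfsg.Agent.Lib.H11.OD.exists_invariant_constituent P K χ hχ
  have hθ1 := eq_one_of_invariant P K hodd hKC θ hθinv
  obtain ⟨F, hF, -, hsum⟩ := clifford_finset K (χ : G → ℂ) χ.2 (θ : ↥K → ℂ) θ.2 hθc
  have hval : ∀ k : ↥K, (χ : G → ℂ) (k : G) =
      classInner (fun n : ↥K => (χ : G → ℂ) n) (θ : ↥K → ℂ) * (F.card : ℂ) := by
    intro k
    have h := congrFun hsum k
    rw [h, Pi.smul_apply, Finset.sum_apply, smul_eq_mul]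
    congr 1
    rw [Finset.sum_congr rfl (g := fun _ => (1 : ℂ))]
    · simp
    · intro ψ hψ
      obtain ⟨g, rfl⟩ := hF ψ hψ
      rw [conjChar_apply]
      exact hθ1 _
  intro k hk
  have h1 := hval ⟨k, hk⟩
  have h2 := hval 1
  rw [h1]
  exact h2.symm

end Cfsg.Agent.Lib.H24.OD
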