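import Cfsg.Agent.Lib.H24.GlaubAmb7
import Cfsg.Agent.Lib.H24.CharAbelian
import Cfsg.Agent.Lib.H24.CharBasic
import Cfsg.Prelude.Def_Blocks

/-!
# S4930, piece (P3b) (helper24)

`eq_one_of_invariant`: `K` a normal subgroup of odd order of `G`, `P` a Sylow 2-subgroup with
`C_K(P) = 1`; a `P`-invariant irreducible character of `K` is the trivial character (Glauberman
correspondence `Glaub.pgroup_corr` with `C = ⊥`).
-/

set_option autoImplicit false

namespace Cfsg.Agent.Lib.H24.OD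

open Cfsg Cfsg.Agent.Lib.H24

universe u

/-- All irreducible characters of the trivial subgroup coincide. -/
theorem irr_bot_eq {G : Type u} [Group G] (β β' : IrrCharacter ↥(⊥ : Subgroup G)) : β = β' := by
  have hcomm : ∀ a b : ↥(⊥ : Subgroup G), a * b = b * a := fun a b => by
    have ha : a = 1 := Subsingleton.elim _ _
    have hb : b = 1 := Subsingleton.elim _ _
    rw [ha, hb]
  apply Subtype.ext
  funext x
  have hx : x = 1 := Subsingleton.elim _ _
  rw [hx, irr_apply_one_of_comm hcomm β, irr_apply_one_of_comm hcomm β']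

/-- (P3b) Glauberman: a `P`-invariant irreducible character of the odd-order normal subgroup `K`
with `C_K(P) = 1` is trivial. -/
theorem eq_one_of_invariant {G : Type u} [Group G] [Finite G] (P : Sylow 2 G) (K : Subgroup G) [K.Normal]
    (hK : ¬ 2 ∣ Nat.card K) (hC : K ⊓ Subgroup.centralizer ((P : Subgroup G) : Set G) = ⊥)
    (θ : IrrCharacter ↥K)
    (hθ : ∀ x ∈ (P : Subgroup G), ∀ k k' : ↥K, (k' : G) = x * (k : G) * x⁻¹ →
      (θ : ↥K → ℂ) k' = (θ : ↥K → ℂ) k) : ∀ k : ↥K, (θ : ↥K → ℂ) k = 1 := by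
  classical
  haveI : Fintype G := Fintype.ofFinite G
  haveI : Fintype ↥(⊥ : Subgroup G) := Fintype.ofFinite _
  have hnorm : ∀ s ∈ (P : Subgroup G), ∀ g ∈ K, s * g * s⁻¹ ∈ K :=
    fun s _ g hg => Subgroup.Normal.conj_mem inferInstance g hg s
  have H := Glaub.pgroup_corr Nat.prime_two (Nat.card (P : Subgroup G)) K (P : Subgroup G) ⊥ rfl hnorm
    P.isPGroup' hK hC.symm bot_le
  let one : IrrCharacter ↥K := ⟨fun _ => 1, isIrrCharacter_one⟩
  have hinv1 : ∀ x ∈ (P : Subgroup G), Glaub.InvUnder K x (one : ↥K → ℂ) := fun x _ g g' _ => rfl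
  have hinvθ : ∀ x ∈ (P : Subgroup G), Glaub.InvUnder K x (θ : ↥K → ℂ) := fun x hx g g' h => hθ x hx g g' h
  obtain ⟨β, ε, hε, hβ⟩ := H.exists_corr θ hinvθ
  obtain ⟨β', ε', hε', hβ'⟩ := H.exists_corr one hinv1
  have hββ' : β' = β := irr_bot_eq β' β
  have h1 : ¬ 2 ∣ Glaub.resMult (bot_le : (⊥ : Subgroup G) ≤ K) (θ : ↥K → ℂ) (β : ↥(⊥ : Subgroup G) → ℂ) := by
    have h := hβ β
    rw [if_pos rfl] at h
    intro hdvd
    have hdvd' : (2 : ℤ) ∣ (Glaub.resMult (bot_le : (⊥ : Subgroup G) ≤ K) (θ : ↥K → ℂ)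
        (β : ↥(⊥ : Subgroup G) → ℂ) : ℤ) := by exact_mod_cast hdvd
    rcases hε with rfl | rfl <;> omega
  have h2 : ¬ 2 ∣ Glaub.resMult (bot_le : (⊥ : Subgroup G) ≤ K) (one : ↥K → ℂ) (β : ↥(⊥ : Subgroup G) → ℂ) := by
    have h := hβ' β
    rw [if_pos hββ'.symm] at h
    intro hdvd
    have hdvd' : (2 : ℤ) ∣ (Glaub.resMult (bot_le : (⊥ : Subgroup G) ≤ K) (one : ↥K → ℂ)
        (β : ↥(⊥ : Subgroup G) → ℂ) : ℤ) := by exact_mod_cast hdvd
    rcases hε' with rfl | rfl <;> omega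
  have heq : θ = one := H.inj θ one hinvθ hinv1 β h1 h2
  intro k
  rw [heq]

end Cfsg.Agent.Lib.H24.OD
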