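import Cfsg.Agent.Lib.H4.OD4C
import Cfsg.Agent.Lib.L0.TateGeneral
import Cfsg.Agent.Lib.H14.PIrr
import Mathlib.GroupTheory.Focal

/-!
# S4930, piece (P4cde) (helper24, on helper4's core `comm_mem_of_fusion`)

`P` a Sylow `p`-subgroup of `G`, `L, K0 ⊴ G`, `P ≤ L`, `K0 ≤ L`, `N_G(P) ⊓ L = P`, `K0 ⊓ P = P'`.
Then `N_G(P)` has a normal complement in `G`, namely `O^p(L)`:
focal subgroup theorem (Mathlib) + helper4's fusion lemma give `L' ⊓ P ≤ P'`; Tate
(`L0.tate_general`) gives `O^p(L) ⊓ P = 1`; Frattini gives `G = L N_G(P)`.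
-/

set_option autoImplicit false

namespace Cfsg.Agent.Lib.H24.OD

open Cfsg
open scoped commutatorElement

universe u

/-- `O^p` of a `p`-group is trivial. -/
theorem pResidual_eq_bot_of_isPGroup {H : Type u} [Group H] {p : ℕ} [Fact p.Prime] (hH : IsPGroup p H) :
    Cfsg.pResidual p H = ⊥ := by
  unfold Cfsg.pResidual
  rw [Subgroup.closure_eq_bot_iff]
  intro g hg
  obtain ⟨k, hk⟩ := hH g
  have h1 : orderOf g ∣ p ^ k := orderOf_dvd_of_pow_eq_one hk
  have hg' : (orderOf g).Coprime p := hg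
  have h2 : (orderOf g).Coprime (p ^ k) := Nat.Coprime.pow_right k hg'
  have h3 : orderOf g = 1 := Nat.Coprime.eq_one_of_dvd h2 h1
  exact orderOf_eq_one_iff.mp h3

/-- (P4cde) -/
theorem exists_normal_complement_of_focal {G : Type u} [Group G] [Finite G] {p : ℕ} [Fact p.Prime]
    (P : Sylow p G) (L K0 : Subgroup G) [L.Normal] [K0.Normal] (hPL : (P : Subgroup G) ≤ L) (hK0L : K0 ≤ L)
    (hNL : Subgroup.normalizer ((P : Subgroup G) : Set G) ⊓ L = (P : Subgroup G))
    (hK0P : K0 ⊓ (P : Subgroup G) = (commutator ↥(P : Subgroup G)).map (P : Subgroup G).subtype) :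
    ∃ K : Subgroup G, K.Normal ∧ K ⊓ Subgroup.normalizer ((P : Subgroup G) : Set G) = ⊥ ∧
      K ⊔ Subgroup.normalizer ((P : Subgroup G) : Set G) = ⊤ := by
  classical
  have hfus := Cfsg.Agent.Lib.H4.OD.comm_mem_of_fusion P L K0 hPL hNL hK0P
  have hPLcoe : ((P.subtype hPL : Sylow p ↥L) : Subgroup ↥L) = (P : Subgroup G).subgroupOf L :=
    Sylow.coe_subtype _ hPL
  -- the commutator subgroup of `P` inside `↥L`
  have hmapcomm : (⁅((P.subtype hPL : Sylow p ↥L) : Subgroup ↥L),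
      ((P.subtype hPL : Sylow p ↥L) : Subgroup ↥L)⁆).map L.subtype =
      (commutator ↥(P : Subgroup G)).map (P : Subgroup G).subtype := by
    rw [Subgroup.map_commutator, hPLcoe, Subgroup.subgroupOf_map_subtype, inf_of_le_left hPL,
      Subgroup.map_subtype_commutator]
  -- the focal condition
  have hfocal : commutator ↥L ⊓ ((P.subtype hPL : Sylow p ↥L) : Subgroup ↥L) ≤
      ⁅((P.subtype hPL : Sylow p ↥L) : Subgroup ↥L), ((P.subtype hPL : Sylow p ↥L) : Subgroup ↥L)⁆ := by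
    rw [Subgroup.commutator_inf_eq_focalSubgroup, Subgroup.focalSubgroup_def, Subgroup.closure_le]
    rintro z ⟨hzP, x, hxP, u, rfl⟩
    rw [hPLcoe, Subgroup.mem_subgroupOf] at hzP hxP
    have hcoe : ((⁅x, u⁆ : ↥L) : G) = ⁅(x : G), (u : G)⁆ := by
      simp [commutatorElement_def]
    rw [hcoe] at hzP
    have h1 := hfus (x : G) hxP (u : G) u.2 hzP
    rw [← hmapcomm] at h1
    obtain ⟨w, hw, hwe⟩ := h1
    have : w = ⁅x, u⁆ := by
      apply Subtype.ext
      rw [hcoe]
      exact hwe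
    rw [SetLike.mem_coe, ← this]
    exact hw
  have htate := Cfsg.Agent.Lib.L0.tate_general (P.subtype hPL : Sylow p ↥L)
    ((P.subtype hPL : Sylow p ↥L) : Subgroup ↥L) le_rfl hfocal
  rw [pResidual_eq_bot_of_isPGroup (P.subtype hPL : Sylow p ↥L).2, Subgroup.map_bot] at htate
  -- `K = O^p(L)` in `G`
  have hKeq : (Cfsg.pResidual p ↥L).map L.subtype = Cfsg.Agent.Lib.H14.presOf p L :=
    Cfsg.Agent.Lib.H14.pResidual_map_eq p L
  have hKL : (Cfsg.pResidual p ↥L).map L.subtype ≤ L := Subgroup.map_subtype_le _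
  refine ⟨(Cfsg.pResidual p ↥L).map L.subtype, ?_, ?_, ?_⟩
  · rw [hKeq]
    constructor
    intro x hx g
    apply Cfsg.Agent.Lib.H14.presOf_conj_mem p L g _ x hx
    rw [Subgroup.normalizer_eq_top]
    exact Subgroup.mem_top g
  · rw [eq_bot_iff]
    rintro x ⟨hxK, hxN⟩
    have hxP : x ∈ (P : Subgroup G) := by
      rw [← hNL]
      exact ⟨hxN, hKL hxK⟩
    obtain ⟨y, hy, rfl⟩ := hxK
    have hyP : y ∈ ((P.subtype hPL : Sylow p ↥L) : Subgroup ↥L) := by
      rw [hPLcoe, Subgroup.mem_subgroupOf]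
      exact hxP
    have h1 : y ∈ (⊥ : Subgroup ↥L) := htate ⟨hy, hyP⟩
    rw [Subgroup.mem_bot] at h1
    rw [h1]
    exact Subgroup.one_mem _
  · have hsup := Cfsg.Agent.Lib.H14.pResidual_sup_sylow (P.subtype hPL : Sylow p ↥L)
    have hsup' : (Cfsg.pResidual p ↥L).map L.subtype ⊔ (P : Subgroup G) = L := by
      have h := congrArg (Subgroup.map L.subtype) hsup
      rw [Subgroup.map_sup, hPLcoe, Subgroup.subgroupOf_map_subtype, inf_of_le_left hPL,
        ← MonoidHom.range_eq_map, Subgroup.range_subtype] at h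
      exact h
    have hfrat : Subgroup.normalizer ((P : Subgroup G) : Set G) ⊔ L = ⊤ :=
      Sylow.normalizer_sup_eq_top' P hPL
    have hPN : (P : Subgroup G) ≤ Subgroup.normalizer ((P : Subgroup G) : Set G) := Subgroup.le_normalizer
    have hL : L ≤ (Cfsg.pResidual p ↥L).map L.subtype ⊔
        Subgroup.normalizer ((P : Subgroup G) : Set G) := by
      conv_lhs => rw [← hsup']
      exact sup_le le_sup_left (le_trans hPN le_sup_right)
    have hN : Subgroup.normalizer ((P : Subgroup G) : Set G) ≤ (Cfsg.pResidual p ↥L).map L.subtype ⊔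
        Subgroup.normalizer ((P : Subgroup G) : Set G) := le_sup_right
    have h3 : Subgroup.normalizer ((P : Subgroup G) : Set G) ⊔ L ≤ (Cfsg.pResidual p ↥L).map L.subtype ⊔
        Subgroup.normalizer ((P : Subgroup G) : Set G) := sup_le hN hL
    rw [hfrat] at h3
    exact top_le_iff.mp h3

end Cfsg.Agent.Lib.H24.OD
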