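/-
S2936 piece P23 (helper28's farm-out #4748, done by helper24): a group of order `2^5 * 3^b`, `b ≤ 2`,
has `O_2 ≠ 1`.  Route: Burnside `p^a q^b` (H23.BurnsidePQ) gives solvability; if `O_2 = 1` then
`O_{3'} = 1`, so `C(R) ≤ R := O_3` (H16.SolvableCore), `|R| ∣ 9`, and a Sylow 2-subgroup (order 32)
acts faithfully on `R`; but a 2-group of automorphisms of a group of order dividing 9 has order ≤ 16
(orbit of an element of order 3 has ≤ 8 elements, its stabiliser acts freely on the 6 elements outside
`⟨a⟩`).
-/
import Mathlib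
import Cfsg.Prelude.Def_Solvable
import Cfsg.Agent.Lib.H1.PCore
import Cfsg.Agent.Lib.H22.PPrimeCore
import Cfsg.Agent.Lib.H16.SolvableCore
import Cfsg.Agent.Lib.H23.BurnsidePQ

set_option autoImplicit false

namespace Cfsg.Agent.Lib.H24.OG

open Cfsg

/-- a group acting with trivial stabilisers on a finite set: its order divides the size of the set -/
theorem card_dvd_of_free {Q X : Type*} [Group Q] [MulAction Q X] [Finite Q] [Finite X]
    (h : ∀ b : X, MulAction.stabilizer Q b = ⊥) : Nat.card Q ∣ Nat.card X := by
  have e := MulAction.selfEquivOrbitsQuotientProd h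
  rw [Nat.card_congr e, Nat.card_prod]
  exact dvd_mul_left _ _

/-- an automorphism fixing `a` fixes every element of `zpowers a` -/
theorem aut_fix_zpowers {R : Type*} [Group R] (q : MulAut R) (a : R) (hq : q a = a)
    (x : R) (hx : x ∈ Subgroup.zpowers a) : q x = x := by
  obtain ⟨k, rfl⟩ := Subgroup.mem_zpowers_iff.mp hx
  rw [map_zpow, hq]

/-- an automorphism fixing `a` and `b` fixes every element of `closure {a, b}` -/
theorem aut_fix_closure {R : Type*} [Group R] (q : MulAut R) (a b : R) (ha : q a = a) (hb : q b = b)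
    (x : R) (hx : x ∈ Subgroup.closure ({a, b} : Set R)) : q x = x := by
  induction hx using Subgroup.closure_induction with
  | mem y hy =>
    rcases hy with rfl | hy
    · exact ha
    · rw [Set.mem_singleton_iff] at hy; rw [hy]; exact hb
  | one => exact map_one q
  | mul y z _ _ hy hz => rw [map_mul, hy, hz]
  | inv y _ hy => rw [map_inv, hy]

/-- in a group of order 9, an element of order 3 and an element outside the subgroup it generates
generate everything -/
theorem closure_pair_eq_top {R : Type*} [Group R] [Finite R] (hR : Nat.card R ∣ 9) (a b : R)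
    (ha : orderOf a = 3) (hb : b ∉ Subgroup.zpowers a) :
    Subgroup.closure ({a, b} : Set R) = ⊤ := by
  set K := Subgroup.closure ({a, b} : Set R) with hK
  have haK : a ∈ K := Subgroup.subset_closure (by simp)
  have hbK : b ∈ K := Subgroup.subset_closure (by simp)
  have hle : Subgroup.zpowers a ≤ K := (Subgroup.zpowers_le).mpr haK
  have h3 : Nat.card (Subgroup.zpowers a) = 3 := by rw [Nat.card_zpowers, ha]
  have hd1 : 3 ∣ Nat.card K := by rw [← h3]; exact Subgroup.card_dvd_of_le hle
  have hd2 : Nat.card K ∣ 9 := (Subgroup.card_subgroup_dvd_card K).trans hR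
  have hne : Nat.card K ≠ 3 := by
    intro h
    have := Subgroup.eq_of_le_of_card_ge hle (by rw [h, h3])
    exact hb (this ▸ hbK)
  have h9 : Nat.card K = 9 := by
    have hle9 : Nat.card K ≤ 9 := Nat.le_of_dvd (by norm_num) hd2
    have hpos : 0 < Nat.card K := Nat.card_pos
    interval_cases h : Nat.card K <;> omega
  have hR9 : Nat.card R = 9 := by
    have h1 : Nat.card K ∣ Nat.card R := Subgroup.card_subgroup_dvd_card K
    rw [h9] at h1
    exact Nat.dvd_antisymm hR h1
  exact (Subgroup.card_eq_iff_eq_top K).mp (by rw [h9, hR9])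

/-- **A 2-group of automorphisms of a group of order dividing 9 has order at most 16.** -/
theorem card_le_of_two_group_aut {R : Type*} [Group R] [Finite R] (hR : Nat.card R ∣ 9)
    (A : Subgroup (MulAut R)) [Finite A] (hA : IsPGroup 2 A) : Nat.card A ≤ 16 := by
  classical
  by_cases h1 : Nat.card R = 1
  · haveI : Subsingleton R := (Nat.card_eq_one_iff_unique.mp h1).1
    haveI : Subsingleton (MulAut R) := ⟨fun f g => MulEquiv.ext (fun x => Subsingleton.elim _ _)⟩
    have : Nat.card A ≤ 1 := Finite.card_le_one_iff_subsingleton.mpr inferInstance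
    omega
  have h3R : 3 ∣ Nat.card R := by
    have hle9 : Nat.card R ≤ 9 := Nat.le_of_dvd (by norm_num) hR
    have hpos : 0 < Nat.card R := Nat.card_pos
    interval_cases h : Nat.card R <;> omega
  haveI : Fact (Nat.Prime 3) := ⟨by norm_num⟩
  haveI : Fact (Nat.Prime 2) := ⟨by norm_num⟩
  obtain ⟨a, ha⟩ := exists_prime_orderOf_dvd_card' 3 h3R
  have ha1 : a ≠ 1 := by
    intro h; rw [h, orderOf_one] at ha; omega
  -- orbit-stabiliser
  haveI : Fintype A := Fintype.ofFinite _
  haveI : Fintype (MulAction.orbit A a) := Fintype.ofFinite _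
  haveI : Fintype (MulAction.stabilizer A a) := Fintype.ofFinite _
  have hos := MulAction.card_orbit_mul_card_stabilizer_eq_card_group A a
  simp only [← Nat.card_eq_fintype_card] at hos
  -- the orbit avoids 1
  have horb : Nat.card (MulAction.orbit A a) ≤ 8 := by
    have hsub : MulAction.orbit A a ⊆ ({1}ᶜ : Set R) := by
      rintro x ⟨g, rfl⟩
      simp only [Set.mem_compl_iff, Set.mem_singleton_iff]
      intro h
      apply ha1
      have : (g : MulAut R) a = 1 := h
      exact (map_eq_one_iff _ (g : MulAut R).injective).mp this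
    have h2 : (MulAction.orbit A a).ncard ≤ ({1}ᶜ : Set R).ncard :=
      Set.ncard_le_ncard hsub (Set.toFinite _)
    rw [Set.ncard_compl, Set.ncard_singleton] at h2
    have hle9 : Nat.card R ≤ 9 := Nat.le_of_dvd (by norm_num) hR
    rw [← Nat.card_coe_set_eq] at h2
    omega
  -- the stabiliser has order ≤ 2
  set Q := MulAction.stabilizer A a with hQ
  have hQfix : ∀ q : Q, ((q : A) : MulAut R) a = a := fun q => q.2
  have hQ2 : Nat.card Q ≤ 2 := by
    by_cases hz : Subgroup.zpowers a = ⊤
    · have : Subsingleton Q := by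
        constructor
        intro q q'
        apply Subtype.ext; apply Subtype.ext
        apply MulEquiv.ext
        intro x
        have hx : x ∈ Subgroup.zpowers a := by rw [hz]; trivial
        rw [aut_fix_zpowers _ a (hQfix q) x hx, aut_fix_zpowers _ a (hQfix q') x hx]
      have : Nat.card Q ≤ 1 := Finite.card_le_one_iff_subsingleton.mpr this
      omega
    · -- the action on the complement of `zpowers a`
      let T : SubMulAction Q R :=
        { carrier := {b | b ∉ Subgroup.zpowers a}
          smul_mem' := by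
            intro q b hb hqb
            apply hb
            have hq' : ((q : A) : MulAut R)⁻¹ a = a := by
              have := hQfix q
              calc ((q : A) : MulAut R)⁻¹ a = ((q : A) : MulAut R)⁻¹ (((q : A) : MulAut R) a) := by rw [this]
                _ = a := by simp
            have h2 : ((q : A) : MulAut R)⁻¹ (q • b) = b := by
              show ((q : A) : MulAut R)⁻¹ (((q : A) : MulAut R) b) = b
              simp
            have h4 : ((q : A) : MulAut R)⁻¹ (q • b) ∈ Subgroup.zpowers a := by
              rw [aut_fix_zpowers _ a hq' _ hqb]; exact hqb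
            rw [h2] at h4
            exact h4 }
      have hTmem : ∀ b : T, (b : R) ∉ Subgroup.zpowers a := fun b => b.2
      have hfree : ∀ b : T, MulAction.stabilizer Q b = ⊥ := by
        intro b
        rw [eq_bot_iff]
        intro q hq
        rw [MulAction.mem_stabilizer_iff] at hq
        have hqb : ((q : A) : MulAut R) (b : R) = b := by
          have := congrArg (fun t : T => (t : R)) hq
          exact this
        have htop := closure_pair_eq_top hR a (b : R) ha (hTmem b)
        rw [Subgroup.mem_bot]
        apply Subtype.ext; apply Subtype.ext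
        apply MulEquiv.ext
        intro x
        have hx : x ∈ Subgroup.closure ({a, (b : R)} : Set R) := by rw [htop]; trivial
        simpa using aut_fix_closure _ a (b : R) (hQfix q) hqb x hx
      have hdvd := card_dvd_of_free hfree
      -- |T| = |R| - 3
      have hTcard : Nat.card T = Nat.card R - 3 := by
        have : Nat.card T = ((Subgroup.zpowers a : Set R)ᶜ).ncard := by
          rw [← Nat.card_coe_set_eq]; rfl
        rw [this, Set.ncard_compl, ← Nat.card_coe_set_eq]
        have h3 : Nat.card (Subgroup.zpowers a) = 3 := by rw [Nat.card_zpowers, ha]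
        rw [← h3]; rfl
      have hR9 : Nat.card R = 9 := by
        have hne3 : Nat.card R ≠ 3 := by
          intro h
          apply hz
          apply (Subgroup.card_eq_iff_eq_top _).mp
          rw [Nat.card_zpowers, ha, h]
        have hle9 : Nat.card R ≤ 9 := Nat.le_of_dvd (by norm_num) hR
        have hpos : 0 < Nat.card R := Nat.card_pos
        interval_cases h : Nat.card R <;> omega
      rw [hTcard, hR9] at hdvd
      -- |Q| is a power of 2 dividing 6
      have hQp : IsPGroup 2 Q := hA.to_subgroup Q
      obtain ⟨k, hk⟩ := IsPGroup.iff_card.mp hQp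
      rw [hk] at hdvd ⊢
      have : k ≤ 1 := by
        by_contra hk2
        rw [not_le] at hk2
        have h4 : (4 : ℕ) ∣ 2 ^ k := by
          have : (2 : ℕ) ^ 2 ∣ 2 ^ k := pow_dvd_pow 2 hk2
          simpa using this
        have := h4.trans hdvd
        omega
      interval_cases k <;> norm_num
  calc Nat.card A = Nat.card (MulAction.orbit A a) * Nat.card Q := hos.symm
    _ ≤ 8 * 2 := Nat.mul_le_mul horb hQ2
    _ = 16 := by norm_num

/-- **P23**: a group of order `2^5 * 3^b`, `b ≤ 2`, has `O_2 ≠ 1`. -/
theorem pCore_two_ne_bot_of_card {M : Type*} [Group M] [Finite M] (b : ℕ) (hb : b ≤ 2)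
    (hcard : Nat.card M = 2 ^ 5 * 3 ^ b) : Cfsg.pCore 2 M ≠ ⊥ := by
  intro h0
  haveI : Fact (Nat.Prime 2) := ⟨by norm_num⟩
  haveI : Fact (Nat.Prime 3) := ⟨by norm_num⟩
  have hs : Group.IsSolvable M :=
    Cfsg.Agent.Lib.H23.isSolvable_of_card_eq_prime_pow_mul_prime_pow 2 3 5 b
      (by norm_num) (by norm_num) hcard
  -- `O_{3'} = 1`
  have hO : pPrimeCore 3 M = ⊥ := by
    have hc := Cfsg.Agent.Lib.H22.card_pPrimeCore_coprime (G := M) 3
    have hd : Nat.card (pPrimeCore 3 M) ∣ 2 ^ 5 * 3 ^ b :=
      hcard ▸ Subgroup.card_subgroup_dvd_card _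
    have hd2 : Nat.card (pPrimeCore 3 M) ∣ 2 ^ 5 :=
      (Nat.Coprime.pow_right b hc).dvd_of_dvd_mul_right hd
    have hp : IsPGroup 2 (pPrimeCore 3 M) := by
      obtain ⟨k, _, hk⟩ := (Nat.dvd_prime_pow Nat.prime_two).mp hd2
      exact IsPGroup.of_card hk
    have := Cfsg.Agent.Lib.H1.le_pCore (Cfsg.Agent.Lib.H22.pPrimeCore_normal 3) hp
    rw [h0] at this
    exact le_bot_iff.mp this
  have hC := Cfsg.Agent.Lib.H16.centralizer_pCore_le_of_isSolvable 3 hs hO
  set R := pCore 3 M with hR
  haveI : R.Normal := Cfsg.Agent.Lib.H1.pCore_normal 3 M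
  have hRp : IsPGroup 3 R := Cfsg.Agent.Lib.H1.pCore_isPGroup 3 M
  have hR9 : Nat.card R ∣ 9 := by
    obtain ⟨k, hk⟩ := IsPGroup.iff_card.mp hRp
    have hd : Nat.card R ∣ 2 ^ 5 * 3 ^ b := hcard ▸ Subgroup.card_subgroup_dvd_card _
    rw [hk] at hd ⊢
    have h1 : 3 ^ k ∣ 3 ^ b :=
      (Nat.Coprime.pow k 5 (by norm_num : Nat.Coprime 3 2)).dvd_of_dvd_mul_left hd
    have h2 : (3 : ℕ) ^ b ∣ 3 ^ 2 := pow_dvd_pow 3 hb
    exact h1.trans (by simpa using h2)
  -- a Sylow 2-subgroup has order 32
  obtain ⟨P⟩ : Nonempty (Sylow 2 M) := inferInstance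
  have hP32 : Nat.card P = 32 := by
    obtain ⟨k, hk⟩ := IsPGroup.iff_card.mp P.2
    have hcop := P.card_coprime_index
    have hmul := (P : Subgroup M).card_mul_index
    rw [hcard, hk] at hmul
    rw [hk] at hcop ⊢
    have h1 : 2 ^ k ∣ 2 ^ 5 := by
      have : 2 ^ k ∣ 2 ^ 5 * 3 ^ b := ⟨_, hmul.symm⟩
      exact (Nat.Coprime.pow k b (by norm_num : Nat.Coprime 2 3)).dvd_of_dvd_mul_right this
    have h2 : 2 ^ 5 ∣ 2 ^ k := by
      have : 2 ^ 5 ∣ 2 ^ k * (P : Subgroup M).index := ⟨3 ^ b, hmul⟩
      have hc5 : Nat.Coprime (2 ^ 5) ((P : Subgroup M).index) := by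
        rcases Nat.eq_zero_or_pos k with hk0 | hk0
        · exfalso
          subst hk0
          simp only [pow_zero, one_mul] at hmul
          have h2dvd : 2 ∣ (P : Subgroup M).index := by rw [hmul]; exact ⟨2 ^ 4 * 3 ^ b, by ring⟩
          have := P.not_dvd_index
          exact this h2dvd
        · have : Nat.Coprime 2 ((P : Subgroup M).index) :=
            Nat.Coprime.coprime_dvd_left (dvd_pow_self 2 hk0.ne') hcop
          exact Nat.Coprime.pow_left 5 this
      exact hc5.dvd_of_dvd_mul_right this
    exact Nat.dvd_antisymm h1 h2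
  -- `P` acts faithfully on `R`
  let φ : (P : Subgroup M) →* MulAut R := (MulAut.conjNormal (H := R)).comp (P : Subgroup M).subtype
  have hdisj : Disjoint (P : Subgroup M) R := IsPGroup.disjoint_of_ne 2 3 (by norm_num) _ _ P.2 hRp
  have hinj : Function.Injective φ := by
    rw [injective_iff_map_eq_one]
    intro g hg
    have hgC : (g : M) ∈ Subgroup.centralizer (R : Set M) := by
      rw [Subgroup.mem_centralizer_iff]
      intro r hr
      have h1 := congrArg (fun f : MulAut R => ((f ⟨r, hr⟩ : R) : M)) hg
      simp only [φ, MonoidHom.comp_apply, Subgroup.coe_subtype, MulAut.conjNormal_apply,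
        MulAut.one_apply] at h1
      rw [mul_inv_eq_iff_eq_mul] at h1
      exact h1.symm
    have hgR : (g : M) ∈ R := hC hgC
    have := hdisj.le_bot ⟨g.2, hgR⟩
    rw [Subgroup.mem_bot] at this
    exact Subtype.ext this
  have hAcard : Nat.card φ.range = 32 := by
    rw [← hP32]
    exact (Nat.card_congr (MonoidHom.ofInjective hinj).toEquiv).symm
  have hA : IsPGroup 2 φ.range := by
    apply IsPGroup.of_card (n := 5)
    rw [hAcard]; norm_num
  haveI : Finite φ.range := Nat.finite_of_card_ne_zero (by rw [hAcard]; norm_num)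
  have := card_le_of_two_group_aut hR9 φ.range hA
  omega

end Cfsg.Agent.Lib.H24.OG
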