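/-
S2936 piece P7 (helper28's farm-out #4748, done by helper24): a group of order `2^5 * 3^c * 7`, `c ≤ 1`,
has an element of order 14.  Route: `X` a Sylow 7-subgroup; with no element of order 14 the centraliser
`C(X)` has odd order, `N(X)/C(X)` embeds in `Aut(C_7) = C_6`, so `16 ∣ n_7`, `n_7 ∣ 672`,
`n_7 ≡ 1 mod 7`: impossible.
-/
import Mathlib

set_option autoImplicit false

namespace Cfsg.Agent.Lib.H24.OG

/-- the order of a Sylow `p`-subgroup of a group of order `p^a * m`, `p ∤ m` -/
theorem sylow_card_of_card_eq {G : Type*} [Group G] [Finite G] {p : ℕ} [hp : Fact p.Prime]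
    (P : Sylow p G) (a m : ℕ) (hm : ¬ p ∣ m) (h : Nat.card G = p ^ a * m) :
    Nat.card P = p ^ a := by
  rw [P.card_eq_multiplicity, h]
  have hm0 : m ≠ 0 := by rintro rfl; exact hm (dvd_zero p)
  rw [Nat.factorization_mul (pow_ne_zero a hp.out.ne_zero) hm0, Finsupp.add_apply,
    hp.out.factorization_pow, Finsupp.single_eq_same, Nat.factorization_eq_zero_of_not_dvd hm,
    add_zero]

theorem arith_P7 : ∀ k : ℕ, k ≤ 42 → 16 * k ∣ 672 → (16 * k) % 7 = 1 → False := by decide

/-- **P7**: no group of order `2^5 * 3^c * 7`, `c ≤ 1`, is without elements of order 14. -/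
theorem false_of_card_of_no_fourteen {M : Type*} [Group M] [Finite M] (c : ℕ) (hc : c ≤ 1)
    (hcard : Nat.card M = 2 ^ 5 * 3 ^ c * 7) (h14 : ∀ g : M, orderOf g ≠ 14) : False := by
  classical
  haveI : Fact (Nat.Prime 2) := ⟨by norm_num⟩
  haveI : Fact (Nat.Prime 7) := ⟨by norm_num⟩
  obtain ⟨X⟩ : Nonempty (Sylow 7 M) := inferInstance
  have hX7 : Nat.card X = 7 := by
    have := sylow_card_of_card_eq X 1 (2 ^ 5 * 3 ^ c) ?_ (by rw [hcard]; ring)
    · simpa using this
    · intro h
      have h7 : Nat.Prime 7 := by norm_num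
      rcases (Nat.Prime.dvd_mul h7).mp h with h | h
      · have := h7.dvd_of_dvd_pow h; omega
      · have := h7.dvd_of_dvd_pow h; omega
  -- a generator of `X`
  obtain ⟨x, hx⟩ := exists_prime_orderOf_dvd_card' (G := X) 7 (by rw [hX7])
  have hxo : orderOf (x : M) = 7 := by rw [Subgroup.orderOf_coe]; exact hx
  -- the centraliser has odd order
  set C := Subgroup.centralizer ((X : Subgroup M) : Set M) with hC
  set N := Subgroup.normalizer ((X : Subgroup M) : Set M) with hN
  have hCodd : ¬ 2 ∣ Nat.card C := by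
    intro h2
    obtain ⟨t, ht⟩ := exists_prime_orderOf_dvd_card' (G := C) 2 h2
    have hto : orderOf (t : M) = 2 := by rw [Subgroup.orderOf_coe]; exact ht
    have hcomm : Commute (t : M) (x : M) := by
      have := (Subgroup.mem_centralizer_iff.mp t.2) (x : M) x.2
      exact this.symm
    have := hcomm.orderOf_mul_eq_mul_orderOf_of_coprime (by rw [hto, hxo]; norm_num)
    rw [hto, hxo] at this
    exact h14 _ this
  -- `N/C` embeds in `Aut X`, of order 6
  have hCN : C ≤ N := Subgroup.centralizer_le_normalizer _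
  have hj : C.relIndex N ∣ 6 := by
    have key := Subgroup.card_dvd_of_injective _
      (QuotientGroup.kerLift_injective (X : Subgroup M).normalizerMonoidHom)
    rw [Subgroup.normalizerMonoidHom_ker, ← Subgroup.index, ← Subgroup.relIndex] at key
    haveI : IsCyclic (X : Subgroup M) := isCyclic_of_prime_card hX7
    rw [IsCyclic.card_mulAut, hX7, Nat.totient_prime (by norm_num)] at key
    exact key
  -- count
  have hn7 : Nat.card (Sylow 7 M) = N.index := X.card_eq_index_normalizer
  have hmod : N.index % 7 = 1 := by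
    have := card_sylow_modEq_one 7 M
    rw [hn7] at this
    exact this
  have h1 : C.relIndex N * N.index = C.index := Subgroup.relIndex_mul_index hCN
  have h2 : Nat.card C * C.index = Nat.card M := C.card_mul_index
  rw [← h1, hcard] at h2
  -- arithmetic
  set c0 := Nat.card C with hc0
  set j := C.relIndex N with hjdef
  set n := N.index with hndef
  have hjpos : 0 < j := Nat.pos_of_dvd_of_pos hj (by norm_num)
  have hjle : j ≤ 6 := Nat.le_of_dvd (by norm_num) hj
  have h32 : 2 ^ 5 ∣ j * n := by
    have hd : 2 ^ 5 ∣ c0 * (j * n) := ⟨3 ^ c * 7, by rw [h2]; ring⟩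
    have hcop : Nat.Coprime (2 ^ 5) c0 :=
      Nat.Coprime.pow_left 5 ((Nat.Prime.coprime_iff_not_dvd Nat.prime_two).mpr hCodd)
    exact hcop.dvd_of_dvd_mul_left hd
  have h16 : 16 ∣ n := by
    obtain ⟨e, he⟩ := h32
    interval_cases j
    · omega
    · omega
    · omega
    · exfalso; revert hj; norm_num
    · exfalso; revert hj; norm_num
    · omega
  have hn672 : n ∣ 672 := by
    have hd : n ∣ 2 ^ 5 * 3 ^ c * 7 := ⟨c0 * j, by rw [← h2]; ring⟩
    have hle : (2 ^ 5 * 3 ^ c * 7 : ℕ) ∣ 672 := by
      interval_cases c <;> norm_num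
    exact hd.trans hle
  obtain ⟨k, hk⟩ := h16
  have hkle : k ≤ 42 := by
    have := Nat.le_of_dvd (by norm_num) hn672
    omega
  exact arith_P7 k hkle (hk ▸ hn672) (hk ▸ hmod)

end Cfsg.Agent.Lib.H24.OG
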