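import Mathlib
import Cfsg.Agent.Lib.H24.OSfC

/-!
# Subfield subgroups of `Ω(Q)` (part D): the case `Λ = F₀`, rationality of Siegel elements with a
rational centre, and eigenvalues on rational singular vectors
-/

set_option autoImplicit false
set_option linter.unusedSimpArgs false
set_option linter.unusedSectionVars false
set_option linter.unusedVariables false

namespace Cfsg.Agent.Lib.H24.OSf

open Matrix Module
open Cfsg.Agent.Lib.H10.Sf
open Cfsg.Agent.Lib.H28 Cfsg.Agent.Lib.H11.SubspMax
open Cfsg.Agent.Lib.H11.CD Cfsg.Agent.Lib.H11.SiegelGen Cfsg.Agent.Lib.H11.OrMax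
open Cfsg.Agent.Lib.H11.OmTs

variable {F : Type*} [Field F] {n : ℕ} {Q : QuadraticForm F (Fin n → F)} {F₀ : Subfield F}
  {H : Subgroup (GL (Fin n) F)}

set_option quotPrecheck false in
local notation "P" => QuadraticMap.polar (⇑Q)

section repr

variable [Fintype F] (hr : RatForm Q F₀) (hQ : (QuadraticMap.polarBilin Q).Nondegenerate)
include hr hQ

/-- a vector all of whose pairings with the rational vectors are zero is zero -/
theorem eq_zero_of_polar_rat (v : Fin n → F) (hv : ∀ w, IsRat F₀ w → P v w = 0) : v = 0 :=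
  eq_zero_of_polar_ee hQ v (fun i => hv _ (ee_rat i))

/-- **representation lemma**: a vector with rational pairings against the rational vectors of
`u^⊥` is rational modulo `u` -/
theorem exists_rat_sub (hn : 7 ≤ n) {u z : Fin n → F} (hu : IsRat F₀ u) (hu0 : u ≠ 0)
    (hQu : Q u = 0) (hz : ∀ w, IsRat F₀ w → P u w = 0 → P w z ∈ F₀) :
    ∃ s : F, IsRat F₀ (z - s • u) := by
  obtain ⟨f, hf, hQf, huf⟩ := exists_rat_partner hr hQ u hu hu0 hQu
  have hpr : ∀ v : Fin n → F, IsRat F₀ v → IsRat F₀ (v - P v u • f) := fun v hv =>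
    hv.sub (hf.smul (hr.polar hv hu))
  have hpu : ∀ v : Fin n → F, P u (v - P v u • f) = 0 := by
    intro v
    rw [QuadraticMap.polar_sub_right, QuadraticMap.polar_smul_right, huf, P_comm Q u v]
    simp
  -- the functional over `F₀`
  let φ₀ : (Fin n → F₀) →ₗ[F₀] F₀ :=
    { toFun := fun v => ⟨P (co v - P (co v) u • f) z, hz _ (hpr _ (co_rat v)) (hpu _)⟩
      map_add' := by
        intro v w
        apply Subtype.ext
        push_cast
        rw [co_add]
        simp only [QuadraticMap.polar_add_left, QuadraticMap.polar_sub_left,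
          QuadraticMap.polar_smul_left, smul_eq_mul]
        ring
      map_smul' := by
        intro c v
        apply Subtype.ext
        rw [RingHom.id_apply, smul_eq_mul]
        push_cast
        rw [co_smul]
        simp only [QuadraticMap.polar_sub_left, QuadraticMap.polar_smul_left, smul_eq_mul]
        ring }
  obtain ⟨p₀, hp₀⟩ := exists_fr (Q0 hr) (Q0_nondegenerate hr hQ) φ₀
  have hp : ∀ v : Fin n → F₀, P (co p₀) (co v) = P (co v - P (co v) u • f) z := by
    intro v
    have h1 := LinearMap.congr_fun hp₀ v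
    rw [fr_apply] at h1
    have h2 : ((φ₀ v : F₀) : F) = ((QuadraticMap.polar (⇑(Q0 hr)) p₀ v : F₀) : F) := by rw [h1]
    rw [coe_polar_Q0] at h2
    rw [← h2]
    rfl
  refine ⟨P z f, ?_⟩
  have hkey : z - P z f • u - co p₀ = 0 := by
    apply eq_zero_of_polar_rat hr hQ
    intro v hv
    have h1 := hp (lift v hv)
    rw [co_lift] at h1
    rw [QuadraticMap.polar_sub_left, QuadraticMap.polar_sub_left, QuadraticMap.polar_smul_left, h1,
      QuadraticMap.polar_sub_left, QuadraticMap.polar_smul_left, P_comm Q v z, P_comm Q f z,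
      P_comm Q u v]
    simp only [smul_eq_mul]
    ring
  have : z - P z f • u = co p₀ := sub_eq_zero.1 hkey
  rw [this]
  exact co_rat p₀

end repr

section lam0

variable [Fintype F] (hr : RatForm Q F₀) (hQ : (QuadraticMap.polarBilin Q).Nondegenerate)
  (hn : 11 ≤ n) (hKH : KKO Q F₀ ≤ H) (hL : ∀ c, c ∈ LamSet Q F₀ H → c ∈ F₀)
include hr hQ hn hKH hL

/-- pairings of `w` with rational singular vectors of `u^⊥`, for `sg u w ∈ H` -/
theorem polar_mem_of_inH {u w b : Fin n → F} (hu : IsRat F₀ u) (hu0 : u ≠ 0) (hQu : Q u = 0)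
    (huw : P u w = 0) (hw : InH Q H u w) (hb : IsRat F₀ b) (hQb : Q b = 0) (hub : P u b = 0) :
    P b w ∈ F₀ := by
  obtain ⟨a, b', a', f', ha, hb', ha', hf', hQa, hQb', hab', hQa', hQf', ha'f', haa', haf', hb'a',
    hb'f', hva, hvb', hva', hvf'⟩ := exists_rat_two_hyp_perp hr hQ ![u, b]
    (by
      intro i
      fin_cases i
      · exact hu
      · exact hb)
    (by omega)
  have hua : P u a = 0 := hva 0
  have hba : P b a = 0 := hva 1
  have hub' : P u b' = 0 := hvb' 0
  have hbb' : P b b' = 0 := hvb' 1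
  have hua' : P u a' = 0 := hva' 0
  have hba' : P b a' = 0 := hva' 1
  have huf' : P u f' = 0 := hvf' 0
  have hau : P a u = 0 := by rw [P_comm]; exact hua
  have hbu : P b u = 0 := by rw [P_comm]; exact hub
  have hab : P a b = 0 := by rw [P_comm]; exact hba
  -- first conjugation
  have hτ : ((sg Q a b : ↥(Cfsg.isometryGroup F ⇑Q)) : GL (Fin n) F) ∈ H :=
    inH_rat hr hQ (by omega) hKH ha hb hQa hab
  have h1 := inH_conj (sg Q a b) hτ hQu huw hw
  have e1 : act Q (sg Q a b) u = u := by
    rw [sg_act Q a b hQa hab, hau, hbu]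
    simp
  have e2 : act Q (sg Q a b) w = w + P a w • b - P b w • a := by
    rw [sg_act Q a b hQa hab, hQb]
    simp
  rw [e1, e2] at h1
  have p1 : P u (w + P a w • b - P b w • a) = 0 := by
    rw [QuadraticMap.polar_sub_right, QuadraticMap.polar_add_right, QuadraticMap.polar_smul_right,
      QuadraticMap.polar_smul_right, huw, hub, hua]
    simp
  have h2 := inH_add hQu p1 (by rw [QuadraticMap.polar_neg_right, huw, neg_zero]) h1
    (inH_neg hQu huw hw)
  obtain ⟨w', hw'⟩ : ∃ w', w' = P a w • b - P b w • a := ⟨_, rfl⟩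
  have e3 : w + P a w • b - P b w • a + -w = w' := by rw [hw']; abel
  rw [e3] at h2
  have huw' : P u w' = 0 := by
    rw [hw', QuadraticMap.polar_sub_right, QuadraticMap.polar_smul_right,
      QuadraticMap.polar_smul_right, hub, hua]
    simp
  -- second conjugation
  have ha'b' : P a' b' = 0 := by rw [P_comm]; exact hb'a'
  have hτ' : ((sg Q a' b' : ↥(Cfsg.isometryGroup F ⇑Q)) : GL (Fin n) F) ∈ H :=
    inH_rat hr hQ (by omega) hKH ha' hb' hQa' ha'b'
  have h3 := inH_conj (sg Q a' b') hτ' hQu huw' h2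
  have e4 : act Q (sg Q a' b') u = u := by
    rw [sg_act Q a' b' hQa' ha'b', P_comm Q a' u, hua', P_comm Q b' u, hub']
    simp
  have e5 : act Q (sg Q a' b') w' = w' + P b w • a' := by
    rw [sg_act Q a' b' hQa' ha'b', hQb', hw']
    simp only [QuadraticMap.polar_sub_right, QuadraticMap.polar_smul_right, P_comm Q a' b, hba',
      P_comm Q a' a, haa', P_comm Q b' b, hbb', P_comm Q b' a, hab', smul_eq_mul, mul_zero,
      mul_one, sub_zero, zero_sub, zero_smul, add_zero, zero_mul, neg_smul, sub_neg_eq_add]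
  rw [e4, e5] at h3
  have p2 : P u (w' + P b w • a') = 0 := by
    rw [QuadraticMap.polar_add_right, QuadraticMap.polar_smul_right, huw', hua']
    simp
  have h4 := inH_add hQu p2 (by rw [QuadraticMap.polar_neg_right, huw', neg_zero]) h3
    (inH_neg hQu huw' h2)
  have e6 : w' + P b w • a' + -w' = P b w • a' := by abel
  rw [e6] at h4
  have ha'f'' : P a' f' ≠ 0 := by rw [ha'f']; exact one_ne_zero
  have t : TSP Q F₀ u a' := ⟨hu, ha', hQu, hQa', hua', li_pair hu0 ha'f'' huf'⟩
  exact hL _ (mem_LamSet_of hr hQ hn hKH t h4)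

/-- pairings of `w` with rational vectors of `u^⊥`, for `sg u w ∈ H` -/
theorem polar_mem_of_inH' {u w v : Fin n → F} (hu : IsRat F₀ u) (hu0 : u ≠ 0) (hQu : Q u = 0)
    (huw : P u w = 0) (hw : InH Q H u w) (hv : IsRat F₀ v) (huv : P u v = 0) :
    P v w ∈ F₀ := by
  obtain ⟨e, f, he, hf, hQe, hQf, hef, hve, hvf⟩ := exists_rat_hyp_perp hr hQ ![u, v]
    (by
      intro i
      fin_cases i
      · exact hu
      · exact hv)
    (by omega)
  have hue : P u e = 0 := hve 0
  have hve' : P v e = 0 := hve 1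
  have huf : P u f = 0 := hvf 0
  have hvf' : P v f = 0 := hvf 1
  obtain ⟨v₁, hv₁⟩ : ∃ v₁, v₁ = v + e - Q v • f := ⟨_, rfl⟩
  have hv₁r : IsRat F₀ v₁ := by
    rw [hv₁]; exact (hv.add he).sub (hf.smul (hr _ hv))
  have hQv₁ : Q v₁ = 0 := by
    rw [hv₁, Q_sub', Q_add, QuadraticMap.map_smul, hQe, hQf, QuadraticMap.polar_smul_right,
      QuadraticMap.polar_add_left, hve', hvf', hef]
    simp
  have huv₁ : P u v₁ = 0 := by
    rw [hv₁, QuadraticMap.polar_sub_right, QuadraticMap.polar_add_right,
      QuadraticMap.polar_smul_right, huv, hue, huf]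
    simp
  have k1 := polar_mem_of_inH hr hQ hn hKH hL hu hu0 hQu huw hw hv₁r hQv₁ huv₁
  have k2 := polar_mem_of_inH hr hQ hn hKH hL hu hu0 hQu huw hw he hQe hue
  have k3 := polar_mem_of_inH hr hQ hn hKH hL hu hu0 hQu huw hw hf hQf huf
  have e1 : P v w = P v₁ w - P e w + Q v * P f w := by
    rw [hv₁, QuadraticMap.polar_sub_left, QuadraticMap.polar_add_left,
      QuadraticMap.polar_smul_left, smul_eq_mul]
    ring
  rw [e1]
  exact F₀.add_mem (F₀.sub_mem k1 k2) (F₀.mul_mem (hr _ hv) k3)

/-- **rationality lemma**: a Siegel element of `H` with rational centre `u` has its second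
vector rational modulo `u` -/
theorem rat_of_inH {u w : Fin n → F} (hu : IsRat F₀ u) (hu0 : u ≠ 0) (hQu : Q u = 0)
    (huw : P u w = 0) (hw : InH Q H u w) : ∃ s : F, IsRat F₀ (w - s • u) :=
  exists_rat_sub hr hQ (by omega) hu hu0 hQu
    (fun v hv huv => polar_mem_of_inH' hr hQ hn hKH hL hu hu0 hQu huw hw hv huv)

/-- **eigenvalues**: an element of `H` with a rational singular eigenvector has an eigenvalue
whose square is rational -/
theorem sq_mem_of_eigen (g : ↥(Cfsg.isometryGroup F ⇑Q)) (hg : (g : GL (Fin n) F) ∈ H)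
    {u : Fin n → F} (hu : IsRat F₀ u) (hu0 : u ≠ 0) (hQu : Q u = 0) {μ : F}
    (hgu : act Q g u = μ • u) : μ * μ ∈ F₀ := by
  obtain ⟨e, f, he, hf, hQe, hQf, hef, hve, hvf⟩ := exists_rat_hyp_perp hr hQ ![u]
    (by
      intro i
      fin_cases i
      exact hu)
    (by omega)
  have hue : P u e = 0 := hve 0
  have huf : P u f = 0 := hvf 0
  have hμ0 : μ ≠ 0 := by
    rintro rfl
    rw [zero_smul] at hgu
    apply hu0
    have := congrArg (act Q g⁻¹) hgu
    rw [Cfsg.Agent.Lib.H11.OmegaTrans.act_act_inv, act_zero] at this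
    exact this
  have hQw : Q (e + f) = 1 := by rw [Q_add, hQe, hQf, hef]; ring
  have huw : P u (e + f) = 0 := by rw [QuadraticMap.polar_add_right, hue, huf, add_zero]
  have h1 : InH Q H u (e + f) := inH_rat hr hQ (by omega) hKH hu (he.add hf) hQu huw
  have h2 := inH_conj g hg hQu huw h1
  rw [hgu] at h2
  have hugw : P u (act Q g (e + f)) = 0 := by
    have h3 : P (act Q g u) (act Q g (e + f)) = 0 := by rw [polar_act, huw]
    rw [hgu, QuadraticMap.polar_smul_left, smul_eq_mul] at h3
    exact (mul_eq_zero.1 h3).resolve_left hμ0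
  have h4 : InH Q H u (μ • act Q g (e + f)) := by
    unfold InH
    rw [← sg_smul_left Q u _ μ hQu hugw]
    exact h2
  have p1 : P u (μ • act Q g (e + f)) = 0 := by
    rw [QuadraticMap.polar_smul_right, hugw, smul_zero]
  obtain ⟨s, hs⟩ := rat_of_inH hr hQ hn hKH hL hu hu0 hQu p1 h4
  have h5 := hr _ hs
  have e1 : Q (μ • act Q g (e + f) - s • u) = μ * μ := by
    rw [Q_sub', QuadraticMap.map_smul, QuadraticMap.map_smul, Q_act, hQw, hQu,
      QuadraticMap.polar_smul_left, QuadraticMap.polar_smul_right, P_comm Q _ u, hugw]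
    simp
  rw [e1] at h5
  exact h5

end lam0

end Cfsg.Agent.Lib.H24.OSf
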