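import Mathlib
import Cfsg.Agent.Lib.H24.OSfD

/-!
# Subfield subgroups of `Ω(Q)` (part E): the `SL₂` step

A long root element `sg x y` of `H` and the rational root group at a rational singular vector `u`
with `x ⟂ u`, `P y u = 1` act on the plane `⟨u, x⟩` as lower and upper unitriangular matrices.
If the pairings of `x` with rational vectors of `u^⊥` are not all proportional over `F₀`, Dickson's
theorem gives a diagonal element, whose eigenvalue on `u` has a non-rational square: impossible.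
-/

set_option autoImplicit false
set_option linter.unusedSimpArgs false
set_option linter.unusedSectionVars false
set_option linter.unusedVariables false

namespace Cfsg.Agent.Lib.H24.OSf

open Matrix Module
open Cfsg.Agent.Lib.H10.Sf
open Cfsg.Agent.Lib.H28 Cfsg.Agent.Lib.H11.SubspMax
open Cfsg.Agent.Lib.H11.CD Cfsg.Agent.Lib.H11.SiegelGen Cfsg.Agent.Lib.H11.OrMax
open Cfsg.Agent.Lib.H11.OmTs
open Cfsg.Agent.Lib.H4.Dickson

variable {F : Type*} [Field F] {n : ℕ} {Q : QuadraticForm F (Fin n → F)} {F₀ : Subfield F}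
  {H : Subgroup (GL (Fin n) F)}

set_option quotPrecheck false in
local notation "P" => QuadraticMap.polar (⇑Q)

/-- an element outside a finite subfield: its square or the square of its successor is outside -/
theorem exists_sq_notMem [Finite F] {t : F} (ht : t ∉ F₀) :
    t * t ∉ F₀ ∨ (t + 1) * (t + 1) ∉ F₀ := by
  by_contra hcon
  push Not at hcon
  obtain ⟨h1, h2⟩ := hcon
  have h3 : 2 * t ∈ F₀ := by
    have : 2 * t = (t + 1) * (t + 1) - t * t - 1 := by ring
    rw [this]
    exact F₀.sub_mem (F₀.sub_mem h2 h1) F₀.one_mem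
  by_cases h20 : (2 : F) = 0
  · -- characteristic two: squaring is a bijection of `F₀`
    have hinj : Function.Injective (fun x : F₀ => x * x) := by
      intro x y hxy
      have h4 : ((x : F) - y) * ((x : F) - y) = 0 := by
        have h5 : (x : F) * x = (y : F) * y := by
          have := congrArg (fun z : F₀ => (z : F)) hxy
          simpa using this
        have : ((x : F) - y) * ((x : F) - y) = (x : F) * x + (y : F) * y - 2 * ((x : F) * y) := by
          ring
        rw [this, h5, h20]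
        ring_nf
        rw [show (y : F) ^ 2 * 2 = (y : F) ^ 2 * (2 : F) from rfl, h20, mul_zero]
      have h6 : (x : F) - y = 0 := mul_self_eq_zero.1 h4
      exact Subtype.ext (sub_eq_zero.1 h6)
    obtain ⟨s, hs⟩ := (Finite.injective_iff_surjective.1 hinj) ⟨t * t, h1⟩
    have hs' : (s : F) * s = t * t := by
      have := congrArg (fun z : F₀ => (z : F)) hs
      simpa using this
    have h7 : (t - s) * (t - s) = 0 := by
      have : (t - s) * (t - s) = t * t + (s : F) * s - 2 * (t * s) := by ring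
      rw [this, hs', h20]
      ring_nf
      rw [show t ^ 2 * 2 = t ^ 2 * (2 : F) from rfl, h20, mul_zero]
    have h8 : t - s = 0 := mul_self_eq_zero.1 h7
    apply ht
    rw [sub_eq_zero.1 h8]
    exact s.2
  · apply ht
    have : t = (2 * t) * (2 : F)⁻¹ := by field_simp
    rw [this]
    exact F₀.mul_mem h3 (F₀.inv_mem (by
      have : (2 : F) = 1 + 1 := by norm_num
      rw [this]
      exact F₀.add_mem F₀.one_mem F₀.one_mem))

/-- the subgroup of `SL₂(F)` induced by `H` on the plane with basis `u, x` -/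
def Lsub2 (Q : QuadraticForm F (Fin n → F)) (H : Subgroup (GL (Fin n) F)) (u x : Fin n → F) :
    Subgroup (Matrix.SpecialLinearGroup (Fin 2) F) where
  carrier := {A | ∃ g : ↥(Cfsg.isometryGroup F ⇑Q), (g : GL (Fin n) F) ∈ H ∧
    act Q g u = A.1 0 0 • u + A.1 1 0 • x ∧ act Q g x = A.1 0 1 • u + A.1 1 1 • x}
  mul_mem' := by
    rintro A B ⟨g, hg, hgu, hgx⟩ ⟨g', hg', hg'u, hg'x⟩
    refine ⟨g * g', ?_, ?_, ?_⟩
    · rw [Subgroup.coe_mul]; exact H.mul_mem hg hg'
    · rw [act_mul, hg'u, act_add, act_smul, act_smul, hgu, hgx, Matrix.SpecialLinearGroup.coe_mul,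
        Matrix.mul_apply, Matrix.mul_apply, Fin.sum_univ_two, Fin.sum_univ_two]
      module
    · rw [act_mul, hg'x, act_add, act_smul, act_smul, hgu, hgx, Matrix.SpecialLinearGroup.coe_mul,
        Matrix.mul_apply, Matrix.mul_apply, Fin.sum_univ_two, Fin.sum_univ_two]
      module
  one_mem' := by
    refine ⟨1, ?_, ?_, ?_⟩
    · rw [Subgroup.coe_one]; exact H.one_mem
    · rw [act_one]; simp
    · rw [act_one]; simp
  inv_mem' := by
    rintro A ⟨g, hg, hgu, hgx⟩
    have hdet : A.1 0 0 * A.1 1 1 - A.1 0 1 * A.1 1 0 = 1 := by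
      have := A.2
      rw [Matrix.det_fin_two] at this
      exact this
    refine ⟨g⁻¹, ?_, ?_, ?_⟩
    · rw [Subgroup.coe_inv]; exact H.inv_mem hg
    · rw [Matrix.SpecialLinearGroup.coe_inv, Matrix.adjugate_fin_two]
      simp only [Matrix.of_apply, Matrix.cons_val_zero, Matrix.cons_val_one, Matrix.head_cons,
        Matrix.cons_val', Matrix.empty_val', Matrix.cons_val_fin_one]
      have h1 : act Q g (A.1 1 1 • u + (-A.1 1 0) • x) = u := by
        rw [act_add, act_smul, act_smul, hgu, hgx]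
        linear_combination (norm := module) hdet • u
      rw [← h1, Cfsg.Agent.Lib.H11.OmegaTrans.act_act_inv, h1]
    · rw [Matrix.SpecialLinearGroup.coe_inv, Matrix.adjugate_fin_two]
      simp only [Matrix.of_apply, Matrix.cons_val_zero, Matrix.cons_val_one, Matrix.head_cons,
        Matrix.cons_val', Matrix.empty_val', Matrix.cons_val_fin_one]
      have h1 : act Q g ((-A.1 0 1) • u + A.1 0 0 • x) = x := by
        rw [act_add, act_smul, act_smul, hgu, hgx]
        linear_combination (norm := module) hdet • x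
      rw [← h1, Cfsg.Agent.Lib.H11.OmegaTrans.act_act_inv, h1]

theorem mem_Lsub2 {u x : Fin n → F} (A : Matrix.SpecialLinearGroup (Fin 2) F) :
    A ∈ Lsub2 Q H u x ↔ ∃ g : ↥(Cfsg.isometryGroup F ⇑Q), (g : GL (Fin n) F) ∈ H ∧
      act Q g u = A.1 0 0 • u + A.1 1 0 • x ∧ act Q g x = A.1 0 1 • u + A.1 1 1 • x := Iff.rfl

section sl2

variable [Fintype F] (hr : RatForm Q F₀) (hQ : (QuadraticMap.polarBilin Q).Nondegenerate)
  (hn : 11 ≤ n) (hKH : KKO Q F₀ ≤ H) (hL : ∀ c, c ∈ LamSet Q F₀ H → c ∈ F₀)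
include hr hQ hn hKH hL

/-- **the `SL₂` step**: proportionality of the pairings -/
theorem pairing_ratio {x y u w₁ w₂ : Fin n → F} (hQx : Q x = 0) (hQy : Q y = 0) (hxy : P x y = 0)
    (hρ : InH Q H x y) (hu : IsRat F₀ u) (hu0 : u ≠ 0) (hQu : Q u = 0) (hxu : P x u = 0)
    (hyu : P y u = 1) (hw₁ : IsRat F₀ w₁) (hw₂ : IsRat F₀ w₂) (huw₁ : P u w₁ = 0)
    (huw₂ : P u w₂ = 0) (hb : P x w₂ ≠ 0) : P x w₁ / P x w₂ ∈ F₀ := by
  by_contra hcon
  obtain ⟨a, ha⟩ : ∃ a, a = P x w₁ := ⟨_, rfl⟩
  obtain ⟨b, hb'⟩ : ∃ b, b = P x w₂ := ⟨_, rfl⟩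
  rw [← ha, ← hb'] at hcon
  rw [← hb'] at hb
  have ha0 : a ≠ 0 := by
    rintro rfl
    apply hcon
    rw [zero_div]
    exact F₀.zero_mem
  have hux : P u x = 0 := by rw [P_comm]; exact hxu
  -- the lower unitriangular element
  have hll : ll (1 : F) ∈ Lsub2 Q H u x := by
    refine ⟨sg Q x (-y), ?_, ?_, ?_⟩
    · exact inH_neg hQx hxy hρ
    · rw [sg_act Q x (-y) hQx (by rw [QuadraticMap.polar_neg_right, hxy, neg_zero]), hxu,
        QuadraticMap.polar_neg_left, hyu, ll_val]
      simp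
    · rw [sg_act Q x (-y) hQx (by rw [QuadraticMap.polar_neg_right, hxy, neg_zero]), P_self, hQx,
        QuadraticMap.polar_neg_left, P_comm Q y x, hxy, ll_val]
      simp
  -- the upper unitriangular elements
  have huu : ∀ w : Fin n → F, IsRat F₀ w → P u w = 0 → uu (-(P x w)) ∈ Lsub2 Q H u x := by
    intro w hw huw
    refine ⟨sg Q u w, inH_rat hr hQ (by omega) hKH hu hw hQu huw, ?_, ?_⟩
    · rw [sg_act Q u w hQu huw, P_self, hQu, P_comm Q w u, huw, uu_val]
      simp
    · rw [sg_act Q u w hQu huw, hux, P_comm Q w x, uu_val]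
      simp
      module
  have hA := huu w₁ hw₁ huw₁
  have hB := huu w₂ hw₂ huw₂
  rw [← ha] at hA
  rw [← hb'] at hB
  have hab : -a ≠ -b := by
    intro h
    apply hcon
    rw [neg_inj] at h
    rw [h, div_self hb]
    exact F₀.one_mem
  have hab' : -a + -b ≠ 0 := by
    intro h
    apply hcon
    have : a = -b := by linear_combination -h
    rw [this, neg_div, div_self hb]
    exact F₀.neg_mem F₀.one_mem
  obtain ⟨S, hS, hle⟩ := exists_subfield_of_four (Lsub2 Q H u x) hll (neg_ne_zero.2 ha0)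
    (neg_ne_zero.2 hb) hab hab' hA hB
  have haS : -a ∈ S := (hS _).2 hA
  have hbS : -b ∈ S := (hS _).2 hB
  have htS : a / b ∈ S := by
    have : a / b = (-a) / (-b) := by rw [neg_div_neg_eq]
    rw [this]
    exact S.div_mem haS hbS
  -- an element of `S` whose square is not rational
  obtain ⟨ζ, hζS, hζ⟩ : ∃ ζ : F, ζ ∈ S ∧ ζ * ζ ∉ F₀ := by
    rcases exists_sq_notMem hcon with h | h
    · exact ⟨_, htS, h⟩
    · exact ⟨_, S.add_mem htS S.one_mem, h⟩
  have hζ0 : ζ ≠ 0 := by
    rintro rfl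
    apply hζ
    rw [mul_zero]
    exact F₀.zero_mem
  let ζ' : S := ⟨ζ, hζS⟩
  have hζ'0 : ζ' ≠ 0 := by
    intro h
    apply hζ0
    have : ((ζ' : S) : F) = ((0 : S) : F) := by rw [h]
    exact this
  let A₀ : Matrix.SpecialLinearGroup (Fin 2) S :=
    ⟨!![ζ', 0; 0, ζ'⁻¹], by rw [Matrix.det_fin_two_of]; simp [hζ'0]⟩
  have hmem : Matrix.SpecialLinearGroup.map (n := Fin 2) (S.subtype : ↥S →+* F) A₀ ∈
      Lsub2 Q H u x := hle ⟨A₀, rfl⟩
  have e : ∀ i j, ((Matrix.SpecialLinearGroup.map (n := Fin 2) (S.subtype : ↥S →+* F) A₀ :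
      Matrix.SpecialLinearGroup (Fin 2) F) : Matrix (Fin 2) (Fin 2) F) i j =
      ((A₀.1 i j : S) : F) := fun i j => rfl
  obtain ⟨g, hg, hgu, -⟩ := hmem
  rw [e, e] at hgu
  have e00 : ((A₀.1 0 0 : S) : F) = ζ := by simp [A₀, ζ']
  have e10 : ((A₀.1 1 0 : S) : F) = 0 := by simp [A₀, ζ']
  rw [e00, e10, zero_smul, add_zero] at hgu
  exact hζ (sq_mem_of_eigen hr hQ hn hKH hL g hg hu hu0 hQu hgu)

/-- the normalised form: `x` lies in the span of `u` and a rational vector -/
theorem mem_span_of_inH_norm {x y u : Fin n → F} (hQx : Q x = 0) (hQy : Q y = 0)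
    (hxy : P x y = 0) (hρ : InH Q H x y) (hu : IsRat F₀ u) (hu0 : u ≠ 0) (hQu : Q u = 0)
    (hxu : P x u = 0) (hyu : P y u = 1) :
    ∃ v₀ : Fin n → F, IsRat F₀ v₀ ∧ ∃ s t : F, x = s • u + t • v₀ := by
  obtain ⟨b, hb0, hb⟩ : ∃ b : F, b ≠ 0 ∧ ∀ w, IsRat F₀ w → P u w = 0 → b⁻¹ * P x w ∈ F₀ := by
    by_cases hall : ∀ w, IsRat F₀ w → P u w = 0 → P x w = 0
    · refine ⟨1, one_ne_zero, fun w hw huw => ?_⟩
      rw [hall w hw huw, mul_zero]
      exact F₀.zero_mem
    · push Not at hall
      obtain ⟨w₂, hw₂, huw₂, hb⟩ := hall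
      refine ⟨P x w₂, hb, fun w hw huw => ?_⟩
      have := pairing_ratio hr hQ hn hKH hL hQx hQy hxy hρ hu hu0 hQu hxu hyu hw hw₂ huw huw₂ hb
      rw [div_eq_mul_inv, mul_comm] at this
      exact this
  obtain ⟨s, hs⟩ := exists_rat_sub hr hQ (by omega) hu hu0 hQu (z := b⁻¹ • x)
    (by
      intro w hw huw
      rw [QuadraticMap.polar_smul_right, smul_eq_mul, P_comm Q w x]
      exact hb w hw huw)
  refine ⟨_, hs, b * s, b, ?_⟩
  rw [smul_sub, smul_smul, smul_smul, mul_inv_cancel₀ hb0, one_smul]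
  abel

omit [Fintype F] hr hQ hn hKH hL in
/-- a change of basis of the totally singular plane does not change the long root element -/
theorem sg_basis_change {x y : Fin n → F} (hQx : Q x = 0) (hQy : Q y = 0) (hxy : P x y = 0)
    (p q r s : F) (hdet : p * s - q * r = 1) :
    sg Q (p • x + q • y) (r • x + s • y) = sg Q x y := by
  have hyx : P y x = 0 := by rw [P_comm]; exact hxy
  have hxx : P x x = 0 := by rw [P_self, hQx, mul_zero]
  have hyy : P y y = 0 := by rw [P_self, hQy, mul_zero]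
  have h1 : Q (p • x + q • y) = 0 := by
    rw [Q_add, QuadraticMap.map_smul, QuadraticMap.map_smul, hQx, hQy,
      QuadraticMap.polar_smul_left, QuadraticMap.polar_smul_right, hxy]
    simp
  have h2 : Q (r • x + s • y) = 0 := by
    rw [Q_add, QuadraticMap.map_smul, QuadraticMap.map_smul, hQx, hQy,
      QuadraticMap.polar_smul_left, QuadraticMap.polar_smul_right, hxy]
    simp
  have h3 : P (p • x + q • y) (r • x + s • y) = 0 := by
    simp only [QuadraticMap.polar_add_left, QuadraticMap.polar_add_right,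
      QuadraticMap.polar_smul_left, QuadraticMap.polar_smul_right, hxy, hyx, hxx, hyy]
    simp
  apply el_ext
  intro z
  rw [sg_act Q _ _ h1 h3, sg_act Q x y hQx hxy, h2, hQy]
  simp only [QuadraticMap.polar_add_left, QuadraticMap.polar_smul_left, smul_eq_mul, zero_mul,
    zero_smul, sub_zero]
  linear_combination (norm := module) (P x z * hdet) • y - (P y z * hdet) • x

/-- **general form**: the point of the plane orthogonal to a rational singular `u` lies in the
span of `u` and a rational vector -/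
theorem mem_span_of_inH {x y u : Fin n → F} (hQx : Q x = 0) (hQy : Q y = 0) (hxy : P x y = 0)
    (hρ : InH Q H x y) (hu : IsRat F₀ u) (hu0 : u ≠ 0) (hQu : Q u = 0)
    (hne : P x u ≠ 0 ∨ P y u ≠ 0) :
    ∃ v₀ : Fin n → F, IsRat F₀ v₀ ∧ ∃ s t : F, P y u • x - P x u • y = s • u + t • v₀ := by
  obtain ⟨α, hα⟩ : ∃ α, α = P x u := ⟨_, rfl⟩
  obtain ⟨β, hβ⟩ : ∃ β, β = P y u := ⟨_, rfl⟩
  rw [← hα, ← hβ] at hne ⊢
  -- new basis
  obtain ⟨p, q, r, s, hdet, h1, h2⟩ : ∃ p q r s : F, p * s - q * r = 1 ∧ p = β ∧ q = -α ∧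
      True ∧ r * α + s * β = 1 ∧ True := by
    by_cases hβ0 : β = 0
    · have hα0 : α ≠ 0 := hne.resolve_right (not_not.2 hβ0)
      refine ⟨β, -α, α⁻¹, 0, ?_, rfl, rfl, trivial, ?_, trivial⟩
      · rw [hβ0]; field_simp; ring
      · field_simp; ring
    · refine ⟨β, -α, 0, β⁻¹, ?_, rfl, rfl, trivial, ?_, trivial⟩
      · field_simp; ring
      · field_simp; ring
  obtain ⟨hq, -, hrs, -⟩ := h2
  have hQx' : Q (p • x + q • y) = 0 := by
    rw [Q_add, QuadraticMap.map_smul, QuadraticMap.map_smul, hQx, hQy,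
      QuadraticMap.polar_smul_left, QuadraticMap.polar_smul_right, hxy]
    simp
  have hQy' : Q (r • x + s • y) = 0 := by
    rw [Q_add, QuadraticMap.map_smul, QuadraticMap.map_smul, hQx, hQy,
      QuadraticMap.polar_smul_left, QuadraticMap.polar_smul_right, hxy]
    simp
  have hyx : P y x = 0 := by rw [P_comm]; exact hxy
  have hxx : P x x = 0 := by rw [P_self, hQx, mul_zero]
  have hyy : P y y = 0 := by rw [P_self, hQy, mul_zero]
  have hxy' : P (p • x + q • y) (r • x + s • y) = 0 := by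
    simp only [QuadraticMap.polar_add_left, QuadraticMap.polar_add_right,
      QuadraticMap.polar_smul_left, QuadraticMap.polar_smul_right, hxy, hyx, hxx, hyy]
    simp
  have hρ' : InH Q H (p • x + q • y) (r • x + s • y) := by
    unfold InH
    rw [sg_basis_change hQx hQy hxy p q r s hdet]
    exact hρ
  have hx'u : P (p • x + q • y) u = 0 := by
    rw [QuadraticMap.polar_add_left, QuadraticMap.polar_smul_left, QuadraticMap.polar_smul_left,
      ← hα, ← hβ, h1, hq]
    simp only [smul_eq_mul]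
    ring
  have hy'u : P (r • x + s • y) u = 1 := by
    rw [QuadraticMap.polar_add_left, QuadraticMap.polar_smul_left, QuadraticMap.polar_smul_left,
      ← hα, ← hβ]
    exact hrs
  obtain ⟨v₀, hv₀, s', t', hst⟩ := mem_span_of_inH_norm hr hQ hn hKH hL hQx' hQy' hxy' hρ' hu hu0
    hQu hx'u hy'u
  refine ⟨v₀, hv₀, s', t', ?_⟩
  rw [← hst, h1, hq, neg_smul, sub_eq_add_neg]

end sl2

end Cfsg.Agent.Lib.H24.OSf
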