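import Mathlib
import Cfsg.Agent.Lib.H24.OSfE

/-!
# Subfield subgroups of `Ω(Q)` (part F): every long root element of `H` is rational (`Λ = F₀`)
-/

set_option autoImplicit false
set_option linter.unusedSimpArgs false
set_option linter.unusedSectionVars false
set_option linter.unusedVariables false

namespace Cfsg.Agent.Lib.H24.OSf

open Matrix Module
open Cfsg.Agent.Lib.H10.Sf
open Cfsg.Agent.Lib.H28 Cfsg.Agent.Lib.H11.SubspMax
open Cfsg.Agent.Lib.H11.CD Cfsg.Agent.Lib.H11.SiegelGen Cfsg.Agent.Lib.H11.OrMax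
open Cfsg.Agent.Lib.H11.OmTs

variable {F : Type*} [Field F] {n : ℕ} {Q : QuadraticForm F (Fin n → F)} {F₀ : Subfield F}
  {H : Subgroup (GL (Fin n) F)}

set_option quotPrecheck false in
local notation "P" => QuadraticMap.polar (⇑Q)

section span

variable [Fintype F] (hr : RatForm Q F₀) (hQ : (QuadraticMap.polarBilin Q).Nondegenerate)
include hr hQ

/-- a vector orthogonal to all rational singular vectors is zero -/
theorem eq_zero_of_polar_rat_sing (hn : 5 ≤ n) (v : Fin n → F)
    (hv : ∀ u, IsRat F₀ u → Q u = 0 → P v u = 0) : v = 0 := by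
  apply eq_zero_of_polar_ee hQ
  intro i
  obtain ⟨e, f, he, hf, hQe, hQf, hef, hve, hvf⟩ := exists_rat_hyp_perp hr hQ ![(ee i : Fin n → F)]
    (by
      intro j
      fin_cases j
      exact ee_rat i)
    (by omega)
  have hie : P (ee i) e = 0 := hve 0
  have hif : P (ee i) f = 0 := hvf 0
  obtain ⟨v₁, hv₁⟩ : ∃ v₁, v₁ = (ee i : Fin n → F) + e - Q (ee i) • f := ⟨_, rfl⟩
  have hv₁r : IsRat F₀ v₁ := by
    rw [hv₁]; exact ((ee_rat i).add he).sub (hf.smul (hr _ (ee_rat i)))
  have hQv₁ : Q v₁ = 0 := by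
    rw [hv₁, Q_sub', Q_add, QuadraticMap.map_smul, hQe, hQf, QuadraticMap.polar_smul_right,
      QuadraticMap.polar_add_left, hie, hif, hef]
    simp
  have h1 := hv v₁ hv₁r hQv₁
  have h2 := hv e he hQe
  have h3 := hv f hf hQf
  rw [hv₁, QuadraticMap.polar_sub_right, QuadraticMap.polar_add_right,
    QuadraticMap.polar_smul_right, h2, h3] at h1
  simpa using h1

/-- two rational singular vectors inducing independent functionals on a plane -/
theorem exists_two_rat_sing (hn : 5 ≤ n) {x y : Fin n → F} (hli : LinearIndependent F ![x, y]) :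
    ∃ u₁ u₂ : Fin n → F, IsRat F₀ u₁ ∧ IsRat F₀ u₂ ∧ Q u₁ = 0 ∧ Q u₂ = 0 ∧
      P x u₁ * P y u₂ - P x u₂ * P y u₁ ≠ 0 := by
  have hx0 : x ≠ 0 := by
    have := hli.ne_zero 0
    simpa using this
  obtain ⟨u₁, hu₁, hQu₁, hxu₁⟩ : ∃ u₁, IsRat F₀ u₁ ∧ Q u₁ = 0 ∧ P x u₁ ≠ 0 := by
    by_contra hcon
    push Not at hcon
    exact hx0 (eq_zero_of_polar_rat_sing hr hQ hn x (fun u hu hQu => hcon u hu hQu))
  by_contra hcon
  push Not at hcon
  have hz : P y u₁ • x - P x u₁ • y = 0 := by
    apply eq_zero_of_polar_rat_sing hr hQ hn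
    intro u hu hQu
    have := hcon u₁ u hu₁ hu hQu₁ hQu
    rw [QuadraticMap.polar_sub_left, QuadraticMap.polar_smul_left, QuadraticMap.polar_smul_left,
      smul_eq_mul, smul_eq_mul]
    linear_combination -this
  have h1 : P y u₁ • x + (-(P x u₁)) • y = 0 := by
    rw [neg_smul, ← sub_eq_add_neg]; exact hz
  have := (LinearIndependent.pair_iff.1 hli _ _ h1).2
  exact hxu₁ (neg_eq_zero.1 this)

end span

section root

variable [Fintype F] (hr : RatForm Q F₀) (hQ : (QuadraticMap.polarBilin Q).Nondegenerate)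
  (hn : 13 ≤ n) (hKH : KKO Q F₀ ≤ H) (hL : ∀ c, c ∈ LamSet Q F₀ H → c ∈ F₀)
include hr hQ hn hKH hL

/-- **every long root element of `H` is rational** -/
theorem rat_of_long_root {x y : Fin n → F} (hQx : Q x = 0) (hQy : Q y = 0) (hxy : P x y = 0)
    (hli : LinearIndependent F ![x, y]) (hρ : InH Q H x y) (w : Fin n → F) (hw : IsRat F₀ w) :
    IsRat F₀ (P x w • y - P y w • x) := by
  obtain ⟨u₁, u₂, hu₁, hu₂, hQu₁, hQu₂, hdet⟩ := exists_two_rat_sing hr hQ (by omega) hli
  have hu₁0 : u₁ ≠ 0 := by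
    rintro rfl
    apply hdet
    simp
  have hu₂0 : u₂ ≠ 0 := by
    rintro rfl
    apply hdet
    simp
  have hne₁ : P x u₁ ≠ 0 ∨ P y u₁ ≠ 0 := by
    by_contra hcon
    push Not at hcon
    apply hdet
    rw [hcon.1, hcon.2]; ring
  have hne₂ : P x u₂ ≠ 0 ∨ P y u₂ ≠ 0 := by
    by_contra hcon
    push Not at hcon
    apply hdet
    rw [hcon.1, hcon.2]; ring
  obtain ⟨v₁, hv₁, s₁, t₁, h1⟩ := mem_span_of_inH hr hQ (by omega) hKH hL hQx hQy hxy hρ hu₁ hu₁0
    hQu₁ hne₁
  obtain ⟨v₂, hv₂, s₂, t₂, h2⟩ := mem_span_of_inH hr hQ (by omega) hKH hL hQx hQy hxy hρ hu₂ hu₂0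
    hQu₂ hne₂
  obtain ⟨e, f, he, hf, hQe, hQf, hef, hve, hvf⟩ := exists_rat_hyp_perp hr hQ ![u₁, v₁, u₂, v₂, w]
    (by
      intro i
      fin_cases i
      · exact hu₁
      · exact hv₁
      · exact hu₂
      · exact hv₂
      · exact hw)
    (by omega)
  -- vectors orthogonal to `u₁, v₁, u₂, v₂` are orthogonal to `x` and `y`
  have hperp : ∀ z : Fin n → F, P u₁ z = 0 → P v₁ z = 0 → P u₂ z = 0 → P v₂ z = 0 →
      P x z = 0 ∧ P y z = 0 := by
    intro z a1 a2 a3 a4
    have k1 : P y u₁ * P x z - P x u₁ * P y z = 0 := by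
      have := congrArg (fun v => P v z) h1
      simp only [QuadraticMap.polar_sub_left, QuadraticMap.polar_add_left,
        QuadraticMap.polar_smul_left, a1, a2, smul_eq_mul, mul_zero, add_zero] at this
      exact this
    have k2 : P y u₂ * P x z - P x u₂ * P y z = 0 := by
      have := congrArg (fun v => P v z) h2
      simp only [QuadraticMap.polar_sub_left, QuadraticMap.polar_add_left,
        QuadraticMap.polar_smul_left, a3, a4, smul_eq_mul, mul_zero, add_zero] at this
      exact this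
    constructor
    · have : (P x u₁ * P y u₂ - P x u₂ * P y u₁) * P x z = 0 := by
        linear_combination P x u₁ * k2 - P x u₂ * k1
      exact (mul_eq_zero.1 this).resolve_left hdet
    · have : (P x u₁ * P y u₂ - P x u₂ * P y u₁) * P y z = 0 := by
        linear_combination P y u₁ * k2 - P y u₂ * k1
      exact (mul_eq_zero.1 this).resolve_left hdet
  obtain ⟨hxe, hye⟩ := hperp e (hve 0) (hve 1) (hve 2) (hve 3)
  obtain ⟨hxf, hyf⟩ := hperp f (hvf 0) (hvf 1) (hvf 2) (hvf 3)
  have hwe : P w e = 0 := hve 4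
  have hew : P e w = 0 := by rw [P_comm]; exact hwe
  have he0 : e ≠ 0 := by
    rintro rfl
    have : P (0 : Fin n → F) f = 0 := by simp
    rw [this] at hef
    exact zero_ne_one hef
  -- conjugate the rational Siegel element `sg e w` by the long root element
  have h3 : InH Q H e w := inH_rat hr hQ (by omega) hKH he hw hQe hew
  have h4 := inH_conj (sg Q x y) hρ hQe hew h3
  have e1 : act Q (sg Q x y) e = e := by
    rw [sg_act Q x y hQx hxy, hxe, hye]
    simp
  have e2 : act Q (sg Q x y) w = w + (P x w • y - P y w • x) := by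
    rw [sg_act Q x y hQx hxy, hQy]
    simp only [zero_mul, zero_smul, sub_zero]
    abel
  rw [e1, e2] at h4
  obtain ⟨N, hN⟩ : ∃ N, N = P x w • y - P y w • x := ⟨_, rfl⟩
  rw [← hN] at h4 ⊢
  have heN : P e N = 0 := by
    rw [hN, QuadraticMap.polar_sub_right, QuadraticMap.polar_smul_right,
      QuadraticMap.polar_smul_right, P_comm Q e y, hye, P_comm Q e x, hxe]
    simp
  have hfN : P N f = 0 := by
    rw [hN, QuadraticMap.polar_sub_left, QuadraticMap.polar_smul_left,
      QuadraticMap.polar_smul_left, hyf, hxf]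
    simp
  have h5 := inH_add hQe (by rw [QuadraticMap.polar_add_right, hew, heN, add_zero])
    (by rw [QuadraticMap.polar_neg_right, hew, neg_zero]) h4 (inH_neg hQe hew h3)
  have e3 : w + N + -w = N := by abel
  rw [e3] at h5
  obtain ⟨s, hs⟩ := rat_of_inH hr hQ (by omega) hKH hL he he0 hQe heN h5
  have h6 : P (N - s • e) f ∈ F₀ := hr.polar hs hf
  rw [QuadraticMap.polar_sub_left, QuadraticMap.polar_smul_left, hfN, hef] at h6
  have hsr : s ∈ F₀ := by
    have : s = -(0 - s • (1 : F)) := by simp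
    rw [this]
    exact F₀.neg_mem h6
  have : N = (N - s • e) + s • e := by abel
  rw [this]
  exact hs.add (he.smul hsr)

end root

end Cfsg.Agent.Lib.H24.OSf
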