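import Mathlib
import Cfsg.Agent.Lib.H24.OSfF

/-!
# Subfield subgroups of `Ω(Q)` (part G): `H ≤ KKO` when `Λ = F₀`

An element `h` of `H` conjugates the rational long root elements to rational long root elements.
Applying an `F₀`-linear functional of `F` to the entries of `h` gives a rational matrix `M` with
`h⁻¹ M` commuting with all rational long root elements, hence scalar: `h` is a scalar multiple of a
rational matrix.
-/

set_option autoImplicit false
set_option linter.unusedSimpArgs false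
set_option linter.unusedSectionVars false
set_option linter.unusedVariables false

namespace Cfsg.Agent.Lib.H24.OSf

open Matrix Module
open Cfsg.Agent.Lib.H10.Sf
open Cfsg.Agent.Lib.H28 Cfsg.Agent.Lib.H11.SubspMax
open Cfsg.Agent.Lib.H11.CD Cfsg.Agent.Lib.H11.SiegelGen Cfsg.Agent.Lib.H11.OrMax
open Cfsg.Agent.Lib.H11.OmTs

variable {F : Type*} [Field F] {n : ℕ} (Q : QuadraticForm F (Fin n → F)) {F₀ : Subfield F}
  {H : Subgroup (GL (Fin n) F)}

set_option quotPrecheck false in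
local notation "P" => QuadraticMap.polar (⇑Q)

/-- the nilpotent part `z ↦ P a z • b - P b z • a` of the long root element `sg a b` -/
noncomputable def Nlin (a b : Fin n → F) : (Fin n → F) →ₗ[F] (Fin n → F) :=
  (fr Q a).smulRight b - (fr Q b).smulRight a

theorem Nlin_apply (a b z : Fin n → F) : Nlin Q a b z = P a z • b - P b z • a := by
  unfold Nlin
  simp only [LinearMap.sub_apply, LinearMap.smulRight_apply, fr_apply]

/-- the matrix of `Nlin` -/
noncomputable def Nmat (a b : Fin n → F) : Matrix (Fin n) (Fin n) F :=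
  LinearMap.toMatrix' (Nlin Q a b)

theorem Nmat_mulVec (a b z : Fin n → F) : Nmat Q a b *ᵥ z = P a z • b - P b z • a := by
  unfold Nmat
  rw [LinearMap.toMatrix'_mulVec, Nlin_apply]

theorem Nmat_apply (a b : Fin n → F) (i j : Fin n) :
    Nmat Q a b i j = P a (ee j) * b i - P b (ee j) * a i := by
  unfold Nmat
  rw [LinearMap.toMatrix'_apply, Nlin_apply]
  rfl

variable {Q}

/-- conjugation of the nilpotent parts -/
theorem conj_Nmat (g : ↥(Cfsg.isometryGroup F ⇑Q)) (a b : Fin n → F) :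
    ((g : GL (Fin n) F) : Matrix (Fin n) (Fin n) F) * Nmat Q a b =
      Nmat Q (act Q g a) (act Q g b) * ((g : GL (Fin n) F) : Matrix (Fin n) (Fin n) F) := by
  apply Matrix.toLin'.injective
  apply LinearMap.ext
  intro z
  rw [Matrix.toLin'_apply, Matrix.toLin'_apply, ← Matrix.mulVec_mulVec, ← Matrix.mulVec_mulVec,
    Nmat_mulVec, Nmat_mulVec, act_def, act_def, polar_act, polar_act, act_sub, act_smul, act_smul]

/-- entrywise application of an `F₀`-linear functional -/
def mapφ (φ : F →ₗ[F₀] F₀) (M : Matrix (Fin n) (Fin n) F) : Matrix (Fin n) (Fin n) F :=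
  fun i j => ((φ (M i j) : F₀) : F)

theorem φ_mul_rat (φ : F →ₗ[F₀] F₀) (x : F) {r : F} (hr : r ∈ F₀) :
    ((φ (x * r) : F₀) : F) = ((φ x : F₀) : F) * r := by
  have h1 : x * r = (⟨r, hr⟩ : F₀) • x := by
    rw [Subfield.smul_def, smul_eq_mul, mul_comm]
  rw [h1, map_smul, smul_eq_mul]
  push_cast
  ring

theorem mapφ_apply (φ : F →ₗ[F₀] F₀) (M : Matrix (Fin n) (Fin n) F) (i j : Fin n) :
    mapφ φ M i j = ((φ (M i j) : F₀) : F) := rfl

theorem mapφ_mul_rat (φ : F →ₗ[F₀] F₀) (M R : Matrix (Fin n) (Fin n) F)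
    (hR : ∀ i j, R i j ∈ F₀) : mapφ φ (M * R) = mapφ φ M * R := by
  ext i j
  rw [mapφ_apply, Matrix.mul_apply, Matrix.mul_apply, map_sum]
  push_cast
  apply Finset.sum_congr rfl
  intro k _
  rw [mapφ_apply]
  exact φ_mul_rat φ _ (hR k j)

theorem rat_mul_mapφ (φ : F →ₗ[F₀] F₀) (M R : Matrix (Fin n) (Fin n) F)
    (hR : ∀ i j, R i j ∈ F₀) : mapφ φ (R * M) = R * mapφ φ M := by
  ext i j
  rw [mapφ_apply, Matrix.mul_apply, Matrix.mul_apply, map_sum]
  push_cast
  apply Finset.sum_congr rfl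
  intro k _
  rw [mapφ_apply, mul_comm (R i k), φ_mul_rat φ _ (hR i k), mul_comm]

section schur

variable [Fintype F] (hr : RatForm Q F₀) (hQ : (QuadraticMap.polarBilin Q).Nondegenerate)
  (hn : 9 ≤ n) (C : Matrix (Fin n) (Fin n) F)
  (hC : ∀ a b, TSP Q F₀ a b → C * Nmat Q a b = Nmat Q a b * C)
include hr hQ hn hC

/-- rational singular vectors are eigenvectors -/
theorem exists_eigen {a : Fin n → F} (ha : IsRat F₀ a) (ha0 : a ≠ 0) (hQa : Q a = 0) :
    ∃ μ : F, C *ᵥ a = μ • a := by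
  obtain ⟨b, z, b', z', hb, hz, hb', hz', hQb, hQz, hbz, hQb', hQz', hb'z', hbb', hbz'2, hzb', hzz',
    hvb, hvz, hvb', hvz'⟩ :=
    exists_rat_two_hyp_perp hr hQ ![a]
      (by
        intro i
        fin_cases i
        exact ha)
      (by omega)
  have hab : P a b = 0 := hvb 0
  have haz : P a z = 0 := hvz 0
  have hab' : P a b' = 0 := hvb' 0
  have haz' : P a z' = 0 := hvz' 0
  have hbz0 : P b z ≠ 0 := by rw [hbz]; exact one_ne_zero
  have hb'z0 : P b' z' ≠ 0 := by rw [hb'z']; exact one_ne_zero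
  have t : TSP Q F₀ a b := ⟨ha, hb, hQa, hQb, hab, li_pair ha0 hbz0 haz⟩
  have t' : TSP Q F₀ a b' := ⟨ha, hb', hQa, hQb', hab', li_pair ha0 hb'z0 haz'⟩
  have h1 : (C * Nmat Q a b) *ᵥ z = (Nmat Q a b * C) *ᵥ z := by rw [hC a b t]
  rw [← Matrix.mulVec_mulVec, ← Matrix.mulVec_mulVec, Nmat_mulVec, Nmat_mulVec, haz, hbz,
    zero_smul, one_smul, zero_sub, Matrix.mulVec_neg] at h1
  have h2 : (C * Nmat Q a b') *ᵥ z' = (Nmat Q a b' * C) *ᵥ z' := by rw [hC a b' t']
  rw [← Matrix.mulVec_mulVec, ← Matrix.mulVec_mulVec, Nmat_mulVec, Nmat_mulVec, haz', hb'z',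
    zero_smul, one_smul, zero_sub, Matrix.mulVec_neg] at h2
  have h3 : P a (C *ᵥ z) • b - P b (C *ᵥ z) • a = P a (C *ᵥ z') • b' - P b' (C *ᵥ z') • a := by
    rw [← h1, ← h2]
  have h4 := congrArg (fun v => P v z) h3
  simp only [QuadraticMap.polar_sub_left, QuadraticMap.polar_smul_left, hbz, haz,
    P_comm Q b' z, hzb', smul_eq_mul, mul_one, mul_zero, sub_zero] at h4
  refine ⟨P b (C *ᵥ z), ?_⟩
  have h5 : C *ᵥ a = -(P a (C *ᵥ z) • b - P b (C *ᵥ z) • a) := by rw [← h1, neg_neg]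
  rw [h5, h4]
  simp

/-- the eigenvalues on orthogonal independent rational singular vectors agree -/
theorem eigen_eq_of_perp {a a' : Fin n → F} (ha : IsRat F₀ a) (ha' : IsRat F₀ a') (hQa : Q a = 0)
    (hQa' : Q a' = 0) (haa' : P a a' = 0) (hli : LinearIndependent F ![a, a']) {μ μ' : F}
    (hμ : C *ᵥ a = μ • a) (hμ' : C *ᵥ a' = μ' • a') : μ = μ' := by
  have hs0 : a + a' ≠ 0 := by
    intro h
    have h1 : (1 : F) • a + (1 : F) • a' = 0 := by rw [one_smul, one_smul]; exact h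
    exact one_ne_zero (LinearIndependent.pair_iff.1 hli 1 1 h1).1
  have hQs : Q (a + a') = 0 := by rw [Q_add, hQa, hQa', haa']; ring
  obtain ⟨ν, hν⟩ := exists_eigen hr hQ hn C hC (ha.add ha') hs0 hQs
  rw [Matrix.mulVec_add, hμ, hμ', smul_add] at hν
  have h1 : (μ - ν) • a + (μ' - ν) • a' = 0 := by
    rw [sub_smul, sub_smul]
    linear_combination (norm := module) hν
  obtain ⟨h2, h3⟩ := LinearIndependent.pair_iff.1 hli _ _ h1
  rw [sub_eq_zero.1 h2, sub_eq_zero.1 h3]

/-- **Schur-type lemma**: a matrix commuting with all rational long root elements is scalar -/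
theorem exists_scalar : ∃ c : F, C = c • (1 : Matrix (Fin n) (Fin n) F) := by
  obtain ⟨e₀, f₀, he₀, hf₀, hQe₀, hQf₀, hef₀, -, -⟩ := exists_rat_hyp_perp hr hQ
    (Fin.elim0 : Fin 0 → Fin n → F) (fun i => Fin.elim0 i) (by omega)
  have he₀0 : e₀ ≠ 0 := by
    rintro rfl
    have : P (0 : Fin n → F) f₀ = 0 := by simp
    rw [this] at hef₀
    exact zero_ne_one hef₀
  obtain ⟨c, hc⟩ := exists_eigen hr hQ hn C hC he₀ he₀0 hQe₀
  -- every rational singular vector has eigenvalue `c`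
  have hall : ∀ a : Fin n → F, IsRat F₀ a → Q a = 0 → C *ᵥ a = c • a := by
    intro a ha hQa
    by_cases ha0 : a = 0
    · rw [ha0, Matrix.mulVec_zero, smul_zero]
    obtain ⟨μ, hμ⟩ := exists_eigen hr hQ hn C hC ha ha0 hQa
    obtain ⟨a'', f'', ha'', hf'', hQa'', hQf'', haf'', hva, hvf⟩ := exists_rat_hyp_perp hr hQ
      ![a, e₀]
      (by
        intro i
        fin_cases i
        · exact ha
        · exact he₀)
      (by omega)
    have h1 : P a a'' = 0 := hva 0
    have h2 : P e₀ a'' = 0 := hva 1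
    have h3 : P a f'' = 0 := hvf 0
    have h4 : P e₀ f'' = 0 := hvf 1
    have haf''' : P a'' f'' ≠ 0 := by rw [haf'']; exact one_ne_zero
    have ha''0 : a'' ≠ 0 := by
      rintro rfl
      apply haf'''
      simp
    obtain ⟨ν, hν⟩ := exists_eigen hr hQ hn C hC ha'' ha''0 hQa''
    have e1 : μ = ν := eigen_eq_of_perp hr hQ hn C hC ha ha'' hQa hQa'' h1
      (li_pair ha0 haf''' h3) hμ hν
    have e2 : c = ν := eigen_eq_of_perp hr hQ hn C hC he₀ ha'' hQe₀ hQa'' h2
      (li_pair he₀0 haf''' h4) hc hν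
    rw [hμ, e1, e2]
  -- the standard basis vectors
  have hee : ∀ i : Fin n, C *ᵥ (ee i : Fin n → F) = c • (ee i : Fin n → F) := by
    intro i
    obtain ⟨e, f, he, hf, hQe, hQf, hef, hve, hvf⟩ := exists_rat_hyp_perp hr hQ
      ![(ee i : Fin n → F)]
      (by
        intro j
        fin_cases j
        exact ee_rat i)
      (by omega)
    have hie : P (ee i) e = 0 := hve 0
    have hif : P (ee i) f = 0 := hvf 0
    obtain ⟨v₁, hv₁⟩ : ∃ v₁, v₁ = (ee i : Fin n → F) + e - Q (ee i) • f := ⟨_, rfl⟩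
    have hv₁r : IsRat F₀ v₁ := by
      rw [hv₁]; exact ((ee_rat i).add he).sub (hf.smul (hr _ (ee_rat i)))
    have hQv₁ : Q v₁ = 0 := by
      rw [hv₁, Q_sub', Q_add, QuadraticMap.map_smul, hQe, hQf, QuadraticMap.polar_smul_right,
        QuadraticMap.polar_add_left, hie, hif, hef]
      simp
    have e1 : (ee i : Fin n → F) = v₁ - e + Q (ee i) • f := by rw [hv₁]; abel
    conv_lhs => rw [e1]
    rw [Matrix.mulVec_add, Matrix.mulVec_sub, Matrix.mulVec_smul, hall v₁ hv₁r hQv₁,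
      hall e he hQe, hall f hf hQf]
    conv_rhs => rw [e1]
    module
  refine ⟨c, ?_⟩
  ext i j
  have := congrFun (hee j) i
  unfold ee at this
  rw [Matrix.mulVec_single_one, Matrix.col_apply] at this
  rw [this, Matrix.smul_apply, Matrix.one_apply, Pi.smul_apply, Pi.single_apply]

end schur

section main

variable [Fintype F] (hr : RatForm Q F₀) (hQ : (QuadraticMap.polarBilin Q).Nondegenerate)
  (hn : 13 ≤ n) (hKH : KKO Q F₀ ≤ H) (hL : ∀ c, c ∈ LamSet Q F₀ H → c ∈ F₀)
include hr hQ hn hKH hL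

omit hQ hn hKH hL in
theorem Nmat_rat {a b : Fin n → F} (ha : IsRat F₀ a) (hb : IsRat F₀ b) (i j : Fin n) :
    Nmat Q a b i j ∈ F₀ := by
  rw [Nmat_apply]
  exact F₀.sub_mem (F₀.mul_mem (hr.polar ha (ee_rat j)) (hb i))
    (F₀.mul_mem (hr.polar hb (ee_rat j)) (ha i))

/-- **`H` lies in the subfield subgroup when `Λ = F₀`** -/
theorem mem_subfield_of_mem (g : ↥(Cfsg.isometryGroup F ⇑Q)) (hg : (g : GL (Fin n) F) ∈ H) :
    (g : GL (Fin n) F) ∈ Cfsg.Geo.subfieldSubgroup F₀ (1 : GL (Fin n) F) := by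
  obtain ⟨hm, hhm⟩ : ∃ hm : Matrix (Fin n) (Fin n) F,
      hm = ((g : GL (Fin n) F) : Matrix (Fin n) (Fin n) F) := ⟨_, rfl⟩
  obtain ⟨hi, hhi⟩ : ∃ hi : Matrix (Fin n) (Fin n) F,
      hi = (((g : GL (Fin n) F)⁻¹ : GL (Fin n) F) : Matrix (Fin n) (Fin n) F) := ⟨_, rfl⟩
  have hih : hi * hm = 1 := by
    rw [hhi, hhm, ← Units.val_mul, inv_mul_cancel, Units.val_one]
  have hhi' : hm * hi = 1 := by
    rw [hhi, hhm, ← Units.val_mul, mul_inv_cancel, Units.val_one]
  have hm0 : hm ≠ 0 := by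
    intro h
    rw [h, Matrix.mul_zero] at hih
    have := congrFun (congrFun hih ⟨0, by omega⟩) ⟨0, by omega⟩
    simp at this
  obtain ⟨i₀, j₀, hij⟩ : ∃ i j, hm i j ≠ 0 := by
    by_contra hcon
    push Not at hcon
    apply hm0
    ext i j
    exact hcon i j
  obtain ⟨φ, hφ⟩ := Module.Projective.exists_dual_ne_zero F₀ hij
  obtain ⟨M, hM⟩ : ∃ M, M = mapφ φ hm := ⟨_, rfl⟩
  have hMr : ∀ i j, M i j ∈ F₀ := fun i j => by rw [hM]; exact (φ (hm i j)).2
  have hM0 : M ≠ 0 := by
    intro h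
    have := congrFun (congrFun h i₀) j₀
    rw [hM] at this
    unfold mapφ at this
    apply hφ
    exact Subtype.ext this
  -- `hi * M` commutes with the rational long root elements
  have hcomm : ∀ a b, TSP Q F₀ a b → (hi * M) * Nmat Q a b = Nmat Q a b * (hi * M) := by
    intro a b t
    obtain ⟨ha, hb, hQa, hQb, hab, hli⟩ := t
    have h1 := conj_Nmat g a b
    rw [← hhm] at h1
    -- the conjugate is rational
    have hQa' : Q (act Q g a) = 0 := by rw [Q_act, hQa]
    have hQb' : Q (act Q g b) = 0 := by rw [Q_act, hQb]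
    have hab' : P (act Q g a) (act Q g b) = 0 := by rw [polar_act, hab]
    have hli' : LinearIndependent F ![act Q g a, act Q g b] := by
      rw [LinearIndependent.pair_iff] at hli ⊢
      intro s t hst
      apply hli s t
      have := congrArg (act Q g⁻¹) hst
      rw [act_add, act_smul, act_smul, Cfsg.Agent.Lib.H11.OmegaTrans.act_act_inv,
        Cfsg.Agent.Lib.H11.OmegaTrans.act_act_inv, act_zero] at this
      exact this
    have hρ : InH Q H (act Q g a) (act Q g b) :=
      inH_conj g hg hQa hab (inH_rat hr hQ (by omega) hKH ha hb hQa hab)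
    have hN'r : ∀ i j, Nmat Q (act Q g a) (act Q g b) i j ∈ F₀ := by
      intro i j
      have := rat_of_long_root hr hQ hn hKH hL hQa' hQb' hab' hli' hρ (ee j) (ee_rat j) i
      rw [Nmat_apply]
      simpa using this
    have h2 : M * Nmat Q a b = Nmat Q (act Q g a) (act Q g b) * M := by
      rw [hM, ← mapφ_mul_rat φ hm _ (Nmat_rat hr ha hb), ← rat_mul_mapφ φ hm _ hN'r, h1]
    have h3 : Nmat Q (act Q g a) (act Q g b) = hm * Nmat Q a b * hi := by
      rw [h1, Matrix.mul_assoc, hhi', Matrix.mul_one]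
    rw [Matrix.mul_assoc, h2, h3]
    simp only [Matrix.mul_assoc]
    rw [← Matrix.mul_assoc hi hm, hih, Matrix.one_mul]
  obtain ⟨c, hc⟩ := exists_scalar hr hQ (by omega) (hi * M) hcomm
  have hMc : M = c • hm := by
    have : hm * (hi * M) = hm * (c • (1 : Matrix (Fin n) (Fin n) F)) := by rw [hc]
    rw [← Matrix.mul_assoc, hhi', Matrix.one_mul, Matrix.mul_smul, Matrix.mul_one] at this
    exact this
  have hc0 : c ≠ 0 := by
    rintro rfl
    apply hM0
    rw [hMc, zero_smul]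
  rw [Cfsg.Agent.Lib.H11.Subf.mem_subfield_one_iff]
  refine ⟨c, hc0, fun i j => ?_⟩
  have := hMr i j
  rw [hMc, Matrix.smul_apply, smul_eq_mul, hhm] at this
  exact this

end main

end Cfsg.Agent.Lib.H24.OSf
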