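import Mathlib
import Cfsg.Agent.Lib.H24.OSfG

/-!
# Subfield subgroups of `Ω(Q)` (part H): maximality for a rational form
-/

set_option autoImplicit false
set_option linter.unusedSimpArgs false
set_option linter.unusedSectionVars false
set_option linter.unusedVariables false

namespace Cfsg.Agent.Lib.H24.OSf

open Matrix Module
open Cfsg.Agent.Lib.H10.Sf
open Cfsg.Agent.Lib.H28 Cfsg.Agent.Lib.H11.SubspMax
open Cfsg.Agent.Lib.H11.CD Cfsg.Agent.Lib.H11.SiegelGen Cfsg.Agent.Lib.H11.OrMax
open Cfsg.Agent.Lib.H11.OmTs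

variable {F : Type*} [Field F] {n : ℕ} {Q : QuadraticForm F (Fin n → F)} {F₀ : Subfield F}

set_option quotPrecheck false in
local notation "P" => QuadraticMap.polar (⇑Q)

/-- a rational non-zero vector with a rational multiple: the factor is rational -/
theorem mem_of_smul_rat {v : Fin n → F} {c : F} (hv : IsRat F₀ v) (hv0 : v ≠ 0)
    (hcv : IsRat F₀ (c • v)) : c ∈ F₀ := by
  obtain ⟨i, hi⟩ : ∃ i, v i ≠ 0 := by
    by_contra hcon
    push Not at hcon
    exact hv0 (funext hcon)
  have h1 := hcv i
  rw [Pi.smul_apply, smul_eq_mul] at h1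
  have : c = c * v i * (v i)⁻¹ := by field_simp
  rw [this]
  exact F₀.mul_mem h1 (F₀.inv_mem (hv i))

section proper

variable [Fintype F] (hr : RatForm Q F₀) (hQ : (QuadraticMap.polarBilin Q).Nondegenerate)
  (hn : 9 ≤ n)
include hr hQ hn

/-- a long root element with non-rational parameter is not in the subfield subgroup -/
theorem sg_notMem {a b : Fin n → F} (t : TSP Q F₀ a b) {c : F} (hc : c ∉ F₀) :
    ((sg Q a (c • b) : ↥(Cfsg.isometryGroup F ⇑Q)) : GL (Fin n) F) ∉
      Cfsg.Geo.subfieldSubgroup F₀ (1 : GL (Fin n) F) := by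
  obtain ⟨ha, hb, hQa, hQb, hab, hli⟩ := t
  intro hmem
  rw [Cfsg.Agent.Lib.H11.Subf.mem_subfield_one_iff] at hmem
  obtain ⟨l, hl0, hl⟩ := hmem
  have hacb : P a (c • b) = 0 := by rw [QuadraticMap.polar_smul_right, hab, smul_zero]
  -- rational vectors are mapped to rational vectors up to the factor `l`
  have hrat : ∀ v, IsRat F₀ v → IsRat F₀ (l • act Q (sg Q a (c • b)) v) := by
    intro v hv i
    rw [Pi.smul_apply, smul_eq_mul, act, Matrix.mulVec, dotProduct, Finset.mul_sum]
    apply F₀.sum_mem
    intro j _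
    rw [← mul_assoc]
    exact F₀.mul_mem (hl i j) (hv j)
  obtain ⟨e, f, he, hf, hQe, hQf, hef, hve, hvf⟩ := exists_rat_hyp_perp hr hQ ![a, b]
    (by
      intro i
      fin_cases i
      · exact ha
      · exact hb)
    (by omega)
  have hae : P a e = 0 := hve 0
  have hbe : P b e = 0 := hve 1
  have he0 : e ≠ 0 := by
    rintro rfl
    have : P (0 : Fin n → F) f = 0 := by simp
    rw [this] at hef
    exact zero_ne_one hef
  have h1 := hrat e he
  rw [sg_act Q a (c • b) hQa hacb, hae, QuadraticMap.polar_smul_left, hbe] at h1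
  simp only [zero_smul, smul_zero, mul_zero, sub_zero, add_zero] at h1
  have hlr : l ∈ F₀ := mem_of_smul_rat he he0 h1
  -- a rational vector pairing to `1` with `a` and to `0` with `b`
  obtain ⟨z, hz, -, hzp⟩ := exists_rat_sing_pairing hr hQ ![a, b]
    (by
      intro i
      fin_cases i
      · exact ha
      · exact hb)
    hli ![1, 0]
    (by
      intro j
      fin_cases j
      · exact F₀.one_mem
      · exact F₀.zero_mem)
    (by omega)
  have hza : P z a = 1 := hzp 0
  have hzb : P z b = 0 := hzp 1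
  have h2 := hrat z hz
  rw [sg_act Q a (c • b) hQa hacb, P_comm Q a z, hza, QuadraticMap.polar_smul_left, P_comm Q b z,
    hzb, QuadraticMap.map_smul, hQb] at h2
  simp only [one_smul, smul_zero, zero_smul, mul_zero, sub_zero, mul_one] at h2
  have h3 : IsRat F₀ (z + c • b) := by
    have : z + c • b = l⁻¹ • (l • (z + c • b)) := by
      rw [smul_smul, inv_mul_cancel₀ hl0, one_smul]
    rw [this]
    exact h2.smul (F₀.inv_mem hlr)
  have h4 : IsRat F₀ (c • b) := by
    have : c • b = (z + c • b) - z := by abel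
    rw [this]
    exact h3.sub hz
  have hb0 : b ≠ 0 := by
    have := hli.ne_zero 1
    simpa using this
  exact hc (mem_of_smul_rat hb hb0 h4)

end proper

/-- **maximality of the subfield subgroup of `Ω(Q)` for a form defined over the subfield** -/
theorem KKO_maximal [Fintype F] (hr : RatForm Q F₀)
    (hQ : (QuadraticMap.polarBilin Q).Nondegenerate) (hn : 13 ≤ n) {r : ℕ} (hrp : r.Prime)
    (hcard : Fintype.card F = Nat.card F₀ ^ r) :
    Cfsg.Geo.IsMaximalIn (Cfsg.Geo.omegaGL (⇑Q)) (KKO Q F₀) := by
  constructor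
  · refine lt_of_le_of_ne inf_le_right ?_
    intro heq
    -- an element outside the subfield
    obtain ⟨c, hc⟩ : ∃ c : F, c ∉ F₀ := by
      by_contra hcon
      push Not at hcon
      have htop : F₀ = ⊤ := by
        rw [eq_top_iff]
        intro x _
        exact hcon x
      have h1 : Nat.card F₀ = Fintype.card F := by
        rw [htop, ← Nat.card_eq_fintype_card]
        exact Nat.card_congr (Subfield.topEquiv (K := F)).toEquiv
      rw [h1] at hcard
      have h2 : 1 < Fintype.card F := Fintype.one_lt_card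
      have h3 : Fintype.card F ^ 1 < Fintype.card F ^ r :=
        Nat.pow_lt_pow_right h2 hrp.one_lt
      rw [pow_one] at h3
      omega
    obtain ⟨a, b, -, -, tab, -, -, -, -, -⟩ := exists_config hr hQ (by omega)
    have hmem : ((sg Q a (c • b) : ↥(Cfsg.isometryGroup F ⇑Q)) : GL (Fin n) F) ∈
        Cfsg.Geo.omegaGL (⇑Q) :=
      coe_mem_omegaGL Q _ (sg_mem_comm Q hQ (by omega) a (c • b) tab.2.2.1
        (by rw [QuadraticMap.polar_smul_right, tab.2.2.2.2.1, smul_zero]))
    rw [← heq] at hmem
    exact sg_notMem hr hQ (by omega) tab hc hmem.1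
  · intro M hKM hMΩ
    rcases Lam_dichotomy M hr hQ (by omega) hKM hrp hcard with hL | hall
    · left
      apply le_antisymm _ hKM
      intro m hm
      obtain ⟨g, -, rfl⟩ := exists_of_mem_omegaGL Q m (hMΩ hm)
      exact ⟨mem_subfield_of_mem hr hQ hn hKM hL g hm, hMΩ hm⟩
    · right
      exact le_antisymm hMΩ (omega_le_of_Lam_top hr hQ (by omega) hKM hall)

end Cfsg.Agent.Lib.H24.OSf
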