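import Mathlib
import Cfsg.Agent.Lib.H24.OSfH
import Cfsg.Agent.Lib.H10.SfH
import Cfsg.Agent.Lib.H11.OmTs5

/-!
# Subfield subgroups of `Ω(Q)` (part I): change of basis, scaling, and arbitrary index types
-/

set_option autoImplicit false
set_option linter.unusedSimpArgs false
set_option linter.unusedSectionVars false
set_option linter.unusedVariables false

namespace Cfsg.Agent.Lib.H24.OSf

open Matrix Module
open Cfsg.Agent.Lib.H10.Sf
open Cfsg.Agent.Lib.H11.IsoReindex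

section general

variable {F : Type*} [Field F] {ι : Type} [Fintype ι] [DecidableEq ι]

/-- the subfield subgroup for the change of basis `P` is a conjugate of the standard one -/
theorem subfield_eq_map (F₀ : Subfield F) (P : GL ι F) :
    Cfsg.Geo.subfieldSubgroup F₀ P =
      (Cfsg.Geo.subfieldSubgroup F₀ (1 : GL ι F)).map (MulAut.conj P).toMonoidHom := by
  unfold Cfsg.Geo.subfieldSubgroup
  rw [map_one]
  congr 1
  exact (Subgroup.map_id _).symm

/-- the scaled and transported form -/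
def conjForm (Q : (ι → F) → F) (P : GL ι F) (ζ : F) : (ι → F) → F :=
  fun v => ζ * Q ((P : Matrix ι ι F) *ᵥ v)

theorem gl_mul_inv_mulVec (P : GL ι F) (x : ι → F) :
    (P : Matrix ι ι F) *ᵥ (((P⁻¹ : GL ι F) : Matrix ι ι F) *ᵥ x) = x := by
  rw [Matrix.mulVec_mulVec, ← Units.val_mul, mul_inv_cancel, Units.val_one, Matrix.one_mulVec]

theorem gl_inv_mul_mulVec (P : GL ι F) (x : ι → F) :
    ((P⁻¹ : GL ι F) : Matrix ι ι F) *ᵥ ((P : Matrix ι ι F) *ᵥ x) = x := by
  rw [Matrix.mulVec_mulVec, ← Units.val_mul, inv_mul_cancel, Units.val_one, Matrix.one_mulVec]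

/-- the isometry group of the transported form -/
theorem isometryGroup_conj (Q : (ι → F) → F) (P : GL ι F) {ζ : F} (hζ : ζ ≠ 0) :
    Cfsg.isometryGroup F Q =
      (Cfsg.isometryGroup F (conjForm Q P ζ)).map (MulAut.conj P).toMonoidHom := by
  ext g
  constructor
  · intro hg
    rw [mem_iso_iff'] at hg
    refine ⟨P⁻¹ * g * P, ?_, ?_⟩
    · rw [SetLike.mem_coe, mem_iso_iff']
      intro x
      unfold conjForm
      rw [Units.val_mul, Units.val_mul, ← Matrix.mulVec_mulVec, ← Matrix.mulVec_mulVec,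
        gl_mul_inv_mulVec, hg]
    · show P * (P⁻¹ * g * P) * P⁻¹ = g
      group
  · rintro ⟨g', hg', rfl⟩
    rw [SetLike.mem_coe, mem_iso_iff'] at hg'
    rw [mem_iso_iff']
    intro x
    show Q ((P * g' * P⁻¹ : GL ι F).1 *ᵥ x) = Q x
    have h1 := hg' ((P⁻¹ : GL ι F).1 *ᵥ x)
    unfold conjForm at h1
    rw [gl_mul_inv_mulVec] at h1
    have h2 := mul_left_cancel₀ hζ h1
    rw [← h2, Units.val_mul, Units.val_mul, ← Matrix.mulVec_mulVec, ← Matrix.mulVec_mulVec]

/-- `Ω` of the transported form -/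
theorem omegaGL_conj (Q : (ι → F) → F) (P : GL ι F) {ζ : F} (hζ : ζ ≠ 0) :
    Cfsg.Geo.omegaGL Q =
      (Cfsg.Geo.omegaGL (conjForm Q P ζ)).map (MulAut.conj P).toMonoidHom := by
  unfold Cfsg.Geo.omegaGL Cfsg.Omega
  rw [Subgroup.map_subtype_commutator, Subgroup.map_subtype_commutator, Subgroup.map_commutator,
    ← isometryGroup_conj Q P hζ]

/-- transport of maximality of the subfield subgroup along a change of basis and a scaling -/
theorem subfield_maximal_of_conj (Q : (ι → F) → F) (F₀ : Subfield F) (P : GL ι F) {ζ : F}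
    (hζ : ζ ≠ 0)
    (h : Cfsg.Geo.IsMaximalIn (Cfsg.Geo.omegaGL (conjForm Q P ζ))
      (Cfsg.Geo.subfieldSubgroup F₀ (1 : GL ι F) ⊓ Cfsg.Geo.omegaGL (conjForm Q P ζ))) :
    Cfsg.Geo.IsMaximalIn (Cfsg.Geo.omegaGL Q)
      (Cfsg.Geo.subfieldSubgroup F₀ P ⊓ Cfsg.Geo.omegaGL Q) := by
  have h1 := isMaximalIn_map (MulAut.conj P) h
  rw [Subgroup.map_inf _ _ _ (MulAut.conj P).injective, ← omegaGL_conj Q P hζ,
    ← subfield_eq_map F₀ P] at h1
  exact h1

end general

section fin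

variable {F : Type*} [Field F] [Fintype F] {n : ℕ}

/-- the transported form as a quadratic form -/
noncomputable def conjQF (Q : QuadraticForm F (Fin n → F)) (P : GL (Fin n) F) (ζ : F) :
    QuadraticForm F (Fin n → F) :=
  ζ • Q.comp (Matrix.toLin' (P : Matrix (Fin n) (Fin n) F))

theorem coe_conjQF (Q : QuadraticForm F (Fin n → F)) (P : GL (Fin n) F) (ζ : F) :
    ⇑(conjQF Q P ζ) = conjForm (⇑Q) P ζ := by
  funext v
  unfold conjQF conjForm
  rw [QuadraticMap.smul_apply, QuadraticMap.comp_apply, Matrix.toLin'_apply, smul_eq_mul]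

theorem conjQF_nondegenerate (Q : QuadraticForm F (Fin n → F))
    (hQ : (QuadraticMap.polarBilin Q).Nondegenerate) (P : GL (Fin n) F) {ζ : F} (hζ : ζ ≠ 0) :
    (QuadraticMap.polarBilin (conjQF Q P ζ)).Nondegenerate := by
  rw [Cfsg.Agent.Lib.H13.nondegenerate_polar_iff] at hQ ⊢
  intro x hx
  have h1 : (P : Matrix (Fin n) (Fin n) F) *ᵥ x = 0 := by
    apply hQ
    intro y
    have h2 := hx ((P⁻¹ : GL (Fin n) F).1 *ᵥ y)
    unfold QuadraticMap.polar at h2 ⊢
    rw [coe_conjQF] at h2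
    unfold conjForm at h2
    rw [Matrix.mulVec_add, gl_mul_inv_mulVec] at h2
    have h3 : ζ * (Q (P.1 *ᵥ x + y) - Q (P.1 *ᵥ x) - Q y) = 0 := by
      rw [← h2]; ring
    exact (mul_eq_zero.1 h3).resolve_left hζ
  have : (P⁻¹ : GL (Fin n) F).1 *ᵥ (P.1 *ᵥ x) = (P⁻¹ : GL (Fin n) F).1 *ᵥ 0 := by rw [h1]
  rw [gl_inv_mul_mulVec, Matrix.mulVec_zero] at this
  exact this

/-- **maximality of the subfield subgroups of `Ω(Q)`**, matrices indexed by `Fin n` -/
theorem subfield_maximal_fin (hn : 13 ≤ n) (Q : (Fin n → F) → F)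
    (hQ : Cfsg.Geo.IsNondegenerateQuadraticForm Q) (F₀ : Subfield F) {r : ℕ} (hr : r.Prime)
    (hcard : Fintype.card F = Nat.card F₀ ^ r) (P : GL (Fin n) F) (ζ : F) (hζ : ζ ≠ 0)
    (hP : Cfsg.Geo.IsQuadFormRationalStructure (fun v : Fin n → F => ζ * Q v) F₀ P) :
    Cfsg.Geo.IsMaximalIn (Cfsg.Geo.omegaGL Q)
      (Cfsg.Geo.subfieldSubgroup F₀ P ⊓ Cfsg.Geo.omegaGL Q) := by
  apply subfield_maximal_of_conj Q F₀ P hζ
  have hrat : RatForm (conjQF (Cfsg.Agent.Lib.H29.Orth.toQF Q hQ) P ζ) F₀ := by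
    intro v hv
    rw [coe_conjQF, Cfsg.Agent.Lib.H29.Orth.coe_toQF]
    exact hP v hv
  have h1 := KKO_maximal hrat
    (conjQF_nondegenerate _ (Cfsg.Agent.Lib.H29.Orth.toQF_nondegenerate Q hQ) P hζ) hn hr hcard
  unfold KKO at h1
  rw [coe_conjQF, Cfsg.Agent.Lib.H29.Orth.coe_toQF] at h1
  exact h1

end fin

end Cfsg.Agent.Lib.H24.OSf
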