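import Mathlib
import Cfsg.Agent.Lib.H24.OSfI

/-!
# Subfield subgroups of `Ω(Q)` (part J): arbitrary index types
-/

set_option autoImplicit false
set_option linter.unusedSimpArgs false
set_option linter.unusedSectionVars false
set_option linter.unusedVariables false

namespace Cfsg.Agent.Lib.H24.OSf

open Matrix Module
open Cfsg.Agent.Lib.H10.Sf
open Cfsg.Agent.Lib.H11.IsoReindex Cfsg.Agent.Lib.H11.OmTs

variable {F : Type*} [Field F] {ι κ : Type} [Fintype ι] [DecidableEq ι] [Fintype κ] [DecidableEq κ]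

/-- the standard subfield subgroup is compatible with reindexing -/
theorem comap_subfield_one (F₀ : Subfield F) (e : ι ≃ κ) :
    (Cfsg.Geo.subfieldSubgroup F₀ (1 : GL κ F)).comap (glReindex (F := F) e).toMonoidHom =
      Cfsg.Geo.subfieldSubgroup F₀ (1 : GL ι F) := by
  ext g
  rw [Subgroup.mem_comap]
  change glReindex e g ∈ Cfsg.Geo.subfieldSubgroup F₀ (1 : GL κ F) ↔ _
  rw [Cfsg.Agent.Lib.H11.Subf.mem_subfield_one_iff, Cfsg.Agent.Lib.H11.Subf.mem_subfield_one_iff]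
  constructor
  · rintro ⟨c, hc0, hc⟩
    refine ⟨c, hc0, fun i j => ?_⟩
    have := hc (e i) (e j)
    rw [glReindex_val, Matrix.reindex_apply, Matrix.submatrix_apply, Equiv.symm_apply_apply,
      Equiv.symm_apply_apply] at this
    exact this
  · rintro ⟨c, hc0, hc⟩
    refine ⟨c, hc0, fun k l => ?_⟩
    rw [glReindex_val, Matrix.reindex_apply, Matrix.submatrix_apply]
    exact hc _ _

/-- the transported form as a quadratic form, arbitrary index type -/
noncomputable def conjQF' (Q : QuadraticForm F (ι → F)) (P : GL ι F) (ζ : F) :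
    QuadraticForm F (ι → F) :=
  ζ • Q.comp (Matrix.toLin' (P : Matrix ι ι F))

theorem coe_conjQF' (Q : QuadraticForm F (ι → F)) (P : GL ι F) (ζ : F) :
    ⇑(conjQF' Q P ζ) = conjForm (⇑Q) P ζ := by
  funext v
  unfold conjQF' conjForm
  rw [QuadraticMap.smul_apply, QuadraticMap.comp_apply, Matrix.toLin'_apply, smul_eq_mul]

theorem conjQF'_nondegenerate (Q : QuadraticForm F (ι → F))
    (hQ : (QuadraticMap.polarBilin Q).Nondegenerate) (P : GL ι F) {ζ : F} (hζ : ζ ≠ 0) :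
    (QuadraticMap.polarBilin (conjQF' Q P ζ)).Nondegenerate := by
  rw [Cfsg.Agent.Lib.H13.nondegenerate_polar_iff] at hQ ⊢
  intro x hx
  have h1 : (P : Matrix ι ι F) *ᵥ x = 0 := by
    apply hQ
    intro y
    have h2 := hx ((P⁻¹ : GL ι F).1 *ᵥ y)
    unfold QuadraticMap.polar at h2 ⊢
    rw [coe_conjQF'] at h2
    unfold conjForm at h2
    rw [Matrix.mulVec_add, gl_mul_inv_mulVec] at h2
    have h3 : ζ * (Q (P.1 *ᵥ x + y) - Q (P.1 *ᵥ x) - Q y) = 0 := by
      rw [← h2]; ring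
    exact (mul_eq_zero.1 h3).resolve_left hζ
  have : (P⁻¹ : GL ι F).1 *ᵥ (P.1 *ᵥ x) = (P⁻¹ : GL ι F).1 *ᵥ 0 := by rw [h1]
  rw [gl_inv_mul_mulVec, Matrix.mulVec_zero] at this
  exact this

/-- **maximality of the subfield subgroups of `Ω(Q)`**, arbitrary index type -/
theorem subfield_maximal_any [Fintype F] (hn : 13 ≤ Fintype.card ι) (Q : (ι → F) → F)
    (hQ : Cfsg.Geo.IsNondegenerateQuadraticForm Q) (F₀ : Subfield F) {r : ℕ} (hr : r.Prime)
    (hcard : Fintype.card F = Nat.card F₀ ^ r) (P : GL ι F) (ζ : F) (hζ : ζ ≠ 0)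
    (hP : Cfsg.Geo.IsQuadFormRationalStructure (fun v : ι → F => ζ * Q v) F₀ P) :
    Cfsg.Geo.IsMaximalIn (Cfsg.Geo.omegaGL Q)
      (Cfsg.Geo.subfieldSubgroup F₀ P ⊓ Cfsg.Geo.omegaGL Q) := by
  apply subfield_maximal_of_conj Q F₀ P hζ
  obtain ⟨e, -⟩ : ∃ e : ι ≃ Fin (Fintype.card ι), True := ⟨Fintype.equivFin ι, trivial⟩
  obtain ⟨Q₂, hQ₂⟩ : ∃ Q₂ : QuadraticForm F (ι → F),
      Q₂ = conjQF' (Cfsg.Agent.Lib.H29.Orth.toQF Q hQ) P ζ := ⟨_, rfl⟩
  have hQ₂c : ⇑Q₂ = conjForm Q P ζ := by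
    rw [hQ₂, coe_conjQF', Cfsg.Agent.Lib.H29.Orth.coe_toQF]
  have hQ₂n : (QuadraticMap.polarBilin Q₂).Nondegenerate := by
    rw [hQ₂]
    exact conjQF'_nondegenerate _ (Cfsg.Agent.Lib.H29.Orth.toQF_nondegenerate Q hQ) P hζ
  have hrat : RatForm (trQF e Q₂) F₀ := by
    intro v hv
    rw [coe_trQF, hQ₂c]
    exact hP (v ∘ e) (fun i => hv (e i))
  have h1 := KKO_maximal hrat (nondeg_trQF e Q₂ hQ₂n) hn hr hcard
  unfold KKO at h1
  rw [coe_trQF, hQ₂c] at h1
  have h2 := isMaximalIn_comap (glReindex (F := F) e) h1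
  rw [Subgroup.comap_inf, comap_omegaGL, comap_subfield_one] at h2
  exact h2

end Cfsg.Agent.Lib.H24.OSf
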