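import Mathlib

set_option autoImplicit false

/-!
# The combinatorics of the conditions for nondegenerate subspaces (helper24)

`comb_even`, `comb_odd`: for all realizable `A` there is an admissible `B` iff an explicit
condition on `n = c N + k`, `m = c M + ℓ` holds.
-/

namespace Cfsg.Agent.Lib.H24.On

theorem le_of_mul_le_add {c B M l : ℕ} (hl : l < c) (h : c * B ≤ c * M + l) : B ≤ M := by
  by_contra hcon
  have h1 : M + 1 ≤ B := by omega
  have h2 := Nat.mul_le_mul_left c h1
  rw [Nat.mul_succ] at h2
  omega

theorem mul_add_le_of_lt {c A N : ℕ} (h : A < N) : c * A + c ≤ c * N := by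
  have h1 : A + 1 ≤ N := h
  have h2 := Nat.mul_le_mul_left c h1
  rw [Nat.mul_succ] at h2
  exact h2

theorem eq_of_mul_eq_add {c A N k : ℕ} (hc : 0 < c) (hk : k < c) (h : c * A = c * N + k) :
    A = N ∧ k = 0 := by
  have h1 : A ≤ N := le_of_mul_le_add hk (le_of_eq h)
  have h2 : N ≤ A := by
    by_contra hcon
    have := mul_add_le_of_lt (c := c) (Nat.lt_of_not_le hcon)
    omega
  have h3 : A = N := le_antisymm h1 h2
  subst h3
  exact ⟨rfl, by omega⟩

/-- the case of even `i` -/
theorem comb_even (c e t n m N k M l : ℕ) (hc : 0 < c) (he : e ≤ 1) (ht : t ≤ 1)
    (hn : n = c * N + k) (hk : k < c) (hm : m = c * M + l) (hl : l < c) (hm0 : 0 < m)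
    (hmn : m < n) :
    (∀ A, 1 ≤ A → c * A ≤ n → (c * A = n → (e + A) % 2 = 0) →
      ∃ B, B ≤ A ∧ c * B ≤ m ∧ m + c * A ≤ n + c * B ∧ (m = c * B → (t + B) % 2 = 0) ∧
        (m + c * A = n + c * B → (t + B) % 2 = (e + A) % 2)) ↔
    ((k = 0 ∧ ((e + N) % 2 = 1 ∨ (l = 0 ∧ (t + M) % 2 = 0))) ∨
      (l < k ∧ (0 < l ∨ (t + M) % 2 = 0)) ∨
      (k = l ∧ 0 < l ∧ (t + e + N + M) % 2 = 0)) := by
  have hMN : M ≤ N := by
    apply le_of_mul_le_add hk
    omega
  constructor
  · intro h
    -- `N ≥ 1` in the cases where it is used
    rcases Nat.lt_trichotomy k l with hkl | hkl | hkl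
    · -- `k < l`
      left
      have hN1 : 1 ≤ N := by
        rcases Nat.eq_zero_or_pos N with h0 | h0
        · rw [h0, Nat.mul_zero] at hn
          have : c * M ≤ c * M + 0 := le_rfl
          omega
        · exact h0
      by_contra hcon
      have hreal : c * N = n → (e + N) % 2 = 0 := by
        intro h1
        have hk0 : k = 0 := by omega
        by_contra h2
        apply hcon
        exact ⟨hk0, Or.inl (by omega)⟩
      obtain ⟨B, hBA, hBm, hBn, -, -⟩ := h N hN1 (by omega) hreal
      have hBM : B ≤ M := le_of_mul_le_add hl (by omega)
      have := Nat.mul_le_mul_left c hBM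
      omega
    · -- `k = l`
      have hMN' : M < N := by
        by_contra hcon
        have h1 : N = M := by omega
        subst h1
        omega
      have hN1 : 1 ≤ N := by omega
      rcases Nat.eq_zero_or_pos l with hl0 | hl0
      · left
        refine ⟨by omega, ?_⟩
        by_contra hcon
        push Not at hcon
        obtain ⟨hc1, hc2⟩ := hcon
        have hc2' := hc2 hl0
        obtain ⟨B, hBA, hBm, hBn, hB0, -⟩ := h N hN1 (by omega) (fun _ => by omega)
        have hBM : B ≤ M := le_of_mul_le_add hl (by omega)
        have hMB : M ≤ B := by
          apply le_of_mul_le_add (l := 0) hc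
          omega
        have hBeq : B = M := le_antisymm hBM hMB
        subst hBeq
        have := hB0 (by omega)
        omega
      · right; right
        refine ⟨hkl, hl0, ?_⟩
        obtain ⟨B, hBA, hBm, hBn, -, hBe⟩ := h N hN1 (by omega) (fun h1 => by omega)
        have hBM : B ≤ M := le_of_mul_le_add hl (by omega)
        have hMB : M ≤ B := by
          apply le_of_mul_le_add (l := 0) hc
          omega
        have hBeq : B = M := le_antisymm hBM hMB
        subst hBeq
        have := hBe (by omega)
        omega
    · -- `l < k`
      right; left
      refine ⟨hkl, ?_⟩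
      by_contra hcon
      push Not at hcon
      obtain ⟨hl0, hpar⟩ := hcon
      have hl0' : l = 0 := by omega
      have hM1 : 1 ≤ M := by
        rcases Nat.eq_zero_or_pos M with h0 | h0
        · rw [h0, Nat.mul_zero] at hm
          omega
        · exact h0
      have hN1 : 1 ≤ N := by omega
      obtain ⟨B, hBA, hBm, hBn, hB0, -⟩ := h N hN1 (by omega) (fun h1 => by omega)
      have hBM : B ≤ M := le_of_mul_le_add hl (by omega)
      have hMB : M ≤ B := by
        apply le_of_mul_le_add hk
        omega
      have hBeq : B = M := le_antisymm hBM hMB
      subst hBeq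
      have := hB0 (by omega)
      omega
  · intro hcond A hA1 hAn hAreal
    have hAN : A ≤ N := le_of_mul_le_add hk (by omega)
    have hcAN := Nat.mul_le_mul_left c hAN
    rcases hcond with ⟨hk0, hpar⟩ | ⟨hlk, hpar⟩ | ⟨hkl, hl0, hpar⟩
    · -- `k = 0`
      subst hk0
      rcases Nat.lt_or_ge A M with hAM | hAM
      · have := mul_add_le_of_lt (c := c) hAM
        exact ⟨A, le_rfl, by omega, by omega, fun h1 => by omega, fun h1 => by omega⟩
      · have hcMA := Nat.mul_le_mul_left c hAM
        rcases Nat.eq_zero_or_pos l with hl0 | hl0
        · -- `l = 0`
          subst hl0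
          have hM1 : 1 ≤ M := by
            rcases Nat.eq_zero_or_pos M with h0 | h0
            · rw [h0, Nat.mul_zero] at hm
              omega
            · exact h0
          by_cases htM : (t + M) % 2 = 0
          · refine ⟨M, hAM, by omega, by omega, fun _ => htM, fun h1 => ?_⟩
            have h2 : c * A = c * N := by omega
            have h3 : A = N := Nat.eq_of_mul_eq_mul_left hc h2
            have := hAreal (by omega)
            subst h3
            omega
          · have heN : (e + N) % 2 = 1 := by
              rcases hpar with h1 | ⟨-, h1⟩
              · exact h1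
              · exact absurd h1 htM
            have hAN' : A < N := by
              rcases Nat.lt_or_ge A N with h1 | h1
              · exact h1
              · have h2 : A = N := le_antisymm hAN h1
                subst h2
                have := hAreal (by omega)
                omega
            have h4 := mul_add_le_of_lt (c := c) hAN'
            have h5 : c * (M - 1) + c = c * M := by
              have h9 : M - 1 + 1 = M := by omega
              have h10 := Nat.mul_succ c (M - 1)
              rw [Nat.succ_eq_add_one, h9] at h10
              omega
            refine ⟨M - 1, by omega, by omega, by omega, fun h1 => by omega, fun h1 => ?_⟩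
            have h6 : c * A + c = c * N := by omega
            have h7 : c * (A + 1) = c * N := by rw [Nat.mul_succ]; exact h6
            have h8 : A + 1 = N := Nat.eq_of_mul_eq_mul_left hc h7
            omega
        · -- `l > 0`: `N` is not realizable
          have heN : (e + N) % 2 = 1 := by
            rcases hpar with h1 | ⟨h1, -⟩
            · exact h1
            · omega
          have hAN' : A < N := by
            rcases Nat.lt_or_ge A N with h1 | h1
            · exact h1
            · have h2 : A = N := le_antisymm hAN h1
              subst h2
              have := hAreal (by omega)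
              omega
          have h4 := mul_add_le_of_lt (c := c) hAN'
          exact ⟨M, hAM, by omega, by omega, fun h1 => by omega, fun h1 => by omega⟩
    · -- `l < k`
      rcases Nat.lt_or_ge A M with hAM | hAM
      · have := mul_add_le_of_lt (c := c) hAM
        exact ⟨A, le_rfl, by omega, by omega, fun h1 => by omega, fun h1 => by omega⟩
      · have hcMA := Nat.mul_le_mul_left c hAM
        refine ⟨M, hAM, by omega, by omega, fun h1 => ?_, fun h1 => by omega⟩
        rcases hpar with h2 | h2
        · omega
        · exact h2
    · -- `k = l > 0`
      subst hkl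
      rcases Nat.lt_or_ge A M with hAM | hAM
      · have := mul_add_le_of_lt (c := c) hAM
        exact ⟨A, le_rfl, by omega, by omega, fun h1 => by omega, fun h1 => by omega⟩
      · have hcMA := Nat.mul_le_mul_left c hAM
        refine ⟨M, hAM, by omega, by omega, fun h1 => by omega, fun h1 => ?_⟩
        have h2 : c * A = c * N := by omega
        have h3 : A = N := Nat.eq_of_mul_eq_mul_left hc h2
        subst h3
        omega

/-- the case of odd `i` -/
theorem comb_odd (c e t n m N k M l : ℕ) (hc : 0 < c) (he : e ≤ 1) (ht : t ≤ 1)
    (hn : n = c * N + k) (hk : k < c) (hm : m = c * M + l) (hl : l < c) (hm0 : 0 < m)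
    (hmn : m < n) :
    (∀ A, 1 ≤ A → c * A ≤ n → (c * A = n → e = 0) →
      ∃ B, B ≤ A ∧ c * B ≤ m ∧ m + c * A ≤ n + c * B ∧ (m = c * B → t = 0) ∧
        (m + c * A = n + c * B → (t = 0 ↔ e = 0))) ↔
    ((k = 0 ∧ (e = 1 ∨ (l = 0 ∧ t = 0))) ∨
      (l < k ∧ (0 < l ∨ t = 0)) ∨
      (k = l ∧ 0 < l ∧ t = e)) := by
  have hMN : M ≤ N := by
    apply le_of_mul_le_add hk
    omega
  constructor
  · intro h
    rcases Nat.lt_trichotomy k l with hkl | hkl | hkl
    · left
      have hN1 : 1 ≤ N := by
        rcases Nat.eq_zero_or_pos N with h0 | h0
        · rw [h0, Nat.mul_zero] at hn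
          have : c * M ≤ c * M + 0 := le_rfl
          omega
        · exact h0
      by_contra hcon
      have hreal : c * N = n → e = 0 := by
        intro h1
        have hk0 : k = 0 := by omega
        by_contra h2
        apply hcon
        exact ⟨hk0, Or.inl (by omega)⟩
      obtain ⟨B, hBA, hBm, hBn, -, -⟩ := h N hN1 (by omega) hreal
      have hBM : B ≤ M := le_of_mul_le_add hl (by omega)
      have := Nat.mul_le_mul_left c hBM
      omega
    · have hMN' : M < N := by
        by_contra hcon
        have h1 : N = M := by omega
        subst h1
        omega
      have hN1 : 1 ≤ N := by omega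
      rcases Nat.eq_zero_or_pos l with hl0 | hl0
      · left
        refine ⟨by omega, ?_⟩
        by_contra hcon
        push Not at hcon
        obtain ⟨hc1, hc2⟩ := hcon
        have hc2' := hc2 hl0
        obtain ⟨B, hBA, hBm, hBn, hB0, -⟩ := h N hN1 (by omega) (fun _ => by omega)
        have hBM : B ≤ M := le_of_mul_le_add hl (by omega)
        have hMB : M ≤ B := by
          apply le_of_mul_le_add (l := 0) hc
          omega
        have hBeq : B = M := le_antisymm hBM hMB
        subst hBeq
        exact hc2' (hB0 (by omega))
      · right; right
        refine ⟨hkl, hl0, ?_⟩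
        obtain ⟨B, hBA, hBm, hBn, -, hBe⟩ := h N hN1 (by omega) (fun h1 => by omega)
        have hBM : B ≤ M := le_of_mul_le_add hl (by omega)
        have hMB : M ≤ B := by
          apply le_of_mul_le_add (l := 0) hc
          omega
        have hBeq : B = M := le_antisymm hBM hMB
        subst hBeq
        have := hBe (by omega)
        omega
    · right; left
      refine ⟨hkl, ?_⟩
      by_contra hcon
      push Not at hcon
      obtain ⟨hl0, hpar⟩ := hcon
      have hl0' : l = 0 := by omega
      have hM1 : 1 ≤ M := by
        rcases Nat.eq_zero_or_pos M with h0 | h0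
        · rw [h0, Nat.mul_zero] at hm
          omega
        · exact h0
      have hN1 : 1 ≤ N := by omega
      obtain ⟨B, hBA, hBm, hBn, hB0, -⟩ := h N hN1 (by omega) (fun h1 => by omega)
      have hBM : B ≤ M := le_of_mul_le_add hl (by omega)
      have hMB : M ≤ B := by
        apply le_of_mul_le_add hk
        omega
      have hBeq : B = M := le_antisymm hBM hMB
      subst hBeq
      exact hpar (hB0 (by omega))
  · intro hcond A hA1 hAn hAreal
    have hAN : A ≤ N := le_of_mul_le_add hk (by omega)
    have hcAN := Nat.mul_le_mul_left c hAN
    rcases hcond with ⟨hk0, hpar⟩ | ⟨hlk, hpar⟩ | ⟨hkl, hl0, hpar⟩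
    · subst hk0
      rcases Nat.lt_or_ge A M with hAM | hAM
      · have := mul_add_le_of_lt (c := c) hAM
        exact ⟨A, le_rfl, by omega, by omega, fun h1 => by omega, fun h1 => by omega⟩
      · have hcMA := Nat.mul_le_mul_left c hAM
        rcases Nat.eq_zero_or_pos l with hl0 | hl0
        · subst hl0
          have hM1 : 1 ≤ M := by
            rcases Nat.eq_zero_or_pos M with h0 | h0
            · rw [h0, Nat.mul_zero] at hm
              omega
            · exact h0
          by_cases htM : t = 0
          · refine ⟨M, hAM, by omega, by omega, fun _ => htM, fun h1 => ?_⟩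
            have h2 : c * A = c * N := by omega
            have := hAreal (by omega)
            omega
          · have heN : e = 1 := by
              rcases hpar with h1 | ⟨-, h1⟩
              · exact h1
              · exact absurd h1 htM
            have hAN' : A < N := by
              rcases Nat.lt_or_ge A N with h1 | h1
              · exact h1
              · have h2 : A = N := le_antisymm hAN h1
                subst h2
                have := hAreal (by omega)
                omega
            have h4 := mul_add_le_of_lt (c := c) hAN'
            have h5 : c * (M - 1) + c = c * M := by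
              have h9 : M - 1 + 1 = M := by omega
              have h10 := Nat.mul_succ c (M - 1)
              rw [Nat.succ_eq_add_one, h9] at h10
              omega
            exact ⟨M - 1, by omega, by omega, by omega, fun h1 => by omega, fun h1 => by omega⟩
        · have heN : e = 1 := by
            rcases hpar with h1 | ⟨h1, -⟩
            · exact h1
            · omega
          have hAN' : A < N := by
            rcases Nat.lt_or_ge A N with h1 | h1
            · exact h1
            · have h2 : A = N := le_antisymm hAN h1
              subst h2
              have := hAreal (by omega)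
              omega
          have h4 := mul_add_le_of_lt (c := c) hAN'
          exact ⟨M, hAM, by omega, by omega, fun h1 => by omega, fun h1 => by omega⟩
    · rcases Nat.lt_or_ge A M with hAM | hAM
      · have := mul_add_le_of_lt (c := c) hAM
        exact ⟨A, le_rfl, by omega, by omega, fun h1 => by omega, fun h1 => by omega⟩
      · have hcMA := Nat.mul_le_mul_left c hAM
        refine ⟨M, hAM, by omega, by omega, fun h1 => ?_, fun h1 => by omega⟩
        rcases hpar with h2 | h2
        · omega
        · exact h2
    · subst hkl
      rcases Nat.lt_or_ge A M with hAM | hAM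
      · have := mul_add_le_of_lt (c := c) hAM
        exact ⟨A, le_rfl, by omega, by omega, fun h1 => by omega, fun h1 => by omega⟩
      · have hcMA := Nat.mul_le_mul_left c hAM
        exact ⟨M, hAM, by omega, by omega, fun h1 => by omega, fun h1 => by omega⟩

end Cfsg.Agent.Lib.H24.On
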