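import Mathlib
import Cfsg.Agent.Lib.H24.OnBasic

set_option autoImplicit false

/-!
# The profile of an isometry of odd prime order `r ≠ p` and of its invariant nondegenerate
subspaces (helper24)

* `tw i X n`: the type `X` twisted by the parity of `n` when `i` is even;
* `profile`: helper13's `profile_even`, `profile_odd` in one statement;
* `profile_sub`: the same for an invariant nondegenerate subspace.
-/

namespace Cfsg.Agent.Lib.H24.On

open Polynomial Module
open Cfsg.Agent.Lib.H24.Elus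
open Cfsg.Agent.Lib.H13
open Cfsg.Agent.Lib.H13.OES
open Cfsg.Agent.Lib.H10.OrtNd (PB TS PlusOn PB_apply PB_symm PB_self TS_mono)

/-- the type `X` twisted by the parity of `n` when `i` is even -/
def tw (i : ℕ) (X : Prop) (n : ℕ) : Prop := (Even i → (X ↔ Even n)) ∧ (¬ Even i → X)

theorem tw_even {i : ℕ} (hi : Even i) (X : Prop) (n : ℕ) : tw i X n ↔ (X ↔ Even n) := by
  unfold tw
  constructor
  · intro h
    exact h.1 hi
  · intro h
    exact ⟨fun _ => h, fun h' => absurd hi h'⟩

theorem tw_odd {i : ℕ} (hi : ¬ Even i) (X : Prop) (n : ℕ) : tw i X n ↔ X := by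
  unfold tw
  constructor
  · intro h
    exact h.2 hi
  · intro h
    exact ⟨fun h' => absurd h' hi, fun _ => h⟩

theorem tw_zero (i : ℕ) (X : Prop) : tw i X 0 ↔ X := by
  by_cases hi : Even i
  · rw [tw_even hi]
    simp
  · rw [tw_odd hi]

theorem tw_congr (i : ℕ) {X Y : Prop} (h : X ↔ Y) (n : ℕ) : tw i X n ↔ tw i Y n := by
  unfold tw
  rw [h]

section profile

variable {F : Type*} [Field F] [Fintype F] {p q : ℕ} [Fact p.Prime] [CharP F p]
  {V : Type*} [AddCommGroup V] [Module F V] [Module.Finite F V]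
variable (Q : QuadraticForm F V) {y : End F V}

/-- the invariants of an isometry of odd prime order `r ≠ p` -/
theorem profile (hF : Fintype.card F = q) {r : ℕ} [Fact r.Prime] (hrp : r ≠ p)
    (hr2 : r ≠ 2) (hiso : ∀ v, Q (y v) = Q v) (hy : y ^ r = 1)
    (hQ : (QuadraticMap.polarBilin Q).Nondegenerate) (d : ℕ) (hV : finrank F V = 2 * d) :
    ∃ A, finrank F (LinearMap.ker (aeval y (cyclotomic r F))) = cOf (orderOf (q : ZMod r)) * A ∧
      finrank F (LinearMap.ker (aeval y (X - 1 : F[X]))) + cOf (orderOf (q : ZMod r)) * A =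
        2 * d ∧
      (PlusOn Q (LinearMap.ker (aeval y (X - 1 : F[X]))) ↔
        tw (orderOf (q : ZMod r)) (PlusOn Q ⊤) A) := by
  by_cases hi : Even (orderOf (q : ZMod r))
  · obtain ⟨a, h1, h2, h3⟩ := profile_even Q hF hrp hr2 hiso hy hQ hi d hV
    have hcOf : cOf (orderOf (q : ZMod r)) = orderOf (q : ZMod r) := by
      unfold cOf
      rw [if_pos hi]
    refine ⟨a, by rw [hcOf]; exact h1, by rw [hcOf]; exact h2, ?_⟩
    rw [tw_even hi]
    exact h3
  · obtain ⟨a, h1, h2, h3⟩ := profile_odd Q hF hrp hr2 hiso hy hQ hi d hV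
    have hcOf : cOf (orderOf (q : ZMod r)) = 2 * orderOf (q : ZMod r) := by
      unfold cOf
      rw [if_neg hi]
    refine ⟨a, by rw [hcOf]; exact h1, by rw [hcOf]; exact h2, ?_⟩
    rw [tw_odd hi]
    exact h3

theorem restrict_pow_eq_one {r : ℕ} (hy : y ^ r = 1) (W : Submodule F V)
    (hW : ∀ v ∈ W, y v ∈ W) : (y.restrict hW) ^ r = 1 := by
  apply LinearMap.ext
  intro w
  apply Subtype.ext
  have h1 := aeval_restrict_apply y W hW (X ^ r) w
  rw [map_pow, map_pow, aeval_X, aeval_X, hy] at h1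
  exact h1

/-- the invariants of an invariant nondegenerate subspace -/
theorem profile_sub (hF : Fintype.card F = q) {r : ℕ} [Fact r.Prime] (hrp : r ≠ p)
    (hr2 : r ≠ 2) (hiso : ∀ v, Q (y v) = Q v) (hy : y ^ r = 1)
    (W : Submodule F V) (hW : ∀ v ∈ W, y v ∈ W) (hnd : NDon (PB Q) W) (m' : ℕ)
    (hWd : finrank F W = 2 * m') :
    ∃ B, finrank F ↥(W ⊓ LinearMap.ker (aeval y (cyclotomic r F))) =
        cOf (orderOf (q : ZMod r)) * B ∧
      finrank F ↥(W ⊓ LinearMap.ker (aeval y (X - 1 : F[X]))) +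
        cOf (orderOf (q : ZMod r)) * B = 2 * m' ∧
      (PlusOn Q (W ⊓ LinearMap.ker (aeval y (X - 1 : F[X]))) ↔
        tw (orderOf (q : ZMod r)) (PlusOn Q W) B) := by
  obtain ⟨B, h1, h2, h3⟩ := profile (restrQ Q W) hF hrp hr2 (y := y.restrict hW)
    (fun v => hiso _) (restrict_pow_eq_one hy W hW) (nondeg_restrQ Q hnd) m' hWd
  refine ⟨B, ?_, ?_, ?_⟩
  · rw [← finrank_ker_restrict y W hW]
    exact h1
  · rw [← finrank_ker_restrict y W hW]
    exact h2
  · rw [← map_ker_restrict y W hW, PlusOn_map_iff Q (restrQ Q W) W.subtype (fun _ => rfl)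
      (Submodule.injective_subtype W), h3]
    exact tw_congr _ (PlusOn_iff_restr Q W).symm B

end profile

end Cfsg.Agent.Lib.H24.On
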