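import Mathlib
import Cfsg.Agent.Lib.H24.OnProfile
import Cfsg.Agent.Lib.H10.OrtNdG

set_option autoImplicit false

/-!
# Invariant nondegenerate subspaces of given type for an isometry of odd prime order `r ≠ p`
(helper24)

`GoodA i d m ε τ A`: the arithmetic condition for an isometry `y` with `dim ker Φ_r(y) = c A` of a
space of dimension `2 d` and type `ε` to fix a nondegenerate `m`-space of type `τ`;
`nd_nec_core`, `nd_suff_core`: the two directions.
-/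

namespace Cfsg.Agent.Lib.H24.On

open Polynomial Module
open Cfsg.Agent.Lib.H24.Elus
open Cfsg.Agent.Lib.H13
open Cfsg.Agent.Lib.H13.OES
open Cfsg.Agent.Lib.H10.OrtNd (PB TS PlusOn PB_apply PB_symm PB_self TS_mono)

/-- the arithmetic condition -/
def GoodA (i d m : ℕ) (ε τ : Prop) (A : ℕ) : Prop :=
  ∃ B, B ≤ A ∧ cOf i * B ≤ m ∧ m + cOf i * A ≤ 2 * d + cOf i * B ∧
    (m = cOf i * B → tw i τ B) ∧
    (m + cOf i * A = 2 * d + cOf i * B → (tw i τ B ↔ tw i ε A))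

theorem tw_cancel (i : ℕ) {X Y : Prop} (n : ℕ) (h : tw i X n ↔ tw i Y n) : X ↔ Y := by
  by_cases hi : Even i
  · rw [tw_even hi, tw_even hi] at h
    tauto
  · rwa [tw_odd hi, tw_odd hi] at h

section core

variable {F : Type*} [Field F] [Fintype F] {p q : ℕ} [Fact p.Prime] [CharP F p]
  {V : Type*} [AddCommGroup V] [Module F V] [Module.Finite F V]
variable (Q : QuadraticForm F V) {y : End F V}

/-- necessity -/
theorem nd_nec_core (hF : Fintype.card F = q) {r : ℕ} [Fact r.Prime] (hrp : r ≠ p)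
    (hr2 : r ≠ 2) (hiso : ∀ v, Q (y v) = Q v) (hy : y ^ r = 1)
    (hQ : (QuadraticMap.polarBilin Q).Nondegenerate) (d : ℕ) (hV : finrank F V = 2 * d)
    (A : ℕ)
    (hA : finrank F (LinearMap.ker (aeval y (cyclotomic r F))) = cOf (orderOf (q : ZMod r)) * A)
    (m : ℕ) (hm : Even m) (τ : Prop) (W : Submodule F V) (hW : NdT Q m τ W)
    (hWinv : ∀ v ∈ W, y v ∈ W) :
    GoodA (orderOf (q : ZMod r)) d m (PlusOn Q ⊤) τ A := by
  classical
  have hr : r.Prime := Fact.out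
  have hi0 : 0 < orderOf (q : ZMod r) := CycFactor.orderOf_pos hF hr hrp
  have hc0 : 0 < cOf (orderOf (q : ZMod r)) := cOf_pos hi0
  obtain ⟨hWm, hWnd, hWτ⟩ := hW
  obtain ⟨m', hm'⟩ := hm
  have hWd : finrank F W = 2 * m' := by rw [hWm, hm']; ring
  obtain ⟨A', hA1, hA2, hA3⟩ := profile Q hF hrp hr2 hiso hy hQ d hV
  have hAA : A' = A := by
    rw [hA] at hA1
    exact (Nat.eq_of_mul_eq_mul_left hc0 hA1).symm
  subst hAA
  obtain ⟨B, hB1, hB2, hB3⟩ := profile_sub Q hF hrp hr2 hiso hy W hWinv hWnd m' hWd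
  have hB3' : PlusOn Q (W ⊓ LinearMap.ker (aeval y (X - 1 : F[X]))) ↔
      tw (orderOf (q : ZMod r)) τ B := hB3.trans (tw_congr _ hWτ B)
  have hle1 : finrank F ↥(W ⊓ LinearMap.ker (aeval y (cyclotomic r F))) ≤
      finrank F (LinearMap.ker (aeval y (cyclotomic r F))) := Submodule.finrank_mono inf_le_right
  have hle2 : finrank F ↥(W ⊓ LinearMap.ker (aeval y (X - 1 : F[X]))) ≤
      finrank F (LinearMap.ker (aeval y (X - 1 : F[X]))) := Submodule.finrank_mono inf_le_right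
  rw [hB1, hA1] at hle1
  refine ⟨B, Nat.le_of_mul_le_mul_left hle1 hc0, by omega, by omega, ?_, ?_⟩
  · intro hmB
    have h0 : finrank F ↥(W ⊓ LinearMap.ker (aeval y (X - 1 : F[X]))) = 0 := by omega
    rw [← hB3', Submodule.finrank_eq_zero.mp h0]
    exact PlusOn_bot Q
  · intro heq
    have h0 : finrank F ↥(W ⊓ LinearMap.ker (aeval y (X - 1 : F[X]))) =
        finrank F (LinearMap.ker (aeval y (X - 1 : F[X]))) := by omega
    have h1 : W ⊓ LinearMap.ker (aeval y (X - 1 : F[X])) =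
        LinearMap.ker (aeval y (X - 1 : F[X])) :=
      Submodule.eq_of_le_of_finrank_eq inf_le_right h0
    rw [← hB3', ← hA3, h1]

/-- sufficiency -/
theorem nd_suff_core (hF : Fintype.card F = q) {r : ℕ} [Fact r.Prime] (hrp : r ≠ p)
    (hr2 : r ≠ 2) (hiso : ∀ v, Q (y v) = Q v) (hy : y ^ r = 1)
    (hQ : (QuadraticMap.polarBilin Q).Nondegenerate) (d : ℕ) (hV : finrank F V = 2 * d)
    (A : ℕ)
    (hA : finrank F (LinearMap.ker (aeval y (cyclotomic r F))) = cOf (orderOf (q : ZMod r)) * A)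
    (m : ℕ) (hm : Even m) (τ : Prop)
    (hgood : GoodA (orderOf (q : ZMod r)) d m (PlusOn Q ⊤) τ A) :
    ∃ W : Submodule F V, NdT Q m τ W ∧ ∀ v ∈ W, y v ∈ W := by
  classical
  have hr : r.Prime := Fact.out
  have hrF : (r : F) ≠ 0 := CycFactor.natCast_ne_zero hr hrp
  have hi0 : 0 < orderOf (q : ZMod r) := CycFactor.orderOf_pos hF hr hrp
  have hc0 : 0 < cOf (orderOf (q : ZMod r)) := cOf_pos hi0
  obtain ⟨c', hc'⟩ := cOf_even (orderOf (q : ZMod r))
  obtain ⟨m', hm'⟩ := hm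
  obtain ⟨A', hA1, hA2, hA3⟩ := profile Q hF hrp hr2 hiso hy hQ d hV
  have hAA : A' = A := by
    rw [hA] at hA1
    exact (Nat.eq_of_mul_eq_mul_left hc0 hA1).symm
  subst hAA
  obtain ⟨hFxnd, hCynd, -, horth, -, -, -, -⟩ := struct_gen Q hF hrp hr2 hiso hy hQ
  obtain ⟨B, hBA, hBm, hBd, hB0, hBf⟩ := hgood
  have hsym := PB_symm Q
  have hisoB := polar_iso Q hiso
  have hCyinv : ∀ v ∈ LinearMap.ker (aeval y (cyclotomic r F)),
      y v ∈ LinearMap.ker (aeval y (cyclotomic r F)) :=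
    fun v hv => SSClass.ker_aeval_invariant y _ v hv
  -- the part without fixed vectors
  obtain ⟨W₁, hW₁le, hW₁inv, hW₁nd, hW₁d⟩ := Cfsg.Agent.Lib.H10.OrtNd.exists_sub_cycS hF hrp hr2
    hsym hisoB hy _ hCyinv hCynd le_rfl B (by
      rw [hA, mul_comm]
      exact Nat.mul_le_mul_left _ hBA)
  -- the fixed part
  obtain ⟨j, hj⟩ : ∃ j, j = m' - c' * B := ⟨_, rfl⟩
  obtain ⟨f, hf⟩ : ∃ f, f = d - c' * A' := ⟨_, rfl⟩
  have hcB : cOf (orderOf (q : ZMod r)) * B = 2 * (c' * B) := by rw [hc']; ring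
  have hcA : cOf (orderOf (q : ZMod r)) * A' = 2 * (c' * A') := by rw [hc']; ring
  have hFxd : finrank F (LinearMap.ker (aeval y (X - 1 : F[X]))) = 2 * f := by omega
  obtain ⟨W₀, hW₀le, hW₀d, hW₀nd, hW₀τ⟩ := exists_typed_sub Q _ hFxnd f hFxd j
    (tw (orderOf (q : ZMod r)) τ B) (by omega) (fun h => hB0 (by omega))
    (fun h => (hBf (by omega)).trans hA3.symm)
  have horth' : ∀ u ∈ W₀, ∀ v ∈ W₁, PB Q u v = 0 :=
    fun u hu v hv => horth u (hW₀le hu) v (hW₁le hv)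
  have hWnd : NDon (PB Q) (W₀ ⊔ W₁) :=
    Cfsg.Agent.Lib.H10.OrtNd.NDon_supS (PB Q) hsym W₀ W₁ hW₀nd hW₁nd horth'
  have hdisj : W₀ ⊓ W₁ = ⊥ :=
    Cfsg.Agent.Lib.H10.OrtNd.inf_eq_bot_of_orthS (PB Q) hsym W₀ W₁ hW₀nd horth'
  have hWd : finrank F ↥(W₀ ⊔ W₁) = 2 * m' := by
    have := Submodule.finrank_sup_add_finrank_inf_eq W₀ W₁
    rw [hdisj, finrank_bot, add_zero, hW₀d, hW₁d] at this
    rw [this, mul_comm B]
    omega
  have hWinv : ∀ v ∈ W₀ ⊔ W₁, y v ∈ W₀ ⊔ W₁ := by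
    intro v hv
    obtain ⟨a, ha, b, hb, rfl⟩ := Submodule.mem_sup.mp hv
    rw [map_add]
    apply Submodule.add_mem
    · apply Submodule.mem_sup_left
      rw [(mem_fix_iff a).mp (hW₀le ha)]
      exact ha
    · exact Submodule.mem_sup_right (hW₁inv b hb)
  obtain ⟨B', hB1, hB2, hB3⟩ := profile_sub Q hF hrp hr2 hiso hy _ hWinv hWnd m' hWd
  -- identification of the two parts
  have hle0 : W₀ ≤ (W₀ ⊔ W₁) ⊓ LinearMap.ker (aeval y (X - 1 : F[X])) :=
    le_inf le_sup_left hW₀le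
  have hle1 : W₁ ≤ (W₀ ⊔ W₁) ⊓ LinearMap.ker (aeval y (cyclotomic r F)) :=
    le_inf le_sup_right hW₁le
  have hd0 := Submodule.finrank_mono hle0
  have hd1 := Submodule.finrank_mono hle1
  rw [hW₀d] at hd0
  rw [hW₁d, hB1] at hd1
  have hBB : B' = B := by
    have h3 : cOf (orderOf (q : ZMod r)) * B' = cOf (orderOf (q : ZMod r)) * B := by
      rw [mul_comm B] at hd1
      omega
    exact Nat.eq_of_mul_eq_mul_left hc0 h3
  subst hBB
  have heq0 : W₀ = (W₀ ⊔ W₁) ⊓ LinearMap.ker (aeval y (X - 1 : F[X])) := by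
    apply Submodule.eq_of_le_of_finrank_eq hle0
    rw [hW₀d]
    omega
  refine ⟨W₀ ⊔ W₁, ⟨by rw [hWd, hm']; ring, hWnd, ?_⟩, hWinv⟩
  rw [← heq0, hW₀τ] at hB3
  exact (tw_cancel _ B' hB3).symm

end core

end Cfsg.Agent.Lib.H24.On
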