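import Mathlib
import Cfsg.Agent.Lib.H24.OnBasic
import Cfsg.Agent.Lib.H10.OrtNdH

set_option autoImplicit false

/-!
# The isometry group acts transitively on the nondegenerate subspaces of given dimension and type
(helper24)

* `NdSet Q m τ` with the action `ndSetAction` of helper10's abstract isometry group `IsoG Q`;
* `exists_IsoG_map_nd` (Witt, S0750): the action is transitive;
* `card_ndSet_dvd`: the number of these subspaces divides the order of the isometry group;
* `exists_isometry_of_dvd`: Cauchy;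
* `card_ndSet_modEq_fixed`: the fixed point congruence for an isometry of prime order.
-/

namespace Cfsg.Agent.Lib.H24.On

open Polynomial Module
open Cfsg.Agent.Lib.H24.Elus
open Cfsg.Agent.Lib.H13
open Cfsg.Agent.Lib.H13.OES
open Cfsg.Agent.Lib.H10.OrtNd (PB TS PlusOn PB_apply PB_symm PB_self TS_mono IsoG mem_IsoG)

section action

variable {F : Type*} [Field F] {V : Type*} [AddCommGroup V] [Module F V]
variable (Q : QuadraticForm F V)

/-- the nondegenerate `m`-subspaces of type `τ` -/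
def NdSet (m : ℕ) (τ : Prop) : Set (Submodule F V) := {W | NdT Q m τ W}

variable {Q}

theorem ndT_map [FiniteDimensional F V] {g : V ≃ₗ[F] V} (hg : g ∈ IsoG Q) {m : ℕ} {τ : Prop}
    {W : Submodule F V} (hW : NdT Q m τ W) : NdT Q m τ (W.map (g : V →ₗ[F] V)) := by
  obtain ⟨h1, h2, h3⟩ := hW
  refine ⟨?_, ?_, ?_⟩
  · rw [finrank_map_inj (g : V →ₗ[F] V) g.injective, h1]
  · exact (NDon_map_iff Q Q (g : V →ₗ[F] V) hg g.injective W).mpr h2
  · rw [PlusOn_map_iff Q Q (g : V →ₗ[F] V) hg g.injective W]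
    exact h3

variable (Q)

noncomputable instance ndSetAction [FiniteDimensional F V] (m : ℕ) (τ : Prop) :
    MulAction ↥(IsoG Q) ↥(NdSet Q m τ) where
  smul g W := ⟨W.1.map ((g : V ≃ₗ[F] V) : V →ₗ[F] V), ndT_map g.2 W.2⟩
  one_smul W := by
    apply Subtype.ext
    show W.1.map (((1 : ↥(IsoG Q)) : V ≃ₗ[F] V) : V →ₗ[F] V) = W.1
    exact Submodule.map_id W.1
  mul_smul g h W := by
    apply Subtype.ext
    show W.1.map (((g * h : ↥(IsoG Q)) : V ≃ₗ[F] V) : V →ₗ[F] V) =
      (W.1.map ((h : V ≃ₗ[F] V) : V →ₗ[F] V)).map ((g : V ≃ₗ[F] V) : V →ₗ[F] V)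
    rw [← Submodule.map_comp]
    rfl

theorem ndSet_smul_coe [FiniteDimensional F V] (m : ℕ) (τ : Prop) (g : ↥(IsoG Q))
    (W : ↥(NdSet Q m τ)) :
    ((g • W : ↥(NdSet Q m τ)) : Submodule F V) = W.1.map ((g : V ≃ₗ[F] V) : V →ₗ[F] V) := rfl

end action

section trans

variable {F : Type*} [Field F] [Fintype F] {V : Type*} [AddCommGroup V] [Module F V]
  [FiniteDimensional F V]
variable (Q : QuadraticForm F V)

/-- Witt: the isometry group is transitive on nondegenerate subspaces of given dimension and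
type -/
theorem exists_IsoG_map_nd (hQ : (QuadraticMap.polarBilin Q).Nondegenerate) {n : ℕ}
    (hn : 1 ≤ n) (τ : Prop) (W₁ W₂ : ↥(NdSet Q (2 * n) τ)) : ∃ g : ↥(IsoG Q), g • W₁ = W₂ := by
  obtain ⟨h1d, h1n, h1t⟩ := W₁.2
  obtain ⟨h2d, h2n, h2t⟩ := W₂.2
  obtain ⟨e, he⟩ := iso_of_same_type (restrQ Q W₁.1) (restrQ Q W₂.1) (nondeg_restrQ Q h1n)
    (nondeg_restrQ Q h2n) n hn h1d h2d (by
      rw [← PlusOn_iff_restr, ← PlusOn_iff_restr, h1t, h2t])
  obtain ⟨g, hg, hgx⟩ := Cfsg.Agent.S0750.result Q hQ W₁.1 W₂.1 e he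
  refine ⟨⟨g, hg⟩, ?_⟩
  apply Subtype.ext
  rw [ndSet_smul_coe]
  apply le_antisymm
  · rintro _ ⟨x, hx, rfl⟩
    have := hgx ⟨x, hx⟩
    rw [LinearEquiv.coe_coe]
    show g x ∈ W₂.1
    rw [this]
    exact (e ⟨x, hx⟩).2
  · intro w hw
    refine ⟨(e.symm ⟨w, hw⟩ : ↥W₁.1), (e.symm ⟨w, hw⟩).2, ?_⟩
    rw [LinearEquiv.coe_coe]
    have := hgx (e.symm ⟨w, hw⟩)
    show g ((e.symm ⟨w, hw⟩ : ↥W₁.1) : V) = w
    rw [this, LinearEquiv.apply_symm_apply]

theorem finite_linearEquiv : Finite (V ≃ₗ[F] V) := by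
  have : Finite V := Module.finite_of_finite F
  exact Finite.of_injective (fun g => (g : V → V)) (fun g h hgh => LinearEquiv.ext (congrFun hgh))

theorem finite_submodule' : Finite (Submodule F V) := by
  have : Finite V := Module.finite_of_finite F
  exact Finite.of_injective (fun W => (W : Set V)) SetLike.coe_injective

/-- the number of nondegenerate subspaces of given dimension and type divides the order of the
isometry group -/
theorem card_ndSet_dvd (hQ : (QuadraticMap.polarBilin Q).Nondegenerate) {n : ℕ} (hn : 1 ≤ n)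
    (τ : Prop) (hne : (NdSet Q (2 * n) τ).Nonempty) :
    Nat.card ↥(NdSet Q (2 * n) τ) ∣ Nat.card ↥(IsoG Q) := by
  classical
  haveI : Finite (V ≃ₗ[F] V) := finite_linearEquiv
  haveI : Finite (Submodule F V) := finite_submodule'
  obtain ⟨W₀, hW₀⟩ := hne
  let w₀ : ↥(NdSet Q (2 * n) τ) := ⟨W₀, hW₀⟩
  have horb : MulAction.orbit ↥(IsoG Q) w₀ = Set.univ := by
    ext W
    simp only [Set.mem_univ, iff_true]
    obtain ⟨g, hg⟩ := exists_IsoG_map_nd Q hQ hn τ w₀ W
    exact ⟨g, hg⟩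
  haveI : Fintype ↥(IsoG Q) := Fintype.ofFinite _
  haveI : Fintype ↑(MulAction.orbit ↥(IsoG Q) w₀) := Fintype.ofFinite _
  haveI : Fintype ↥(MulAction.stabilizer ↥(IsoG Q) w₀) := Fintype.ofFinite _
  have h := MulAction.card_orbit_mul_card_stabilizer_eq_card_group ↥(IsoG Q) w₀
  have h1 : Fintype.card ↑(MulAction.orbit ↥(IsoG Q) w₀) = Nat.card ↥(NdSet Q (2 * n) τ) := by
    rw [← Nat.card_eq_fintype_card]
    exact Nat.card_congr ((Equiv.setCongr horb).trans (Equiv.Set.univ _))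
  rw [h1, ← Nat.card_eq_fintype_card (α := ↥(IsoG Q))] at h
  exact ⟨_, h.symm⟩

/-- Cauchy: a prime dividing the order of the isometry group is the order of an isometry -/
theorem exists_isometry_of_dvd (r : ℕ) [Fact r.Prime] (h : r ∣ Nat.card ↥(IsoG Q)) :
    ∃ y : End F V, (∀ v, Q (y v) = Q v) ∧ y ^ r = 1 ∧ y ≠ 1 := by
  classical
  haveI : Finite (V ≃ₗ[F] V) := finite_linearEquiv
  haveI : Fintype ↥(IsoG Q) := Fintype.ofFinite _
  rw [Nat.card_eq_fintype_card] at h
  obtain ⟨g, hg⟩ := exists_prime_orderOf_dvd_card r h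
  have hgr : g ^ r = 1 := by rw [← hg]; exact pow_orderOf_eq_one g
  have hg1 : g ≠ 1 := by
    intro h1
    rw [h1, orderOf_one] at hg
    exact (Fact.out : r.Prime).one_lt.ne hg
  have hpow : ∀ k : ℕ, ∀ v, (((g : V ≃ₗ[F] V) : End F V) ^ k) v = ((g ^ k : ↥(IsoG Q)) : V ≃ₗ[F] V) v := by
    intro k
    induction k with
    | zero => intro v; rfl
    | succ k ih =>
      intro v
      rw [pow_succ, Module.End.mul_apply, ih, pow_succ]
      rfl
  refine ⟨((g : V ≃ₗ[F] V) : End F V), fun v => g.2 v, ?_, ?_⟩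
  · apply LinearMap.ext
    intro v
    rw [hpow, hgr]
    rfl
  · intro h1
    apply hg1
    apply Subtype.ext
    apply LinearEquiv.ext
    intro v
    have := congrArg (fun φ : End F V => φ v) h1
    exact this

end trans

section fpc

variable {F : Type*} [Field F] [Fintype F] {V : Type*} [AddCommGroup V] [Module F V]
  [FiniteDimensional F V]
variable (Q : QuadraticForm F V)

/-- an endomorphism of finite order as a linear equivalence -/
noncomputable def equivOfPow (y : End F V) (r : ℕ) (hr : 0 < r) (hy : y ^ r = 1) : V ≃ₗ[F] V :=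
  LinearEquiv.ofLinear y (y ^ (r - 1))
    (by rw [← Module.End.mul_eq_comp, ← pow_succ', Nat.sub_add_cancel hr, hy]; rfl)
    (by rw [← Module.End.mul_eq_comp, ← pow_succ, Nat.sub_add_cancel hr, hy]; rfl)

theorem equivOfPow_apply (y : End F V) (r : ℕ) (hr : 0 < r) (hy : y ^ r = 1) (v : V) :
    equivOfPow y r hr hy v = y v := rfl

/-- the fixed point congruence -/
theorem card_ndSet_modEq_fixed (r : ℕ) [Fact r.Prime] (y : End F V)
    (hiso : ∀ v, Q (y v) = Q v) (hy : y ^ r = 1) (m : ℕ) (τ : Prop) :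
    Nat.card ↥(NdSet Q m τ) ≡
      Nat.card {W : Submodule F V // NdT Q m τ W ∧ W.map y = W} [MOD r] := by
  classical
  have hr : r.Prime := Fact.out
  haveI : Finite (Submodule F V) := finite_submodule'
  haveI : Fintype ↥(NdSet Q m τ) := Fintype.ofFinite _
  obtain ⟨g, hg⟩ : ∃ g : ↥(IsoG Q), g = ⟨equivOfPow y r hr.pos hy, hiso⟩ := ⟨_, rfl⟩
  have hgr : g ^ r = 1 := by
    apply Subtype.ext
    apply LinearEquiv.ext
    intro v
    have hpow : ∀ k : ℕ, ∀ v, ((g ^ k : ↥(IsoG Q)) : V ≃ₗ[F] V) v = (y ^ k) v := by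
      intro k
      induction k with
      | zero => intro v; rfl
      | succ k ih =>
        intro v
        rw [pow_succ, pow_succ, Module.End.mul_apply, ← ih]
        show ((g ^ k : ↥(IsoG Q)) : V ≃ₗ[F] V) ((g : V ≃ₗ[F] V) v) = _
        rw [hg]
        rfl
    rw [hpow, hy]
    rfl
  obtain ⟨f, hf⟩ : ∃ f : Function.End ↥(NdSet Q m τ),
      f = MulAction.toEndHom (M := ↥(IsoG Q)) g := ⟨_, rfl⟩
  have hfr : f ^ r ^ 1 = 1 := by
    rw [pow_one, hf, ← map_pow, hgr, map_one]
  have hmodeq := Equiv.Perm.card_fixedPoints_modEq hfr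
  rw [Fintype.card_eq_nat_card, Fintype.card_eq_nat_card] at hmodeq
  have hfapp : ∀ W' : ↥(NdSet Q m τ), (f W').1 = W'.1.map y := by
    intro W'
    rw [hf, hg]
    rfl
  have hcard : Nat.card ↥(Function.fixedPoints f) =
      Nat.card {W : Submodule F V // NdT Q m τ W ∧ W.map y = W} := by
    apply Nat.card_congr
    refine
      { toFun := fun W' => ⟨W'.1.1, W'.1.2, ?_⟩
        invFun := fun W' => ⟨⟨W'.1, W'.2.1⟩, ?_⟩
        left_inv := fun W' => rfl
        right_inv := fun W' => rfl }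
    · have hfixed : (f W'.1).1 = W'.1.1 := congrArg Subtype.val W'.2
      rw [hfapp] at hfixed
      exact hfixed
    · show f ⟨W'.1, W'.2.1⟩ = ⟨W'.1, W'.2.1⟩
      apply Subtype.ext
      rw [hfapp]
      exact W'.2.2
  rw [hcard] at hmodeq
  exact hmodeq

end fpc

end Cfsg.Agent.Lib.H24.On
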