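import Mathlib
import Cfsg.Agent.Lib.H24.OnOddCore
import Cfsg.Agent.Lib.H24.OnTrans

set_option autoImplicit false

/-!
# Test elements and the fixed point argument (helper24)

* `Real i d ε A`: an isometry of order `r` with `dim ker Φ_r = c A` exists on a space of dimension
  `2 d` and type `ε`;
* `exists_test_A`: such test elements (from helper13's `exists_test`);
* `real_of_isometry`: conversely;
* `nd_small_false`: if `m < c` and `r` divides the number of nondegenerate `m`-spaces of type `τ`,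
  then some isometry of order `r` fixes none of them.
-/

namespace Cfsg.Agent.Lib.H24.On

open Polynomial Module
open Cfsg.Agent.Lib.H24.Elus
open Cfsg.Agent.Lib.H13
open Cfsg.Agent.Lib.H13.OES
open Cfsg.Agent.Lib.H10.OrtNd (PB TS PlusOn PB_apply PB_symm PB_self TS_mono IsoG mem_IsoG)

/-- realizability of `A` -/
def Real (i d : ℕ) (ε : Prop) (A : ℕ) : Prop :=
  cOf i * A ≤ 2 * d ∧ (cOf i * A = 2 * d → tw i ε A)

theorem tw_of_both {i : ℕ} {X Y : Prop} {n : ℕ} (hX : tw i X n) (hY : tw i Y n) : X ↔ Y :=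
  tw_cancel i n ⟨fun _ => hY, fun _ => hX⟩

theorem tw_add (i : ℕ) (ε : Prop) (A a : ℕ) : tw i (tw i ε A) a ↔ tw i ε (A + a) := by
  by_cases hi : Even i
  · rw [tw_even hi, tw_even hi, tw_even hi, Nat.even_add]
    tauto
  · rw [tw_odd hi, tw_odd hi, tw_odd hi]

section test

variable {F : Type*} [Field F] [Fintype F] {p q : ℕ} [Fact p.Prime] [CharP F p]
  {V : Type*} [AddCommGroup V] [Module F V] [FiniteDimensional F V]

/-- an isometry of order `r` gives a realizable `A` -/
theorem real_of_isometry (hF : Fintype.card F = q) {r : ℕ} [Fact r.Prime] (hrp : r ≠ p)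
    (hr2 : r ≠ 2) (Q : QuadraticForm F V) {y : End F V} (hiso : ∀ v, Q (y v) = Q v)
    (hy : y ^ r = 1) (hQ : (QuadraticMap.polarBilin Q).Nondegenerate) (d : ℕ)
    (hV : finrank F V = 2 * d) (A : ℕ)
    (hA : finrank F (LinearMap.ker (aeval y (cyclotomic r F))) =
      cOf (orderOf (q : ZMod r)) * A) :
    Real (orderOf (q : ZMod r)) d (PlusOn Q ⊤) A := by
  classical
  have hr : r.Prime := Fact.out
  have hi0 : 0 < orderOf (q : ZMod r) := CycFactor.orderOf_pos hF hr hrp
  have hc0 : 0 < cOf (orderOf (q : ZMod r)) := cOf_pos hi0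
  obtain ⟨A', hA1, hA2, hA3⟩ := profile Q hF hrp hr2 hiso hy hQ d hV
  have hAA : A' = A := by
    rw [hA] at hA1
    exact (Nat.eq_of_mul_eq_mul_left hc0 hA1).symm
  subst hAA
  refine ⟨by omega, fun heq => ?_⟩
  have h0 : finrank F (LinearMap.ker (aeval y (X - 1 : F[X]))) = 0 := by omega
  rw [← hA3, Submodule.finrank_eq_zero.mp h0]
  exact PlusOn_bot Q

/-- test elements -/
theorem exists_test_A (hF : Fintype.card F = q) (r : ℕ) [Fact r.Prime] (hrp : r ≠ p)
    (hr2 : r ≠ 2) (Q : QuadraticForm F V) (hQ : (QuadraticMap.polarBilin Q).Nondegenerate)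
    (d : ℕ) (hd : 1 ≤ d) (hV : finrank F V = 2 * d) (A : ℕ)
    (hreal : Real (orderOf (q : ZMod r)) d (PlusOn Q ⊤) A) :
    ∃ y : End F V, (∀ v, Q (y v) = Q v) ∧ y ^ r = 1 ∧
      finrank F (LinearMap.ker (aeval y (cyclotomic r F))) =
        cOf (orderOf (q : ZMod r)) * A := by
  classical
  have hr : r.Prime := Fact.out
  have hi0 : 0 < orderOf (q : ZMod r) := CycFactor.orderOf_pos hF hr hrp
  have hc0 : 0 < cOf (orderOf (q : ZMod r)) := cOf_pos hi0
  obtain ⟨c', hc'⟩ := cOf_even (orderOf (q : ZMod r))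
  obtain ⟨hle, htype⟩ := hreal
  obtain ⟨k, hk⟩ : ∃ k, k = cOf (orderOf (q : ZMod r)) * A := ⟨_, rfl⟩
  obtain ⟨n, hn⟩ : ∃ n, n = d - c' * A := ⟨_, rfl⟩
  have hkk : k = 2 * (c' * A) := by rw [hk, hc']; ring
  have hkn : k + 2 * n = 2 * d := by omega
  have hfrk : finrank F (Fin k → F) = 2 * (c' * A) := by
    rw [Module.finrank_fintype_fun_eq_card, Fintype.card_fin, hkk]
  obtain ⟨μ, hb⟩ : ∃ μ, IsTestData (F := F) r k 0 μ := by
    by_cases hi : Even (orderOf (q : ZMod r))
    · have hcard := CycFactor.card_S (F := F) hF hr hrp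
      have hpos : 0 < Fintype.card (CycFactor.S r F) := by
        rcases Nat.eq_zero_or_pos (Fintype.card (CycFactor.S r F)) with h | h
        · rw [h, zero_mul] at hcard
          have := hr.two_le
          omega
        · exact h
      obtain ⟨s₀⟩ : Nonempty (CycFactor.S r F) := Fintype.card_pos_iff.mp hpos
      have hcOf : cOf (orderOf (q : ZMod r)) = orderOf (q : ZMod r) := by
        unfold cOf
        rw [if_pos hi]
      exact ⟨_, (block_S hF r hrp hr2 hi s₀ A).congr (by rw [hk, hcOf, mul_comm]) rfl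
        (fun _ => rfl)⟩
    · have hcOf : cOf (orderOf (q : ZMod r)) = 2 * orderOf (q : ZMod r) := by
        unfold cOf
        rw [if_neg hi]
      obtain ⟨μ, hμ⟩ := block_odd (F := F) hF r hrp A
      exact ⟨μ, hμ.congr (by rw [hk, hcOf, mul_comm]) rfl (fun _ => rfl)⟩
  obtain ⟨y, hyiso, hyr, hyfix, -⟩ := exists_test r hrp Q hQ d hd hV k n hkn
    ⟨c' * A, by rw [hkk]; ring⟩ μ hb (by
      intro hn0 Q' y' hQ' hiso' hy' hfix' _
      obtain ⟨A'', h1, h2, h3⟩ := profile Q' hF hrp hr2 hiso' hy' hQ' (c' * A) hfrk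
      have hAA : A'' = A := by
        have : cOf (orderOf (q : ZMod r)) * A'' = cOf (orderOf (q : ZMod r)) * A := by
          rw [hfix', zero_add] at h2
          rw [h2, hc']
          ring
        exact Nat.eq_of_mul_eq_mul_left hc0 this
      subst hAA
      have h4 : tw (orderOf (q : ZMod r)) (PlusOn Q' ⊤) A'' := by
        rw [← h3, Submodule.finrank_eq_zero.mp hfix']
        exact PlusOn_bot Q'
      exact tw_of_both h4 (htype (by omega)))
  refine ⟨y, hyiso, hyr, ?_⟩
  obtain ⟨A₂, h1, h2, -⟩ := profile Q hF hrp hr2 hyiso hyr hQ d hV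
  rw [h1]
  omega

end test

section small

variable {F : Type*} [Field F] [Fintype F] {p q : ℕ} [Fact p.Prime] [CharP F p]
  {V : Type*} [AddCommGroup V] [Module F V] [FiniteDimensional F V]

/-- invariant nondegenerate subspaces of dimension `< c` are fixed pointwise -/
theorem le_fix_of_small (hF : Fintype.card F = q) {r : ℕ} [Fact r.Prime] (hrp : r ≠ p)
    (hr2 : r ≠ 2) (Q : QuadraticForm F V) {y : End F V} (hiso : ∀ v, Q (y v) = Q v)
    (hy : y ^ r = 1) (m : ℕ) (hm : Even m) (hmc : m < cOf (orderOf (q : ZMod r)))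
    (W : Submodule F V) (hWd : finrank F W = m) (hWnd : NDon (PB Q) W)
    (hWinv : ∀ v ∈ W, y v ∈ W) : W ≤ LinearMap.ker (aeval y (X - 1 : F[X])) := by
  obtain ⟨m', hm'⟩ := hm
  obtain ⟨B, hB1, hB2, -⟩ := profile_sub Q hF hrp hr2 hiso hy W hWinv hWnd m'
    (by rw [hWd, hm']; ring)
  have hB0 : B = 0 := by
    rcases Nat.eq_zero_or_pos B with h | h
    · exact h
    · have : cOf (orderOf (q : ZMod r)) * 1 ≤ cOf (orderOf (q : ZMod r)) * B :=
        Nat.mul_le_mul_left _ h
      omega
  rw [hB0, mul_zero, add_zero] at hB2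
  have h1 : W ⊓ LinearMap.ker (aeval y (X - 1 : F[X])) = W := by
    apply Submodule.eq_of_le_of_finrank_eq inf_le_left
    rw [hB2, hWd, hm']
    ring
  rw [← h1]
  exact inf_le_right

/-- if `m < c` and `r` divides the number of nondegenerate `m`-spaces of type `τ`, then not every
isometry of order `r` fixes one of them -/
theorem nd_small_false (hF : Fintype.card F = q) (r : ℕ) [Fact r.Prime] (hrp : r ≠ p)
    (hr2 : r ≠ 2) (Q : QuadraticForm F V) (hQ : (QuadraticMap.polarBilin Q).Nondegenerate)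
    (d : ℕ) (hd : 1 ≤ d) (hV : finrank F V = 2 * d) (m : ℕ) (hm : Even m) (hm0 : 0 < m)
    (hm2 : m < 2 * d) (τ : Prop) (hmc : m < cOf (orderOf (q : ZMod r)))
    (hrΩ : r ∣ Nat.card ↥(NdSet Q m τ))
    (hall : ∀ y : End F V, (∀ v, Q (y v) = Q v) → y ^ r = 1 → y ≠ 1 →
      ∃ W : Submodule F V, NdT Q m τ W ∧ ∀ v ∈ W, y v ∈ W) : False := by
  classical
  have hr : r.Prime := Fact.out
  have hi0 : 0 < orderOf (q : ZMod r) := CycFactor.orderOf_pos hF hr hrp
  have hc0 : 0 < cOf (orderOf (q : ZMod r)) := cOf_pos hi0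
  obtain ⟨c', hc'⟩ := cOf_even (orderOf (q : ZMod r))
  obtain ⟨m', hm'⟩ := hm
  -- the largest realizable `A`
  obtain ⟨P, hP⟩ : ∃ P : ℕ → Prop, P = fun A => Real (orderOf (q : ZMod r)) d (PlusOn Q ⊤) A :=
    ⟨_, rfl⟩
  have hP0 : P 0 := by
    rw [hP]
    exact ⟨by omega, fun h => by omega⟩
  have hPle : ∀ A, P A → A ≤ 2 * d := by
    intro A hA
    rw [hP] at hA
    have := hA.1
    calc A = 1 * A := (one_mul A).symm
      _ ≤ cOf (orderOf (q : ZMod r)) * A := Nat.mul_le_mul_right _ hc0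
      _ ≤ 2 * d := this
  obtain ⟨A, hA⟩ : ∃ A, A = Nat.findGreatest P (2 * d) := ⟨_, rfl⟩
  have hPA : P A := by
    rw [hA]
    exact Nat.findGreatest_spec (Nat.zero_le _) hP0
  have hmax : ∀ A', P A' → A' ≤ A := by
    intro A' hA'
    rw [hA]
    exact Nat.le_findGreatest (hPle A' hA') hA'
  have hreal : Real (orderOf (q : ZMod r)) d (PlusOn Q ⊤) A := by
    rw [hP] at hPA
    exact hPA
  obtain ⟨y, hyiso, hyr, hyA⟩ := exists_test_A hF r hrp hr2 Q hQ d hd hV A hreal
  obtain ⟨A', hA1, hA2, hA3⟩ := profile Q hF hrp hr2 hyiso hyr hQ d hV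
  have hAA : A' = A := by
    rw [hyA] at hA1
    exact (Nat.eq_of_mul_eq_mul_left hc0 hA1).symm
  subst hAA
  obtain ⟨hFxnd, -, -, -, -, -, -, -⟩ := struct_gen Q hF hrp hr2 hyiso hyr hQ
  obtain ⟨C, hC⟩ : ∃ C, C = LinearMap.ker (aeval y (X - 1 : F[X])) := ⟨_, rfl⟩
  rw [← hC] at hA2 hA3 hFxnd
  obtain ⟨f, hf⟩ : ∃ f, f = d - c' * A' := ⟨_, rfl⟩
  have hCd : finrank F C = 2 * f := by
    have : cOf (orderOf (q : ZMod r)) * A' = 2 * (c' * A') := by rw [hc']; ring
    omega
  -- the fixed points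
  have hmod := card_ndSet_modEq_fixed Q r y hyiso hyr m τ
  have hdvd : r ∣ Nat.card {W : Submodule F V // NdT Q m τ W ∧ W.map y = W} :=
    (Nat.modEq_zero_iff_dvd.mp (hmod.symm.trans (Nat.modEq_zero_iff_dvd.mpr hrΩ)))
  have hinv_of_map : ∀ W : Submodule F V, W.map y = W → ∀ v ∈ W, y v ∈ W := by
    intro W hW v hv
    rw [← hW]
    exact Submodule.mem_map_of_mem hv
  have hcard1 : Nat.card {W : Submodule F V // NdT Q m τ W ∧ W.map y = W} =
      Nat.card {W : Submodule F V // NdT Q m τ W ∧ W ≤ C} := by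
    apply Nat.card_congr
    apply Equiv.subtypeEquivRight
    intro W
    constructor
    · rintro ⟨h1, h2⟩
      refine ⟨h1, ?_⟩
      rw [hC]
      exact le_fix_of_small hF hrp hr2 Q hyiso hyr m ⟨m', hm'⟩ hmc W h1.1 h1.2.1
        (hinv_of_map W h2)
    · rintro ⟨h1, h2⟩
      refine ⟨h1, ?_⟩
      rw [hC] at h2
      apply le_antisymm
      · rintro _ ⟨v, hv, rfl⟩
        rw [(mem_fix_iff v).mp (h2 hv)]
        exact hv
      · intro v hv
        exact ⟨v, hv, (mem_fix_iff v).mp (h2 hv)⟩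
  have hcard2 : Nat.card {W : Submodule F V // NdT Q m τ W ∧ W ≤ C} =
      Nat.card ↥(NdSet (restrQ Q C) m τ) := by
    apply Nat.card_congr
    refine
      { toFun := fun W => ⟨W.1.comap C.subtype, ?_⟩
        invFun := fun W' => ⟨W'.1.map C.subtype, ?_, ?_⟩
        left_inv := ?_
        right_inv := ?_ }
    · have hmap : (W.1.comap C.subtype).map C.subtype = W.1 := by
        rw [Submodule.map_comap_eq, Submodule.range_subtype, inf_eq_right.mpr W.2.2]
      obtain ⟨⟨h1, h2, h3⟩, h4⟩ := W.2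
      refine ⟨?_, ?_, ?_⟩
      · rw [← finrank_map_inj C.subtype (Submodule.injective_subtype C), hmap, h1]
      · rw [← NDon_map_iff Q (restrQ Q C) C.subtype (fun _ => rfl)
          (Submodule.injective_subtype C), hmap]
        exact h2
      · rw [← PlusOn_map_iff Q (restrQ Q C) C.subtype (fun _ => rfl)
          (Submodule.injective_subtype C), hmap]
        exact h3
    · obtain ⟨h1, h2, h3⟩ := W'.2
      refine ⟨?_, ?_, ?_⟩
      · rw [finrank_map_inj C.subtype (Submodule.injective_subtype C), h1]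
      · rw [NDon_map_iff Q (restrQ Q C) C.subtype (fun _ => rfl)
          (Submodule.injective_subtype C)]
        exact h2
      · rw [PlusOn_map_iff Q (restrQ Q C) C.subtype (fun _ => rfl)
          (Submodule.injective_subtype C)]
        exact h3
    · rintro _ ⟨v, -, rfl⟩
      exact v.2
    · intro W
      apply Subtype.ext
      show (W.1.comap C.subtype).map C.subtype = W.1
      rw [Submodule.map_comap_eq, Submodule.range_subtype, inf_eq_right.mpr W.2.2]
    · intro W'
      apply Subtype.ext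
      show (W'.1.map C.subtype).comap C.subtype = W'.1
      exact Submodule.comap_map_eq_of_injective (Submodule.injective_subtype C) W'.1
  rw [hcard1, hcard2] at hdvd
  -- nonemptiness
  have hne : ∃ W : Submodule F V, NdT Q m τ W ∧ W ≤ C := by
    rcases Nat.eq_zero_or_pos A' with hA0 | hA0
    · have hfd : f = d := by rw [hf, hA0]; omega
      obtain ⟨W, hWC, hWd, hWnd, hWτ⟩ := exists_typed_sub Q C hFxnd f hCd m' τ (by omega)
        (fun h => by omega) (fun h => by omega)
      exact ⟨W, ⟨by rw [hWd, hm']; ring, hWnd, hWτ⟩, hWC⟩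
    · have hy1 : y ≠ 1 := by
        intro h1
        have htop : C = ⊤ := by
          rw [hC, eq_top_iff]
          intro v _
          rw [mem_fix_iff, h1]
          rfl
        rw [htop, finrank_top, hV] at hA2
        have : 0 < cOf (orderOf (q : ZMod r)) * A' := Nat.mul_pos hc0 hA0
        omega
      obtain ⟨W, hW, hWinv⟩ := hall y hyiso hyr hy1
      refine ⟨W, hW, ?_⟩
      rw [hC]
      exact le_fix_of_small hF hrp hr2 Q hyiso hyr m ⟨m', hm'⟩ hmc W hW.1 hW.2.1 hWinv
  have hne' : (NdSet (restrQ Q C) m τ).Nonempty := by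
    have : Nonempty {W : Submodule F V // NdT Q m τ W ∧ W ≤ C} := by
      obtain ⟨W, hW⟩ := hne
      exact ⟨⟨W, hW⟩⟩
    have hpos : 0 < Nat.card {W : Submodule F V // NdT Q m τ W ∧ W ≤ C} := by
      haveI : Finite (Submodule F V) := finite_submodule'
      exact Nat.card_pos
    rw [hcard2] at hpos
    haveI : Finite (Submodule F ↥C) := finite_submodule'
    have := (Nat.card_pos_iff (α := ↥(NdSet (restrQ Q C) m τ))).mp hpos
    obtain ⟨⟨W', hW'⟩⟩ := this.1
    exact ⟨W', hW'⟩
  -- an isometry of order `r` of the fixed space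
  have hQC := nondeg_restrQ Q hFxnd
  have hdvd2 : r ∣ Nat.card ↥(IsoG (restrQ Q C)) := by
    have := card_ndSet_dvd (restrQ Q C) hQC (n := m') (by omega) τ (by
      have e : 2 * m' = m := by omega
      rw [e]
      exact hne')
    have e : 2 * m' = m := by omega
    rw [e] at this
    exact hdvd.trans this
  obtain ⟨y', hy'iso, hy'r, hy'1⟩ := exists_isometry_of_dvd (restrQ Q C) r hdvd2
  obtain ⟨a', h1, h2, h3⟩ := profile (restrQ Q C) hF hrp hr2 hy'iso hy'r hQC f hCd
  have hreal' : P (A' + a') := by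
    rw [hP]
    have hca : cOf (orderOf (q : ZMod r)) * (A' + a') =
        cOf (orderOf (q : ZMod r)) * A' + cOf (orderOf (q : ZMod r)) * a' := by ring
    refine ⟨by omega, fun heq => ?_⟩
    have h0 : finrank F (LinearMap.ker (aeval y' (X - 1 : F[X]))) = 0 := by omega
    have h4 : tw (orderOf (q : ZMod r)) (PlusOn (restrQ Q C) ⊤) a' := by
      rw [← h3, Submodule.finrank_eq_zero.mp h0]
      exact PlusOn_bot _
    rw [← tw_add]
    refine (tw_congr _ ?_ a').mp h4
    rw [← PlusOn_iff_restr, hA3]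
  have ha0 : a' = 0 := by
    have := hmax _ hreal'
    omega
  apply hy'1
  rw [ha0, mul_zero, add_zero] at h2
  have htop : LinearMap.ker (aeval y' (X - 1 : F[X])) = ⊤ := by
    apply Submodule.eq_top_of_finrank_eq
    rw [h2, hCd]
  apply LinearMap.ext
  intro v
  have : v ∈ LinearMap.ker (aeval y' (X - 1 : F[X])) := by rw [htop]; trivial
  exact (mem_fix_iff v).mp this

end small

end Cfsg.Agent.Lib.H24.On
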