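import Mathlib
import Cfsg.Agent.Lib.H24.OnTest
import Cfsg.Agent.Lib.H24.OnArith

set_option autoImplicit false

/-!
# Invariant nondegenerate subspaces of given type, odd `r ≠ p`: the main statement at the level of
endomorphisms (helper24)

* `nd_odd_main_end`: all isometries of order `r` fix a nondegenerate `m`-space of type `τ` iff
  all realizable `A ≥ 1` are good;
* `CondE`, `CondO`: the explicit arithmetic conditions;
* `nd_odd_cond`: the final form.
-/

namespace Cfsg.Agent.Lib.H24.On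

open Polynomial Module
open Cfsg.Agent.Lib.H24.Elus
open Cfsg.Agent.Lib.H13
open Cfsg.Agent.Lib.H13.OES
open Cfsg.Agent.Lib.H10.OrtNd (PB TS PlusOn PB_apply PB_symm PB_self TS_mono)

section main

variable {F : Type*} [Field F] [Fintype F] {p q : ℕ} [Fact p.Prime] [CharP F p]
  {V : Type*} [AddCommGroup V] [Module F V] [FiniteDimensional F V]

theorem nd_odd_main_end (hF : Fintype.card F = q) (r : ℕ) [Fact r.Prime] (hrp : r ≠ p)
    (hr2 : r ≠ 2) (Q : QuadraticForm F V) (hQ : (QuadraticMap.polarBilin Q).Nondegenerate)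
    (d : ℕ) (hd : 1 ≤ d) (hV : finrank F V = 2 * d) (m : ℕ) (hm : Even m) (τ : Prop) :
    (∀ y : End F V, (∀ v, Q (y v) = Q v) → y ^ r = 1 → y ≠ 1 →
      ∃ W : Submodule F V, NdT Q m τ W ∧ ∀ v ∈ W, y v ∈ W) ↔
    (∀ A, 1 ≤ A → Real (orderOf (q : ZMod r)) d (PlusOn Q ⊤) A →
      GoodA (orderOf (q : ZMod r)) d m (PlusOn Q ⊤) τ A) := by
  classical
  have hr : r.Prime := Fact.out
  have hi0 : 0 < orderOf (q : ZMod r) := CycFactor.orderOf_pos hF hr hrp
  have hc0 : 0 < cOf (orderOf (q : ZMod r)) := cOf_pos hi0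
  constructor
  · intro hall A hA1 hreal
    obtain ⟨y, hiso, hyr, hA⟩ := exists_test_A hF r hrp hr2 Q hQ d hd hV A hreal
    have hy1 : y ≠ 1 := by
      rintro rfl
      obtain ⟨A', h1, h2, -⟩ := profile Q hF hrp hr2 hiso hyr hQ d hV
      have h3 : LinearMap.ker (aeval (1 : End F V) (X - 1 : F[X])) = ⊤ := by
        rw [Submodule.eq_top_iff']
        intro v
        rw [mem_fix_iff]
        rfl
      rw [h3, finrank_top, hV] at h2
      have h4 : cOf (orderOf (q : ZMod r)) * A' = 0 := by omega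
      rw [hA, h4] at h1
      have h5 : cOf (orderOf (q : ZMod r)) * 1 ≤ cOf (orderOf (q : ZMod r)) * A :=
        Nat.mul_le_mul_left _ hA1
      omega
    obtain ⟨W, hW, hWinv⟩ := hall y hiso hyr hy1
    exact nd_nec_core Q hF hrp hr2 hiso hyr hQ d hV A hA m hm τ W hW hWinv
  · intro h y hiso hyr hy1
    obtain ⟨A, h1, h2, -⟩ := profile Q hF hrp hr2 hiso hyr hQ d hV
    have hA1 : 1 ≤ A := by
      by_contra hcon
      have hA0 : A = 0 := by omega
      rw [hA0, Nat.mul_zero, Nat.add_zero, ← hV] at h2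
      have h3 : LinearMap.ker (aeval y (X - 1 : F[X])) = ⊤ :=
        Submodule.eq_top_of_finrank_eq h2
      apply hy1
      apply LinearMap.ext
      intro v
      have h4 : v ∈ LinearMap.ker (aeval y (X - 1 : F[X])) := by
        rw [h3]
        exact Submodule.mem_top
      rw [(mem_fix_iff v).mp h4]
      rfl
    have hreal := real_of_isometry hF hrp hr2 Q hiso hyr hQ d hV A h1
    exact nd_suff_core Q hF hrp hr2 hiso hyr hQ d hV A h1 m hm τ (h A hA1 hreal)

end main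

/-! ### Numerical form -/

theorem tw_even_num {i : ℕ} (hi : Even i) {X : Prop} {t : ℕ} (hX : X ↔ t = 0) (ht : t ≤ 1)
    (n : ℕ) : tw i X n ↔ (t + n) % 2 = 0 := by
  rw [tw_even hi, hX, Nat.even_iff]
  omega

theorem tw_odd_num {i : ℕ} (hi : ¬ Even i) {X : Prop} {t : ℕ} (hX : X ↔ t = 0) (n : ℕ) :
    tw i X n ↔ t = 0 := by
  rw [tw_odd hi, hX]

/-- the condition for even `i` -/
def CondE (c n m e t : ℕ) : Prop :=
  (n % c = 0 ∧ ((e + n / c) % 2 = 1 ∨ (m % c = 0 ∧ (t + m / c) % 2 = 0))) ∨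
    (m % c < n % c ∧ (0 < m % c ∨ (t + m / c) % 2 = 0)) ∨
    (n % c = m % c ∧ 0 < m % c ∧ (t + e + n / c + m / c) % 2 = 0)

/-- the condition for odd `i` -/
def CondO (c n m e t : ℕ) : Prop :=
  (n % c = 0 ∧ (e = 1 ∨ (m % c = 0 ∧ t = 0))) ∨
    (m % c < n % c ∧ (0 < m % c ∨ t = 0)) ∨
    (n % c = m % c ∧ 0 < m % c ∧ t = e)

theorem allGood_iff (i d m : ℕ) (hi0 : 0 < i) (hm0 : 0 < m) (hm2 : m < 2 * d) (ε τ : Prop)
    (e t : ℕ) (he : e ≤ 1) (ht : t ≤ 1) (hε : ε ↔ e = 0) (hτ : τ ↔ t = 0) :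
    (∀ A, 1 ≤ A → Real i d ε A → GoodA i d m ε τ A) ↔
      ((Even i → CondE (cOf i) (2 * d) m e t) ∧ (¬ Even i → CondO (cOf i) (2 * d) m e t)) := by
  have hc0 : 0 < cOf i := cOf_pos hi0
  by_cases hi : Even i
  · have h1 : ((Even i → CondE (cOf i) (2 * d) m e t) ∧
        (¬ Even i → CondO (cOf i) (2 * d) m e t)) ↔ CondE (cOf i) (2 * d) m e t :=
      ⟨fun h => h.1 hi, fun h => ⟨fun _ => h, fun h' => absurd hi h'⟩⟩
    rw [h1]
    unfold CondE
    rw [← comb_even (cOf i) e t (2 * d) m ((2 * d) / cOf i) ((2 * d) % cOf i) (m / cOf i)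
      (m % cOf i) hc0 he ht (Nat.div_add_mod _ _).symm (Nat.mod_lt _ hc0)
      (Nat.div_add_mod _ _).symm (Nat.mod_lt _ hc0) hm0 hm2]
    apply forall_congr'
    intro A
    apply imp_congr_right
    intro _
    unfold Real GoodA
    rw [tw_even_num hi hε he]
    constructor
    · intro h h2 h3
      obtain ⟨B, hB1, hB2, hB3, hB4, hB5⟩ := h ⟨h2, h3⟩
      refine ⟨B, hB1, hB2, hB3, ?_, ?_⟩
      · intro h4
        exact (tw_even_num hi hτ ht B).mp (hB4 h4)
      · intro h4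
        have h5 := hB5 h4
        rw [tw_even_num hi hτ ht] at h5
        omega
    · rintro h ⟨h2, h3⟩
      obtain ⟨B, hB1, hB2, hB3, hB4, hB5⟩ := h h2 h3
      refine ⟨B, hB1, hB2, hB3, ?_, ?_⟩
      · intro h4
        exact (tw_even_num hi hτ ht B).mpr (hB4 h4)
      · intro h4
        have h5 := hB5 h4
        rw [tw_even_num hi hτ ht]
        omega
  · have h1 : ((Even i → CondE (cOf i) (2 * d) m e t) ∧
        (¬ Even i → CondO (cOf i) (2 * d) m e t)) ↔ CondO (cOf i) (2 * d) m e t :=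
      ⟨fun h => h.2 hi, fun h => ⟨fun h' => absurd h' hi, fun _ => h⟩⟩
    rw [h1]
    unfold CondO
    rw [← comb_odd (cOf i) e t (2 * d) m ((2 * d) / cOf i) ((2 * d) % cOf i) (m / cOf i)
      (m % cOf i) hc0 he ht (Nat.div_add_mod _ _).symm (Nat.mod_lt _ hc0)
      (Nat.div_add_mod _ _).symm (Nat.mod_lt _ hc0) hm0 hm2]
    apply forall_congr'
    intro A
    apply imp_congr_right
    intro _
    unfold Real GoodA
    rw [tw_odd_num hi hε]
    constructor
    · intro h h2 h3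
      obtain ⟨B, hB1, hB2, hB3, hB4, hB5⟩ := h ⟨h2, h3⟩
      refine ⟨B, hB1, hB2, hB3, ?_, ?_⟩
      · intro h4
        exact (tw_odd_num hi hτ B).mp (hB4 h4)
      · intro h4
        have h5 := hB5 h4
        rw [tw_odd_num hi hτ] at h5
        exact h5
    · rintro h ⟨h2, h3⟩
      obtain ⟨B, hB1, hB2, hB3, hB4, hB5⟩ := h h2 h3
      refine ⟨B, hB1, hB2, hB3, ?_, ?_⟩
      · intro h4
        exact (tw_odd_num hi hτ B).mpr (hB4 h4)
      · intro h4
        have h5 := hB5 h4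
        rw [tw_odd_num hi hτ]
        exact h5

section final

variable {F : Type*} [Field F] [Fintype F] {p q : ℕ} [Fact p.Prime] [CharP F p]
  {V : Type*} [AddCommGroup V] [Module F V] [FiniteDimensional F V]

/-- the main statement at the level of endomorphisms -/
theorem nd_odd_cond (hF : Fintype.card F = q) (r : ℕ) [Fact r.Prime] (hrp : r ≠ p)
    (hr2 : r ≠ 2) (Q : QuadraticForm F V) (hQ : (QuadraticMap.polarBilin Q).Nondegenerate)
    (d : ℕ) (hV : finrank F V = 2 * d) (m : ℕ) (hm : Even m) (hm0 : 0 < m)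
    (hm2 : m < 2 * d) (τ : Prop) (e t : ℕ) (he : e ≤ 1) (ht : t ≤ 1)
    (hε : PlusOn Q ⊤ ↔ e = 0) (hτ : τ ↔ t = 0) :
    (∀ y : End F V, (∀ v, Q (y v) = Q v) → y ^ r = 1 → y ≠ 1 →
      ∃ W : Submodule F V, NdT Q m τ W ∧ ∀ v ∈ W, y v ∈ W) ↔
    ((Even (orderOf (q : ZMod r)) → CondE (cOf (orderOf (q : ZMod r))) (2 * d) m e t) ∧
      (¬ Even (orderOf (q : ZMod r)) → CondO (cOf (orderOf (q : ZMod r))) (2 * d) m e t)) := by
  classical
  have hr : r.Prime := Fact.out
  have hi0 : 0 < orderOf (q : ZMod r) := CycFactor.orderOf_pos hF hr hrp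
  rw [nd_odd_main_end hF r hrp hr2 Q hQ d (by omega) hV m hm τ]
  exact allGood_iff _ d m hi0 hm0 hm2 _ τ e t he ht hε hτ

/-- when `r` divides the number of the subspaces, the condition implies `c ≤ m` -/
theorem cond_le (hF : Fintype.card F = q) (r : ℕ) [Fact r.Prime] (hrp : r ≠ p)
    (hr2 : r ≠ 2) (Q : QuadraticForm F V) (hQ : (QuadraticMap.polarBilin Q).Nondegenerate)
    (d : ℕ) (hV : finrank F V = 2 * d) (m : ℕ) (hm : Even m) (hm0 : 0 < m)
    (hm2 : m < 2 * d) (τ : Prop) (e t : ℕ) (he : e ≤ 1) (ht : t ≤ 1)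
    (hε : PlusOn Q ⊤ ↔ e = 0) (hτ : τ ↔ t = 0) (hrΩ : r ∣ Nat.card ↥(NdSet Q m τ))
    (hcond : (Even (orderOf (q : ZMod r)) → CondE (cOf (orderOf (q : ZMod r))) (2 * d) m e t) ∧
      (¬ Even (orderOf (q : ZMod r)) → CondO (cOf (orderOf (q : ZMod r))) (2 * d) m e t)) :
    cOf (orderOf (q : ZMod r)) ≤ m := by
  by_contra hcon
  rw [← nd_odd_cond hF r hrp hr2 Q hQ d hV m hm hm0 hm2 τ e t he ht hε hτ] at hcond
  exact nd_small_false hF r hrp hr2 Q hQ d (by omega) hV m hm hm0 hm2 τ (by omega) hrΩ hcond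

end final

end Cfsg.Agent.Lib.H24.On
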