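import Mathlib
import Cfsg.Agent.Lib.H24.OnOddMain
import Cfsg.Agent.Lib.H24.OqMainOdd

set_option autoImplicit false

/-!
# From `Ω(Q)` to isometries of odd prime order (helper24)

`odd_bridge`: for odd `r` the elements `x ∈ Ω(Q)` with `x ^ r` scalar and `x` not scalar fix the
same subspaces as the isometries `y ≠ 1` with `y ^ r = 1`.
-/

namespace Cfsg.Agent.Lib.H24.On

open Polynomial Module Matrix
open Cfsg.Agent.Lib.H24.Elus
open Cfsg.Agent.Lib.H13
open Cfsg.Agent.Lib.H13.OES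
open Cfsg.Agent.Lib.H10.OrtNd (PB TS PlusOn PB_apply PB_symm PB_self TS_mono)

section bridge

variable {F : Type*} [Field F] [Fintype F] {ι : Type} [Fintype ι] [DecidableEq ι]
  (Q' : QuadraticForm F (ι → F))

theorem odd_bridge (hQ' : (QuadraticMap.polarBilin Q').Nondegenerate)
    (hcard : 5 ≤ Fintype.card ι) (r : ℕ) [Fact r.Prime] (hr2 : r ≠ 2)
    (P : Submodule F (ι → F) → Prop) :
    (∀ x : GL ι F, x ∈ Cfsg.Geo.omegaGL ⇑Q' →
      (∃ z : F, ((x ^ r : GL ι F) : Matrix ι ι F) = z • (1 : Matrix ι ι F)) →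
      (∀ z : F, (x : Matrix ι ι F) ≠ z • (1 : Matrix ι ι F)) →
      ∃ W : Submodule F (ι → F), P W ∧ W.map (Matrix.toLin' (x : Matrix ι ι F)) ≤ W) ↔
    (∀ y : End F (ι → F), (∀ v, Q' (y v) = Q' v) → y ^ r = 1 → y ≠ 1 →
      ∃ W : Submodule F (ι → F), P W ∧ ∀ v ∈ W, y v ∈ W) := by
  have hr : r.Prime := Fact.out
  have hodd : r % 2 = 1 := by
    rcases hr.eq_two_or_odd with h | h
    · exact absurd h hr2
    · exact h
  haveI : Nonempty ι := by
    rw [← Fintype.card_pos_iff]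
    omega
  constructor
  · intro h y hiso hyr hy1
    have h1 : y * y ^ (r - 1) = 1 := by rw [← pow_succ', Nat.sub_add_cancel hr.pos, hyr]
    have h2 : y ^ (r - 1) * y = 1 := by rw [← pow_succ, Nat.sub_add_cancel hr.pos, hyr]
    obtain ⟨g, hg⟩ : ∃ g : (ι → F) ≃ₗ[F] (ι → F), ∀ v, g v = y v :=
      ⟨LinearEquiv.ofLinear y (y ^ (r - 1)) h1 h2, fun v => rfl⟩
    have hgQ : ∀ w, Q' (g w) = Q' w := by
      intro w
      rw [hg, hiso]
    obtain ⟨x, hxmem, hmv⟩ : ∃ x : GL ι F, x ∈ Cfsg.isometryGroup F ⇑Q' ∧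
        ∀ w, (x : Matrix ι ι F) *ᵥ w = y w :=
      ⟨_, (AutPO.elOfEquiv Q' g hgQ).2, fun w => by
        rw [AutPO.elOfEquiv_mulVec _ g hgQ w, hg]⟩
    have hlin : Matrix.toLin' (x : Matrix ι ι F) = y := by
      apply LinearMap.ext
      intro w
      rw [Matrix.toLin'_apply, hmv]
    have hxr : x ^ r = 1 := by
      apply Units.ext
      rw [Units.val_pow_eq_pow_val, Units.val_one]
      apply Matrix.toLin'.injective
      rw [Matrix.toLin'_pow, hlin, hyr, Matrix.toLin'_one]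
      rfl
    have hxΩ : x ∈ Cfsg.Geo.omegaGL ⇑Q' :=
      Cfsg.Agent.Lib.H24.Oq.mem_omegaGL_of_odd Q' hQ' hcard x hxmem r
        (Nat.odd_iff.mpr hodd) hxr
    obtain ⟨W, hPW, hW⟩ := h x hxΩ ⟨1, by rw [hxr, Units.val_one, one_smul]⟩ (by
      intro z hz
      have hzz : z * z = 1 := by
        apply Cfsg.Agent.Lib.H24.Oq.scalar_sq_of_iso Q' hQ' z
        intro v
        have := Cfsg.Agent.Lib.H24.Oq.iso_of_mem_omegaGL Q' x hxΩ v
        rw [hz, Matrix.smul_mulVec, Matrix.one_mulVec] at this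
        exact this
      have hzr : z ^ r = 1 := by
        have h3 : ((x ^ r : GL ι F) : Matrix ι ι F) = z ^ r • 1 := by
          rw [Units.val_pow_eq_pow_val, hz, _root_.smul_pow, one_pow]
        rw [hxr, Units.val_one] at h3
        obtain ⟨i₀⟩ := (inferInstance : Nonempty ι)
        have h4 := congrFun (congrFun h3 i₀) i₀
        rw [Matrix.one_apply_eq, Matrix.smul_apply, Matrix.one_apply_eq, smul_eq_mul,
          mul_one] at h4
        exact h4.symm
      have hz1 : z = 1 := by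
        have h3 : r = 2 * (r / 2) + 1 := by omega
        rw [h3, pow_succ, pow_mul, pow_two, hzz, one_pow, one_mul] at hzr
        exact hzr
      apply hy1
      rw [← hlin, hz, hz1, one_smul, Matrix.toLin'_one]
      rfl)
    refine ⟨W, hPW, fun v hv => ?_⟩
    rw [← hlin]
    exact hW (Submodule.mem_map_of_mem hv)
  · intro h x hx ⟨z, hz⟩ hxns
    have hxr : x ^ r ∈ Cfsg.Geo.omegaGL ⇑Q' := Subgroup.pow_mem _ hx r
    have hzz : z * z = 1 := by
      apply Cfsg.Agent.Lib.H24.Oq.scalar_sq_of_iso Q' hQ' z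
      intro v
      have := Cfsg.Agent.Lib.H24.Oq.iso_of_mem_omegaGL Q' (x ^ r) hxr v
      rw [hz, Matrix.smul_mulVec, Matrix.one_mulVec] at this
      exact this
    have hz0 : z ≠ 0 := by
      rintro rfl
      rw [mul_zero] at hzz
      exact zero_ne_one hzz
    have hzr : z ^ (r + 1) = 1 := by
      have : r + 1 = 2 * ((r + 1) / 2) := by omega
      rw [this, pow_mul, pow_two, hzz, one_pow]
    obtain ⟨y₀, hy₀def⟩ : ∃ y₀, y₀ = Matrix.toLin' (x : Matrix ι ι F) := ⟨_, rfl⟩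
    have hy₀r : y₀ ^ r = z • 1 := by
      rw [hy₀def, ← Matrix.toLin'_pow, ← Units.val_pow_eq_pow_val, hz, map_smul,
        Matrix.toLin'_one]
      rfl
    obtain ⟨W, hPW, hW⟩ := h (z • y₀) (by
        intro v
        rw [LinearMap.smul_apply, QuadraticMap.map_smul, smul_eq_mul, hzz, one_mul, hy₀def,
          Matrix.toLin'_apply]
        exact Cfsg.Agent.Lib.H24.Oq.iso_of_mem_omegaGL Q' x hx v)
      (by rw [_root_.smul_pow, hy₀r, smul_smul, ← pow_succ, hzr, one_smul])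
      (by
        intro h1
        apply hxns z⁻¹
        apply Matrix.toLin'.injective
        rw [← hy₀def, map_smul, Matrix.toLin'_one]
        have h2 : z⁻¹ • (z • y₀) = z⁻¹ • (1 : End F (ι → F)) := by rw [h1]
        rw [smul_smul, inv_mul_cancel₀ hz0, one_smul] at h2
        rw [h2]
        rfl)
    refine ⟨W, hPW, ?_⟩
    rw [Submodule.map_le_iff_le_comap]
    intro v hv
    rw [Submodule.mem_comap, ← hy₀def]
    have h5 := hW v hv
    rw [LinearMap.smul_apply] at h5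
    have h6 := Submodule.smul_mem W z⁻¹ h5
    rwa [smul_smul, inv_mul_cancel₀ hz0, one_smul] at h6

end bridge

section final

variable {F : Type*} [Field F] [Fintype F] {p q : ℕ} [Fact p.Prime] [CharP F p]
  {ι : Type} [Fintype ι] [DecidableEq ι] (Q' : QuadraticForm F (ι → F))

/-- the main statement for odd `r ≠ p` -/
theorem nd_odd_GL_iff (hF : Fintype.card F = q)
    (hQ' : (QuadraticMap.polarBilin Q').Nondegenerate)
    (d : ℕ) (hd : 3 ≤ d) (hcard : Fintype.card ι = 2 * d) (m : ℕ) (hm : Even m) (hm0 : 0 < m)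
    (hm2 : m < 2 * d) (r : ℕ) [Fact r.Prime] (hr2 : r ≠ 2) (hrp : r ≠ p) (τ : Prop)
    (e t : ℕ) (he : e ≤ 1) (ht : t ≤ 1) (hε : PlusOn Q' ⊤ ↔ e = 0) (hτ : τ ↔ t = 0) :
    (∀ x : GL ι F, x ∈ Cfsg.Geo.omegaGL ⇑Q' →
      (∃ z : F, ((x ^ r : GL ι F) : Matrix ι ι F) = z • (1 : Matrix ι ι F)) →
      (∀ z : F, (x : Matrix ι ι F) ≠ z • (1 : Matrix ι ι F)) →
      ∃ W : Submodule F (ι → F), NdT Q' m τ W ∧
        W.map (Matrix.toLin' (x : Matrix ι ι F)) ≤ W) ↔
    ((Even (orderOf (q : ZMod r)) → CondE (cOf (orderOf (q : ZMod r))) (2 * d) m e t) ∧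
      (¬ Even (orderOf (q : ZMod r)) → CondO (cOf (orderOf (q : ZMod r))) (2 * d) m e t)) := by
  have hV : finrank F (ι → F) = 2 * d := by
    rw [Module.finrank_fintype_fun_eq_card, hcard]
  rw [odd_bridge Q' hQ' (by omega) r hr2 (NdT Q' m τ),
    nd_odd_cond hF r hrp hr2 Q' hQ' d hV m hm hm0 hm2 τ e t he ht hε hτ]

/-- when `r` divides the number of the subspaces, the condition implies `c ≤ m` -/
theorem nd_odd_GL_le (hF : Fintype.card F = q)
    (hQ' : (QuadraticMap.polarBilin Q').Nondegenerate)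
    (d : ℕ) (hcard : Fintype.card ι = 2 * d) (m : ℕ) (hm : Even m) (hm0 : 0 < m)
    (hm2 : m < 2 * d) (r : ℕ) [Fact r.Prime] (hr2 : r ≠ 2) (hrp : r ≠ p) (τ : Prop)
    (e t : ℕ) (he : e ≤ 1) (ht : t ≤ 1) (hε : PlusOn Q' ⊤ ↔ e = 0) (hτ : τ ↔ t = 0)
    (hrΩ : r ∣ Nat.card ↥(NdSet Q' m τ))
    (hcond : (Even (orderOf (q : ZMod r)) → CondE (cOf (orderOf (q : ZMod r))) (2 * d) m e t) ∧
      (¬ Even (orderOf (q : ZMod r)) → CondO (cOf (orderOf (q : ZMod r))) (2 * d) m e t)) :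
    cOf (orderOf (q : ZMod r)) ≤ m := by
  have hV : finrank F (ι → F) = 2 * d := by
    rw [Module.finrank_fintype_fun_eq_card, hcard]
  exact cond_le hF r hrp hr2 Q' hQ' d hV m hm hm0 hm2 τ e t he ht hε hτ hrΩ hcond

end final

end Cfsg.Agent.Lib.H24.On
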