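import Mathlib
import Cfsg.Agent.Lib.H24.OnBridge

set_option autoImplicit false

/-!
# The arithmetic conditions of the statements on nondegenerate subspaces of orthogonal groups
(helper24)
-/

namespace Cfsg.Agent.Lib.H24.On

open Cfsg.Agent.Lib.H24.Elus

/-- the condition in both cases -/
def Cond (i n m e t : ℕ) : Prop :=
  (Even i → CondE (cOf i) n m e t) ∧ (¬ Even i → CondO (cOf i) n m e t)

theorem div_helper (i n m : ℕ) (hi : 0 < i) (h : n % i = m % i) :
    (n + m - 2 * (n % i)) / i = n / i + m / i := by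
  have h1 := Nat.div_add_mod n i
  have h2 := Nat.div_add_mod m i
  have h3 : n + m - 2 * (n % i) = i * (n / i + m / i) := by
    rw [Nat.mul_add]
    omega
  rw [h3, Nat.mul_div_cancel_left _ hi]

theorem cond_of_even {i n m e t : ℕ} (hi : Even i) : Cond i n m e t ↔ CondE i n m e t := by
  unfold Cond cOf
  rw [if_pos hi]
  exact ⟨fun h => h.1 hi, fun h => ⟨fun _ => h, fun h' => absurd hi h'⟩⟩

theorem cond_of_odd {i n m e t : ℕ} (hi : ¬ Even i) :
    Cond i n m e t ↔ CondO (2 * i) n m e t := by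
  unfold Cond cOf
  rw [if_neg hi]
  exact ⟨fun h => h.2 hi, fun h => ⟨fun h' => absurd h' hi, fun _ => h⟩⟩

/-- hyperbolic subspaces of a hyperbolic space -/
theorem tmpl74 (i c n m e t : ℕ) (he : e = 0) (ht : t = 0) (hi0 : 0 < i)
    (hc : c = if Even i then i else 2 * i) :
    (((Odd i ∧ c ≤ m ∧ m % c ≤ n % c) ∨
      (Even i ∧
       ((n % c = 0 ∧ (Odd (n / i) ∨ (m % c = 0 ∧ Even (m / i)))) ∨
        (i ≤ m ∧ ((m % c < n % c ∧ 0 < m % c) ∨
                  (n % c = m % c ∧ 0 < m % c ∧ Even ((n + m - 2 * (n % c)) / i)) ∨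
                  (0 < n % c ∧ m % c = 0 ∧ Even (m / i))))))) → Cond i n m e t) ∧
    (c ≤ m → Cond i n m e t →
      ((Odd i ∧ c ≤ m ∧ m % c ≤ n % c) ∨
      (Even i ∧
       ((n % c = 0 ∧ (Odd (n / i) ∨ (m % c = 0 ∧ Even (m / i)))) ∨
        (i ≤ m ∧ ((m % c < n % c ∧ 0 < m % c) ∨
                  (n % c = m % c ∧ 0 < m % c ∧ Even ((n + m - 2 * (n % c)) / i)) ∨
                  (0 < n % c ∧ m % c = 0 ∧ Even (m / i)))))))) := by
  by_cases hi : Even i
  · rw [if_pos hi] at hc
    subst hc
    rw [cond_of_even hi]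
    unfold CondE
    have hno : ¬ Odd c := by rwa [Nat.not_odd_iff_even]
    simp only [Nat.odd_iff, Nat.even_iff] at hno ⊢
    by_cases hkl : n % c = m % c
    · rw [div_helper c n m hi0 hkl]
      constructor
      · intro h
        omega
      · intro h1 h2
        omega
    · constructor
      · intro h
        omega
      · intro h1 h2
        omega
  · rw [if_neg hi] at hc
    subst hc
    rw [cond_of_odd hi]
    unfold CondO
    have hodd : Odd i := Nat.not_even_iff_odd.mp hi
    simp only [Nat.odd_iff, Nat.even_iff] at hodd hi ⊢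
    constructor
    · intro h
      omega
    · intro h1 h2
      omega

/-- elliptic subspaces of a hyperbolic space -/
theorem tmpl88 (i c n m e t : ℕ) (he : e = 0) (ht : t = 1) (hi0 : 0 < i)
    (hc : c = if Even i then i else 2 * i) :
    (((Odd i ∧ c ≤ m ∧ 0 < m % c ∧ m % c < n % c) ∨
      (Even i ∧
       ((n % c = 0 ∧ (Odd (n / i) ∨ (m % c = 0 ∧ Odd (m / i)))) ∨
        (i ≤ m ∧ ((0 < m % c ∧ m % c < n % c) ∨
                  (0 < m % c ∧ m % c = n % c ∧ Odd ((n + m - 2 * (n % c)) / i)) ∨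
                  (m % c = 0 ∧ 0 < n % c ∧ Odd (m / i))))))) → Cond i n m e t) ∧
    (c ≤ m → Cond i n m e t →
      ((Odd i ∧ c ≤ m ∧ 0 < m % c ∧ m % c < n % c) ∨
      (Even i ∧
       ((n % c = 0 ∧ (Odd (n / i) ∨ (m % c = 0 ∧ Odd (m / i)))) ∨
        (i ≤ m ∧ ((0 < m % c ∧ m % c < n % c) ∨
                  (0 < m % c ∧ m % c = n % c ∧ Odd ((n + m - 2 * (n % c)) / i)) ∨
                  (m % c = 0 ∧ 0 < n % c ∧ Odd (m / i)))))))) := by
  by_cases hi : Even i
  · rw [if_pos hi] at hc
    subst hc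
    rw [cond_of_even hi]
    unfold CondE
    have hno : ¬ Odd c := by rwa [Nat.not_odd_iff_even]
    simp only [Nat.odd_iff, Nat.even_iff] at hno ⊢
    by_cases hkl : n % c = m % c
    · rw [div_helper c n m hi0 hkl]
      constructor
      · intro h
        omega
      · intro h1 h2
        omega
    · constructor
      · intro h
        omega
      · intro h1 h2
        omega
  · rw [if_neg hi] at hc
    subst hc
    rw [cond_of_odd hi]
    unfold CondO
    have hodd : Odd i := Nat.not_even_iff_odd.mp hi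
    simp only [Nat.odd_iff, Nat.even_iff] at hodd hi ⊢
    constructor
    · intro h
      omega
    · intro h1 h2
      omega

/-- elliptic subspaces of an elliptic space -/
theorem tmpl90 (i c n m e t : ℕ) (he : e = 1) (ht : t = 1) (hi0 : 0 < i)
    (hc : c = if Even i then i else 2 * i) :
    (((Odd i ∧ (n % c = 0 ∨ (c ≤ m ∧ 0 < m % c ∧ m % c ≤ n % c))) ∨
      (Even i ∧
       ((n % c = 0 ∧ (Even (n / i) ∨ (m % c = 0 ∧ Odd (m / i)))) ∨
        (0 < n % c ∧ i ≤ m ∧ ((0 < m % c ∧ m % c < n % c) ∨ (m % c = 0 ∧ Odd (m / i)) ∨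
                  (m % c = n % c ∧ Even ((n + m - 2 * (n % c)) / i))))))) → Cond i n m e t) ∧
    (c ≤ m → Cond i n m e t →
      ((Odd i ∧ (n % c = 0 ∨ (c ≤ m ∧ 0 < m % c ∧ m % c ≤ n % c))) ∨
      (Even i ∧
       ((n % c = 0 ∧ (Even (n / i) ∨ (m % c = 0 ∧ Odd (m / i)))) ∨
        (0 < n % c ∧ i ≤ m ∧ ((0 < m % c ∧ m % c < n % c) ∨ (m % c = 0 ∧ Odd (m / i)) ∨
                  (m % c = n % c ∧ Even ((n + m - 2 * (n % c)) / i)))))))) := by
  by_cases hi : Even i
  · rw [if_pos hi] at hc
    subst hc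
    rw [cond_of_even hi]
    unfold CondE
    have hno : ¬ Odd c := by rwa [Nat.not_odd_iff_even]
    simp only [Nat.odd_iff, Nat.even_iff] at hno ⊢
    by_cases hkl : n % c = m % c
    · rw [div_helper c n m hi0 hkl]
      constructor
      · intro h
        omega
      · intro h1 h2
        omega
    · constructor
      · intro h
        omega
      · intro h1 h2
        omega
  · rw [if_neg hi] at hc
    subst hc
    rw [cond_of_odd hi]
    unfold CondO
    have hodd : Odd i := Nat.not_even_iff_odd.mp hi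
    simp only [Nat.odd_iff, Nat.even_iff] at hodd hi ⊢
    constructor
    · intro h
      omega
    · intro h1 h2
      omega

end Cfsg.Agent.Lib.H24.On
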