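import Mathlib
import Cfsg.Agent.Lib.H24.OqMainOdd
import Cfsg.Agent.Lib.H10.OrtNdD
import Cfsg.Agent.Lib.H13.OSS6

set_option autoImplicit false

/-!
# `Ω^±_{2d}(q)` on totally singular `m`-spaces, `r = 2`: abstract lemmas (helper24)

* `plusOn_top_iff`, `exists_ts_in_plus`, `exists_ts_in_gen`: totally singular subspaces of
  nondegenerate subspaces;
* `invol_suff`: invariant totally singular subspaces of isometric involutions;
* `sq_neg_one_suff_of_isSquare`: isometries with `y ^ 2 = -1`, `-1` a square;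
* `neg_one_struct`, `even_finrank_of_sq_neg_one`: isometries with `y ^ 2 = -1`, `-1` not a square.
-/

namespace Cfsg.Agent.Lib.H24.Oq

open Module QuadraticMap Polynomial
open Cfsg.Agent.Lib.H24.Elus Cfsg.Agent.Lib.H10.OrtNd Cfsg.Agent.Lib.H13.OSS Cfsg.Agent.Lib.H13

section bridge

variable {F V : Type*} [Field F] [Fintype F] [AddCommGroup V] [Module F V]
  [FiniteDimensional F V] (Q : QuadraticForm F V)

theorem plusOn_top_iff (hQ : (polarBilin Q).Nondegenerate) {d e : ℕ} (h : IsSg Q d e) :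
    PlusOn Q ⊤ ↔ e = 0 := by
  constructor
  · rintro ⟨U, -, hU, hUd⟩
    have := ts_le_of_isSg Q hQ h U hU
    rw [finrank_top, h.1] at hUd
    have := h.e_le
    omega
  · rintro rfl
    obtain ⟨W, hW, hWd⟩ := exists_ts_of_isSg Q hQ h
    exact ⟨W, le_top, hW, by rw [finrank_top, h.1, hWd]; omega⟩

theorem exists_ts_in_plus {U : Submodule F V} (hplus : PlusOn Q U) (s : ℕ)
    (hs : 2 * s ≤ finrank F U) : ∃ W : Submodule F V, W ≤ U ∧ TS Q W ∧ finrank F W = s := by
  obtain ⟨T, hTU, hT, hTd⟩ := hplus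
  obtain ⟨W, hWT, hWd⟩ := exists_le_finrank_eq' T s (by omega)
  exact ⟨W, hWT.trans hTU, fun w hw => hT w (hWT hw), hWd⟩

theorem exists_ts_in_gen {U : Submodule F V} (hU : NDon (PB Q) U) (f : ℕ)
    (hdim : finrank F U = 2 * f) (s : ℕ) (hs : s + 1 ≤ f) :
    ∃ W : Submodule F V, W ≤ U ∧ TS Q W ∧ finrank F W = s := by
  obtain ⟨eU, heU⟩ := exists_isSg (resQ Q U) (resQ_nondegenerate Q hU) f hdim
  have h1 := heU.le_one
  obtain ⟨S₀, hS₀, hS₀d⟩ := exists_ts_of_isSg _ (resQ_nondegenerate Q hU) heU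
  obtain ⟨S₁, hS₁le, hS₁d⟩ := exists_le_finrank_eq' S₀ s (by omega)
  have hS₁ : TS (resQ Q U) S₁ := fun w hw => hS₀ w (hS₁le hw)
  obtain ⟨hts, hle, hd⟩ := ts_map_of_res Q U S₁ hS₁
  exact ⟨_, hle, hts, by rw [hd, hS₁d]⟩

end bridge

section invol

variable {F V : Type*} [Field F] [Fintype F] [AddCommGroup V] [Module F V]
  [FiniteDimensional F V] (Q : QuadraticForm F V)

/-- invariant totally singular subspaces of an isometric involution -/
theorem invol_suff (h2 : (2 : F) ≠ 0) (hQ : (polarBilin Q).Nondegenerate) {d e : ℕ}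
    (hsg : IsSg Q d e) (y : End F V) (hiso : ∀ v, Q (y v) = Q v) (hy : y ^ 2 = 1) (N : ℕ)
    (hN : finrank F (LinearMap.ker (aeval y (X + 1 : F[X]))) = 2 * N)
    (hP : PlusOn Q (LinearMap.ker (aeval y (X + 1 : F[X]))) ↔ IsSquare ((-1 : F) ^ N))
    (m : ℕ) (hmd : m + 1 ≤ d) (hc : e = 0 → ¬ IsSquare (-1 : F) → m + 2 ≤ d) :
    ∃ W : Submodule F V, finrank F W = m ∧ TS Q W ∧ ∀ v ∈ W, y v ∈ W := by
  have hsym := PB_symm Q
  have hisoB : ∀ u v, PB Q (y u) (y v) = PB Q u v := polar_iso Q y hiso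
  have hndV : NDon (PB Q) ⊤ := NDon_top_of_nondegenerate Q hQ
  obtain ⟨hFxnd, hCynd, horth, hdim, hmem⟩ := invol_struct h2 hsym hisoB hy hndV
  rw [hsg.1, hN] at hdim
  obtain ⟨f, hf⟩ : ∃ f, f = d - N := ⟨_, rfl⟩
  have hFxdim : finrank F (LinearMap.ker (aeval y (X - 1 : F[X]))) = 2 * f := by omega
  have he1 := hsg.le_one
  -- it suffices to find the two parts
  suffices hkey : ∃ s₁ s₂, s₁ + s₂ = m ∧
      (∃ W₁ : Submodule F V, W₁ ≤ LinearMap.ker (aeval y (X - 1 : F[X])) ∧ TS Q W₁ ∧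
        finrank F W₁ = s₁) ∧
      (∃ W₂ : Submodule F V, W₂ ≤ LinearMap.ker (aeval y (X + 1 : F[X])) ∧ TS Q W₂ ∧
        finrank F W₂ = s₂) by
    obtain ⟨s₁, s₂, hs, ⟨W₁, hW₁, hW₁ts, hW₁d⟩, ⟨W₂, hW₂, hW₂ts, hW₂d⟩⟩ := hkey
    obtain ⟨hd', hti, hinv⟩ := invol_sum h2 hsym hisoB hy hndV W₁ W₂ hW₁ hW₂
      (fun u hu v hv => hW₁ts.polar_eq_zero Q hu hv) (fun u hu v hv => hW₂ts.polar_eq_zero Q hu hv)
    exact ⟨W₁ ⊔ W₂, by rw [hd', hW₁d, hW₂d, hs], TS_of_isotropic Q h2 hti, hinv⟩
  have hbot : ∀ U : Submodule F V, ∃ W : Submodule F V, W ≤ U ∧ TS Q W ∧ finrank F W = 0 :=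
    fun U => ⟨⊥, bot_le, fun w hw => by rw [(Submodule.mem_bot F).mp hw, map_zero],
      finrank_bot F V⟩
  by_cases hplus : PlusOn Q (LinearMap.ker (aeval y (X + 1 : F[X])))
  · -- `V₋` of plus type
    rcases le_total m N with hmN | hmN
    · exact ⟨0, m, by omega, hbot _, exists_ts_in_plus Q hplus m (by omega)⟩
    · exact ⟨m - N, N, by omega, exists_ts_in_gen Q hFxnd f hFxdim (m - N) (by omega),
        exists_ts_in_plus Q hplus N (by omega)⟩
  · have hns : ¬ IsSquare ((-1 : F) ^ N) := fun h => hplus (hP.mpr h)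
    have hns1 : ¬ IsSquare (-1 : F) := fun h => hns (h.pow N)
    have hN1 : 1 ≤ N := by
      rcases Nat.eq_zero_or_pos N with h | h
      · rw [h, pow_zero] at hns
        exact absurd ⟨1, (mul_one 1).symm⟩ hns
      · exact h
    rcases Nat.eq_zero_or_pos e with he0 | he0
    · have hm2 := hc he0 hns1
      rcases le_total m (N - 1) with hmN | hmN
      · exact ⟨0, m, by omega, hbot _, exists_ts_in_gen Q hCynd N hN m (by omega)⟩
      · exact ⟨m - (N - 1), N - 1, by omega,
          exists_ts_in_gen Q hFxnd f hFxdim (m - (N - 1)) (by omega),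
          exists_ts_in_gen Q hCynd N hN (N - 1) (by omega)⟩
    · -- `V₊` is of plus type
      have hsup : LinearMap.ker (aeval y (X - 1 : F[X])) ⊔
          LinearMap.ker (aeval y (X + 1 : F[X])) = ⊤ := by
        apply Submodule.eq_top_of_finrank_eq
        have h := Submodule.finrank_sup_add_finrank_inf_eq
          (LinearMap.ker (aeval y (X - 1 : F[X]))) (LinearMap.ker (aeval y (X + 1 : F[X])))
        rw [inf_eq_bot_of_orthS (PB Q) hsym _ _ hFxnd horth, finrank_bot, add_zero] at h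
        rw [h, hsg.1, hFxdim, hN]
        omega
      have hps := plus_sup_iff Q h2 hFxnd hCynd horth hFxdim hN
      rw [hsup, plusOn_top_iff Q hQ hsg] at hps
      have hplus₁ : PlusOn Q (LinearMap.ker (aeval y (X - 1 : F[X]))) := by
        by_contra hcon
        have : e = 0 := hps.mpr ⟨fun h => absurd h hcon, fun h => absurd h hplus⟩
        omega
      rcases le_total m f with hmf | hmf
      · exact ⟨m, 0, by omega, exists_ts_in_plus Q hplus₁ m (by omega), hbot _⟩
      · exact ⟨f, m - f, by omega, exists_ts_in_plus Q hplus₁ f (by omega),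
          exists_ts_in_gen Q hCynd N hN (m - f) (by omega)⟩

end invol

section negone

variable {F V : Type*} [Field F] [Fintype F] [AddCommGroup V] [Module F V]
  [FiniteDimensional F V] (Q : QuadraticForm F V)

/-- isometries with square `-1`, when `-1` is a square -/
theorem sq_neg_one_suff_of_isSquare (h2 : (2 : F) ≠ 0) (y : End F V)
    (hiso : ∀ v, Q (y v) = Q v) (hy : ∀ v, y (y v) = -v) (κ : F) (hκ : κ * κ = -1) (d m : ℕ)
    (hV : finrank F V = 2 * d) (hmd : m ≤ d) :
    ∃ W : Submodule F V, finrank F W = m ∧ TS Q W ∧ ∀ v ∈ W, y v ∈ W := by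
  obtain ⟨W, hWm, hWti, hWinv⟩ := exists_ti_neg_split (B := PB Q) h2 (polar_iso Q y hiso) hy κ hκ
    d m hV hmd
  exact ⟨W, hWm, TS_of_isotropic Q h2 hWti, hWinv⟩

omit [Fintype F] [FiniteDimensional F V] in
theorem sq_add_sq_eq_zero (hns : ¬ IsSquare (-1 : F)) {a b : F} (h : a * a + b * b = 0) :
    a = 0 ∧ b = 0 := by
  have hb : b = 0 := by
    by_contra hb
    apply hns
    refine ⟨a / b, ?_⟩
    field_simp
    linear_combination -h
  rw [hb, mul_zero, add_zero] at h
  exact ⟨mul_self_eq_zero.mp h, hb⟩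

/-- extending an invariant totally singular subspace, `y ^ 2 = -1`, `-1` not a square -/
theorem neg_one_extend (h2 : (2 : F) ≠ 0) (hQ : (polarBilin Q).Nondegenerate) {d e : ℕ}
    (hsg : IsSg Q d e) (y : End F V) (hiso : ∀ v, Q (y v) = Q v) (hy : ∀ v, y (y v) = -v)
    (hns : ¬ IsSquare (-1 : F)) (W : Submodule F V) (hWinv : ∀ v ∈ W, y v ∈ W) (hWts : TS Q W)
    (hlt : finrank F W < d - e) :
    ∃ W' : Submodule F V, (∀ v ∈ W', y v ∈ W') ∧ TS Q W' ∧ finrank F W' = finrank F W + 2 := by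
  obtain ⟨M, hWM, hMts, hMd⟩ := ts_extend Q hQ hsg W hWts
  have hWltM : W < M := by
    refine lt_of_le_of_ne hWM ?_
    rintro rfl
    omega
  obtain ⟨v, hvM, hvW⟩ := SetLike.exists_of_lt hWltM
  have hisoB : ∀ u w, PB Q (y u) (y w) = PB Q u w := polar_iso Q y hiso
  have hQv : Q v = 0 := hMts v hvM
  have hQyv : Q (y v) = 0 := by rw [hiso]; exact hQv
  have hBvyv : PB Q v (y v) = 0 := by
    have h1 := hisoB v (y v)
    rw [hy, map_neg, PB_symm Q (y v) v] at h1
    have h3 : (2 : F) * PB Q v (y v) = 0 := by linear_combination -h1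
    rcases mul_eq_zero.mp h3 with h | h
    · exact absurd h h2
    · exact h
  have hBwv : ∀ w ∈ W, PB Q w v = 0 := fun w hw => polar_zero_of_ts Q M hMts (hWM hw) hvM
  have hBwyv : ∀ w ∈ W, PB Q w (y v) = 0 := by
    intro w hw
    have h1 := hisoB w (y v)
    rw [hy, map_neg, hBwv (y w) (hWinv w hw), neg_zero] at h1
    exact h1.symm
  -- the key independence statement
  have hkey : ∀ a b : F, a • v + b • y v ∈ W → a = 0 ∧ b = 0 := by
    intro a b hab
    have h1 := hWinv _ hab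
    rw [map_add, map_smul, map_smul, hy] at h1
    have h3 : (a * a + b * b) • v ∈ W := by
      have h4 := W.sub_mem (W.smul_mem a hab) (W.smul_mem b h1)
      have h5 : a • (a • v + b • y v) - b • (a • y v + b • -v) = (a * a + b * b) • v := by
        rw [smul_add, smul_add, smul_smul, smul_smul, smul_smul, smul_smul, smul_neg, add_smul,
          mul_comm b a]
        abel
      rwa [h5] at h4
    apply sq_add_sq_eq_zero hns
    by_contra hne
    apply hvW
    have := W.smul_mem (a * a + b * b)⁻¹ h3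
    rwa [smul_smul, inv_mul_cancel₀ hne, one_smul] at this
  obtain ⟨P, hP⟩ : ∃ P, P = Submodule.span F {v, y v} := ⟨_, rfl⟩
  have hPmem : ∀ p ∈ P, ∃ a b : F, p = a • v + b • y v := by
    intro p hp
    rw [hP] at hp
    obtain ⟨a, b, rfl⟩ := Submodule.mem_span_pair.mp hp
    exact ⟨a, b, rfl⟩
  have hPinv : ∀ p ∈ P, y p ∈ P := by
    intro p hp
    obtain ⟨a, b, rfl⟩ := hPmem p hp
    rw [map_add, map_smul, map_smul, hy, hP]
    apply Submodule.mem_span_pair.mpr
    exact ⟨-b, a, by rw [neg_smul, smul_neg]; abel⟩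
  have hPts : TS Q P := by
    intro p hp
    obtain ⟨a, b, rfl⟩ := hPmem p hp
    rw [Q_add_eq, QuadraticMap.map_smul, QuadraticMap.map_smul, hQv, hQyv,
      QuadraticMap.polar_smul_left, QuadraticMap.polar_smul_right]
    have := hBvyv
    rw [PB_apply] at this
    rw [this]
    simp
  have hPdim : finrank F P = 2 := by
    have hli : LinearIndependent F ![v, y v] := by
      rw [LinearIndependent.pair_iff]
      intro s t hst
      apply hkey s t
      rw [hst]
      exact W.zero_mem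
    have h := finrank_span_eq_card hli
    have hr : Set.range ![v, y v] = {v, y v} := by
      ext z
      simp only [Matrix.range_cons, Matrix.range_empty, Set.union_empty, Set.mem_union,
        Set.mem_singleton_iff, Set.mem_insert_iff]
    rw [hr, Fintype.card_fin] at h
    rw [hP]
    exact h
  have hdisj : W ⊓ P = ⊥ := by
    rw [eq_bot_iff]
    intro x hx
    obtain ⟨hxW, hxP⟩ := Submodule.mem_inf.mp hx
    obtain ⟨a, b, rfl⟩ := hPmem x hxP
    obtain ⟨ha, hb⟩ := hkey a b hxW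
    rw [ha, hb, zero_smul, zero_smul, add_zero]
    exact Submodule.zero_mem _
  refine ⟨W ⊔ P, sup_invariant _ _ hWinv hPinv, ?_, ?_⟩
  · intro x hx
    obtain ⟨w, hw, p, hp, rfl⟩ := Submodule.mem_sup.mp hx
    obtain ⟨a, b, rfl⟩ := hPmem p hp
    rw [Q_add_eq, hWts w hw, hPts _ (by rw [hP]; exact Submodule.mem_span_pair.mpr ⟨a, b, rfl⟩),
      zero_add, zero_add, ← PB_apply, map_add, map_smul, map_smul, hBwv w hw, hBwyv w hw,
      smul_zero, smul_zero, add_zero]
  · have h := Submodule.finrank_sup_add_finrank_inf_eq W P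
    rw [hdisj, finrank_bot, add_zero, hPdim] at h
    exact h

/-- isometries with `y ^ 2 = -1`, `-1` not a square: the Witt index is even and there are
invariant totally singular subspaces of every even dimension up to the Witt index -/
theorem neg_one_struct (h2 : (2 : F) ≠ 0) (hQ : (polarBilin Q).Nondegenerate) {d e : ℕ}
    (hsg : IsSg Q d e) (y : End F V) (hiso : ∀ v, Q (y v) = Q v) (hy : ∀ v, y (y v) = -v)
    (hns : ¬ IsSquare (-1 : F)) :
    Even (d - e) ∧ ∀ k, 2 * k ≤ d - e →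
      ∃ W : Submodule F V, finrank F W = 2 * k ∧ TS Q W ∧ ∀ v ∈ W, y v ∈ W := by
  have hA : ∀ k, 2 * k ≤ d - e →
      ∃ W : Submodule F V, finrank F W = 2 * k ∧ TS Q W ∧ ∀ v ∈ W, y v ∈ W := by
    intro k
    induction k with
    | zero =>
      intro _
      refine ⟨⊥, by rw [finrank_bot], fun w hw => by rw [(Submodule.mem_bot F).mp hw, map_zero],
        ?_⟩
      intro v hv
      rw [Submodule.mem_bot] at hv ⊢
      rw [hv, map_zero]
    | succ k ih =>
      intro hk
      obtain ⟨W, hWd, hWts, hWinv⟩ := ih (by omega)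
      obtain ⟨W', hW'inv, hW'ts, hW'd⟩ := neg_one_extend Q h2 hQ hsg y hiso hy hns W hWinv hWts
        (by omega)
      exact ⟨W', by rw [hW'd, hWd]; ring, hW'ts, hW'inv⟩
  refine ⟨?_, hA⟩
  by_contra hodd
  rw [Nat.not_even_iff_odd] at hodd
  obtain ⟨k, hk⟩ := hodd
  obtain ⟨W, hWd, hWts, hWinv⟩ := hA k (by omega)
  obtain ⟨W', hW'inv, hW'ts, hW'd⟩ := neg_one_extend Q h2 hQ hsg y hiso hy hns W hWinv hWts
    (by omega)
  have := ts_le_of_isSg Q hQ hsg W' hW'ts
  omega

omit [Fintype F] in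
/-- invariant subspaces of an endomorphism with `y ^ 2 = -1` have even dimension if `-1` is not a
square -/
theorem even_finrank_of_sq_neg_one (y : End F V) (hy : ∀ v, y (y v) = -v)
    (hns : ¬ IsSquare (-1 : F)) (W : Submodule F V) (hWinv : ∀ v ∈ W, y v ∈ W) :
    Even (finrank F W) := by
  by_contra hodd
  rw [Nat.not_even_iff_odd] at hodd
  apply hns
  obtain ⟨y', hy'⟩ : ∃ y' : End F ↥W, y' = y.restrict hWinv := ⟨_, rfl⟩
  have h1 : y' * y' = (-1 : F) • (1 : End F ↥W) := by
    apply LinearMap.ext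
    intro w
    apply Subtype.ext
    rw [Module.End.mul_apply, hy']
    show y (y w.1) = _
    rw [hy]
    simp
  have h3 := congrArg LinearMap.det h1
  rw [map_mul, LinearMap.det_smul, map_one, mul_one, hodd.neg_one_pow] at h3
  exact ⟨LinearMap.det y', h3.symm⟩

end negone

end Cfsg.Agent.Lib.H24.Oq
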