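import Mathlib
import Cfsg.Agent.Lib.H24.OqTwoA
import Cfsg.Agent.Lib.H13.OFus1

set_option autoImplicit false

/-!
# `Ω^±_{2d}(q)` on totally singular `m`-spaces, `r = 2`: membership in `Ω` (helper24)

* `det_one_add_of_sq`: `det (1 + M) = 2 ^ d` for `M ^ 2 = -1`, `-1` not a square;
* `mem_omega_sq_neg_one_iff`: Zassenhaus' criterion for isometries with square `-1`;
* `invol_minus_dsq`: the `-1`-eigenspace of an involution of `Ω` has even dimension and square
  discriminant.
-/

namespace Cfsg.Agent.Lib.H24.Oq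

open Module QuadraticMap Polynomial Matrix
open Cfsg.Agent.Lib.H24.Elus Cfsg.Agent.Lib.H10.OrtNd Cfsg.Agent.Lib.H13.OSS Cfsg.Agent.Lib.H13

section det

variable {F : Type*} [Field F] {ι : Type} [Fintype ι] [DecidableEq ι]

theorem irreducible_sq_add_one (hns : ¬ IsSquare (-1 : F)) : Irreducible (X ^ 2 + 1 : F[X]) := by
  have hdeg : (X ^ 2 + 1 : F[X]).natDegree = 2 := by
    rw [show (1 : F[X]) = C 1 from rfl, natDegree_X_pow_add_C]
  have hmonic : (X ^ 2 + 1 : F[X]).Monic := by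
    rw [show (1 : F[X]) = C 1 from rfl]
    exact monic_X_pow_add_C 1 (by norm_num)
  rw [Polynomial.Monic.irreducible_iff_roots_eq_zero_of_degree_le_three hmonic (by omega) (by omega)]
  rw [Multiset.eq_zero_iff_forall_notMem]
  intro a ha
  rw [mem_roots hmonic.ne_zero, IsRoot.def] at ha
  simp only [eval_add, eval_pow, eval_X, eval_one] at ha
  apply hns
  exact ⟨a, by linear_combination (-1 : F) * ha⟩

theorem charpoly_neg_of_sq (M : Matrix ι ι F) (hM : M * M = -1) (hns : ¬ IsSquare (-1 : F))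
    (d : ℕ) (hcard : Fintype.card ι = 2 * d) : (-M).charpoly = (X ^ 2 + 1) ^ d := by
  have hirr := irreducible_sq_add_one hns
  have hprod : (-M).charpoly * M.charpoly = (X ^ 2 + 1 : F[X]) ^ (2 * d) := by
    unfold Matrix.charpoly
    rw [← Matrix.det_mul]
    have h1 : (-M).charmatrix * M.charmatrix = (X ^ 2 + 1 : F[X]) • (1 : Matrix ι ι F[X]) := by
      unfold Matrix.charmatrix
      rw [map_neg, sub_neg_eq_add]
      have hcomm : Commute ((Matrix.scalar ι) (X : F[X])) ((C : F →+* F[X]).mapMatrix M) :=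
        Matrix.scalar_commute _ (fun r => Commute.all _ _) _
      rw [add_mul, mul_sub, mul_sub, hcomm.eq]
      have h2 : (C : F →+* F[X]).mapMatrix M * (C : F →+* F[X]).mapMatrix M = -1 := by
        rw [← map_mul, hM, map_neg, map_one]
      rw [h2]
      have h3 : (Matrix.scalar ι) (X : F[X]) * (Matrix.scalar ι) (X : F[X]) =
          (X ^ 2 : F[X]) • (1 : Matrix ι ι F[X]) := by
        rw [← map_mul, ← pow_two, Matrix.scalar_apply, Matrix.smul_one_eq_diagonal]
      rw [h3, add_smul, one_smul]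
      abel
    rw [h1, Matrix.det_smul, Matrix.det_one, mul_one, hcard]
  have hdvd : (-M).charpoly ∣ (X ^ 2 + 1 : F[X]) ^ (2 * d) := ⟨_, hprod.symm⟩
  obtain ⟨a, -, ha⟩ := (dvd_prime_pow hirr.prime _).mp hdvd
  have hmonic : (X ^ 2 + 1 : F[X]).Monic := by
    rw [show (1 : F[X]) = C 1 from rfl]
    exact monic_X_pow_add_C 1 (by norm_num)
  have heq : (-M).charpoly = (X ^ 2 + 1 : F[X]) ^ a :=
    eq_of_monic_of_associated (Matrix.charpoly_monic _) (hmonic.pow a) ha
  have hdeg := congrArg natDegree heq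
  rw [Matrix.charpoly_natDegree_eq_dim, hcard, natDegree_pow,
    show (1 : F[X]) = C 1 from rfl, natDegree_X_pow_add_C] at hdeg
  have : a = d := by omega
  rw [heq, this]

theorem det_one_add_of_sq (M : Matrix ι ι F) (hM : M * M = -1) (hns : ¬ IsSquare (-1 : F))
    (d : ℕ) (hcard : Fintype.card ι = 2 * d) : (1 + M).det = 2 ^ d := by
  have h := Matrix.eval_charpoly (-M) 1
  rw [charpoly_neg_of_sq M hM hns d hcard] at h
  simp only [eval_pow, eval_add, eval_X, eval_one, one_pow] at h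
  rw [map_one, sub_neg_eq_add] at h
  rw [← h]
  norm_num

end det

section zass

variable {F : Type*} [Field F] [Fintype F] {ι : Type} [Fintype ι] [DecidableEq ι]
  (Q : QuadraticForm F (ι → F))

/-- Zassenhaus' criterion for isometries with square `-1`, `-1` not a square -/
theorem mem_omega_sq_neg_one_iff (hQ : (polarBilin Q).Nondegenerate) (h2 : (2 : F) ≠ 0)
    (hns : ¬ IsSquare (-1 : F)) (d : ℕ) (hd : 1 ≤ d) (hcard : Fintype.card ι = 2 * d)
    (x : GL ι F) (hx : x ∈ Cfsg.isometryGroup F ⇑Q)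
    (hx2 : (x : Matrix ι ι F) * (x : Matrix ι ι F) = -1) :
    x ∈ Cfsg.Geo.omegaGL ⇑Q ↔ IsSquare ((2 : F) ^ d) := by
  have hdet := det_one_add_of_sq (x : Matrix ι ι F) hx2 hns d hcard
  rw [OFus.zassenhaus Q hQ h2 (by omega) ⟨d, by omega⟩ x hx (by
    rw [hdet]; exact pow_ne_zero d h2), hdet]

omit [Fintype F] [Fintype ι] [DecidableEq ι] in
theorem isSquare_two_pow_iff (h2 : (2 : F) ≠ 0) (d : ℕ) :
    IsSquare ((2 : F) ^ d) ↔ (Even d ∨ IsSquare (2 : F)) := by
  constructor
  · intro h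
    by_cases hd : Even d
    · exact Or.inl hd
    · right
      rw [Nat.not_even_iff_odd] at hd
      obtain ⟨k, hk⟩ := hd
      obtain ⟨s, hs⟩ := h
      refine ⟨s / 2 ^ k, ?_⟩
      have h3 : (2 : F) ^ k ≠ 0 := pow_ne_zero k h2
      field_simp
      rw [hk, pow_succ, pow_mul'] at hs
      linear_combination hs
  · rintro (⟨k, hk⟩ | h)
    · exact ⟨2 ^ k, by rw [hk, pow_add]⟩
    · exact h.pow d

end zass

section involOmega

variable {F : Type*} [Field F] [Fintype F] {ι : Type} [Fintype ι] [DecidableEq ι]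

/-- the `-1`-eigenspace of an involution of `Ω(Q)` has even dimension and square discriminant -/
theorem invol_minus_dsq [DecidableEq F] (h2 : (2 : F) ≠ 0) (Q : QuadraticForm F (ι → F))
    (hcard : 2 ≤ Fintype.card ι) (hQ : (QuadraticMap.polarBilin Q).Nondegenerate)
    (x : GL ι F) (hxΩ : x ∈ Cfsg.Geo.omegaGL ⇑Q) (hx2 : x ^ 2 = 1) :
    ∃ N, finrank F (LinearMap.ker (aeval (Matrix.toLin' (x : Matrix ι ι F)) (X + 1 : F[X]))) =
        2 * N ∧
      DSq Q (LinearMap.ker (aeval (Matrix.toLin' (x : Matrix ι ι F)) (X + 1 : F[X]))) := by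
  have hxiso : x ∈ Cfsg.isometryGroup F ⇑Q := mem_iso_of_mem_omegaGL _ x hxΩ
  obtain ⟨B, hB⟩ : ∃ B : LinearMap.BilinForm F (ι → F), B = QuadraticMap.polarBilin Q := ⟨_, rfl⟩
  have hBapp : ∀ u v, B u v = QuadraticMap.polar (⇑Q) u v := fun u v => by
    rw [hB, QuadraticMap.polarBilin_apply_apply]
  have hsym : ∀ u v, B u v = B v u := fun u v => by
    rw [hBapp, hBapp, QuadraticMap.polar_comm]
  obtain ⟨y, hy⟩ : ∃ y, y = Matrix.toLin' (x : Matrix ι ι F) := ⟨_, rfl⟩
  rw [← hy]
  have hy2 : y ^ 2 = 1 := by rw [hy]; exact toLin_pow_eq_one x 2 hx2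
  have hiso : ∀ u v, B (y u) (y v) = B u v := by
    rw [hy, hB]
    exact polarBilin_iso Q x hxiso
  have hndV : NDon B ⊤ := fun u _ h => by
    rw [hB] at h
    exact hQ.1 u (fun w => h w Submodule.mem_top)
  obtain ⟨hFxnd, hCynd, horth, -, hmem⟩ := invol_struct h2 hsym hiso hy2 hndV
  obtain ⟨Vm, hVm⟩ : ∃ Vm, Vm = LinearMap.ker (aeval y (X + 1 : F[X])) := ⟨_, rfl⟩
  rw [← hVm] at hCynd horth ⊢
  obtain ⟨B', hB'⟩ : ∃ B' : LinearMap.BilinForm F ↥Vm, B' = B.restrict Vm := ⟨_, rfl⟩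
  have hB'app : ∀ u v : ↥Vm, B' u v = B u.1 v.1 := fun u v => by rw [hB']; rfl
  have hB'sym : ∀ u v : ↥Vm, B' u v = B' v u := fun u v => by rw [hB'app, hB'app, hsym]
  have hB'nd : B'.Nondegenerate := by
    have key : ∀ u : ↥Vm, (∀ v, B' u v = 0) → u = 0 := by
      intro u hu
      apply Subtype.ext
      apply hCynd u.1 u.2
      intro v hv
      have := hu ⟨v, hv⟩
      rw [hB'app] at this
      exact this
    exact ⟨key, fun u hu => key u (fun v => by rw [hB'sym]; exact hu v)⟩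
  haveI : Invertible (2 : F) := invertibleOfNonzero h2
  obtain ⟨b, v, hb, hv⟩ : ∃ (b : ℕ) (v : Basis (Fin b) F ↥Vm), b = finrank F ↥Vm ∧
      ∀ i j, i ≠ j → B' (v i) (v j) = 0 := by
    obtain ⟨v, hv⟩ := LinearMap.BilinForm.exists_orthogonal_basis (B := B') ⟨hB'sym⟩
    rw [LinearMap.isOrthoᵢ_def] at hv
    exact ⟨_, v, rfl, hv⟩
  rw [← hb]
  obtain ⟨w, hw⟩ : ∃ w : Fin b → (ι → F), w = fun i => (v i : ι → F) := ⟨_, rfl⟩
  have hwmem : ∀ i, w i ∈ Vm := fun i => by rw [hw]; exact (v i).2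
  have hworth : ∀ i j, i ≠ j → QuadraticMap.polar (⇑Q) (w i) (w j) = 0 := by
    intro i j hij
    have := hv i j hij
    rw [hB'app, hBapp] at this
    rw [hw]
    exact this
  have hwQ : ∀ i, Q (w i) ≠ 0 := by
    intro i hi
    have h0 : B' (v i) (v i) = 0 := by
      rw [hB'app, hBapp, QuadraticMap.polar_self]
      have : Q (v i : ι → F) = 0 := by rw [hw] at hi; exact hi
      rw [this, smul_zero]
    have h1 : v i = 0 := by
      apply hB'nd.1
      intro u
      rw [← v.sum_repr u, map_sum]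
      apply Finset.sum_eq_zero
      intro j _
      rw [map_smul]
      by_cases hij : i = j
      · rw [← hij, h0, smul_zero]
      · rw [hv i j hij, smul_zero]
    exact v.ne_zero i h1
  obtain ⟨L, hL⟩ : ∃ L, L = List.ofFn w := ⟨_, rfl⟩
  have hLmem : ∀ u ∈ L, ∃ i, w i = u := by
    intro u hu
    rw [hL, List.mem_ofFn] at hu
    exact hu
  have hLQ : ∀ u ∈ L, Q u ≠ 0 := by
    intro u hu
    obtain ⟨i, rfl⟩ := hLmem u hu
    exact hwQ i
  have hLp : L.Pairwise (fun a c => QuadraticMap.polar (⇑Q) a c = 0) := by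
    rw [hL, List.pairwise_ofFn]
    intro i j hij
    exact hworth i j (ne_of_lt hij)
  have hprod : reflProd Q L = (x : Matrix ι ι F) := by
    apply Matrix.toLin'.injective
    rw [← hy]
    have hrF : ((2 : ℕ) : F) ≠ 0 := by
      rw [Nat.cast_ofNat]
      exact h2
    haveI : Fact (Nat.Prime 2) := ⟨Nat.prime_two⟩
    have hsplit := split_fix hrF hy2 ⊤ (fun _ _ => Submodule.mem_top)
    rw [top_inf_eq, top_inf_eq, cyclotomic_two, ← hVm] at hsplit
    have hm : ∀ z ∈ Vm, reflProd Q L *ᵥ z = -z := by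
      have hext : (Matrix.toLin' (reflProd Q L)).comp Vm.subtype = -Vm.subtype := by
        apply v.ext
        intro i
        rw [LinearMap.comp_apply, LinearMap.neg_apply, Submodule.subtype_apply,
          Matrix.toLin'_apply]
        have : (v i : ι → F) = w i := by rw [hw]
        rw [this]
        apply reflProd_neg Q h2 L hLp hLQ
        rw [hL, List.mem_ofFn]
        exact ⟨i, rfl⟩
      intro z hz
      have := LinearMap.congr_fun hext ⟨z, hz⟩
      rw [LinearMap.comp_apply, LinearMap.neg_apply, Submodule.subtype_apply,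
        Matrix.toLin'_apply] at this
      exact this
    apply LinearMap.ext
    intro z
    obtain ⟨z₁, hz₁, z₂, hz₂, rfl⟩ := Submodule.mem_sup.mp (hsplit (Submodule.mem_top : z ∈ ⊤))
    rw [map_add, map_add, Matrix.toLin'_apply, Matrix.toLin'_apply, hm z₂ hz₂,
      (mem_fix_iff z₁).mp hz₁, (hmem z₂).mp (hVm ▸ hz₂)]
    congr 1
    apply reflProd_fix
    intro u hu
    obtain ⟨i, rfl⟩ := hLmem u hu
    rw [QuadraticMap.polar_comm, ← hBapp]
    exact horth z₁ hz₁ (w i) (hwmem i)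
  have hΩ := (OmegaCrit.mem_Omega_iff_list Q h2 hcard hQ ⟨x, hxiso⟩ L hLQ hprod.symm).mp
    (mem_Omega_of_mem_omegaGL _ x hxΩ hxiso)
  obtain ⟨⟨N, hN⟩, hsq⟩ := hΩ
  rw [hL, List.length_ofFn] at hN
  refine ⟨N, by omega, ?_⟩
  have hli : LinearIndependent F w := by
    rw [hw]
    exact v.linearIndependent.map' Vm.subtype (Submodule.ker_subtype Vm)
  have hspan : Submodule.span F (Set.range w) = Vm := by
    have h1 : Set.range w = Vm.subtype '' Set.range v := by
      rw [← Set.range_comp, hw]; rfl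
    rw [h1, Submodule.span_image, v.span_eq, Submodule.map_top, Submodule.range_subtype]
  refine ⟨Fin b, inferInstance, inferInstance, w, hli, hspan, ?_⟩
  have hdiag : Cfsg.Agent.Lib.H10.OrtNd.gram Q w = Matrix.diagonal (fun i => 2 * Q (w i)) := by
    ext i j
    rw [Cfsg.Agent.Lib.H10.OrtNd.gram_apply]
    by_cases hij : i = j
    · rw [hij, Matrix.diagonal_apply_eq, PB_self]
    · rw [Matrix.diagonal_apply_ne _ hij, PB_apply, hworth i j hij]
  rw [hdiag, Matrix.det_diagonal, Finset.prod_mul_distrib, Finset.prod_const, Finset.card_univ,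
    Fintype.card_fin]
  refine IsSquare.mul ⟨2 ^ N, by rw [hN, pow_add]⟩ ?_
  rw [hL, List.map_ofFn, List.prod_ofFn] at hsq
  exact hsq

end involOmega

end Cfsg.Agent.Lib.H24.Oq
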