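import Mathlib
import Cfsg.Agent.Lib.H24.OqTwoB

set_option autoImplicit false

/-!
# `Ω^±_{2d}(q)` on totally singular `m`-spaces, `r = 2`: sufficiency (helper24)
-/

namespace Cfsg.Agent.Lib.H24.Oq

open Module QuadraticMap Polynomial Matrix
open Cfsg.Agent.Lib.H24.Elus Cfsg.Agent.Lib.H10.OrtNd Cfsg.Agent.Lib.H13.OSS Cfsg.Agent.Lib.H13

section suff

variable {F : Type*} [Field F] [Fintype F] {ι : Type} [Fintype ι] [DecidableEq ι]
  (Q' : QuadraticForm F (ι → F))

/-- sufficiency for `r = 2` -/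
theorem two_suff_quad (h2 : (2 : F) ≠ 0) (hQ' : (polarBilin Q').Nondegenerate) {d e : ℕ}
    (hsg' : IsSg Q' d e) (hd : 1 ≤ d) (m : ℕ) (hmd : m + 1 ≤ d)
    (hc0 : e = 0 → ¬ IsSquare (-1 : F) → m + 2 ≤ d ∧ (Even m ∨ Odd d))
    (hc1 : e = 1 → ¬ IsSquare (-1 : F) → Even d ∨ Even m ∨ ¬ IsSquare (2 : F))
    (x : GL ι F) (hxΩ : x ∈ Cfsg.Geo.omegaGL ⇑Q') (z : F)
    (hz : ((x ^ 2 : GL ι F) : Matrix ι ι F) = z • (1 : Matrix ι ι F)) :
    ∃ W : Submodule F (ι → F), finrank F W = m ∧ TS Q' W ∧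
      ∀ v ∈ W, Matrix.toLin' (x : Matrix ι ι F) v ∈ W := by
  classical
  have hcardι : Fintype.card ι = 2 * d := by
    have := hsg'.1
    rwa [Module.finrank_fintype_fun_eq_card] at this
  haveI : Nonempty ι := by
    rw [← Fintype.card_pos_iff]
    omega
  have he1 := hsg'.le_one
  have hed := hsg'.e_le
  have hx2Ω : x ^ 2 ∈ Cfsg.Geo.omegaGL ⇑Q' := Subgroup.pow_mem _ hxΩ 2
  have hzz : z * z = 1 := by
    apply scalar_sq_of_iso Q' hQ' z
    intro v
    have := iso_of_mem_omegaGL Q' (x ^ 2) hx2Ω v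
    rw [hz, Matrix.smul_mulVec, Matrix.one_mulVec] at this
    exact this
  obtain ⟨y, hy⟩ : ∃ y, y = Matrix.toLin' (x : Matrix ι ι F) := ⟨_, rfl⟩
  rw [← hy]
  have hyiso : ∀ v, Q' (y v) = Q' v := by
    intro v
    rw [hy, Matrix.toLin'_apply]
    exact iso_of_mem_omegaGL Q' x hxΩ v
  have hyy : ∀ v, y (y v) = z • v := by
    intro v
    rw [hy, Matrix.toLin'_apply, Matrix.toLin'_apply, Matrix.mulVec_mulVec, ← pow_two,
      ← Units.val_pow_eq_pow_val, hz, Matrix.smul_mulVec, Matrix.one_mulVec]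
  rcases mul_self_eq_one_iff.mp hzz with hz1 | hz1
  · -- involutions
    subst hz1
    have hx2 : x ^ 2 = 1 := by
      apply Units.ext
      rw [hz, one_smul, Units.val_one]
    have hy2 : y ^ 2 = 1 := by
      apply LinearMap.ext
      intro v
      rw [pow_two, Module.End.mul_apply, hyy, one_smul, Module.End.one_apply]
    obtain ⟨N, hN, hD⟩ := invol_minus_dsq h2 Q' (by omega) hQ' x hxΩ hx2
    rw [← hy] at hN hD
    obtain ⟨-, hCynd, -, -, -⟩ := invol_struct h2 (PB_symm Q') (polar_iso Q' y hyiso) hy2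
      (NDon_top_of_nondegenerate Q' hQ')
    have hP := plus_iff_DSq Q' h2 hCynd hN
    have hP' : PlusOn Q' (LinearMap.ker (aeval y (X + 1 : F[X]))) ↔ IsSquare ((-1 : F) ^ N) :=
      hP.trans ⟨fun h => h.mpr hD, fun h => ⟨fun _ => hD, fun _ => h⟩⟩
    exact invol_suff Q' h2 hQ' hsg' y hyiso hy2 N hN hP' m hmd
      (fun he hns => (hc0 he hns).1)
  · subst hz1
    have hyy' : ∀ v, y (y v) = -v := fun v => by rw [hyy, neg_smul, one_smul]
    by_cases hsq : IsSquare (-1 : F)
    · obtain ⟨κ, hκ⟩ := hsq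
      exact sq_neg_one_suff_of_isSquare Q' h2 y hyiso hyy' κ hκ.symm d m hsg'.1 (by omega)
    · obtain ⟨hev, hex⟩ := neg_one_struct Q' h2 hQ' hsg' y hyiso hyy' hsq
      suffices hm : Even m by
        obtain ⟨k, hk⟩ := hm
        obtain ⟨W, hWd, hWts, hWinv⟩ := hex k (by
          rcases Nat.eq_zero_or_pos e with h | h
          · have := (hc0 h hsq).1
            omega
          · omega)
        exact ⟨W, by rw [hWd, hk]; ring, hWts, hWinv⟩
      rcases Nat.eq_zero_or_pos e with he0 | he0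
      · rcases (hc0 he0 hsq).2 with h | h
        · exact h
        · exfalso
          rw [he0, Nat.sub_zero] at hev
          exact (Nat.not_even_iff_odd.mpr h) hev
      · have he : e = 1 := by omega
        have hdodd : Odd d := by
          rw [he] at hev
          obtain ⟨k, hk⟩ := hev
          exact ⟨k, by omega⟩
        rcases hc1 he hsq with h | h | h
        · exact absurd h (Nat.not_even_iff_odd.mpr hdodd)
        · exact h
        · exfalso
          have hxiso : x ∈ Cfsg.isometryGroup F ⇑Q' := mem_iso_of_mem_omegaGL _ x hxΩ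
          have hxx : (x : Matrix ι ι F) * (x : Matrix ι ι F) = -1 := by
            rw [← pow_two, ← Units.val_pow_eq_pow_val, hz, neg_smul, one_smul]
          have h3 := (mem_omega_sq_neg_one_iff Q' hQ' h2 hsq d hd hcardι x hxiso hxx).mp hxΩ
          rcases (isSquare_two_pow_iff h2 d).mp h3 with h4 | h4
          · exact (Nat.not_even_iff_odd.mpr hdodd) h4
          · exact h h4

end suff

end Cfsg.Agent.Lib.H24.Oq
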