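import Mathlib
import Cfsg.Agent.Lib.H24.OqTwoC
import Cfsg.Agent.Lib.H10.OrtNdE

set_option autoImplicit false

/-!
# `Ω^±_{2d}(q)` on totally singular `m`-spaces, `r = 2`: necessity (helper24)

* `two_nec_negone`: an element of `Ω` with square `-1` (from the twist of the standard symplectic
  matrix `J`), all of whose invariant subspaces have even dimension;
* `two_nec_invol`: an involution of `Ω` of plus type whose `-1`-eigenspace is an anisotropic plane.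
-/

namespace Cfsg.Agent.Lib.H24.Oq

open Module QuadraticMap Polynomial Matrix
open Cfsg.Agent.Lib.H24.Elus Cfsg.Agent.Lib.H10.OrtNd Cfsg.Agent.Lib.H13.OSS Cfsg.Agent.Lib.H13

section mat

variable {F V : Type*} [Field F] [AddCommGroup V] [Module F V] [FiniteDimensional F V]
  {ι : Type} [Fintype ι] [DecidableEq ι]

/-- an isometry of finite order of an abstract quadratic space as an element of the isometry group
of the form in coordinates, with the conjugation formula -/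
theorem exists_mat_of_isometry' (Q : V → F) (Q' : QuadraticForm F (ι → F))
    (E : V ≃ₗ[F] (ι → F)) (hEQ : ∀ v, Q v = Q' (E v))
    (ψ : End F V) (n : ℕ) (hn : 0 < n) (hψn : ψ ^ n = 1) (hψ : ∀ v, Q (ψ v) = Q v) :
    ∃ x : GL ι F, x ∈ Cfsg.isometryGroup F ⇑Q' ∧
      ∀ w, Matrix.toLin' (x : Matrix ι ι F) w = E (ψ (E.symm w)) := by
  classical
  have h1 : ψ * ψ ^ (n - 1) = 1 := by rw [← pow_succ', Nat.sub_add_cancel hn, hψn]
  have h2 : ψ ^ (n - 1) * ψ = 1 := by rw [← pow_succ, Nat.sub_add_cancel hn, hψn]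
  obtain ⟨ψe, hψe⟩ : ∃ ψe : V ≃ₗ[F] V, ∀ v, ψe v = ψ v :=
    ⟨LinearEquiv.ofLinear ψ (ψ ^ (n - 1)) h1 h2, fun v => rfl⟩
  obtain ⟨g, hg⟩ : ∃ g : (ι → F) ≃ₗ[F] (ι → F), g = E.symm.trans (ψe.trans E) := ⟨_, rfl⟩
  have hgapp : ∀ w, g w = E (ψ (E.symm w)) := by
    intro w
    rw [hg, LinearEquiv.trans_apply, LinearEquiv.trans_apply, hψe]
  have hgQ : ∀ w, Q' (g w) = Q' w := by
    intro w
    have h3 := hEQ (ψ (E.symm w))
    rw [hψ, hEQ, E.apply_symm_apply, ← hgapp] at h3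
    exact h3.symm
  obtain ⟨x, hxmem, hmv⟩ : ∃ x : GL ι F, x ∈ Cfsg.isometryGroup F ⇑Q' ∧
      ∀ w, (x : Matrix ι ι F) *ᵥ w = g w :=
    ⟨_, (AutPO.elOfEquiv Q' g hgQ).2, fun w => AutPO.elOfEquiv_mulVec _ g hgQ w⟩
  refine ⟨x, hxmem, ?_⟩
  intro w
  rw [Matrix.toLin'_apply, hmv, hgapp]

end mat

section negone

variable {F : Type*} [Field F] [Fintype F] {ι : Type} [Fintype ι] [DecidableEq ι]
  (Q' : QuadraticForm F (ι → F))

/-- the hypothesis for `r = 2` -/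
def AllFixTS2 (m : ℕ) : Prop :=
  ∀ x : GL ι F, x ∈ Cfsg.Geo.omegaGL ⇑Q' →
    (∃ z : F, ((x ^ 2 : GL ι F) : Matrix ι ι F) = z • (1 : Matrix ι ι F)) →
    (∀ z : F, (x : Matrix ι ι F) ≠ z • (1 : Matrix ι ι F)) →
    ∃ W : Submodule F (ι → F), finrank F W = m ∧ TS Q' W ∧
      ∀ v ∈ W, Matrix.toLin' (x : Matrix ι ι F) v ∈ W

/-- if `Ω` contains elements of square `-1` (`-1` not a square), then `m` is even -/
theorem two_nec_negone (h2 : (2 : F) ≠ 0) (hns : ¬ IsSquare (-1 : F))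
    (hQ' : (polarBilin Q').Nondegenerate) {d e : ℕ} (hsg' : IsSg Q' d e) (hd : 1 ≤ d)
    (hpar : Even (d - e)) (hΩ : Even d ∨ IsSquare (2 : F)) (m : ℕ) (hall : AllFixTS2 Q' m) :
    Even m := by
  classical
  have hcardι : Fintype.card ι = 2 * d := by
    have := hsg'.1
    rwa [Module.finrank_fintype_fun_eq_card] at this
  haveI : Nonempty ι := by
    rw [← Fintype.card_pos_iff]
    omega
  obtain ⟨x₀, hx₀⟩ : ∃ x₀ : ↥(Matrix.symplecticGroup (Fin d) F),
      (x₀ : Matrix (Fin d ⊕ Fin d) (Fin d ⊕ Fin d) F) = Matrix.J (Fin d) F :=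
    ⟨⟨Matrix.J (Fin d) F, SymplecticGroup.J_mem _ _⟩, rfl⟩
  obtain ⟨y₁, hy₁def⟩ : ∃ y₁ : End F (Fin d ⊕ Fin d → F),
      y₁ = Matrix.toLin' (x₀ : Matrix (Fin d ⊕ Fin d) (Fin d ⊕ Fin d) F) := ⟨_, rfl⟩
  have hyy : ∀ v, y₁ (y₁ v) = -v := by
    intro v
    rw [hy₁def, Matrix.toLin'_apply, Matrix.toLin'_apply, Matrix.mulVec_mulVec, hx₀,
      Matrix.J_squared, Matrix.neg_mulVec, Matrix.one_mulVec]
  have hiso₀ : ∀ u v, stdB d (y₁ u) (y₁ v) = stdB (F := F) d u v := by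
    rw [hy₁def]
    exact sp_iso d x₀
  have halt₀ := stdB_alt (F := F) d
  obtain ⟨Q₁, hQ₁⟩ : ∃ Q₁ : QuadraticForm F (Fin d ⊕ Fin d → F), Q₁ = twQ (stdB d) y₁ :=
    ⟨_, rfl⟩
  have hpol : ∀ u v, polar (⇑Q₁) u v = 2 * stdB d (y₁ u) v := by
    intro u v
    unfold polar
    rw [hQ₁, twQ_apply, twQ_apply, twQ_apply]
    have h1 : stdB d (y₁ v) u = stdB d (y₁ u) v := by
      rw [alt_swap (stdB d) halt₀ (y₁ v) u, ← hiso₀ u (y₁ v), hyy, map_neg, neg_neg]
    simp only [map_add, LinearMap.add_apply]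
    rw [h1]
    ring
  have hnd : ∀ u, (∀ w, polar (⇑Q₁) u w = 0) → u = 0 := by
    intro u hu
    have h1 : y₁ u = 0 := by
      apply stdB_nd d
      intro w
      have := hu w
      rw [hpol] at this
      rcases mul_eq_zero.mp this with h | h
      · exact absurd h h2
      · exact h
    have := hyy u
    rw [h1, map_zero] at this
    exact neg_eq_zero.mp this.symm
  have hQ₁nd : (polarBilin Q₁).Nondegenerate := by
    constructor
    · intro u hu
      exact hnd u hu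
    · intro u hu
      apply hnd u
      intro w
      rw [polar_comm]
      exact hu w
  have hQ₁iso : ∀ v, Q₁ (y₁ v) = Q₁ v := by
    intro v
    rw [hQ₁]
    exact twQ_iso hiso₀ v
  obtain ⟨e', he'⟩ := exists_isSg Q₁ hQ₁nd d (finrank_std d)
  obtain ⟨hev, -⟩ := neg_one_struct Q₁ h2 hQ₁nd he' y₁ hQ₁iso hyy hns
  have hee : e' = e := by
    have := he'.le_one
    have := hsg'.le_one
    have := he'.e_le
    have := hsg'.e_le
    obtain ⟨k₁, hk₁⟩ := hev
    obtain ⟨k₂, hk₂⟩ := hpar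
    omega
  rw [hee] at he'
  obtain ⟨Φ, hΦ⟩ := exists_iso_of_isSg Q₁ Q' hQ₁nd hQ' hd he' hsg'
  have hy₁4 : y₁ ^ 4 = 1 := by
    apply LinearMap.ext
    intro v
    have : (y₁ ^ 4) v = y₁ (y₁ (y₁ (y₁ v))) := by
      rw [show (4 : ℕ) = 1 + 1 + 1 + 1 from rfl, pow_succ, pow_succ, pow_succ, pow_one]
      rfl
    rw [this, hyy, hyy, neg_neg]
    rfl
  obtain ⟨x, hxiso, hlin⟩ := exists_mat_of_isometry' (⇑Q₁) Q' Φ hΦ y₁ 4 (by norm_num) hy₁4 hQ₁iso
  have hxyy : ∀ w, Matrix.toLin' (x : Matrix ι ι F) (Matrix.toLin' (x : Matrix ι ι F) w) = -w := by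
    intro w
    rw [hlin, hlin, Φ.symm_apply_apply, hyy, map_neg, Φ.apply_symm_apply]
  have hxx : (x : Matrix ι ι F) * (x : Matrix ι ι F) = -1 := by
    apply Matrix.toLin'.injective
    apply LinearMap.ext
    intro w
    rw [Matrix.toLin'_mul, LinearMap.comp_apply, hxyy, map_neg, Matrix.toLin'_one,
      LinearMap.neg_apply, LinearMap.id_apply]
  have hxΩ : x ∈ Cfsg.Geo.omegaGL ⇑Q' :=
    (mem_omega_sq_neg_one_iff Q' hQ' h2 hns d hd hcardι x hxiso hxx).mpr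
      ((isSquare_two_pow_iff h2 d).mpr hΩ)
  obtain ⟨W, hWm, -, hWinv⟩ := hall x hxΩ ⟨-1, by
      rw [Units.val_pow_eq_pow_val, pow_two, hxx, neg_smul, one_smul]⟩ (by
    intro z hz
    apply hns
    rw [hz] at hxx
    obtain ⟨i₀⟩ := (inferInstance : Nonempty ι)
    have h3 := congrFun (congrFun hxx i₀) i₀
    rw [Matrix.smul_mul, Matrix.mul_smul, Matrix.mul_one, Matrix.smul_apply, Matrix.smul_apply,
      Matrix.one_apply_eq, Matrix.neg_apply, Matrix.one_apply_eq, smul_eq_mul, smul_eq_mul,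
      mul_one] at h3
    exact ⟨z, h3.symm⟩)
  rw [← hWm]
  exact even_finrank_of_sq_neg_one _ hxyy hns W hWinv

end negone

section invol

variable {F : Type*} [Field F] [Fintype F] {ι : Type} [Fintype ι] [DecidableEq ι]
  (Q' : QuadraticForm F (ι → F))

/-- plus type, `-1` not a square: an involution of `Ω` whose `-1`-eigenspace is an anisotropic
plane fixes no totally singular `(d - 1)`-space -/
theorem two_nec_invol (h2 : (2 : F) ≠ 0) (hns : ¬ IsSquare (-1 : F))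
    (hQ' : (polarBilin Q').Nondegenerate) {d : ℕ} (hsg' : IsSg Q' d 0) (hd : 2 ≤ d) (m : ℕ)
    (hmd : m + 1 ≤ d) (hall : AllFixTS2 Q' m) : m + 2 ≤ d := by
  classical
  by_contra hcon
  have hmeq : m + 1 = d := by omega
  have hcardι : Fintype.card ι = 2 * d := by
    have := hsg'.1
    rwa [Module.finrank_fintype_fun_eq_card] at this
  have hsym := PB_symm Q'
  have hndV : NDon (PB Q') ⊤ := NDon_top_of_nondegenerate Q' hQ'
  have htop : finrank F (⊤ : Submodule F (ι → F)) = 2 * d := by rw [finrank_top, hsg'.1]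
  obtain ⟨v₁, -, hQ1⟩ := universal Q' h2 hndV (by omega) 1 one_ne_zero
  have hQ1' : Q' v₁ ≠ 0 := by rw [hQ1]; exact one_ne_zero
  have hD₁nd := NDon_span_singleton Q' h2 hQ1'
  have hD₁dim := finrank_span_singleton_of_nonsing Q' hQ1'
  have hU₁nd := NDon_perp_inS (PB Q') hsym ⊤ _ hndV hD₁nd le_top
  have hU₁dim := finrank_perp_inS (PB Q') hsym ⊤ _ hD₁nd le_top
  rw [hD₁dim, htop] at hU₁dim
  obtain ⟨v₂, hv₂U, hQ2⟩ := universal Q' h2 hU₁nd (by omega) 1 one_ne_zero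
  have hQ2' : Q' v₂ ≠ 0 := by rw [hQ2]; exact one_ne_zero
  have horth : polar (⇑Q') v₁ v₂ = 0 :=
    (Submodule.mem_inf.mp hv₂U).2 v₁ (Submodule.mem_span_singleton_self v₁)
  have horth' : polar (⇑Q') v₂ v₁ = 0 := by rw [polar_comm]; exact horth
  have hD₁orth : ∀ a ∈ Submodule.span F {v₁}, PB Q' a v₂ = 0 := by
    intro a ha
    obtain ⟨c, rfl⟩ := Submodule.mem_span_singleton.mp ha
    rw [map_smul, LinearMap.smul_apply, PB_apply, horth, smul_zero]
  obtain ⟨P, hP⟩ : ∃ P, P = Submodule.span F {v₁} ⊔ Submodule.span F {v₂} := ⟨_, rfl⟩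
  have hPnd : NDon (PB Q') P := by
    rw [hP]
    exact NDon_sup_span Q' h2 hD₁nd hQ2' hD₁orth
  have hPdim : finrank F P = 2 := by
    rw [hP, finrank_sup_span Q' hD₁nd hQ2' hD₁orth, hD₁dim]
  have hPmem : ∀ p ∈ P, ∃ a b : F, p = a • v₁ + b • v₂ := by
    intro p hp
    rw [hP] at hp
    obtain ⟨p₁, hp₁, p₂, hp₂, rfl⟩ := Submodule.mem_sup.mp hp
    obtain ⟨a, rfl⟩ := Submodule.mem_span_singleton.mp hp₁
    obtain ⟨b, rfl⟩ := Submodule.mem_span_singleton.mp hp₂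
    exact ⟨a, b, rfl⟩
  have hQP : ∀ a b : F, Q' (a • v₁ + b • v₂) = a * a + b * b := by
    intro a b
    rw [Q_add_eq, QuadraticMap.map_smul, QuadraticMap.map_smul, hQ1, hQ2,
      QuadraticMap.polar_smul_left, QuadraticMap.polar_smul_right, horth]
    simp
  -- the involution
  obtain ⟨g, hg⟩ : ∃ g : ↥(Cfsg.isometryGroup F ⇑Q'),
      g = Cfsg.Agent.Lib.H13.HypPairs.reflG Q' v₁ hQ1' *
        Cfsg.Agent.Lib.H13.HypPairs.reflG Q' v₂ hQ2' := ⟨_, rfl⟩
  have hgval : ((g : GL ι F) : Matrix ι ι F) =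
      Cfsg.reflectionMatrix ⇑Q' v₁ * Cfsg.reflectionMatrix ⇑Q' v₂ := by
    rw [hg]
    rfl
  have hgΩ : g ∈ Cfsg.Omega F ⇑Q' := by
    rw [OmegaCrit.mem_Omega_iff_list Q' h2 (by omega) hQ' g [v₁, v₂] ?_ ?_]
    · refine ⟨⟨1, rfl⟩, ?_⟩
      simp only [List.map_cons, List.map_nil, List.prod_cons, List.prod_nil, hQ1, hQ2, mul_one]
      exact ⟨1, (mul_one 1).symm⟩
    · intro v hv
      simp only [List.mem_cons, List.not_mem_nil, or_false] at hv
      rcases hv with rfl | rfl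
      · exact hQ1'
      · exact hQ2'
    · rw [hgval]
      simp only [List.map_cons, List.map_nil, List.prod_cons, List.prod_nil, mul_one]
  obtain ⟨x, hx⟩ : ∃ x : GL ι F, x = (g : GL _ F) := ⟨_, rfl⟩
  have hxval : (x : Matrix ι ι F) =
      Cfsg.reflectionMatrix ⇑Q' v₁ * Cfsg.reflectionMatrix ⇑Q' v₂ := by rw [hx, hgval]
  have hxΩ : x ∈ Cfsg.Geo.omegaGL ⇑Q' := by
    rw [hx]
    exact ⟨g, hgΩ, rfl⟩
  have hact : ∀ z, (x : Matrix ι ι F) *ᵥ z =
      z - polar (⇑Q') v₁ z • v₁ - polar (⇑Q') v₂ z • v₂ := by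
    intro z
    rw [hxval, two_refl_mulVec Q' v₁ v₂ horth z, hQ1, hQ2, inv_one, one_mul, one_mul]
  have hxx : (x : Matrix ι ι F) * (x : Matrix ι ι F) = 1 := by
    rw [hxval]
    exact two_refl_sq Q' h2 v₁ v₂ hQ1' hQ2' horth
  -- the orthogonal complement of the plane
  obtain ⟨U, hU⟩ : ∃ U, U = (⊤ : Submodule F (ι → F)) ⊓ (PB Q').orthogonal P := ⟨_, rfl⟩
  have hUnd : NDon (PB Q') U := by
    rw [hU]
    exact NDon_perp_inS (PB Q') hsym ⊤ P hndV hPnd le_top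
  have hUdim : finrank F U = 2 * (d - 1) := by
    have := finrank_perp_inS (PB Q') hsym ⊤ P hPnd le_top
    rw [hPdim, htop, ← hU] at this
    omega
  have hUorth : ∀ u ∈ P, ∀ w ∈ U, PB Q' u w = 0 := by
    intro u hu w hw
    rw [hU] at hw
    exact (Submodule.mem_inf.mp hw).2 u hu
  have hv₁P : v₁ ∈ P := by
    rw [hP]
    exact Submodule.mem_sup_left (Submodule.mem_span_singleton_self v₁)
  have hv₂P : v₂ ∈ P := by
    rw [hP]
    exact Submodule.mem_sup_right (Submodule.mem_span_singleton_self v₂)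
  -- `x` is not scalar
  have hxns : ∀ z : F, (x : Matrix ι ι F) ≠ z • (1 : Matrix ι ι F) := by
    intro z hz
    have hv₁0 : v₁ ≠ 0 := by
      rintro rfl
      exact hQ1' (map_zero Q')
    have h3 := hact v₁
    rw [hz, Matrix.smul_mulVec, Matrix.one_mulVec, QuadraticMap.polar_self, hQ1, horth',
      zero_smul, sub_zero] at h3
    have hz1 : z = -1 := by
      have h4 : (z + 1) • v₁ = 0 := by
        rw [add_smul, h3, one_smul]
        have e : ((2 : ℕ) • (1 : F)) • v₁ = v₁ + v₁ := by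
          rw [two_smul, add_smul, one_smul]
        rw [e]
        abel
      rcases smul_eq_zero.mp h4 with h | h
      · linear_combination h
      · exact absurd h hv₁0
    have hUne : U ≠ ⊥ := by
      intro h
      rw [h, finrank_bot] at hUdim
      omega
    obtain ⟨u, hu, hu0⟩ := Submodule.exists_mem_ne_zero_of_ne_bot hUne
    have h5 := hact u
    rw [hz, Matrix.smul_mulVec, Matrix.one_mulVec, ← PB_apply, ← PB_apply, hUorth v₁ hv₁P u hu,
      hUorth v₂ hv₂P u hu, zero_smul, zero_smul, sub_zero, sub_zero, hz1] at h5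
    have h6 : (2 : F) • u = 0 := by
      rw [two_smul]
      nth_rewrite 1 [← h5]
      rw [neg_smul, one_smul, neg_add_cancel]
    rcases smul_eq_zero.mp h6 with h | h
    · exact h2 h
    · exact hu0 h
  obtain ⟨W, hWm, hWts, hWinv⟩ := hall x hxΩ ⟨1, by
    rw [Units.val_pow_eq_pow_val, pow_two, hxx, one_smul]⟩ hxns
  -- vectors of `W` are orthogonal to `v₁`, `v₂`
  have hperp : ∀ w ∈ W, polar (⇑Q') v₁ w = 0 ∧ polar (⇑Q') v₂ w = 0 := by
    intro w hw
    obtain ⟨c₁, hc₁⟩ : ∃ c₁, c₁ = polar (⇑Q') v₁ w := ⟨_, rfl⟩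
    obtain ⟨c₂, hc₂⟩ : ∃ c₂, c₂ = polar (⇑Q') v₂ w := ⟨_, rfl⟩
    rw [← hc₁, ← hc₂]
    have h3 := hWinv w hw
    rw [Matrix.toLin'_apply, hact, ← hc₁, ← hc₂] at h3
    have h4 : c₁ • v₁ + c₂ • v₂ ∈ W := by
      have := W.sub_mem hw h3
      have e : w - (w - c₁ • v₁ - c₂ • v₂) = c₁ • v₁ + c₂ • v₂ := by abel
      rwa [e] at this
    have h5 := hWts _ h4
    rw [hQP] at h5
    exact sq_add_sq_eq_zero hns h5
  have hWU : W ≤ U := by
    intro w hw
    rw [hU]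
    refine Submodule.mem_inf.mpr ⟨Submodule.mem_top, ?_⟩
    intro p hp
    obtain ⟨a, b, rfl⟩ := hPmem p hp
    show PB Q' (a • v₁ + b • v₂) w = 0
    rw [map_add, map_smul, map_smul, LinearMap.add_apply, LinearMap.smul_apply,
      LinearMap.smul_apply, PB_apply, PB_apply, (hperp w hw).1, (hperp w hw).2, smul_zero,
      smul_zero, add_zero]
  -- types
  have hPU : P ⊔ U = ⊤ := by
    rw [hU]
    exact sup_perp_inS (PB Q') hsym ⊤ P hPnd le_top
  have hps := plus_sup_iff Q' h2 hPnd hUnd hUorth (N₁ := 1) (N₂ := d - 1) (by rw [hPdim])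
    hUdim
  rw [hPU, plusOn_top_iff Q' hQ' hsg'] at hps
  have hplusU : PlusOn Q' U := ⟨W, hWU, hWts, by rw [hWm, hUdim]; omega⟩
  obtain ⟨T, hTP, hTts, hTd⟩ := (hps.mp rfl).mpr hplusU
  rw [hPdim] at hTd
  have hTne : T ≠ ⊥ := by
    intro h
    rw [h, finrank_bot] at hTd
    omega
  obtain ⟨t, ht, ht0⟩ := Submodule.exists_mem_ne_zero_of_ne_bot hTne
  obtain ⟨a, b, rfl⟩ := hPmem t (hTP ht)
  have h7 := hTts _ ht
  rw [hQP] at h7
  obtain ⟨ha, hb⟩ := sq_add_sq_eq_zero hns h7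
  apply ht0
  rw [ha, hb, zero_smul, zero_smul, add_zero]

end invol

end Cfsg.Agent.Lib.H24.Oq
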