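import Mathlib
import Cfsg.Agent.Lib.H24.OqTwoD

set_option autoImplicit false

/-!
# `Ω^±_{2d}(q)` on totally singular `m`-spaces: the main theorem in abstract form (helper24)
-/

namespace Cfsg.Agent.Lib.H24.Oq

open Module QuadraticMap Polynomial Matrix
open Cfsg.Agent.Lib.H24.Elus Cfsg.Agent.Lib.H10.OrtNd Cfsg.Agent.Lib.H13.OSS Cfsg.Agent.Lib.H13

section two

variable {F : Type*} [Field F] [Fintype F] {p q : ℕ} [Fact p.Prime] [CharP F p]
  {ι : Type} [Fintype ι] [DecidableEq ι] (Q' : QuadraticForm F (ι → F))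

theorem two_ne_zero_of_char (hp2 : p ≠ 2) : (2 : F) ≠ 0 := by
  have hp : p.Prime := Fact.out
  intro h
  have h1 : ((2 : ℕ) : F) = 0 := by exact_mod_cast h
  have h2 := (CharP.cast_eq_zero_iff F p 2).mp h1
  exact hp2 ((Nat.prime_dvd_prime_iff_eq hp Nat.prime_two).mp h2)

theorem card_odd_of_char (hp2 : p ≠ 2) : Fintype.card F % 2 = 1 := by
  apply FiniteField.odd_card_of_char_ne_two
  rw [ringChar.eq F p]
  exact hp2

/-- the case `r = 2` -/
theorem ts_two_main (hF : Fintype.card F = q) (hp2 : p ≠ 2)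
    (hQ' : (polarBilin Q').Nondegenerate) {d e : ℕ}
    (hsg' : IsSg Q' d e) (hd : 2 ≤ d) (m : ℕ) (hmd : m + 1 ≤ d) :
    AllFixTS2 Q' m ↔
      ((e = 0 ∧ (q % 4 = 1 ∨ (q % 4 = 3 ∧ m + 2 ≤ d ∧ (Even m ∨ Odd d)))) ∨
        (e = 1 ∧ (Even d ∨ Even m ∨ q % 8 ≠ 7))) := by
  have h2 : (2 : F) ≠ 0 := two_ne_zero_of_char (p := p) hp2
  have hodd : q % 2 = 1 := by
    rw [← hF]
    exact card_odd_of_char (p := p) hp2
  have hm1 : IsSquare (-1 : F) ↔ q % 4 ≠ 3 := by
    rw [FiniteField.isSquare_neg_one_iff, hF]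
  have hs2 : IsSquare (2 : F) ↔ q % 8 ≠ 3 ∧ q % 8 ≠ 5 := by
    rw [FiniteField.isSquare_two_iff, hF]
  have he1 := hsg'.le_one
  constructor
  · intro hall
    rcases Nat.eq_zero_or_pos e with he | he
    · left
      refine ⟨he, ?_⟩
      by_cases h4 : q % 4 = 1
      · left; exact h4
      · right
        have h43 : q % 4 = 3 := by omega
        have hns : ¬ IsSquare (-1 : F) := by
          rw [hm1]; omega
        subst he
        refine ⟨h43, two_nec_invol Q' h2 hns hQ' hsg' hd m hmd hall, ?_⟩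
        rcases Nat.even_or_odd d with hde | hdo
        · left
          exact two_nec_negone Q' h2 hns hQ' hsg' (by omega) (by simpa using hde) (Or.inl hde) m
            hall
        · right; exact hdo
    · right
      have he' : e = 1 := by omega
      refine ⟨he', ?_⟩
      by_contra hcon
      push Not at hcon
      obtain ⟨hdn, hmn, hq7⟩ := hcon
      apply hmn
      have hns : ¬ IsSquare (-1 : F) := by
        rw [hm1]; omega
      have hsq2 : IsSquare (2 : F) := by
        rw [hs2]; omega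
      subst he'
      have hdo : Odd d := Nat.not_even_iff_odd.mp hdn
      have hpar : Even (d - 1) := by
        obtain ⟨k, hk⟩ := hdo
        exact ⟨k, by omega⟩
      exact two_nec_negone Q' h2 hns hQ' hsg' (by omega) hpar (Or.inr hsq2) m hall
  · intro hc x hxΩ hz _
    obtain ⟨z, hz⟩ := hz
    apply two_suff_quad Q' h2 hQ' hsg' (by omega) m hmd ?_ ?_ x hxΩ z hz
    · intro he hns
      rw [hm1] at hns
      rcases hc with ⟨-, h | h⟩ | ⟨h, -⟩
      · omega
      · exact h.2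
      · omega
    · intro he hns
      rw [hm1] at hns
      rcases hc with ⟨h, -⟩ | ⟨-, h⟩
      · omega
      · rcases h with h | h | h
        · left; exact h
        · right; left; exact h
        · right; right
          rw [hs2]
          omega

end two

section main

variable {F : Type*} [Field F] [Fintype F] {p q : ℕ} [Fact p.Prime] [CharP F p]
  {ι : Type} [Fintype ι] [DecidableEq ι] (Q' : QuadraticForm F (ι → F))

/-- the main theorem, in abstract form: `Q'` nondegenerate of dimension `2d` and Witt defect `e` -/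
theorem ts_main (hF : Fintype.card F = q) (hQ' : (polarBilin Q').Nondegenerate) {d e : ℕ}
    (hsg' : IsSg Q' d e) (hd : 3 ≤ d) (m : ℕ) (hm : 1 ≤ m) (hmd : m + 1 ≤ d) (r : ℕ)
    [Fact r.Prime] (hr : r ∣ Nat.card (TsSub Q' m)) (i : ℕ) (hi : i = orderOf (q : ZMod r)) :
    (∀ x : GL ι F, x ∈ Cfsg.Geo.omegaGL ⇑Q' →
      (∃ z : F, ((x ^ r : GL ι F) : Matrix ι ι F) = z • (1 : Matrix ι ι F)) →
      (∀ z : F, (x : Matrix ι ι F) ≠ z • (1 : Matrix ι ι F)) →
      ∃ W : Submodule F (ι → F), finrank F W = m ∧ TS Q' W ∧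
        ∀ v ∈ W, Matrix.toLin' (x : Matrix ι ι F) v ∈ W) ↔
    ((r = 2 ∧ p ≠ 2 ∧
        ((e = 0 ∧ (q % 4 = 1 ∨ (q % 4 = 3 ∧ m + 2 ≤ d ∧ (Even m ∨ Odd d)))) ∨
          (e = 1 ∧ (Even d ∨ Even m ∨ q % 8 ≠ 7)))) ∨
     (r ≠ p ∧ 2 < r ∧ Odd i ∧ i ≤ m ∧
        ((e = 0 ∧ m % i ≤ d % i) ∨ (e = 1 ∧ (d % i = 0 ∨ m % i < d % i)))) ∨
     (r ≠ p ∧ 2 < r ∧ Even i ∧ i ≤ m ∧ (r - 1) / i + 2 * (m / i) ≤ 2 * d / i ∧
       ((2 * (m % i) ≤ i ∧ 2 * d % i = 0 ∧ (e + 2 * d / i) % 2 = 1 ∧
          (r - 1) / i + 2 * (m / i) < 2 * d / i) ∨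
        (2 * (m % i) ≤ 2 * d % i ∧ (e + 2 * d / i) % 2 = 0) ∨
        (2 * (m % i) < 2 * d % i ∧ (e + 2 * d / i) % 2 = 1)))) := by
  classical
  have hrP : r.Prime := Fact.out
  obtain ⟨hrp, j, hjm, hj⟩ := count_consequence (p := p) Q' hQ' hsg' m hmd r hr
  have he1 := hsg'.le_one
  by_cases hr2 : r = 2
  · subst hr2
    have hp2 : p ≠ 2 := fun h => hrp h.symm
    have key := ts_two_main (p := p) Q' hF hp2 hQ' hsg' (by omega) m hmd
    unfold AllFixTS2 at key
    rw [key]
    constructor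
    · intro h
      left
      exact ⟨rfl, hp2, h⟩
    · rintro (⟨-, -, h⟩ | ⟨-, h, -⟩ | ⟨-, h, -⟩)
      · exact h
      · omega
      · omega
  · have hr2' : 2 < r := by
      have := hrP.two_le
      omega
    have hi0 : 0 < i := by
      rw [hi]
      exact CycFactor.orderOf_pos hF hrP hrp
    have hch : CHyp i d e m := by
      rw [hi]
      have hq0 : 0 < q := by
        rw [← hF]; exact Fintype.card_pos
      rw [hF] at hj
      exact chyp_of_dvd_gFac hq0 hr2 d e m j he1 hjm hj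
    have ht0 : 0 < (r - 1) / i := by
      have hcard := CycFactor.card_S (F := F) hF hrP hrp
      rw [← hi] at hcard
      rw [← hcard, Nat.mul_div_cancel _ hi0]
      rcases Nat.eq_zero_or_pos (Fintype.card (CycFactor.S r F)) with h | h
      · rw [h, zero_mul] at hcard
        omega
      · exact h
    rw [ts_odd_main (p := p) Q' hF hQ' hsg' hd m hmd r hr2 hrp, ← hi]
    constructor
    · rintro ⟨ho, he⟩
      right
      rcases Nat.even_or_odd i with hie | hio
      · right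
        obtain ⟨h1, h2, h3⟩ := cond_of_goodEven i ((r - 1) / i) d m e hi0 hie ht0 he1 hm hmd
          (he hie) hch
        exact ⟨hrp, hr2', hie, h1, h2, h3⟩
      · left
        obtain ⟨h1, h2⟩ := cond_of_goodOdd i d m e hi0 hio he1 hm hmd
          (ho (Nat.not_even_iff_odd.mpr hio)) hch
        exact ⟨hrp, hr2', hio, h1, h2⟩
    · rintro (⟨h, -, -⟩ | ⟨-, -, hio, him, hc⟩ | ⟨-, -, hie, him, hN, hc⟩)
      · exact absurd h hr2
      · refine ⟨fun _ => goodOdd_of_cond i d m e hi0 hmd hc, fun h => ?_⟩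
        exact absurd h (Nat.not_even_iff_odd.mpr hio)
      · refine ⟨fun h => absurd hie h, fun _ => ?_⟩
        exact goodEven_of_cond i ((r - 1) / i) d m e hi0 hie him hN hc

end main

end Cfsg.Agent.Lib.H24.Oq
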