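import Mathlib
import Cfsg.Agent.Lib.H24.OnTemplates
import Cfsg.Agent.Lib.H24.OqMain
import Cfsg.Agent.Lib.H13.OTwo1
import Cfsg.Agent.Lib.H13.OUni1

set_option autoImplicit false

/-!
# Nondegenerate subspaces of given type of orthogonal groups of even dimension: the statements
(helper24)
-/

namespace Cfsg.Agent.Lib.H24.On

open Module Matrix
open Cfsg.Agent.Lib.H24.Elus
open Cfsg.Agent.Lib.H13
open Cfsg.Agent.Lib.H13.OSS
open Cfsg.Agent.Lib.H13.OES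
open Cfsg.Agent.Lib.H10.OrtNd (PB TS PlusOn PB_apply PB_symm PB_self TS_mono)

section squares

variable {F : Type*} [Field F] [Fintype F] {p q : ℕ} [Fact p.Prime] [CharP F p]

theorem isSquare_neg_one_iff_mod (hq : Fintype.card F = q) (hp2 : p ≠ 2) :
    IsSquare (-1 : F) ↔ q % 4 = 1 := by
  have h1 := Cfsg.Agent.Lib.H24.Oq.card_odd_of_char (F := F) (p := p) hp2
  rw [FiniteField.isSquare_neg_one_iff, hq]
  rw [hq] at h1
  omega

theorem isSquare_two_iff_mod (hq : Fintype.card F = q) (hp2 : p ≠ 2) :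
    IsSquare (2 : F) ↔ (q % 8 = 1 ∨ q % 8 = 7) := by
  have h1 := Cfsg.Agent.Lib.H24.Oq.card_odd_of_char (F := F) (p := p) hp2
  rw [FiniteField.isSquare_two_iff, hq]
  rw [hq] at h1
  omega

theorem card_even_of_char_two (hq : Fintype.card F = q) (hp2 : p = 2) : q % 2 = 0 := by
  subst hp2
  have h1 : ((Fintype.card F : ℕ) : F) = 0 := FiniteField.cast_card_eq_zero F
  rw [hq] at h1
  have h2 := (CharP.cast_eq_zero_iff F 2 q).mp h1
  omega

end squares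


section final

variable {F : Type*} [Field F] [Fintype F] {p : ℕ} [Fact p.Prime] [CharP F p] {q : ℕ}

/-- `PΩ⁺_{2d}(q)` on elliptic `m`-spaces -/
theorem ell_plus_final (hq : Fintype.card F = q)
    (d m : ℕ) (hd : 4 ≤ d) (hm : 2 ≤ m) (hme : Even m) (hmd : m < d)
    (r : ℕ) [Fact r.Prime]
    (hrΩ : r ∣ Nat.card {W : Submodule F (Fin d ⊕ Fin d → F) // Module.finrank F ↥W = m ∧ Cfsg.Geo.IsNondegenerateOn (QuadraticMap.polar (Cfsg.quadFormPlus d F)) W ∧ ¬ Cfsg.Geo.IsPlusTypeOn (Cfsg.quadFormPlus d F) W})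
    (i c : ℕ) (hi : i = orderOf (q : ZMod r)) (hc : c = if Even i then i else 2 * i) :
    (∀ x : GL (Fin d ⊕ Fin d) F, x ∈ Cfsg.Geo.omegaGL (Cfsg.quadFormPlus d F) →
      (∃ z : F, ((x ^ r : GL (Fin d ⊕ Fin d) F) : Matrix (Fin d ⊕ Fin d) (Fin d ⊕ Fin d) F) = z • (1 : Matrix (Fin d ⊕ Fin d) (Fin d ⊕ Fin d) F)) →
      (∀ z : F, (x : Matrix (Fin d ⊕ Fin d) (Fin d ⊕ Fin d) F) ≠ z • (1 : Matrix (Fin d ⊕ Fin d) (Fin d ⊕ Fin d) F)) →
      ∃ W : Submodule F (Fin d ⊕ Fin d → F), (Module.finrank F ↥W = m ∧ Cfsg.Geo.IsNondegenerateOn (QuadraticMap.polar (Cfsg.quadFormPlus d F)) W ∧ ¬ Cfsg.Geo.IsPlusTypeOn (Cfsg.quadFormPlus d F) W) ∧ W.map (Matrix.toLin' (x : Matrix (Fin d ⊕ Fin d) (Fin d ⊕ Fin d) F)) ≤ W) ↔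
    ((r = 2 ∧ p ≠ 2 ∧ ((Even d ∧ q % 4 = 3 ∧ m % 4 = 2) ∨ (Odd d ∧ q % 8 ≠ 1))) ∨
     (r ≠ p ∧ 2 < r ∧ Odd i ∧ c ≤ m ∧ 0 < m % c ∧ m % c < (2 * d) % c) ∨
     (r ≠ p ∧ 2 < r ∧ Even i ∧
       (((2 * d) % c = 0 ∧ (Odd ((2 * d) / i) ∨ (m % c = 0 ∧ Odd (m / i)))) ∨
        (i ≤ m ∧ ((0 < m % c ∧ m % c < (2 * d) % c) ∨
                  (0 < m % c ∧ m % c = (2 * d) % c ∧ Odd ((2 * d + m - 2 * ((2 * d) % c)) / i)) ∨
                  (m % c = 0 ∧ 0 < (2 * d) % c ∧ Odd (m / i))))))) := by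
  classical
  have hr' : r.Prime := Fact.out
  have hp' : p.Prime := Fact.out
  have hcoe : ⇑(plusQF F d) = Cfsg.quadFormPlus d F := Cfsg.Agent.S0287.coe_plusQF d
  have hQ : (QuadraticMap.polarBilin (plusQF F d)).Nondegenerate := Cfsg.Agent.S0287.nondeg d
  have hcard : Fintype.card (Fin d ⊕ Fin d) = 2 * d := by
    rw [Fintype.card_sum, Fintype.card_fin]; ring
  have hplus : PlusOn (plusQF F d) ⊤ := PlusOn_plusQF d
  rw [← hcoe] at hrΩ ⊢
  simp only [ndT_false_iff] at hrΩ ⊢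
  have hrΩ' : r ∣ Nat.card ↥(NdSet (plusQF F d) m False) := hrΩ
  by_cases hrp : r = p
  · -- `r = p`: a derangement
    subst hrp
    obtain ⟨x, hxΩ, hxp, hns, hall⟩ := OUni.exists_unip_plus (plusQF F d) hQ d (by omega) hcard
      hplus r
    constructor
    · intro h
      obtain ⟨W, ⟨hWm, hWnd, hWt⟩, hWinv⟩ := h x hxΩ
        ⟨1, by rw [hxp, Units.val_one, one_smul]⟩ hns
      exact absurd (hWt.mp (hall W hWnd (by rw [hWm]; exact hme) hWinv)) id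
    · rintro (⟨h1, h2, -⟩ | ⟨h1, -⟩ | ⟨h1, -⟩)
      · exact absurd h1 h2
      · exact absurd rfl h1
      · exact absurd rfl h1
  by_cases hr2 : r = 2
  · subst hr2
    have hp2 : p ≠ 2 := fun h => hrp h.symm
    have hRHS : ((2 = 2 ∧ p ≠ 2 ∧ ((Even d ∧ q % 4 = 3 ∧ m % 4 = 2) ∨ (Odd d ∧ q % 8 ≠ 1))) ∨
        (2 ≠ p ∧ 2 < 2 ∧ Odd i ∧ c ≤ m ∧ 0 < m % c ∧ m % c < (2 * d) % c) ∨
        (2 ≠ p ∧ 2 < 2 ∧ Even i ∧
          (((2 * d) % c = 0 ∧ (Odd ((2 * d) / i) ∨ (m % c = 0 ∧ Odd (m / i)))) ∨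
          (i ≤ m ∧ ((0 < m % c ∧ m % c < (2 * d) % c) ∨
                  (0 < m % c ∧ m % c = (2 * d) % c ∧
                    Odd ((2 * d + m - 2 * ((2 * d) % c)) / i)) ∨
                  (m % c = 0 ∧ 0 < (2 * d) % c ∧ Odd (m / i))))))) ↔
        ((Even d ∧ q % 4 = 3 ∧ m % 4 = 2) ∨ (Odd d ∧ q % 8 ≠ 1)) := by
      constructor
      · rintro (⟨-, -, h⟩ | ⟨-, h, -⟩ | ⟨-, h, -⟩)
        · exact h
        · omega
        · omega
      · intro h
        exact Or.inl ⟨rfl, hp2, h⟩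
    rw [hRHS]
    have h2 : (2 : F) ≠ 0 := Cfsg.Agent.Lib.H24.Oq.two_ne_zero_of_char (p := p) hp2
    have hmain := OTwo.two_main (plusQF F d) hQ h2 d hcard m hme hm (by omega) False
    unfold NdT
    rw [hmain, isSquare_neg_one_iff_mod (p := p) hq hp2, isSquare_two_iff_mod (p := p) hq hp2]
    have h1 := Cfsg.Agent.Lib.H24.Oq.card_odd_of_char (F := F) (p := p) hp2
    rw [hq] at h1
    obtain ⟨m', hm'⟩ := hme
    simp only [Nat.even_iff, Nat.odd_iff]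
    constructor
    · rintro ⟨h3, h4⟩
      by_cases h5 : q % 4 = 1
      · right
        have h6 : ¬ (d % 2 = 0 ∨ (q % 8 = 1 ∨ q % 8 = 7)) := fun h => h3 h5 hplus h
        omega
      · by_cases h6 : d % 2 = 0
        · left
          have h7 := h4 h5 ⟨fun _ => h6, fun _ => hplus⟩ (Or.inl h6)
          have h8 : ¬ (m / 2) % 2 = 0 := fun h => h7.mpr h
          omega
        · right
          omega
    · intro h3
      refine ⟨fun h4 _ h5 => ?_, fun h4 h5 _ => ⟨fun h => h.elim, fun h6 => ?_⟩⟩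
      · omega
      · have := h5.mp hplus
        omega
  · have h2r : 2 < r := by
      have := hr'.two_le
      omega
    subst hi
    have hi0 : 0 < orderOf (q : ZMod r) := CycFactor.orderOf_pos hq hr' hrp
    have hcc : cOf (orderOf (q : ZMod r)) = c := by
      unfold cOf
      exact hc.symm
    have hiff := nd_odd_GL_iff (p := p) (plusQF F d) hq hQ d (by omega) hcard m hme (by omega)
      (by omega) r hr2 hrp False 0 1 (by omega) (by omega) ⟨fun _ => rfl, fun _ => hplus⟩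
      ⟨fun h => h.elim, fun h => absurd h one_ne_zero⟩
    have hle := nd_odd_GL_le (p := p) (plusQF F d) hq hQ d hcard m hme (by omega)
      (by omega) r hr2 hrp False 0 1 (by omega) (by omega) ⟨fun _ => rfl, fun _ => hplus⟩
      ⟨fun h => h.elim, fun h => absurd h one_ne_zero⟩ hrΩ'
    obtain ⟨ht1, ht2⟩ := tmpl88 (orderOf (q : ZMod r)) c (2 * d) m 0 1 rfl rfl hi0 hc
    rw [hiff]
    constructor
    · intro h
      have h3 := ht2 (by rw [← hcc]; exact hle h) h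
      rcases h3 with h3 | h3
      · exact Or.inr (Or.inl ⟨hrp, h2r, h3⟩)
      · exact Or.inr (Or.inr ⟨hrp, h2r, h3⟩)
    · rintro (⟨h3, -⟩ | ⟨-, -, h3⟩ | ⟨-, -, h3⟩)
      · exact absurd h3 hr2
      · exact ht1 (Or.inl h3)
      · exact ht1 (Or.inr h3)

end final

end Cfsg.Agent.Lib.H24.On
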