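import Mathlib
import Cfsg.Agent.Lib.H24.OnFinalA
import Cfsg.Agent.Lib.H13.OUni3

set_option autoImplicit false

/-!
# Nondegenerate subspaces of given type of orthogonal groups of even dimension: the statements,
second part (helper24)
-/

namespace Cfsg.Agent.Lib.H24.On

open Module Matrix
open Cfsg.Agent.Lib.H24.Elus
open Cfsg.Agent.Lib.H13
open Cfsg.Agent.Lib.H13.OSS
open Cfsg.Agent.Lib.H13.OES
open Cfsg.Agent.Lib.H10.OrtNd (PB TS PlusOn PB_apply PB_symm PB_self TS_mono)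

section final

variable {F : Type*} [Field F] [Fintype F] {p : ℕ} [Fact p.Prime] [CharP F p] {q : ℕ}

/-- `PΩ⁺_{2d}(q)` on hyperbolic `m`-spaces -/
theorem hyp_plus_final (hq : Fintype.card F = q)
    (d m : ℕ) (hd : 4 ≤ d) (hm : 2 ≤ m) (hme : Even m) (hmd : m < d)
    (r : ℕ) [Fact r.Prime] (hr : r = 2 ∨ r ≠ p)
    (hrΩ : r ∣ Nat.card {W : Submodule F (Fin d ⊕ Fin d → F) // (Module.finrank F ↥W = m ∧ (∀ u ∈ W, u ≠ 0 → ∃ v ∈ W, QuadraticMap.polar (Cfsg.quadFormPlus d F) u v ≠ 0) ∧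
          ∃ U : Submodule F (Fin d ⊕ Fin d → F), U ≤ W ∧ 2 * Module.finrank F ↥U = m ∧ ∀ u ∈ U, Cfsg.quadFormPlus d F u = 0)})
    (i c : ℕ) (hi : i = orderOf (q : ZMod r)) (hc : c = if Even i then i else 2 * i) :
    (∀ x : GL (Fin d ⊕ Fin d) F, x ∈ Cfsg.Geo.omegaGL (Cfsg.quadFormPlus d F) →
      (∃ z : F, ((x ^ r : GL (Fin d ⊕ Fin d) F) : Matrix (Fin d ⊕ Fin d) (Fin d ⊕ Fin d) F) = z • (1 : Matrix (Fin d ⊕ Fin d) (Fin d ⊕ Fin d) F)) →
      (∀ z : F, (x : Matrix (Fin d ⊕ Fin d) (Fin d ⊕ Fin d) F) ≠ z • (1 : Matrix (Fin d ⊕ Fin d) (Fin d ⊕ Fin d) F)) →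
      ∃ W : Submodule F (Fin d ⊕ Fin d → F), (Module.finrank F ↥W = m ∧ (∀ u ∈ W, u ≠ 0 → ∃ v ∈ W, QuadraticMap.polar (Cfsg.quadFormPlus d F) u v ≠ 0) ∧
          ∃ U : Submodule F (Fin d ⊕ Fin d → F), U ≤ W ∧ 2 * Module.finrank F ↥U = m ∧ ∀ u ∈ U, Cfsg.quadFormPlus d F u = 0) ∧
        W.map (Matrix.toLin' (x : Matrix (Fin d ⊕ Fin d) (Fin d ⊕ Fin d) F)) ≤ W) ↔
    ((r = 2 ∧ ((2 * d) % 4 = 2 ∨ m % 4 = 0 ∨ q % 4 = 1)) ∨
     (r ≠ p ∧ 2 < r ∧ Odd i ∧ c ≤ m ∧ m % c ≤ (2 * d) % c) ∨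
     (r ≠ p ∧ 2 < r ∧ Even i ∧
       (((2 * d) % c = 0 ∧ (Odd ((2 * d) / i) ∨ (m % c = 0 ∧ Even (m / i)))) ∨
        (i ≤ m ∧ ((m % c < (2 * d) % c ∧ 0 < m % c) ∨
                  ((2 * d) % c = m % c ∧ 0 < m % c ∧ Even ((2 * d + m - 2 * ((2 * d) % c)) / i)) ∨
                  (0 < (2 * d) % c ∧ m % c = 0 ∧ Even (m / i))))))) := by
  classical
  have hr' : r.Prime := Fact.out
  have hp' : p.Prime := Fact.out
  have hcoe : ⇑(plusQF F d) = Cfsg.quadFormPlus d F := Cfsg.Agent.S0287.coe_plusQF d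
  have hQ : (QuadraticMap.polarBilin (plusQF F d)).Nondegenerate := Cfsg.Agent.S0287.nondeg d
  have hcard : Fintype.card (Fin d ⊕ Fin d) = 2 * d := by
    rw [Fintype.card_sum, Fintype.card_fin]; ring
  have hplus : PlusOn (plusQF F d) ⊤ := PlusOn_plusQF d
  rw [← hcoe] at hrΩ ⊢
  simp only [ndT_true_iff] at hrΩ ⊢
  have hrΩ' : r ∣ Nat.card ↥(NdSet (plusQF F d) m True) := hrΩ
  by_cases hr2 : r = 2
  · subst hr2
    have hRHS : ((2 = 2 ∧ ((2 * d) % 4 = 2 ∨ m % 4 = 0 ∨ q % 4 = 1)) ∨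
        (2 ≠ p ∧ 2 < 2 ∧ Odd i ∧ c ≤ m ∧ m % c ≤ (2 * d) % c) ∨
        (2 ≠ p ∧ 2 < 2 ∧ Even i ∧
          (((2 * d) % c = 0 ∧ (Odd ((2 * d) / i) ∨ (m % c = 0 ∧ Even (m / i)))) ∨
          (i ≤ m ∧ ((m % c < (2 * d) % c ∧ 0 < m % c) ∨
                  ((2 * d) % c = m % c ∧ 0 < m % c ∧
                    Even ((2 * d + m - 2 * ((2 * d) % c)) / i)) ∨
                  (0 < (2 * d) % c ∧ m % c = 0 ∧ Even (m / i))))))) ↔
        ((2 * d) % 4 = 2 ∨ m % 4 = 0 ∨ q % 4 = 1) := by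
      constructor
      · rintro (⟨-, h⟩ | ⟨-, h, -⟩ | ⟨-, h, -⟩)
        · exact h
        · omega
        · omega
      · intro h
        exact Or.inl ⟨rfl, h⟩
    rw [hRHS]
    by_cases hp2 : p = 2
    · -- characteristic two
      have hqe := card_even_of_char_two (F := F) hq hp2
      subst hp2
      have h2 : (2 : F) = 0 := by
        have := CharP.cast_eq_zero F 2
        exact_mod_cast this
      have hmain := OUni.two_char2_plus (plusQF F d) h2 hQ d (by omega) hcard hplus m hme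
        (by omega)
      simp only [NdT, iff_true]
      rw [hmain, Nat.odd_iff]
      omega
    · have h2 : (2 : F) ≠ 0 := Cfsg.Agent.Lib.H24.Oq.two_ne_zero_of_char (p := p) hp2
      have hmain := OTwo.two_main (plusQF F d) hQ h2 d hcard m hme hm (by omega) True
      unfold NdT
      rw [hmain, isSquare_neg_one_iff_mod (p := p) hq hp2, isSquare_two_iff_mod (p := p) hq hp2]
      have h1 := Cfsg.Agent.Lib.H24.Oq.card_odd_of_char (F := F) (p := p) hp2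
      rw [hq] at h1
      obtain ⟨m', hm'⟩ := hme
      simp only [Nat.even_iff]
      constructor
      · rintro ⟨-, h3⟩
        by_cases h4 : q % 4 = 1
        · exact Or.inr (Or.inr h4)
        · by_cases h5 : d % 2 = 0
          · have := (h3 h4 ⟨fun _ => h5, fun _ => hplus⟩ (Or.inl h5)).mp trivial
            omega
          · omega
      · intro h3
        refine ⟨fun _ _ _ => trivial, fun h4 h5 _ => ⟨fun _ => ?_, fun _ => trivial⟩⟩
        have := h5.mp hplus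
        omega
  · have hrp : r ≠ p := hr.resolve_left hr2
    have h2r : 2 < r := by
      have := hr'.two_le
      omega
    subst hi
    have hi0 : 0 < orderOf (q : ZMod r) := CycFactor.orderOf_pos hq hr' hrp
    have hcc : cOf (orderOf (q : ZMod r)) = c := by
      unfold cOf
      exact hc.symm
    have hiff := nd_odd_GL_iff (p := p) (plusQF F d) hq hQ d (by omega) hcard m hme (by omega)
      (by omega) r hr2 hrp True 0 0 (by omega) (by omega) ⟨fun _ => rfl, fun _ => hplus⟩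
      ⟨fun _ => rfl, fun _ => trivial⟩
    have hle := nd_odd_GL_le (p := p) (plusQF F d) hq hQ d hcard m hme (by omega)
      (by omega) r hr2 hrp True 0 0 (by omega) (by omega) ⟨fun _ => rfl, fun _ => hplus⟩
      ⟨fun _ => rfl, fun _ => trivial⟩ hrΩ'
    obtain ⟨ht1, ht2⟩ := tmpl74 (orderOf (q : ZMod r)) c (2 * d) m 0 0 rfl rfl hi0 hc
    rw [hiff]
    constructor
    · intro h
      have h3 := ht2 (by rw [← hcc]; exact hle h) h
      rcases h3 with h3 | h3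
      · exact Or.inr (Or.inl ⟨hrp, h2r, h3⟩)
      · exact Or.inr (Or.inr ⟨hrp, h2r, h3⟩)
    · rintro (⟨h3, -⟩ | ⟨-, -, h3⟩ | ⟨-, -, h3⟩)
      · exact absurd h3 hr2
      · exact ht1 (Or.inl h3)
      · exact ht1 (Or.inr h3)

/-- `PΩ⁻_{2d}(q)` on elliptic `m`-spaces -/
theorem ell_minus_final (hq : Fintype.card F = q)
    (d m : ℕ) (hd : 4 ≤ d) (hm : 2 ≤ m) (hme : Even m) (hmn : m + 2 ≤ 2 * d) (a b : F) (hab : ∀ x y : F, x ^ 2 + a * x * y + b * y ^ 2 = 0 → x = 0 ∧ y = 0)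
    (r : ℕ) [Fact r.Prime] (hr : r = 2 ∨ r ≠ p)
    (hrΩ : r ∣ Nat.card {W : Submodule F ((Fin (d - 1) ⊕ Fin (d - 1)) ⊕ Fin 2 → F) // Module.finrank F ↥W = m ∧ Cfsg.Geo.IsNondegenerateOn (QuadraticMap.polar (Cfsg.quadFormMinus (d - 1) F a b)) W ∧ ¬ Cfsg.Geo.IsPlusTypeOn (Cfsg.quadFormMinus (d - 1) F a b) W})
    (i c : ℕ) (hi : i = orderOf (q : ZMod r)) (hc : c = if Even i then i else 2 * i) :
    (∀ x : GL ((Fin (d - 1) ⊕ Fin (d - 1)) ⊕ Fin 2) F, x ∈ Cfsg.Geo.omegaGL (Cfsg.quadFormMinus (d - 1) F a b) →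
      (∃ z : F, ((x ^ r : GL ((Fin (d - 1) ⊕ Fin (d - 1)) ⊕ Fin 2) F) : Matrix ((Fin (d - 1) ⊕ Fin (d - 1)) ⊕ Fin 2) ((Fin (d - 1) ⊕ Fin (d - 1)) ⊕ Fin 2) F) = z • (1 : Matrix ((Fin (d - 1) ⊕ Fin (d - 1)) ⊕ Fin 2) ((Fin (d - 1) ⊕ Fin (d - 1)) ⊕ Fin 2) F)) →
      (∀ z : F, (x : Matrix ((Fin (d - 1) ⊕ Fin (d - 1)) ⊕ Fin 2) ((Fin (d - 1) ⊕ Fin (d - 1)) ⊕ Fin 2) F) ≠ z • (1 : Matrix ((Fin (d - 1) ⊕ Fin (d - 1)) ⊕ Fin 2) ((Fin (d - 1) ⊕ Fin (d - 1)) ⊕ Fin 2) F)) →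
      ∃ W : Submodule F ((Fin (d - 1) ⊕ Fin (d - 1)) ⊕ Fin 2 → F), (Module.finrank F ↥W = m ∧ Cfsg.Geo.IsNondegenerateOn (QuadraticMap.polar (Cfsg.quadFormMinus (d - 1) F a b)) W ∧ ¬ Cfsg.Geo.IsPlusTypeOn (Cfsg.quadFormMinus (d - 1) F a b) W) ∧ W.map (Matrix.toLin' (x : Matrix ((Fin (d - 1) ⊕ Fin (d - 1)) ⊕ Fin 2) ((Fin (d - 1) ⊕ Fin (d - 1)) ⊕ Fin 2) F)) ≤ W) ↔
    ((r = 2 ∧ p = 2 ∧ (Even d ∨ m % 4 = 2)) ∨
     (r = 2 ∧ p ≠ 2 ∧ (Even d ∨ q % 8 ≠ 7 ∨ m % 4 = 2)) ∨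
     (r ≠ p ∧ 2 < r ∧ Odd i ∧ ((2 * d) % c = 0 ∨ (c ≤ m ∧ 0 < m % c ∧ m % c ≤ (2 * d) % c))) ∨
     (r ≠ p ∧ 2 < r ∧ Even i ∧
       (((2 * d) % c = 0 ∧ (Even ((2 * d) / i) ∨ (m % c = 0 ∧ Odd (m / i)))) ∨
        (0 < (2 * d) % c ∧ i ≤ m ∧ ((0 < m % c ∧ m % c < (2 * d) % c) ∨ (m % c = 0 ∧ Odd (m / i)) ∨
                                    (m % c = (2 * d) % c ∧ Even ((2 * d + m - 2 * ((2 * d) % c)) / i))))))) := by
  classical
  have hr' : r.Prime := Fact.out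
  have hp' : p.Prime := Fact.out
  have hcoe : ⇑(minusQF F (d - 1) a b) = Cfsg.quadFormMinus (d - 1) F a b :=
    Cfsg.Agent.S0288.coe_minusQF (d - 1) a b
  have hQ : (QuadraticMap.polarBilin (minusQF F (d - 1) a b)).Nondegenerate :=
    Cfsg.Agent.S0288.nondeg a b hab (d - 1)
  have hcard : Fintype.card ((Fin (d - 1) ⊕ Fin (d - 1)) ⊕ Fin 2) = 2 * d := by
    rw [Fintype.card_sum, Fintype.card_sum, Fintype.card_fin, Fintype.card_fin]
    omega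
  have hminus : ¬ PlusOn (minusQF F (d - 1) a b) ⊤ := not_PlusOn_minusQF (d - 1) a b hab
  rw [← hcoe] at hrΩ ⊢
  simp only [ndT_false_iff] at hrΩ ⊢
  have hrΩ' : r ∣ Nat.card ↥(NdSet (minusQF F (d - 1) a b) m False) := hrΩ
  by_cases hr2 : r = 2
  · subst hr2
    have hRHS : ((2 = 2 ∧ p = 2 ∧ (Even d ∨ m % 4 = 2)) ∨
        (2 = 2 ∧ p ≠ 2 ∧ (Even d ∨ q % 8 ≠ 7 ∨ m % 4 = 2)) ∨
        (2 ≠ p ∧ 2 < 2 ∧ Odd i ∧
          ((2 * d) % c = 0 ∨ (c ≤ m ∧ 0 < m % c ∧ m % c ≤ (2 * d) % c))) ∨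
        (2 ≠ p ∧ 2 < 2 ∧ Even i ∧
          (((2 * d) % c = 0 ∧ (Even ((2 * d) / i) ∨ (m % c = 0 ∧ Odd (m / i)))) ∨
          (0 < (2 * d) % c ∧ i ≤ m ∧ ((0 < m % c ∧ m % c < (2 * d) % c) ∨
              (m % c = 0 ∧ Odd (m / i)) ∨
              (m % c = (2 * d) % c ∧ Even ((2 * d + m - 2 * ((2 * d) % c)) / i))))))) ↔
        ((p = 2 ∧ (Even d ∨ m % 4 = 2)) ∨ (p ≠ 2 ∧ (Even d ∨ q % 8 ≠ 7 ∨ m % 4 = 2))) := by
      constructor
      · rintro (⟨-, h⟩ | ⟨-, h⟩ | ⟨-, h, -⟩ | ⟨-, h, -⟩)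
        · exact Or.inl h
        · exact Or.inr h
        · omega
        · omega
      · rintro (h | h)
        · exact Or.inl ⟨rfl, h⟩
        · exact Or.inr (Or.inl ⟨rfl, h⟩)
    rw [hRHS]
    by_cases hp2 : p = 2
    · -- characteristic two
      have hRHS2 : ((p = 2 ∧ (Even d ∨ m % 4 = 2)) ∨
          (p ≠ 2 ∧ (Even d ∨ q % 8 ≠ 7 ∨ m % 4 = 2))) ↔ (Even d ∨ m % 4 = 2) := by
        constructor
        · rintro (⟨-, h⟩ | ⟨h, -⟩)
          · exact h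
          · exact absurd hp2 h
        · intro h
          exact Or.inl ⟨hp2, h⟩
      rw [hRHS2]
      subst hp2
      have h2 : (2 : F) = 0 := by
        have := CharP.cast_eq_zero F 2
        exact_mod_cast this
      have hmain := OUni.two_char2_minus (minusQF F (d - 1) a b) h2 hQ d (by omega) hcard hminus
        m hme hm hmn
      simp only [NdT, iff_false]
      rw [hmain]
    · have hRHS2 : ((p = 2 ∧ (Even d ∨ m % 4 = 2)) ∨
          (p ≠ 2 ∧ (Even d ∨ q % 8 ≠ 7 ∨ m % 4 = 2))) ↔ (Even d ∨ q % 8 ≠ 7 ∨ m % 4 = 2) := by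
        constructor
        · rintro (⟨h, -⟩ | ⟨-, h⟩)
          · exact absurd h hp2
          · exact h
        · intro h
          exact Or.inr ⟨hp2, h⟩
      rw [hRHS2]
      have h2 : (2 : F) ≠ 0 := Cfsg.Agent.Lib.H24.Oq.two_ne_zero_of_char (p := p) hp2
      have hmain := OTwo.two_main (minusQF F (d - 1) a b) hQ h2 d hcard m hme hm hmn False
      unfold NdT
      rw [hmain, isSquare_neg_one_iff_mod (p := p) hq hp2, isSquare_two_iff_mod (p := p) hq hp2]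
      have h1 := Cfsg.Agent.Lib.H24.Oq.card_odd_of_char (F := F) (p := p) hp2
      rw [hq] at h1
      obtain ⟨m', hm'⟩ := hme
      simp only [Nat.even_iff]
      constructor
      · rintro ⟨-, h4⟩
        by_contra hcon
        have h5 : ¬ q % 4 = 1 := by omega
        have h6 : ¬ d % 2 = 0 := by omega
        have h7 := h4 h5 ⟨fun h => absurd h hminus, fun h => absurd h h6⟩ (Or.inr (by omega))
        have h8 : ¬ (m / 2) % 2 = 0 := fun h => h7.mpr h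
        omega
      · intro h3
        refine ⟨fun _ h4 _ => absurd h4 hminus, fun h4 h5 h6 => ⟨fun h => h.elim, fun h7 => ?_⟩⟩
        have h8 : ¬ d % 2 = 0 := fun h => hminus (h5.mpr h)
        omega
  · have hrp : r ≠ p := hr.resolve_left hr2
    have h2r : 2 < r := by
      have := hr'.two_le
      omega
    subst hi
    have hi0 : 0 < orderOf (q : ZMod r) := CycFactor.orderOf_pos hq hr' hrp
    have hcc : cOf (orderOf (q : ZMod r)) = c := by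
      unfold cOf
      exact hc.symm
    have hiff := nd_odd_GL_iff (p := p) (minusQF F (d - 1) a b) hq hQ d (by omega) hcard m hme
      (by omega) (by omega) r hr2 hrp False 1 1 (by omega) (by omega)
      ⟨fun h => absurd h hminus, fun h => absurd h one_ne_zero⟩
      ⟨fun h => h.elim, fun h => absurd h one_ne_zero⟩
    have hle := nd_odd_GL_le (p := p) (minusQF F (d - 1) a b) hq hQ d hcard m hme (by omega)
      (by omega) r hr2 hrp False 1 1 (by omega) (by omega)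
      ⟨fun h => absurd h hminus, fun h => absurd h one_ne_zero⟩
      ⟨fun h => h.elim, fun h => absurd h one_ne_zero⟩ hrΩ'
    obtain ⟨ht1, ht2⟩ := tmpl90 (orderOf (q : ZMod r)) c (2 * d) m 1 1 rfl rfl hi0 hc
    rw [hiff]
    constructor
    · intro h
      have h3 := ht2 (by rw [← hcc]; exact hle h) h
      rcases h3 with h3 | h3
      · exact Or.inr (Or.inr (Or.inl ⟨hrp, h2r, h3⟩))
      · exact Or.inr (Or.inr (Or.inr ⟨hrp, h2r, h3⟩))
    · rintro (⟨h3, -⟩ | ⟨h3, -⟩ | ⟨-, -, h3⟩ | ⟨-, -, h3⟩)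
      · exact absurd h3 hr2
      · exact absurd h3 hr2
      · exact ht1 (Or.inl h3)
      · exact ht1 (Or.inr h3)

end final

end Cfsg.Agent.Lib.H24.On
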