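import Cfsg.Agent.Lib.H24.CoprimeCount2
import Cfsg.Agent.Lib.H24.PGalConj1
import Cfsg.Agent.Lib.H24.CentralMod

/-!
# Groups with a normal `p`-complement and one character of degree divisible by `p` (helper24)

`G = N ⋊ P`, `N ⊴ G` a `p'`-group, `P` a `p`-group.
* `comm_of_unique`: if `N ≠ 1` and at most one irreducible character has degree divisible by `p`,
  then `P` is abelian;
* `card_irr_not_dvd`: for `P` abelian, `#Irr_{p'}(G) = k(C_N(P)) · |P|`.
-/

set_option autoImplicit false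

universe u

namespace Cfsg.Agent.Lib.H24.OneCharP

open Cfsg Cfsg.Agent.Lib.L0 Cfsg.Agent.Lib.H23 Cfsg.Agent.Lib.H24
open scoped ComplexConjugate commutatorElement

variable {G : Type u} [Group G] [Fintype G] {p : ℕ} [hp : Fact p.Prime] (N P : Subgroup G)
  [hN : N.Normal]

theorem comm_of_unique (hprod : N ⊔ P = ⊤) (hcop : (Nat.card N).Coprime (Nat.card P))
    (hP : IsPGroup p P) (hNbot : N ≠ ⊥)
    (huniq : ∀ χ ψ : IrrCharacter G, p ∣ charDegree (χ : G → ℂ) → p ∣ charDegree (ψ : G → ℂ) →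
      χ = ψ) :
    ∀ a ∈ P, ∀ b ∈ P, a * b = b * a := by
  classical
  obtain ⟨hdisj, hidx⟩ := index_eq_card_of_coprime_sup N P hprod hcop
  by_contra hcon
  push Not at hcon
  obtain ⟨a, ha, b, hb, hab⟩ := hcon
  set c : G := ⁅a, b⁆ with hc
  have hc1 : c ≠ 1 := fun h => hab (commutatorElement_eq_one_iff_mul_comm.mp h)
  have hcP : c ∈ P := by
    rw [hc, commutatorElement_def]
    exact P.mul_mem (P.mul_mem (P.mul_mem ha hb) (P.inv_mem ha)) (P.inv_mem hb)
  have hcN : c ∉ N := by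
    intro h
    have h1 : c ∈ N ⊓ P := ⟨h, hcP⟩
    rw [hdisj, Subgroup.mem_bot] at h1
    exact hc1 h1
  have hcG : c ∈ commutator G :=
    Subgroup.commutator_mem_commutator (Subgroup.mem_top a) (Subgroup.mem_top b)
  obtain ⟨χ₀, hker, -, hdeg⟩ := PGalConj.exists_nonlinear N hcG hcN
  have hkerN : ∀ n ∈ N, (χ₀ : G → ℂ) n = (χ₀ : G → ℂ) 1 := fun n hn => hker hn
  have hdvd : charDegree (χ₀ : G → ℂ) ∣ N.index := charDegree_dvd_index χ₀ N hkerN
  obtain ⟨k, hk⟩ := IsPGroup.iff_card.mp hP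
  rw [hidx, hk] at hdvd
  obtain ⟨i, -, hi⟩ := (Nat.dvd_prime_pow hp.out).mp hdvd
  have hi0 : i ≠ 0 := by
    rintro rfl
    exact hdeg (by rw [hi, pow_zero])
  have hp0 : p ∣ charDegree (χ₀ : G → ℂ) := by
    rw [hi]
    exact dvd_pow_self p hi0
  obtain ⟨n, hnN, hn1⟩ : ∃ n ∈ N, n ≠ 1 := by
    by_contra h
    push Not at h
    exact hNbot ((Subgroup.eq_bot_iff_forall N).mpr h)
  obtain ⟨χ, hχn, -⟩ := exists_irr_two_not_ker hn1 hn1
  have hχne : χ ≠ χ₀ := by
    rintro rfl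
    exact hχn (hkerN n hnN)
  have hχp : ¬ p ∣ charDegree (χ : G → ℂ) := fun h => hχne (huniq χ χ₀ h hp0)
  letI : Fintype N := Fintype.ofFinite _
  have hcopχ : (charDegree (χ : G → ℂ)).Coprime N.index := by
    rw [hidx, hk]
    exact Nat.Coprime.pow_right k ((Nat.Prime.coprime_iff_not_dvd hp.out).mpr hχp).symm
  have hχN : IsIrrCharacter N (fun n : N => (χ : G → ℂ) n) :=
    isIrrCharacter_restrict_of_coprime N χ.1 χ.2 hcopχ
  -- Gallagher
  have hone : IsIrrCharacter N (1 : N → ℂ) := Cfsg.Agent.Lib.L0.isIrrCharacter_one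
  have hχcf := isClassFunction_of_isCharacter (isCharacter_of_irr χ.2)
  have hχ₀cf := isClassFunction_of_isCharacter (isCharacter_of_irr χ₀.2)
  set ϑ : N → ℂ := fun n : N => (χ : G → ℂ) n with hϑ
  have hϑinv : ∀ (g : G) (n : N), ϑ ⟨g * n * g⁻¹, hN.conj_mem (n : G) n.2 g⟩ = ϑ n :=
    fun g n => hχcf n g
  have honeinv : ∀ (g : G) (n : N),
      (1 : N → ℂ) ⟨g * n * g⁻¹, hN.conj_mem (n : G) n.2 g⟩ = (1 : N → ℂ) n := fun g n => rfl
  have hprod1 : IsIrrCharacter N ((1 : N → ℂ) * ϑ) := by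
    rw [one_mul]
    exact hχN
  have hd0 : (χ₀ : G → ℂ) 1 = (charDegree (χ₀ : G → ℂ) : ℂ) := apply_one_eq_charDegree _ χ₀.2
  have hd : (χ : G → ℂ) 1 = (charDegree (χ : G → ℂ) : ℂ) := apply_one_eq_charDegree _ χ.2
  have hd0ne : (χ₀ : G → ℂ) 1 ≠ 0 := irr_one_ne_zero χ₀
  have hcons : classInner (Cfsg.indFun N (1 : N → ℂ)) (χ₀ : G → ℂ) ≠ 0 := by
    rw [Cfsg.Agent.Lib.L0.frobenius_reciprocity N (1 : N → ℂ) (χ₀ : G → ℂ) hχ₀cf]
    have h2 : (fun h : N => (χ₀ : G → ℂ) h) = (charDegree (χ₀ : G → ℂ) : ℂ) • (1 : N → ℂ) := by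
      funext m
      rw [Pi.smul_apply, Pi.one_apply, smul_eq_mul, mul_one, ← hd0]
      exact hkerN m m.2
    rw [h2, classInner_smul_right, irr_classInner_self hone, Complex.conj_natCast, mul_one,
      ← hd0]
    exact hd0ne
  have hg := gallagher_orthonormal N (1 : N → ℂ) ϑ hone honeinv hϑinv hprod1 χ.1 χ.2
    (fun n => rfl) χ₀ χ₀ hcons hcons
  rw [if_pos rfl] at hg
  have hψirr : IsIrrCharacter G ((χ₀ : G → ℂ) * (χ : G → ℂ)) :=
    isIrrCharacter_of_classInner_self_eq_one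
      (isCharacter_mul (isCharacter_of_irr χ₀.2) (isCharacter_of_irr χ.2)) hg
  set ψ : IrrCharacter G := ⟨(χ₀ : G → ℂ) * (χ : G → ℂ), hψirr⟩ with hψ
  have hψdeg : charDegree (ψ : G → ℂ) = charDegree (χ₀ : G → ℂ) * charDegree (χ : G → ℂ) := by
    apply charDegree_eq_of_apply_one
    show (χ₀ : G → ℂ) 1 * (χ : G → ℂ) 1 = _
    rw [hd0, hd]
    push_cast
    rfl
  have hψp : p ∣ charDegree (ψ : G → ℂ) := by
    rw [hψdeg]
    exact Dvd.dvd.mul_right hp0 _
  have hψeq : ψ = χ₀ := huniq ψ χ₀ hψp hp0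
  have hfun : ∀ g : G, (χ₀ : G → ℂ) g * (χ : G → ℂ) g = (χ₀ : G → ℂ) g := by
    intro g
    exact congrFun (congrArg Subtype.val hψeq) g
  have h1 : (χ : G → ℂ) 1 = 1 := by
    have := hfun 1
    exact mul_left_cancel₀ hd0ne (by rw [this, mul_one])
  have h2 : (χ : G → ℂ) n = 1 := by
    have := hfun n
    rw [hkerN n hnN] at this
    exact mul_left_cancel₀ hd0ne (by rw [this, mul_one])
  exact hχn (by rw [h1, h2])

theorem card_irr_not_dvd (hprod : N ⊔ P = ⊤) (hcop : (Nat.card N).Coprime (Nat.card P))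
    (hP : IsPGroup p P) (hpN : ¬ p ∣ Nat.card N) (hcomm : ∀ a ∈ P, ∀ b ∈ P, a * b = b * a) :
    Nat.card {χ : IrrCharacter G // ¬ p ∣ charDegree (χ : G → ℂ)} =
      Nat.card (ConjClasses ↥(N ⊓ Subgroup.centralizer (P : Set G))) * Nat.card P := by
  classical
  obtain ⟨hdisj, hidx⟩ := index_eq_card_of_coprime_sup N P hprod hcop
  have hcommP : ∀ a b : P, a * b = b * a := fun a b => Subtype.ext (hcomm a a.2 b b.2)
  have hsolv : Group.IsSolvable P := isSolvable_of_comm hcommP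
  have h1 := card_coprime_degree_split N P hprod hcop hsolv
  have h2 : Nat.card (P →* ℂˣ) = Nat.card P := by
    let _ : CommGroup P := { (inferInstance : Group P) with mul_comm := hcommP }
    exact CommGroup.card_monoidHom_of_hasEnoughRootsOfUnity P ℂ
  rw [h2] at h1
  rw [← h1]
  apply Nat.card_congr
  apply Equiv.subtypeEquivRight
  intro χ
  obtain ⟨k, hk⟩ := IsPGroup.iff_card.mp hP
  constructor
  · intro h
    rw [hk]
    exact Nat.Coprime.pow_right k ((Nat.Prime.coprime_iff_not_dvd hp.out).mpr h).symm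
  · intro h hpd
    have h3 : charDegree (χ : G → ℂ) ∣ Nat.card G :=
      Cfsg.Agent.Lib.H23.charDegree_dvd_card _ χ.2
    have h4 : Nat.card G = Nat.card N * Nat.card P := by
      rw [← hidx]
      exact (N.card_mul_index).symm
    rw [h4] at h3
    have h5 : p ∣ Nat.card N * Nat.card P := hpd.trans h3
    rcases (Nat.Prime.dvd_mul hp.out).mp h5 with h6 | h6
    · exact hpN h6
    · have h7 : p ∣ Nat.gcd (charDegree (χ : G → ℂ)) (Nat.card P) := Nat.dvd_gcd hpd h6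
      rw [h] at h7
      exact hp.out.one_lt.ne' (Nat.dvd_one.mp h7)

end Cfsg.Agent.Lib.H24.OneCharP
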