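import Cfsg.Agent.Lib.H24.OneCharP1
import Cfsg.Agent.Lib.H24.CoprimeSplit
import Cfsg.Agent.Lib.H21.ClassSize
import Cfsg.Agent.Lib.H1.SylowBasic

/-!
# Classes of `p'`-size in `G = N ⋊ P`, `P` an abelian `p`-group (helper24)

* `card_cls_not_dvd`: `#Cl_{p'}(G) = k(C_N(P)) · |P|`;
* `card_cls_dvd_eq_one`: exactly one irreducible character of degree divisible by `p` (and
  `N ≠ 1`) implies exactly one class of size divisible by `p`.
-/

set_option autoImplicit false

universe u

namespace Cfsg.Agent.Lib.H24.OneCharP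

open Cfsg Cfsg.Agent.Lib.L0 Cfsg.Agent.Lib.H23 Cfsg.Agent.Lib.H24

theorem card_split {α : Type*} [Finite α] (Q : α → Prop) :
    Nat.card α = Nat.card {a // Q a} + Nat.card {a // ¬ Q a} := by
  classical
  rw [← Nat.card_sum]
  exact Nat.card_congr (Equiv.sumCompl Q).symm

variable {G : Type u} [Group G] [Fintype G] {p : ℕ} [hp : Fact p.Prime] (N P : Subgroup G)
  [hN : N.Normal]

/-- The map `[b] ↦ [b u]` from classes of `C_N(P)` to classes of `G`. -/
noncomputable def clsMap (u : P) :
    ConjClasses ↥(N ⊓ Subgroup.centralizer (P : Set G)) → ConjClasses G :=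
  Quotient.lift (fun b : ↥(N ⊓ Subgroup.centralizer (P : Set G)) =>
      ConjClasses.mk ((b : G) * (u : G))) (by
    intro b b' h
    have h' : IsConj b b' := h
    obtain ⟨y, hy⟩ := isConj_iff.mp h'
    rw [ConjClasses.mk_eq_mk_iff_isConj, isConj_iff]
    refine ⟨(y : G), ?_⟩
    have hyc : (y : G) ∈ Subgroup.centralizer (P : Set G) := (Subgroup.mem_inf.mp y.2).2
    have h1 : (u : G) * (y : G) = (y : G) * (u : G) :=
      (Subgroup.mem_centralizer_iff.mp hyc) (u : G) u.2
    have h2 : (y : G) * (b : G) * (y : G)⁻¹ = (b' : G) := congrArg Subtype.val hy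
    have h3 : (y : G) * (u : G) * (y : G)⁻¹ = (u : G) := by
      rw [← h1]
      group
    calc (y : G) * ((b : G) * (u : G)) * (y : G)⁻¹
        = ((y : G) * (b : G) * (y : G)⁻¹) * ((y : G) * (u : G) * (y : G)⁻¹) := by group
      _ = (b' : G) * (u : G) := by rw [h2, h3])

theorem clsMap_mk (u : P) (b : ↥(N ⊓ Subgroup.centralizer (P : Set G))) :
    clsMap N P u (ConjClasses.mk b) = ConjClasses.mk ((b : G) * (u : G)) := rfl

theorem card_cls_not_dvd (hprod : N ⊔ P = ⊤) (hcop : (Nat.card N).Coprime (Nat.card P))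
    (hP : IsPGroup p P) (hpN : ¬ p ∣ Nat.card N) (hcomm : ∀ a ∈ P, ∀ b ∈ P, a * b = b * a) :
    Nat.card {C : ConjClasses G // ¬ p ∣ Nat.card C.carrier} =
      Nat.card (ConjClasses ↥(N ⊓ Subgroup.centralizer (P : Set G))) * Nat.card P := by
  classical
  obtain ⟨hdisj, hidx⟩ := index_eq_card_of_coprime_sup N P hprod hcop
  have hPidx : P.index = Nat.card N := by
    have h1 := P.card_mul_index
    have h2 := N.card_mul_index
    rw [hidx] at h2
    have h3 : Nat.card P * P.index = Nat.card P * Nat.card N := by rw [h1, ← h2, mul_comm]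
    exact Nat.eq_of_mul_eq_mul_left Nat.card_pos h3
  have hBmem : ∀ x : G, x ∈ N ⊓ Subgroup.centralizer (P : Set G) ↔
      x ∈ N ∧ ∀ q ∈ P, q * x = x * q := by
    intro x
    rw [Subgroup.mem_inf, Subgroup.mem_centralizer_iff]
    exact Iff.rfl
  have hnd : ∀ (b : ↥(N ⊓ Subgroup.centralizer (P : Set G))) (u : P),
      ¬ p ∣ Nat.card (ConjClasses.mk ((b : G) * (u : G))).carrier := by
    intro b u
    rw [Cfsg.Agent.Lib.H21.card_carrier_eq_index_centralizer]
    have hle : P ≤ Subgroup.centralizer ({(b : G) * (u : G)} : Set G) := by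
      intro v hv
      rw [Subgroup.mem_centralizer_singleton_iff]
      have h1 : v * (b : G) = (b : G) * v := ((hBmem _).mp b.2).2 v hv
      have h2 : v * (u : G) = (u : G) * v := hcomm v hv u u.2
      calc v * ((b : G) * (u : G)) = v * (b : G) * (u : G) := by group
        _ = (b : G) * v * (u : G) := by rw [h1]
        _ = (b : G) * (v * (u : G)) := by group
        _ = (b : G) * ((u : G) * v) := by rw [h2]
        _ = (b : G) * (u : G) * v := by group
    intro hdvd
    have h3 := hdvd.trans (Subgroup.index_dvd_of_le hle)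
    rw [hPidx] at h3
    exact hpN h3
  have hnd' : ∀ (cl : ConjClasses ↥(N ⊓ Subgroup.centralizer (P : Set G))) (u : P),
      ¬ p ∣ Nat.card (clsMap N P u cl).carrier := by
    intro cl u
    induction cl using Quotient.inductionOn with | _ b => ?_
    exact hnd b u
  rw [← Nat.card_prod]
  symm
  refine Nat.card_eq_of_bijective
    (fun x : ConjClasses ↥(N ⊓ Subgroup.centralizer (P : Set G)) × P =>
      (⟨clsMap N P x.2 x.1, hnd' x.1 x.2⟩ :
        {C : ConjClasses G // ¬ p ∣ Nat.card C.carrier})) ⟨?_, ?_⟩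
  · rintro ⟨cl, u⟩ ⟨cl', u'⟩ h
    have h0 : clsMap N P u cl = clsMap N P u' cl' := congrArg Subtype.val h
    induction cl using Quotient.inductionOn with | _ b => ?_
    induction cl' using Quotient.inductionOn with | _ b' => ?_
    have h1 : ConjClasses.mk ((b : G) * (u : G)) = ConjClasses.mk ((b' : G) * (u' : G)) := h0
    obtain ⟨g, hg⟩ := isConj_iff.mp (ConjClasses.mk_eq_mk_iff_isConj.mp h1)
    -- `u = u'` via the retraction
    have hbN : (b : G) ∈ N := ((hBmem _).mp b.2).1
    have hb'N : (b' : G) ∈ N := ((hBmem _).mp b'.2).1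
    have hu : u = u' := by
      have h2 := congrArg (retract N P hdisj hprod) hg
      rw [map_mul, map_mul, map_mul, map_mul, map_inv,
        retract_of_mem_normal N P hdisj hprod _ hbN, retract_of_mem_normal N P hdisj hprod _ hb'N,
        retract_of_mem N P hdisj hprod _ u.2, retract_of_mem N P hdisj hprod _ u'.2,
        one_mul, one_mul] at h2
      have h3 : retract N P hdisj hprod g * u = u * retract N P hdisj hprod g :=
        Subtype.ext (hcomm _ (retract N P hdisj hprod g).2 _ u.2)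
      have h4 : (⟨(u : G), u.2⟩ : P) = u := Subtype.ext rfl
      have h5 : (⟨(u' : G), u'.2⟩ : P) = u' := Subtype.ext rfl
      rw [h4, h5, h3, mul_inv_cancel_right] at h2
      exact h2
    subst hu
    obtain ⟨n, hn, v, hv, rfl⟩ := exists_mul_of_sup_eq_top N P hprod g
    have hvb : v * (b : G) = (b : G) * v := ((hBmem _).mp b.2).2 v hv
    have hvu : v * (u : G) = (u : G) * v := hcomm v hv u u.2
    have hn1 : n * ((b : G) * (u : G)) * n⁻¹ = (b' : G) * (u : G) := by
      rw [← hg]
      have : v * ((b : G) * (u : G)) * v⁻¹ = (b : G) * (u : G) := by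
        calc v * ((b : G) * (u : G)) * v⁻¹ = v * (b : G) * (u : G) * v⁻¹ := by group
          _ = (b : G) * v * (u : G) * v⁻¹ := by rw [hvb]
          _ = (b : G) * (v * (u : G)) * v⁻¹ := by group
          _ = (b : G) * ((u : G) * v) * v⁻¹ := by rw [hvu]
          _ = (b : G) * (u : G) := by group
      calc n * ((b : G) * (u : G)) * n⁻¹ = n * (v * ((b : G) * (u : G)) * v⁻¹) * n⁻¹ := by
            rw [this]
        _ = n * v * ((b : G) * (u : G)) * (n * v)⁻¹ := by group
    obtain ⟨k, l, hkl⟩ := exists_zpow_split (X := G) (Nat.card N) (Nat.card P) hcop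
    have hpowN : ∀ x ∈ N, x ^ Nat.card N = 1 := by
      intro x hx
      have h2 : (⟨x, hx⟩ : N) ^ Nat.card N = 1 := pow_card_eq_one'
      exact congrArg Subtype.val h2
    have hpowP : (u : G) ^ Nat.card P = 1 := by
      have h2 : u ^ Nat.card P = 1 := pow_card_eq_one'
      exact congrArg Subtype.val h2
    have hcb : Commute (b : G) (u : G) := (((hBmem _).mp b.2).2 u u.2).symm
    have hcb' : Commute (b' : G) (u : G) := (((hBmem _).mp b'.2).2 u u.2).symm
    have e1 := (hkl (b : G) (u : G) hcb (hpowN _ hbN) hpowP).1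
    have e2 := (hkl (b' : G) (u : G) hcb' (hpowN _ hb'N) hpowP).1
    have hnb : n * (b : G) * n⁻¹ = (b' : G) := by
      rw [← e1, ← conj_zpow, hn1, e2]
    have hnormP : ∀ q ∈ P, ∀ g ∈ N, q * g * q⁻¹ ∈ N := fun q _ g hg => hN.conj_mem g hg q
    have hfix : ∀ (c : ↥(N ⊓ Subgroup.centralizer (P : Set G))), ∀ q ∈ P,
        q * (c : G) * q⁻¹ = (c : G) := by
      intro c q hq
      rw [((hBmem _).mp c.2).2 q hq]
      group
    obtain ⟨y, hyN, hyP, hyb⟩ := Cfsg.Agent.Lib.H24.Glaub.exists_conj_of_conj hP hnormP hpN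
      (hfix b) (hfix b') hn hnb
    have hyB : y ∈ N ⊓ Subgroup.centralizer (P : Set G) := by
      rw [hBmem]
      refine ⟨hyN, fun q hq => ?_⟩
      calc q * y = q * y * q⁻¹ * q := by group
        _ = y * q := by rw [hyP q hq]
    have hbb' : IsConj b b' := by
      rw [isConj_iff]
      exact ⟨⟨y, hyB⟩, Subtype.ext hyb⟩
    have : (ConjClasses.mk b : ConjClasses ↥(N ⊓ Subgroup.centralizer (P : Set G))) =
        ConjClasses.mk b' := ConjClasses.mk_eq_mk_iff_isConj.mpr hbb'
    exact Prod.ext this rfl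
  · rintro ⟨C, hC⟩
    induction C using Quotient.inductionOn with | _ g => ?_
    have hC' : ¬ p ∣ (Subgroup.centralizer ({g} : Set G)).index := by
      rw [← Cfsg.Agent.Lib.H21.card_carrier_eq_index_centralizer]
      exact hC
    obtain ⟨x, hx⟩ := Cfsg.Agent.Lib.H1.exists_conj_le_of_not_dvd_index hC' hP
    set g' : G := x⁻¹ * g * x with hg'
    have hg'c : ∀ u ∈ P, u * g' = g' * u := by
      intro u hu
      have h1 := Subgroup.mem_centralizer_singleton_iff.mp (hx u hu)
      calc u * g' = x⁻¹ * (x * u * x⁻¹ * g) * x := by rw [hg']; group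
        _ = x⁻¹ * (g * (x * u * x⁻¹)) * x := by rw [h1]
        _ = g' * u := by rw [hg']; group
    obtain ⟨n, hn, u₀, hu₀, hnu⟩ := exists_mul_of_sup_eq_top N P hprod g'
    have hnB : n ∈ N ⊓ Subgroup.centralizer (P : Set G) := by
      rw [hBmem]
      refine ⟨hn, fun q hq => ?_⟩
      have h1 : n = g' * u₀⁻¹ := by rw [hnu]; group
      have h2 : q * u₀⁻¹ = u₀⁻¹ * q := hcomm q hq _ (P.inv_mem hu₀)
      rw [h1]
      calc q * (g' * u₀⁻¹) = q * g' * u₀⁻¹ := by group
        _ = g' * q * u₀⁻¹ := by rw [hg'c q hq]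
        _ = g' * (q * u₀⁻¹) := by group
        _ = g' * (u₀⁻¹ * q) := by rw [h2]
        _ = g' * u₀⁻¹ * q := by group
    refine ⟨(ConjClasses.mk ⟨n, hnB⟩, ⟨u₀, hu₀⟩), ?_⟩
    apply Subtype.ext
    show ConjClasses.mk (n * u₀) = (Quotient.mk _ g : ConjClasses G)
    rw [← hnu]
    apply ConjClasses.mk_eq_mk_iff_isConj.mpr
    rw [isConj_iff]
    refine ⟨x, ?_⟩
    rw [hg']
    group

theorem card_cls_dvd_eq_one (hprod : N ⊔ P = ⊤) (hcop : (Nat.card N).Coprime (Nat.card P))
    (hP : IsPGroup p P) (hpN : ¬ p ∣ Nat.card N) (hNbot : N ≠ ⊥)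
    (hone : Nat.card {χ : IrrCharacter G // p ∣ charDegree (χ : G → ℂ)} = 1) :
    Nat.card {C : ConjClasses G // p ∣ Nat.card C.carrier} = 1 := by
  classical
  obtain ⟨hsub, -⟩ := Nat.card_eq_one_iff_unique.mp hone
  have huniq : ∀ χ ψ : IrrCharacter G, p ∣ charDegree (χ : G → ℂ) →
      p ∣ charDegree (ψ : G → ℂ) → χ = ψ := by
    intro χ ψ h1 h2
    have := hsub.elim ⟨χ, h1⟩ ⟨ψ, h2⟩
    exact congrArg Subtype.val this
  have hcomm := comm_of_unique N P hprod hcop hP hNbot huniq
  have h1 := card_irr_not_dvd N P hprod hcop hP hpN hcomm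
  have h2 := card_cls_not_dvd N P hprod hcop hP hpN hcomm
  have h3 := card_split (fun χ : IrrCharacter G => p ∣ charDegree (χ : G → ℂ))
  have h4 := card_split (fun C : ConjClasses G => p ∣ Nat.card C.carrier)
  have h5 := card_irr_eq_card_conjClasses (G := G)
  rw [hone, h1] at h3
  rw [h2] at h4
  omega

end Cfsg.Agent.Lib.H24.OneCharP
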