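import Mathlib
import Cfsg.Agent.Lib.H24.OqMain

set_option autoImplicit false

/-!
# `PΩ^±_{2d}(q)` on totally singular `m`-spaces: final forms (helper24)
-/

namespace Cfsg.Agent.Lib.H24.Oq

open Module QuadraticMap Polynomial Matrix
open Cfsg.Agent.Lib.H24.Elus Cfsg.Agent.Lib.H10.OrtNd Cfsg.Agent.Lib.H13.OSS Cfsg.Agent.Lib.H13

/-- the arithmetic side of `ts_main` -/
def MainRHS (p q d m r i e : ℕ) : Prop :=
  (r = 2 ∧ p ≠ 2 ∧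
      ((e = 0 ∧ (q % 4 = 1 ∨ (q % 4 = 3 ∧ m + 2 ≤ d ∧ (Even m ∨ Odd d)))) ∨
        (e = 1 ∧ (Even d ∨ Even m ∨ q % 8 ≠ 7)))) ∨
   (r ≠ p ∧ 2 < r ∧ Odd i ∧ i ≤ m ∧
      ((e = 0 ∧ m % i ≤ d % i) ∨ (e = 1 ∧ (d % i = 0 ∨ m % i < d % i)))) ∨
   (r ≠ p ∧ 2 < r ∧ Even i ∧ i ≤ m ∧ (r - 1) / i + 2 * (m / i) ≤ 2 * d / i ∧
     ((2 * (m % i) ≤ i ∧ 2 * d % i = 0 ∧ (e + 2 * d / i) % 2 = 1 ∧
        (r - 1) / i + 2 * (m / i) < 2 * d / i) ∨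
      (2 * (m % i) ≤ 2 * d % i ∧ (e + 2 * d / i) % 2 = 0) ∨
      (2 * (m % i) < 2 * d % i ∧ (e + 2 * d / i) % 2 = 1)))

theorem mainRHS_plus (p q d m r i c e : ℕ) (he : e = 0) (hc : c = if Even i then i else 2 * i) :
    MainRHS p q d m r i e ↔
    ((r = 2 ∧ p ≠ 2 ∧ (q % 4 = 1 ∨ (q % 4 = 3 ∧ m + 2 ≤ d ∧ (Even m ∨ (2 * d) % 4 = 2)))) ∨
     (r ≠ p ∧ 2 < r ∧ Odd i ∧ i ≤ m ∧ 2 * (m % i) ≤ (2 * d) % c) ∨
     (r ≠ p ∧ 2 < r ∧ Even i ∧ i ≤ m ∧ (r - 1) / i + 2 * (m / i) ≤ (2 * d) / i ∧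
       ((2 * (m % i) ≤ i ∧ (2 * d) % c = 0 ∧ Odd ((2 * d) / i) ∧
          (r - 1) / i + 2 * (m / i) < (2 * d) / i) ∨
        (2 * (m % i) ≤ (2 * d) % c ∧ Even ((2 * d) / i)) ∨
        (2 * (m % i) < (2 * d) % c ∧ Odd ((2 * d) / i))))) := by
  subst he
  unfold MainRHS
  have hEO : ∀ n : ℕ, (0 + n) % 2 = 1 ↔ Odd n := fun n => by rw [Nat.odd_iff, zero_add]
  have hEE : ∀ n : ℕ, (0 + n) % 2 = 0 ↔ Even n := fun n => by rw [Nat.even_iff, zero_add]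
  have hd4 : Odd d ↔ (2 * d) % 4 = 2 := by rw [Nat.odd_iff]; omega
  refine or_congr ?_ (or_congr ?_ ?_)
  · simp only [true_and, zero_ne_one, false_and, or_false, hd4]
  · constructor
    · rintro ⟨h1, h2, h3, h4, h5⟩
      have hc' : c = 2 * i := by rw [hc, if_neg (Nat.not_even_iff_odd.mpr h3)]
      rw [hc', Nat.mul_mod_mul_left]
      rcases h5 with ⟨-, h⟩ | ⟨h, -⟩
      · exact ⟨h1, h2, h3, h4, by omega⟩
      · omega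
    · rintro ⟨h1, h2, h3, h4, h5⟩
      have hc' : c = 2 * i := by rw [hc, if_neg (Nat.not_even_iff_odd.mpr h3)]
      rw [hc', Nat.mul_mod_mul_left] at h5
      exact ⟨h1, h2, h3, h4, Or.inl ⟨rfl, by omega⟩⟩
  · constructor
    · rintro ⟨h1, h2, h3, h4, h5, h6⟩
      have hc' : c = i := by rw [hc, if_pos h3]
      rw [hc']
      refine ⟨h1, h2, h3, h4, h5, ?_⟩
      simpa only [hEO, hEE] using h6
    · rintro ⟨h1, h2, h3, h4, h5, h6⟩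
      have hc' : c = i := by rw [hc, if_pos h3]
      rw [hc'] at h6
      refine ⟨h1, h2, h3, h4, h5, ?_⟩
      simpa only [hEO, hEE] using h6

theorem mainRHS_minus (p q d m r i c e : ℕ) (he : e = 1) (hc : c = if Even i then i else 2 * i) :
    MainRHS p q d m r i e ↔
    ((r = 2 ∧ p ≠ 2 ∧ (Even d ∨ Even m ∨ q % 8 ≠ 7)) ∨
     (r ≠ p ∧ 2 < r ∧ Odd i ∧ i ≤ m ∧ ((2 * d) % c = 0 ∨ 2 * (m % i) < (2 * d) % c)) ∨
     (r ≠ p ∧ 2 < r ∧ Even i ∧ i ≤ m ∧ (r - 1) / i + 2 * (m / i) ≤ (2 * d) / i ∧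
       ((2 * (m % i) ≤ i ∧ (2 * d) % c = 0 ∧ Even ((2 * d) / i) ∧
          (r - 1) / i + 2 * (m / i) < (2 * d) / i) ∨
        (2 * (m % i) ≤ (2 * d) % c ∧ Odd ((2 * d) / i)) ∨
        (2 * (m % i) < (2 * d) % c ∧ Even ((2 * d) / i))))) := by
  subst he
  unfold MainRHS
  have hEO : ∀ n : ℕ, (1 + n) % 2 = 1 ↔ Even n := fun n => by rw [Nat.even_iff]; omega
  have hEE : ∀ n : ℕ, (1 + n) % 2 = 0 ↔ Odd n := fun n => by rw [Nat.odd_iff]; omega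
  refine or_congr ?_ (or_congr ?_ ?_)
  · simp only [true_and, one_ne_zero, false_and, false_or]
  · constructor
    · rintro ⟨h1, h2, h3, h4, h5⟩
      have hc' : c = 2 * i := by rw [hc, if_neg (Nat.not_even_iff_odd.mpr h3)]
      rw [hc', Nat.mul_mod_mul_left]
      rcases h5 with ⟨h, -⟩ | ⟨-, h⟩
      · omega
      · exact ⟨h1, h2, h3, h4, by omega⟩
    · rintro ⟨h1, h2, h3, h4, h5⟩
      have hc' : c = 2 * i := by rw [hc, if_neg (Nat.not_even_iff_odd.mpr h3)]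
      rw [hc', Nat.mul_mod_mul_left] at h5
      exact ⟨h1, h2, h3, h4, Or.inr ⟨rfl, by omega⟩⟩
  · constructor
    · rintro ⟨h1, h2, h3, h4, h5, h6⟩
      have hc' : c = i := by rw [hc, if_pos h3]
      rw [hc']
      refine ⟨h1, h2, h3, h4, h5, ?_⟩
      simpa only [hEO, hEE] using h6
    · rintro ⟨h1, h2, h3, h4, h5, h6⟩
      have hc' : c = i := by rw [hc, if_pos h3]
      rw [hc'] at h6
      refine ⟨h1, h2, h3, h4, h5, ?_⟩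
      simpa only [hEO, hEE] using h6

section final

variable {F : Type*} [Field F] [Fintype F] {p : ℕ} [Fact p.Prime] [CharP F p] {q : ℕ}

/-- `PΩ⁺_{2d}(q)` on totally singular `m`-spaces -/
theorem ts_plus_final (hq : Fintype.card F = q)
    (d m : ℕ) (hd : 4 ≤ d) (hm : 1 ≤ m) (hmd : m < d)
    (r : ℕ) [Fact r.Prime]
    (hrΩ : r ∣ Nat.card {W : Submodule F (Fin d ⊕ Fin d → F) //
      Module.finrank F ↥W = m ∧ (∀ w ∈ W, Cfsg.quadFormPlus d F w = 0)})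
    (i c : ℕ) (hi : i = orderOf (q : ZMod r)) (hc : c = if Even i then i else 2 * i) :
    (∀ x : GL (Fin d ⊕ Fin d) F, x ∈ Cfsg.Geo.omegaGL (Cfsg.quadFormPlus d F) →
      (∃ z : F, ((x ^ r : GL (Fin d ⊕ Fin d) F) : Matrix (Fin d ⊕ Fin d) (Fin d ⊕ Fin d) F) =
        z • (1 : Matrix (Fin d ⊕ Fin d) (Fin d ⊕ Fin d) F)) →
      (∀ z : F, (x : Matrix (Fin d ⊕ Fin d) (Fin d ⊕ Fin d) F) ≠
        z • (1 : Matrix (Fin d ⊕ Fin d) (Fin d ⊕ Fin d) F)) →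
      ∃ W : Submodule F (Fin d ⊕ Fin d → F), Module.finrank F ↥W = m ∧
        (∀ w ∈ W, Cfsg.quadFormPlus d F w = 0) ∧
        W.map (Matrix.toLin' (x : Matrix (Fin d ⊕ Fin d) (Fin d ⊕ Fin d) F)) ≤ W) ↔
    ((r = 2 ∧ p ≠ 2 ∧ (q % 4 = 1 ∨ (q % 4 = 3 ∧ m + 2 ≤ d ∧ (Even m ∨ (2 * d) % 4 = 2)))) ∨
     (r ≠ p ∧ 2 < r ∧ Odd i ∧ i ≤ m ∧ 2 * (m % i) ≤ (2 * d) % c) ∨
     (r ≠ p ∧ 2 < r ∧ Even i ∧ i ≤ m ∧ (r - 1) / i + 2 * (m / i) ≤ (2 * d) / i ∧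
       ((2 * (m % i) ≤ i ∧ (2 * d) % c = 0 ∧ Odd ((2 * d) / i) ∧
          (r - 1) / i + 2 * (m / i) < (2 * d) / i) ∨
        (2 * (m % i) ≤ (2 * d) % c ∧ Even ((2 * d) / i)) ∨
        (2 * (m % i) < (2 * d) % c ∧ Odd ((2 * d) / i))))) := by
  classical
  have hcoe : ⇑(plusQF F d) = Cfsg.quadFormPlus d F := Cfsg.Agent.S0287.coe_plusQF d
  have hr' : r ∣ Nat.card (TsSub (plusQF F d) m) := by
    rw [Nat.card_congr (Equiv.subtypeEquivRight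
      (q := fun W : Submodule F (Fin d ⊕ Fin d → F) =>
        Module.finrank F ↥W = m ∧ (∀ w ∈ W, Cfsg.quadFormPlus d F w = 0))
      (fun W => by rw [← hcoe]))]
    exact hrΩ
  have key := ts_main (p := p) (plusQF F d) hq (Cfsg.Agent.S0287.nondeg d)
    (isSg_plus d (by omega)) (by omega) m hm (by omega) r hr' i hi
  rw [← mainRHS_plus p q d m r i c 0 rfl hc]
  unfold MainRHS
  rw [← key]
  unfold TS
  rw [hcoe]
  constructor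
  · intro h x hx hz hns
    obtain ⟨W, h1, h2, h3⟩ := h x hx hz hns
    exact ⟨W, h1, h2, fun v hv => h3 (Submodule.mem_map_of_mem hv)⟩
  · intro h x hx hz hns
    obtain ⟨W, h1, h2, h3⟩ := h x hx hz hns
    refine ⟨W, h1, h2, ?_⟩
    rintro _ ⟨v, hv, rfl⟩
    exact h3 v hv

/-- `PΩ⁻_{2d}(q)` on totally singular `m`-spaces -/
theorem ts_minus_final (hq : Fintype.card F = q)
    (d m : ℕ) (hd : 4 ≤ d) (hm : 1 ≤ m) (hmd : m + 1 ≤ d) (a b : F)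
    (hab : ∀ x y : F, x ^ 2 + a * x * y + b * y ^ 2 = 0 → x = 0 ∧ y = 0)
    (r : ℕ) [Fact r.Prime]
    (hrΩ : r ∣ Nat.card {W : Submodule F ((Fin (d - 1) ⊕ Fin (d - 1)) ⊕ Fin 2 → F) //
      Module.finrank F ↥W = m ∧
        Cfsg.Geo.IsTotallySingularQuad (Cfsg.quadFormMinus (d - 1) F a b) W})
    (i c : ℕ) (hi : i = orderOf (q : ZMod r)) (hc : c = if Even i then i else 2 * i) :
    (∀ x : GL ((Fin (d - 1) ⊕ Fin (d - 1)) ⊕ Fin 2) F,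
      x ∈ Cfsg.Geo.omegaGL (Cfsg.quadFormMinus (d - 1) F a b) →
      (∃ z : F, ((x ^ r : GL ((Fin (d - 1) ⊕ Fin (d - 1)) ⊕ Fin 2) F) :
        Matrix ((Fin (d - 1) ⊕ Fin (d - 1)) ⊕ Fin 2) ((Fin (d - 1) ⊕ Fin (d - 1)) ⊕ Fin 2) F) =
        z • (1 : Matrix ((Fin (d - 1) ⊕ Fin (d - 1)) ⊕ Fin 2)
          ((Fin (d - 1) ⊕ Fin (d - 1)) ⊕ Fin 2) F)) →
      (∀ z : F, (x : Matrix ((Fin (d - 1) ⊕ Fin (d - 1)) ⊕ Fin 2)
        ((Fin (d - 1) ⊕ Fin (d - 1)) ⊕ Fin 2) F) ≠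
        z • (1 : Matrix ((Fin (d - 1) ⊕ Fin (d - 1)) ⊕ Fin 2)
          ((Fin (d - 1) ⊕ Fin (d - 1)) ⊕ Fin 2) F)) →
      ∃ W : Submodule F ((Fin (d - 1) ⊕ Fin (d - 1)) ⊕ Fin 2 → F),
        (Module.finrank F ↥W = m ∧
          Cfsg.Geo.IsTotallySingularQuad (Cfsg.quadFormMinus (d - 1) F a b) W) ∧
        W.map (Matrix.toLin' (x : Matrix ((Fin (d - 1) ⊕ Fin (d - 1)) ⊕ Fin 2)
          ((Fin (d - 1) ⊕ Fin (d - 1)) ⊕ Fin 2) F)) ≤ W) ↔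
    ((r = 2 ∧ p ≠ 2 ∧ (Even d ∨ Even m ∨ q % 8 ≠ 7)) ∨
     (r ≠ p ∧ 2 < r ∧ Odd i ∧ i ≤ m ∧ ((2 * d) % c = 0 ∨ 2 * (m % i) < (2 * d) % c)) ∨
     (r ≠ p ∧ 2 < r ∧ Even i ∧ i ≤ m ∧ (r - 1) / i + 2 * (m / i) ≤ (2 * d) / i ∧
       ((2 * (m % i) ≤ i ∧ (2 * d) % c = 0 ∧ Even ((2 * d) / i) ∧
          (r - 1) / i + 2 * (m / i) < (2 * d) / i) ∨
        (2 * (m % i) ≤ (2 * d) % c ∧ Odd ((2 * d) / i)) ∨
        (2 * (m % i) < (2 * d) % c ∧ Even ((2 * d) / i))))) := by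
  classical
  have hcoe : ⇑(minusQF F (d - 1) a b) = Cfsg.quadFormMinus (d - 1) F a b :=
    Cfsg.Agent.S0288.coe_minusQF (d - 1) a b
  have hr' : r ∣ Nat.card (TsSub (minusQF F (d - 1) a b) m) := by
    rw [Nat.card_congr (Equiv.subtypeEquivRight
      (q := fun W : Submodule F ((Fin (d - 1) ⊕ Fin (d - 1)) ⊕ Fin 2 → F) =>
        Module.finrank F ↥W = m ∧
          Cfsg.Geo.IsTotallySingularQuad (Cfsg.quadFormMinus (d - 1) F a b) W)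
      (fun W => by unfold Cfsg.Geo.IsTotallySingularQuad; rw [← hcoe]))]
    exact hrΩ
  have key := ts_main (p := p) (minusQF F (d - 1) a b) hq
    (Cfsg.Agent.S0288.nondeg a b hab (d - 1))
    (isSg_minus d (by omega) a b hab) (by omega) m hm hmd r hr' i hi
  rw [← mainRHS_minus p q d m r i c 1 rfl hc]
  unfold MainRHS
  rw [← key]
  unfold TS Cfsg.Geo.IsTotallySingularQuad
  rw [hcoe]
  constructor
  · intro h x hx hz hns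
    obtain ⟨W, ⟨h1, h2⟩, h3⟩ := h x hx hz hns
    exact ⟨W, h1, h2, fun v hv => h3 (Submodule.mem_map_of_mem hv)⟩
  · intro h x hx hz hns
    obtain ⟨W, h1, h2, h3⟩ := h x hx hz hns
    refine ⟨W, ⟨h1, h2⟩, ?_⟩
    rintro _ ⟨v, hv, rfl⟩
    exact h3 v hv

end final

end Cfsg.Agent.Lib.H24.Oq
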