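import Cfsg.Agent.Lib.H2.OrMaxLow

/-!
# `GO(Q) ∩ SL` maximal in `SL_n(F)`, `q` odd, for `6 ≤ n`: from one transvection to `SL` (helper24)

helper11's `Lib/H11/OrMax8` needs `13 ≤ n`, helper2's `Lib/H2/OrMaxLow` needs `10 ≤ n`.  Here the part
"an overgroup `M` of `N = GO(Q) ∩ SL` that contains a transvection `x ↦ x + P a₀ x • u₀` with `Q a₀ ≠ 0`
contains `SL_n`" is proved for `6 ≤ n`:
* `TT_level6`: the vector `a₁` is found on a conic (`p + x d₁ + y d₂`) instead of through a hyperbolic pair;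
* `span_level6`: only a hyperbolic pair in `⟨s, u₀⟩^⊥` is needed (`w` is decomposed along `e, f`), and it
  exists as soon as the radical of `⟨s, u₀⟩^⊥` is at most a line (`Q s ≠ 0` or `u₀ = 0`).
-/

set_option autoImplicit false
set_option linter.unusedSimpArgs false
set_option linter.unusedSectionVars false
set_option linter.unusedVariables false

namespace Cfsg.Agent.Lib.H24.OrMax6

open Matrix Module
open Cfsg.Agent.Lib.H28 Cfsg.Agent.Lib.H11.SubspMax
open Cfsg.Agent.Lib.H11.CD Cfsg.Agent.Lib.H11.SiegelGen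
open Cfsg.Agent.Lib.H11.OrMax Cfsg.Agent.Lib.H2.OrMaxLow

variable {F : Type*} [Field F] {n : ℕ} (Q : QuadraticForm F (Fin n → F))

set_option quotPrecheck false in
local notation "P" => QuadraticMap.polar (⇑Q)

/-- a conic with non-degenerate quadratic part has a point -/
theorem conic [Fintype F] (h2 : (2 : F) ≠ 0) (a b c d e : F) (ha : a ≠ 0) (hb : b ≠ 0) :
    ∃ x y : F, a * x ^ 2 + c * x + b * y ^ 2 + d * y + e = 0 := by
  classical
  have hchar : ringChar F ≠ 2 := by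
    intro h
    apply h2
    have := CharP.cast_eq_zero F (ringChar F)
    rw [h] at this
    exact_mod_cast this
  have hodd : Fintype.card F % 2 = 1 := FiniteField.odd_card_of_char_ne_two hchar
  obtain ⟨u, w, huw⟩ := FiniteField.exists_root_sum_quadratic (R := F)
    (f := Polynomial.C a * Polynomial.X ^ 2 + Polynomial.C c * Polynomial.X + Polynomial.C e)
    (g := Polynomial.C b * Polynomial.X ^ 2 + Polynomial.C d * Polynomial.X + Polynomial.C 0)
    (Polynomial.degree_quadratic ha) (Polynomial.degree_quadratic hb) hodd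
  refine ⟨u, w, ?_⟩
  simp only [Polynomial.eval_mul, Polynomial.eval_C, Polynomial.eval_pow, Polynomial.eval_X,
    Polynomial.eval_add] at huw
  linear_combination huw

/-- a vector of prescribed value with prescribed products against two independent vectors -/
theorem exists_level_affine [Fintype F] (hQ : (QuadraticMap.polarBilin Q).Nondegenerate)
    (h2 : (2 : F) ≠ 0) (hn : 6 ≤ n) (u₀ u₁ : Fin n → F) (hu₀ : u₀ ≠ 0)
    (hne : ∀ t : F, u₁ ≠ t • u₀) (lam β : F) :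
    ∃ a₁, Q a₁ = β ∧ P a₁ u₀ = lam ∧ P a₁ u₁ = 0 := by
  have hnm : u₀ ∉ Submodule.span F {u₁} := by
    intro hmem
    rw [Submodule.mem_span_singleton] at hmem
    obtain ⟨s, hs⟩ := hmem
    have hs0 : s ≠ 0 := by
      rintro rfl
      rw [zero_smul] at hs
      exact hu₀ hs.symm
    exact hne s⁻¹ (by rw [← hs, smul_smul, inv_mul_cancel₀ hs0, one_smul])
  obtain ⟨φ, hφ0, hφ1⟩ := Submodule.exists_le_ker_of_notMem hnm
  obtain ⟨p, rfl⟩ := exists_fr Q hQ φ
  have hp0 : P p u₀ ≠ 0 := hφ0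
  have hp1 : P p u₁ = 0 := by
    have := hφ1 (Submodule.mem_span_singleton_self u₁)
    exact this
  obtain ⟨p₁, hp₁⟩ : ∃ p₁, p₁ = (lam / P p u₀) • p := ⟨_, rfl⟩
  have hp₁0 : P p₁ u₀ = lam := by
    rw [hp₁, QuadraticMap.polar_smul_left, smul_eq_mul, div_mul_cancel₀ _ hp0]
  have hp₁1 : P p₁ u₁ = 0 := by
    rw [hp₁, QuadraticMap.polar_smul_left, hp1, smul_zero]
  obtain ⟨d₁, hd₁, hQd₁⟩ := exists_nonsing_ker Q hQ ![fr Q u₀, fr Q u₁] (by omega)
  have d1u0 : P u₀ d₁ = 0 := hd₁ 0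
  have d1u1 : P u₁ d₁ = 0 := hd₁ 1
  obtain ⟨d₂, hd₂, hQd₂⟩ := exists_nonsing_ker' Q hQ ![fr Q d₁, fr Q u₀, fr Q u₁] d₁ hQd₁ 0 rfl
    (by omega)
  have d2d1 : P d₁ d₂ = 0 := hd₂ 0
  have d2u0 : P u₀ d₂ = 0 := hd₂ 1
  have d2u1 : P u₁ d₂ = 0 := hd₂ 2
  obtain ⟨x, y, hxy⟩ := conic h2 (Q d₁) (Q d₂) (P p₁ d₁) (P p₁ d₂) (Q p₁ - β) hQd₁ hQd₂
  refine ⟨p₁ + x • d₁ + y • d₂, ?_, ?_, ?_⟩
  · rw [Q_add, Q_add, QuadraticMap.map_smul, QuadraticMap.map_smul,
      QuadraticMap.polar_smul_right, QuadraticMap.polar_add_left, QuadraticMap.polar_smul_right,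
      QuadraticMap.polar_smul_right, QuadraticMap.polar_smul_left, d2d1]
    simp only [smul_eq_mul]
    linear_combination hxy
  · rw [QuadraticMap.polar_add_left, QuadraticMap.polar_add_left, QuadraticMap.polar_smul_left,
      QuadraticMap.polar_smul_left, P_comm Q d₁ u₀, P_comm Q d₂ u₀, d1u0, d2u0, hp₁0]
    simp
  · rw [QuadraticMap.polar_add_left, QuadraticMap.polar_add_left, QuadraticMap.polar_smul_left,
      QuadraticMap.polar_smul_left, P_comm Q d₁ u₁, P_comm Q d₂ u₁, d1u1, d2u1, hp₁1]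
    simp

/-- a hyperbolic pair inside a subspace of dimension at least four whose radical is at most a line -/
theorem exists_hyp_in6 [Fintype F] (hQ : (QuadraticMap.polarBilin Q).Nondegenerate)
    (U : Submodule F (Fin n → F)) (r : Fin n → F)
    (hrad : ∀ x ∈ U, (∀ y ∈ U, P x y = 0) → ∃ t : F, x = t • r)
    (h : 4 ≤ finrank F U) :
    ∃ e f, e ∈ U ∧ f ∈ U ∧ Q e = 0 ∧ Q f = 0 ∧ P e f = 1 := by
  obtain ⟨O, hO⟩ : ∃ O, O = LinearMap.BilinForm.orthogonal (QuadraticMap.polarBilin Q) U :=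
    ⟨_, rfl⟩
  obtain ⟨R', hR'⟩ : ∃ R' : Submodule F ↥U, R' = Submodule.comap U.subtype O := ⟨_, rfl⟩
  obtain ⟨U0, hU0⟩ := Submodule.exists_isCompl R'
  have h1 : finrank F R' ≤ 1 := by
    rw [← Submodule.finrank_map_subtype_eq U R']
    have hle : Submodule.map U.subtype R' ≤ Submodule.span F {r} := by
      rintro x ⟨y, hy, rfl⟩
      rw [hR'] at hy
      have hy' : ((y : ↥U) : Fin n → F) ∈ O := hy
      rw [hO, LinearMap.BilinForm.mem_orthogonal_iff] at hy'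
      obtain ⟨t, ht⟩ := hrad (y : Fin n → F) y.2 (fun z hz => by
        have := hy' z hz
        rw [QuadraticMap.polarBilin_apply_apply, P_comm] at this
        exact this)
      rw [Submodule.mem_span_singleton]
      exact ⟨t, ht.symm⟩
    refine (Submodule.finrank_mono hle).trans ?_
    exact (finrank_span_le_card ({r} : Set (Fin n → F))).trans (by simp)
  have h2 := Submodule.finrank_add_eq_of_isCompl hU0
  have h3 : 3 ≤ finrank F U0 := by omega
  obtain ⟨v, hv0, hv⟩ := Cfsg.Agent.Lib.H13.exists_singular_of_three_le (V := ↥U0)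
    (Q.comp (U.subtype.comp U0.subtype)) h3
  obtain ⟨e, he⟩ : ∃ e : Fin n → F, e = ((v : ↥U) : Fin n → F) := ⟨_, rfl⟩
  have heU : e ∈ U := by rw [he]; exact (v : ↥U).2
  have hQe : Q e = 0 := by
    rw [he]
    exact hv
  have heO : e ∉ O := by
    intro hmem
    apply hv0
    have h4 : (v : ↥U) ∈ R' ⊓ U0 := by
      refine ⟨?_, v.2⟩
      rw [hR']
      show ((v : ↥U) : Fin n → F) ∈ O
      rw [← he]; exact hmem
    rw [hU0.inf_eq_bot, Submodule.mem_bot] at h4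
    exact Subtype.ext h4
  obtain ⟨y, hyU, hy⟩ : ∃ y ∈ U, P e y ≠ 0 := by
    by_contra hcon
    push Not at hcon
    apply heO
    rw [hO, LinearMap.BilinForm.mem_orthogonal_iff]
    intro y hy
    show (QuadraticMap.polarBilin Q) y e = 0
    rw [QuadraticMap.polarBilin_apply_apply, P_comm]
    exact hcon y hy
  obtain ⟨f0, hf0⟩ : ∃ f0, f0 = (P e y)⁻¹ • y := ⟨_, rfl⟩
  have hf0U : f0 ∈ U := by rw [hf0]; exact U.smul_mem _ hyU
  have hef0 : P e f0 = 1 := by
    rw [hf0, QuadraticMap.polar_smul_right, smul_eq_mul, inv_mul_cancel₀ hy]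
  refine ⟨e, f0 - Q f0 • e, heU, U.sub_mem hf0U (U.smul_mem _ heU), hQe, ?_, ?_⟩
  · rw [Q_sub', QuadraticMap.map_smul, hQe, QuadraticMap.polar_smul_right, P_comm, hef0]
    simp
  · rw [QuadraticMap.polar_sub_right, QuadraticMap.polar_smul_right, P_self, hQe, hef0]
    simp

/-- a vector orthogonal to the common kernel of `P s ·` and `P u₀ ·` lies in their span -/
theorem mem_span_of_perp_ker (hQ : (QuadraticMap.polarBilin Q).Nondegenerate)
    (s u₀ x : Fin n → F)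
    (hx : ∀ y, P s y = 0 → P u₀ y = 0 → P x y = 0) : ∃ α β : F, x = α • s + β • u₀ := by
  have hle : ⨅ i, LinearMap.ker ((![fr Q s, fr Q u₀] : Fin 2 → Dual F (Fin n → F)) i) ≤
      LinearMap.ker (fr Q x) := by
    intro y hy
    rw [Submodule.mem_iInf] at hy
    rw [LinearMap.mem_ker, fr_apply]
    exact hx y (by simpa [fr_apply] using hy 0) (by simpa [fr_apply] using hy 1)
  have hmem := mem_span_of_iInf_ker_le_ker hle
  rw [Submodule.mem_span_range_iff_exists_fun] at hmem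
  obtain ⟨c, hc⟩ := hmem
  rw [Fin.sum_univ_two] at hc
  refine ⟨c 0, c 1, ?_⟩
  have e1 : fr Q (x - (c 0 • s + c 1 • u₀)) = 0 := by
    have hsub : fr Q (x - (c 0 • s + c 1 • u₀)) = fr Q x - fr Q (c 0 • s + c 1 • u₀) :=
      (QuadraticMap.polarBilin Q).map_sub x _
    rw [hsub, fr_add, fr_smul, fr_smul, ← hc]
    simp
  have e2 : x - (c 0 • s + c 1 • u₀) = 0 := by
    apply hQ.1
    intro y
    have := LinearMap.congr_fun e1 y
    exact this
  exact sub_eq_zero.1 e2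

/-- a hyperbolic pair orthogonal to `s` and `u₀` (`s ⟂ u₀`, and `Q s ≠ 0` or `u₀ = 0`) -/
theorem exists_hyp_perp6 [Fintype F] (hQ : (QuadraticMap.polarBilin Q).Nondegenerate)
    (h2 : (2 : F) ≠ 0) (hn : 6 ≤ n) (s u₀ : Fin n → F) (hs : Q s ≠ 0 ∨ u₀ = 0)
    (hsu : P s u₀ = 0) :
    ∃ e f, Q e = 0 ∧ Q f = 0 ∧ P e f = 1 ∧ P s e = 0 ∧ P u₀ e = 0 ∧ P s f = 0 ∧ P u₀ f = 0 := by
  have h1 := finrank_ker_pi (![fr Q s, fr Q u₀] : Fin 2 → Dual F (Fin n → F))
  obtain ⟨r, hr⟩ : ∃ r : Fin n → F, ∀ x, P s x = 0 → P u₀ x = 0 →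
      (∀ y, P s y = 0 → P u₀ y = 0 → P x y = 0) → ∃ t : F, x = t • r := by
    rcases hs with hs | hs
    · refine ⟨u₀, fun x hsx hux hx => ?_⟩
      obtain ⟨α, β, rfl⟩ := mem_span_of_perp_ker Q hQ s u₀ x hx
      rw [QuadraticMap.polar_add_right, QuadraticMap.polar_smul_right,
        QuadraticMap.polar_smul_right, hsu, P_self, smul_zero, add_zero, smul_eq_mul] at hsx
      have hα : α = 0 := by
        rcases mul_eq_zero.1 hsx with h | h
        · exact h
        · exact absurd h (mul_ne_zero h2 hs)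
      exact ⟨β, by rw [hα, zero_smul, zero_add]⟩
    · refine ⟨s, fun x hsx hux hx => ?_⟩
      obtain ⟨α, β, rfl⟩ := mem_span_of_perp_ker Q hQ s u₀ x hx
      exact ⟨α, by rw [hs, smul_zero, add_zero]⟩
  obtain ⟨e, f, he, hf, hQe, hQf, hef⟩ := exists_hyp_in6 Q hQ
    (LinearMap.ker (LinearMap.pi (![fr Q s, fr Q u₀] : Fin 2 → Dual F (Fin n → F)))) r
    (fun x hx hxy => by
      have hx' := (mem_ker_pi _ x).1 hx
      refine hr x (hx' 0) (hx' 1) (fun y hsy huy => hxy y ?_)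
      rw [mem_ker_pi]
      intro i
      fin_cases i
      · exact hsy
      · exact huy)
    (by omega)
  have he' := (mem_ker_pi _ e).1 he
  have hf' := (mem_ker_pi _ f).1 hf
  exact ⟨e, f, hQe, hQf, hef, he' 0, he' 1, hf' 0, hf' 1⟩

/-- a subspace containing a level set (inside `s^⊥`, avoiding a line) contains `s^⊥`; `6 ≤ n` -/
theorem span_level6 [Fintype F] (hQ : (QuadraticMap.polarBilin Q).Nondegenerate) (h2 : (2 : F) ≠ 0)
    (hn : 6 ≤ n)
    (Y : Submodule F (Fin n → F)) (s u₀ : Fin n → F) (α : F)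
    (hs : Q s ≠ 0 ∨ u₀ = 0) (hsu : P s u₀ = 0)
    (hY : ∀ v, Q v = α → P s v = 0 → (∀ t : F, v ≠ t • u₀) → v ∈ Y)
    (w : Fin n → F) (hw : P s w = 0) : w ∈ Y := by
  obtain ⟨e, f, hQe, hQf, hef, se, ue, sf, uf⟩ := exists_hyp_perp6 Q hQ h2 hn s u₀ hs hsu
  have fe : P f e = 1 := by rw [P_comm]; exact hef
  have fu : P f u₀ = 0 := by rw [P_comm]; exact uf
  have L : ∀ y, P y e = 0 → P y f = 0 → P s y = 0 → y + e + (α - Q y) • f ∈ Y := by
    intro y hye hyf hsy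
    apply hY
    · rw [add_assoc, Q_add, Q_add, QuadraticMap.map_smul, hQe, hQf, QuadraticMap.polar_smul_right,
        hef, QuadraticMap.polar_add_right, QuadraticMap.polar_smul_right, hye, hyf]
      simp
    · rw [QuadraticMap.polar_add_right, QuadraticMap.polar_add_right,
        QuadraticMap.polar_smul_right, hsy, se, sf]
      simp
    · intro t ht
      have e1 : P f (y + e + (α - Q y) • f) = 1 := by
        rw [QuadraticMap.polar_add_right, QuadraticMap.polar_add_right,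
          QuadraticMap.polar_smul_right, P_comm Q f y, hyf, fe, P_self, hQf]
        simp
      rw [ht, QuadraticMap.polar_smul_right, fu, smul_zero] at e1
      exact zero_ne_one e1
  have hB : e + α • f ∈ Y := by
    have := L 0 (by simp) (by simp) (by simp)
    simpa using this
  -- a non-singular `y` orthogonal to `e, f, s`
  have hQef : Q (e + f) ≠ 0 := by
    rw [Q_add, hQe, hQf, hef]; simp
  obtain ⟨y, hy, hQy⟩ := exists_nonsing_ker' Q hQ ![fr Q (e + f), fr Q e, fr Q s] (e + f) hQef 0 rfl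
    (by omega)
  have ye : P y e = 0 := by rw [P_comm]; exact hy 1
  have yf : P y f = 0 := by
    have h0 : P (e + f) y = 0 := hy 0
    rw [QuadraticMap.polar_add_left, P_comm Q e y, ye, zero_add] at h0
    rw [P_comm]; exact h0
  have sy : P s y = 0 := hy 2
  have h1 := L y ye yf sy
  have h2y := L ((2 : F) • y)
    (by rw [QuadraticMap.polar_smul_left, ye, smul_zero])
    (by rw [QuadraticMap.polar_smul_left, yf, smul_zero])
    (by rw [QuadraticMap.polar_smul_right, sy, smul_zero])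
  rw [QuadraticMap.map_smul] at h2y
  have hf : f ∈ Y := by
    have e1 : (2 * Q y) • f = (2 : F) • ((y + e + (α - Q y) • f) - (e + α • f)) -
        (((2 : F) • y + e + (α - 2 * 2 * Q y) • f) - (e + α • f)) := by
      module
    have e2 : (2 * Q y) • f ∈ Y := by
      rw [e1]
      exact Y.sub_mem (Y.smul_mem _ (Y.sub_mem h1 hB)) (Y.sub_mem h2y hB)
    have e3 : f = (2 * Q y)⁻¹ • ((2 * Q y) • f) := by
      rw [smul_smul, inv_mul_cancel₀ (mul_ne_zero h2 hQy), one_smul]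
    rw [e3]
    exact Y.smul_mem _ e2
  have he : e ∈ Y := by
    have : e = (e + α • f) - α • f := by abel
    rw [this]; exact Y.sub_mem hB (Y.smul_mem _ hf)
  -- decompose `w`
  obtain ⟨wD, hwD⟩ : ∃ wD, wD = w - P w f • e - P w e • f := ⟨_, rfl⟩
  have wDe : P wD e = 0 := by
    rw [hwD, QuadraticMap.polar_sub_left, QuadraticMap.polar_sub_left,
      QuadraticMap.polar_smul_left, QuadraticMap.polar_smul_left, P_self, hQe, fe]
    simp
  have wDf : P wD f = 0 := by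
    rw [hwD, QuadraticMap.polar_sub_left, QuadraticMap.polar_sub_left,
      QuadraticMap.polar_smul_left, QuadraticMap.polar_smul_left, P_self, hQf, hef]
    simp
  have swD : P s wD = 0 := by
    rw [hwD, QuadraticMap.polar_sub_right, QuadraticMap.polar_sub_right,
      QuadraticMap.polar_smul_right, QuadraticMap.polar_smul_right, hw, se, sf]
    simp
  have hA := L wD wDe wDf swD
  have : w = (wD + e + (α - Q wD) • f) - e - (α - Q wD) • f + P w f • e + P w e • f := by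
    rw [hwD]; abel
  rw [this]
  exact Y.add_mem (Y.add_mem (Y.sub_mem (Y.sub_mem hA he) (Y.smul_mem _ hf)) (Y.smul_mem _ he))
    (Y.smul_mem _ hf)

section main
variable [Fintype F] (hQ : (QuadraticMap.polarBilin Q).Nondegenerate) (h2 : (2 : F) ≠ 0)
  (hn : 6 ≤ n) (M : Subgroup (GL (Fin n) F))
  (hNM : Cfsg.Geo.quadSimilarityGroup (⇑Q) ⊓ Cfsg.Geo.specialLinear (Fin n) F ≤ M)
include hQ h2 hn hNM

/-- Claim 1 -/
theorem TT_level6 (u₀ a₀ : Fin n → F) (hT : TT Q M u₀ a₀) (hu₀ : u₀ ≠ 0) (ha₀ : Q a₀ ≠ 0)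
    (u₁ : Fin n → F) (hau₁ : P a₀ u₁ = 0) (hQu₁ : Q u₁ = Q u₀) (hne : ∀ t : F, u₁ ≠ t • u₀)
    (lam : F) : TT Q M (lam • u₁) a₀ := by
  have hu₁0 : u₁ ≠ 0 := by
    intro h0
    exact hne 0 (by rw [h0, zero_smul])
  obtain ⟨a₁, hQa₁, ha₁0, ha₁1⟩ := exists_level_affine Q hQ h2 hn u₀ u₁ hu₀ hne (-lam) (Q a₀)
  have hQa₁0 : Q a₁ ≠ 0 := by rw [hQa₁]; exact ha₀
  obtain ⟨g0, hdet, hg0⟩ := witt_det_one Q hQ 2 ![u₀, a₀] ![u₁, a₁]
    (li_pair' Q h2 u₀ a₀ hu₀ ha₀ hT.1) (li_pair' Q h2 u₁ a₁ hu₁0 hQa₁0 ha₁1)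
    (Cfsg.Agent.Lib.H11.OmegaTrans.Q_pair Q u₀ a₀ u₁ a₁ hQu₁ hQa₁)
    (Cfsg.Agent.Lib.H11.OmegaTrans.gram_pair Q u₀ a₀ u₁ a₁ hQu₁ hQa₁
      (by rw [P_comm Q u₁ a₁, ha₁1, P_comm Q u₀ a₀, hT.1])) (by omega)
  have h0 : act Q g0 u₀ = u₁ := hg0 0
  have h1 : act Q g0 a₀ = a₁ := hg0 1
  have hg0M : (g0 : GL (Fin n) F) ∈ M := hNM (iso_mem_N Q g0 hdet)
  have hT' := TT_conj Q M hT g0 hg0M
  rw [h0, h1] at hT'
  have := TT_comm Q M hT hT' hau₁
  rw [ha₁0, neg_neg] at this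
  exact this

/-- Claim 2 -/
theorem TT_all_left6 (u₀ a₀ : Fin n → F) (hT : TT Q M u₀ a₀) (hu₀ : u₀ ≠ 0) (ha₀ : Q a₀ ≠ 0)
    (u : Fin n → F) (hau : P a₀ u = 0) : TT Q M u a₀ := by
  obtain ⟨Y, hY⟩ : ∃ Y : Submodule F (Fin n → F),
      ∀ v, v ∈ Y ↔ (P a₀ v = 0 ∧ ∀ lam : F, TT Q M (lam • v) a₀) := by
    refine ⟨{ carrier := {v | P a₀ v = 0 ∧ ∀ lam : F, TT Q M (lam • v) a₀}
              add_mem' := ?_
              zero_mem' := ?_
              smul_mem' := ?_ }, fun v => Iff.rfl⟩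
    · rintro v w ⟨hv1, hv2⟩ ⟨hw1, hw2⟩
      refine ⟨by rw [QuadraticMap.polar_add_right, hv1, hw1, add_zero], fun lam => ?_⟩
      rw [smul_add]
      exact TT_add_left Q M (hv2 lam) (hw2 lam)
    · refine ⟨by simp, fun lam => ?_⟩
      rw [smul_zero]
      exact TT_zero_left Q M a₀
    · rintro c v ⟨hv1, hv2⟩
      refine ⟨by rw [QuadraticMap.polar_smul_right, hv1, smul_zero], fun lam => ?_⟩
      rw [smul_smul]
      exact hv2 _
  have h1 := span_level6 Q hQ h2 hn Y a₀ u₀ (Q u₀) (Or.inl ha₀) hT.1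
    (fun v hv1 hv2 hv3 => (hY v).2
      ⟨hv2, fun lam => TT_level6 Q hQ h2 hn M hNM u₀ a₀ hT hu₀ ha₀ v hv2 hv1 hv3 lam⟩) u hau
  have h3 := ((hY u).1 h1).2 1
  rwa [one_smul] at h3

/-- Claim 3 -/
theorem TT_all_level6 (u₀ a₀ : Fin n → F) (hT : TT Q M u₀ a₀) (hu₀ : u₀ ≠ 0) (ha₀ : Q a₀ ≠ 0)
    (a : Fin n → F) (hQa : Q a = Q a₀) (u : Fin n → F) (hau : P a u = 0) : TT Q M u a := by
  have ha0 : a₀ ≠ 0 := by
    rintro rfl
    exact ha₀ (QuadraticMap.map_zero _)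
  have ha0' : a ≠ 0 := by
    rintro rfl
    rw [QuadraticMap.map_zero] at hQa
    exact ha₀ hQa.symm
  obtain ⟨g0, hdet, hg0⟩ := witt_det_one Q hQ 1 (fun _ => a₀) (fun _ => a)
    (linearIndependent_unique_iff.2 ha0) (linearIndependent_unique_iff.2 ha0')
    (fun _ => hQa) (fun _ _ => by rw [P_self, P_self, hQa]) (by omega)
  have h0 : act Q g0 a₀ = a := hg0 0
  have hg0M : (g0 : GL (Fin n) F) ∈ M := hNM (iso_mem_N Q g0 hdet)
  have h1 : P a₀ (act Q g0⁻¹ u) = 0 := by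
    rw [← polar_act Q g0, h0, Cfsg.Agent.Lib.H11.OmegaTrans.act_inv_act]
    exact hau
  have hT' := TT_all_left6 Q hQ h2 hn M hNM u₀ a₀ hT hu₀ ha₀ _ h1
  have := TT_conj Q M hT' g0 hg0M
  rwa [h0, Cfsg.Agent.Lib.H11.OmegaTrans.act_inv_act] at this

/-- Claim 4 -/
theorem TT_all6 (u₀ a₀ : Fin n → F) (hT : TT Q M u₀ a₀) (hu₀ : u₀ ≠ 0) (ha₀ : Q a₀ ≠ 0)
    (u z : Fin n → F) (hzu : P z u = 0) : TT Q M u z := by
  obtain ⟨Z, hZ⟩ : ∃ Z : Submodule F (Fin n → F),
      ∀ v, v ∈ Z ↔ (P v u = 0 ∧ ∀ lam : F, TT Q M (lam • u) v) := by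
    refine ⟨{ carrier := {v | P v u = 0 ∧ ∀ lam : F, TT Q M (lam • u) v}
              add_mem' := ?_
              zero_mem' := ?_
              smul_mem' := ?_ }, fun v => Iff.rfl⟩
    · rintro v w ⟨hv1, hv2⟩ ⟨hw1, hw2⟩
      refine ⟨by rw [QuadraticMap.polar_add_left, hv1, hw1, add_zero], fun lam => ?_⟩
      exact TT_add_right Q M (hv2 lam) (hw2 lam)
    · refine ⟨by simp, fun lam => ?_⟩
      exact TT_zero_right Q M _
    · rintro c v ⟨hv1, hv2⟩
      refine ⟨by rw [QuadraticMap.polar_smul_left, hv1, smul_zero], fun lam => ?_⟩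
      rw [← TT_smul_swap, smul_smul]
      exact hv2 _
  have h1 := span_level6 Q hQ h2 hn Z u 0 (Q a₀) (Or.inr rfl) (by simp)
    (fun v hv1 hv2 _ => (hZ v).2
      ⟨by rw [P_comm]; exact hv2, fun lam => TT_all_level6 Q hQ h2 hn M hNM u₀ a₀ hT hu₀ ha₀ v hv1
        (lam • u) (by rw [QuadraticMap.polar_smul_right, P_comm, hv2, smul_zero])⟩) z
    (by rw [P_comm]; exact hzu)
  have h3 := ((hZ z).1 h1).2 1
  rwa [one_smul] at h3

/-- an overgroup of `N` containing one transvection of orthogonal type contains `SL` -/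
theorem sl_le_of_TT (u₀ a₀ : Fin n → F) (hT : TT Q M u₀ a₀) (hu₀ : u₀ ≠ 0) (ha₀ : Q a₀ ≠ 0) :
    Cfsg.Geo.specialLinear (Fin n) F ≤ M := by
  have : Nontrivial (Fin n) := by
    rw [← Fintype.one_lt_card_iff_nontrivial, Fintype.card_fin]; omega
  apply sl_le_of_tvGL
  intro φ u hφ
  obtain ⟨z, rfl⟩ := exists_fr Q hQ φ
  obtain ⟨-, g, hg, hgx⟩ := TT_all6 Q hQ h2 hn M hNM u₀ a₀ hT hu₀ ha₀ u z hφ
  have : tvGL (fr Q z) u hφ = g := gl_ext (fun x => by rw [tvGL_mulVec, hgx, fr_apply])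
  rw [this]
  exact hg

end main

/-- the similarity group of a quadratic form meets `SL` in a proper subgroup (`5 ≤ n`) -/
theorem sim_lt6 [Fintype F] (hQ : (QuadraticMap.polarBilin Q).Nondegenerate) (hn : 5 ≤ n) :
    Cfsg.Geo.quadSimilarityGroup (⇑Q) ⊓ Cfsg.Geo.specialLinear (Fin n) F <
      Cfsg.Geo.specialLinear (Fin n) F := by
  refine lt_of_le_of_ne inf_le_right ?_
  intro heq
  obtain ⟨e, f, e', f', hQe, hQf, hQe', hQf', hef, hef', hee', hef'', hfe', hff'⟩ :=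
    exists_two_pairs Q hQ hn
  have h0 : fr Q e' e = 0 := by rw [fr_apply, P_comm]; exact hee'
  have hmem : tvGL (fr Q e') e h0 ∈
      Cfsg.Geo.quadSimilarityGroup (⇑Q) ⊓ Cfsg.Geo.specialLinear (Fin n) F := by
    rw [heq]; exact tvGL_mem_specialLinear _ _ _
  obtain ⟨c, hc⟩ := hmem.1
  have h1 := hc (f + f')
  rw [tvGL_mulVec, fr_apply, QuadraticMap.polar_add_right, P_comm Q e' f, hfe', hef', zero_add,
    one_smul, Q_add, Q_add, hQf, hQf', hQe, hff', QuadraticMap.polar_add_left, P_comm Q f e, hef,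
    P_comm Q f' e, hef''] at h1
  simp at h1

end Cfsg.Agent.Lib.H24.OrMax6
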