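import Cfsg.Agent.Lib.H24.OrMax6

/-!
# `GO(Q) ∩ SL` maximal in `SL_n(F)`, `q` odd, for `6 ≤ n` (helper24)

Step A for `6 ≤ n` (an overgroup of `N = GO(Q) ∩ SL` containing a non-similarity contains a transvection of
orthogonal type) and the assembly with `Lib/H24/OrMax6` (Step B).

Step A: witness `(a, c)` and `b` as in helper11's `OrMax5`; the second reflection is `r_{c₁}` for any
non-singular `c₁ ∉ F c` in `D = {x | h⁻¹x ⟂ a, b; x ⟂ h b}` (`c`, `c₁` need not be orthogonal); with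
`ρ = r_c r_{c₁}`, `g = h⁻¹ ρ h`, `k = r_a r_b` one has `g k = t k g` for the transvection
`t = x ↦ x + P a x • u₀`, `u₀ = (g a - a)/Q a` (variant suggested by helper14).
-/

set_option autoImplicit false
set_option linter.unusedSimpArgs false
set_option linter.unusedSectionVars false
set_option linter.unusedVariables false

namespace Cfsg.Agent.Lib.H24.OrMax6

open Matrix Module
open Cfsg.Agent.Lib.H28 Cfsg.Agent.Lib.H11.SubspMax
open Cfsg.Agent.Lib.H11.CD Cfsg.Agent.Lib.H11.SiegelGen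
open Cfsg.Agent.Lib.H11.OrMax Cfsg.Agent.Lib.H2.OrMaxLow

variable {F : Type*} [Field F] {n : ℕ} (Q : QuadraticForm F (Fin n → F))

set_option quotPrecheck false in
local notation "P" => QuadraticMap.polar (⇑Q)

/-- the product of two reflections (not necessarily orthogonal) -/
theorem rr_mulVec_gen (v w : Fin n → F) (hv : Q v ≠ 0) (hw : Q w ≠ 0) (x : Fin n → F) :
    (((rr Q v w hv hw : ↥(Cfsg.isometryGroup F ⇑Q)) : GL (Fin n) F) :
      Matrix (Fin n) (Fin n) F) *ᵥ x =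
      x - ((Q w)⁻¹ * P w x) • w -
        ((Q v)⁻¹ * P v (x - ((Q w)⁻¹ * P w x) • w)) • v := by
  rw [act_def]
  unfold rr
  rw [act_mul, reflEl_act, reflEl_act]

/-- a non-zero vector killed by `k < n` functionals -/
theorem exists_ne_zero_ker {k : ℕ} (fs : Fin k → Dual F (Fin n → F)) (h : k < n) :
    ∃ x, x ≠ 0 ∧ ∀ i, fs i x = 0 := by
  have h1 := finrank_ker_pi fs
  have h2 : 0 < finrank F (LinearMap.ker (LinearMap.pi fs)) := by omega
  rw [Module.finrank_pos_iff_exists_ne_zero] at h2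
  obtain ⟨x, hx⟩ := h2
  refine ⟨(x : Fin n → F), fun h0 => hx (Subtype.ext h0), (mem_ker_pi fs _).1 x.2⟩

/-- Step A for `6 ≤ n`: an overgroup of `N` containing a non-similarity contains a transvection of
orthogonal type -/
theorem exists_tv_in6 [Fintype F] (hQ : (QuadraticMap.polarBilin Q).Nondegenerate)
    (h2 : (2 : F) ≠ 0) (hn : 6 ≤ n) (M : Subgroup (GL (Fin n) F))
    (hNM : Cfsg.Geo.quadSimilarityGroup (⇑Q) ⊓ Cfsg.Geo.specialLinear (Fin n) F ≤ M)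
    (h : GL (Fin n) F) (hhM : h ∈ M) (hh : h ∉ Cfsg.Geo.quadSimilarityGroup (⇑Q)) :
    ∃ (u a : Fin n → F) (hua : fr Q a u = 0), u ≠ 0 ∧ Q a ≠ 0 ∧ tvGL (fr Q a) u hua ∈ M := by
  obtain ⟨a, c, hQa, hQc, hac, hne⟩ := exists_witness Q hQ h2 (by omega) h hh
  obtain ⟨hm, hhm⟩ : ∃ hm : Matrix (Fin n) (Fin n) F, hm = (h : Matrix (Fin n) (Fin n) F) :=
    ⟨_, rfl⟩
  obtain ⟨hi, hhi⟩ : ∃ hi : Matrix (Fin n) (Fin n) F,
    hi = ((h⁻¹ : GL (Fin n) F) : Matrix (Fin n) (Fin n) F) := ⟨_, rfl⟩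
  rw [← hhm] at hne
  rw [← hhi] at hac
  have hihm : ∀ x, hi *ᵥ (hm *ᵥ x) = x := fun x => by rw [hhi, hhm, gl_inv_mulVec]
  have hmhi : ∀ x, hm *ᵥ (hi *ᵥ x) = x := fun x => by rw [hhi, hhm, gl_mulVec_inv]
  -- the vector b
  obtain ⟨b, hb, hQb⟩ := exists_nonsing_ker' Q hQ
    ![fr Q a, fr Q (hi *ᵥ c), (fr Q c).comp (Matrix.mulVecLin hm)] a hQa 0 rfl (by omega)
  have hab : P a b = 0 := hb 0
  have hxb : P (hi *ᵥ c) b = 0 := hb 1
  have hcb : P c (hm *ᵥ b) = 0 := hb 2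
  have hbx : P b (hi *ᵥ c) = 0 := by rw [P_comm]; exact hxb
  have hbc : P (hm *ᵥ b) c = 0 := by rw [P_comm]; exact hcb
  -- a non-zero vector `w` of `D ∩ c^⊥`
  obtain ⟨w, hw0, hw⟩ := exists_ne_zero_ker
    ![(fr Q a).comp (Matrix.mulVecLin hi), (fr Q b).comp (Matrix.mulVecLin hi),
      fr Q (hm *ᵥ b), fr Q c] (by omega)
  have w1 : P a (hi *ᵥ w) = 0 := hw 0
  have w2 : P b (hi *ᵥ w) = 0 := hw 1
  have w3 : P (hm *ᵥ b) w = 0 := hw 2
  have w4 : P c w = 0 := hw 3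
  -- the second non-singular vector
  obtain ⟨c₁, hQc₁, k1, k2, k3, hind⟩ : ∃ c₁, Q c₁ ≠ 0 ∧ P a (hi *ᵥ c₁) = 0 ∧
      P b (hi *ᵥ c₁) = 0 ∧ P (hm *ᵥ b) c₁ = 0 ∧
      ∀ s t : F, s • c + t • c₁ = 0 → s = 0 ∧ t = 0 := by
    by_cases hs : Q c + Q w = 0
    · refine ⟨w, ?_, w1, w2, w3, ?_⟩
      · intro h0
        rw [h0, add_zero] at hs
        exact hQc hs
      · intro s t hst
        have e : P c (s • c + t • w) = 0 := by rw [hst]; simp
        rw [QuadraticMap.polar_add_right, QuadraticMap.polar_smul_right,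
          QuadraticMap.polar_smul_right, w4, P_self, smul_zero, add_zero, smul_eq_mul] at e
        have hs0 : s = 0 := (mul_eq_zero.1 e).resolve_right (mul_ne_zero h2 hQc)
        subst hs0
        rw [zero_smul, zero_add] at hst
        exact ⟨rfl, (smul_eq_zero.1 hst).resolve_right hw0⟩
    · refine ⟨c + w, ?_, ?_, ?_, ?_, ?_⟩
      · rw [Q_add, w4, add_zero]; exact hs
      · rw [Matrix.mulVec_add, QuadraticMap.polar_add_right, hac, w1, add_zero]
      · rw [Matrix.mulVec_add, QuadraticMap.polar_add_right, hbx, w2, add_zero]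
      · rw [QuadraticMap.polar_add_right, hbc, w3, add_zero]
      · intro s t hst
        have e : P c (s • c + t • (c + w)) = 0 := by rw [hst]; simp
        rw [QuadraticMap.polar_add_right, QuadraticMap.polar_smul_right,
          QuadraticMap.polar_smul_right, QuadraticMap.polar_add_right, w4, P_self, add_zero,
          smul_eq_mul, smul_eq_mul, ← add_mul] at e
        have hst0 : s + t = 0 := (mul_eq_zero.1 e).resolve_right (mul_ne_zero h2 hQc)
        have e2 : t • w = 0 := by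
          have : s • c + t • (c + w) = (s + t) • c + t • w := by module
          rw [this, hst0, zero_smul, zero_add] at hst
          exact hst
        have ht : t = 0 := (smul_eq_zero.1 e2).resolve_right hw0
        rw [ht, add_zero] at hst0
        exact ⟨hst0, ht⟩
  -- the elements
  obtain ⟨ρ, hρ⟩ : ∃ ρ : GL (Fin n) F,
    ρ = ((rr Q c c₁ hQc hQc₁ : ↥(Cfsg.isometryGroup F ⇑Q)) : GL (Fin n) F) := ⟨_, rfl⟩
  obtain ⟨k0, hk0⟩ : ∃ k0 : GL (Fin n) F,
    k0 = ((rr Q a b hQa hQb : ↥(Cfsg.isometryGroup F ⇑Q)) : GL (Fin n) F) := ⟨_, rfl⟩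
  have hρM : ρ ∈ M := by rw [hρ]; exact hNM (rr_mem_N Q c c₁ hQc hQc₁)
  have hk0M : k0 ∈ M := by rw [hk0]; exact hNM (rr_mem_N Q a b hQa hQb)
  obtain ⟨g, hg⟩ : ∃ g : GL (Fin n) F, g = h⁻¹ * ρ * h := ⟨_, rfl⟩
  have hgM : g ∈ M := by rw [hg]; exact M.mul_mem (M.mul_mem (M.inv_mem hhM) hρM) hhM
  have k_act : ∀ v, (k0 : Matrix (Fin n) (Fin n) F) *ᵥ v =
      v - ((Q a)⁻¹ * P a v) • a - ((Q b)⁻¹ * P b v) • b := by
    intro v
    rw [hk0, rr_mulVec Q a b hQa hQb hab]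
  -- the action of `g`
  have g_act : ∀ v, (g : Matrix (Fin n) (Fin n) F) *ᵥ v =
      v - ((Q c₁)⁻¹ * P c₁ (hm *ᵥ v)) • (hi *ᵥ c₁) -
        ((Q c)⁻¹ * P c (hm *ᵥ v - ((Q c₁)⁻¹ * P c₁ (hm *ᵥ v)) • c₁)) • (hi *ᵥ c) := by
    intro v
    rw [hg, gl_mul_mulVec, gl_mul_mulVec, hρ, rr_mulVec_gen, ← hhi, ← hhm,
      Matrix.mulVec_sub, Matrix.mulVec_sub, Matrix.mulVec_smul, Matrix.mulVec_smul, hihm]
  have F1 : ∀ v, P a ((g : Matrix (Fin n) (Fin n) F) *ᵥ v) = P a v := by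
    intro v
    rw [g_act, QuadraticMap.polar_sub_right, QuadraticMap.polar_sub_right,
      QuadraticMap.polar_smul_right, QuadraticMap.polar_smul_right, hac, k1]
    simp
  have F2 : ∀ v, P b ((g : Matrix (Fin n) (Fin n) F) *ᵥ v) = P b v := by
    intro v
    rw [g_act, QuadraticMap.polar_sub_right, QuadraticMap.polar_sub_right,
      QuadraticMap.polar_smul_right, QuadraticMap.polar_smul_right, hbx, k2]
    simp
  have F3 : (g : Matrix (Fin n) (Fin n) F) *ᵥ b = b := by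
    rw [g_act, P_comm Q c₁ (hm *ᵥ b), k3, mul_zero, zero_smul, sub_zero, zero_smul, sub_zero, hcb,
      mul_zero, zero_smul, sub_zero]
  have F4 : (g : Matrix (Fin n) (Fin n) F) *ᵥ a ≠ a := by
    intro heq
    rw [g_act] at heq
    have e1 : ((Q c)⁻¹ * P c (hm *ᵥ a - ((Q c₁)⁻¹ * P c₁ (hm *ᵥ a)) • c₁)) • (hi *ᵥ c) +
        ((Q c₁)⁻¹ * P c₁ (hm *ᵥ a)) • (hi *ᵥ c₁) = 0 := by
      have : a - ((Q c₁)⁻¹ * P c₁ (hm *ᵥ a)) • (hi *ᵥ c₁) -
        ((Q c)⁻¹ * P c (hm *ᵥ a - ((Q c₁)⁻¹ * P c₁ (hm *ᵥ a)) • c₁)) • (hi *ᵥ c) - a = 0 := by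
        rw [heq, sub_self]
      rw [← neg_eq_zero, ← this]
      abel
    have e2 := congrArg (fun x => hm *ᵥ x) e1
    simp only [Matrix.mulVec_add, Matrix.mulVec_smul, hmhi, Matrix.mulVec_zero] at e2
    obtain ⟨hB, hA⟩ := hind _ _ e2
    rw [hA, zero_smul, sub_zero] at hB
    rcases mul_eq_zero.1 hB with h0 | h0
    · exact inv_ne_zero hQc h0
    · apply hne
      rw [P_comm]; exact h0
  -- the transvection
  obtain ⟨u₀, hu₀⟩ : ∃ u₀ : Fin n → F,
    u₀ = (Q a)⁻¹ • ((g : Matrix (Fin n) (Fin n) F) *ᵥ a - a) := ⟨_, rfl⟩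
  have hua : fr Q a u₀ = 0 := by
    rw [fr_apply, hu₀, QuadraticMap.polar_smul_right, QuadraticMap.polar_sub_right, F1, sub_self,
      smul_zero]
  have hu₀0 : u₀ ≠ 0 := by
    rw [hu₀]
    exact smul_ne_zero (inv_ne_zero hQa) (sub_ne_zero.2 F4)
  have key : g * k0 = tvGL (fr Q a) u₀ hua * k0 * g := by
    apply gl_ext
    intro v
    rw [gl_mul_mulVec, gl_mul_mulVec, gl_mul_mulVec, tvGL_mulVec, fr_apply,
      k_act v, k_act ((g : Matrix (Fin n) (Fin n) F) *ᵥ v), F1, F2,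
      Matrix.mulVec_sub, Matrix.mulVec_sub, Matrix.mulVec_smul, Matrix.mulVec_smul, F3,
      QuadraticMap.polar_sub_right, QuadraticMap.polar_sub_right,
      QuadraticMap.polar_smul_right, QuadraticMap.polar_smul_right, F1, hab, P_self, hu₀]
    obtain ⟨A, hA⟩ : ∃ A, A = P a v := ⟨_, rfl⟩
    rw [← hA]
    have e : A - ((Q a)⁻¹ * A) • (2 * Q a) - ((Q b)⁻¹ * P b v) • (0 : F) = -A := by
      simp only [smul_eq_mul, mul_zero, sub_zero]
      field_simp
      ring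
    rw [e]
    module
  have htM : tvGL (fr Q a) u₀ hua ∈ M := by
    have e : tvGL (fr Q a) u₀ hua = g * k0 * g⁻¹ * k0⁻¹ := by
      rw [key]; group
    rw [e]
    exact M.mul_mem (M.mul_mem (M.mul_mem hgM hk0M) (M.inv_mem hgM)) (M.inv_mem hk0M)
  exact ⟨u₀, a, hua, hu₀0, hQa, htM⟩

/-- an overgroup of `N` containing a non-similarity contains `SL` (`6 ≤ n`) -/
theorem sl_le6 [Fintype F] (hQ : (QuadraticMap.polarBilin Q).Nondegenerate) (h2 : (2 : F) ≠ 0)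
    (hn : 6 ≤ n) (M : Subgroup (GL (Fin n) F))
    (hNM : Cfsg.Geo.quadSimilarityGroup (⇑Q) ⊓ Cfsg.Geo.specialLinear (Fin n) F ≤ M)
    (h : GL (Fin n) F) (hhM : h ∈ M)
    (hh : h ∉ Cfsg.Geo.quadSimilarityGroup (⇑Q)) : Cfsg.Geo.specialLinear (Fin n) F ≤ M := by
  obtain ⟨u₀, a₀, hua, hu₀, ha₀, hmem⟩ := exists_tv_in6 Q hQ h2 hn M hNM h hhM hh
  have hT : TT Q M u₀ a₀ := ⟨hua, _, hmem, fun x => by rw [tvGL_mulVec, fr_apply]⟩
  exact sl_le_of_TT Q hQ h2 hn M hNM u₀ a₀ hT hu₀ ha₀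

/-- `GO(Q) ∩ SL` is maximal in `SL_n(F)`, `q` odd, `6 ≤ n` -/
theorem quad_sim_maximal [Fintype F] (hQ : (QuadraticMap.polarBilin Q).Nondegenerate)
    (h2 : (2 : F) ≠ 0) (hn : 6 ≤ n) :
    Cfsg.Geo.IsMaximalIn (Cfsg.Geo.specialLinear (Fin n) F)
      (Cfsg.Geo.quadSimilarityGroup (⇑Q) ⊓ Cfsg.Geo.specialLinear (Fin n) F) := by
  refine ⟨sim_lt6 Q hQ (by omega), ?_⟩
  intro M hNM hMS
  by_cases hMN : M = Cfsg.Geo.quadSimilarityGroup (⇑Q) ⊓ Cfsg.Geo.specialLinear (Fin n) F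
  · left; exact hMN
  right
  apply le_antisymm hMS
  obtain ⟨h, hhM, hhN⟩ : ∃ h ∈ M, h ∉ Cfsg.Geo.quadSimilarityGroup (⇑Q) := by
    by_contra hcon
    push Not at hcon
    apply hMN
    apply le_antisymm _ hNM
    intro g hg
    exact ⟨hcon g hg, hMS hg⟩
  exact sl_le6 Q hQ h2 hn M hNM h hhM hhN

/-- the same in the vocabulary of the frozen statements (cf. `Cfsg/Agent/S5644.lean`,
`Lib/H2/OrMaxLow.quad_sim_maximal_of`), for `6 ≤ n` -/
theorem quad_sim_maximal_of {F : Type*} [Field F] [Fintype F] (n : ℕ) (hn : 6 ≤ n)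
    (hodd : Odd (Fintype.card F)) (Q : (Fin n → F) → F)
    (hQ : Cfsg.Geo.IsNondegenerateQuadraticForm Q) :
    Cfsg.Geo.IsMaximalIn (Cfsg.Geo.specialLinear (Fin n) F)
      (Cfsg.Geo.quadSimilarityGroup Q ⊓ Cfsg.Geo.specialLinear (Fin n) F) := by
  have h2 : (2 : F) ≠ 0 := by
    intro h0
    have h1 : ringChar F = 2 := CharP.ringChar_of_prime_eq_zero Nat.prime_two (by exact_mod_cast h0)
    rw [FiniteField.even_card_iff_char_two] at h1
    rw [Nat.odd_iff] at hodd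
    omega
  obtain ⟨B, hB⟩ : ∃ B : LinearMap.BilinMap F (Fin n → F) F, ∀ x y, B x y = QuadraticMap.polar Q x y :=
    ⟨LinearMap.mk₂ F (QuadraticMap.polar Q) hQ.polar_bilinear.add_left
      hQ.polar_bilinear.smul_left hQ.polar_bilinear.add_right hQ.polar_bilinear.smul_right,
      fun x y => rfl⟩
  obtain ⟨Qf, hQf⟩ : ∃ Qf : QuadraticForm F (Fin n → F), ⇑Qf = Q :=
    ⟨{ toFun := Q
       toFun_smul := fun a x => by rw [hQ.smul, pow_two, smul_eq_mul]
       exists_companion' := ⟨B, fun x y => by rw [hB]; unfold QuadraticMap.polar; ring⟩ }, rfl⟩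
  have hnd : (QuadraticMap.polarBilin Qf).Nondegenerate := by
    constructor
    · intro x hx
      by_contra hne
      obtain ⟨-, y, hy⟩ := hQ.nondegenerate x hne
      apply hy
      have := hx y
      rw [QuadraticMap.polarBilin_apply_apply, hQf] at this
      exact this
    · intro x hx
      by_contra hne
      obtain ⟨⟨y, hy⟩, -⟩ := hQ.nondegenerate x hne
      apply hy
      have := hx y
      rw [QuadraticMap.polarBilin_apply_apply, hQf] at this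
      exact this
  have := quad_sim_maximal Qf hnd h2 hn
  rw [hQf] at this
  exact this

end Cfsg.Agent.Lib.H24.OrMax6
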