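import Mathlib
import Cfsg.Agent.Lib.L0.TildeVal
import Cfsg.Agent.Lib.L0.FiniteOrderEnd
import Cfsg.Agent.Lib.H24.CharBasic

/-!
# `p`-conjugate characters (helper24)

* `ringEquiv_char_eq_of_pow_eq_one`: a field automorphism of `ℂ` fixing `exp(2πi/n)` fixes the
  character values at elements `g` with `g ^ n = 1`.
-/

set_option autoImplicit false

namespace Cfsg.Agent.Lib.H24.PConj

open Cfsg Cfsg.Agent.Lib.H24 Cfsg.Agent.Lib.L0 Cfsg.Agent.Lib.H23 Cfsg.Agent.Lib.L0.Tilde Module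
open scoped ComplexConjugate

section Fix

variable {G : Type*} [Group G] {V : Type*} [AddCommGroup V] [Module ℂ V] [FiniteDimensional ℂ V]

theorem ringEquiv_char_eq_of_pow_eq_one (σ : ℂ ≃+* ℂ) (n : ℕ) (hn : n ≠ 0)
    (hσ : σ (Complex.exp (2 * Real.pi * Complex.I / (n : ℂ)))
      = Complex.exp (2 * Real.pi * Complex.I / (n : ℂ)))
    (ρ : Representation ℂ G V) (g : G) (hg : g ^ n = 1) :
    σ (ρ.character g) = ρ.character g := by
  classical
  haveI : NeZero n := ⟨hn⟩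
  have hprim := Complex.isPrimitiveRoot_exp n hn
  obtain ⟨f, hfdef⟩ : ∃ f : Module.End ℂ V, f = ρ g := ⟨_, rfl⟩
  have hfn : f ^ n = 1 := by rw [hfdef, ← map_pow, hg, map_one]
  have hf := isSemisimple_of_pow_eq_one (Nat.pos_of_ne_zero hn) hfn
  have h1 : ρ.character g = ∑ μ : f.Eigenvalues,
      (finrank ℂ (f.eigenspace (μ : ℂ)) : ℂ) * (μ : ℂ) := by
    have := trace_pow_eq_sum hf 1
    simp only [pow_one] at this
    rw [← this, hfdef]
    rfl
  rw [h1, map_sum]
  refine Finset.sum_congr rfl fun μ _ => ?_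
  rw [map_mul, map_natCast]
  congr 1
  obtain ⟨i, _, hi⟩ := hprim.eq_pow_of_pow_eq_one (eigenvalue_pow_eq_one hfn μ)
  rw [← hi, map_pow, hσ]

end Fix

end Cfsg.Agent.Lib.H24.PConj
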