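import Mathlib
import Cfsg.Agent.Lib.H24.PConjA

/-!
# `p`-conjugate characters: the degree bound (helper24)

For a finite set `S` of irreducible characters that agree with `χ` on the `p`-regular elements
(`χ ∈ S`), `r = #S`, `z = [χ̃, χ]`:
* `pconj_ineq`: `0 < z`, `p ^ ν_p(χ(1)) ∣ z`, `r z ≤ p^a`, and in case of equality the sum `T` of the
  members of `S` vanishes on the `p`-singular elements.
-/

set_option autoImplicit false

namespace Cfsg.Agent.Lib.H24.PConj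

open Cfsg Cfsg.Agent.Lib.H24 Cfsg.Agent.Lib.L0 Cfsg.Agent.Lib.H23 Cfsg.Agent.Lib.L0.Tilde Module
open scoped ComplexConjugate

variable {G : Type*} [Group G] [Fintype G]

theorem pow_ordCompl_eq_one {p : ℕ} (hp : p.Prime) (g : G) (hg : ¬ p ∣ orderOf g) :
    g ^ (Nat.card G / p ^ (Nat.card G).factorization p) = 1 := by
  apply orderOf_dvd_iff_pow_eq_one.1
  have h1 : orderOf g ∣ Nat.card G := orderOf_dvd_natCard g
  have hsplit := Nat.ordProj_mul_ordCompl_eq_self (Nat.card G) p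
  rw [← hsplit] at h1
  have hcop : Nat.Coprime (orderOf g) (p ^ (Nat.card G).factorization p) :=
    Nat.Coprime.pow_right _ ((Nat.Prime.coprime_iff_not_dvd hp).2 hg).symm
  exact hcop.dvd_of_dvd_mul_left h1

theorem classInner_sum_irr_self (S : Finset (IrrCharacter G)) :
    classInner (∑ ψ ∈ S, (ψ : G → ℂ)) (∑ ψ ∈ S, (ψ : G → ℂ)) = (S.card : ℂ) := by
  classical
  rw [classInner_sum_left]
  have h1 : ∀ ψ ∈ S, classInner (ψ : G → ℂ) (∑ ψ' ∈ S, (ψ' : G → ℂ)) = 1 := by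
    intro ψ hψ
    rw [classInner_sum_right, Finset.sum_eq_single ψ]
    · exact irr_classInner_self ψ.2
    · intro ψ' _ hne
      exact irr_classInner_ne ψ.2 ψ'.2 (fun h => hne (Subtype.ext h.symm))
    · intro h
      exact absurd hψ h
  rw [Finset.sum_congr rfl h1, Finset.sum_const, nsmul_eq_mul, mul_one]

theorem pconj_ineq {p : ℕ} (hp : p.Prime) (χ : IrrCharacter G) (S : Finset (IrrCharacter G))
    (hχS : χ ∈ S)
    (hS : ∀ ψ ∈ S, ∀ g : G, ¬ p ∣ orderOf g → (ψ : G → ℂ) g = (χ : G → ℂ) g) :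
    ∃ z : ℕ, 0 < z ∧ p ^ (charDegree (χ : G → ℂ)).factorization p ∣ z ∧
      S.card * z ≤ p ^ (Nat.card G).factorization p ∧
      (S.card * z = p ^ (Nat.card G).factorization p →
        ∀ g : G, p ∣ orderOf g → ∑ ψ ∈ S, (ψ : G → ℂ) g = 0) := by
  classical
  obtain ⟨a, ha⟩ : ∃ a, a = (Nat.card G).factorization p := ⟨_, rfl⟩
  obtain ⟨r, hr⟩ : ∃ r, r = S.card := ⟨_, rfl⟩
  have hr0 : 0 < r := by rw [hr]; exact Finset.card_pos.2 ⟨χ, hχS⟩
  obtain ⟨T, hT⟩ : ∃ T : G → ℂ, T = ∑ ψ ∈ S, (ψ : G → ℂ) := ⟨_, rfl⟩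
  have hG : (Nat.card G : ℂ) ≠ 0 := by exact_mod_cast (Nat.card_pos (α := G)).ne'
  have hGpos : (0 : ℝ) < (Nat.card G : ℝ) := by exact_mod_cast (Nat.card_pos (α := G))
  have hpa : ((p ^ a : ℕ) : ℂ) ≠ 0 := by exact_mod_cast (pow_pos hp.pos a).ne'
  have hpapos : (0 : ℝ) < ((p ^ a : ℕ) : ℝ) := by exact_mod_cast (pow_pos hp.pos a)
  -- `[T,T] = r`
  have hTT : ∑ g : G, T g * conj (T g) = (Nat.card G : ℂ) * (r : ℂ) := by
    have h1 := classInner_sum_irr_self S
    rw [← hT, ← hr] at h1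
    unfold Cfsg.classInner at h1
    rw [← h1, ← mul_assoc, mul_inv_cancel₀ hG, one_mul]
  -- `T = r χ` on `p`-regular elements
  have hTreg : ∀ g : G, ¬ p ∣ orderOf g → T g = (r : ℂ) * (χ : G → ℂ) g := by
    intro g hg
    rw [hT, Finset.sum_apply, Finset.sum_congr rfl (fun ψ hψ => hS ψ hψ g hg), Finset.sum_const,
      nsmul_eq_mul, hr]
  -- the integer `z`
  obtain ⟨z, hz⟩ := AA_int hp (isCharacter_of_irr χ.2) χ
  have hdvd := pow_dvd_AA hp χ χ z hz
  rw [AA_eq, ← ha] at hz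
  -- real sums
  obtain ⟨A, hA⟩ : ∃ A : ℝ, A = ∑ x : G,
      (if p ∣ orderOf x then 0 else Complex.normSq ((χ : G → ℂ) x)) := ⟨_, rfl⟩
  obtain ⟨Q, hQ⟩ : ∃ Q : ℝ, Q = ∑ x : G,
      (if p ∣ orderOf x then Complex.normSq (T x) else 0) := ⟨_, rfl⟩
  have hAc : ∑ x : G, (if p ∣ orderOf x then 0 else (χ : G → ℂ) x * conj ((χ : G → ℂ) x))
      = (A : ℂ) := by
    rw [hA, Complex.ofReal_sum]
    refine Finset.sum_congr rfl fun x _ => ?_
    split_ifs
    · simp
    · rw [Complex.mul_conj]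
  rw [hAc] at hz
  have hsplit : ∑ g : G, T g * conj (T g) = ((r : ℂ) ^ 2) * (A : ℂ) + (Q : ℂ) := by
    rw [hA, hQ, Complex.ofReal_sum, Complex.ofReal_sum, Finset.mul_sum, ← Finset.sum_add_distrib]
    refine Finset.sum_congr rfl fun x _ => ?_
    by_cases hx : p ∣ orderOf x
    · rw [if_pos hx, if_pos hx, Complex.mul_conj]
      simp
    · rw [if_neg hx, if_neg hx, hTreg x hx, Complex.mul_conj]
      simp only [Complex.normSq_mul, Complex.normSq_natCast, Complex.ofReal_mul,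
        Complex.ofReal_natCast, Complex.ofReal_zero, add_zero]
      ring
  -- real equations
  have hzR : ((p ^ a : ℕ) : ℝ) * A = (z : ℝ) * (Nat.card G : ℝ) := by
    have h1 : ((p ^ a : ℕ) : ℂ) * (A : ℂ) = (z : ℂ) * (Nat.card G : ℂ) := by
      rw [← hz]
      field_simp
    exact_mod_cast h1
  have hmain : (r : ℝ) ^ 2 * A + Q = (Nat.card G : ℝ) * (r : ℝ) := by
    have h1 : ((r : ℂ) ^ 2) * (A : ℂ) + (Q : ℂ) = (Nat.card G : ℂ) * (r : ℂ) := by
      rw [← hsplit, hTT]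
    exact_mod_cast h1
  have hQ0 : 0 ≤ Q := by
    rw [hQ]
    refine Finset.sum_nonneg fun x _ => ?_
    split_ifs
    · exact Complex.normSq_nonneg _
    · exact le_refl _
  have hApos : 0 < A := by
    rw [hA]
    refine Finset.sum_pos' (fun x _ => ?_) ⟨1, Finset.mem_univ _, ?_⟩
    · split_ifs
      · exact le_refl _
      · exact Complex.normSq_nonneg _
    · rw [if_neg (by rw [orderOf_one]; exact hp.one_lt.ne' ∘ Nat.dvd_one.1)]
      exact Complex.normSq_pos.2 (irr_one_ne_zero χ)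
  have hzpos : 0 < z := by
    have h1 : (0 : ℝ) < (z : ℝ) * (Nat.card G : ℝ) := by
      rw [← hzR]; exact mul_pos hpapos hApos
    have h2 : (0 : ℝ) < (z : ℝ) := by
      by_contra hcon
      push Not at hcon
      have := mul_nonpos_of_nonpos_of_nonneg hcon hGpos.le
      linarith
    exact_mod_cast h2
  -- `Q p^a = |G| r (p^a - r z)`
  have hkey : Q * ((p ^ a : ℕ) : ℝ)
      = (Nat.card G : ℝ) * (r : ℝ) * (((p ^ a : ℕ) : ℝ) - (r : ℝ) * (z : ℝ)) := by
    have h1 : Q = (Nat.card G : ℝ) * (r : ℝ) - (r : ℝ) ^ 2 * A := by linarith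
    rw [h1, sub_mul, mul_assoc ((r : ℝ) ^ 2), mul_comm A, hzR]
    ring
  have hrR : (0 : ℝ) < (r : ℝ) := by exact_mod_cast hr0
  have hle : (r : ℝ) * (z : ℝ) ≤ ((p ^ a : ℕ) : ℝ) := by
    by_contra hcon
    push Not at hcon
    have h1 : Q * ((p ^ a : ℕ) : ℝ) < 0 := by
      rw [hkey]
      exact mul_neg_of_pos_of_neg (mul_pos hGpos hrR) (by linarith)
    have h2 : 0 ≤ Q * ((p ^ a : ℕ) : ℝ) := mul_nonneg hQ0 hpapos.le
    linarith
  refine ⟨z.toNat, ?_, ?_, ?_, ?_⟩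
  · exact (Int.lt_toNat).2 (by exact_mod_cast hzpos)
  · have h1 : ((z.toNat : ℕ) : ℤ) = z := Int.toNat_of_nonneg hzpos.le
    have h2 : ((p ^ (charDegree (χ : G → ℂ)).factorization p : ℕ) : ℤ) ∣ ((z.toNat : ℕ) : ℤ) := by
      rw [h1]; exact_mod_cast hdvd
    exact_mod_cast h2
  · have h1 : ((z.toNat : ℕ) : ℝ) = (z : ℝ) := by
      have : ((z.toNat : ℕ) : ℤ) = z := Int.toNat_of_nonneg hzpos.le
      exact_mod_cast this
    rw [← hr, ← ha]
    have h2 : ((r * z.toNat : ℕ) : ℝ) ≤ ((p ^ a : ℕ) : ℝ) := by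
      push_cast
      rw [h1]
      exact_mod_cast hle
    exact_mod_cast h2
  · intro heq g hg
    have h1 : ((z.toNat : ℕ) : ℝ) = (z : ℝ) := by
      have : ((z.toNat : ℕ) : ℤ) = z := Int.toNat_of_nonneg hzpos.le
      exact_mod_cast this
    rw [← hr, ← ha] at heq
    have h2 : (r : ℝ) * (z : ℝ) = ((p ^ a : ℕ) : ℝ) := by
      rw [← h1]
      exact_mod_cast heq
    have hQz : Q = 0 := by
      have h3 : Q * ((p ^ a : ℕ) : ℝ) = 0 := by rw [hkey, h2, sub_self, mul_zero]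
      rcases mul_eq_zero.1 h3 with h4 | h4
      · exact h4
      · exact absurd h4 hpapos.ne'
    rw [hQ] at hQz
    have h5 := (Finset.sum_eq_zero_iff_of_nonneg (fun x _ => by
      split_ifs
      · exact Complex.normSq_nonneg _
      · exact le_refl _)).1 hQz g (Finset.mem_univ _)
    rw [if_pos hg] at h5
    have h6 := Complex.normSq_eq_zero.1 h5
    rw [hT, Finset.sum_apply] at h6
    exact h6

end Cfsg.Agent.Lib.H24.PConj
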