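import Mathlib
import Cfsg.Agent.Lib.H24.PConjB

/-!
# `p`-conjugate characters: the equality case (helper24)
-/

set_option autoImplicit false

namespace Cfsg.Agent.Lib.H24.PConj

open Cfsg Cfsg.Agent.Lib.H24 Cfsg.Agent.Lib.L0 Cfsg.Agent.Lib.H23 Cfsg.Agent.Lib.L0.Tilde Module
open scoped ComplexConjugate

variable {G : Type*} [Group G] [Fintype G]

theorem pconj_vanish {p : ℕ} (hp : p.Prime) (χ : IrrCharacter G) (S : Finset (IrrCharacter G))
    (hχS : χ ∈ S)
    (hS : ∀ ψ ∈ S, ∃ σ : ℂ ≃+* ℂ, (ψ : G → ℂ) = fun g => σ ((χ : G → ℂ) g))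
    (hvan : ∀ g : G, p ∣ orderOf g → ∑ ψ ∈ S, (ψ : G → ℂ) g = 0) :
    p ^ (Nat.card G).factorization p ∣ charDegree (χ : G → ℂ) := by
  classical
  haveI : Fact p.Prime := ⟨hp⟩
  obtain ⟨P⟩ : Nonempty (Sylow p G) := inferInstance
  have : Fintype (P : Subgroup G) := Fintype.ofFinite _
  have hPcard : Nat.card (P : Subgroup G) = p ^ (Nat.card G).factorization p :=
    Sylow.card_eq_multiplicity P
  have hPne : (Nat.card (P : Subgroup G) : ℂ) ≠ 0 := by
    exact_mod_cast (Nat.card_pos (α := (P : Subgroup G))).ne'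
  obtain ⟨m, hm⟩ := classInner_char_irr_nat
    (isCharacter_restrict (P : Subgroup G) (isCharacter_of_irr χ.2))
    (trivialIrr (P : Subgroup G)).2
  have hsumχ : ∑ x : (P : Subgroup G), (χ : G → ℂ) x
      = (Nat.card (P : Subgroup G) : ℂ) * (m : ℂ) := by
    rw [← hm]
    unfold Cfsg.classInner
    rw [← mul_assoc, mul_inv_cancel₀ hPne, one_mul]
    refine Finset.sum_congr rfl fun x _ => ?_
    rw [trivialIrr_apply, map_one, mul_one]
  have hsumψ : ∀ ψ ∈ S, ∑ x : (P : Subgroup G), (ψ : G → ℂ) x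
      = (Nat.card (P : Subgroup G) : ℂ) * (m : ℂ) := by
    intro ψ hψ
    obtain ⟨σ, hσ⟩ := hS ψ hψ
    rw [hσ]
    simp only
    rw [← map_sum, hsumχ, map_mul, map_natCast, map_natCast]
  obtain ⟨d, hd0, hd⟩ := irr_one_eq χ
  have hψ1 : ∀ ψ ∈ S, (ψ : G → ℂ) 1 = (d : ℂ) := by
    intro ψ hψ
    obtain ⟨σ, hσ⟩ := hS ψ hψ
    rw [hσ]
    simp only
    rw [hd, map_natCast]
  -- double count
  have h1 : ∑ x : (P : Subgroup G), ∑ ψ ∈ S, (ψ : G → ℂ) x
      = (S.card : ℂ) * ((Nat.card (P : Subgroup G) : ℂ) * (m : ℂ)) := by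
    rw [Finset.sum_comm, Finset.sum_congr rfl hsumψ, Finset.sum_const, nsmul_eq_mul]
  have h2 : ∑ x : (P : Subgroup G), ∑ ψ ∈ S, (ψ : G → ℂ) x = (S.card : ℂ) * (d : ℂ) := by
    rw [Finset.sum_eq_single (1 : (P : Subgroup G))]
    · rw [Subgroup.coe_one, Finset.sum_congr rfl hψ1, Finset.sum_const, nsmul_eq_mul]
    · intro x _ hx1
      apply hvan
      obtain ⟨k, hk⟩ := (P.isPGroup' x)
      have hk' : (x : G) ^ p ^ k = 1 := by
        have := congrArg (Subtype.val) hk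
        simpa using this
      obtain ⟨l, hl, hord⟩ := (Nat.dvd_prime_pow hp).1 (orderOf_dvd_of_pow_eq_one hk')
      rcases Nat.eq_zero_or_pos l with h0 | h0
      · exfalso
        rw [h0, pow_zero, orderOf_eq_one_iff] at hord
        exact hx1 (Subtype.ext hord)
      · rw [hord]
        exact dvd_pow_self p h0.ne'
    · intro h
      exact absurd (Finset.mem_univ _) h
  have hcard : (S.card : ℂ) ≠ 0 := by
    have : 0 < S.card := Finset.card_pos.2 ⟨χ, hχS⟩
    exact_mod_cast this.ne'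
  have h3 : (d : ℂ) = (Nat.card (P : Subgroup G) : ℂ) * (m : ℂ) :=
    mul_left_cancel₀ hcard (h2.symm.trans h1)
  have h4 : d = Nat.card (P : Subgroup G) * m := by exact_mod_cast h3
  have h5 : charDegree (χ : G → ℂ) = d := charDegree_eq_of_apply_one hd
  rw [h5, h4, hPcard]
  exact dvd_mul_right _ _

end Cfsg.Agent.Lib.H24.PConj
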