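import Mathlib
import Cfsg.Agent.Lib.H24.PGalConj1
import Cfsg.Agent.Lib.H10.PGroup

/-!
# Same-degree characters Galois conjugate: group-theoretic lemmas (helper24, for S4845)
-/

set_option autoImplicit false

namespace Cfsg.Agent.Lib.H24.PGalConj

open Cfsg

section commutators

variable {G : Type*} [Group G]

/-- `[a^n, g] = [a, g]^n` when `[a, g]` commutes with `a`. -/
theorem comm_pow_left {a g : G} (h : Commute (a * g * a⁻¹ * g⁻¹) a) (n : ℕ) :
    a ^ n * g * (a ^ n)⁻¹ * g⁻¹ = (a * g * a⁻¹ * g⁻¹) ^ n := by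
  set c := a * g * a⁻¹ * g⁻¹ with hc
  have h1 : g * a⁻¹ * g⁻¹ = a⁻¹ * c := by rw [hc]; group
  have h2 : Commute a⁻¹ c := (h.symm).inv_left
  have h3 : g * (a ^ n)⁻¹ * g⁻¹ = (g * a⁻¹ * g⁻¹) ^ n := by
    rw [← inv_pow, ← conj_pow]
  calc a ^ n * g * (a ^ n)⁻¹ * g⁻¹ = a ^ n * (g * (a ^ n)⁻¹ * g⁻¹) := by group
    _ = a ^ n * ((a⁻¹ * c) ^ n) := by rw [h3, h1]
    _ = a ^ n * ((a⁻¹) ^ n * c ^ n) := by rw [h2.mul_pow]
    _ = c ^ n := by rw [inv_pow, ← mul_assoc, mul_inv_cancel, one_mul]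

/-- `[x, y^n] = [x, y]^n` when `[x, y]` commutes with `y`. -/
theorem comm_pow_right {x y : G} (h : Commute (x * y * x⁻¹ * y⁻¹) y) (n : ℕ) :
    x * y ^ n * x⁻¹ * (y ^ n)⁻¹ = (x * y * x⁻¹ * y⁻¹) ^ n := by
  set c := x * y * x⁻¹ * y⁻¹ with hc
  have h1 : x * y * x⁻¹ = c * y := by rw [hc]; group
  have h3 : x * y ^ n * x⁻¹ = (x * y * x⁻¹) ^ n := by rw [conj_pow]
  calc x * y ^ n * x⁻¹ * (y ^ n)⁻¹ = (x * y ^ n * x⁻¹) * (y ^ n)⁻¹ := by group
    _ = (c * y) ^ n * (y ^ n)⁻¹ := by rw [h3, h1]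
    _ = c ^ n * y ^ n * (y ^ n)⁻¹ := by rw [h.mul_pow]
    _ = c ^ n := by rw [mul_assoc, mul_inv_cancel, mul_one]

end commutators

section pgroup

variable {P : Type*} [Group P] [Finite P] {p : ℕ} [Fact p.Prime]

/-- In a subgroup of prime order, every nontrivial element generates. -/
theorem zpowers_eq_of_card_prime (N : Subgroup P) (hN : Nat.card N = p) {x : P} (hx : x ∈ N)
    (hx1 : x ≠ 1) : Subgroup.zpowers x = N := by
  have hp : p.Prime := Fact.out
  have h1 : orderOf x ∣ p := by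
    have := orderOf_dvd_natCard (⟨x, hx⟩ : N)
    rw [hN] at this
    rwa [← Subgroup.orderOf_coe] at this
  have h2 : orderOf x = p := by
    rcases (Nat.dvd_prime hp).mp h1 with h | h
    · exact absurd (orderOf_eq_one_iff.mp h) hx1
    · exact h
  apply Subgroup.eq_of_le_of_card_ge
  · rw [Subgroup.zpowers_le]; exact hx
  · rw [Nat.card_zpowers, h2, hN]

/-- A normal subgroup of prime order of a `p`-group is central. -/
theorem le_center_of_normal_of_card_prime (hP : IsPGroup p P) (N : Subgroup P) [N.Normal]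
    (hN : Nat.card N = p) : N ≤ Subgroup.center P := by
  have hp : p.Prime := Fact.out
  have hne : N ≠ ⊥ := by
    intro h
    rw [h, Subgroup.card_bot] at hN
    exact hp.one_lt.ne hN
  obtain ⟨x, hx, hx1, hxc⟩ := Cfsg.Agent.Lib.H10.exists_ne_one_mem_center_of_normal hP N hne
  rw [← zpowers_eq_of_card_prime N hN hx hx1, Subgroup.zpowers_le]
  exact hxc

/-- Cardinality of the image in a quotient. -/
theorem card_map_mk_mul (N M : Subgroup P) [N.Normal] (hNM : N ≤ M) :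
    Nat.card (M.map (QuotientGroup.mk' N)) * Nat.card N = Nat.card M := by
  have h1 : (M.map (QuotientGroup.mk' N)).index = M.index := by
    have h2 : (M.map (QuotientGroup.mk' N)).comap (QuotientGroup.mk' N) = M := by
      apply Subgroup.comap_map_eq_self
      rw [QuotientGroup.ker_mk']
      exact hNM
    rw [← Subgroup.index_comap_of_surjective (M.map (QuotientGroup.mk' N))
      (QuotientGroup.mk'_surjective N), h2]
  have h3 := Subgroup.index_mul_card (M.map (QuotientGroup.mk' N))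
  have h4 := Subgroup.index_mul_card M
  have h5 := Subgroup.card_eq_card_quotient_mul_card_subgroup N
  rw [h1] at h3
  have hpos : 0 < M.index := Nat.pos_of_ne_zero Subgroup.index_ne_zero_of_finite
  have h6 : M.index * (Nat.card (M.map (QuotientGroup.mk' N)) * Nat.card N) =
      M.index * Nat.card M := by
    rw [← mul_assoc, h3, ← h5, h4]
  exact Nat.eq_of_mul_eq_mul_left hpos h6

/-- If `N ≤ M` are normal in the `p`-group `P` with `|M : N| = p`, then `[M, P] ≤ N`. -/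
theorem le_relCenter_of_card (hP : IsPGroup p P) (N M : Subgroup P) [N.Normal] [M.Normal]
    (hNM : N ≤ M) (hcard : Nat.card M = p * Nat.card N) : M ≤ relCenter N := by
  have hMn : (M.map (QuotientGroup.mk' N)).Normal :=
    Subgroup.Normal.map inferInstance _ (QuotientGroup.mk'_surjective N)
  have h1 := card_map_mk_mul N M hNM
  have hNpos : 0 < Nat.card N := Nat.card_pos
  have h2 : Nat.card (M.map (QuotientGroup.mk' N)) = p := by
    rw [hcard] at h1
    exact Nat.eq_of_mul_eq_mul_right hNpos h1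
  have h3 := le_center_of_normal_of_card_prime (hP.to_quotient N) (M.map (QuotientGroup.mk' N)) h2
  intro m hm
  unfold relCenter
  rw [Subgroup.mem_comap]
  exact h3 (Subgroup.mem_map_of_mem _ hm)

/-- A counting bound: if `Z₂ = ⟨a⟩ Z` with `a ^ p ∈ Z` then `|Z₂| ≤ p |Z|`. -/
theorem card_le_of_gen (Z₂ Z : Subgroup P) (a : P) (hap : a ^ p ∈ Z)
    (hgen : ∀ z ∈ Z₂, ∃ k : ℤ, z⁻¹ * a ^ k ∈ Z) : Nat.card Z₂ ≤ p * Nat.card Z := by
  have hp : p.Prime := Fact.out
  let ψ : Fin p × Z → P := fun x => a ^ (x.1 : ℕ) * x.2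
  have hsub : (Z₂ : Set P) ⊆ Set.range ψ := by
    intro z hz
    obtain ⟨k, hk⟩ := hgen z hz
    have hp0 : (p : ℤ) ≠ 0 := by exact_mod_cast hp.ne_zero
    have hr0 : 0 ≤ k % p := Int.emod_nonneg k hp0
    have hrlt : k % p < p := Int.emod_lt_of_pos k (by exact_mod_cast hp.pos)
    have hk' : k = (k % p) + p * (k / p) := (Int.emod_add_mul_ediv k p).symm
    obtain ⟨r, hr⟩ := Int.eq_ofNat_of_zero_le hr0
    have hrp : r < p := by
      rw [hr] at hrlt; exact_mod_cast hrlt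
    have h1 : a ^ k = a ^ r * (a ^ p) ^ (k / p) := by
      conv_lhs => rw [hk', zpow_add, hr, zpow_natCast, zpow_mul, zpow_natCast]
    have hw : (a ^ p) ^ (k / p) * (z⁻¹ * a ^ k)⁻¹ ∈ Z :=
      Z.mul_mem (Z.zpow_mem hap _) (Z.inv_mem hk)
    refine ⟨(⟨r, hrp⟩, ⟨_, hw⟩), ?_⟩
    show a ^ r * ((a ^ p) ^ (k / p) * (z⁻¹ * a ^ k)⁻¹) = z
    rw [← mul_assoc, ← h1]
    group
  have h2 : Nat.card Z₂ ≤ Nat.card (Set.range ψ) := by
    apply Nat.card_mono (Set.toFinite _) hsub
  have h3 : Nat.card (Set.range ψ) ≤ Nat.card (Fin p × Z) := Finite.card_range_le ψ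
  rw [Nat.card_prod, Nat.card_fin] at h3
  exact h2.trans h3

end pgroup

end Cfsg.Agent.Lib.H24.PGalConj
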