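import Mathlib
import Cfsg.Agent.Lib.H24.PGalConj1
import Cfsg.Agent.Lib.H24.PGalConj2

/-!
# Same-degree characters Galois conjugate: the "if" direction (helper24, for S4845)

If `Z(P)` is cyclic and `|P'| = p` then all nonlinear irreducible characters of the `p`-group `P`
are faithful, vanish off the centre and any two of them are Galois conjugate.
-/

set_option autoImplicit false

namespace Cfsg.Agent.Lib.H24.PGalConj

open scoped ComplexConjugate commutatorElement
open Cfsg Cfsg.Agent.Lib.L0 Cfsg.Agent.Lib.H24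

section backward

variable {P : Type*} [Group P] [Finite P] {p : ℕ} [Fact p.Prime]

theorem apply_pow_of_mem_Zc {χ : IrrCharacter P} {z : P} (hz : z ∈ Zc χ) (j : ℕ) :
    (χ : P → ℂ) (z ^ j) = (χ : P → ℂ) 1 * ((χ : P → ℂ) z / (χ : P → ℂ) 1) ^ j := by
  have hne : (χ : P → ℂ) 1 ≠ 0 := irr_one_ne_zero χ
  have h1 := map_pow (centralHom χ) ⟨z, hz⟩ j
  rw [centralHom_apply, centralHom_apply] at h1
  simp only [Subgroup.coe_pow] at h1
  rw [← h1]
  field_simp

/-- Nonlinear irreducible characters are faithful when `Z(P)` is cyclic and `|P'| = p`. -/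
theorem ker_eq_bot_of_cyclic_center (hP : IsPGroup p P) (hcyc : IsCyclic (Subgroup.center P))
    (hcard : Nat.card (commutator P) = p) (φ : IrrCharacter P)
    (hφ : charDegree (φ : P → ℂ) ≠ 1) : ker φ = ⊥ := by
  classical
  have hp : p.Prime := Fact.out
  have hP'c : commutator P ≤ Subgroup.center P :=
    le_center_of_normal_of_card_prime hP _ hcard
  by_contra hne
  have h1 : ¬ commutator P ≤ ker φ := fun h => hφ (linear_of_commutator_le_ker φ h)
  obtain ⟨c, hc, hcφ⟩ := SetLike.not_le_iff_exists.mp h1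
  obtain ⟨x, hx, hx1, hxc⟩ := Cfsg.Agent.Lib.H10.exists_ne_one_mem_center_of_normal hP (ker φ) hne
  -- an element of order p in `ker φ ⊓ Z(P)`
  have hKne : ker φ ⊓ Subgroup.center P ≠ ⊥ := by
    intro h
    have : x ∈ ker φ ⊓ Subgroup.center P := ⟨hx, hxc⟩
    rw [h, Subgroup.mem_bot] at this
    exact hx1 this
  have hKp : IsPGroup p (ker φ ⊓ Subgroup.center P : Subgroup P) := hP.to_subgroup _
  have hdvd : p ∣ Nat.card (ker φ ⊓ Subgroup.center P : Subgroup P) := by
    rcases hKp.card_eq_or_dvd with h | h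
    · exact absurd (Subgroup.card_eq_one.mp h) hKne
    · exact h
  obtain ⟨y, hy⟩ := exists_prime_orderOf_dvd_card' p hdvd
  have hyP : orderOf (y : P) = p := by rw [Subgroup.orderOf_coe]; exact hy
  have hyφ : (y : P) ∈ ker φ := y.2.1
  have hyc : (y : P) ∈ Subgroup.center P := y.2.2
  have hy1 : (y : P) ≠ 1 := by
    intro h
    rw [← orderOf_eq_one_iff, hyP] at h
    exact hp.one_lt.ne' h
  have hyp : (y : P) ^ p = 1 := by rw [← hyP]; exact pow_orderOf_eq_one _
  -- elements of order dividing p in the cyclic centre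
  have := Fintype.ofFinite P
  have := Fintype.ofFinite (Subgroup.center P)
  have := Fintype.ofFinite (commutator P)
  have hT : (Finset.univ.filter (fun z : Subgroup.center P => z ^ p = 1)).card ≤ p :=
    IsCyclic.card_pow_eq_one_le hp.pos
  let ι : commutator P → Subgroup.center P := fun g => ⟨g, hP'c g.2⟩
  have hι : Function.Injective ι := by
    intro a b hab
    apply Subtype.ext
    exact congrArg (fun z : Subgroup.center P => (z : P)) hab
  have hIT : Finset.univ.image ι ⊆ Finset.univ.filter (fun z : Subgroup.center P => z ^ p = 1) := by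
    intro z hz
    obtain ⟨g, -, rfl⟩ := Finset.mem_image.mp hz
    rw [Finset.mem_filter]
    refine ⟨Finset.mem_univ _, ?_⟩
    apply Subtype.ext
    have h2 : g ^ Nat.card (commutator P) = 1 := pow_card_eq_one'
    rw [hcard] at h2
    have h3 := congrArg (fun z : commutator P => (z : P)) h2
    simpa [ι] using h3
  have hIcard : (Finset.univ.image ι).card = p := by
    rw [Finset.card_image_of_injective _ hι, Finset.card_univ, ← Nat.card_eq_fintype_card, hcard]
  have hIeq : Finset.univ.image ι = Finset.univ.filter (fun z : Subgroup.center P => z ^ p = 1) :=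
    Finset.eq_of_subset_of_card_le hIT (by rw [hIcard]; exact hT)
  have hyT : (⟨(y : P), hyc⟩ : Subgroup.center P) ∈
      Finset.univ.filter (fun z : Subgroup.center P => z ^ p = 1) := by
    rw [Finset.mem_filter]
    refine ⟨Finset.mem_univ _, ?_⟩
    apply Subtype.ext
    simpa using hyp
  rw [← hIeq] at hyT
  obtain ⟨g, -, hg⟩ := Finset.mem_image.mp hyT
  have hyP' : (y : P) ∈ commutator P := by
    have := congrArg (fun z : Subgroup.center P => (z : P)) hg
    simp only [ι] at this
    rw [← this]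
    exact g.2
  have hgen := zpowers_eq_of_card_prime (commutator P) hcard hyP' hy1
  have : c ∈ Subgroup.zpowers (y : P) := by rw [hgen]; exact hc
  have hle : Subgroup.zpowers (y : P) ≤ ker φ := by
    rw [Subgroup.zpowers_le]; exact hyφ
  exact hcφ (hle this)

theorem Zc_eq_center_of_ker_eq_bot (φ : IrrCharacter P) (h : ker φ = ⊥) :
    Zc φ = Subgroup.center P := by
  ext z
  rw [mem_relCenter, Subgroup.mem_center_iff]
  constructor
  · intro hz g
    have := hz g
    rw [h, Subgroup.mem_bot] at this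
    have e : z * g = (z * g * z⁻¹ * g⁻¹) * (g * z) := by group
    rw [e, this, one_mul]
  · intro hz g
    rw [h, Subgroup.mem_bot, ← hz g]
    group

/-- The "if" direction of S4845. -/
theorem backward (hP : IsPGroup p P) (hcyc : IsCyclic (Subgroup.center P))
    (hcard : Nat.card (commutator P) = p) : SameDegGalConj P := by
  classical
  intro χ ψ hχ hdeg
  have hp : p.Prime := Fact.out
  have hψ : charDegree (ψ : P → ℂ) ≠ 1 := by rw [← hdeg]; exact hχ
  have hP'c : commutator P ≤ Subgroup.center P :=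
    le_center_of_normal_of_card_prime hP _ hcard
  have hkχ := ker_eq_bot_of_cyclic_center hP hcyc hcard χ hχ
  have hkψ := ker_eq_bot_of_cyclic_center hP hcyc hcard ψ hψ
  have hZχ := Zc_eq_center_of_ker_eq_bot χ hkχ
  have hZψ := Zc_eq_center_of_ker_eq_bot ψ hkψ
  have hvχ : ∀ g ∉ Subgroup.center P, (χ : P → ℂ) g = 0 := by
    intro g hg
    apply vanish_off_Zc χ (by rw [hZχ]; exact hP'c) g
    rw [hZχ]; exact hg
  have hvψ : ∀ g ∉ Subgroup.center P, (ψ : P → ℂ) g = 0 := by
    intro g hg
    apply vanish_off_Zc ψ (by rw [hZψ]; exact hP'c) g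
    rw [hZψ]; exact hg
  -- a generator of the centre
  obtain ⟨z₀, hz₀⟩ := IsCyclic.exists_monoid_generator (α := Subgroup.center P)
  have hz₀c : (z₀ : P) ∈ Subgroup.center P := z₀.2
  have hz₀χ : (z₀ : P) ∈ Zc χ := by rw [hZχ]; exact hz₀c
  have hz₀ψ : (z₀ : P) ∈ Zc ψ := by rw [hZψ]; exact hz₀c
  set n := orderOf (z₀ : P) with hn
  have hχ1 : (χ : P → ℂ) 1 ≠ 0 := irr_one_ne_zero χ
  have hψ1 : (ψ : P → ℂ) 1 ≠ 0 := irr_one_ne_zero ψ
  have h11 : (ψ : P → ℂ) 1 = (χ : P → ℂ) 1 := by
    rw [Cfsg.Agent.Lib.H23.apply_one_eq_charDegree _ ψ.2,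
      Cfsg.Agent.Lib.H23.apply_one_eq_charDegree _ χ.2, hdeg]
  -- primitive roots
  have hprim : ∀ (φ : IrrCharacter P), ker φ = ⊥ → (z₀ : P) ∈ Zc φ →
      IsPrimitiveRoot ((φ : P → ℂ) z₀ / (φ : P → ℂ) 1) n := by
    intro φ hk hz
    have hφ1 : (φ : P → ℂ) 1 ≠ 0 := irr_one_ne_zero φ
    have key : ∀ j : ℕ, ((φ : P → ℂ) z₀ / (φ : P → ℂ) 1) ^ j = 1 ↔ (z₀ : P) ^ j = 1 := by
      intro j
      have h1 := apply_pow_of_mem_Zc hz j
      constructor
      · intro h2
        rw [h2, mul_one] at h1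
        have : (z₀ : P) ^ j ∈ ker φ := h1
        rw [hk, Subgroup.mem_bot] at this
        exact this
      · intro h2
        rw [h2] at h1
        have h3 : (φ : P → ℂ) 1 * 1 = (φ : P → ℂ) 1 * ((φ : P → ℂ) z₀ / (φ : P → ℂ) 1) ^ j := by
          rw [mul_one]; exact h1
        exact (mul_left_cancel₀ hφ1 h3).symm
    rw [IsPrimitiveRoot.iff_def]
    refine ⟨(key n).mpr (pow_orderOf_eq_one _), fun l hl => ?_⟩
    exact orderOf_dvd_of_pow_eq_one ((key l).mp hl)
  have hpχ := hprim χ hkχ hz₀χ
  have hpψ := hprim ψ hkψ hz₀ψ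
  have hn0 : 0 < n := orderOf_pos _
  haveI : NeZero n := ⟨hn0.ne'⟩
  obtain ⟨k, -, hk⟩ := hpχ.eq_pow_of_pow_eq_one hpψ.pow_eq_one
  have hkco : k.Coprime n := by
    rw [← hpχ.pow_iff_coprime hn0 k, hk]
    exact hpψ
  -- `n` is a nontrivial power of `p`
  obtain ⟨a, ha⟩ := (IsPGroup.iff_card.mp hP)
  have hn_dvd : n ∣ p ^ a := by rw [← ha]; exact orderOf_dvd_natCard _
  obtain ⟨m, -, hm⟩ := (Nat.dvd_prime_pow hp).mp hn_dvd
  have hz₀ne : (z₀ : P) ≠ 1 := by
    intro h
    have hnt : Nontrivial P := by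
      by_contra hnt
      rw [not_nontrivial_iff_subsingleton] at hnt
      have : Nat.card (commutator P) = 1 := Nat.card_unique
      rw [hcard] at this
      exact hp.one_lt.ne' this
    haveI := hnt
    haveI := hP.center_nontrivial
    obtain ⟨⟨z, hz⟩, hz1⟩ := exists_ne (1 : Subgroup.center P)
    obtain ⟨j, hj⟩ := hz₀ ⟨z, hz⟩
    apply hz1
    apply Subtype.ext
    have := congrArg (fun z : Subgroup.center P => (z : P)) hj
    simp only [Subgroup.coe_pow] at this
    show z = 1
    rw [← this, h, one_pow]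
  have hm0 : m ≠ 0 := by
    rintro rfl
    rw [pow_zero] at hm
    exact hz₀ne (orderOf_eq_one_iff.mp hm)
  have hkp : k.Coprime p := by
    rw [hm] at hkco
    exact Nat.Coprime.coprime_dvd_right (dvd_pow_self p hm0) hkco
  refine ⟨k, by rw [ha]; exact Nat.Coprime.pow_right a hkp, ?_⟩
  intro g
  by_cases hg : g ∈ Subgroup.center P
  · obtain ⟨j, hj⟩ := hz₀ ⟨g, hg⟩
    have hgj : g = (z₀ : P) ^ j := by
      have := congrArg (fun z : Subgroup.center P => (z : P)) hj
      simp only [Subgroup.coe_pow] at this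
      exact this.symm
    rw [hgj, apply_pow_of_mem_Zc hz₀ψ j, ← pow_mul, apply_pow_of_mem_Zc hz₀χ (j * k), ← hk,
      ← pow_mul, h11, mul_comm k j]
  · rw [hvψ g hg]
    symm
    apply hvχ
    intro hgk
    apply hg
    have hco : Nat.Coprime k (orderOf g) := by
      apply Nat.Coprime.coprime_dvd_right (orderOf_dvd_natCard g)
      rw [ha]; exact Nat.Coprime.pow_right a hkp
    obtain ⟨m', hm'⟩ := exists_pow_eq_self_of_coprime hco
    rw [← hm']
    exact (Subgroup.center P).pow_mem hgk m'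

end backward

end Cfsg.Agent.Lib.H24.PGalConj
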