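import Mathlib
import Cfsg.Agent.Lib.H24.PGalConj1
import Cfsg.Agent.Lib.H24.PGalConj2

/-!
# Same-degree characters Galois conjugate: `|P'| = p²` is impossible (helper24, for S4845)
-/

set_option autoImplicit false

namespace Cfsg.Agent.Lib.H24.PGalConj

open scoped ComplexConjugate commutatorElement
open Cfsg Cfsg.Agent.Lib.L0 Cfsg.Agent.Lib.H24

section cases

variable {P : Type*} [Group P] [Finite P] {p : ℕ} [Fact p.Prime]

theorem normal_of_le_center (H : Subgroup P) (h : H ≤ Subgroup.center P) : H.Normal := by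
  constructor
  intro n hn g
  have h1 : g * n = n * g := Subgroup.mem_center_iff.mp (h hn) g
  have e : g * n * g⁻¹ = n := by rw [h1]; group
  rw [e]; exact hn

/-- A nonlinear irreducible character with kernel exactly a given normal subgroup of order `p`
of `P'`, when `|P'| = p²`. -/
theorem exists_ker_eq (hH : SameDegGalConj P) (hc2 : Nat.card (commutator P) = p ^ 2)
    (N : Subgroup P) [N.Normal] (hN : N ≤ commutator P) (hNp : Nat.card N = p) :
    ∃ χ : IrrCharacter P, charDegree (χ : P → ℂ) ≠ 1 ∧ ker χ = N := by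
  have hp : p.Prime := Fact.out
  have hnle : ¬ commutator P ≤ N := by
    intro h
    have h1 := Subgroup.card_le_of_le h
    rw [hc2, hNp] at h1
    have : p < p ^ 2 := by
      calc p = p ^ 1 := (pow_one p).symm
        _ < p ^ 2 := Nat.pow_lt_pow_right hp.one_lt (by norm_num)
    omega
  obtain ⟨c, hc, hcN⟩ := SetLike.not_le_iff_exists.mp hnle
  obtain ⟨χ, h1, h2, h3⟩ := exists_nonlinear N hc hcN
  have hle : ker χ ≤ commutator P := ker_le_commutator hH χ h3
  refine ⟨χ, h3, ?_⟩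
  have hd1 : Nat.card (ker χ) ∣ p ^ 2 := by rw [← hc2]; exact Subgroup.card_dvd_of_le hle
  have hd2 : p ∣ Nat.card (ker χ) := by rw [← hNp]; exact Subgroup.card_dvd_of_le h1
  obtain ⟨j, hj2, hj⟩ := (Nat.dvd_prime_pow hp).mp hd1
  have hj1 : j ≠ 0 := by
    rintro rfl
    rw [pow_zero] at hj
    rw [hj] at hd2
    exact hp.one_lt.ne' (Nat.dvd_one.mp hd2)
  have hj2' : j ≠ 2 := by
    rintro rfl
    have : ker χ = commutator P := by
      apply Subgroup.eq_of_le_of_card_ge hle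
      rw [hj, hc2]
    exact h2 (this ▸ hc)
  have hj1' : j = 1 := by omega
  rw [hj1', pow_one] at hj
  symm
  apply Subgroup.eq_of_le_of_card_ge h1
  rw [hj, hNp]

/-- `p`-th powers of elements of `Z(χ)` are central when `ker χ` is central of exponent `p`. -/
theorem pow_mem_center_of_mem_Zc (χ : IrrCharacter P) (hker : ker χ ≤ Subgroup.center P)
    (hexp : ∀ n ∈ ker χ, n ^ p = 1) {a : P} (ha : a ∈ Zc χ) : a ^ p ∈ Subgroup.center P := by
  rw [Subgroup.mem_center_iff]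
  intro g
  have hc : a * g * a⁻¹ * g⁻¹ ∈ ker χ := (mem_relCenter _ a).mp ha g
  have hcc : a * g * a⁻¹ * g⁻¹ ∈ Subgroup.center P := hker hc
  have hcomm : Commute (a * g * a⁻¹ * g⁻¹) a := (Subgroup.mem_center_iff.mp hcc a).symm
  have h1 := comm_pow_left hcomm p
  rw [hexp _ hc] at h1
  have e : g * a ^ p = (a ^ p * g * (a ^ p)⁻¹ * g⁻¹)⁻¹ * (a ^ p * g) := by group
  rw [e, h1, inv_one, one_mul]

/-- Bounds for the centre of a character with small central kernel. -/
theorem card_Zc_le (χ : IrrCharacter P) (hker : ker χ ≤ Subgroup.center P)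
    (hexp : ∀ n ∈ ker χ, n ^ p = 1) :
    Nat.card (Zc χ) ≤ p * Nat.card (Subgroup.center P) := by
  obtain ⟨a, ha, hgen⟩ := exists_gen_Zc χ
  apply card_le_of_gen (Zc χ) (Subgroup.center P) a (pow_mem_center_of_mem_Zc χ hker hexp ha)
  intro z hz
  obtain ⟨k, hk⟩ := hgen z hz
  exact ⟨k, hker hk⟩

/-- Degree formula when `P'` is central. -/
theorem sq_mul_card_Zc_of_central (χ : IrrCharacter P) (hcen : commutator P ≤ Subgroup.center P) :
    charDegree (χ : P → ℂ) ^ 2 * Nat.card (Zc χ) = Nat.card P := by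
  apply sq_mul_card_Zc
  apply vanish_off_Zc
  exact hcen.trans (center_le_relCenter _)

/-- Case A: `P'` central of exponent `p`. -/
theorem caseA (hP : IsPGroup p P) (hH : SameDegGalConj P)
    (hc2 : Nat.card (commutator P) = p ^ 2) (hcen : commutator P ≤ Subgroup.center P)
    (hexp : ∀ c ∈ commutator P, c ^ p = 1) : False := by
  have hp : p.Prime := Fact.out
  -- two distinct subgroups of order p
  have hntriv : commutator P ≠ ⊥ := by
    intro h
    rw [h, Subgroup.card_bot] at hc2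
    have : 1 < p ^ 2 := Nat.one_lt_pow (by norm_num) hp.one_lt
    omega
  obtain ⟨c₁, hc₁1⟩ := (Subgroup.ne_bot_iff_exists_ne_one.mp hntriv)
  have hord : ∀ c ∈ commutator P, c ≠ 1 → Nat.card (Subgroup.zpowers c) = p := by
    intro c hc hc1
    rw [Nat.card_zpowers]
    have h1 : orderOf c ∣ p := orderOf_dvd_of_pow_eq_one (hexp c hc)
    rcases (Nat.dvd_prime hp).mp h1 with h | h
    · exact absurd (orderOf_eq_one_iff.mp h) hc1
    · exact h
  have hc₁' : (c₁ : P) ∈ commutator P := c₁.2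
  have hc₁1' : (c₁ : P) ≠ 1 := fun h => hc₁1 (Subtype.ext h)
  set N₁ := Subgroup.zpowers (c₁ : P) with hN₁
  have hN₁le : N₁ ≤ commutator P := by rw [hN₁, Subgroup.zpowers_le]; exact hc₁'
  have hN₁card : Nat.card N₁ = p := hord _ hc₁' hc₁1'
  have hnle : ¬ commutator P ≤ N₁ := by
    intro h
    have h1 := Subgroup.card_le_of_le h
    rw [hc2, hN₁card] at h1
    have : p < p ^ 2 := by
      calc p = p ^ 1 := (pow_one p).symm
        _ < p ^ 2 := Nat.pow_lt_pow_right hp.one_lt (by norm_num)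
    omega
  obtain ⟨c₂, hc₂, hc₂N⟩ := SetLike.not_le_iff_exists.mp hnle
  have hc₂1 : c₂ ≠ 1 := fun h => hc₂N (h ▸ N₁.one_mem)
  set N₂ := Subgroup.zpowers c₂ with hN₂
  have hN₂le : N₂ ≤ commutator P := by rw [hN₂, Subgroup.zpowers_le]; exact hc₂
  have hN₂card : Nat.card N₂ = p := hord _ hc₂ hc₂1
  have hne : N₂ ≠ N₁ := by
    intro h
    apply hc₂N
    rw [← h, hN₂]
    exact Subgroup.mem_zpowers c₂
  haveI hN₁n : N₁.Normal := normal_of_le_center N₁ (hN₁le.trans hcen)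
  haveI hN₂n : N₂.Normal := normal_of_le_center N₂ (hN₂le.trans hcen)
  obtain ⟨χ₁, hχ₁, hk₁⟩ := exists_ker_eq hH hc2 N₁ hN₁le hN₁card
  obtain ⟨χ₂, hχ₂, hk₂⟩ := exists_ker_eq hH hc2 N₂ hN₂le hN₂card
  -- degree computations
  have hd₁ := sq_mul_card_Zc_of_central χ₁ hcen
  have hd₂ := sq_mul_card_Zc_of_central χ₂ hcen
  have hb₁ : Nat.card (Zc χ₁) ≤ p * Nat.card (Subgroup.center P) := by
    apply card_Zc_le χ₁
    · rw [hk₁]; exact hN₁le.trans hcen
    · intro n hn; rw [hk₁] at hn; exact hexp n (hN₁le hn)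
  have hb₂ : Nat.card (Zc χ₂) ≤ p * Nat.card (Subgroup.center P) := by
    apply card_Zc_le χ₂
    · rw [hk₂]; exact hN₂le.trans hcen
    · intro n hn; rw [hk₂] at hn; exact hexp n (hN₂le hn)
  have hdv₁ : Nat.card (Subgroup.center P) ∣ Nat.card (Zc χ₁) :=
    Subgroup.card_dvd_of_le (center_le_relCenter _)
  have hdv₂ : Nat.card (Subgroup.center P) ∣ Nat.card (Zc χ₂) :=
    Subgroup.card_dvd_of_le (center_le_relCenter _)
  -- exponents
  obtain ⟨a, ha⟩ := IsPGroup.iff_card.mp hP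
  obtain ⟨z, hz⟩ := IsPGroup.iff_card.mp (hP.to_subgroup (Subgroup.center P))
  obtain ⟨s₁, hs₁⟩ := IsPGroup.iff_card.mp (hP.to_subgroup (Zc χ₁))
  obtain ⟨s₂, hs₂⟩ := IsPGroup.iff_card.mp (hP.to_subgroup (Zc χ₂))
  have hdeg : ∀ χ : IrrCharacter P, ∃ e : ℕ, charDegree (χ : P → ℂ) = p ^ e := by
    intro χ
    have h1 := Cfsg.Agent.Lib.H23.charDegree_dvd_card (χ : P → ℂ) χ.2
    rw [ha] at h1
    obtain ⟨e, -, he⟩ := (Nat.dvd_prime_pow hp).mp h1
    exact ⟨e, he⟩
  obtain ⟨e₁, he₁⟩ := hdeg χ₁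
  obtain ⟨e₂, he₂⟩ := hdeg χ₂
  rw [he₁, hs₁, ha, ← pow_mul, ← pow_add] at hd₁
  rw [he₂, hs₂, ha, ← pow_mul, ← pow_add] at hd₂
  have hE₁ : e₁ * 2 + s₁ = a := Nat.pow_right_injective hp.two_le hd₁
  have hE₂ : e₂ * 2 + s₂ = a := Nat.pow_right_injective hp.two_le hd₂
  rw [hs₁, hz] at hb₁ hdv₁
  rw [hs₂, hz] at hb₂ hdv₂
  have hz₁ : z ≤ s₁ := (Nat.pow_dvd_pow_iff_le_right hp.one_lt).mp hdv₁
  have hz₂ : z ≤ s₂ := (Nat.pow_dvd_pow_iff_le_right hp.one_lt).mp hdv₂
  have hu₁ : s₁ ≤ z + 1 := by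
    rw [← pow_succ'] at hb₁
    exact (Nat.pow_le_pow_iff_right hp.one_lt).mp hb₁
  have hu₂ : s₂ ≤ z + 1 := by
    rw [← pow_succ'] at hb₂
    exact (Nat.pow_le_pow_iff_right hp.one_lt).mp hb₂
  have hee : e₁ = e₂ := by omega
  have hdegeq : charDegree (χ₁ : P → ℂ) = charDegree (χ₂ : P → ℂ) := by rw [he₁, he₂, hee]
  obtain ⟨k, hk, hgal⟩ := hH χ₁ χ₂ hχ₁ hdegeq
  have := ker_eq_of_galois χ₁ χ₂ k hk hgal
  rw [hk₁, hk₂] at this
  exact hne this

theorem commutatorElt_mem (x y : P) : x * y * x⁻¹ * y⁻¹ ∈ commutator P := by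
  have e : x * y * x⁻¹ * y⁻¹ = ⁅x, y⁆ := rfl
  rw [e]
  exact Subgroup.commutator_mem_commutator (Subgroup.mem_top x) (Subgroup.mem_top y)

/-- Case B: `P'` central containing an element of order `p²`. -/
theorem caseB (hH : SameDegGalConj P)
    (hc2 : Nat.card (commutator P) = p ^ 2) (hcen : commutator P ≤ Subgroup.center P)
    (c₀ : P) (hc₀ : c₀ ∈ commutator P) (hc₀p : c₀ ^ p ≠ 1) : False := by
  have hp : p.Prime := Fact.out
  have hord : orderOf c₀ = p ^ 2 := by
    have h1 : orderOf c₀ ∣ p ^ 2 := by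
      have := orderOf_dvd_natCard (⟨c₀, hc₀⟩ : commutator P)
      rw [hc2] at this
      rwa [← Subgroup.orderOf_coe] at this
    obtain ⟨j, hj2, hj⟩ := (Nat.dvd_prime_pow hp).mp h1
    have hj01 : j ≠ 0 := by
      rintro rfl
      rw [pow_zero] at hj
      apply hc₀p
      rw [orderOf_eq_one_iff.mp hj, one_pow]
    have hj11 : j ≠ 1 := by
      rintro rfl
      rw [pow_one] at hj
      apply hc₀p
      rw [← hj]; exact pow_orderOf_eq_one _
    have : j = 2 := by omega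
    rw [hj, this]
  have hgenP' : Subgroup.zpowers c₀ = commutator P := by
    apply Subgroup.eq_of_le_of_card_ge
    · rw [Subgroup.zpowers_le]; exact hc₀
    · rw [Nat.card_zpowers, hord, hc2]
  set N := Subgroup.zpowers (c₀ ^ p) with hN
  have hNle : N ≤ commutator P := by
    rw [hN, Subgroup.zpowers_le]; exact (commutator P).pow_mem hc₀ p
  have hpp : (c₀ ^ p) ^ p = 1 := by
    rw [← pow_mul, ← sq, ← hord]; exact pow_orderOf_eq_one _
  have hNcard : Nat.card N = p := by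
    rw [Nat.card_zpowers]
    have h1 : orderOf (c₀ ^ p) ∣ p := orderOf_dvd_of_pow_eq_one hpp
    rcases (Nat.dvd_prime hp).mp h1 with h | h
    · exact absurd (orderOf_eq_one_iff.mp h) hc₀p
    · exact h
  have hpowN : ∀ u ∈ commutator P, u ^ p ∈ N := by
    intro u hu
    rw [← hgenP'] at hu
    obtain ⟨i, rfl⟩ := Subgroup.mem_zpowers_iff.mp hu
    rw [hN, Subgroup.mem_zpowers_iff]
    refine ⟨i, ?_⟩
    rw [← zpow_natCast, ← zpow_natCast, ← zpow_mul, ← zpow_mul, mul_comm]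
  have hNexp : ∀ n ∈ N, n ^ p = 1 := by
    intro n hn
    obtain ⟨i, rfl⟩ := Subgroup.mem_zpowers_iff.mp hn
    rw [← zpow_natCast, ← zpow_mul, mul_comm, zpow_mul, zpow_natCast, hpp, one_zpow]
  haveI : N.Normal := normal_of_le_center N (hNle.trans hcen)
  obtain ⟨χ, hχ, hk⟩ := exists_ker_eq hH hc2 N hNle hNcard
  have hkcen : ker χ ≤ Subgroup.center P := by rw [hk]; exact hNle.trans hcen
  have hkexp : ∀ n ∈ ker χ, n ^ p = 1 := by
    intro n hn; rw [hk] at hn; exact hNexp n hn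
  obtain ⟨a, ha, hgen⟩ := exists_gen_Zc χ
  have hap : a ^ p ∈ Subgroup.center P := pow_mem_center_of_mem_Zc χ hkcen hkexp ha
  -- a commutator with nontrivial p-th power
  have hex : ∃ x y : P, (x * y * x⁻¹ * y⁻¹) ^ p ≠ 1 := by
    by_contra hall
    push Not at hall
    let S : Subgroup P :=
      { carrier := {u | u ∈ Subgroup.center P ∧ u ^ p = 1}
        one_mem' := ⟨Subgroup.one_mem _, one_pow _⟩
        mul_mem' := by
          rintro u v ⟨hu, hup⟩ ⟨hv, hvp⟩
          refine ⟨Subgroup.mul_mem _ hu hv, ?_⟩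
          have hcomm : Commute u v := (Subgroup.mem_center_iff.mp hu v).symm
          rw [hcomm.mul_pow, hup, hvp, one_mul]
        inv_mem' := by
          rintro u ⟨hu, hup⟩
          exact ⟨Subgroup.inv_mem _ hu, by rw [inv_pow, hup, inv_one]⟩ }
    have hle : commutator P ≤ S := by
      rw [commutator_def, Subgroup.commutator_le]
      intro x _ y _
      exact ⟨hcen (commutatorElt_mem x y), hall x y⟩
    exact hc₀p (hle hc₀).2
  obtain ⟨x, y, hxy⟩ := hex
  set c := x * y * x⁻¹ * y⁻¹ with hcdef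
  have hccen : c ∈ Subgroup.center P := hcen (commutatorElt_mem x y)
  have hcx : Commute c x := (Subgroup.mem_center_iff.mp hccen x).symm
  have hcy : Commute c y := (Subgroup.mem_center_iff.mp hccen y).symm
  -- p-th powers lie in Z(χ)
  have hpowZ : ∀ w : P, w ^ p ∈ Zc χ := by
    intro w
    rw [mem_relCenter]
    intro g
    have hcc : w * g * w⁻¹ * g⁻¹ ∈ Subgroup.center P := hcen (commutatorElt_mem w g)
    have hcomm : Commute (w * g * w⁻¹ * g⁻¹) w := (Subgroup.mem_center_iff.mp hcc w).symm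
    rw [comm_pow_left hcomm p, hk]
    exact hpowN _ (commutatorElt_mem w g)
  obtain ⟨k₁, hk₁⟩ := hgen _ (hpowZ x)
  obtain ⟨k₂, hk₂⟩ := hgen _ (hpowZ y)
  -- `x ^ p` is not central
  have hxp : x ^ p ∉ Subgroup.center P := by
    intro h
    have h1 := comm_pow_left hcx p
    have h2 : y * x ^ p = x ^ p * y := Subgroup.mem_center_iff.mp h y
    have h3 : x ^ p * y * (x ^ p)⁻¹ * y⁻¹ = 1 := by
      rw [← h2]; group
    rw [h3] at h1
    exact hxy h1.symm
  have hn₁c : (x ^ p)⁻¹ * a ^ k₁ ∈ Subgroup.center P := hkcen hk₁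
  have hn₂c : (y ^ p)⁻¹ * a ^ k₂ ∈ Subgroup.center P := hkcen hk₂
  have hndvd : ¬ (p : ℤ) ∣ k₁ := by
    rintro ⟨q, rfl⟩
    apply hxp
    have h1 : a ^ ((p : ℤ) * q) ∈ Subgroup.center P := by
      rw [zpow_mul, zpow_natCast]
      exact Subgroup.zpow_mem _ hap q
    have e : x ^ p = a ^ ((p : ℤ) * q) * ((x ^ p)⁻¹ * a ^ ((p : ℤ) * q))⁻¹ := by group
    rw [e]
    exact Subgroup.mul_mem _ h1 (Subgroup.inv_mem _ hn₁c)
  have hcop : IsCoprime (p : ℤ) k₁ :=
    (Nat.prime_iff_prime_int.mp hp).coprime_iff_not_dvd.mpr hndvd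
  obtain ⟨u, v, huv⟩ := hcop
  -- `a` commutes with `x`
  have hxak : Commute x (a ^ k₁) := by
    have e : a ^ k₁ = x ^ p * ((x ^ p)⁻¹ * a ^ k₁) := by group
    rw [e]
    exact ((Commute.refl x).pow_right p).mul_right (Subgroup.mem_center_iff.mp hn₁c x)
  have hxa : Commute x a := by
    have e : a = (a ^ p) ^ u * (a ^ k₁) ^ v := by
      rw [← zpow_natCast, ← zpow_mul, ← zpow_mul, ← zpow_add, mul_comm (p : ℤ) u,
        mul_comm k₁ v, huv, zpow_one]
    rw [e]
    exact (Commute.zpow_right (Subgroup.mem_center_iff.mp hap x) u).mul_right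
      (hxak.zpow_right v)
  have hxyp : Commute x (y ^ p) := by
    have e : y ^ p = a ^ k₂ * ((y ^ p)⁻¹ * a ^ k₂)⁻¹ := by group
    rw [e]
    exact (hxa.zpow_right k₂).mul_right
      (Subgroup.mem_center_iff.mp (Subgroup.inv_mem _ hn₂c) x)
  have h1 := comm_pow_right hcy p
  have h3 : x * y ^ p * x⁻¹ * (y ^ p)⁻¹ = 1 := by
    rw [hxyp.eq]; group
  rw [h3] at h1
  exact hxy h1.symm

end cases

end Cfsg.Agent.Lib.H24.PGalConj
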