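import Mathlib
import Cfsg.Agent.Lib.H24.PGalConj4

/-!
# Same-degree characters Galois conjugate: the class three case (helper24, for S4845)
-/

set_option autoImplicit false

namespace Cfsg.Agent.Lib.H24.PGalConj

open scoped ComplexConjugate commutatorElement
open Cfsg Cfsg.Agent.Lib.L0 Cfsg.Agent.Lib.H24

section caseC

variable {P : Type*} [Group P] [Finite P] {p : ℕ} [Fact p.Prime]

/-- Case C: `P'` is not central. -/
theorem caseC (hP : IsPGroup p P) (hH : SameDegGalConj P)
    (hc2 : Nat.card (commutator P) = p ^ 2) (hncen : ¬ commutator P ≤ Subgroup.center P) :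
    False := by
  have hp : p.Prime := Fact.out
  have hZle : Subgroup.center P ≤ commutator P := by
    rcases le_or_le_of_H hH (Subgroup.center P) with h | h
    · exact absurd h hncen
    · exact h
  -- the centre has order p
  have hnt : Nontrivial P := by
    by_contra hnt
    rw [not_nontrivial_iff_subsingleton] at hnt
    have : Nat.card (commutator P) = 1 := Nat.card_unique
    rw [hc2] at this
    have h1 : 1 < p ^ 2 := Nat.one_lt_pow (by norm_num) hp.one_lt
    omega
  have hNne : Subgroup.center P ≠ ⊥ := (hP.bot_lt_center).ne'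
  have hNcard : Nat.card (Subgroup.center P) = p := by
    have hd : Nat.card (Subgroup.center P) ∣ p ^ 2 := by
      rw [← hc2]; exact Subgroup.card_dvd_of_le hZle
    obtain ⟨j, hj2, hj⟩ := (Nat.dvd_prime_pow hp).mp hd
    have hj0 : j ≠ 0 := by
      rintro rfl
      rw [pow_zero] at hj
      exact hNne (Subgroup.card_eq_one.mp hj)
    have hj2' : j ≠ 2 := by
      rintro rfl
      apply hncen
      have : Subgroup.center P = commutator P := by
        apply Subgroup.eq_of_le_of_card_ge hZle
        rw [hj, hc2]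
      rw [this]
    have : j = 1 := by omega
    rw [hj, this, pow_one]
  obtain ⟨χ₁, hχ₁, hk₁⟩ := exists_ker_eq hH hc2 (Subgroup.center P) hZle hNcard
  have hNexp : ∀ n ∈ Subgroup.center P, n ^ p = 1 := by
    intro n hn
    have h1 : (⟨n, hn⟩ : Subgroup.center P) ^ Nat.card (Subgroup.center P) = 1 :=
      pow_card_eq_one'
    rw [hNcard] at h1
    have := congrArg (fun z : Subgroup.center P => (z : P)) h1
    simpa using this
  -- `P' ≤ Z(χ₁)`
  have hZc_eq : Zc χ₁ = relCenter (Subgroup.center P) := by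
    ext z
    rw [mem_relCenter, mem_relCenter, hk₁]
  have hP'Zc : commutator P ≤ Zc χ₁ := by
    rw [hZc_eq]
    apply le_relCenter_of_card hP (Subgroup.center P) (commutator P) hZle
    rw [hc2, hNcard, sq]
  have hd₁ := sq_mul_card_Zc χ₁ (vanish_off_Zc χ₁ hP'Zc)
  have hb : Nat.card (Zc χ₁) ≤ p * Nat.card (Subgroup.center P) := by
    apply card_Zc_le χ₁
    · rw [hk₁]
    · intro n hn; rw [hk₁] at hn; exact hNexp n hn
  have hZcP' : Zc χ₁ = commutator P := by
    symm
    apply Subgroup.eq_of_le_of_card_ge hP'Zc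
    rw [hc2, sq]
    rw [hNcard] at hb
    exact hb
  rw [hZcP', hc2] at hd₁
  -- an element of `P'` outside the centre and its centralizer
  obtain ⟨c₀, hc₀, hc₀N⟩ := SetLike.not_le_iff_exists.mp hncen
  have hcomm_mem : ∀ g : P, c₀ * g * c₀⁻¹ * g⁻¹ ∈ Subgroup.center P := by
    intro g
    have h1 : c₀ ∈ Zc χ₁ := hP'Zc hc₀
    have h2 := (mem_relCenter _ c₀).mp h1 g
    rw [hk₁] at h2
    exact h2
  let φ : P →* Subgroup.center P := MonoidHom.mk'
    (fun g => ⟨c₀ * g * c₀⁻¹ * g⁻¹, hcomm_mem g⟩) (by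
      intro g h
      apply Subtype.ext
      have hz : c₀ * h * c₀⁻¹ * h⁻¹ ∈ Subgroup.center P := hcomm_mem h
      have h1 := Subgroup.mem_center_iff.mp hz g
      simp only [Subgroup.coe_mul]
      calc c₀ * (g * h) * c₀⁻¹ * (g * h)⁻¹
          = (c₀ * g * c₀⁻¹ * g⁻¹) * (g * (c₀ * h * c₀⁻¹ * h⁻¹)) * g⁻¹ := by group
        _ = (c₀ * g * c₀⁻¹ * g⁻¹) * ((c₀ * h * c₀⁻¹ * h⁻¹) * g) * g⁻¹ := by rw [h1]
        _ = _ := by group)
  have hφ : ∀ g : P, ((φ g : Subgroup.center P) : P) = c₀ * g * c₀⁻¹ * g⁻¹ := fun g => rfl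
  set A := φ.ker with hA
  have hAmem : ∀ g : P, g ∈ A ↔ c₀ * g = g * c₀ := by
    intro g
    rw [hA, MonoidHom.mem_ker]
    constructor
    · intro h
      have h1 := congrArg (fun z : Subgroup.center P => (z : P)) h
      simp only [hφ, Subgroup.coe_one] at h1
      have e : c₀ * g = (c₀ * g * c₀⁻¹ * g⁻¹) * (g * c₀) := by group
      rw [e, h1, one_mul]
    · intro h
      apply Subtype.ext
      rw [hφ, h]
      simp
  have hAindex : A.index = p := by
    rw [hA, Subgroup.index_ker]
    have hd : Nat.card φ.range ∣ p := by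
      rw [← hNcard]; exact Subgroup.card_subgroup_dvd_card _
    rcases (Nat.dvd_prime hp).mp hd with h | h
    · exfalso
      rw [Subgroup.card_eq_one] at h
      apply hc₀N
      rw [Subgroup.mem_center_iff]
      intro g
      have h1 : φ g ∈ φ.range := ⟨g, rfl⟩
      rw [h, Subgroup.mem_bot] at h1
      have h2 : g ∈ A := by rw [hA, MonoidHom.mem_ker]; exact h1
      exact ((hAmem g).mp h2).symm
    · exact h
  have hAcard : p * Nat.card A = Nat.card P := by
    rw [← hAindex]; exact Subgroup.index_mul_card A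
  have hNA : Subgroup.center P ≤ A := by
    intro n hn
    rw [hAmem]
    exact (Subgroup.mem_center_iff.mp hn c₀)
  have hc₀A : c₀ ∈ A := by rw [hAmem]
  -- `P'` centralizes `A`
  have hP'cent : commutator P ≤ Subgroup.centralizer (A : Set P) := by
    set E := commutator P ⊓ Subgroup.centralizer (A : Set P) with hE
    have hNE : Subgroup.center P ≤ E :=
      le_inf hZle (Subgroup.center_le_centralizer _)
    have hc₀E : c₀ ∈ E := by
      refine ⟨hc₀, ?_⟩
      show c₀ ∈ Subgroup.centralizer (A : Set P)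
      rw [Subgroup.mem_centralizer_iff]
      intro g hg
      exact ((hAmem g).mp hg).symm
    have hdE : Nat.card E ∣ p ^ 2 := by
      rw [← hc2]; exact Subgroup.card_dvd_of_le inf_le_left
    obtain ⟨j, hj2, hj⟩ := (Nat.dvd_prime_pow hp).mp hdE
    have hpE : p ∣ Nat.card E := by rw [← hNcard]; exact Subgroup.card_dvd_of_le hNE
    have hj0 : j ≠ 0 := by
      rintro rfl
      rw [pow_zero] at hj
      rw [hj] at hpE
      exact hp.one_lt.ne' (Nat.dvd_one.mp hpE)
    have hj1 : j ≠ 1 := by
      rintro rfl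
      rw [pow_one] at hj
      have : Subgroup.center P = E := by
        apply Subgroup.eq_of_le_of_card_ge hNE
        rw [hj, hNcard]
      exact hc₀N (this ▸ hc₀E)
    have hj2'' : j = 2 := by omega
    have hEeq : E = commutator P := by
      apply Subgroup.eq_of_le_of_card_ge inf_le_left
      rw [hj, hj2'', hc2]
    rw [← hEeq]
    exact inf_le_right
  -- `A' ≤ Z(P)`
  have hA' : ∀ a ∈ A, ∀ b ∈ A, a * b * a⁻¹ * b⁻¹ ∈ Subgroup.center P := by
    have h1 : ⁅⁅A, (⊤ : Subgroup P)⁆, A⁆ = ⊥ := by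
      rw [Subgroup.commutator_eq_bot_iff_le_centralizer]
      refine le_trans ?_ hP'cent
      rw [commutator_def]
      exact Subgroup.commutator_mono le_top le_rfl
    have h2 : ⁅⁅(⊤ : Subgroup P), A⁆, A⁆ = ⊥ := by
      rw [Subgroup.commutator_eq_bot_iff_le_centralizer]
      refine le_trans ?_ hP'cent
      rw [commutator_def]
      exact Subgroup.commutator_mono le_rfl le_top
    have h3 := Subgroup.commutator_commutator_eq_bot_of_rotate h1 h2
    rw [Subgroup.commutator_eq_bot_iff_le_centralizer, Subgroup.coe_top,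
      Subgroup.centralizer_univ] at h3
    intro a ha b hb
    apply h3
    have e : a * b * a⁻¹ * b⁻¹ = ⁅a, b⁆ := rfl
    rw [e]
    exact Subgroup.commutator_mem_commutator ha hb
  -- degree of `χ₁` at most `p`
  have hApos : 0 < Nat.card A := Nat.card_pos
  have hd₁le : charDegree (χ₁ : P → ℂ) ≤ p := by
    have h1 := charDegree_mul_card_le' χ₁ A (fun a ha b hb => by
      rw [hk₁]; exact hA' a ha b hb)
    rw [← hAcard] at h1
    exact Nat.le_of_mul_le_mul_right h1 hApos
  -- `|A : P'| ≤ p`
  have hP'A : commutator P ≤ A := by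
    intro u hu
    rw [hAmem]
    have := (Subgroup.mem_centralizer_iff.mp (hP'cent hu)) c₀ hc₀A
    exact this
  have hAle : Nat.card A ≤ p * p ^ 2 := by
    have h1 : charDegree (χ₁ : P → ℂ) ^ 2 ≤ p ^ 2 := Nat.pow_le_pow_left hd₁le 2
    have h2 : p * Nat.card A ≤ p ^ 2 * p ^ 2 := by
      rw [hAcard, ← hd₁]
      exact Nat.mul_le_mul_right _ h1
    have h3 : p * Nat.card A ≤ p * (p * p ^ 2) := by
      calc p * Nat.card A ≤ p ^ 2 * p ^ 2 := h2
        _ = p * (p * p ^ 2) := by ring
    exact Nat.le_of_mul_le_mul_left h3 hp.pos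
  -- `A` is abelian
  have hAcomm : ∀ a ∈ A, ∀ b ∈ A, a * b = b * a := by
    haveI : ((commutator P).subgroupOf A).Normal := Subgroup.Normal.subgroupOf inferInstance A
    have hq : Nat.card (A ⧸ (commutator P).subgroupOf A) ∣ p := by
      have h1 : Nat.card (A ⧸ (commutator P).subgroupOf A) * Nat.card ((commutator P).subgroupOf A)
          = Nat.card A := by
        rw [← Subgroup.index_eq_card]
        exact Subgroup.index_mul_card _
      have h2 : Nat.card ((commutator P).subgroupOf A) = p ^ 2 := by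
        rw [Nat.card_congr (Subgroup.subgroupOfEquivOfLe hP'A).toEquiv, hc2]
      rw [h2] at h1
      obtain ⟨s, hs⟩ := IsPGroup.iff_card.mp (hP.to_subgroup A)
      have hdq : Nat.card (A ⧸ (commutator P).subgroupOf A) ∣ p ^ s := by
        rw [← hs, ← h1]; exact Dvd.intro _ rfl
      obtain ⟨t, -, ht⟩ := (Nat.dvd_prime_pow hp).mp hdq
      rw [← h1, ht] at hAle
      rw [ht]
      have h3 : p ^ t ≤ p := Nat.le_of_mul_le_mul_right hAle (pow_pos hp.pos 2)
      have h4 : t ≤ 1 := by
        have : p ^ t ≤ p ^ 1 := by rw [pow_one]; exact h3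
        exact (Nat.pow_le_pow_iff_right hp.one_lt).mp this
      exact (Nat.pow_dvd_pow_iff_le_right hp.one_lt).mpr h4 |>.trans (by rw [pow_one])
    haveI : IsCyclic (A ⧸ (commutator P).subgroupOf A) := isCyclic_of_card_dvd_prime hq
    have hker : (QuotientGroup.mk' ((commutator P).subgroupOf A)).ker ≤ Subgroup.center A := by
      rw [QuotientGroup.ker_mk']
      intro w hw
      rw [Subgroup.mem_center_iff]
      intro b
      apply Subtype.ext
      have hw' : (w : P) ∈ commutator P := Subgroup.mem_subgroupOf.mp hw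
      have := (Subgroup.mem_centralizer_iff.mp (hP'cent hw')) b b.2
      simpa using this
    have hcommA := (QuotientGroup.mk' ((commutator P).subgroupOf A)).isMulCommutative_of_isCyclic_of_ker_le_center hker
    intro a ha b hb
    have := hcommA.is_comm.comm (⟨a, ha⟩ : A) ⟨b, hb⟩
    exact congrArg (fun z : A => (z : P)) this
  -- a character not containing the centre in its kernel
  obtain ⟨n₀, hn₀⟩ := Subgroup.ne_bot_iff_exists_ne_one.mp hNne
  have hn₀1 : (n₀ : P) ≠ 1 := fun h => hn₀ (Subtype.ext h)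
  obtain ⟨χ₂, hχ₂n, -⟩ := exists_irr_two_not_ker hn₀1 hn₀1
  have hχ₂ : charDegree (χ₂ : P → ℂ) ≠ 1 := by
    intro hlin
    exact hχ₂n (commutator_le_ker_of_linear χ₂ hlin (hZle n₀.2))
  have hd₂le : charDegree (χ₂ : P → ℂ) ≤ p := by
    have := Fintype.ofFinite P
    have h1 := charDegree_mul_card_le χ₂ A hAcomm
    rw [← hAcard] at h1
    exact Nat.le_of_mul_le_mul_right h1 hApos
  -- both degrees equal `p`
  obtain ⟨a, ha⟩ := IsPGroup.iff_card.mp hP
  have hdegp : ∀ χ : IrrCharacter P, charDegree (χ : P → ℂ) ≠ 1 → charDegree (χ : P → ℂ) ≤ p →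
      charDegree (χ : P → ℂ) = p := by
    intro χ hne hle
    have h1 := Cfsg.Agent.Lib.H23.charDegree_dvd_card (χ : P → ℂ) χ.2
    rw [ha] at h1
    obtain ⟨e, -, he⟩ := (Nat.dvd_prime_pow hp).mp h1
    have he0 : e ≠ 0 := by
      rintro rfl
      rw [pow_zero] at he
      exact hne he
    have he1 : e ≤ 1 := by
      have : p ^ e ≤ p ^ 1 := by rw [pow_one, ← he]; exact hle
      exact (Nat.pow_le_pow_iff_right hp.one_lt).mp this
    have : e = 1 := by omega
    rw [he, this, pow_one]
  have hdegeq : charDegree (χ₁ : P → ℂ) = charDegree (χ₂ : P → ℂ) := by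
    rw [hdegp χ₁ hχ₁ hd₁le, hdegp χ₂ hχ₂ hd₂le]
  obtain ⟨k, hk, hgal⟩ := hH χ₁ χ₂ hχ₁ hdegeq
  have hkk := ker_eq_of_galois χ₁ χ₂ k hk hgal
  apply hχ₂n
  have : (n₀ : P) ∈ ker χ₂ := by
    rw [hkk, hk₁]; exact n₀.2
  exact this

end caseC

end Cfsg.Agent.Lib.H24.PGalConj
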