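import Mathlib
import Cfsg.Agent.Lib.H24.PGalConj3
import Cfsg.Agent.Lib.H24.PGalConj5

/-!
# Same-degree characters Galois conjugate: the "only if" direction (helper24, for S4845)
-/

set_option autoImplicit false

universe u

namespace Cfsg.Agent.Lib.H24.PGalConj

open scoped ComplexConjugate commutatorElement
open Cfsg Cfsg.Agent.Lib.L0 Cfsg.Agent.Lib.H24

section final

/-- `|P'| = p²` is impossible under the hypothesis. -/
theorem false_of_card_sq {P : Type*} [Group P] [Finite P] {p : ℕ} [Fact p.Prime]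
    (hP : IsPGroup p P) (hH : SameDegGalConj P) (hc2 : Nat.card (commutator P) = p ^ 2) :
    False := by
  by_cases hcen : commutator P ≤ Subgroup.center P
  · by_cases hexp : ∀ c ∈ commutator P, c ^ p = 1
    · exact caseA hP hH hc2 hcen hexp
    · push Not at hexp
      obtain ⟨c₀, hc₀, hc₀p⟩ := hexp
      exact caseB hH hc2 hcen c₀ hc₀ hc₀p
  · exact caseC hP hH hc2 hcen

/-- The hypothesis passes to quotients. -/
theorem SameDegGalConj.quotient {P : Type*} [Group P] [Finite P] (hH : SameDegGalConj P)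
    (M : Subgroup P) [M.Normal] : SameDegGalConj (P ⧸ M) := by
  intro χ ψ hχ hdeg
  have h1 : charDegree (inflIrr M χ : P → ℂ) ≠ 1 := by rw [charDegree_inflIrr]; exact hχ
  have h2 : charDegree (inflIrr M χ : P → ℂ) = charDegree (inflIrr M ψ : P → ℂ) := by
    rw [charDegree_inflIrr, charDegree_inflIrr]; exact hdeg
  obtain ⟨k, hk, hgal⟩ := hH (inflIrr M χ) (inflIrr M ψ) h1 h2
  refine ⟨k, Nat.Coprime.coprime_dvd_right (Subgroup.card_quotient_dvd_card M) hk, ?_⟩
  intro q
  obtain ⟨g, rfl⟩ := QuotientGroup.mk_surjective q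
  have := hgal g
  rw [inflIrr_apply, inflIrr_apply] at this
  rw [this]
  rfl

/-- Under the hypothesis, a non-abelian `p`-group has `|P'| = p`. -/
theorem card_commutator_eq_aux (p : ℕ) [Fact p.Prime] :
    ∀ n : ℕ, ∀ (P : Type u) [Group P] [Finite P], Nat.card P = n → IsPGroup p P →
      commutator P ≠ ⊥ → SameDegGalConj P → Nat.card (commutator P) = p := by
  intro n
  induction n using Nat.strong_induction_on with
  | _ n ih =>
  intro P _ _ hn hP hne hH
  have hp : p.Prime := Fact.out
  obtain ⟨j, hj⟩ := IsPGroup.iff_card.mp (hP.to_subgroup (commutator P))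
  have hj0 : j ≠ 0 := by
    rintro rfl
    rw [pow_zero] at hj
    exact hne (Subgroup.card_eq_one.mp hj)
  by_cases hj1 : j = 1
  · rw [hj, hj1, pow_one]
  exfalso
  -- a central subgroup of order p inside P'
  have hKne : commutator P ⊓ Subgroup.center P ≠ ⊥ := by
    obtain ⟨x, hx, hx1, hxc⟩ :=
      Cfsg.Agent.Lib.H10.exists_ne_one_mem_center_of_normal hP (commutator P) hne
    intro h
    have : x ∈ commutator P ⊓ Subgroup.center P := ⟨hx, hxc⟩
    rw [h, Subgroup.mem_bot] at this
    exact hx1 this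
  have hKp : IsPGroup p (commutator P ⊓ Subgroup.center P : Subgroup P) := hP.to_subgroup _
  have hdvd : p ∣ Nat.card (commutator P ⊓ Subgroup.center P : Subgroup P) := by
    rcases hKp.card_eq_or_dvd with h | h
    · exact absurd (Subgroup.card_eq_one.mp h) hKne
    · exact h
  obtain ⟨y, hy⟩ := exists_prime_orderOf_dvd_card' p hdvd
  have hyP : orderOf (y : P) = p := by rw [Subgroup.orderOf_coe]; exact hy
  set M := Subgroup.zpowers (y : P) with hM
  have hMcard : Nat.card M = p := by rw [hM, Nat.card_zpowers, hyP]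
  have hMle : M ≤ commutator P := by rw [hM, Subgroup.zpowers_le]; exact y.2.1
  have hMcen : M ≤ Subgroup.center P := by rw [hM, Subgroup.zpowers_le]; exact y.2.2
  haveI : M.Normal := normal_of_le_center M hMcen
  -- the quotient
  have hQcard : Nat.card (P ⧸ M) * p = n := by
    rw [← hMcard, ← hn]; exact (Subgroup.card_eq_card_quotient_mul_card_subgroup M).symm
  have hQlt : Nat.card (P ⧸ M) < n := by
    have hpos : 0 < Nat.card (P ⧸ M) := Nat.card_pos
    rw [← hQcard]
    exact (Nat.lt_mul_iff_one_lt_right hpos).mpr hp.one_lt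
  have hQcomm : commutator (P ⧸ M) = (commutator P).map (QuotientGroup.mk' M) := by
    rw [commutator_def, commutator_def, Subgroup.map_commutator,
      Subgroup.map_top_of_surjective _ (QuotientGroup.mk'_surjective M)]
  have hQ'card : Nat.card (commutator (P ⧸ M)) * p = p ^ j := by
    rw [hQcomm]
    have := card_map_mk_mul M (commutator P) hMle
    rw [hMcard, hj] at this
    exact this
  have hQne : commutator (P ⧸ M) ≠ ⊥ := by
    intro h
    rw [h, Subgroup.card_bot, one_mul] at hQ'card
    have : p ^ 1 = p ^ j := by rw [pow_one]; exact hQ'card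
    exact hj1 (Nat.pow_right_injective hp.two_le this).symm
  have hIH := ih _ hQlt (P ⧸ M) rfl (hP.to_quotient M) hQne (hH.quotient M)
  rw [hIH] at hQ'card
  have hc2 : Nat.card (commutator P) = p ^ 2 := by
    rw [hj, ← hQ'card, sq]
  exact false_of_card_sq hP hH hc2

/-- The "only if" direction of S4845. -/
theorem forward {P : Type u} [Group P] [Finite P] (p : ℕ) [Fact p.Prime] (hP : IsPGroup p P)
    (hne : commutator P ≠ ⊥) (hH : SameDegGalConj P) :
    IsCyclic (Subgroup.center P) ∧ Nat.card (commutator P) = p := by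
  have hp : p.Prime := Fact.out
  have hcard := card_commutator_eq_aux p _ P rfl hP hne hH
  refine ⟨?_, hcard⟩
  -- a faithful irreducible character
  obtain ⟨c, hc1⟩ := Subgroup.ne_bot_iff_exists_ne_one.mp hne
  have hc1' : (c : P) ∉ (⊥ : Subgroup P) := by
    rw [Subgroup.mem_bot]
    exact fun h => hc1 (Subtype.ext h)
  obtain ⟨χ, -, h2, h3⟩ := exists_nonlinear (⊥ : Subgroup P) c.2 hc1'
  have hle : ker χ ≤ commutator P := ker_le_commutator hH χ h3
  have hkbot : ker χ = ⊥ := by
    have hd : Nat.card (ker χ) ∣ p := by rw [← hcard]; exact Subgroup.card_dvd_of_le hle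
    rcases (Nat.dvd_prime hp).mp hd with h | h
    · exact Subgroup.card_eq_one.mp h
    · exfalso
      have : ker χ = commutator P := by
        apply Subgroup.eq_of_le_of_card_ge hle
        rw [h, hcard]
      rw [this] at h2
      exact h2 c.2
  have hZ := Zc_eq_center_of_ker_eq_bot χ hkbot
  obtain ⟨a, ha, hgen⟩ := exists_gen_Zc χ
  rw [hZ] at ha
  refine ⟨⟨⟨a, ha⟩, ?_⟩⟩
  intro z
  have hz : (z : P) ∈ Zc χ := by rw [hZ]; exact z.2
  obtain ⟨k, hk⟩ := hgen z hz
  rw [hkbot, Subgroup.mem_bot] at hk
  refine ⟨k, ?_⟩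
  show (⟨a, ha⟩ : Subgroup.center P) ^ k = z
  apply Subtype.ext
  simp only [Subgroup.coe_zpow]
  have e : a ^ k = (z : P) * ((z : P)⁻¹ * a ^ k) := by group
  rw [e, hk, mul_one]

end final

end Cfsg.Agent.Lib.H24.PGalConj
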