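import Mathlib

/-!
# S2937 piece A6 (helper24), part a: facts about explicit permutations of `Fin 6` (by `decide`)

Over the Sylow `2`-subgroup `U₀ = C(σ) ∩ C(τ) ∩ A₆` (`σ = (02)(13)(45)`, `τ = (45)`, dihedral of order `8`) of `A₆`
there are exactly two proper subgroups `H₁ = C_{A₆}(σ)`, `H₂ = C_{A₆}(τ)` (both `≅ S₄`), incomparable.
Proof: Lagrange + a few facts about explicit permutations of `Fin 6` checked by `decide`.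
-/

set_option autoImplicit false
set_option maxRecDepth 100000

namespace Cfsg.Agent.Lib.H24.PM

open Equiv

/-- `σ = (02)(13)(45)` -/
def a6sg : Perm (Fin 6) := swap 0 2 * swap 1 3 * swap 4 5
/-- `τ = (45)` -/
def a6ta : Perm (Fin 6) := swap 4 5

/-- the eight elements of `C(σ) ∩ C(τ) ∩ A₆` -/
def a6UL : List (Perm (Fin 6)) :=
  [1, swap 1 3 * swap 4 5, swap 0 1 * swap 2 3, swap 0 1 * swap 1 2 * swap 2 3 * swap 4 5,
   swap 0 2 * swap 4 5, swap 0 2 * swap 1 3, swap 2 3 * swap 1 2 * swap 0 1 * swap 4 5, swap 0 3 * swap 1 2]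

theorem a6UL_spec : ∀ u ∈ a6UL, Perm.sign u = 1 ∧ a6sg * u = u * a6sg ∧ a6ta * u = u * a6ta := by
  decide +kernel

/-- outside `H₁ ∪ H₂`: an element of order `5` and one of order `3` in `⟨U₀, g⟩` -/
theorem a6_DA : ∀ g : Perm (Fin 6), Perm.sign g = 1 → a6sg * g ≠ g * a6sg → a6ta * g ≠ g * a6ta →
    (∃ u ∈ a6UL, (g * u) ^ 5 = 1 ∧ g * u ≠ 1) ∧
    (∃ u ∈ a6UL, ∃ v ∈ a6UL, (g * u * g * v) ^ 3 = 1 ∧ g * u * g * v ≠ 1) := by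
  decide +kernel

/-- in `H₁ ∖ U₀`: an element of order `3` -/
theorem a6_DB1 : ∀ g : Perm (Fin 6), Perm.sign g = 1 → a6sg * g = g * a6sg → a6ta * g ≠ g * a6ta →
    ∃ u ∈ a6UL, (g * u) ^ 3 = 1 ∧ g * u ≠ 1 := by
  decide +kernel

/-- in `H₂ ∖ U₀`: an element of order `3` -/
theorem a6_DB2 : ∀ g : Perm (Fin 6), Perm.sign g = 1 → a6ta * g = g * a6ta → a6sg * g ≠ g * a6sg →
    ∃ u ∈ a6UL, (g * u) ^ 3 = 1 ∧ g * u ≠ 1 := by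
  decide +kernel

theorem a6_card_H1 :
    Fintype.card {g : Perm (Fin 6) // Perm.sign g = 1 ∧ a6sg * g = g * a6sg} = 24 := by
  rw [Fintype.card_subtype]
  decide +kernel

theorem a6_card_H2 :
    Fintype.card {g : Perm (Fin 6) // Perm.sign g = 1 ∧ a6ta * g = g * a6ta} = 24 := by
  rw [Fintype.card_subtype]
  decide +kernel

theorem a6_card_U :
    Fintype.card {g : Perm (Fin 6) // Perm.sign g = 1 ∧ a6sg * g = g * a6sg ∧ a6ta * g = g * a6ta} = 8 := by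
  rw [Fintype.card_subtype]
  decide +kernel

/-- `g₁ = (014)(235) ∈ H₁ ∖ H₂`, not normalizing `U₀` -/
def a6g1 : Perm (Fin 6) := swap 0 1 * swap 1 4 * swap 2 3 * swap 3 5
/-- `g₂ = (012) ∈ H₂ ∖ H₁`, not normalizing `U₀` -/
def a6g2 : Perm (Fin 6) := swap 0 1 * swap 1 2
/-- `u₁ = (01)(23) ∈ U₀` -/
def a6u1 : Perm (Fin 6) := swap 0 1 * swap 2 3
/-- `u₂ = (13)(45) ∈ U₀` -/
def a6u2 : Perm (Fin 6) := swap 1 3 * swap 4 5

theorem a6_wit :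
    (Perm.sign a6g1 = 1 ∧ a6sg * a6g1 = a6g1 * a6sg ∧ a6ta * a6g1 ≠ a6g1 * a6ta) ∧
    (Perm.sign a6g2 = 1 ∧ a6ta * a6g2 = a6g2 * a6ta ∧ a6sg * a6g2 ≠ a6g2 * a6sg) ∧
    (Perm.sign a6u1 = 1 ∧ a6sg * a6u1 = a6u1 * a6sg ∧ a6ta * a6u1 = a6u1 * a6ta) ∧
    (Perm.sign a6u2 = 1 ∧ a6sg * a6u2 = a6u2 * a6sg ∧ a6ta * a6u2 = a6u2 * a6ta) ∧
    a6ta * (a6g1 * a6u1 * a6g1⁻¹) ≠ (a6g1 * a6u1 * a6g1⁻¹) * a6ta ∧
    a6sg * (a6g2 * a6u2 * a6g2⁻¹) ≠ (a6g2 * a6u2 * a6g2⁻¹) * a6sg := by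
  decide +kernel

end Cfsg.Agent.Lib.H24.PM
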