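import Mathlib
import Cfsg.Agent.Lib.H3.PMinBN
import Cfsg.Agent.Lib.H21.OGA6
import Cfsg.Agent.Lib.H24.PMA6a

/-!
# S2937 piece A6 (helper24): `PMinR2 2 A₆`

Over the Sylow `2`-subgroup `U₀ = C(σ) ∩ C(τ) ∩ A₆` (`σ = (02)(13)(45)`, `τ = (45)`, dihedral of order `8`) of `A₆`
there are exactly two proper subgroups `H₁ = C_{A₆}(σ)`, `H₂ = C_{A₆}(τ)` (both `≅ S₄`), incomparable.
Proof: Lagrange + the facts of `PMA6a` about explicit permutations.
-/

set_option autoImplicit false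

namespace Cfsg.Agent.Lib.H24.PM

open Cfsg Cfsg.Agent.Lib.H3.PMin Equiv

/-! ### the subgroups -/

/-- `H₁ = C_{A₆}(σ)` -/
def a6H1 : Subgroup ↥(alternatingGroup (Fin 6)) :=
  (Subgroup.centralizer {a6sg}).subgroupOf (alternatingGroup (Fin 6))

/-- `H₂ = C_{A₆}(τ)` -/
def a6H2 : Subgroup ↥(alternatingGroup (Fin 6)) :=
  (Subgroup.centralizer {a6ta}).subgroupOf (alternatingGroup (Fin 6))

/-- `U₀ = H₁ ∩ H₂` -/
def a6U : Subgroup ↥(alternatingGroup (Fin 6)) := a6H1 ⊓ a6H2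

theorem mem_a6H1 (x : ↥(alternatingGroup (Fin 6))) :
    x ∈ a6H1 ↔ a6sg * (x : Perm (Fin 6)) = (x : Perm (Fin 6)) * a6sg := by
  unfold a6H1
  rw [Subgroup.mem_subgroupOf, Subgroup.mem_centralizer_singleton_iff]
  exact eq_comm

theorem mem_a6H2 (x : ↥(alternatingGroup (Fin 6))) :
    x ∈ a6H2 ↔ a6ta * (x : Perm (Fin 6)) = (x : Perm (Fin 6)) * a6ta := by
  unfold a6H2
  rw [Subgroup.mem_subgroupOf, Subgroup.mem_centralizer_singleton_iff]
  exact eq_comm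

theorem mem_a6U (x : ↥(alternatingGroup (Fin 6))) :
    x ∈ a6U ↔ a6sg * (x : Perm (Fin 6)) = (x : Perm (Fin 6)) * a6sg ∧
      a6ta * (x : Perm (Fin 6)) = (x : Perm (Fin 6)) * a6ta := by
  unfold a6U
  rw [Subgroup.mem_inf, mem_a6H1, mem_a6H2]

theorem sign_coe (x : ↥(alternatingGroup (Fin 6))) : Perm.sign (x : Perm (Fin 6)) = 1 :=
  Perm.mem_alternatingGroup.1 x.2

theorem card_a6H1 : Nat.card a6H1 = 24 := by
  have e : a6H1 ≃ {g : Perm (Fin 6) // Perm.sign g = 1 ∧ a6sg * g = g * a6sg} :=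
    { toFun := fun x => ⟨x.1.1, sign_coe x.1, (mem_a6H1 x.1).1 x.2⟩
      invFun := fun y => ⟨⟨y.1, Perm.mem_alternatingGroup.2 y.2.1⟩, (mem_a6H1 _).2 y.2.2⟩
      left_inv := fun x => rfl
      right_inv := fun y => rfl }
  rw [Nat.card_congr e, Nat.card_eq_fintype_card]
  exact a6_card_H1

theorem card_a6H2 : Nat.card a6H2 = 24 := by
  have e : a6H2 ≃ {g : Perm (Fin 6) // Perm.sign g = 1 ∧ a6ta * g = g * a6ta} :=
    { toFun := fun x => ⟨x.1.1, sign_coe x.1, (mem_a6H2 x.1).1 x.2⟩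
      invFun := fun y => ⟨⟨y.1, Perm.mem_alternatingGroup.2 y.2.1⟩, (mem_a6H2 _).2 y.2.2⟩
      left_inv := fun x => rfl
      right_inv := fun y => rfl }
  rw [Nat.card_congr e, Nat.card_eq_fintype_card]
  exact a6_card_H2

theorem card_a6U : Nat.card a6U = 8 := by
  have e : a6U ≃ {g : Perm (Fin 6) // Perm.sign g = 1 ∧ a6sg * g = g * a6sg ∧ a6ta * g = g * a6ta} :=
    { toFun := fun x => ⟨x.1.1, sign_coe x.1, (mem_a6U x.1).1 x.2⟩
      invFun := fun y => ⟨⟨y.1, Perm.mem_alternatingGroup.2 y.2.1⟩, (mem_a6U _).2 y.2.2⟩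
      left_inv := fun x => rfl
      right_inv := fun y => rfl }
  rw [Nat.card_congr e, Nat.card_eq_fintype_card]
  exact a6_card_U

/-- the listed elements lie in `U₀` -/
theorem exists_mem_a6U {u : Perm (Fin 6)} (hu : u ∈ a6UL) :
    ∃ x : ↥(alternatingGroup (Fin 6)), x ∈ a6U ∧ (x : Perm (Fin 6)) = u := by
  obtain ⟨h1, h2, h3⟩ := a6UL_spec u hu
  exact ⟨⟨u, Perm.mem_alternatingGroup.2 h1⟩, (mem_a6U _).2 ⟨h2, h3⟩, rfl⟩

/-- Lagrange for an element of prime order -/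
theorem dvd_card_of_pow_eq_one {G : Type*} [Group G] (H : Subgroup G) (y : G) (hy : y ∈ H) (q : ℕ)
    [Fact q.Prime] (h1 : y ^ q = 1) (h2 : y ≠ 1) : q ∣ Nat.card H := by
  have ho : orderOf y = q := orderOf_eq_prime h1 h2
  have hd := orderOf_dvd_natCard (⟨y, hy⟩ : H)
  rwa [Subgroup.orderOf_mk, ho] at hd

theorem dvd_card_of_coe_pow (H : Subgroup ↥(alternatingGroup (Fin 6))) (y : ↥(alternatingGroup (Fin 6)))
    (hy : y ∈ H) (q : ℕ) [Fact q.Prime] (h1 : (y : Perm (Fin 6)) ^ q = 1) (h2 : (y : Perm (Fin 6)) ≠ 1) :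
    q ∣ Nat.card H := by
  refine dvd_card_of_pow_eq_one H y hy q ?_ ?_
  · apply Subtype.ext
    rw [Subgroup.coe_pow, h1]
    rfl
  · intro h
    apply h2
    rw [h]
    rfl

/-- the subgroups of `A₆` over `U₀` -/
theorem a6_over (H : Subgroup ↥(alternatingGroup (Fin 6))) (hU : a6U ≤ H) :
    H = a6U ∨ H = a6H1 ∨ H = a6H2 ∨ H = ⊤ := by
  classical
  have : Fact (Nat.Prime 3) := ⟨by norm_num⟩
  have : Fact (Nat.Prime 5) := ⟨by norm_num⟩
  have h8 : 8 ∣ Nat.card H := by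
    have := Subgroup.card_dvd_of_le hU
    rwa [card_a6U] at this
  by_cases hA : ∃ x ∈ H, x ∉ a6H1 ∧ x ∉ a6H2
  · right; right; right
    obtain ⟨x, hx, h1, h2⟩ := hA
    rw [mem_a6H1] at h1
    rw [mem_a6H2] at h2
    obtain ⟨⟨u, hu, hu5, hu1⟩, ⟨v, hv, w, hw, hw3, hw1⟩⟩ := a6_DA x.1 (sign_coe x) h1 h2
    obtain ⟨xu, hxu, rfl⟩ := exists_mem_a6U hu
    obtain ⟨xv, hxv, rfl⟩ := exists_mem_a6U hv
    obtain ⟨xw, hxw, rfl⟩ := exists_mem_a6U hw
    have h5 : 5 ∣ Nat.card H :=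
      dvd_card_of_coe_pow H (x * xu) (H.mul_mem hx (hU hxu)) 5 hu5 hu1
    have h3 : 3 ∣ Nat.card H :=
      dvd_card_of_coe_pow H (x * xv * x * xw)
        (H.mul_mem (H.mul_mem (H.mul_mem hx (hU hxv)) hx) (hU hxw)) 3 hw3 hw1
    have h120 : 120 ∣ Nat.card H := by
      have h24 : 24 ∣ Nat.card H :=
        Nat.Coprime.mul_dvd_of_dvd_of_dvd (by norm_num : Nat.Coprime 8 3) h8 h3
      exact Nat.Coprime.mul_dvd_of_dvd_of_dvd (by norm_num : Nat.Coprime 24 5) h24 h5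
    have hmul : Nat.card H * H.index = 360 := by
      rw [← Cfsg.Agent.Lib.H21.OG.og_card_A6]
      exact H.card_mul_index
    obtain ⟨k, hk⟩ := h120
    by_contra hne
    have : IsSimpleGroup ↥(alternatingGroup (Fin 6)) := alternatingGroup.isSimpleGroup (by simp)
    have hf := Cfsg.Agent.Lib.H21.OG.og_card_dvd_factorial_index H hne
    rw [Cfsg.Agent.Lib.H21.OG.og_card_A6] at hf
    have hki : k * H.index = 3 := by
      rw [hk] at hmul
      nlinarith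
    have hi : H.index = 1 ∨ H.index = 3 := by
      have hd : H.index ∣ 3 := Dvd.intro_left k hki
      have := (Nat.dvd_prime (by norm_num : Nat.Prime 3)).1 hd
      exact this
    rcases hi with hi | hi
    · exact hne (Subgroup.index_eq_one.1 hi)
    · rw [hi] at hf
      revert hf
      decide
  · have hB : ∀ x ∈ H, x ∈ a6H1 ∨ x ∈ a6H2 := by
      intro x hx
      by_contra h
      apply hA
      exact ⟨x, hx, fun h1 => h (Or.inl h1), fun h2 => h (Or.inr h2)⟩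
    have hle : H ≤ a6H1 ∨ H ≤ a6H2 := by
      by_contra h
      rw [not_or] at h
      obtain ⟨h1, h2⟩ := h
      obtain ⟨x, hx, hx1⟩ := SetLike.not_le_iff_exists.1 h1
      obtain ⟨y, hy, hy2⟩ := SetLike.not_le_iff_exists.1 h2
      have hx2 : x ∈ a6H2 := (hB x hx).resolve_left hx1
      have hy1 : y ∈ a6H1 := (hB y hy).resolve_right hy2
      rcases hB (x * y) (H.mul_mem hx hy) with h | h
      · apply hx1
        have := a6H1.mul_mem h (a6H1.inv_mem hy1)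
        simpa using this
      · apply hy2
        have := a6H2.mul_mem (a6H2.inv_mem hx2) h
        simpa using this
    by_cases hHU : H ≤ a6U
    · exact Or.inl (le_antisymm hHU hU)
    · obtain ⟨x, hx, hxU⟩ := SetLike.not_le_iff_exists.1 hHU
      rcases hle with hle | hle
      · right; left
        have hx1 : x ∈ a6H1 := hle hx
        have hx2 : x ∉ a6H2 := fun h => hxU (Subgroup.mem_inf.2 ⟨hx1, h⟩)
        rw [mem_a6H1] at hx1
        rw [mem_a6H2] at hx2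
        obtain ⟨u, hu, hu3, hu1⟩ := a6_DB1 x.1 (sign_coe x) hx1 hx2
        obtain ⟨xu, hxu, rfl⟩ := exists_mem_a6U hu
        have h3 : 3 ∣ Nat.card H :=
          dvd_card_of_coe_pow H (x * xu) (H.mul_mem hx (hU hxu)) 3 hu3 hu1
        have h24 : 24 ∣ Nat.card H :=
          Nat.Coprime.mul_dvd_of_dvd_of_dvd (by norm_num : Nat.Coprime 8 3) h8 h3
        apply Subgroup.eq_of_le_of_card_ge hle
        rw [card_a6H1]
        exact Nat.le_of_dvd Nat.card_pos h24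
      · right; right; left
        have hx2 : x ∈ a6H2 := hle hx
        have hx1 : x ∉ a6H1 := fun h => hxU (Subgroup.mem_inf.2 ⟨h, hx2⟩)
        rw [mem_a6H1] at hx1
        rw [mem_a6H2] at hx2
        obtain ⟨u, hu, hu3, hu1⟩ := a6_DB2 x.1 (sign_coe x) hx2 hx1
        obtain ⟨xu, hxu, rfl⟩ := exists_mem_a6U hu
        have h3 : 3 ∣ Nat.card H :=
          dvd_card_of_coe_pow H (x * xu) (H.mul_mem hx (hU hxu)) 3 hu3 hu1
        have h24 : 24 ∣ Nat.card H :=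
          Nat.Coprime.mul_dvd_of_dvd_of_dvd (by norm_num : Nat.Coprime 8 3) h8 h3
        apply Subgroup.eq_of_le_of_card_ge hle
        rw [card_a6H2]
        exact Nat.le_of_dvd Nat.card_pos h24


/-! ### the Sylow subgroup and the final statement -/

theorem a6_factorization : (Nat.card ↥(alternatingGroup (Fin 6))).factorization 2 = 3 := by
  rw [Cfsg.Agent.Lib.H21.OG.og_card_A6]
  have : (360 : ℕ) = 2 ^ 3 * 45 := by norm_num
  rw [this, Nat.factorization_mul (by norm_num) (by norm_num),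
    Nat.Prime.factorization_pow (by norm_num)]
  simp [Nat.factorization_eq_zero_of_not_dvd (show ¬ 2 ∣ 45 by norm_num)]

/-- `U₀` as a Sylow `2`-subgroup -/
noncomputable def a6Syl : Sylow 2 ↥(alternatingGroup (Fin 6)) :=
  haveI : Fact (Nat.Prime 2) := ⟨Nat.prime_two⟩
  Sylow.ofCard a6U (by rw [card_a6U, a6_factorization]; norm_num)

theorem a6Syl_coe : (a6Syl : Subgroup ↥(alternatingGroup (Fin 6))) = a6U := rfl

theorem a6_r2At : R2At ↥(alternatingGroup (Fin 6)) a6U := by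
  obtain ⟨⟨g1s, g1a, g1b⟩, ⟨g2s, g2a, g2b⟩, ⟨u1s, u1a, u1b⟩, ⟨u2s, u2a, u2b⟩, c1, c2⟩ := a6_wit
  -- the explicit elements
  set G1 : ↥(alternatingGroup (Fin 6)) := ⟨a6g1, Perm.mem_alternatingGroup.2 g1s⟩ with hG1
  set G2 : ↥(alternatingGroup (Fin 6)) := ⟨a6g2, Perm.mem_alternatingGroup.2 g2s⟩ with hG2
  set U1 : ↥(alternatingGroup (Fin 6)) := ⟨a6u1, Perm.mem_alternatingGroup.2 u1s⟩ with hU1
  set U2 : ↥(alternatingGroup (Fin 6)) := ⟨a6u2, Perm.mem_alternatingGroup.2 u2s⟩ with hU2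
  have hG1m : G1 ∈ a6H1 := (mem_a6H1 _).2 g1a
  have hG1n : G1 ∉ a6H2 := fun h => g1b ((mem_a6H2 _).1 h)
  have hG2m : G2 ∈ a6H2 := (mem_a6H2 _).2 g2a
  have hG2n : G2 ∉ a6H1 := fun h => g2b ((mem_a6H1 _).1 h)
  have hU1m : U1 ∈ a6U := (mem_a6U _).2 ⟨u1a, u1b⟩
  have hU2m : U2 ∈ a6U := (mem_a6U _).2 ⟨u2a, u2b⟩
  have hc1 : G1 * U1 * G1⁻¹ ∉ a6U := fun h => c1 ((mem_a6U _).1 h).2
  have hc2 : G2 * U2 * G2⁻¹ ∉ a6U := fun h => c2 ((mem_a6U _).1 h).1
  have hG1N : G1 ∉ Subgroup.normalizer (a6U : Set ↥(alternatingGroup (Fin 6))) := fun h =>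
    hc1 ((Subgroup.mem_normalizer_iff.1 h U1).1 hU1m)
  have hG2N : G2 ∉ Subgroup.normalizer (a6U : Set ↥(alternatingGroup (Fin 6))) := fun h =>
    hc2 ((Subgroup.mem_normalizer_iff.1 h U2).1 hU2m)
  have hN : Subgroup.normalizer (a6U : Set ↥(alternatingGroup (Fin 6))) = a6U := by
    rcases a6_over _ Subgroup.le_normalizer with h | h | h | h
    · exact h
    · exact absurd (h ▸ hG1m) hG1N
    · exact absurd (h ▸ hG2m) hG2N
    · exact absurd (h ▸ Subgroup.mem_top G1) hG1N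
  rw [R2At, hN]
  refine ⟨a6H1, a6H2, inf_le_left, inf_le_right, ?_, ?_, ?_, ?_, fun H hH => a6_over H hH⟩
  · intro h
    exact hG2n (h ▸ Subgroup.mem_top G2)
  · intro h
    exact hG1n (h ▸ Subgroup.mem_top G1)
  · intro h
    exact hG1n (h hG1m)
  · intro h
    exact hG2n (h hG2m)

/-- **S2937, piece A6.** -/
theorem pm_A6 : PMinR2 2 ↥(alternatingGroup (Fin 6)) := by
  haveI : Fact (Nat.Prime 2) := ⟨Nat.prime_two⟩
  exact pminR2_of_one 2 a6Syl (a6Syl_coe ▸ a6_r2At)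

end Cfsg.Agent.Lib.H24.PM
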