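import Mathlib
import Cfsg.Agent.Lib.H28.PSp4Defs
import Cfsg.Agent.Lib.H12.SL2Syl2

set_option autoImplicit false
set_option linter.unusedSectionVars false
set_option linter.unusedVariables false
set_option linter.unusedSimpArgs false

/-!
# S5320 piece E3 (architect helper28): the `2`-element `s = bm (m/2) (-m/2) (m/2) (m/2)`,
`m = x + s₀`, normalizes `Et Q` and inverts `Δ(u)` modulo `Et Q`  (helper24)
-/

namespace Cfsg.Agent.Lib.H24.PSp4

open Matrix Cfsg.Agent.Lib.H9.SqC Cfsg.Agent.Lib.H28.PSp4 Cfsg.Agent.Lib.H12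

variable {F : Type*} [Field F]

local notation "M2" => Matrix (Fin 2) (Fin 2) F

/-! ### `2 × 2` adjugates -/

theorem e3_adj_of_trace (A : M2) (h : A.trace = 0) : A.adjugate = -A := by
  rw [Matrix.adjugate_fin_two]
  have h11 : A 1 1 = - A 0 0 := by
    rw [Matrix.trace_fin_two] at h
    linear_combination h
  ext a b
  fin_cases a <;> fin_cases b <;> simp [h11]

/-! ### Quaternion identities in a ring -/

section Quat

variable {R : Type*} [Ring R] (i j : R) (hii : i * i = -1) (hjj : j * j = -1)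
  (hji : j * i = -(i * j))

include hii hjj hji

theorem e3_mi : (i + j) * i = j * (i + j) := by
  simp only [mul_add, add_mul, hii, hjj, hji]
  abel

theorem e3_mj : (i + j) * j = i * (i + j) := by
  simp only [mul_add, add_mul, hii, hjj, hji]
  abel

theorem e3_mm : (i + j) * (i + j) = -1 + -1 := by
  simp only [mul_add, add_mul, hii, hjj, hji]
  abel

theorem e3_c1 : (i + j) * ((1 + i) * (1 + j)) = (i - 1) + (i - 1) := by
  have hii' : ∀ z : R, i * (i * z) = -z := by
    intro z; rw [← mul_assoc, hii, neg_one_mul]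
  have hjj' : ∀ z : R, j * (j * z) = -z := by
    intro z; rw [← mul_assoc, hjj, neg_one_mul]
  have hji' : ∀ z : R, j * (i * z) = -(i * (j * z)) := by
    intro z; rw [← mul_assoc, hji, neg_mul, mul_assoc]
  simp only [mul_add, add_mul, mul_one, one_mul, mul_assoc, hii, hjj, hji, hii', hjj', hji',
    mul_neg, neg_neg, sub_eq_add_neg]
  abel

theorem e3_c2 : ((1 + i) * (1 + j)) * (i - 1) = j * (i + j) + j * (i + j) := by
  have hii' : ∀ z : R, i * (i * z) = -z := by
    intro z; rw [← mul_assoc, hii, neg_one_mul]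
  have hjj' : ∀ z : R, j * (j * z) = -z := by
    intro z; rw [← mul_assoc, hjj, neg_one_mul]
  have hji' : ∀ z : R, j * (i * z) = -(i * (j * z)) := by
    intro z; rw [← mul_assoc, hji, neg_mul, mul_assoc]
  simp only [mul_add, add_mul, mul_one, one_mul, mul_assoc, hii, hjj, hji, hii', hjj', hji',
    mul_neg, neg_neg, sub_eq_add_neg, mul_neg, neg_mul]
  abel

end Quat

/-! ### Normalizers -/

theorem e3_mem_normalizer_of_pow {G : Type*} [Group G] (K : Subgroup G) (s : G) (n : ℕ)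
    (hn : s ^ (n + 1) = 1) (h : ∀ g ∈ K, s * g * s⁻¹ ∈ K) :
    s ∈ Subgroup.normalizer (K : Set G) := by
  have hk : ∀ k : ℕ, ∀ g ∈ K, s ^ k * g * (s ^ k)⁻¹ ∈ K := by
    intro k
    induction k with
    | zero => intro g hg; simpa using hg
    | succ k ih =>
      intro g hg
      have := h _ (ih g hg)
      have e : s ^ (k + 1) * g * (s ^ (k + 1))⁻¹ = s * (s ^ k * g * (s ^ k)⁻¹) * s⁻¹ := by
        rw [pow_succ']; group
      rw [e]; exact this
  have hinv : s⁻¹ = s ^ n := by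
    apply inv_eq_of_mul_eq_one_right
    rw [← pow_succ', hn]
  rw [Subgroup.mem_normalizer_iff]
  intro g
  constructor
  · exact h g
  · intro hg
    have := hk n _ hg
    rw [← hinv] at this
    have e : s⁻¹ * (s * g * s⁻¹) * s⁻¹⁻¹ = g := by group
    rwa [e] at this

/-! ### The element `s` -/

section Main

/-- the matrix of `s` -/
def e3Mat (c : F) (m : Matrix (Fin 2) (Fin 2) F) : Matrix (Fin 2 ⊕ Fin 2) (Fin 2 ⊕ Fin 2) F :=
  bm (c • m) (-(c • m)) (c • m) (c • m)

variable {c : F} {m : Matrix (Fin 2) (Fin 2) F}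

theorem e3Mat_mem (hc : c + c = 1) (hm : m.trace = 0) (hmm : m * m = -1 + -1) :
    e3Mat c m ∈ Matrix.symplecticGroup (Fin 2) F := by
  have htr : (c • m).trace = 0 := by rw [Matrix.trace_smul, hm, smul_zero]
  have htr' : (-(c • m)).trace = 0 := by rw [Matrix.trace_neg, htr, neg_zero]
  have hA : (c • m).adjugate = -(c • m) := e3_adj_of_trace _ htr
  have hB : (-(c • m)).adjugate = c • m := by rw [e3_adj_of_trace _ htr', neg_neg]
  have h1 : c • (1 : M2) + c • (1 : M2) = 1 := by rw [← add_smul, hc, one_smul]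
  have hAA : (c • m) * (c • m) = -(c • (1 : M2)) := by
    rw [smul_mul_assoc, mul_smul_comm, hmm]
    have h3 : c • ((-1 : M2) + -1) = -1 := by rw [smul_add, smul_neg, ← neg_add, h1]
    rw [h3, smul_neg]
  unfold e3Mat
  rw [bm_mem_iff, hA, hB]
  simp only [mul_neg, neg_mul, hAA, neg_neg]
  refine ⟨h1, ?_, ?_, h1⟩
  · abel
  · abel

theorem e3Mat_sq (hc : c + c = 1) (hmm : m * m = -1 + -1) :
    e3Mat c m * e3Mat c m = bm 0 1 (-1) 0 := by
  have h1 : c • (1 : M2) + c • (1 : M2) = 1 := by rw [← add_smul, hc, one_smul]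
  have hAA : (c • m) * (c • m) = -(c • (1 : M2)) := by
    rw [smul_mul_assoc, mul_smul_comm, hmm]
    have h3 : c • ((-1 : M2) + -1) = -1 := by rw [smul_add, smul_neg, ← neg_add, h1]
    rw [h3, smul_neg]
  unfold e3Mat
  rw [bm_mul]
  simp only [mul_neg, neg_mul, hAA, neg_neg]
  congr 1
  · abel
  · rw [← neg_add, h1]
  · abel

theorem e3Mat_pow (hc : c + c = 1) (hmm : m * m = -1 + -1) : e3Mat c m ^ 8 = 1 := by
  have e : e3Mat c m ^ 8 = ((e3Mat c m * e3Mat c m) * (e3Mat c m * e3Mat c m)) *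
      ((e3Mat c m * e3Mat c m) * (e3Mat c m * e3Mat c m)) := by
    simp only [pow_succ, pow_zero, one_mul, mul_assoc]
  rw [e, e3Mat_sq hc hmm, bm_mul, bm_mul]
  simp only [Matrix.mul_zero, Matrix.zero_mul, add_zero, zero_add, Matrix.mul_one, Matrix.one_mul,
    mul_neg, neg_mul, neg_neg, mul_one, one_mul, neg_zero]
  exact bm_one (F := F)

end Main

/-- **E3**. The `2`-element `s = bm (m/2) (-m/2) (m/2) (m/2)`, `m = x + s₀`, normalizes `Et Q`
and inverts `Δ(u)` modulo `Et Q`. -/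
theorem exists_two_elt (h2 : (2 : F) ≠ 0) {Q : Subgroup (SL2 F)} {x s₀ u : SL2 F}
    (h : Syl2Data Q x s₀)
    (hlist : ∀ q ∈ Q, q = 1 ∨ q = -1 ∨ q = x ∨ q = -x ∨ q = s₀ ∨ q = -s₀ ∨
      q = x * s₀ ∨ q = -(x * s₀))
    (hu : (u : Matrix (Fin 2) (Fin 2) F) = (2 : F)⁻¹ • ((1 + (x : Matrix (Fin 2) (Fin 2) F)) *
        (1 + (s₀ : Matrix (Fin 2) (Fin 2) F)))) :
    ∃ s : Sp4 F, s ∈ Subgroup.normalizer (Et Q : Set (Sp4 F)) ∧ s ^ 8 = 1 ∧
      s * Ph u u * s⁻¹ = (Ph u u)⁻¹ * Ph s₀ s₀ := by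
  have hss : s₀ * s₀ = -1 := mul_self_of_inverts (h.nonScalar h2) h.sx
  have hii : (x : M2) * (x : M2) = -1 := coe_mul_self_neg_one h.xx
  have hjj : (s₀ : M2) * (s₀ : M2) = -1 := coe_mul_self_neg_one hss
  have hsx : s₀ * x = -(x * s₀) := by
    have h1 := h.sx
    rw [inv_eq_neg_of_mul_self x h.xx] at h1
    have h3 : s₀ * x = (s₀ * x * s₀⁻¹) * s₀ := by group
    rw [h3, h1, neg_mul]
  have hji : (s₀ : M2) * (x : M2) = -((x : M2) * (s₀ : M2)) := by
    have := congrArg Subtype.val hsx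
    simpa using this
  obtain ⟨c, hc0⟩ : ∃ c : F, c = (2 : F)⁻¹ := ⟨_, rfl⟩
  have hc : c + c = 1 := by rw [hc0, ← two_mul, mul_inv_cancel₀ h2]
  rw [← hc0] at hu
  obtain ⟨m, hm0⟩ : ∃ m : M2, m = (x : M2) + (s₀ : M2) := ⟨_, rfl⟩
  have hm : m.trace = 0 := by
    rw [hm0, Matrix.trace_add, trace_eq_zero_of_mul_self x h.xx,
      trace_eq_zero_of_mul_self s₀ hss, add_zero]
  have hmm : m * m = -1 + -1 := by rw [hm0]; exact e3_mm _ _ hii hjj hji
  have hmi : m * (x : M2) = (s₀ : M2) * m := by rw [hm0]; exact e3_mi _ _ hii hjj hji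
  have hmj : m * (s₀ : M2) = (x : M2) * m := by rw [hm0]; exact e3_mj _ _ hii hjj hji
  have hhalf : ∀ Y : M2, c • (Y + Y) = Y := by
    intro Y; rw [smul_add, ← add_smul, hc, one_smul]
  have hUmU : (u : M2) * m * (u : M2) = (s₀ : M2) * m := by
    rw [hu]
    have e1 : (c • ((1 + (x : M2)) * (1 + (s₀ : M2)))) * m * (c • ((1 + (x : M2)) * (1 + (s₀ : M2))))
        = c • (c • (((1 + (x : M2)) * (1 + (s₀ : M2))) *
            (m * ((1 + (x : M2)) * (1 + (s₀ : M2)))))) := by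
      simp only [smul_mul_assoc, mul_smul_comm, mul_assoc]
    rw [e1, hm0, e3_c1 _ _ hii hjj hji, mul_add, e3_c2 _ _ hii hjj hji, hhalf, hhalf]
  -- the element
  let s : Sp4 F := ⟨e3Mat c m, e3Mat_mem hc hm hmm⟩
  have hs8 : s ^ 8 = 1 := by
    apply Subtype.ext
    rw [SubmonoidClass.coe_pow]
    exact e3Mat_pow hc hmm
  have hneg1 : (-1 : SL2 F) ∈ Q := by rw [← h.xx]; exact Q.mul_mem h.xS h.xS
  have hnegQ : ∀ a ∈ Q, -a ∈ Q := by
    intro a ha
    rw [← neg_one_mul]
    exact Q.mul_mem hneg1 ha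
  -- conjugation of diagonal elements
  have hconj : ∀ a a' : SL2 F, m * (a : M2) = (a' : M2) * m → s * Ph a a = Ph a' a' * s := by
    intro a a' hma
    apply Subtype.ext
    show e3Mat c m * (Ph a a).1 = (Ph a' a').1 * e3Mat c m
    rw [Ph_val, Ph_val]
    unfold e3Mat
    rw [bm_mul, bm_mul]
    simp only [Matrix.mul_zero, Matrix.zero_mul, add_zero, zero_add, smul_mul_assoc,
      mul_smul_comm, neg_mul, mul_neg, hma, smul_zero, neg_zero]
  have hconj' : ∀ a a' : SL2 F, m * (a : M2) = (a' : M2) * m →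
      s * Ph a a * s⁻¹ = Ph a' a' := by
    intro a a' hma
    rw [hconj a a' hma, mul_assoc, mul_inv_cancel, mul_one]
  have h4 : s * Ph (-1) 1 = Ph (-1) (-1) * sw * s := by
    apply Subtype.ext
    show e3Mat c m * (Ph (-1) 1).1 = (Ph (-1) (-1)).1 * (sw : Sp4 F).1 * e3Mat c m
    rw [Ph_val, Ph_val, sw_val]
    unfold e3Mat
    rw [bm_mul, bm_mul, bm_mul]
    simp only [Matrix.SpecialLinearGroup.coe_neg, Matrix.SpecialLinearGroup.coe_one,
      Matrix.mul_zero, Matrix.zero_mul, add_zero, zero_add, Matrix.mul_one, Matrix.one_mul,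
      neg_mul, mul_neg, neg_neg, one_mul, mul_one, smul_zero, neg_zero]
  have h5 : s * sw = Ph (-1) 1 * s := by
    apply Subtype.ext
    show e3Mat c m * (sw : Sp4 F).1 = (Ph (-1) 1).1 * e3Mat c m
    rw [Ph_val, sw_val]
    unfold e3Mat
    rw [bm_mul, bm_mul]
    simp only [Matrix.SpecialLinearGroup.coe_neg, Matrix.SpecialLinearGroup.coe_one,
      Matrix.mul_zero, Matrix.zero_mul, add_zero, zero_add, Matrix.mul_one, Matrix.one_mul,
      neg_mul, mul_neg, neg_neg, one_mul, mul_one, smul_zero, neg_zero]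
  have hkey : Ph u u * s * Ph u u = Ph s₀ s₀ * s := by
    apply Subtype.ext
    show (Ph u u).1 * e3Mat c m * (Ph u u).1 = (Ph s₀ s₀).1 * e3Mat c m
    rw [Ph_val, Ph_val]
    unfold e3Mat
    rw [bm_mul, bm_mul, bm_mul]
    simp only [Matrix.mul_zero, Matrix.zero_mul, add_zero, zero_add, smul_mul_assoc,
      mul_smul_comm, neg_mul, mul_neg, hUmU, smul_zero, neg_zero]
  -- membership facts
  have hDgmem : ∀ a ∈ Q, Ph a a ∈ Et Q := by
    intro a ha
    exact Subgroup.mem_sup_left (Subgroup.mem_sup_left (Subgroup.mem_map_of_mem Dg ha))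
  have hPmem : Ph (-1 : SL2 F) 1 ∈ Et Q :=
    Subgroup.mem_sup_left (Subgroup.mem_sup_right (Subgroup.mem_zpowers _))
  have hswmem : (sw : Sp4 F) ∈ Et Q := Subgroup.mem_sup_right (Subgroup.mem_zpowers _)
  have hstab : ∀ g ∈ Et Q, s * g * s⁻¹ ∈ Et Q := by
    have hle : Et Q ≤ (Et Q).comap ((MulAut.conj s).toMonoidHom) := by
      have hE : Et Q = Q.map Dg ⊔ Subgroup.zpowers (Ph (-1) 1) ⊔ Subgroup.zpowers sw := rfl
      nth_rewrite 1 [hE]
      apply sup_le (sup_le ?_ ?_) ?_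
      · rw [Subgroup.map_le_iff_le_comap]
        intro a ha
        show s * Ph a a * s⁻¹ ∈ Et Q
        rcases hlist a ha with e | e | e | e | e | e | e | e <;> rw [e]
        · rw [hconj' 1 1 (by simp)]
          exact hDgmem _ Q.one_mem
        · rw [hconj' (-1) (-1) (by simp)]
          exact hDgmem _ hneg1
        · rw [hconj' x s₀ hmi]
          exact hDgmem _ h.sS
        · rw [hconj' (-x) (-s₀) (by
            simp only [Matrix.SpecialLinearGroup.coe_neg, mul_neg, neg_mul, hmi])]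
          exact hDgmem _ (hnegQ _ h.sS)
        · rw [hconj' s₀ x hmj]
          exact hDgmem _ h.xS
        · rw [hconj' (-s₀) (-x) (by
            simp only [Matrix.SpecialLinearGroup.coe_neg, mul_neg, neg_mul, hmj])]
          exact hDgmem _ (hnegQ _ h.xS)
        · rw [hconj' (x * s₀) (s₀ * x) (by
            rw [Matrix.SpecialLinearGroup.coe_mul, Matrix.SpecialLinearGroup.coe_mul,
              ← mul_assoc, hmi, mul_assoc, hmj, ← mul_assoc])]
          exact hDgmem _ (Q.mul_mem h.sS h.xS)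
        · rw [hconj' (-(x * s₀)) (-(s₀ * x)) (by
            rw [Matrix.SpecialLinearGroup.coe_neg, Matrix.SpecialLinearGroup.coe_neg,
              Matrix.SpecialLinearGroup.coe_mul, Matrix.SpecialLinearGroup.coe_mul,
              mul_neg, neg_mul, ← mul_assoc, hmi, mul_assoc, hmj, ← mul_assoc])]
          exact hDgmem _ (hnegQ _ (Q.mul_mem h.sS h.xS))
      · rw [Subgroup.zpowers_le]
        show s * Ph (-1) 1 * s⁻¹ ∈ Et Q
        rw [h4, mul_assoc, mul_inv_cancel, mul_one]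
        exact (Et Q).mul_mem (hDgmem _ hneg1) hswmem
      · rw [Subgroup.zpowers_le]
        show s * sw * s⁻¹ ∈ Et Q
        rw [h5, mul_assoc, mul_inv_cancel, mul_one]
        exact hPmem
    intro g hg
    exact hle hg
  refine ⟨s, e3_mem_normalizer_of_pow (Et Q) s 7 hs8 hstab, hs8, ?_⟩
  calc s * Ph u u * s⁻¹ = (Ph u u)⁻¹ * (Ph u u * s * Ph u u) * s⁻¹ := by group
    _ = (Ph u u)⁻¹ * (Ph s₀ s₀ * s) * s⁻¹ := by rw [hkey]
    _ = (Ph u u)⁻¹ * Ph s₀ s₀ := by group

end Cfsg.Agent.Lib.H24.PSp4
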