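import Mathlib

/-!
# S5239 piece NAP (architect helper22): a nonabelian pearl contains a uniform element

`exists_uniform_of_nonabelian`: `E ≤ S` nonabelian of order `27` with `C_S(E) ≤ E`, `S` a finite `3`-group; then some
`1 ≠ e ∈ E` has `|C_S(e)| = 9`.  (The hypotheses `E ≠ S` and "exponent three" are not used.)
-/

set_option autoImplicit false

namespace Cfsg.Agent.Lib.H24.Pearl

section nap

variable {G : Type*} [Group G]

/-- If all commutators `[h, x]` (`h ∈ H`) lie in the centre, of order three, then `C_H(x)` has index at most three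
in `H`. -/
theorem nap_card_le_three_mul [Finite G] (hZ : Nat.card (Subgroup.center G) = 3) (H : Subgroup G) (x : G)
    (hx : ∀ h ∈ H, h * x * h⁻¹ * x⁻¹ ∈ Subgroup.center G) :
    Nat.card H ≤ 3 * Nat.card ↥(H ⊓ Subgroup.centralizer {x}) := by
  classical
  let φ : H →* Subgroup.center G :=
    { toFun := fun h => ⟨h.1 * x * h.1⁻¹ * x⁻¹, hx h.1 h.2⟩
      map_one' := by ext; simp
      map_mul' := by
        intro h h'
        ext
        have hc := hx h'.1 h'.2
        rw [Subgroup.mem_center_iff] at hc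
        show (h.1 * h'.1) * x * (h.1 * h'.1)⁻¹ * x⁻¹ = (h.1 * x * h.1⁻¹ * x⁻¹) * (h'.1 * x * h'.1⁻¹ * x⁻¹)
        rw [hc (h.1 * x * h.1⁻¹ * x⁻¹)]
        calc (h.1 * h'.1) * x * (h.1 * h'.1)⁻¹ * x⁻¹
            = (h.1 * (h'.1 * x * h'.1⁻¹ * x⁻¹)) * (x * h.1⁻¹ * x⁻¹) := by group
          _ = ((h'.1 * x * h'.1⁻¹ * x⁻¹) * h.1) * (x * h.1⁻¹ * x⁻¹) := by rw [hc h.1]
          _ = (h'.1 * x * h'.1⁻¹ * x⁻¹) * (h.1 * x * h.1⁻¹ * x⁻¹) := by group }
  have h1 := Subgroup.card_eq_card_quotient_mul_card_subgroup φ.ker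
  have h2 : Nat.card (↥H ⧸ φ.ker) = Nat.card φ.range :=
    Nat.card_congr (QuotientGroup.quotientKerEquivRange φ).toEquiv
  have h3 : Nat.card φ.range ≤ 3 := hZ ▸ Subgroup.card_le_card_group φ.range
  have h4 : Nat.card φ.ker ≤ Nat.card ↥(H ⊓ Subgroup.centralizer {x}) := by
    refine Nat.card_le_card_of_injective
      (fun k => (⟨k.1.1, Subgroup.mem_inf.2 ⟨k.1.2, ?_⟩⟩ : ↥(H ⊓ Subgroup.centralizer {x}))) ?_
    · rw [Subgroup.mem_centralizer_singleton_iff]
      have hk : φ k.1 = 1 := k.2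
      have hk' : k.1.1 * x * k.1.1⁻¹ * x⁻¹ = 1 := congrArg Subtype.val hk
      calc k.1.1 * x = (k.1.1 * x * k.1.1⁻¹ * x⁻¹) * (x * k.1.1) := by group
        _ = x * k.1.1 := by rw [hk', one_mul]
    · intro k k' hkk'
      have : k.1.1 = k'.1.1 :=
        congrArg (fun t : ↥(H ⊓ Subgroup.centralizer {x}) => t.1) hkk'
      exact Subtype.ext (Subtype.ext this)
  calc Nat.card H = Nat.card (↥H ⧸ φ.ker) * Nat.card φ.ker := h1
    _ ≤ 3 * Nat.card ↥(H ⊓ Subgroup.centralizer {x}) := by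
        rw [h2]; exact Nat.mul_le_mul h3 h4

/-- The group-level form of NAP. -/
theorem nap_aux [Finite G] (hG : IsPGroup 3 G) (E : Subgroup G) (hE : Nat.card E = 27)
    (a b : G) (ha : a ∈ E) (hb : b ∈ E) (hab : a * b ≠ b * a)
    (hcen : ∀ g : G, (∀ x ∈ E, g * x = x * g) → g ∈ E) :
    ∃ e ∈ E, e ≠ 1 ∧ Nat.card ↥(Subgroup.centralizer ({e} : Set G)) = 9 := by
  classical
  have : Fact (Nat.Prime 3) := ⟨Nat.prime_three⟩
  -- orders of subgroups of `E`
  have hsub : ∀ H : Subgroup G, H ≤ E →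
      Nat.card H = 1 ∨ Nat.card H = 3 ∨ Nat.card H = 9 ∨ Nat.card H = 27 := by
    intro H hH
    have hd : Nat.card H ∣ 3 ^ 3 := by
      have := Subgroup.card_dvd_of_le hH
      rwa [hE] at this
    obtain ⟨k, hk, hk'⟩ := (Nat.dvd_prime_pow Nat.prime_three).1 hd
    interval_cases k <;> simp [hk']
  have hfull : ∀ H : Subgroup G, H ≤ E → Nat.card H = 27 → H = E := fun H hH h27 =>
    Subgroup.eq_of_le_of_card_ge hH (by rw [hE, h27])
  have hcomm9 : ∀ H : Subgroup G, Nat.card H = 9 → ∀ x ∈ H, ∀ y ∈ H, x * y = y * x := by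
    intro H h9 x hx y hy
    have h9' : Nat.card H = 3 ^ 2 := by rw [h9]; norm_num
    have := (IsPGroup.isMulCommutative_of_card_eq_prime_sq h9').is_comm.comm (⟨x, hx⟩ : H) ⟨y, hy⟩
    exact congrArg Subtype.val this
  set Z := Subgroup.center G with hZdef
  set C := Subgroup.centralizer (E : Set G) with hCdef
  have hCE : C ≤ E := fun g hg => hcen g (fun x hx => (Subgroup.mem_centralizer_iff.1 hg x hx).symm)
  have hZC : Z ≤ C := Subgroup.center_le_centralizer _
  have : Nontrivial G := ⟨a * b, b * a, hab⟩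
  have hZnt : Nontrivial Z := hG.center_nontrivial
  have hZ1 : 1 < Nat.card Z := Finite.one_lt_card_iff_nontrivial.2 hZnt
  have haC : a ∉ C := fun h => hab ((Subgroup.mem_centralizer_iff.1 h b hb).symm)
  -- `|C| = 3`
  have hC3 : Nat.card C = 3 := by
    rcases hsub C hCE with h | h | h | h
    · have := Subgroup.card_le_of_le hZC
      omega
    · exact h
    · exfalso
      set H := E ⊓ Subgroup.centralizer ({a} : Set G) with hHdef
      have hCH : C ≤ H :=
        le_inf hCE (Subgroup.centralizer_le (by simpa using ha))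
      have haH : a ∈ H := ⟨ha, Subgroup.mem_centralizer_singleton_iff.2 rfl⟩
      have hle := Subgroup.card_le_of_le hCH
      rcases hsub H inf_le_left with h' | h' | h' | h'
      · omega
      · omega
      · have : C = H := Subgroup.eq_of_le_of_card_ge hCH (by rw [h, h'])
        exact haC (this ▸ haH)
      · have : H = E := hfull H inf_le_left h'
        have hbH : b ∈ H := this ▸ hb
        exact hab ((Subgroup.mem_centralizer_singleton_iff.1 hbH.2).symm)
    · exact absurd ((hfull C hCE h).symm ▸ ha) haC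
  have hZ3 : Nat.card Z = 3 := by
    have hd : Nat.card Z ∣ 3 := hC3 ▸ Subgroup.card_dvd_of_le hZC
    rcases (Nat.dvd_prime Nat.prime_three).1 hd with h | h
    · omega
    · exact h
  have hZeqC : Z = C := Subgroup.eq_of_le_of_card_ge hZC (by rw [hC3, hZ3])
  have hZE : Z ≤ E := hZC.trans hCE
  -- anything commuting with two non-commuting elements of `E` is central
  have key : ∀ e y : G, e ∈ E → y ∈ E → e * y ≠ y * e → ∀ g : G, g * e = e * g → g * y = y * g → g ∈ Z := by
    intro e y he hy hey g hge hgy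
    set H := E ⊓ Subgroup.centralizer ({g} : Set G) with hHdef
    have heH : e ∈ H := ⟨he, Subgroup.mem_centralizer_singleton_iff.2 hge.symm⟩
    have hyH : y ∈ H := ⟨hy, Subgroup.mem_centralizer_singleton_iff.2 hgy.symm⟩
    have hZH : Z ≤ H := le_inf hZE (Subgroup.center_le_centralizer _)
    have hle := Subgroup.card_le_of_le hZH
    rcases hsub H inf_le_left with h' | h' | h' | h'
    · omega
    · exfalso
      have : Z = H := Subgroup.eq_of_le_of_card_ge hZH (by rw [hZ3, h'])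
      have heZ : e ∈ Z := this ▸ heH
      exact hey ((Subgroup.mem_center_iff.1 heZ y).symm)
    · exact absurd (hcomm9 H h' e heH y hyH) hey
    · have : H = E := hfull H inf_le_left h'
      rw [hZeqC, hCdef, Subgroup.mem_centralizer_iff]
      intro x hx
      have hxH : x ∈ H := this ▸ hx
      exact (Subgroup.mem_centralizer_singleton_iff.1 hxH.2)
  -- `[E, E] ≤ Z`
  have hEE : ∀ x ∈ E, ∀ x' ∈ E, x * x' * x⁻¹ * x'⁻¹ ∈ Z := by
    intro x hx x' hx'
    set N : Subgroup E := Z.subgroupOf E with hNdef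
    have hN3 : Nat.card N = 3 := by
      rw [← hZ3]; exact Nat.card_congr (Subgroup.subgroupOfEquivOfLe hZE).toEquiv
    have hQ : Nat.card (↥E ⧸ N) = 3 ^ 2 := by
      have := Subgroup.card_eq_card_quotient_mul_card_subgroup N
      rw [hE, hN3] at this
      omega
    have hc := (IsPGroup.isMulCommutative_of_card_eq_prime_sq hQ).is_comm.comm
      ((⟨x'⁻¹, E.inv_mem hx'⟩ : E) : ↥E ⧸ N) ((⟨x⁻¹, E.inv_mem hx⟩ : E) : ↥E ⧸ N)
    rw [← QuotientGroup.mk_mul, ← QuotientGroup.mk_mul, QuotientGroup.eq, hNdef,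
      Subgroup.mem_subgroupOf] at hc
    have : x * x' * x⁻¹ * x'⁻¹ = ((x'⁻¹ * x⁻¹)⁻¹ * (x⁻¹ * x'⁻¹)) := by group
    rw [this]
    simpa using hc
  -- an element `y` of the second centre outside the centre
  have hZtop : Z ≠ ⊤ := by
    intro h
    have haZ : a ∈ Z := h ▸ Subgroup.mem_top a
    exact hab ((Subgroup.mem_center_iff.1 haZ b).symm)
  have : Nontrivial (G ⧸ Z) := by
    rw [← Finite.one_lt_card_iff_nontrivial, ← Subgroup.index_eq_card]
    have h0 : Z.index ≠ 0 := Subgroup.index_ne_zero_of_finite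
    have h1 : Z.index ≠ 1 := fun h => hZtop (Subgroup.index_eq_one.1 h)
    omega
  have : Nontrivial (Subgroup.center (G ⧸ Z)) := (hG.to_quotient Z).center_nontrivial
  obtain ⟨q, hq⟩ := exists_ne (1 : Subgroup.center (G ⧸ Z))
  obtain ⟨y, hyq⟩ := QuotientGroup.mk_surjective q.1
  have hyZ : y ∉ Z := by
    intro h
    apply hq
    apply Subtype.ext
    rw [← hyq]
    exact (QuotientGroup.eq_one_iff y).2 h
  have hyc : ∀ g : G, y * g * y⁻¹ * g⁻¹ ∈ Z := by
    intro g
    rw [← QuotientGroup.eq_one_iff]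
    have hcq := Subgroup.mem_center_iff.1 q.2 (g : G ⧸ Z)
    rw [QuotientGroup.mk_mul, QuotientGroup.mk_mul, QuotientGroup.mk_mul, QuotientGroup.mk_inv,
      QuotientGroup.mk_inv, hyq, ← hcq]
    group
  have hyc' : ∀ g : G, g * y * g⁻¹ * y⁻¹ ∈ Z := by
    intro g
    have := Z.inv_mem (hyc g)
    have h2 : (y * g * y⁻¹ * g⁻¹)⁻¹ = g * y * g⁻¹ * y⁻¹ := by group
    rwa [h2] at this
  -- the subgroup `F` of elements acting trivially on `E` modulo `Z`
  let F : Subgroup G :=
    { carrier := {g | ∀ x ∈ E, g * x * g⁻¹ * x⁻¹ ∈ Z}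
      one_mem' := by
        intro x _
        have : (1 : G) * x * 1⁻¹ * x⁻¹ = 1 := by group
        rw [this]; exact Z.one_mem
      mul_mem' := by
        intro g g' hg hg' x hx
        have : g * g' * x * (g * g')⁻¹ * x⁻¹ = (g * (g' * x * g'⁻¹ * x⁻¹) * g⁻¹) * (g * x * g⁻¹ * x⁻¹) := by
          group
        rw [this]
        exact Z.mul_mem ((inferInstance : Z.Normal).conj_mem _ (hg' x hx) g) (hg x hx)
      inv_mem' := by
        intro g hg x hx
        have : g⁻¹ * x * g⁻¹⁻¹ * x⁻¹ = g⁻¹ * (g * x * g⁻¹ * x⁻¹)⁻¹ * g⁻¹⁻¹ := by group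
        rw [this]
        exact (inferInstance : Z.Normal).conj_mem _ (Z.inv_mem (hg x hx)) g⁻¹ }
  have hF : ∀ g : G, g ∈ F ↔ ∀ x ∈ E, g * x * g⁻¹ * x⁻¹ ∈ Z := fun g => Iff.rfl
  have hEF : E ≤ F := fun g hg => (hF g).2 (fun x hx => hEE g hg x hx)
  have hF27 : Nat.card F ≤ 27 := by
    have h1 := nap_card_le_three_mul hZ3 F a (fun h hh => (hF h).1 hh a ha)
    have h2 := nap_card_le_three_mul hZ3 (F ⊓ Subgroup.centralizer {a}) b
      (fun h hh => (hF h).1 hh.1 b hb)
    have h3 : F ⊓ Subgroup.centralizer {a} ⊓ Subgroup.centralizer {b} ≤ Z := by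
      intro g hg
      exact key a b ha hb hab g (Subgroup.mem_centralizer_singleton_iff.1 hg.1.2)
        (Subgroup.mem_centralizer_singleton_iff.1 hg.2)
    have h4 := Subgroup.card_le_of_le h3
    omega
  have hFE : E = F := Subgroup.eq_of_le_of_card_ge hEF (by rw [hE]; exact hF27)
  have hyE : y ∈ E := by
    rw [hFE, hF]
    intro x _
    exact hyc x
  -- a partner of `y`
  have hex : ∃ e ∈ E, e * y ≠ y * e := by
    by_contra hcon
    push Not at hcon
    apply hyZ
    rw [hZeqC, hCdef, Subgroup.mem_centralizer_iff]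
    exact hcon
  obtain ⟨e, heE, hey⟩ := hex
  have he1 : e ≠ 1 := by
    rintro rfl
    exact hey (by rw [one_mul, mul_one])
  refine ⟨e, heE, he1, ?_⟩
  set K := Subgroup.centralizer ({e} : Set G) with hKdef
  have hK9 : Nat.card K ≤ 9 := by
    have h1 := nap_card_le_three_mul hZ3 K y (fun h _ => hyc' h)
    have h3 : K ⊓ Subgroup.centralizer {y} ≤ Z := by
      intro g hg
      exact key e y heE hyE hey g (Subgroup.mem_centralizer_singleton_iff.1 hg.1)
        (Subgroup.mem_centralizer_singleton_iff.1 hg.2)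
    have h4 := Subgroup.card_le_of_le h3
    omega
  have hZK : Z ≤ K := Subgroup.center_le_centralizer _
  have heK : e ∈ K := Subgroup.mem_centralizer_singleton_iff.2 rfl
  have heZ : e ∉ Z := fun h => hey ((Subgroup.mem_center_iff.1 h y).symm)
  have hle := Subgroup.card_le_of_le hZK
  obtain ⟨k, hk⟩ := (hG.to_subgroup K).exists_card_eq
  have hk2 : k ≤ 2 := by
    by_contra hcon
    push Not at hcon
    have : 3 ^ 3 ≤ 3 ^ k := Nat.pow_le_pow_right (by norm_num) hcon
    omega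
  interval_cases k
  · omega
  · exfalso
    have : Z = K := Subgroup.eq_of_le_of_card_ge hZK (by rw [hZ3, hk]; norm_num)
    exact heZ (this ▸ heK)
  · rw [hk]; norm_num

end nap

set_option linter.unusedVariables false in
/-- **NAP**.  `E ≤ S` nonabelian of order `27` with `C_S(E) ≤ E`, `S` a finite `3`-group: some `1 ≠ e ∈ E` has
`|C_S(e)| = 9`. -/
theorem exists_uniform_of_nonabelian {Ω : Type*} [Group Ω] (S E : Subgroup Ω) [Finite S] (hS : IsPGroup 3 S)
    (hES : E ≤ S) (hne : E ≠ S) (hE : Nat.card ↥E = 27) (hna : ∃ a ∈ E, ∃ b ∈ E, a * b ≠ b * a)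
    (hexp : ∀ a ∈ E, a ^ 3 = 1) (hcen : ∀ g ∈ S, (∀ x ∈ E, g * x = x * g) → g ∈ E) :
    ∃ e ∈ E, e ≠ 1 ∧ Nat.card {g : Ω // g ∈ S ∧ g * e = e * g} = 9 := by
  obtain ⟨a, ha, b, hb, hab⟩ := hna
  have hE' : Nat.card ↥(E.subgroupOf S) = 27 := by
    rw [← hE]; exact Nat.card_congr (Subgroup.subgroupOfEquivOfLe hES).toEquiv
  obtain ⟨e, heE, he1, hcard⟩ := nap_aux hS (E.subgroupOf S) hE' ⟨a, hES ha⟩ ⟨b, hES hb⟩
    (Subgroup.mem_subgroupOf.2 ha) (Subgroup.mem_subgroupOf.2 hb)
    (fun h => hab (congrArg Subtype.val h))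
    (by
      intro g hg
      rw [Subgroup.mem_subgroupOf]
      refine hcen g.1 g.2 (fun x hx => ?_)
      have := hg ⟨x, hES hx⟩ (Subgroup.mem_subgroupOf.2 hx)
      exact congrArg Subtype.val this)
  refine ⟨e.1, Subgroup.mem_subgroupOf.1 heE, fun h => he1 (Subtype.ext h), ?_⟩
  rw [← hcard]
  refine Nat.card_congr
    ⟨fun g => ⟨⟨g.1, g.2.1⟩, Subgroup.mem_centralizer_singleton_iff.2 (Subtype.ext g.2.2)⟩,
     fun g => ⟨g.1.1, g.1.2, congrArg Subtype.val (Subgroup.mem_centralizer_singleton_iff.1 g.2)⟩,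
     fun g => rfl, fun g => rfl⟩

end Cfsg.Agent.Lib.H24.Pearl
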