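import Cfsg.Agent.Lib.H24.CharSchur
import Cfsg.Agent.Lib.L0.CharOps

/-!
# Irreducible characters of a finite power `ι → M` (helper24's library)

* `piChar φ` : `x ↦ ∏ i, φ i (x i)`.
* `classInner_piChar` : `[⊗φ, ⊗φ'] = ∏ [φ i, φ' i]`.
* `isIrrCharacter_piChar` : outer product of irreducible characters is irreducible.
* `exists_piChar_of_isIrrCharacter` : every irreducible character of `ι → M` is such a product.
* `piChar_irr_injective` : the factors are determined by the product.
-/

set_option autoImplicit false

namespace Cfsg.Agent.Lib.H24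

open scoped ComplexConjugate
open Cfsg Cfsg.Agent.Lib.L0

section pi

variable {ι : Type*} [Fintype ι] {M : Type*} [Group M]

/-- The outer product of a family of functions. -/
def piChar (φ : ι → M → ℂ) : (ι → M) → ℂ := fun x => ∏ i, φ i (x i)

theorem piChar_apply (φ : ι → M → ℂ) (x : ι → M) : piChar φ x = ∏ i, φ i (x i) := rfl

theorem isCharacter_piChar {φ : ι → M → ℂ} (hφ : ∀ i, IsCharacter M (φ i)) :
    IsCharacter (ι → M) (piChar φ) := by
  classical
  have key : ∀ s : Finset ι, IsCharacter (ι → M) (fun x => ∏ i ∈ s, φ i (x i)) := by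
    intro s
    induction s using Finset.induction_on with
    | empty =>
      simp only [Finset.prod_empty]
      exact isCharacter_of_irr (isIrrCharacter_one (G := ι → M))
    | insert a s ha ih =>
      have h1 := isCharacter_mul
        (isCharacter_comp (Pi.evalMonoidHom (fun _ : ι => M) a) (hφ a)) ih
      convert h1 using 1
      funext x
      rw [Finset.prod_insert ha]
      rfl
  exact key Finset.univ

theorem classInner_piChar [DecidableEq ι] [Fintype M] (φ φ' : ι → M → ℂ) :
    classInner (piChar φ) (piChar φ') = ∏ i, classInner (φ i) (φ' i) := by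
  simp only [classInner, piChar]
  rw [Finset.prod_mul_distrib, Finset.prod_const, Finset.card_univ, Finset.prod_univ_sum,
    Fintype.piFinset_univ]
  congr 1
  · rw [Nat.card_pi, Finset.prod_const, Finset.card_univ]
    push_cast
    rw [inv_pow]
  · refine Finset.sum_congr rfl (fun x _ => ?_)
    rw [map_prod, Finset.prod_mul_distrib]

theorem isIrrCharacter_piChar [Finite M] {φ : ι → M → ℂ} (hφ : ∀ i, IsIrrCharacter M (φ i)) :
    IsIrrCharacter (ι → M) (piChar φ) := by
  classical
  have := Fintype.ofFinite M
  refine isIrrCharacter_of_classInner_self_eq_one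
    (isCharacter_piChar (fun i => isCharacter_of_irr (hφ i))) ?_
  have h := classInner_piChar φ φ
  rw [Finset.prod_congr rfl (fun i _ => irr_classInner_self (hφ i)), Finset.prod_const_one] at h
  convert h

theorem piChar_irr_injective [Finite M] {φ φ' : ι → M → ℂ} (hφ : ∀ i, IsIrrCharacter M (φ i))
    (hφ' : ∀ i, IsIrrCharacter M (φ' i)) (h : piChar φ = piChar φ') : φ = φ' := by
  classical
  have := Fintype.ofFinite M
  funext i
  by_contra hne
  have h1 := classInner_piChar φ φ'
  rw [Finset.prod_eq_zero (Finset.mem_univ i) (irr_classInner_ne (hφ i) (hφ' i) hne)] at h1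
  have h2 := irr_classInner_self (isIrrCharacter_piChar hφ)
  rw [← h] at h1
  have h3 : classInner (piChar φ) (piChar φ) = 0 := by convert h1
  rw [h3] at h2
  exact zero_ne_one h2

theorem exists_piChar_of_isIrrCharacter [Finite M] {θ : (ι → M) → ℂ}
    (hθ : IsIrrCharacter (ι → M) θ) :
    ∃ φ : ι → M → ℂ, (∀ i, IsIrrCharacter M (φ i)) ∧ θ = piChar φ := by
  classical
  have := Fintype.ofFinite M
  have := Fintype.ofFinite (IrrCharacter M)
  by_contra hcon
  push Not at hcon
  have hzero : ∀ φ : ι → IrrCharacter M,
      classInner θ (piChar fun i => ((φ i : IrrCharacter M) : M → ℂ)) = 0 := by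
    intro φ
    apply irr_classInner_ne hθ (isIrrCharacter_piChar fun i => (φ i).2)
    exact hcon _ (fun i => (φ i).2)
  -- the regular character
  set R : (ι → M) → ℂ := ∑ φ : ι → IrrCharacter M,
    (∏ i, ((φ i : IrrCharacter M) : M → ℂ) 1) • piChar (fun i => ((φ i : IrrCharacter M) : M → ℂ))
    with hR
  have hRval : ∀ x : ι → M, R x = ∏ i, (if x i = 1 then (Nat.card M : ℂ) else 0) := by
    intro x
    have h1 : R x = ∑ φ : ι → IrrCharacter M,
        ∏ i, (((φ i : IrrCharacter M) : M → ℂ) 1 * ((φ i : IrrCharacter M) : M → ℂ) (x i)) := by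
      simp only [hR, Finset.sum_apply, Pi.smul_apply, smul_eq_mul, piChar]
      refine Finset.sum_congr rfl (fun φ _ => ?_)
      rw [Finset.prod_mul_distrib]
    have h2 := Finset.prod_univ_sum (fun _ : ι => (Finset.univ : Finset (IrrCharacter M)))
      (fun i (ψ : IrrCharacter M) => (ψ : M → ℂ) 1 * (ψ : M → ℂ) (x i))
    rw [Fintype.piFinset_univ] at h2
    rw [h1, ← h2]
    refine Finset.prod_congr rfl (fun i _ => ?_)
    exact sum_irr_one_mul (x i)
  have h1 : classInner θ R = 0 := by
    rw [hR, classInner_sum_right]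
    apply Finset.sum_eq_zero
    intro φ _
    rw [classInner_smul_right, hzero, mul_zero]
  have h2 : classInner θ R = θ 1 := by
    simp only [classInner, hRval]
    rw [Finset.sum_eq_single (1 : ι → M)]
    · simp only [Pi.one_apply, if_true, Finset.prod_const, Finset.card_univ, map_pow,
        Complex.conj_natCast]
      rw [Nat.card_pi, Finset.prod_const, Finset.card_univ]
      push_cast
      have hM : ((Nat.card M : ℂ)) ^ Fintype.card ι ≠ 0 :=
        pow_ne_zero _ (by exact_mod_cast (Nat.card_pos (α := M)).ne')
      field_simp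
    · intro x _ hx
      obtain ⟨i, hi⟩ : ∃ i, x i ≠ 1 := by
        by_contra h
        push Not at h
        exact hx (funext h)
      rw [Finset.prod_eq_zero (Finset.mem_univ i) (if_neg hi)]
      simp
    · intro h
      exact absurd (Finset.mem_univ _) h
  have h3 : θ 1 ≠ 0 := irr_one_ne_zero ⟨θ, hθ⟩
  exact h3 (h2.symm.trans h1)

end pi

end Cfsg.Agent.Lib.H24
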