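import Mathlib
import Cfsg.Prelude.Def_TwoFusion
import Cfsg.Agent.Lib.H1.ZStarGen
import Cfsg.Agent.Lib.L0.TransferBasic
import Cfsg.Agent.Lib.H22.PPrimeCore

/-!
# Sylow 2-subgroups with a generalized quaternion direct factor (helper24)

If a Sylow 2-subgroup `S` of `G` is an internal direct product `Q × R`, where `Q` has a unique
involution `z` which is a power of a commutator of `Q` (`IsQuatLike`), and every involution of `R`
is central in `R`, then `G` is not simple: all involutions of `S` are central in `S`, the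
`N_G(S)`-orbit of `z` is linearly independent, so its product `t` is a nontrivial `N_G(S)`-fixed
involution, isolated by Burnside's fusion lemma, and Glauberman's `Z*`-theorem applies.
-/

set_option autoImplicit false

namespace Cfsg.Agent.Lib.H24.QuatFactor

variable {G : Type*} [Group G]

/-- elements of a join of elementwise commuting subgroups are products -/
theorem exists_mul_of_mem_sup {A B : Subgroup G} (hAB : ∀ a ∈ A, ∀ b ∈ B, a * b = b * a)
    {s : G} (hs : s ∈ A ⊔ B) : ∃ a ∈ A, ∃ b ∈ B, s = a * b := by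
  let T : Subgroup G :=
    { carrier := {s | ∃ a ∈ A, ∃ b ∈ B, s = a * b}
      one_mem' := ⟨1, A.one_mem, 1, B.one_mem, by simp⟩
      mul_mem' := by
        rintro _ _ ⟨a, ha, b, hb, rfl⟩ ⟨a', ha', b', hb', rfl⟩
        refine ⟨a * a', A.mul_mem ha ha', b * b', B.mul_mem hb hb', ?_⟩
        calc a * b * (a' * b') = a * (b * a') * b' := by group
          _ = a * (a' * b) * b' := by rw [hAB a' ha' b hb]
          _ = a * a' * (b * b') := by group
      inv_mem' := by
        rintro _ ⟨a, ha, b, hb, rfl⟩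
        refine ⟨a⁻¹, A.inv_mem ha, b⁻¹, B.inv_mem hb, ?_⟩
        rw [mul_inv_rev]
        exact (hAB a⁻¹ (A.inv_mem ha) b⁻¹ (B.inv_mem hb)).symm }
  have hA : A ≤ T := fun a ha => ⟨a, ha, 1, B.one_mem, by simp⟩
  have hB : B ≤ T := fun b hb => ⟨1, A.one_mem, b, hb, by simp⟩
  exact (sup_le hA hB) hs

/-- `Q` has a unique involution `z`, and `z` is a power of a commutator of elements of `Q`. -/
structure IsQuatLike (Q : Subgroup G) (z : G) : Prop where
  mem : z ∈ Q
  ord : orderOf z = 2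
  uniq : ∀ q ∈ Q, orderOf q = 2 → q = z
  comm : ∃ x ∈ Q, ∃ y ∈ Q, ∃ k : ℕ, z = (x * y * x⁻¹ * y⁻¹) ^ k

theorem orderOf_conj_eq (g x : G) : orderOf (g * x * g⁻¹) = orderOf x := by
  have := MulEquiv.orderOf_eq (MulAut.conj g) x
  rwa [MulAut.conj_apply] at this

theorem IsQuatLike.central {Q : Subgroup G} {z : G} (h : IsQuatLike Q z) :
    ∀ q ∈ Q, z * q = q * z := by
  intro q hq
  have h1 : q * z * q⁻¹ ∈ Q := Q.mul_mem (Q.mul_mem hq h.mem) (Q.inv_mem hq)
  have h2 : orderOf (q * z * q⁻¹) = 2 := by rw [orderOf_conj_eq, h.ord]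
  have h3 := h.uniq _ h1 h2
  calc z * q = q * z * q⁻¹ * q := by rw [h3]
    _ = q * z := by group

theorem IsQuatLike.conj {Q : Subgroup G} {z : G} (h : IsQuatLike Q z) (g : G) :
    IsQuatLike (Q.map (MulAut.conj g).toMonoidHom) (g * z * g⁻¹) := by
  refine ⟨⟨z, h.mem, rfl⟩, by rw [orderOf_conj_eq, h.ord], ?_, ?_⟩
  · rintro _ ⟨q, hq, rfl⟩ hord
    have : orderOf q = 2 := by
      have h1 : (MulAut.conj g).toMonoidHom q = g * q * g⁻¹ := rfl
      rw [h1, orderOf_conj_eq] at hord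
      exact hord
    rw [h.uniq q hq this]
    rfl
  · obtain ⟨x, hx, y, hy, k, hk⟩ := h.comm
    refine ⟨g * x * g⁻¹, ⟨x, hx, rfl⟩, g * y * g⁻¹, ⟨y, hy, rfl⟩, k, ?_⟩
    rw [hk]
    have h1 : g * x * g⁻¹ * (g * y * g⁻¹) * (g * x * g⁻¹)⁻¹ * (g * y * g⁻¹)⁻¹
        = g * (x * y * x⁻¹ * y⁻¹) * g⁻¹ := by group
    rw [h1, conj_pow]

section DP

variable {S Q R : Subgroup G}

theorem dp_exists_mul (dp : Cfsg.IsInternalDirectProduct Q R S) {s : G} (hs : s ∈ S) :
    ∃ a ∈ Q, ∃ b ∈ R, s = a * b := by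
  obtain ⟨_, _, hc, _, hsup⟩ := dp
  rw [← hsup] at hs
  exact exists_mul_of_mem_sup hc hs

theorem dp_normal (dp : Cfsg.IsInternalDirectProduct Q R S) {s q : G} (hs : s ∈ S) (hq : q ∈ Q) :
    s * q * s⁻¹ ∈ Q := by
  obtain ⟨a, ha, b, hb, rfl⟩ := dp_exists_mul dp hs
  have hc := dp.2.2.1
  have h1 : a * b * q * (a * b)⁻¹ = a * q * a⁻¹ := by
    have := hc q hq b hb
    calc a * b * q * (a * b)⁻¹ = a * (b * q) * b⁻¹ * a⁻¹ := by group
      _ = a * (q * b) * b⁻¹ * a⁻¹ := by rw [this]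
      _ = a * q * a⁻¹ := by group
  rw [h1]
  exact Q.mul_mem (Q.mul_mem ha hq) (Q.inv_mem ha)

/-- all involutions of `S` are central in `S` -/
theorem inv_central (dp : Cfsg.IsInternalDirectProduct Q R S) {z : G} (hz : IsQuatLike Q z)
    (hR : ∀ r ∈ R, orderOf r = 2 → ∀ s ∈ R, r * s = s * r) :
    ∀ s ∈ S, orderOf s = 2 → ∀ u ∈ S, s * u = u * s := by
  intro s hs hord u hu
  obtain ⟨a, ha, b, hb, rfl⟩ := dp_exists_mul dp hs
  obtain ⟨a', ha', b', hb', rfl⟩ := dp_exists_mul dp hu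
  obtain ⟨_, _, hc, hinf, _⟩ := dp
  have hab : Commute a b := hc a ha b hb
  have hsq : (a * b) ^ 2 = 1 := by rw [← hord]; exact pow_orderOf_eq_one _
  rw [hab.mul_pow] at hsq
  have ha2 : a ^ 2 = (b ^ 2)⁻¹ := eq_inv_of_mul_eq_one_left hsq
  have hmem : a ^ 2 ∈ Q ⊓ R := ⟨Q.pow_mem ha 2, by rw [ha2]; exact R.inv_mem (R.pow_mem hb 2)⟩
  rw [hinf, Subgroup.mem_bot] at hmem
  have hb2 : b ^ 2 = 1 := by rw [hmem, one_mul] at hsq; exact hsq
  have haQ : ∀ q ∈ Q, a * q = q * a := by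
    intro q hq
    by_cases h1 : a = 1
    · rw [h1, one_mul, mul_one]
    · have : orderOf a = 2 := orderOf_eq_prime hmem h1
      rw [hz.uniq a ha this]
      exact hz.central q hq
  have hbR : ∀ r ∈ R, b * r = r * b := by
    intro r hr
    by_cases h1 : b = 1
    · rw [h1, one_mul, mul_one]
    · have : orderOf b = 2 := orderOf_eq_prime hb2 h1
      exact hR b hb this r hr
  have e1 := haQ a' ha'
  have e2 := hc a ha b' hb'
  have e3 := hc a' ha' b hb
  have e4 := hbR b' hb'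
  calc a * b * (a' * b') = a * (b * a') * b' := by group
    _ = a * (a' * b) * b' := by rw [e3]
    _ = (a * a') * (b * b') := by group
    _ = (a' * a) * (b' * b) := by rw [e1, e4]
    _ = a' * (a * b') * b := by group
    _ = a' * (b' * a) * b := by rw [e2]
    _ = a' * b' * (a * b) := by group

/-- the key independence step: a normal quaternion-like subgroup of `S` with a different
involution has its involution inside the complementary factor `R`. -/
theorem key (hS : IsPGroup 2 S) (dp : Cfsg.IsInternalDirectProduct Q R S) {z : G}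
    (hz : IsQuatLike Q z) {Q₂ : Subgroup G} {z₂ : G} (hQ₂S : Q₂ ≤ S)
    (hQ₂n : ∀ s ∈ S, ∀ q ∈ Q₂, s * q * s⁻¹ ∈ Q₂) (hz₂ : IsQuatLike Q₂ z₂) (hne : z₂ ≠ z) :
    z₂ ∈ R := by
  have hQS : Q ≤ S := dp.1
  have hc := dp.2.2.1
  -- the intersection is trivial
  have hint : ∀ w ∈ Q, w ∈ Q₂ → w = 1 := by
    intro w hw hw2
    by_contra hw1
    obtain ⟨e, he⟩ := hS ⟨w, hQS hw⟩
    have he' : w ^ 2 ^ e = 1 := by simpa using congrArg Subtype.val he
    obtain ⟨j, hj, hjord⟩ := (Nat.dvd_prime_pow Nat.prime_two).mp (orderOf_dvd_of_pow_eq_one he')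
    have hjpos : 0 < j := by
      rcases Nat.eq_zero_or_pos j with h0 | h0
      · rw [h0, pow_zero, orderOf_eq_one_iff] at hjord
        exact absurd hjord hw1
      · exact h0
    have hu : orderOf (w ^ 2 ^ (j - 1)) = 2 := by
      rw [orderOf_pow' _ (by positivity), hjord]
      have : Nat.gcd (2 ^ j) (2 ^ (j - 1)) = 2 ^ (j - 1) :=
        Nat.gcd_eq_right (pow_dvd_pow 2 (Nat.sub_le j 1))
      rw [this]
      have h2 : 2 ^ j = 2 ^ (j - 1) * 2 := by
        rw [← pow_succ]; congr 1; omega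
      rw [h2, Nat.mul_div_cancel_left _ (by positivity)]
    have e1 := hz.uniq _ (Q.pow_mem hw _) hu
    have e2 := hz₂.uniq _ (Q₂.pow_mem hw2 _) hu
    exact hne (e2.symm.trans e1)
  -- the two subgroups commute
  have hcomm : ∀ q₁ ∈ Q, ∀ q₂ ∈ Q₂, q₁ * q₂ = q₂ * q₁ := by
    intro q₁ h1 q₂ h2
    have hA : q₁ * q₂ * q₁⁻¹ * q₂⁻¹ ∈ Q := by
      have := dp_normal dp (hQ₂S h2) (Q.inv_mem h1)
      have e : q₁ * q₂ * q₁⁻¹ * q₂⁻¹ = q₁ * (q₂ * q₁⁻¹ * q₂⁻¹) := by group
      rw [e]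
      exact Q.mul_mem h1 this
    have hB : q₁ * q₂ * q₁⁻¹ * q₂⁻¹ ∈ Q₂ :=
      Q₂.mul_mem (hQ₂n q₁ (hQS h1) q₂ h2) (Q₂.inv_mem h2)
    have := hint _ hA hB
    calc q₁ * q₂ = q₁ * q₂ * q₁⁻¹ * q₂⁻¹ * (q₂ * q₁) := by group
      _ = q₂ * q₁ := by rw [this, one_mul]
  -- decompose the commutator
  obtain ⟨x, hx, y, hy, k, hk⟩ := hz₂.comm
  obtain ⟨x₁, hx₁, x₂, hx₂, rfl⟩ := dp_exists_mul dp (hQ₂S hx)
  obtain ⟨y₁, hy₁, y₂, hy₂, rfl⟩ := dp_exists_mul dp (hQ₂S hy)
  -- `x₁`, `y₁` are central in `Q`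
  have cen : ∀ a ∈ Q, ∀ b ∈ R, a * b ∈ Q₂ → ∀ q ∈ Q, a * q = q * a := by
    intro a ha b hb hab q hq
    have e1 := hcomm q hq (a * b) hab
    have e2 := hc q hq b hb
    calc a * q = a * (q * b) * b⁻¹ := by group
      _ = a * (b * q) * b⁻¹ := by rw [e2]
      _ = (a * b) * q * b⁻¹ := by group
      _ = q * (a * b) * b⁻¹ := by rw [← e1]
      _ = q * a := by group
  have hx₁c := cen x₁ hx₁ x₂ hx₂ hx
  have hy₁c := cen y₁ hy₁ y₂ hy₂ hy
  have f1 := hc x₁ hx₁ y₂ hy₂
  have f2 := hc y₁ hy₁ x₂ hx₂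
  have f3 := hx₁c y₁ hy₁
  have f4 := hc x₁ hx₁ x₂ hx₂
  have f5 := hc y₁ hy₁ y₂ hy₂
  have hcm : x₁ * x₂ * (y₁ * y₂) * (x₁ * x₂)⁻¹ * (y₁ * y₂)⁻¹ = x₂ * y₂ * x₂⁻¹ * y₂⁻¹ := by
    have g1 : x₁ * x₂ * (y₁ * y₂) = x₁ * y₁ * (x₂ * y₂) := by
      calc x₁ * x₂ * (y₁ * y₂) = x₁ * (x₂ * y₁) * y₂ := by group
        _ = x₁ * (y₁ * x₂) * y₂ := by rw [f2]
        _ = x₁ * y₁ * (x₂ * y₂) := by group
    have g2 : y₁ * y₂ * (x₁ * x₂) = x₁ * y₁ * (y₂ * x₂) := by
      calc y₁ * y₂ * (x₁ * x₂) = y₁ * (y₂ * x₁) * x₂ := by group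
        _ = y₁ * (x₁ * y₂) * x₂ := by rw [f1]
        _ = (y₁ * x₁) * (y₂ * x₂) := by group
        _ = x₁ * y₁ * (y₂ * x₂) := by rw [f3]
    have g3 : x₁ * x₂ * (y₁ * y₂) * (x₁ * x₂)⁻¹ * (y₁ * y₂)⁻¹
        = x₁ * x₂ * (y₁ * y₂) * (y₁ * y₂ * (x₁ * x₂))⁻¹ := by group
    rw [g3, g1, g2]
    have hd : x₂ * y₂ * (y₂ * x₂)⁻¹ ∈ R :=
      R.mul_mem (R.mul_mem hx₂ hy₂) (R.inv_mem (R.mul_mem hy₂ hx₂))
    have g4 := hc (x₁ * y₁) (Q.mul_mem hx₁ hy₁) _ hd
    calc x₁ * y₁ * (x₂ * y₂) * (x₁ * y₁ * (y₂ * x₂))⁻¹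
        = (x₁ * y₁) * (x₂ * y₂ * (y₂ * x₂)⁻¹) * (x₁ * y₁)⁻¹ := by group
      _ = (x₂ * y₂ * (y₂ * x₂)⁻¹) * (x₁ * y₁) * (x₁ * y₁)⁻¹ := by rw [g4]
      _ = x₂ * y₂ * x₂⁻¹ * y₂⁻¹ := by group
  rw [hk, hcm]
  exact R.pow_mem (R.mul_mem (R.mul_mem (R.mul_mem hx₂ hy₂) (R.inv_mem hx₂)) (R.inv_mem hy₂)) k

end DP

section Main

theorem list_prod_sq {l : List G} (h2 : ∀ a ∈ l, a ^ 2 = 1)
    (hc : ∀ a ∈ l, ∀ b ∈ l, Commute a b) : l.prod ^ 2 = 1 := by
  induction l with
  | nil => simp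
  | cons a l ih =>
    rw [List.prod_cons]
    have h1 : Commute a l.prod :=
      Commute.list_prod_right _ _
        (fun x hx => hc a List.mem_cons_self x (List.mem_cons_of_mem _ hx))
    rw [h1.mul_pow, h2 a List.mem_cons_self, one_mul]
    exact ih (fun b hb => h2 b (List.mem_cons_of_mem _ hb))
      (fun b hb c hc' => hc b (List.mem_cons_of_mem _ hb) c (List.mem_cons_of_mem _ hc'))

variable [Finite G]

/-- **Main theorem**: a Sylow 2-subgroup `Q × R` with `Q` quaternion-like and all involutions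
of `R` central in `R` prevents simplicity. -/
theorem not_simple (S : Sylow 2 G) (Q R : Subgroup G)
    (dp : Cfsg.IsInternalDirectProduct Q R (S : Subgroup G)) {z : G} (hz : IsQuatLike Q z)
    (hR : ∀ r ∈ R, orderOf r = 2 → ∀ s ∈ R, r * s = s * r) : ¬ IsSimpleGroup G := by
  classical
  intro hsimple
  have hS2 : IsPGroup 2 (S : Subgroup G) := S.isPGroup'
  set N := Subgroup.normalizer ((S : Subgroup G) : Set G) with hN
  have hcen := inv_central dp hz hR
  have hnorm : ∀ g ∈ N, ∀ s ∈ (S : Subgroup G), g * s * g⁻¹ ∈ (S : Subgroup G) := by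
    intro g hg s hs
    exact (Subgroup.mem_normalizer_iff.mp hg s).mp hs
  -- the orbit of `z`
  let O : Set G := {v | ∃ g ∈ N, v = g * z * g⁻¹}
  have hOfin : O.Finite := Set.toFinite O
  let l : List G := hOfin.toFinset.toList
  have hl : ∀ v, v ∈ l ↔ ∃ g ∈ N, v = g * z * g⁻¹ := by
    intro v
    show v ∈ hOfin.toFinset.toList ↔ _
    rw [Finset.mem_toList, Set.Finite.mem_toFinset]
    rfl
  have hnd : l.Nodup := Finset.nodup_toList _
  have hzS : z ∈ (S : Subgroup G) := dp.1 hz.mem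
  have hmemS : ∀ v ∈ l, v ∈ (S : Subgroup G) := by
    intro v hv
    obtain ⟨g, hg, rfl⟩ := (hl v).mp hv
    exact hnorm g hg z hzS
  have hord : ∀ v ∈ l, orderOf v = 2 := by
    intro v hv
    obtain ⟨g, hg, rfl⟩ := (hl v).mp hv
    rw [orderOf_conj_eq, hz.ord]
  have hcomm : ∀ a ∈ l, ∀ b ∈ l, Commute a b := fun a ha b hb =>
    hcen a (hmemS a ha) (hord a ha) b (hmemS b hb)
  have hpw : l.Pairwise Commute :=
    (List.pairwise_of_forall (R := fun _ _ => True) (fun _ _ => trivial)).imp_of_mem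
      (fun ha hb _ => hcomm _ ha _ hb)
  set t := l.prod with ht
  -- invariance under the normalizer
  have hinv : ∀ n ∈ N, n * t * n⁻¹ = t := by
    intro n hn
    have h1 : n * t * n⁻¹ = (l.map (fun v => n * v * n⁻¹)).prod := by
      have := map_list_prod (MulAut.conj n).toMonoidHom l
      have e : (l.map (fun v => n * v * n⁻¹)) = l.map ((MulAut.conj n).toMonoidHom) := by
        apply List.map_congr_left
        intro v _
        rfl
      rw [e, ← this]
      rfl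
    have hperm : l.Perm (l.map (fun v => n * v * n⁻¹)) := by
      rw [List.perm_ext_iff_of_nodup hnd (hnd.map (fun a b hab => by simpa using hab))]
      intro v
      rw [List.mem_map]
      constructor
      · intro hv
        obtain ⟨g, hg, rfl⟩ := (hl v).mp hv
        exact ⟨n⁻¹ * g * z * g⁻¹ * n,
          (hl _).mpr ⟨n⁻¹ * g, N.mul_mem (N.inv_mem hn) hg, by group⟩, by group⟩
      · rintro ⟨w, hw, rfl⟩
        obtain ⟨g, hg, rfl⟩ := (hl w).mp hw
        exact (hl _).mpr ⟨n * g, N.mul_mem hn hg, by group⟩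
    rw [h1]
    exact (hperm.prod_eq' hpw).symm
  -- `t ≠ 1`
  have hzl : z ∈ l := (hl z).mpr ⟨1, N.one_mem, by group⟩
  have ht1 : t ≠ 1 := by
    intro h1
    have hperm : l.Perm (z :: l.erase z) := List.perm_cons_erase hzl
    have h2 : t = z * (l.erase z).prod := by
      rw [ht, hperm.prod_eq' hpw, List.prod_cons]
    have h3 : (l.erase z).prod ∈ R := by
      apply Subgroup.list_prod_mem
      intro x hx
      rw [hnd.mem_erase_iff] at hx
      obtain ⟨g, hg, rfl⟩ := (hl x).mp hx.2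
      refine key hS2 dp hz (Q₂ := Q.map (MulAut.conj g).toMonoidHom) ?_ ?_ (hz.conj g) hx.1
      · rintro _ ⟨q, hq, rfl⟩
        exact hnorm g hg q (dp.1 hq)
      · rintro s hs _ ⟨q, hq, rfl⟩
        have hs' : g⁻¹ * s * g ∈ (S : Subgroup G) := by
          have := hnorm g⁻¹ (N.inv_mem hg) s hs
          simpa using this
        have := dp_normal dp hs' hq
        refine ⟨g⁻¹ * s * g * q * (g⁻¹ * s * g)⁻¹, this, ?_⟩
        show g * (g⁻¹ * s * g * q * (g⁻¹ * s * g)⁻¹) * g⁻¹ = s * (g * q * g⁻¹) * s⁻¹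
        group
    rw [h1] at h2
    have h4 : z = ((l.erase z).prod)⁻¹ := eq_inv_of_mul_eq_one_left h2.symm
    have h5 : z ∈ Q ⊓ R := ⟨hz.mem, by rw [h4]; exact R.inv_mem h3⟩
    rw [dp.2.2.2.1, Subgroup.mem_bot] at h5
    have := hz.ord
    rw [h5, orderOf_one] at this
    omega
  have htS : t ∈ (S : Subgroup G) := Subgroup.list_prod_mem _ hmemS
  have htc : ∀ u ∈ (S : Subgroup G), t * u = u * t := by
    intro u hu
    have : Commute u t := Commute.list_prod_right _ _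
      (fun x hx => (hcen x (hmemS x hx) (hord x hx) u hu).symm)
    exact this.symm
  have ht2 : t ^ 2 = 1 := list_prod_sq
    (fun a ha => by rw [← hord a ha]; exact pow_orderOf_eq_one a) hcomm
  have hto : orderOf t = 2 := orderOf_eq_prime ht2 ht1
  -- fusion of `t`
  have hfus : ∀ g : G, g * t * g⁻¹ ∈ (S : Subgroup G) → g * t * g⁻¹ = t := by
    intro g hg
    have ho : orderOf (g * t * g⁻¹) = 2 := by rw [orderOf_conj_eq, hto]
    have hyc := hcen _ hg ho
    have hX : ∀ x ∈ S, Cfsg.Agent.Lib.L0.conjSet x {t} = {t} := by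
      intro x hx
      unfold Cfsg.Agent.Lib.L0.conjSet
      rw [Set.image_singleton]
      have := htc x hx
      congr 1
      calc x * t * x⁻¹ = t * x * x⁻¹ := by rw [this]
        _ = t := by group
    have hY : ∀ x ∈ S, Cfsg.Agent.Lib.L0.conjSet x {g * t * g⁻¹} = {g * t * g⁻¹} := by
      intro x hx
      unfold Cfsg.Agent.Lib.L0.conjSet
      rw [Set.image_singleton]
      have := hyc x hx
      congr 1
      calc x * (g * t * g⁻¹) * x⁻¹ = (g * t * g⁻¹) * x * x⁻¹ := by rw [this]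
        _ = g * t * g⁻¹ := by group
    obtain ⟨n, hn, hnt⟩ := Cfsg.Agent.Lib.L0.burnside_fusion_set S {t} {g * t * g⁻¹} hX hY g
      (by unfold Cfsg.Agent.Lib.L0.conjSet; rw [Set.image_singleton])
    unfold Cfsg.Agent.Lib.L0.conjSet at hnt
    rw [Set.image_singleton] at hnt
    have := Set.singleton_eq_singleton_iff.mp hnt
    rw [← this]
    exact hinv n hn
  -- the `Z*`-theorem
  have hJ : Cfsg.Agent.Lib.H1.ZStarGen.JHyp S (Subgroup.zpowers t) := by
    refine ⟨by rw [Subgroup.zpowers_le]; exact htS, ?_⟩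
    intro y hy g hg
    obtain ⟨k, rfl⟩ := Subgroup.mem_zpowers_iff.mp hy
    have hk : t ^ k = t ^ (k % 2) := by
      have := zpow_mod_orderOf t k
      rw [hto] at this
      exact this.symm
    rcases Int.emod_two_eq_zero_or_one k with h0 | h0
    · rw [hk, h0, zpow_zero]; group
    · rw [hk, h0, zpow_one] at hg ⊢
      exact hfus g hg
  have hZ := Cfsg.Agent.Lib.H1.ZStarGen.gz S (Subgroup.zpowers t) hJ t (Subgroup.mem_zpowers t)
  have hOn : (Cfsg.pPrimeCore 2 G).Normal := Cfsg.Agent.Lib.H22.pPrimeCore_normal 2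
  rcases hsimple.eq_bot_or_eq_top_of_normal _ hOn with hbot | htop
  · -- `t` is central in `G`
    have htcen : t ∈ Subgroup.center G := by
      rw [Subgroup.mem_center_iff]
      intro g
      have := hZ g
      change t * g * t⁻¹ * g⁻¹ ∈ Cfsg.pPrimeCore 2 G at this
      rw [hbot, Subgroup.mem_bot] at this
      calc g * t = (t * g * t⁻¹ * g⁻¹)⁻¹ * (t * g) := by group
        _ = t * g := by rw [this, inv_one, one_mul]
    rcases hsimple.eq_bot_or_eq_top_of_normal (Subgroup.center G) inferInstance with hb | htp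
    · rw [hb, Subgroup.mem_bot] at htcen
      exact ht1 htcen
    · obtain ⟨x, _, y, _, k, hk⟩ := hz.comm
      have hx : x ∈ Subgroup.center G := by rw [htp]; exact Subgroup.mem_top x
      have hxy : y * x = x * y := Subgroup.mem_center_iff.mp hx y
      have : x * y * x⁻¹ * y⁻¹ = 1 := by
        rw [← hxy]; group
      rw [this, one_pow] at hk
      have := hz.ord
      rw [hk, orderOf_one] at this
      omega
  · have hcop := Cfsg.Agent.Lib.H22.card_pPrimeCore_coprime (G := G) 2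
    rw [htop, Subgroup.card_top] at hcop
    have h2 : 2 ∣ Nat.card G := by
      rw [← hz.ord]; exact orderOf_dvd_natCard z
    have h3 : 2 ∣ Nat.gcd (Nat.card G) 2 := Nat.dvd_gcd h2 dvd_rfl
    rw [hcop] at h3
    omega

end Main

section Quat

open QuaternionGroup

theorem quat_natCast_add_self (m : ℕ) : ((m : ZMod (2 * m)) + (m : ZMod (2 * m))) = 0 := by
  have : ((2 * m : ℕ) : ZMod (2 * m)) = 0 := ZMod.natCast_self (2 * m)
  rw [← this]
  push_cast
  ring

theorem quat_natCast_ne_zero (m : ℕ) [NeZero m] : (m : ZMod (2 * m)) ≠ 0 := by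
  intro h
  rw [ZMod.natCast_eq_zero_iff] at h
  have hm : 0 < m := Nat.pos_of_ne_zero (NeZero.ne m)
  have := Nat.le_of_dvd hm h
  omega

theorem quat_orderOf_a_self (m : ℕ) [NeZero m] :
    orderOf (a (m : ZMod (2 * m)) : QuaternionGroup m) = 2 := by
  apply orderOf_eq_prime
  · rw [sq, a_mul_a, quat_natCast_add_self, a_zero]
  · rw [one_def]
    intro h
    exact quat_natCast_ne_zero m (a.inj h)

theorem quat_unique_involution (m : ℕ) [NeZero m] (g : QuaternionGroup m)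
    (hg : orderOf g = 2) : g = a (m : ZMod (2 * m)) := by
  have hm : 0 < m := Nat.pos_of_ne_zero (NeZero.ne m)
  cases g with
  | a i =>
    have h1 : (a i : QuaternionGroup m) ^ 2 = 1 := by rw [← hg]; exact pow_orderOf_eq_one _
    rw [sq, a_mul_a, one_def] at h1
    have h2 : i + i = 0 := a.inj h1
    have hne : NeZero (2 * m) := ⟨by omega⟩
    have h3 : ((i.val + i.val : ℕ) : ZMod (2 * m)) = 0 := by
      push_cast
      rw [ZMod.natCast_zmod_val]
      exact h2
    rw [ZMod.natCast_eq_zero_iff] at h3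
    have hlt : i.val < 2 * m := ZMod.val_lt i
    have h4 : i.val = 0 ∨ i.val = m := by
      obtain ⟨c, hc⟩ := h3
      have hc2 : c < 2 := by
        by_contra h
        push Not at h
        have : 2 * m * 2 ≤ 2 * m * c := Nat.mul_le_mul_left _ h
        omega
      interval_cases c
      · left; omega
      · right; omega
    rcases h4 with h0 | h0
    · exfalso
      have : i = 0 := (ZMod.val_eq_zero i).mp h0
      rw [this, a_zero, orderOf_one] at hg
      omega
    · congr 1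
      have h5 : ((i.val : ℕ) : ZMod (2 * m)) = i := ZMod.natCast_zmod_val i
      rw [h0] at h5
      exact h5.symm
  | xa i =>
    rw [orderOf_xa] at hg
    omega

theorem quat_comm (m : ℕ) :
    (xa 0 * a 1 * (xa 0)⁻¹ * (a 1)⁻¹ : QuaternionGroup m) = a (-2) := by
  have h1 : (xa 0 : QuaternionGroup m)⁻¹ = xa (m : ZMod (2 * m)) := by
    apply inv_eq_of_mul_eq_one_right
    rw [xa_mul_xa, sub_zero, quat_natCast_add_self, a_zero]
  have h2 : (a 1 : QuaternionGroup m)⁻¹ = a (-1) := by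
    apply inv_eq_of_mul_eq_one_right
    rw [a_mul_a, add_neg_cancel, a_zero]
  rw [h1, h2, xa_mul_a, xa_mul_xa, a_mul_a]
  congr 1
  have := quat_natCast_add_self m
  linear_combination this

theorem quat_a_pow (m : ℕ) (i : ZMod (2 * m)) (k : ℕ) :
    (a i : QuaternionGroup m) ^ k = a ((k : ZMod (2 * m)) * i) := by
  induction k with
  | zero => rw [pow_zero, Nat.cast_zero, zero_mul, a_zero]
  | succ k ih =>
    rw [pow_succ, ih, a_mul_a]
    congr 1
    push_cast
    ring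

theorem quat_comm_pow (m k : ℕ) (hm : m = 2 * k) :
    (xa 0 * a 1 * (xa 0)⁻¹ * (a 1)⁻¹ : QuaternionGroup m) ^ k = a (m : ZMod (2 * m)) := by
  subst hm
  rw [quat_comm, quat_a_pow]
  congr 1
  have h1 := quat_natCast_add_self (2 * k)
  push_cast at h1 ⊢
  linear_combination (-1 : ZMod (2 * (2 * k))) * h1

/-- a subgroup isomorphic to a generalized quaternion group `Q_{4m}`, `m` even, is
quaternion-like. -/
theorem isQuatLike_of_equiv {Q : Subgroup G} {m k : ℕ} [NeZero m] (hm : m = 2 * k)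
    (e : ↥Q ≃* QuaternionGroup m) : ∃ z, IsQuatLike Q z := by
  refine ⟨((e.symm (a (m : ZMod (2 * m))) : ↥Q) : G), (e.symm _).2, ?_, ?_, ?_⟩
  · rw [Subgroup.orderOf_coe, MulEquiv.orderOf_eq, quat_orderOf_a_self]
  · intro q hq hord
    have h1 : orderOf (e ⟨q, hq⟩) = 2 := by
      rw [MulEquiv.orderOf_eq, ← Subgroup.orderOf_coe]
      exact hord
    have h2 := quat_unique_involution m _ h1
    have h3 : (⟨q, hq⟩ : ↥Q) = e.symm (a (m : ZMod (2 * m))) := by
      rw [← h2, MulEquiv.symm_apply_apply]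
    exact congrArg Subtype.val h3
  · refine ⟨_, (e.symm (xa 0)).2, _, (e.symm (a 1)).2, k, ?_⟩
    rw [← quat_comm_pow m k hm]
    simp only [map_pow, map_mul, map_inv, Subgroup.coe_pow, Subgroup.coe_mul, Subgroup.coe_inv]

end Quat

end Cfsg.Agent.Lib.H24.QuatFactor
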