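import Mathlib
import Cfsg.Prelude.Def_OddOrderLocal
import Cfsg.Prelude.Def_CaseTheorems
import Cfsg.Prelude.Def_PLocal
import Cfsg.Agent.Lib.H19.R2Defs
import Cfsg.Agent.Lib.H22.UniqueOrderP

/-!
# S3888 piece B4 (architect helper19): `|γ₃ : γ₄| ≤ p` for the `Gam` data of a minimal nonmetacyclic group.

Work in `Q = G ⧸ γ₄`: `Γ = γ₃/γ₄` is central of exponent `p`; `ĉ^p = 1`; for `M = ⟨u⟩G'` (index `p`)
every `p`-th power of an element of `M̂` lies in `⟨û^p⟩` (order `≤ p`); but `℧₁(M) = γ₃`.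
-/

set_option autoImplicit false

namespace Cfsg.Agent.Lib.H24.R2

open Cfsg Cfsg.Agent.Lib.H19.R2
open scoped commutatorElement

universe u

variable {p : ℕ} [Fact p.Prime] {G : Type u} [Group G] [Finite G]

omit [Finite G] [Fact p.Prime] in
/-- `H` normal, `x ^ p ∈ H` ⇒ `|⟨x⟩H : H|` divides `p`. -/
theorem relIndex_zpowers_sup_dvd (H : Subgroup G) [H.Normal] (x : G) (hx : x ^ p ∈ H) :
    H.relIndex (Subgroup.zpowers x ⊔ H) ∣ p := by
  have h1 : H.relIndex (Subgroup.zpowers x ⊔ H) =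
      Nat.card ((Subgroup.zpowers x ⊔ H).map (QuotientGroup.mk' H)) := by
    have := Subgroup.relIndex_comap (H := (⊥ : Subgroup (G ⧸ H))) (QuotientGroup.mk' H)
      (Subgroup.zpowers x ⊔ H)
    rw [Subgroup.relIndex_bot_left, MonoidHom.comap_bot, QuotientGroup.ker_mk'] at this
    exact this
  have h2 : (Subgroup.zpowers x ⊔ H).map (QuotientGroup.mk' H) =
      Subgroup.zpowers (QuotientGroup.mk' H x) := by
    rw [Subgroup.map_sup, MonoidHom.map_zpowers, QuotientGroup.map_mk'_self, sup_bot_eq]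
  rw [h1, h2, Nat.card_zpowers]
  apply orderOf_dvd_of_pow_eq_one
  rw [← map_pow, QuotientGroup.mk'_apply, QuotientGroup.eq_one_iff]
  exact hx

set_option linter.unusedVariables false in
/-- B4. -/
theorem mnm_gamma4 (hp2 : p ≠ 2) (hG : IsPGroup p G) {u v : G} (hg : Gam p G u v) :
    Nat.card ↥((⊤ : Subgroup G).lowerCentralSeries 2) ≤
      p * Nat.card ↥((⊤ : Subgroup G).lowerCentralSeries 3) := by
  have hpp : p.Prime := Fact.out
  obtain ⟨γ₃, hγ₃⟩ : ∃ S : Subgroup G, S = (⊤ : Subgroup G).lowerCentralSeries 2 := ⟨_, rfl⟩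
  obtain ⟨γ₄, hγ₄⟩ : ∃ S : Subgroup G, S = (⊤ : Subgroup G).lowerCentralSeries 3 := ⟨_, rfl⟩
  have hγ₃n : γ₃.Normal := by rw [hγ₃]; infer_instance
  have hγ₄n : γ₄.Normal := by rw [hγ₄]; infer_instance
  have hG'n : (commutator G).Normal := by rw [commutator_def]; infer_instance
  have hγ₄def : γ₄ = ⁅γ₃, (⊤ : Subgroup G)⁆ := by rw [hγ₄, hγ₃, Subgroup.lowerCentralSeries_succ]
  have hγ₃def : γ₃ = ⁅commutator G, (⊤ : Subgroup G)⁆ := by
    rw [hγ₃, Subgroup.lowerCentralSeries_succ, Subgroup.top_lowerCentralSeries_one]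
  have hγ₄le : γ₄ ≤ γ₃ := by
    rw [hγ₄, hγ₃]; exact Subgroup.lowerCentralSeries_antitone ⊤ (by norm_num)
  have hγ₃le : γ₃ ≤ commutator G := by
    rw [hγ₃, ← Subgroup.top_lowerCentralSeries_one]
    exact Subgroup.lowerCentralSeries_antitone ⊤ (by norm_num)
  have hcnot : ⁅u, v⁆ ∉ γ₃ := by rw [hγ₃]; exact hg.cnot
  have hcpow : ⁅u, v⁆ ^ p ∈ γ₃ := by rw [hγ₃]; exact hg.cpow
  have hcomm : commutator G = Subgroup.zpowers ⁅u, v⁆ ⊔ γ₃ := by rw [hγ₃]; exact hg.comm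
  have hidx : γ₃.index = p ^ 3 := by rw [hγ₃]; exact hg.idx
  have hpow : ∀ g : G, g ^ p ∈ γ₃ := by rw [hγ₃]; exact hg.pow
  have hag : ∀ M : Subgroup G, M.index = p → agemoOf p M = γ₃ := by rw [hγ₃]; exact hg.ag
  rw [← hγ₃, ← hγ₄]
  have hcG' : ⁅u, v⁆ ∈ commutator G := by
    rw [commutator_def]
    exact Subgroup.commutator_mem_commutator (Subgroup.mem_top u) (Subgroup.mem_top v)
  -- commutators with `G'` land in `γ₃`
  have hG'γ₃ : ∀ d ∈ commutator G, ∀ g : G, ⁅d, g⁆ ∈ γ₃ := by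
    intro d hd g
    rw [hγ₃def]
    exact Subgroup.commutator_mem_commutator hd (Subgroup.mem_top g)
  have hG'γ₃' : ∀ d ∈ commutator G, ∀ g : G, ⁅g, d⁆ ∈ γ₃ := by
    intro d hd g
    rw [← commutatorElement_inv]
    exact Subgroup.inv_mem _ (hG'γ₃ d hd g)
  -- the quotient `Q = G ⧸ γ₄`
  obtain ⟨ρ, hρ⟩ : ∃ f : G →* G ⧸ γ₄, f = QuotientGroup.mk' γ₄ := ⟨_, rfl⟩
  have hρs : Function.Surjective ρ := by rw [hρ]; exact QuotientGroup.mk'_surjective γ₄
  have hρker : ∀ g : G, ρ g = 1 ↔ g ∈ γ₄ := by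
    intro g; rw [hρ, QuotientGroup.mk'_apply, QuotientGroup.eq_one_iff]
  -- `Γ = ρ γ₃` is central
  have hΓZ : ∀ t ∈ γ₃, ∀ X : G ⧸ γ₄, X * ρ t = ρ t * X := by
    intro t ht X
    obtain ⟨g, rfl⟩ := hρs X
    have hmem : ⁅t, g⁆ ∈ γ₄ := by
      rw [hγ₄def]; exact Subgroup.commutator_mem_commutator ht (Subgroup.mem_top g)
    have h1 : ⁅ρ t, ρ g⁆ = 1 := by rw [← map_commutatorElement]; exact (hρker _).2 hmem
    exact ((commutatorElement_eq_one_iff_commute.1 h1).eq).symm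
  -- `Γ` has exponent `p`
  have hE : ∀ t ∈ γ₃, (ρ t) ^ p = 1 := by
    intro t ht
    rw [hγ₃def, Subgroup.commutator_def] at ht
    induction ht using Subgroup.closure_induction with
    | mem x hx =>
      obtain ⟨d, hd, g, _, rfl⟩ := hx
      have hkZ := hΓZ ⁅d, g⁆ (hG'γ₃ d hd g)
      have h1 := Cfsg.Agent.Lib.H22.pow_mul_comm_of_central (u := ρ g) (v := ρ d) (by
        intro y
        have := hkZ y
        rwa [map_commutatorElement, commutatorElement_def] at this) p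
      have h2 : (ρ d) ^ p * ρ g = ρ g * (ρ d) ^ p := by
        have := hΓZ (d ^ p) (hpow d) (ρ g)
        rw [map_pow] at this
        exact this.symm
      rw [map_commutatorElement, commutatorElement_def]
      have h3 : (ρ d * ρ g * (ρ d)⁻¹ * (ρ g)⁻¹) ^ p * (ρ g * (ρ d) ^ p) = 1 * (ρ g * (ρ d) ^ p) := by
        rw [one_mul, ← mul_assoc, ← h1, h2]
      exact mul_right_cancel h3
    | one => simp
    | mul x y hx _ ihx ihy =>
      have hxγ : x ∈ γ₃ := by rw [hγ₃def, Subgroup.commutator_def]; exact hx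
      have hc : Commute (ρ x) (ρ y) := (hΓZ x hxγ (ρ y)).symm
      rw [map_mul, hc.mul_pow, ihx, ihy, one_mul]
    | inv x _ ihx => rw [map_inv, inv_pow, ihx, inv_one]
  -- `p * ((p - 1) / 2)` exponents kill `Γ`
  have hpodd : p * (p - 1) / 2 = p * ((p - 1) / 2) := by
    have h2 : 2 ∣ p - 1 := by
      have hodd : Odd p := hpp.odd_of_ne_two hp2
      obtain ⟨k, hk⟩ := hodd
      exact ⟨k, by omega⟩
    exact Nat.mul_div_assoc p h2
  have hE2 : ∀ t ∈ γ₃, (ρ t) ^ (p * (p - 1) / 2) = 1 := by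
    intro t ht
    rw [hpodd, pow_mul, hE t ht, one_pow]
  -- `ĉ ^ p = 1`
  have hĉ : (ρ ⁅u, v⁆) ^ p = 1 := by
    have hvu : ⁅v, u⁆ ∈ commutator G := by
      rw [commutator_def]
      exact Subgroup.commutator_mem_commutator (Subgroup.mem_top v) (Subgroup.mem_top u)
    have hk : ⁅u, ⁅v, u⁆⁆ ∈ γ₃ := hG'γ₃' _ hvu u
    have hkZ := hΓZ _ hk
    have h1 := Cfsg.Agent.Lib.H22.mul_pow_of_central (u := ρ ⁅v, u⁆) (v := ρ u) (by
      intro y
      have := hkZ y
      rwa [map_commutatorElement, commutatorElement_def] at this) p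
    have hk1 : (ρ u * ρ ⁅v, u⁆ * (ρ u)⁻¹ * (ρ ⁅v, u⁆)⁻¹) ^ (p * (p - 1) / 2) = 1 := by
      have := hE2 _ hk
      rwa [map_commutatorElement, commutatorElement_def] at this
    rw [hk1, mul_one] at h1
    have h2 : ρ ⁅v, u⁆ * ρ u = ρ v * ρ u * (ρ v)⁻¹ := by
      rw [map_commutatorElement, commutatorElement_def]; group
    have h3 : (ρ v * ρ u * (ρ v)⁻¹) ^ p = (ρ u) ^ p := by
      rw [conj_pow]
      have := hΓZ (u ^ p) (hpow u) (ρ v)
      rw [map_pow] at this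
      rw [this, mul_inv_cancel_right]
    rw [h2, h3] at h1
    have h4 : (ρ ⁅v, u⁆) ^ p = 1 := by
      have : 1 * (ρ u) ^ p = (ρ ⁅v, u⁆) ^ p * (ρ u) ^ p := by rw [one_mul]; exact h1
      exact (mul_right_cancel this).symm
    have h5 : ρ ⁅u, v⁆ = (ρ ⁅v, u⁆)⁻¹ := by rw [← map_inv, commutatorElement_inv]
    rw [h5, inv_pow, h4, inv_one]
  -- the maximal subgroup `M = ⟨u⟩ G'`
  obtain ⟨M, hM⟩ : ∃ S : Subgroup G, S = Subgroup.zpowers u ⊔ commutator G := ⟨_, rfl⟩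
  have hG'M : commutator G ≤ M := by rw [hM]; exact le_sup_right
  have huM : u ∈ M := by rw [hM]; exact Subgroup.mem_sup_left (Subgroup.mem_zpowers u)
  have hMn : M.Normal := by
    constructor
    intro m hm g
    have : g * m * g⁻¹ = ⁅g, m⁆ * m := by rw [commutatorElement_def]; group
    rw [this]
    refine Subgroup.mul_mem _ (hG'M ?_) hm
    rw [commutator_def]
    exact Subgroup.commutator_mem_commutator (Subgroup.mem_top g) (Subgroup.mem_top m)
  have hMidx : M.index = p := by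
    have a1 : γ₃.relIndex (commutator G) ∣ p := by
      rw [hcomm]; exact relIndex_zpowers_sup_dvd γ₃ ⁅u, v⁆ hcpow
    have a2 : (commutator G).relIndex M ∣ p := by
      rw [hM]; exact relIndex_zpowers_sup_dvd (commutator G) u (hγ₃le (hpow u))
    have a3 : M.index ∣ p := by
      have htop : Subgroup.zpowers v ⊔ M = ⊤ := by
        rw [eq_top_iff, ← hg.gen, Subgroup.closure_le]
        intro x hx
        rcases hx with rfl | rfl
        · exact Subgroup.mem_sup_right huM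
        · exact Subgroup.mem_sup_left (Subgroup.mem_zpowers _)
      have := relIndex_zpowers_sup_dvd M v (hG'M (hγ₃le (hpow v)))
      rwa [htop, Subgroup.relIndex_top_right] at this
    have e1 : γ₃.relIndex (commutator G) * (commutator G).relIndex M = γ₃.relIndex M :=
      Subgroup.relIndex_mul_relIndex _ _ _ hγ₃le hG'M
    have e2 : γ₃.relIndex M * M.index = p ^ 3 := by
      rw [Subgroup.relIndex_mul_index (hγ₃le.trans hG'M), hidx]
    have b1 := Nat.le_of_dvd hpp.pos a1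
    have b2 := Nat.le_of_dvd hpp.pos a2
    rcases (Nat.dvd_prime hpp).1 a3 with h | h
    · exfalso
      rw [h, mul_one, ← e1] at e2
      have : γ₃.relIndex (commutator G) * (commutator G).relIndex M ≤ p * p := Nat.mul_le_mul b1 b2
      have h3 : p * p < p ^ 3 := by
        have := hpp.two_le
        calc p * p = p * p * 1 := by ring
          _ < p * p * p := by
            apply Nat.mul_lt_mul_of_pos_left (by omega) (by positivity)
          _ = p ^ 3 := by ring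
      omega
    · exact h
  -- `p`-th powers of `M̂`
  have hM4 : ∀ m ∈ M, (ρ m) ^ p ∈ Subgroup.zpowers ((ρ u) ^ p) := by
    intro m hm
    rw [hM] at hm
    obtain ⟨x, hx, d, hd, rfl⟩ := Subgroup.mem_sup_of_normal_right.1 hm
    obtain ⟨i, rfl⟩ := Subgroup.mem_zpowers_iff.1 hx
    rw [hcomm] at hd
    obtain ⟨y, hy, t, ht, rfl⟩ := Subgroup.mem_sup_of_normal_right.1 hd
    obtain ⟨j, rfl⟩ := Subgroup.mem_zpowers_iff.1 hy
    have hcj : ⁅u, v⁆ ^ j ∈ commutator G := Subgroup.zpow_mem _ hcG' j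
    have hk : ⁅⁅u, v⁆ ^ j, u ^ i⁆ ∈ γ₃ := hG'γ₃ _ hcj _
    have hkZ := hΓZ _ hk
    have h1 := Cfsg.Agent.Lib.H22.mul_pow_of_central (u := ρ (u ^ i)) (v := ρ (⁅u, v⁆ ^ j)) (by
      intro y
      have := hkZ y
      rwa [map_commutatorElement, commutatorElement_def] at this) p
    have hk1 : (ρ (⁅u, v⁆ ^ j) * ρ (u ^ i) * (ρ (⁅u, v⁆ ^ j))⁻¹ * (ρ (u ^ i))⁻¹) ^ (p * (p - 1) / 2)
        = 1 := by
      have := hE2 _ hk
      rwa [map_commutatorElement, commutatorElement_def] at this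
    have hcjp : (ρ (⁅u, v⁆ ^ j)) ^ p = 1 := by
      rw [map_zpow, ← zpow_natCast, ← zpow_mul, mul_comm, zpow_mul, zpow_natCast, hĉ, one_zpow]
    rw [hk1, mul_one, hcjp, mul_one] at h1
    have hT : Commute (ρ (u ^ i) * ρ (⁅u, v⁆ ^ j)) (ρ t) := hΓZ t ht _
    have h2 : (ρ (u ^ i * (⁅u, v⁆ ^ j * t))) ^ p = (ρ (u ^ i)) ^ p := by
      rw [map_mul, map_mul, ← mul_assoc, hT.mul_pow, hE t ht, mul_one, h1]
    have h5 : (ρ u ^ i) ^ p = ((ρ u) ^ p) ^ i := by
      rw [← zpow_natCast, ← zpow_mul, mul_comm, zpow_mul, zpow_natCast]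
    rw [h2, map_zpow, h5]
    exact Subgroup.zpow_mem _ (Subgroup.mem_zpowers _) i
  -- `Γ ≤ ⟨û ^ p⟩`
  have hΓle : γ₃.map ρ ≤ Subgroup.zpowers ((ρ u) ^ p) := by
    rw [← hag M hMidx, map_agemoOf]
    apply agemoOf_le
    rintro _ ⟨m, hm, rfl⟩
    exact hM4 m hm
  have hcardΓ : Nat.card (γ₃.map ρ) ≤ p := by
    refine (Subgroup.card_le_of_le hΓle).trans ?_
    rw [Nat.card_zpowers]
    apply Nat.le_of_dvd hpp.pos
    apply orderOf_dvd_of_pow_eq_one
    have := hE (u ^ p) (hpow u)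
    rwa [map_pow] at this
  -- count
  have hrel : γ₄.relIndex γ₃ = Nat.card (γ₃.map ρ) := by
    have := Subgroup.relIndex_comap (H := (⊥ : Subgroup (G ⧸ γ₄))) ρ γ₃
    rw [Subgroup.relIndex_bot_left, MonoidHom.comap_bot, hρ, QuotientGroup.ker_mk'] at this
    rw [hρ]; exact this
  have hmul : Nat.card γ₄ * γ₄.relIndex γ₃ = Nat.card γ₃ := by
    have := Subgroup.relIndex_mul_relIndex (⊥ : Subgroup G) γ₄ γ₃ bot_le hγ₄le
    rwa [Subgroup.relIndex_bot_left, Subgroup.relIndex_bot_left] at this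
  rw [← hmul, hrel, mul_comm]
  exact Nat.mul_le_mul_right _ hcardΓ

end Cfsg.Agent.Lib.H24.R2
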