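import Mathlib
import Cfsg.Prelude.Def_OddOrderLocal
import Cfsg.Prelude.Def_CaseTheorems
import Cfsg.Prelude.Def_PLocal
import Cfsg.Agent.Lib.H19.R2Defs
import Cfsg.Agent.Lib.H18.PGroupP4
import Cfsg.Agent.Lib.H24.R2B4

/-!
# S3888 piece B5 (architect helper19): a maximal subgroup `M = ⟨w⟩G'` with `M' = γ₃`.

`γ₃ ≠ 1` and nilpotency give `γ₄ < γ₃`, so some `w ∈ {u, v}` has `[c, w] ∉ γ₄` (else `ĉ` is central in `G/γ₄`
and `γ₃ ≤ γ₄`).  `M = ⟨w⟩G'` has index `p`, `M' ≤ γ₃` (`M/γ₃` abelian), `M' ⊴ G`, `M'γ₄ = γ₃` (index `p`),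
and then `M' = γ₃` (in `G/M'` the image of `γ₃` equals its own commutator with `G/M'`).
-/

set_option autoImplicit false

namespace Cfsg.Agent.Lib.H24.R2

open Cfsg Cfsg.Agent.Lib.H19.R2
open scoped commutatorElement

universe u

variable {p : ℕ} [Fact p.Prime] {G : Type u} [Group G] [Finite G]

set_option linter.unusedVariables false in
/-- B5. -/
theorem mnm_exists_max (hG : IsPGroup p G) {u v : G} (hg : Gam p G u v)
    (h4 : Nat.card ↥((⊤ : Subgroup G).lowerCentralSeries 2) ≤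
      p * Nat.card ↥((⊤ : Subgroup G).lowerCentralSeries 3))
    (hne : (⊤ : Subgroup G).lowerCentralSeries 2 ≠ ⊥) :
    ∃ M : Subgroup G, M.index = p ∧ ⁅M, M⁆ = (⊤ : Subgroup G).lowerCentralSeries 2 := by
  have hpp : p.Prime := Fact.out
  have hnil : Group.IsNilpotent G := hG.isNilpotent
  obtain ⟨γ₃, hγ₃⟩ : ∃ S : Subgroup G, S = (⊤ : Subgroup G).lowerCentralSeries 2 := ⟨_, rfl⟩
  obtain ⟨γ₄, hγ₄⟩ : ∃ S : Subgroup G, S = (⊤ : Subgroup G).lowerCentralSeries 3 := ⟨_, rfl⟩
  have hγ₃n : γ₃.Normal := by rw [hγ₃]; infer_instance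
  have hγ₄n : γ₄.Normal := by rw [hγ₄]; infer_instance
  have hG'n : (commutator G).Normal := by rw [commutator_def]; infer_instance
  have hγ₄def : γ₄ = ⁅γ₃, (⊤ : Subgroup G)⁆ := by rw [hγ₄, hγ₃, Subgroup.lowerCentralSeries_succ]
  have hγ₃def : γ₃ = ⁅commutator G, (⊤ : Subgroup G)⁆ := by
    rw [hγ₃, Subgroup.lowerCentralSeries_succ, Subgroup.top_lowerCentralSeries_one]
  have hγ₄le : γ₄ ≤ γ₃ := by
    rw [hγ₄, hγ₃]; exact Subgroup.lowerCentralSeries_antitone ⊤ (by norm_num)
  have hγ₃le : γ₃ ≤ commutator G := by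
    rw [hγ₃, ← Subgroup.top_lowerCentralSeries_one]
    exact Subgroup.lowerCentralSeries_antitone ⊤ (by norm_num)
  have hcpow : ⁅u, v⁆ ^ p ∈ γ₃ := by rw [hγ₃]; exact hg.cpow
  have hcomm : commutator G = Subgroup.zpowers ⁅u, v⁆ ⊔ γ₃ := by rw [hγ₃]; exact hg.comm
  have hidx : γ₃.index = p ^ 3 := by rw [hγ₃]; exact hg.idx
  have hpow : ∀ g : G, g ^ p ∈ γ₃ := by rw [hγ₃]; exact hg.pow
  have hne' : γ₃ ≠ ⊥ := by rw [hγ₃]; exact hne
  have h4' : Nat.card γ₃ ≤ p * Nat.card γ₄ := by rw [hγ₃, hγ₄]; exact h4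
  rw [← hγ₃]
  have hcG' : ⁅u, v⁆ ∈ commutator G := by
    rw [commutator_def]
    exact Subgroup.commutator_mem_commutator (Subgroup.mem_top u) (Subgroup.mem_top v)
  have hG'γ₃ : ∀ d ∈ commutator G, ∀ g : G, ⁅d, g⁆ ∈ γ₃ := by
    intro d hd g
    rw [hγ₃def]
    exact Subgroup.commutator_mem_commutator hd (Subgroup.mem_top g)
  -- `γ₃ ≰ γ₄`
  have hnle : ¬ γ₃ ≤ γ₄ := by
    intro h
    apply hne'
    apply Cfsg.Agent.Lib.H18.eq_bot_of_le_commutator_top γ₃
    rw [← hγ₄def]; exact h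
  -- the quotient `Q = G ⧸ γ₄`
  obtain ⟨ρ, hρ⟩ : ∃ f : G →* G ⧸ γ₄, f = QuotientGroup.mk' γ₄ := ⟨_, rfl⟩
  have hρs : Function.Surjective ρ := by rw [hρ]; exact QuotientGroup.mk'_surjective γ₄
  have hρker : ∀ g : G, ρ g = 1 ↔ g ∈ γ₄ := by
    intro g; rw [hρ, QuotientGroup.mk'_apply, QuotientGroup.eq_one_iff]
  have hΓZ : ∀ t ∈ γ₃, ∀ X : G ⧸ γ₄, Commute X (ρ t) := by
    intro t ht X
    obtain ⟨g, rfl⟩ := hρs X
    have hmem : ⁅t, g⁆ ∈ γ₄ := by
      rw [hγ₄def]; exact Subgroup.commutator_mem_commutator ht (Subgroup.mem_top g)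
    have h1 : ⁅ρ t, ρ g⁆ = 1 := by rw [← map_commutatorElement]; exact (hρker _).2 hmem
    exact (commutatorElement_eq_one_iff_commute.1 h1).symm
  -- some `w ∈ {u, v}` with `[c, w] ∉ γ₄`
  have hw : ⁅⁅u, v⁆, u⁆ ∉ γ₄ ∨ ⁅⁅u, v⁆, v⁆ ∉ γ₄ := by
    by_contra hcon
    rw [not_or, not_not, not_not] at hcon
    obtain ⟨hu, hv⟩ := hcon
    apply hnle
    -- `ĉ` is central in `Q`
    have hcu : Commute (ρ ⁅u, v⁆) (ρ u) := by
      apply commutatorElement_eq_one_iff_commute.1
      rw [← map_commutatorElement]; exact (hρker _).2 hu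
    have hcv : Commute (ρ ⁅u, v⁆) (ρ v) := by
      apply commutatorElement_eq_one_iff_commute.1
      rw [← map_commutatorElement]; exact (hρker _).2 hv
    have hcZ : ∀ g : G, Commute (ρ ⁅u, v⁆) (ρ g) := by
      intro g
      have hgmem : g ∈ Subgroup.closure ({u, v} : Set G) := by rw [hg.gen]; exact Subgroup.mem_top g
      induction hgmem using Subgroup.closure_induction with
      | mem x hx =>
        rcases hx with rfl | rfl
        · exact hcu
        · exact hcv
      | one => rw [map_one]; exact Commute.one_right _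
      | mul x y _ _ hx hy => rw [map_mul]; exact hx.mul_right hy
      | inv x _ hx => rw [map_inv]; exact hx.inv_right
    rw [hγ₃def, Subgroup.commutator_le]
    intro d hd g _
    rw [hcomm] at hd
    obtain ⟨y, hy, t, ht, rfl⟩ := Subgroup.mem_sup_of_normal_right.1 hd
    obtain ⟨j, rfl⟩ := Subgroup.mem_zpowers_iff.1 hy
    rw [← hρker, map_commutatorElement]
    apply commutatorElement_eq_one_iff_commute.2
    rw [map_mul, map_zpow]
    exact ((hcZ g).zpow_left j).mul_left (hΓZ t ht (ρ g)).symm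
  -- the main construction
  have key : ∀ w w' : G, Subgroup.closure ({w, w'} : Set G) = ⊤ → ⁅⁅u, v⁆, w⁆ ∉ γ₄ →
      ∃ M : Subgroup G, M.index = p ∧ ⁅M, M⁆ = γ₃ := by
    intro w w' hgen hcw
    obtain ⟨M, hM⟩ : ∃ S : Subgroup G, S = Subgroup.zpowers w ⊔ commutator G := ⟨_, rfl⟩
    have hG'M : commutator G ≤ M := by rw [hM]; exact le_sup_right
    have hwM : w ∈ M := by rw [hM]; exact Subgroup.mem_sup_left (Subgroup.mem_zpowers w)
    have hMn : M.Normal := by
      constructor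
      intro m hm g
      have : g * m * g⁻¹ = ⁅g, m⁆ * m := by rw [commutatorElement_def]; group
      rw [this]
      refine Subgroup.mul_mem _ (hG'M ?_) hm
      rw [commutator_def]
      exact Subgroup.commutator_mem_commutator (Subgroup.mem_top g) (Subgroup.mem_top m)
    have hMidx : M.index = p := by
      have a1 : γ₃.relIndex (commutator G) ∣ p := by
        rw [hcomm]; exact relIndex_zpowers_sup_dvd γ₃ ⁅u, v⁆ hcpow
      have a2 : (commutator G).relIndex M ∣ p := by
        rw [hM]; exact relIndex_zpowers_sup_dvd (commutator G) w (hγ₃le (hpow w))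
      have a3 : M.index ∣ p := by
        have htop : Subgroup.zpowers w' ⊔ M = ⊤ := by
          rw [eq_top_iff, ← hgen, Subgroup.closure_le]
          intro x hx
          rcases hx with rfl | rfl
          · exact Subgroup.mem_sup_right hwM
          · exact Subgroup.mem_sup_left (Subgroup.mem_zpowers _)
        have := relIndex_zpowers_sup_dvd M w' (hG'M (hγ₃le (hpow w')))
        rwa [htop, Subgroup.relIndex_top_right] at this
      have e1 : γ₃.relIndex (commutator G) * (commutator G).relIndex M = γ₃.relIndex M :=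
        Subgroup.relIndex_mul_relIndex _ _ _ hγ₃le hG'M
      have e2 : γ₃.relIndex M * M.index = p ^ 3 := by
        rw [Subgroup.relIndex_mul_index (hγ₃le.trans hG'M), hidx]
      have b1 := Nat.le_of_dvd hpp.pos a1
      have b2 := Nat.le_of_dvd hpp.pos a2
      rcases (Nat.dvd_prime hpp).1 a3 with h | h
      · exfalso
        rw [h, mul_one, ← e1] at e2
        have : γ₃.relIndex (commutator G) * (commutator G).relIndex M ≤ p * p := Nat.mul_le_mul b1 b2
        have h3 : p * p < p ^ 3 := by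
          have := hpp.two_le
          calc p * p = p * p * 1 := by ring
            _ < p * p * p := by
              apply Nat.mul_lt_mul_of_pos_left (by omega) (by positivity)
            _ = p ^ 3 := by ring
        omega
      · exact h
    refine ⟨M, hMidx, ?_⟩
    -- `K = M'`
    obtain ⟨K, hK⟩ : ∃ S : Subgroup G, S = ⁅M, M⁆ := ⟨_, rfl⟩
    rw [← hK]
    have hKn : K.Normal := by rw [hK]; infer_instance
    have hcwK : ⁅⁅u, v⁆, w⁆ ∈ K := by
      rw [hK]; exact Subgroup.commutator_mem_commutator (hG'M hcG') hwM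
    -- `K ≤ γ₃`
    have hKle : K ≤ γ₃ := by
      rw [hK, Subgroup.commutator_le]
      -- images of `G'` in `G ⧸ γ₃` are central
      have hcen : ∀ d ∈ commutator G, ∀ g : G,
          Commute (QuotientGroup.mk' γ₃ g) (QuotientGroup.mk' γ₃ d) := by
        intro d hd g
        have h1 : ⁅QuotientGroup.mk' γ₃ d, QuotientGroup.mk' γ₃ g⁆ = 1 := by
          rw [← map_commutatorElement, QuotientGroup.mk'_apply, QuotientGroup.eq_one_iff]
          exact hG'γ₃ d hd g
        exact (commutatorElement_eq_one_iff_commute.1 h1).symm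
      intro m₁ hm₁ m₂ hm₂
      rw [hM] at hm₁ hm₂
      obtain ⟨x₁, hx₁, d₁, hd₁, rfl⟩ := Subgroup.mem_sup_of_normal_right.1 hm₁
      obtain ⟨x₂, hx₂, d₂, hd₂, rfl⟩ := Subgroup.mem_sup_of_normal_right.1 hm₂
      obtain ⟨i, rfl⟩ := Subgroup.mem_zpowers_iff.1 hx₁
      obtain ⟨k, rfl⟩ := Subgroup.mem_zpowers_iff.1 hx₂
      rw [← QuotientGroup.eq_one_iff, ← QuotientGroup.mk'_apply, map_commutatorElement]
      apply commutatorElement_eq_one_iff_commute.2
      rw [map_mul, map_mul, map_zpow, map_zpow]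
      have c1 : Commute ((QuotientGroup.mk' γ₃ w) ^ i) ((QuotientGroup.mk' γ₃ w) ^ k) :=
        ((Commute.refl _).zpow_left i).zpow_right k
      have c2 : Commute ((QuotientGroup.mk' γ₃ w) ^ i) (QuotientGroup.mk' γ₃ d₂) := by
        have := hcen d₂ hd₂ (w ^ i); rwa [map_zpow] at this
      have c3 : Commute (QuotientGroup.mk' γ₃ d₁) ((QuotientGroup.mk' γ₃ w) ^ k) := by
        have := hcen d₁ hd₁ (w ^ k); rw [map_zpow] at this; exact this.symm
      have c4 : Commute (QuotientGroup.mk' γ₃ d₁) (QuotientGroup.mk' γ₃ d₂) := hcen d₂ hd₂ d₁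
      exact (c1.mul_right c2).mul_left (c3.mul_right c4)
    -- `K ⊔ γ₄ = γ₃`
    obtain ⟨X, hX⟩ : ∃ S : Subgroup G, S = K ⊔ γ₄ := ⟨_, rfl⟩
    have hγ₄X : γ₄ ≤ X := by rw [hX]; exact le_sup_right
    have hXγ₃ : X ≤ γ₃ := by rw [hX]; exact sup_le hKle hγ₄le
    have hγ₃X : γ₃ ≤ X := by
      have r12 : γ₄.relIndex X * X.relIndex γ₃ = γ₄.relIndex γ₃ :=
        Subgroup.relIndex_mul_relIndex _ _ _ hγ₄X hXγ₃
      have hr : γ₄.relIndex γ₃ ≤ p := by
        have hmul : Nat.card γ₄ * γ₄.relIndex γ₃ = Nat.card γ₃ := by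
          have := Subgroup.relIndex_mul_relIndex (⊥ : Subgroup G) γ₄ γ₃ bot_le hγ₄le
          rwa [Subgroup.relIndex_bot_left, Subgroup.relIndex_bot_left] at this
        have hpos : 0 < Nat.card γ₄ := Nat.card_pos
        rw [← hmul, mul_comm p] at h4'
        exact Nat.le_of_mul_le_mul_left h4' hpos
      have hr1 : p ≤ γ₄.relIndex X := by
        obtain ⟨k, hk⟩ := (hG.to_subgroup X).index (γ₄.subgroupOf X)
        have hk' : γ₄.relIndex X = p ^ k := hk
        rcases Nat.eq_zero_or_pos k with rfl | hkpos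
        · exfalso
          rw [pow_zero, Subgroup.relIndex_eq_one] at hk'
          apply hcw
          exact hk' (by rw [hX]; exact Subgroup.mem_sup_left hcwK)
        · rw [hk']
          calc p = p ^ 1 := (pow_one p).symm
            _ ≤ p ^ k := Nat.pow_le_pow_right hpp.pos hkpos
      have hr2 : X.relIndex γ₃ = 1 := by
        have hpos2 : 0 < X.relIndex γ₃ := by
          rcases Nat.eq_zero_or_pos (X.relIndex γ₃) with h0 | h0
          · exfalso
            have h00 : γ₄.relIndex γ₃ = 0 := by rw [← r12, h0, mul_zero]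
            have hmul : Nat.card γ₄ * γ₄.relIndex γ₃ = Nat.card γ₃ := by
              have := Subgroup.relIndex_mul_relIndex (⊥ : Subgroup G) γ₄ γ₃ bot_le hγ₄le
              rwa [Subgroup.relIndex_bot_left, Subgroup.relIndex_bot_left] at this
            rw [h00, mul_zero] at hmul
            have hpos3 : 0 < Nat.card γ₃ := Nat.card_pos
            omega
          · exact h0
        by_contra hne1
        have h2 : 2 ≤ X.relIndex γ₃ := by omega
        have : p * 2 ≤ γ₄.relIndex X * X.relIndex γ₃ := Nat.mul_le_mul hr1 h2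
        have hp0 := hpp.pos
        omega
      exact Subgroup.relIndex_eq_one.1 hr2
    -- conclude `γ₃ ≤ K` in `G ⧸ K`
    apply le_antisymm hKle
    obtain ⟨τ, hτ⟩ : ∃ f : G →* G ⧸ K, f = QuotientGroup.mk' K := ⟨_, rfl⟩
    have hτs : Function.Surjective τ := by rw [hτ]; exact QuotientGroup.mk'_surjective K
    have hτker : τ.ker = K := by rw [hτ]; exact QuotientGroup.ker_mk' K
    have htop : (⊤ : Subgroup G).map τ = ⊤ := by
      rw [← MonoidHom.range_eq_map, MonoidHom.range_eq_top.mpr hτs]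
    have hH : γ₃.map τ ≤ ⁅γ₃.map τ, (⊤ : Subgroup (G ⧸ K))⁆ := by
      have h1 : γ₃.map τ ≤ X.map τ := Subgroup.map_mono hγ₃X
      refine h1.trans ?_
      rw [hX, Subgroup.map_sup, hγ₄def, Subgroup.map_commutator, htop]
      have h2 : K.map τ = ⊥ := (Subgroup.map_eq_bot_iff K).2 hτker.ge
      rw [h2, bot_sup_eq]
    have hbot : γ₃.map τ = ⊥ := Cfsg.Agent.Lib.H18.eq_bot_of_le_commutator_top _ hH
    exact ((Subgroup.map_eq_bot_iff _).1 hbot).trans hτker.le
  rcases hw with h | h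
  · exact key u v hg.gen h
  · refine key v u ?_ h
    rw [Set.pair_comm]; exact hg.gen

end Cfsg.Agent.Lib.H24.R2
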