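import Mathlib
import Cfsg.Prelude.Def_OddOrderLocal
import Cfsg.Prelude.Def_CaseTheorems
import Cfsg.Prelude.Def_PLocal
import Cfsg.Agent.Lib.H19.R2Defs
import Cfsg.Agent.S3879

/-!
# S3888 piece B6 (architect helper19): `|G| = p⁴` for a minimal nonmetacyclic group with `γ₃ ≠ 1`.

`M` of index `p` is metacyclic with `M' = γ₃`; S3879: `|M : Z(M)| = |γ₃|²`; `|M| = p² |γ₃|`; so
`|Z(M)| |γ₃| = p²` with both factors `> 1`, hence `|γ₃| = p` and `|G| = p³ · p`.
-/

set_option autoImplicit false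

namespace Cfsg.Agent.Lib.H24.R2

open Cfsg Cfsg.Agent.Lib.H19.R2
open scoped commutatorElement

universe u

variable {p : ℕ} [Fact p.Prime] {G : Type u} [Group G] [Finite G]

/-- B6.  (uses landed `Cfsg.Agent.S3879.result` for `↥M`.) -/
theorem mnm_card (hp2 : p ≠ 2) (hG : IsPGroup p G) (h : MNM G) {u v : G} (hg : Gam p G u v)
    (M : Subgroup G) (hM : M.index = p) (hM' : ⁅M, M⁆ = (⊤ : Subgroup G).lowerCentralSeries 2)
    (hne : (⊤ : Subgroup G).lowerCentralSeries 2 ≠ ⊥) : Nat.card G = p ^ 4 := by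
  have hpp : p.Prime := Fact.out
  obtain ⟨γ₃, hγ₃⟩ : ∃ S : Subgroup G, S = (⊤ : Subgroup G).lowerCentralSeries 2 := ⟨_, rfl⟩
  rw [← hγ₃] at hM' hne
  have hidx : γ₃.index = p ^ 3 := by rw [hγ₃]; exact hg.idx
  -- `M` is metacyclic
  have hMtop : M ≠ ⊤ := by
    intro hc
    rw [hc, Subgroup.index_top] at hM
    exact hpp.one_lt.ne hM
  have hMmc : Cfsg.IsMetacyclic ↥M := h.2 M hMtop
  have hMp : IsPGroup p ↥M := hG.to_subgroup M
  have h3879 := Cfsg.Agent.S3879.result hp2 hMp hMmc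
  -- `|M'| = |γ₃|`
  have hcardM' : Nat.card ↥(commutator ↥M) = Nat.card γ₃ := by
    rw [← hM', ← Subgroup.map_subtype_commutator,
      Subgroup.card_map_of_injective M.subtype_injective]
  rw [hcardM'] at h3879
  -- cardinalities
  have e1 : Nat.card (Subgroup.center ↥M) * (Nat.card γ₃) ^ 2 = Nat.card M := by
    rw [← h3879]; exact Subgroup.card_mul_index _
  have e2 : Nat.card M * p = Nat.card G := by rw [← hM]; exact Subgroup.card_mul_index M
  have e3 : Nat.card γ₃ * p ^ 3 = Nat.card G := by rw [← hidx]; exact Subgroup.card_mul_index γ₃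
  obtain ⟨a, ha⟩ := (IsPGroup.iff_card.1 (hG.to_subgroup γ₃))
  obtain ⟨b, hb⟩ := (IsPGroup.iff_card.1 (hMp.to_subgroup (Subgroup.center ↥M)))
  have ha0 : a ≠ 0 := by
    rintro rfl
    rw [pow_zero, Subgroup.card_eq_one] at ha
    exact hne ha
  have hMnt : Nontrivial ↥M := by
    rw [← Finite.one_lt_card_iff_nontrivial]
    have h1 : 1 < Nat.card γ₃ := by rw [ha]; exact Nat.one_lt_pow ha0 hpp.one_lt
    have h2 : 0 < Nat.card (Subgroup.center ↥M) := Nat.card_pos
    rw [← e1]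
    nlinarith
  have hb0 : b ≠ 0 := by
    rintro rfl
    rw [pow_zero] at hb
    have := hMp.center_nontrivial
    rw [← Finite.one_lt_card_iff_nontrivial] at this
    omega
  -- `p ^ b * p ^ a = p ^ 2`
  have hkey : p ^ (b + 2 * a + 1) = p ^ (a + 3) := by
    have : Nat.card (Subgroup.center ↥M) * (Nat.card γ₃) ^ 2 * p = Nat.card γ₃ * p ^ 3 := by
      rw [e1, e2, e3]
    rw [ha, hb] at this
    calc p ^ (b + 2 * a + 1) = p ^ b * (p ^ a) ^ 2 * p := by ring
      _ = p ^ a * p ^ 3 := this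
      _ = p ^ (a + 3) := by ring
  have hexp : b + 2 * a + 1 = a + 3 := Nat.pow_right_injective hpp.two_le hkey
  have ha1 : a = 1 := by omega
  rw [← e3, ha, ha1]
  ring

end Cfsg.Agent.Lib.H24.R2
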