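import Cfsg.Agent.Lib.H24.GlaubOver5
import Cfsg.Agent.Lib.H24.GlaubCls
import Cfsg.Agent.Lib.H8.CharConstituent

/-!
# Ambient induction, Frobenius reciprocity and the Clifford correspondence (helper24)

All groups are subgroups of one finite group `Γ`.
* `indA h ψ`: induction of `ψ : X → ℂ` to `H ≥ X`; `frob_amb`: Frobenius reciprocity;
* `cliff_irr`, `cliff_inj`, `cliff_exists`: the Clifford correspondence for `Q ≤ T ≤ K` with `K`
  normalising `Q` and `T` the inertia group in `K` of `θ ∈ Irr(Q)`.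
-/

set_option autoImplicit false

universe u

namespace Cfsg.Agent.Lib.H24.RelGlaub

open Cfsg Cfsg.Agent.Lib.L0 Cfsg.Agent.Lib.H23 Cfsg.Agent.Lib.H8 Cfsg.Agent.Lib.H24
open Cfsg.Agent.Lib.H24.Glaub
open scoped ComplexConjugate

variable {Γ : Type u} [Group Γ] [Fintype Γ]

omit [Fintype Γ] in
theorem irr_comp_equiv {A B : Type*} [Group A] [Group B] (e : A ≃* B) {φ : B → ℂ}
    (hφ : IsIrrCharacter B φ) : IsIrrCharacter A (φ ∘ e) :=
  isIrrCharacter_comp_of_surjective e.toMonoidHom e.surjective hφ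

section ind

variable {X H : Subgroup Γ} [Fintype X] [Fintype H]

/-- `X.subgroupOf H ≃* X` for `X ≤ H`. -/
def eSub (h : X ≤ H) : ↥(X.subgroupOf H) ≃* ↥X := Subgroup.subgroupOfEquivOfLe h

omit [Fintype Γ] [Fintype X] [Fintype H] in
theorem eSub_coe (h : X ≤ H) (x : X.subgroupOf H) : ((eSub h x : X) : Γ) = ((x : H) : Γ) := rfl

/-- Induction from `X` to `H` for subgroups of an ambient group. -/
noncomputable def indA (h : X ≤ H) (ψ : X → ℂ) : H → ℂ :=
  indFun (X.subgroupOf H) (ψ ∘ eSub h)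

omit [Fintype Γ] in
theorem frob_amb (h : X ≤ H) (ψ : X → ℂ) (χ : H → ℂ) (hχ : IsClassFunction H χ) :
    classInner (indA h ψ) χ = classInner ψ (res h χ) := by
  classical
  unfold indA
  haveI : Fintype (X.subgroupOf H) := Fintype.ofFinite _
  rw [Cfsg.Agent.Lib.L0.frobenius_reciprocity (X.subgroupOf H) (ψ ∘ eSub h) χ hχ]
  have h1 : (fun x : X.subgroupOf H => χ x) = (res h χ) ∘ eSub h := rfl
  rw [h1, classInner_comp_equiv]

omit [Fintype Γ] [Fintype X] in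
theorem isCharacter_indA (h : X ≤ H) {ψ : X → ℂ} (hψ : IsCharacter X ψ) :
    IsCharacter H (indA h ψ) := by
  unfold indA
  exact isCharacter_indFun _ (isCharacter_comp (eSub h).toMonoidHom hψ)

omit [Fintype Γ] [Fintype X] in
theorem isClassFunction_indA (h : X ≤ H) (ψ : X → ℂ) : IsClassFunction H (indA h ψ) :=
  indFun_isClassFunction _ _

end ind

section clifford

variable {Q T K : Subgroup Γ} [Fintype Q] [Fintype T] [Fintype K]

omit [Fintype Γ] [Fintype Q] [Fintype K] in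
theorem normal_subgroupOf_of_norm (hKQ : ∀ k ∈ K, ∀ q ∈ Q, k * q * k⁻¹ ∈ Q) :
    (Q.subgroupOf K).Normal := by
  constructor
  intro n hn g
  rw [Subgroup.mem_subgroupOf] at hn ⊢
  exact hKQ g g.2 n hn

omit [Fintype Γ] [Fintype Q] [Fintype T] [Fintype K] in
/-- The inertia condition, transported to the type-level group `K`. -/
theorem inertia_transport (hQK : Q ≤ K) (hKQ : ∀ k ∈ K, ∀ q ∈ Q, k * q * k⁻¹ ∈ Q)
    (θ : Q → ℂ) (hT : ∀ k : Γ, k ∈ T ↔ k ∈ K ∧ InvUnder Q k θ) (g : K) :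
    g ∈ T.subgroupOf K ↔ ∀ n : Q.subgroupOf K,
      (θ ∘ eSub hQK) ⟨g * n * g⁻¹, (normal_subgroupOf_of_norm hKQ).conj_mem (n : K) n.2 g⟩ =
        (θ ∘ eSub hQK) n := by
  rw [Subgroup.mem_subgroupOf, hT]
  constructor
  · rintro ⟨-, h2⟩ n
    exact h2 (eSub hQK n) _ rfl
  · intro h
    refine ⟨g.2, ?_⟩
    intro q q' hqq'
    have h1 := h ((eSub hQK).symm q)
    simp only [Function.comp_apply, MulEquiv.apply_symm_apply] at h1
    rw [← h1]
    congr 1
    apply Subtype.ext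
    rw [hqq', eSub_coe]
    simp only [Subgroup.coe_mul, Subgroup.coe_inv]
    have h2 : ((((eSub hQK).symm q : Q.subgroupOf K) : K) : Γ) = (q : Γ) := by
      rw [← eSub_coe hQK, MulEquiv.apply_symm_apply]
    rw [h2]

omit [Fintype Γ] [Fintype Q] [Fintype T] [Fintype K] in
theorem subgroupOf_le_of_le (hQT : Q ≤ T) : Q.subgroupOf K ≤ T.subgroupOf K :=
  fun _ hx => hQT hx

omit [Fintype Γ] in
/-- Clifford: induction from the inertia group is irreducible and preserves the ramification. -/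
theorem cliff_irr (hQT : Q ≤ T) (hTK : T ≤ K) (hKQ : ∀ k ∈ K, ∀ q ∈ Q, k * q * k⁻¹ ∈ Q)
    (θ : Q → ℂ) (hθ : IsIrrCharacter Q θ) (hT : ∀ k : Γ, k ∈ T ↔ k ∈ K ∧ InvUnder Q k θ)
    (ψ : T → ℂ) (hψ : IsIrrCharacter T ψ) (hf : classInner (res hQT ψ) θ ≠ 0) :
    IsIrrCharacter K (indA hTK ψ) ∧
      classInner (res (hQT.trans hTK) (indA hTK ψ)) θ = classInner (res hQT ψ) θ := by
  classical
  have hnorm := normal_subgroupOf_of_norm hKQ
  haveI : Fintype (Q.subgroupOf K) := Fintype.ofFinite _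
  haveI : Fintype (T.subgroupOf K) := Fintype.ofFinite _
  have hle : Q.subgroupOf K ≤ T.subgroupOf K := subgroupOf_le_of_le hQT
  have hϑ : IsIrrCharacter (Q.subgroupOf K) (θ ∘ eSub (hQT.trans hTK)) :=
    irr_comp_equiv _ hθ
  have hψ₀ : IsIrrCharacter (T.subgroupOf K) (ψ ∘ eSub hTK) := irr_comp_equiv _ hψ
  have hres : resTo (Q.subgroupOf K) (T.subgroupOf K) hle (ψ ∘ eSub hTK) =
      (res hQT ψ) ∘ eSub (hQT.trans hTK) := rfl
  have hf₀ : classInner (resTo (Q.subgroupOf K) (T.subgroupOf K) hle (ψ ∘ eSub hTK))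
      (θ ∘ eSub (hQT.trans hTK)) ≠ 0 := by
    rw [hres, classInner_comp_equiv]
    exact hf
  obtain ⟨h1, h2⟩ := isIrrCharacter_indFun_inertia (Q.subgroupOf K) (T.subgroupOf K) hle _ hϑ
    (inertia_transport (hQT.trans hTK) hKQ θ hT) _ hψ₀ hf₀
  refine ⟨h1, ?_⟩
  rw [hres, classInner_comp_equiv] at h2
  rw [← h2]
  have h3 : (fun n : Q.subgroupOf K => indFun (T.subgroupOf K) (ψ ∘ eSub hTK) n) =
      (res (hQT.trans hTK) (indA hTK ψ)) ∘ eSub (hQT.trans hTK) := rfl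
  rw [h3, classInner_comp_equiv]

omit [Fintype Γ] in
/-- Clifford: induction from the inertia group is injective on characters over `θ`. -/
theorem cliff_inj (hQT : Q ≤ T) (hTK : T ≤ K) (hKQ : ∀ k ∈ K, ∀ q ∈ Q, k * q * k⁻¹ ∈ Q)
    (θ : Q → ℂ) (hθ : IsIrrCharacter Q θ) (hT : ∀ k : Γ, k ∈ T ↔ k ∈ K ∧ InvUnder Q k θ)
    (ψ ψ' : T → ℂ) (hψ : IsIrrCharacter T ψ) (hψ' : IsIrrCharacter T ψ')
    (hf : classInner (res hQT ψ) θ ≠ 0) (hf' : classInner (res hQT ψ') θ ≠ 0)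
    (heq : indA hTK ψ = indA hTK ψ') : ψ = ψ' := by
  classical
  have hnorm := normal_subgroupOf_of_norm hKQ
  haveI : Fintype (Q.subgroupOf K) := Fintype.ofFinite _
  haveI : Fintype (T.subgroupOf K) := Fintype.ofFinite _
  have hle : Q.subgroupOf K ≤ T.subgroupOf K := subgroupOf_le_of_le hQT
  have hϑ : IsIrrCharacter (Q.subgroupOf K) (θ ∘ eSub (hQT.trans hTK)) :=
    irr_comp_equiv _ hθ
  have hψ₀ : IsIrrCharacter (T.subgroupOf K) (ψ ∘ eSub hTK) := irr_comp_equiv _ hψ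
  have hψ₀' : IsIrrCharacter (T.subgroupOf K) (ψ' ∘ eSub hTK) :=
    irr_comp_equiv _ hψ'
  have hres : ∀ φ : T → ℂ, resTo (Q.subgroupOf K) (T.subgroupOf K) hle (φ ∘ eSub hTK) =
      (res hQT φ) ∘ eSub (hQT.trans hTK) := fun _ => rfl
  have hf₀ : classInner (resTo (Q.subgroupOf K) (T.subgroupOf K) hle (ψ ∘ eSub hTK))
      (θ ∘ eSub (hQT.trans hTK)) ≠ 0 := by
    rw [hres, classInner_comp_equiv]
    exact hf
  have hf₀' : classInner (resTo (Q.subgroupOf K) (T.subgroupOf K) hle (ψ' ∘ eSub hTK))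
      (θ ∘ eSub (hQT.trans hTK)) ≠ 0 := by
    rw [hres, classInner_comp_equiv]
    exact hf'
  have h1 := indFun_inertia_injective (Q.subgroupOf K) (T.subgroupOf K) hle _ hϑ
    (inertia_transport (hQT.trans hTK) hKQ θ hT) _ _ hψ₀ hψ₀' hf₀ hf₀' heq
  funext t
  have h2 := congrFun h1 ((eSub hTK).symm t)
  simpa using h2

omit [Fintype Γ] in
/-- Clifford: every irreducible character of `K` over `θ` is induced from the inertia group. -/
theorem cliff_exists (hQT : Q ≤ T) (hTK : T ≤ K) (hKQ : ∀ k ∈ K, ∀ q ∈ Q, k * q * k⁻¹ ∈ Q)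
    (θ : Q → ℂ) (hθ : IsIrrCharacter Q θ) (hT : ∀ k : Γ, k ∈ T ↔ k ∈ K ∧ InvUnder Q k θ)
    (χ : K → ℂ) (hχ : IsIrrCharacter K χ)
    (hcon : classInner (res (hQT.trans hTK) χ) θ ≠ 0) :
    ∃ ψ : T → ℂ, IsIrrCharacter T ψ ∧ indA hTK ψ = χ ∧
      classInner (res hQT ψ) θ = classInner (res (hQT.trans hTK) χ) θ := by
  classical
  have hnorm := normal_subgroupOf_of_norm hKQ
  haveI : Fintype (Q.subgroupOf K) := Fintype.ofFinite _
  haveI : Fintype (T.subgroupOf K) := Fintype.ofFinite _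
  have hle : Q.subgroupOf K ≤ T.subgroupOf K := subgroupOf_le_of_le hQT
  have hϑ : IsIrrCharacter (Q.subgroupOf K) (θ ∘ eSub (hQT.trans hTK)) :=
    irr_comp_equiv _ hθ
  have h3 : (fun n : Q.subgroupOf K => χ n) =
      (res (hQT.trans hTK) χ) ∘ eSub (hQT.trans hTK) := rfl
  have hcon₀ : classInner (fun n : Q.subgroupOf K => χ n) (θ ∘ eSub (hQT.trans hTK)) ≠ 0 := by
    rw [h3, classInner_comp_equiv]
    exact hcon
  obtain ⟨ψ₀, hψ₀, hind, hmult⟩ := clifford_correspondence (Q.subgroupOf K) (T.subgroupOf K) hle _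
    hϑ (inertia_transport (hQT.trans hTK) hKQ θ hT) χ hχ hcon₀
  refine ⟨ψ₀ ∘ (eSub hTK).symm, irr_comp_equiv _ hψ₀, ?_, ?_⟩
  · unfold indA
    rw [← hind]
    congr 1
  · have h4 : resTo (Q.subgroupOf K) (T.subgroupOf K) hle ψ₀ =
        (res hQT (ψ₀ ∘ (eSub hTK).symm)) ∘ eSub (hQT.trans hTK) := by
      funext n
      show ψ₀ _ = ψ₀ ((eSub hTK).symm _)
      congr 1
    rw [h4, h3, classInner_comp_equiv, classInner_comp_equiv] at hmult
    exact hmult

end clifford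

end Cfsg.Agent.Lib.H24.RelGlaub
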