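import Mathlib
import Cfsg.Prelude.Def_Characters
import Cfsg.Prelude.Def_Solvable
import Cfsg.Agent.Lib.H26.RODefs
import Cfsg.Agent.Lib.H24.RelGlaubA
import Cfsg.Agent.Lib.H24.CharConj
import Cfsg.Agent.Lib.H1.RealBijA
import Cfsg.Agent.Lib.L0.CharLinear

/-!
# S4581 piece CLIFFIB (`card_fiber_eq_card_rh`) (helper24 twin).
Exact signature of `tools/blueprints/S4581_sigs.lean`.

Clifford correspondence on a fibre: `V ≤ T ≤ Y`, `Y` normalizes `V`, `μ ∈ Irr(V)` linear with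
`μ z = ζ` (real-valued if `ρ`), `T = I_Y(μ)` of odd index, `z ∈ V` central in `Y`.  Then `ψ ↦ ψ^Y`
is a bijection from `RH ρ T V μ` onto the characters in `CC ρ Y z ζ` over `μ`.
-/

set_option autoImplicit false

universe u

namespace Cfsg.Agent.Lib.H24.RO

open Cfsg Cfsg.Agent.Lib.L0 Cfsg.Agent.Lib.H23 Cfsg.Agent.Lib.H24 Cfsg.Agent.Lib.H24.Glaub
  Cfsg.Agent.Lib.H24.RelGlaub Cfsg.Agent.Lib.H26.RO
open scoped ComplexConjugate

/-- The induced function at a central element of the group lying in the subgroup. -/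
theorem indFun_apply_central {G : Type*} [Group G] [Fintype G] (H : Subgroup G) (θ : H → ℂ)
    (c : G) (hc : c ∈ H) (hcen : ∀ x : G, x * c = c * x) :
    indFun H θ c = (H.index : ℂ) * θ ⟨c, hc⟩ := by
  rw [indFun_apply]
  have : ∀ x : G, extendByZero H θ (x⁻¹ * c * x) = θ ⟨c, hc⟩ := by
    intro x
    have h1 : x⁻¹ * c * x = c := by rw [mul_assoc, ← hcen x, inv_mul_cancel_left]
    rw [h1]
    exact extendByZero_apply_mem H θ ⟨c, hc⟩
  rw [Finset.sum_congr rfl fun x _ => this x, Finset.sum_const, Finset.card_univ, nsmul_eq_mul,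
    ← Nat.card_eq_fintype_card, ← H.card_mul_index]
  have hH : (Nat.card H : ℂ) ≠ 0 := by exact_mod_cast (Nat.card_pos (α := H)).ne'
  push_cast
  field_simp

/-- Induction commutes with complex conjugation. -/
theorem indFun_conj_apply {G : Type*} [Group G] [Fintype G] (H : Subgroup G) (θ : H → ℂ)
    (g : G) : indFun H (fun h => conj (θ h)) g = conj (indFun H θ g) := by
  rw [indFun_apply, indFun_apply, map_mul, map_inv₀, Complex.conj_natCast, map_sum]
  congr 1
  refine Finset.sum_congr rfl fun x _ => ?_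
  by_cases h : x⁻¹ * g * x ∈ H
  · rw [extendByZero_apply_of_mem H θ h, extendByZero_apply_of_mem H _ h]
  · rw [extendByZero_apply_not_mem H θ h, extendByZero_apply_not_mem H _ h, map_zero]

/-- A linear character is multiplicative on powers. -/
theorem linear_pow {G : Type*} [Group G] {μ : G → ℂ} (hμ : IsCharacter G μ) (h1 : μ 1 = 1)
    (g : G) (k : ℕ) : μ (g ^ k) = μ g ^ k := by
  induction k with
  | zero => rw [pow_zero, pow_zero, h1]
  | succ k ih => rw [pow_succ, pow_succ, linear_char_mul hμ h1, ih]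

section amb

variable {Γ : Type u} [Group Γ] [Fintype Γ]

/-- Clifford inside the inertia group, ambient form: an irreducible character of `T` over the
`T`-invariant `μ ∈ Irr(V)` restricts to a multiple of `μ`. -/
theorem res_eq_smul_of_invariant {T V : Subgroup Γ} [Fintype T] [Fintype V] (hVT : V ≤ T)
    (hVn : ∀ t ∈ T, ∀ v ∈ V, t * v * t⁻¹ ∈ V) (μ : IrrCharacter V)
    (hμT : ∀ t ∈ T, InvUnder V t (μ : V → ℂ)) (ψ : IrrCharacter T)
    (hov : classInner (res hVT (ψ : T → ℂ)) (μ : V → ℂ) ≠ 0) :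
    res hVT (ψ : T → ℂ) = classInner (res hVT (ψ : T → ℂ)) (μ : V → ℂ) • (μ : V → ℂ) := by
  classical
  letI : Fintype (IrrCharacter V) := Fintype.ofFinite _
  have hψc := isCharacter_of_irr ψ.2
  have hexp := classFunction_expansion (res hVT (ψ : T → ℂ))
    (isClassFunction_of_isCharacter (isCharacter_res hVT hψc))
  have hμ : resMult hVT (ψ : T → ℂ) (μ : V → ℂ) ≠ 0 := (resMult_ne_zero_iff hVT ψ μ).mpr hov
  rw [Finset.sum_eq_single μ] at hexp
  · exact hexp
  · intro φ _ hφ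
    have h0 : classInner (res hVT (ψ : T → ℂ)) (φ : V → ℂ) = 0 := by
      by_contra hne
      have hφ' : resMult hVT (ψ : T → ℂ) (φ : V → ℂ) ≠ 0 :=
        (resMult_ne_zero_iff hVT ψ φ).mpr hne
      obtain ⟨c, hc, hconj⟩ := exists_conj_of_constituents_amb hVT hVn ψ μ φ hμ hφ'
      apply hφ
      apply Subtype.ext
      rw [hconj]
      exact (invUnder_iff_comp V c (hVn c hc) (inv_norm_of_norm (hVn c hc)) _).mp (hμT c hc)
    rw [h0, zero_smul]
  · intro h
    exact absurd (Finset.mem_univ μ) h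

end amb

section main

variable {Γ : Type u} [Group Γ] [Finite Γ]

/-- CLIFFIB. -/
theorem card_fiber_eq_card_rh (ρ : Prop) (Y T V : Subgroup Γ) (hVT : V ≤ T) (hTY : T ≤ Y)
    (hVn : ∀ y ∈ Y, ∀ v ∈ V, y * v * y⁻¹ ∈ V) (μ : IrrCharacter ↥V)
    (hT : ∀ g : Γ, g ∈ T ↔ g ∈ Y ∧ InvUnder V g (μ : ↥V → ℂ)) (hodd : Odd (T.relIndex Y))
    (z : Γ) (hzV : z ∈ V) (hzc : ∀ y ∈ Y, y * z = z * y) (ζ : ℂ)
    (hμ1 : (μ : ↥V → ℂ) 1 = 1) (hμz : (μ : ↥V → ℂ) ⟨z, hzV⟩ = ζ)
    (hμr : ρ → ∀ v : ↥V, ((μ : ↥V → ℂ) v).im = 0) :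
    Nat.card {χ : IrrCharacter ↥Y // χ ∈ CC ρ ↥Y ⟨z, hTY (hVT hzV)⟩ ζ ∧
        Over (hVT.trans hTY) (χ : ↥Y → ℂ) (μ : ↥V → ℂ)} =
      Nat.card (RH ρ hVT (μ : ↥V → ℂ)) := by
  classical
  letI : Fintype Γ := Fintype.ofFinite Γ
  letI : Fintype ↥V := Fintype.ofFinite ↥V
  letI : Fintype ↥T := Fintype.ofFinite ↥T
  letI : Fintype ↥Y := Fintype.ofFinite ↥Y
  have hVY : V ≤ Y := hVT.trans hTY
  have hμc : IsCharacter ↥V (μ : ↥V → ℂ) := isCharacter_of_irr μ.2
  have hVnT : ∀ t ∈ T, ∀ v ∈ V, t * v * t⁻¹ ∈ V := fun t ht => hVn t (hTY ht)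
  have hμT : ∀ t ∈ T, InvUnder V t (μ : ↥V → ℂ) := fun t ht => ((hT t).mp ht).2
  -- degree of an induced character
  have hdeg : ∀ ψ : ↥T → ℂ, indA hTY ψ 1 = (T.relIndex Y : ℂ) * ψ 1 := by
    intro ψ
    unfold indA
    rw [indFun_apply_one]
    rfl
  -- value at a central power of `z`
  have hzval : ∀ (ψ : ↥T → ℂ) (k : ℕ), indA hTY ψ ((⟨z, hTY (hVT hzV)⟩ : ↥Y) ^ k) =
      (T.relIndex Y : ℂ) * ψ ((⟨z, hVT hzV⟩ : ↥T) ^ k) := by
    intro ψ k
    unfold indA
    have hmem : ((⟨z, hTY (hVT hzV)⟩ : ↥Y) ^ k) ∈ T.subgroupOf Y := by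
      rw [Subgroup.mem_subgroupOf]
      simp only [SubmonoidClass.coe_pow]
      exact T.pow_mem (hVT hzV) k
    rw [indFun_apply_central (T.subgroupOf Y) _ _ hmem]
    · congr 1
    · intro x
      apply Subtype.ext
      simp only [Subgroup.coe_mul, SubmonoidClass.coe_pow]
      exact (Commute.pow_right (hzc x x.2) k)
  have hrel0 : (T.relIndex Y : ℂ) ≠ 0 := by
    have h1 : T.relIndex Y ≠ 0 := by
      intro h0
      rw [h0] at hodd
      exact absurd hodd (by decide)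
    exact_mod_cast h1
  -- the overlap of an element of `RH` with `μ`
  have hover_of_rh : ∀ η : IrrCharacter ↥T, η ∈ RH ρ hVT (μ : ↥V → ℂ) →
      classInner (res hVT (η : ↥T → ℂ)) (μ : ↥V → ℂ) ≠ 0 := by
    intro η hη
    have hres : res hVT (η : ↥T → ℂ) = ((η : ↥T → ℂ) 1) • (μ : ↥V → ℂ) := by
      funext v
      exact hη.2.2 v
    rw [hres, classInner_smul_left, irr_classInner_self μ.2, mul_one,
      apply_one_eq_charDegree _ η.2]
    have := Cfsg.Agent.Lib.H23.charDegree_pos _ η.2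
    exact_mod_cast this.ne'
  -- the forward map
  have hfwd : ∀ η : IrrCharacter ↥T, η ∈ RH ρ hVT (μ : ↥V → ℂ) →
      ∃ hirr : IsIrrCharacter ↥Y (indA hTY (η : ↥T → ℂ)),
        (⟨indA hTY (η : ↥T → ℂ), hirr⟩ : IrrCharacter ↥Y) ∈ CC ρ ↥Y ⟨z, hTY (hVT hzV)⟩ ζ ∧
        Over hVY (indA hTY (η : ↥T → ℂ)) (μ : ↥V → ℂ) := by
    intro η hη
    have hf := hover_of_rh η hη
    obtain ⟨hirr, hmult⟩ := cliff_irr hVT hTY hVn (μ : ↥V → ℂ) μ.2 hT (η : ↥T → ℂ) η.2 hf
    refine ⟨hirr, ⟨?_, ?_, ?_⟩, ?_⟩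
    · -- odd degree
      show Odd (charDegree (indA hTY (η : ↥T → ℂ)))
      have h1 : charDegree (indA hTY (η : ↥T → ℂ)) =
          T.relIndex Y * charDegree (η : ↥T → ℂ) := by
        apply charDegree_eq_of_apply_one
        rw [hdeg, apply_one_eq_charDegree _ η.2]
        push_cast
        rfl
      rw [h1]
      exact hodd.mul hη.1
    · -- real
      intro hρ x
      show (indA hTY (η : ↥T → ℂ) x).im = 0
      unfold indA
      exact Cfsg.Agent.Lib.H1.RealBij.indFun_real (T.subgroupOf Y) _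
        (fun h => hη.2.1 hρ _) x
    · -- the scalar action of `z`
      intro k
      show indA hTY (η : ↥T → ℂ) ((⟨z, hTY (hVT hzV)⟩ : ↥Y) ^ k) =
        ζ ^ k * indA hTY (η : ↥T → ℂ) 1
      rw [hzval, hdeg]
      have h1 : ((⟨z, hVT hzV⟩ : ↥T) ^ k) =
          ⟨(((⟨z, hzV⟩ : ↥V) ^ k : ↥V) : Γ), hVT ((⟨z, hzV⟩ : ↥V) ^ k).2⟩ := by
        apply Subtype.ext
        simp
      rw [h1, hη.2.2, linear_pow hμc hμ1, hμz]
      ring
    · show classInner (res hVY (indA hTY (η : ↥T → ℂ))) (μ : ↥V → ℂ) ≠ 0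
      rw [hmult]
      exact hf
  choose hirr hcc hov using hfwd
  let f : ↥(RH ρ hVT (μ : ↥V → ℂ)) →
      {χ : IrrCharacter ↥Y // χ ∈ CC ρ ↥Y ⟨z, hTY (hVT hzV)⟩ ζ ∧
        Over (hVT.trans hTY) (χ : ↥Y → ℂ) (μ : ↥V → ℂ)} :=
    fun η => ⟨⟨indA hTY ((η : IrrCharacter ↥T) : ↥T → ℂ), hirr η.1 η.2⟩, hcc η.1 η.2, hov η.1 η.2⟩
  have hbij : Function.Bijective f := by
    constructor
    · intro η η' heq
      have h1 : indA hTY ((η : IrrCharacter ↥T) : ↥T → ℂ) =
          indA hTY ((η' : IrrCharacter ↥T) : ↥T → ℂ) :=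
        congrArg (fun χ => ((χ.1 : IrrCharacter ↥Y) : ↥Y → ℂ)) heq
      have h2 := cliff_inj hVT hTY hVn (μ : ↥V → ℂ) μ.2 hT _ _ η.1.2 η'.1.2
        (hover_of_rh η.1 η.2) (hover_of_rh η'.1 η'.2) h1
      exact Subtype.ext (Subtype.ext h2)
    · rintro ⟨χ, hχcc, hχov⟩
      have hχov' : classInner (res hVY (χ : ↥Y → ℂ)) (μ : ↥V → ℂ) ≠ 0 := hχov
      obtain ⟨ψ, hψ, hind, hmult⟩ := cliff_exists hVT hTY hVn (μ : ↥V → ℂ) μ.2 hT
        (χ : ↥Y → ℂ) χ.2 hχov'
      have hψov : classInner (res hVT ψ) (μ : ↥V → ℂ) ≠ 0 := by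
        rw [hmult]
        exact hχov'
      have hres := res_eq_smul_of_invariant hVT hVnT μ hμT ⟨ψ, hψ⟩ hψov
      -- the coefficient is `ψ 1`
      have hcoef : classInner (res hVT ψ) (μ : ↥V → ℂ) = ψ 1 := by
        have h1 := congrFun hres 1
        rw [Pi.smul_apply, smul_eq_mul, hμ1, mul_one] at h1
        rw [← h1]
        rfl
      have hresv : ∀ v : ↥V, ψ ⟨v, hVT v.2⟩ = ψ 1 * (μ : ↥V → ℂ) v := by
        intro v
        have h1 := congrFun hres v
        rw [Pi.smul_apply, smul_eq_mul, hcoef] at h1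
        exact h1
      have hψ1 : ψ 1 = (charDegree ψ : ℂ) := apply_one_eq_charDegree _ hψ
      have hmemRH : (⟨ψ, hψ⟩ : IrrCharacter ↥T) ∈ RH ρ hVT (μ : ↥V → ℂ) := by
        refine ⟨?_, ?_, hresv⟩
        · -- odd degree
          show Odd (charDegree ψ)
          have h1 : charDegree (χ : ↥Y → ℂ) = T.relIndex Y * charDegree ψ := by
            apply charDegree_eq_of_apply_one
            rw [← hind, hdeg, hψ1]
            push_cast
            rfl
          have h2 : Odd (T.relIndex Y * charDegree ψ) := by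
            rw [← h1]
            exact hχcc.1
          exact (Nat.odd_mul.mp h2).2
        · -- real
          intro hρ
          have hχreal := hχcc.2.1 hρ
          have hμreal := hμr hρ
          set ψ' : ↥T → ℂ := fun t => conj (ψ t) with hψ'
          have hψ'irr : IsIrrCharacter ↥T ψ' := isIrrCharacter_conj hψ
          have hres' : res hVT ψ' = res hVT ψ := by
            funext v
            show conj (ψ ⟨v, hVT v.2⟩) = ψ ⟨v, hVT v.2⟩
            rw [hresv v, map_mul, hψ1, Complex.conj_natCast]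
            congr 1
            exact Complex.conj_eq_iff_im.mpr (hμreal v)
          have hψ'ov : classInner (res hVT ψ') (μ : ↥V → ℂ) ≠ 0 := by
            rw [hres']
            exact hψov
          have hind' : indA hTY ψ' = indA hTY ψ := by
            funext y
            have h1 : indA hTY ψ' y = conj (indA hTY ψ y) := by
              unfold indA
              exact indFun_conj_apply (T.subgroupOf Y) (ψ ∘ eSub hTY) y
            rw [h1, hind]
            exact Complex.conj_eq_iff_im.mpr (hχreal y)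
          have heq := cliff_inj hVT hTY hVn (μ : ↥V → ℂ) μ.2 hT ψ' ψ hψ'irr hψ hψ'ov hψov hind'
          intro x
          show (ψ x).im = 0
          apply Complex.conj_eq_iff_im.mp
          exact congrFun heq x
      refine ⟨⟨⟨ψ, hψ⟩, hmemRH⟩, ?_⟩
      apply Subtype.ext
      apply Subtype.ext
      exact hind
  exact (Nat.card_eq_of_bijective f hbij).symm

end main

end Cfsg.Agent.Lib.H24.RO
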