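import Mathlib
import Cfsg.Prelude.Def_Characters
import Cfsg.Prelude.Def_Solvable
import Cfsg.Agent.Lib.H24.GlaubSolv5
import Cfsg.Agent.Lib.H24.CharDefl
import Cfsg.Agent.Lib.H22.ROKREAL
import Cfsg.Agent.Lib.H1.PQ2TRICK
import Cfsg.Agent.Lib.H10.PSolvable2
import Cfsg.Agent.Lib.H1.PSolvOfSolv

/-!
# S4581 piece I2 (`normalizer_eq_of_all_real`) (helper24 twin).
Exact signature of `tools/blueprints/S4581_sigs.lean`.

If every irreducible character of odd degree of the solvable group `G` is real-valued then a Sylow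
2-subgroup of `G` is self-normalizing.
-/

set_option autoImplicit false

universe u

namespace Cfsg.Agent.Lib.H24.RO

open Cfsg Cfsg.Agent.Lib.H24.Glaub

theorem normalizer_eq_aux (n : ℕ) : ∀ (G : Type u) [Group G] [Finite G] [Group.IsSolvable G],
    Nat.card G = n →
    (∀ χ : IrrCharacter G, Odd (charDegree (χ : G → ℂ)) → ∀ g : G, ((χ : G → ℂ) g).im = 0) →
    ∀ P : Sylow 2 G, Subgroup.normalizer ((P : Subgroup G) : Set G) = (P : Subgroup G) := by
  induction n using Nat.strong_induction_on with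
  | _ n ih =>
  intro G _ _ _ hn hall P
  classical
  apply le_antisymm _ Subgroup.le_normalizer
  by_cases htriv : Subsingleton G
  · intro g _
    have h1 : g = 1 := Subsingleton.elim _ _
    rw [h1]
    exact Subgroup.one_mem _
  rw [not_subsingleton_iff_nontrivial] at htriv
  haveI := htriv
  have hps : IsPSolvable 2 G := Cfsg.Agent.Lib.H1.PSolvOfSolv.isPSolvable_of_isSolvable 2 G
  obtain ⟨M, hMn, hMne, hM⟩ := Cfsg.Agent.Lib.H10.exists_normal_of_isPSolvable hps
  haveI := hMn
  -- the quotient `G ⧸ M`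
  have hcardQ : Nat.card (G ⧸ M) < n := by
    rw [← hn, ← Subgroup.index_eq_card, ← M.card_mul_index]
    have h1 : 1 < Nat.card M := M.one_lt_card_iff_ne_bot.mpr hMne
    have h2 : 0 < M.index := Nat.pos_of_ne_zero Subgroup.index_ne_zero_of_finite
    nlinarith
  have hallQ : ∀ χ : IrrCharacter (G ⧸ M), Odd (charDegree (χ : G ⧸ M → ℂ)) →
      ∀ g : G ⧸ M, ((χ : G ⧸ M → ℂ) g).im = 0 := by
    intro χ hχ g
    obtain ⟨g, rfl⟩ := QuotientGroup.mk_surjective g
    have h1 := hall (Cfsg.Agent.Lib.H24.inflIrr M χ)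
      (by rw [Cfsg.Agent.Lib.H24.charDegree_inflIrr]; exact hχ) g
    rwa [Cfsg.Agent.Lib.H24.inflIrr_apply] at h1
  have hQ := ih _ hcardQ (G ⧸ M) rfl hallQ
    (P.mapSurjective (QuotientGroup.mk'_surjective M))
  have hNle : Subgroup.normalizer ((P : Subgroup G) : Set G) ≤ (P : Subgroup G) ⊔ M := by
    intro g hg
    have h1 : QuotientGroup.mk' M g ∈ Subgroup.normalizer
        (((P.mapSurjective (QuotientGroup.mk'_surjective M) : Sylow 2 (G ⧸ M)) :
          Subgroup (G ⧸ M)) : Set (G ⧸ M)) := by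
      rw [Sylow.coe_mapSurjective]
      exact Subgroup.le_normalizer_map _ (Subgroup.mem_map_of_mem _ hg)
    rw [hQ, Sylow.coe_mapSurjective] at h1
    have h2 : g ∈ ((P : Subgroup G).map (QuotientGroup.mk' M)).comap (QuotientGroup.mk' M) := h1
    rw [Subgroup.comap_map_eq, QuotientGroup.ker_mk'] at h2
    exact h2
  rcases hM with hM2 | hMc
  · -- `M` a 2-group: `M ≤ P`
    have hMP : M ≤ (P : Subgroup G) := hM2.le_sylow_of_normal P
    intro g hg
    have h1 := hNle hg
    rwa [sup_eq_left.mpr hMP] at h1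
  · -- `M` of odd order
    have hMo : Odd (Nat.card M) := hMc.odd_of_right
    have hcop : (Nat.card M).Coprime (Nat.card (P : Subgroup G)) := by
      obtain ⟨k, hk⟩ := IsPGroup.iff_card.mp P.2
      rw [hk]
      exact Nat.Coprime.pow_right k hMc
    have hdisj : M ⊓ (P : Subgroup G) = ⊥ :=
      disjoint_iff.mp (Subgroup.disjoint_of_coprime_natCard hcop)
    -- elements of `N(P) ∩ M` centralize `P`
    have hcent : ∀ m ∈ M, m ∈ Subgroup.normalizer ((P : Subgroup G) : Set G) →
        m ∈ M ⊓ Subgroup.centralizer ((P : Subgroup G) : Set G) := by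
      intro m hmM hmN
      refine Subgroup.mem_inf.mpr ⟨hmM, ?_⟩
      rw [Subgroup.mem_centralizer_iff]
      intro y hy
      have hyP : y ∈ (P : Subgroup G) := hy
      have h1 : m * y * m⁻¹ ∈ (P : Subgroup G) := (Subgroup.mem_normalizer_iff.mp hmN y).mp hyP
      have h2 : m * y * m⁻¹ * y⁻¹ ∈ (P : Subgroup G) :=
        Subgroup.mul_mem _ h1 (Subgroup.inv_mem _ hyP)
      have h3 : m * y * m⁻¹ * y⁻¹ ∈ M := by
        have h4 : m * y * m⁻¹ * y⁻¹ = m * (y * m⁻¹ * y⁻¹) := by group
        rw [h4]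
        exact M.mul_mem hmM (hMn.conj_mem _ (M.inv_mem hmM) y)
      have h5 : m * y * m⁻¹ * y⁻¹ ∈ M ⊓ (P : Subgroup G) := Subgroup.mem_inf.mpr ⟨h3, h2⟩
      rw [hdisj, Subgroup.mem_bot] at h5
      have h6 : m * y = y * m := by
        have h7 : m * y = (m * y * m⁻¹ * y⁻¹) * (y * m) := by group
        rw [h7, h5, one_mul]
      exact h6.symm
    by_cases hC : M ⊓ Subgroup.centralizer ((P : Subgroup G) : Set G) = ⊥
    · intro g hg
      obtain ⟨x, hx, m, hm, rfl⟩ := Subgroup.mem_sup_of_normal_right.mp (hNle hg)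
      have hxN : x ∈ Subgroup.normalizer ((P : Subgroup G) : Set G) :=
        Subgroup.le_normalizer hx
      have hmN : m ∈ Subgroup.normalizer ((P : Subgroup G) : Set G) := by
        have h1 : m = x⁻¹ * (x * m) := by group
        rw [h1]
        exact Subgroup.mul_mem _ (Subgroup.inv_mem _ hxN) hg
      have h2 := hcent m hm hmN
      rw [hC, Subgroup.mem_bot] at h2
      rw [h2, mul_one]
      exact hx
    · exfalso
      letI : Fintype G := Fintype.ofFinite G
      letI : Fintype M := Fintype.ofFinite M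
      have hnorm : ∀ s ∈ (P : Subgroup G), ∀ g ∈ M, s * g * s⁻¹ ∈ M :=
        fun s _ g hg => hMn.conj_mem g hg s
      have hcount := solv_count_cent (Γ := G) M (P : Subgroup G) hnorm hcop inferInstance
      -- at least two classes in `C_M(P)`
      obtain ⟨⟨c, hcC⟩, hc1'⟩ := (Subgroup.ne_bot_iff_exists_ne_one).mp hC
      have hnt : Nontrivial (ConjClasses ↥(M ⊓ Subgroup.centralizer ((P : Subgroup G) : Set G))) := by
        refine ⟨⟨ConjClasses.mk 1, ConjClasses.mk ⟨c, hcC⟩, ?_⟩⟩
        intro h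
        rw [ConjClasses.mk_eq_mk_iff_isConj] at h
        exact hc1' (isConj_one_right.mp h)
      have h2 : 1 < Nat.card {χ : IrrCharacter M // ∀ s ∈ (P : Subgroup G),
          InvUnder M s (χ : M → ℂ)} := by
        rw [hcount]
        exact Finite.one_lt_card
      haveI : Nontrivial {χ : IrrCharacter M // ∀ s ∈ (P : Subgroup G),
          InvUnder M s (χ : M → ℂ)} := Finite.one_lt_card_iff_nontrivial.mp h2
      obtain ⟨a, b, hab⟩ := exists_pair_ne {χ : IrrCharacter M // ∀ s ∈ (P : Subgroup G),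
          InvUnder M s (χ : M → ℂ)}
      have hex : ∃ θ : IrrCharacter M, (∀ s ∈ (P : Subgroup G), InvUnder M s (θ : M → ℂ)) ∧
          θ ≠ Cfsg.Agent.Lib.H24.trivialIrr M := by
        by_cases ha : a.1 = Cfsg.Agent.Lib.H24.trivialIrr M
        · refine ⟨b.1, b.2, ?_⟩
          intro hb
          exact hab (Subtype.ext (ha.trans hb.symm))
        · exact ⟨a.1, a.2, ha⟩
      obtain ⟨θ, hθinv, hθne⟩ := hex
      have hidx : ¬ 2 ∣ (M ⊔ (P : Subgroup G)).index := by
        intro h
        exact P.not_dvd_index (h.trans (Subgroup.index_dvd_of_le le_sup_right))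
      have hdeg : ¬ 2 ∣ charDegree (θ : M → ℂ) := by
        intro h
        have h3 : charDegree (θ : M → ℂ) ∣ Nat.card M :=
          Cfsg.Agent.Lib.H23.charDegree_dvd_card _ θ.2
        have h4 : ¬ 2 ∣ Nat.card M := by
          rw [← even_iff_two_dvd, Nat.not_even_iff_odd]
          exact hMo
        exact h4 (h.trans h3)
      obtain ⟨χ, hχov, hχdeg⟩ := Cfsg.Agent.Lib.H1.PQ2.exists_pPrime_degree_over 2 M
        (P : Subgroup G) P.2 hdisj hidx θ hdeg hθinv
      have hχodd : Odd (charDegree (χ : G → ℂ)) := by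
        rw [← Nat.not_even_iff_odd, even_iff_two_dvd]
        exact hχdeg
      have hχreal := hall χ hχodd
      have hker := Cfsg.Agent.Lib.H22.RO.trivial_on_of_real_odd M hMo χ hχodd hχreal
      apply hχov
      have h5 : (fun k : M => (χ : G → ℂ) k) =
          ((χ : G → ℂ) 1) • ((Cfsg.Agent.Lib.H24.trivialIrr M : IrrCharacter M) : M → ℂ) := by
        funext k
        rw [Pi.smul_apply, smul_eq_mul, Cfsg.Agent.Lib.H24.trivialIrr_apply, mul_one]
        exact hker k k.2
      rw [h5, Cfsg.Agent.Lib.L0.classInner_smul_left,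
        Cfsg.Agent.Lib.L0.irr_classInner_ne (Cfsg.Agent.Lib.H24.trivialIrr M).2 θ.2
          (fun h => hθne (Subtype.ext h.symm)), mul_zero]

/-- I2. -/
theorem normalizer_eq_of_all_real {G : Type u} [Group G] [Finite G] [Group.IsSolvable G]
    (hall : ∀ χ : IrrCharacter G, Odd (charDegree (χ : G → ℂ)) →
      ∀ g : G, ((χ : G → ℂ) g).im = 0) (P : Sylow 2 G) :
    Subgroup.normalizer ((P : Subgroup G) : Set G) = (P : Subgroup G) :=
  normalizer_eq_aux (Nat.card G) G rfl hall P

end Cfsg.Agent.Lib.H24.RO
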