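import Mathlib
import Cfsg.Prelude.Def_Characters
import Cfsg.Prelude.Def_Solvable
import Cfsg.Agent.Lib.H26.RODefs
import Cfsg.Agent.Lib.H24.GlaubOver4
import Cfsg.Agent.Lib.H14.ROSYLFIX

/-!
# S4581 piece ORB (`orb`) (helper24).  Exact signature of `tools/blueprints/S4581_sigs.lean`.

`V ≤ P ≤ Y`, `Y` normalizes `V`, `P` a Sylow 2-subgroup of `Y`, `NY = N_Y(P)`: for `χ ∈ Irr(Y)` of
odd degree the `P`-invariant irreducible constituents of `χ_V` form exactly one `NY`-class.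
-/

set_option autoImplicit false

universe u

namespace Cfsg.Agent.Lib.H24.RO

open Cfsg Cfsg.Agent.Lib.L0 Cfsg.Agent.Lib.H23 Cfsg.Agent.Lib.H24 Cfsg.Agent.Lib.H24.Glaub
  Cfsg.Agent.Lib.H26.RO

variable {Γ : Type u} [Group Γ] [Finite Γ]

/-- ORB. -/
theorem orb (Y P NY V : Subgroup Γ) (hVP : V ≤ P) (hPY : P ≤ Y) (hP : IsPGroup 2 P)
    (hsyl : ¬ 2 ∣ P.relIndex Y) (hNY : IsNormIn Y P NY)
    (hVn : ∀ y ∈ Y, ∀ v ∈ V, y * v * y⁻¹ ∈ V)
    (χ : IrrCharacter ↥Y) (hodd : Odd (charDegree (χ : ↥Y → ℂ))) :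
    ∃ μ₀ : IrrCharacter ↥V, (∀ x ∈ P, InvUnder V x (μ₀ : ↥V → ℂ)) ∧
      ∀ μ : IrrCharacter ↥V, (∀ x ∈ P, InvUnder V x (μ : ↥V → ℂ)) →
        (Over (hVP.trans hPY) (χ : ↥Y → ℂ) (μ : ↥V → ℂ) ↔
          NConj V NY (μ₀ : ↥V → ℂ) (μ : ↥V → ℂ)) := by
  classical
  letI : Fintype Γ := Fintype.ofFinite Γ
  letI : Fintype ↥V := Fintype.ofFinite ↥V
  letI : Fintype ↥Y := Fintype.ofFinite ↥Y
  letI : Fintype (IrrCharacter ↥V) := Fintype.ofFinite _
  have hVY : V ≤ Y := hVP.trans hPY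
  have hPV : ∀ q ∈ P, ∀ n ∈ V, q * n * q⁻¹ ∈ V := fun q hq => hVn q (hPY hq)
  have hχcf := isClassFunction_of_isCharacter (isCharacter_of_irr χ.2)
  -- Step 1: a `P`-invariant constituent exists
  have hex : ∃ μ₀ : IrrCharacter ↥V, (∀ x ∈ P, InvUnder V x (μ₀ : ↥V → ℂ)) ∧
      resMult hVY (χ : ↥Y → ℂ) (μ₀ : ↥V → ℂ) ≠ 0 := by
    set g : IrrCharacter ↥V → ℤ := fun φ =>
      (resMult hVY (χ : ↥Y → ℂ) (φ : ↥V → ℂ) : ℤ) * (charDegree (φ : ↥V → ℂ) : ℤ) with hg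
    have hginv : ∀ (q : P) (φ : IrrCharacter ↥V), g ((irrAct V P hPV).smul q φ) = g φ := by
      intro q φ
      have hq' : (q : Γ)⁻¹ ∈ P := P.inv_mem q.2
      show (resMult hVY (χ : ↥Y → ℂ)
          (((irrAct V P hPV).smul q φ : IrrCharacter ↥V) : ↥V → ℂ) : ℤ) *
        (charDegree (((irrAct V P hPV).smul q φ : IrrCharacter ↥V) : ↥V → ℂ) : ℤ) = _
      have h1 : charDegree (((irrAct V P hPV).smul q φ : IrrCharacter ↥V) : ↥V → ℂ) =
          charDegree (φ : ↥V → ℂ) := by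
        apply charDegree_eq_of_apply_one
        rw [irrAct_smul_coe, Function.comp_apply, map_one]
        exact apply_one_eq_charDegree _ φ.2
      rw [h1, irrAct_smul_coe,
        resMult_conj_right hVY (hPV _ hq') (inv_norm_of_norm (hPV _ hq'))
          (invUnder_of_mem (hPY hq') hχcf)]
    have h1 := sum_irr_modEq V P hPV Nat.prime_two hP g hginv
    have h2 : (∑ φ : IrrCharacter ↥V, g φ) = (charDegree (χ : ↥Y → ℂ) : ℤ) := by
      rw [charDegree_eq_sum_resMult hVY χ]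
      push_cast
      rfl
    by_contra hcon
    push Not at hcon
    have h3 : ((2 : ℕ) : ℤ) ∣ (charDegree (χ : ↥Y → ℂ) : ℤ) := by
      rw [← h2]
      apply (Int.ModEq.dvd_iff h1).mpr
      apply Finset.dvd_sum
      intro φ _
      by_cases hinv : ∀ q ∈ P, InvUnder V q (φ : ↥V → ℂ)
      · rw [if_pos hinv]
        show ((2 : ℕ) : ℤ) ∣ (resMult hVY (χ : ↥Y → ℂ) (φ : ↥V → ℂ) : ℤ) *
          (charDegree (φ : ↥V → ℂ) : ℤ)
        rw [hcon φ hinv, Nat.cast_zero, zero_mul]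
        exact dvd_zero _
      · rw [if_neg hinv]
        exact dvd_zero _
    have h4 : 2 ∣ charDegree (χ : ↥Y → ℂ) := Int.natCast_dvd_natCast.mp h3
    exact (Nat.not_even_iff_odd.mpr hodd) (even_iff_two_dvd.mpr h4)
  obtain ⟨μ₀, hμ₀inv, hμ₀⟩ := hex
  refine ⟨μ₀, hμ₀inv, ?_⟩
  intro μ hμinv
  -- the Sylow subgroup of `↥Y`
  have hP' : IsPGroup 2 (P.subgroupOf Y) := hP.comap_of_injective Y.subtype Y.subtype_injective
  have hsyl' : ¬ 2 ∣ (P.subgroupOf Y).index := hsyl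
  set S : Sylow 2 ↥Y := hP'.toSylow hsyl' with hS
  have hSmem : ∀ x : ↥Y, x ∈ (S : Subgroup ↥Y) ↔ (x : Γ) ∈ P := by
    intro x
    rw [hS, IsPGroup.toSylow_coe]
    exact Subgroup.mem_subgroupOf
  letI act : MulAction ↥Y (IrrCharacter ↥V) := irrAct V Y hVn
  have hfix : ∀ ν : IrrCharacter ↥V, (∀ x ∈ P, InvUnder V x (ν : ↥V → ℂ)) →
      ∀ x ∈ (S : Subgroup ↥Y), x • ν = ν := by
    intro ν hν x hx
    have hxP : (x : Γ) ∈ P := (hSmem x).mp hx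
    apply Subtype.ext
    funext n
    show (((irrAct V Y hVn).smul x ν : IrrCharacter ↥V) : ↥V → ℂ) n = (ν : ↥V → ℂ) n
    rw [irrAct_smul_apply]
    exact hν (x : Γ)⁻¹ (P.inv_mem hxP) n _ rfl
  constructor
  · intro hov
    have hμ : resMult hVY (χ : ↥Y → ℂ) (μ : ↥V → ℂ) ≠ 0 :=
      (resMult_ne_zero_iff hVY χ μ).mpr hov
    obtain ⟨c, hc, hconj⟩ := exists_conj_of_constituents_amb hVY hVn χ μ₀ μ hμ₀ hμ
    have hbμ : (⟨c, hc⟩⁻¹ : ↥Y) • μ₀ = μ := by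
      apply Subtype.ext
      show (((irrAct V Y hVn).smul (⟨c, hc⟩⁻¹ : ↥Y) μ₀ : IrrCharacter ↥V) : ↥V → ℂ) =
        (μ : ↥V → ℂ)
      rw [irrAct_smul_coe, hconj]
      funext n
      simp only [Function.comp_apply]
      apply congrArg
      apply Subtype.ext
      rw [conjN_apply, conjN_apply]
      simp
    obtain ⟨n, hn, hnμ⟩ := Cfsg.Agent.Lib.H14.RO.exists_normalizer_smul_eq 2 S μ₀
      (⟨c, hc⟩⁻¹ : ↥Y) (hfix μ₀ hμ₀inv) (by rw [hbμ]; exact hfix μ hμinv)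
    rw [hbμ] at hnμ
    have hnN : (n : Γ) ∈ NY := by
      rw [hNY]
      refine ⟨n.2, ?_⟩
      intro x
      rw [Subgroup.mem_normalizer_iff] at hn
      constructor
      · intro hx
        have h1 := (hn ⟨x, hPY hx⟩).mp ((hSmem _).mpr hx)
        exact (hSmem _).mp h1
      · intro hx
        have hxY : x ∈ Y := by
          have h1 : x = (n : Γ)⁻¹ * ((n : Γ) * x * (n : Γ)⁻¹) * (n : Γ) := by group
          rw [h1]
          exact Y.mul_mem (Y.mul_mem (Y.inv_mem n.2) (hPY hx)) n.2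
        have h1 := (hn ⟨x, hxY⟩).mpr ((hSmem _).mpr hx)
        exact (hSmem _).mp h1
    refine ⟨(n : Γ), hnN, ?_⟩
    intro v v' hvv'
    have h1 : (μ : ↥V → ℂ) v' =
        (((irrAct V Y hVn).smul n μ₀ : IrrCharacter ↥V) : ↥V → ℂ) v' := by
      rw [← hnμ]
      rfl
    rw [h1, irrAct_smul_apply]
    apply congrArg
    apply Subtype.ext
    show (n : Γ)⁻¹ * (v' : Γ) * ((n : Γ)⁻¹)⁻¹ = (v : Γ)
    rw [hvv']
    group
  · rintro ⟨n, hn, hconj⟩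
    have hnY : n ∈ Y := ((hNY n).mp hn).1
    have hn' : n⁻¹ ∈ Y := Y.inv_mem hnY
    have hμeq : (μ : ↥V → ℂ) = (μ₀ : ↥V → ℂ) ∘
        conjN V n⁻¹ (hVn _ hn') (inv_norm_of_norm (hVn _ hn')) := by
      funext v'
      simp only [Function.comp_apply]
      apply hconj
      rw [conjN_apply]
      group
    have h1 : resMult hVY (χ : ↥Y → ℂ) (μ : ↥V → ℂ) ≠ 0 := by
      rw [hμeq, resMult_conj_right hVY (hVn _ hn') (inv_norm_of_norm (hVn _ hn'))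
        (invUnder_of_mem hn' hχcf)]
      exact hμ₀
    exact (resMult_ne_zero_iff hVY χ μ).mp h1

end Cfsg.Agent.Lib.H24.RO
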