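import Mathlib

/-!
# Real forms of complex matrix families (helper24's library)

Entrywise conjugation `cj` of complex matrices and the "Hilbert 90" lemma `exists_real_conj`:
if `A * cj A = 1` and `R i * A = A * cj (R i)` for all `i`, then the family `R` is simultaneously
conjugate to a family of matrices with real entries.
-/

set_option autoImplicit false

namespace Cfsg.Agent.Lib.H24

open scoped ComplexConjugate Matrix
open Matrix

section cj

variable {n : Type*}

/-- Entrywise complex conjugation of a matrix. -/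
def cj (M : Matrix n n ℂ) : Matrix n n ℂ := Mᴴᵀ

theorem cj_apply (M : Matrix n n ℂ) (i j : n) : cj M i j = conj (M i j) := rfl

theorem cj_cj (M : Matrix n n ℂ) : cj (cj M) = M := by
  ext i j
  simp [cj_apply]

theorem cj_add (M N : Matrix n n ℂ) : cj (M + N) = cj M + cj N := by
  ext i j
  simp [cj_apply]

theorem cj_smul (c : ℂ) (M : Matrix n n ℂ) : cj (c • M) = conj c • cj M := by
  ext i j
  simp [cj_apply]

theorem cj_conjTranspose (M : Matrix n n ℂ) : cj Mᴴ = Mᵀ := by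
  ext i j
  simp [cj_apply, conjTranspose_apply]

theorem cj_transpose (M : Matrix n n ℂ) : cj Mᵀ = Mᴴ := by
  ext i j
  simp [cj_apply, conjTranspose_apply]

theorem cj_mul [Fintype n] (M N : Matrix n n ℂ) : cj (M * N) = cj M * cj N := by
  simp [cj, conjTranspose_mul, transpose_mul]

theorem cj_one [DecidableEq n] : cj (1 : Matrix n n ℂ) = 1 := by
  simp [cj]

theorem cj_eq_self_iff (M : Matrix n n ℂ) :
    cj M = M ↔ M = (M.map Complex.re).map Complex.ofReal := by
  constructor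
  · intro h
    ext i j
    have h1 : conj (M i j) = M i j := by rw [← cj_apply, h]
    simp only [map_apply]
    exact (Complex.conj_eq_iff_re.mp h1).symm
  · intro h
    ext i j
    rw [cj_apply, h]
    simp

end cj

section hilbert

variable {n : ℕ}

theorem natCast_sub_I_ne_zero (k : ℕ) : ((k : ℂ) - Complex.I) ≠ 0 := by
  intro h0
  have := congrArg Complex.im h0
  simp at this

theorem mobius_injective :
    Function.Injective (fun k : ℕ => ((k : ℂ) + Complex.I) / ((k : ℂ) - Complex.I)) := by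
  intro a b h
  simp only at h
  rw [div_eq_div_iff (natCast_sub_I_ne_zero a) (natCast_sub_I_ne_zero b)] at h
  have h1 : ((a : ℂ) - b) * Complex.I = 0 := by linear_combination (-1 / 2 : ℂ) * h
  rcases mul_eq_zero.mp h1 with h2 | h2
  · have h3 : (a : ℂ) = b := by linear_combination h2
    exact_mod_cast h3
  · exact absurd h2 Complex.I_ne_zero

/-- Some combination `μ • 1 + conj μ • A` is invertible. -/
theorem exists_det_combination_ne_zero (A : Matrix (Fin n) (Fin n) ℂ) :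
    ∃ μ : ℂ, (μ • (1 : Matrix (Fin n) (Fin n) ℂ) + conj μ • A).det ≠ 0 := by
  classical
  set p := (-A).charpoly with hpdef
  have hp : p ≠ 0 := (charpoly_monic _).ne_zero
  have hdeg : p.natDegree = n := by
    rw [hpdef, charpoly_natDegree_eq_dim, Fintype.card_fin]
  obtain ⟨k, hk⟩ : ∃ k : Fin (n + 1),
      p.eval ((((k : ℕ) : ℂ) + Complex.I) / (((k : ℕ) : ℂ) - Complex.I)) ≠ 0 := by
    by_contra hcon
    push Not at hcon
    refine hp (Polynomial.eq_zero_of_natDegree_lt_card_of_eval_eq_zero p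
      (f := fun k : Fin (n + 1) => (((k : ℕ) : ℂ) + Complex.I) / (((k : ℕ) : ℂ) - Complex.I))
      ?_ hcon ?_)
    · intro a b hab
      exact Fin.val_injective (mobius_injective hab)
    · rw [hdeg, Fintype.card_fin]
      exact Nat.lt_succ_self n
  refine ⟨((k : ℕ) : ℂ) + Complex.I, ?_⟩
  rw [hpdef, eval_charpoly] at hk
  have hne := natCast_sub_I_ne_zero (k : ℕ)
  have hconj : conj (((k : ℕ) : ℂ) + Complex.I) = ((k : ℕ) : ℂ) - Complex.I := by
    rw [map_add, Complex.conj_I, Complex.conj_natCast, sub_eq_add_neg]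
  have hT : (((k : ℕ) : ℂ) + Complex.I) • (1 : Matrix (Fin n) (Fin n) ℂ) +
      conj (((k : ℕ) : ℂ) + Complex.I) • A =
      (((k : ℕ) : ℂ) - Complex.I) • (Matrix.scalar (Fin n)
        ((((k : ℕ) : ℂ) + Complex.I) / (((k : ℕ) : ℂ) - Complex.I)) - -A) := by
    rw [hconj]
    ext i j
    by_cases hij : i = j
    · subst hij
      simp only [Matrix.add_apply, Matrix.smul_apply, one_apply_eq, smul_eq_mul, mul_one,
        Matrix.sub_apply, scalar_apply, diagonal_apply_eq, Matrix.neg_apply, sub_neg_eq_add]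
      field_simp
    · simp only [Matrix.add_apply, Matrix.smul_apply, one_apply_ne hij, smul_eq_mul, mul_zero,
        zero_add, Matrix.sub_apply, scalar_apply, diagonal_apply_ne _ hij, Matrix.neg_apply,
        sub_neg_eq_add]
  rw [hT, det_smul]
  exact mul_ne_zero (pow_ne_zero _ hne) hk

/-- "Hilbert 90" for matrix families: if `A * cj A = 1` and `R i * A = A * cj (R i)` for all `i`,
the family `R` is simultaneously conjugate to a family of matrices fixed by `cj`. -/
theorem exists_real_conj {ι : Type*} (R : ι → Matrix (Fin n) (Fin n) ℂ)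
    (A : Matrix (Fin n) (Fin n) ℂ) (hA : A * cj A = 1) (hRA : ∀ i, R i * A = A * cj (R i)) :
    ∃ T Tinv : Matrix (Fin n) (Fin n) ℂ, T * Tinv = 1 ∧ Tinv * T = 1 ∧
      ∀ i, cj (Tinv * R i * T) = Tinv * R i * T := by
  obtain ⟨μ, hμ⟩ := exists_det_combination_ne_zero A
  set T := μ • (1 : Matrix (Fin n) (Fin n) ℂ) + conj μ • A with hT
  have hTu : IsUnit T.det := isUnit_iff_ne_zero.mpr hμ
  have hAT : A * cj T = T := by
    rw [hT, cj_add, cj_smul, cj_smul, cj_one, Complex.conj_conj, mul_add, mul_smul_comm, mul_one,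
      mul_smul_comm, hA, add_comm]
  have h1 : cj T * cj T⁻¹ = 1 := by rw [← cj_mul, mul_nonsing_inv T hTu, cj_one]
  refine ⟨T, T⁻¹, mul_nonsing_inv T hTu, nonsing_inv_mul T hTu, fun i => ?_⟩
  have h2 : T * cj (T⁻¹ * R i * T) = R i * T := by
    rw [cj_mul, cj_mul]
    calc T * (cj T⁻¹ * cj (R i) * cj T)
        = (A * cj T) * (cj T⁻¹ * cj (R i) * cj T) := by rw [hAT]
      _ = A * (cj T * cj T⁻¹) * cj (R i) * cj T := by simp only [Matrix.mul_assoc]
      _ = A * cj (R i) * cj T := by rw [h1, Matrix.mul_one]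
      _ = R i * A * cj T := by rw [hRA]
      _ = R i * (A * cj T) := by rw [Matrix.mul_assoc]
      _ = R i * T := by rw [hAT]
  calc cj (T⁻¹ * R i * T) = (T⁻¹ * T) * cj (T⁻¹ * R i * T) := by
        rw [nonsing_inv_mul T hTu, Matrix.one_mul]
    _ = T⁻¹ * (T * cj (T⁻¹ * R i * T)) := by rw [Matrix.mul_assoc]
    _ = T⁻¹ * (R i * T) := by rw [h2]
    _ = T⁻¹ * R i * T := by rw [Matrix.mul_assoc]

end hilbert

section intertwiner

open scoped ComplexOrder

variable {n : ℕ} {G : Type*} [Group G] [Fintype G]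

/-- The sum of `(R g)ᴴ * R g` over the group: an invariant positive definite hermitian form. -/
noncomputable def hermSum (R : G →* Matrix (Fin n) (Fin n) ℂ) : Matrix (Fin n) (Fin n) ℂ :=
  ∑ g : G, (R g)ᴴ * R g

theorem hermSum_posDef (R : G →* Matrix (Fin n) (Fin n) ℂ) : (hermSum R).PosDef := by
  classical
  rw [hermSum, ← Finset.add_sum_erase Finset.univ _ (Finset.mem_univ (1 : G))]
  refine Matrix.PosDef.add_posSemidef ?_ ?_
  · rw [map_one, conjTranspose_one, Matrix.one_mul]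
    exact Matrix.PosDef.one
  · exact posSemidef_sum _ (fun g _ => posSemidef_conjTranspose_mul_self _)

theorem hermSum_invariant (R : G →* Matrix (Fin n) (Fin n) ℂ) (h : G) :
    (R h)ᴴ * hermSum R * R h = hermSum R := by
  rw [hermSum, Finset.mul_sum, Finset.sum_mul]
  refine Fintype.sum_equiv (Equiv.mulRight h) _ _ (fun g => ?_)
  simp only [Equiv.coe_mulRight, map_mul, conjTranspose_mul, Matrix.mul_assoc]

/-- From an invariant invertible symmetric form `S` (and the invariant hermitian form) we get an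
intertwiner `A` between `R` and its conjugate with `A * cj A = 1`. -/
theorem exists_intertwiner (hn : 0 < n) (R : G →* Matrix (Fin n) (Fin n) ℂ)
    (S : Matrix (Fin n) (Fin n) ℂ) (hSsymm : Sᵀ = S) (hSdet : IsUnit S.det)
    (hSinv : ∀ g, (R g)ᵀ * S * R g = S)
    (hschur : ∀ T : Matrix (Fin n) (Fin n) ℂ, (∀ g, R g * T = T * R g) → ∃ c : ℂ, T = c • 1) :
    ∃ A : Matrix (Fin n) (Fin n) ℂ, A * cj A = 1 ∧ ∀ g, R g * A = A * cj (R g) := by
  classical
  obtain ⟨H, hHdef⟩ : ∃ H, H = hermSum R := ⟨_, rfl⟩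
  have hH : H.PosDef := hHdef ▸ hermSum_posDef R
  have hHinv : ∀ g, (R g)ᴴ * H * R g = H := hHdef ▸ hermSum_invariant R
  have hHherm : Hᴴ = H := hH.isHermitian
  obtain ⟨Q, hQdef⟩ : ∃ Q, Q = S⁻¹ := ⟨_, rfl⟩
  have hSQ : S * Q = 1 := hQdef ▸ mul_nonsing_inv S hSdet
  have hQS : Q * S = 1 := hQdef ▸ nonsing_inv_mul S hSdet
  have hQsymm : Qᵀ = Q := by rw [hQdef, transpose_nonsing_inv, hSsymm]
  have hRinv : ∀ g, R g⁻¹ * R g = 1 := fun g => by rw [← map_mul, inv_mul_cancel, map_one]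
  -- the basic intertwining relations
  have ha : ∀ g, (R g⁻¹)ᵀ * S = S * R g := by
    intro g
    calc (R g⁻¹)ᵀ * S = (R g⁻¹)ᵀ * S * (R g⁻¹ * R g) := by rw [hRinv, Matrix.mul_one]
      _ = ((R g⁻¹)ᵀ * S * R g⁻¹) * R g := by simp only [Matrix.mul_assoc]
      _ = S * R g := by rw [hSinv]
  have hb : ∀ g, (R g⁻¹)ᴴ * H = H * R g := by
    intro g
    calc (R g⁻¹)ᴴ * H = (R g⁻¹)ᴴ * H * (R g⁻¹ * R g) := by rw [hRinv, Matrix.mul_one]
      _ = ((R g⁻¹)ᴴ * H * R g⁻¹) * R g := by simp only [Matrix.mul_assoc]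
      _ = H * R g := by rw [hHinv]
  have hb' : ∀ g, (R g⁻¹)ᵀ * cj H = cj H * cj (R g) := by
    intro g
    rw [← cj_conjTranspose, ← cj_mul, hb, cj_mul]
  obtain ⟨A₀, hA₀⟩ : ∃ A₀, A₀ = Q * cj H := ⟨_, rfl⟩
  have key1 : ∀ g, R g * A₀ = A₀ * cj (R g) := by
    intro g
    have h1 : S * (R g * A₀) = S * (A₀ * cj (R g)) := by
      calc S * (R g * A₀) = (S * R g) * Q * cj H := by rw [hA₀]; simp only [Matrix.mul_assoc]
        _ = (R g⁻¹)ᵀ * (S * Q) * cj H := by rw [← ha]; simp only [Matrix.mul_assoc]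
        _ = (R g⁻¹)ᵀ * cj H := by rw [hSQ, Matrix.mul_one]
        _ = cj H * cj (R g) := hb' g
        _ = (S * Q) * cj H * cj (R g) := by rw [hSQ, Matrix.one_mul]
        _ = S * (A₀ * cj (R g)) := by rw [hA₀]; simp only [Matrix.mul_assoc]
    calc R g * A₀ = (Q * S) * (R g * A₀) := by rw [hQS, Matrix.one_mul]
      _ = Q * (S * (R g * A₀)) := by rw [Matrix.mul_assoc]
      _ = Q * (S * (A₀ * cj (R g))) := by rw [h1]
      _ = (Q * S) * (A₀ * cj (R g)) := by rw [Matrix.mul_assoc]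
      _ = A₀ * cj (R g) := by rw [hQS, Matrix.one_mul]
  -- Schur
  have key2 : ∀ g, R g * (A₀ * cj A₀) = (A₀ * cj A₀) * R g := by
    intro g
    calc R g * (A₀ * cj A₀) = (R g * A₀) * cj A₀ := by rw [Matrix.mul_assoc]
      _ = A₀ * (cj (R g) * cj A₀) := by rw [key1, Matrix.mul_assoc]
      _ = A₀ * cj (R g * A₀) := by rw [cj_mul]
      _ = A₀ * cj (A₀ * cj (R g)) := by rw [key1]
      _ = (A₀ * cj A₀) * R g := by rw [cj_mul, cj_cj, Matrix.mul_assoc]
  obtain ⟨c, hc⟩ := hschur _ key2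
  -- positivity of `c`
  obtain ⟨P₁, hP₁⟩ : ∃ P₁, P₁ = Q * cj H * Qᴴ := ⟨_, rfl⟩
  have hcjH : (cj H).PosDef := by
    have : cj H = Hᵀ := by rw [← cj_conjTranspose, hHherm]
    rw [this]
    exact hH.transpose
  have hQunit : IsUnit Q := by
    rw [hQdef, isUnit_nonsing_inv_iff, isUnit_iff_isUnit_det]
    exact hSdet
  have hP₁pos : P₁.PosDef :=
    hP₁ ▸ hcjH.mul_mul_conjTranspose_same (vecMul_injective_iff_isUnit.mpr hQunit)
  have hT : A₀ * cj A₀ = P₁ * H := by
    rw [hA₀, cj_mul, cj_cj, hP₁]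
    have : cj Q = Qᴴ := by
      conv_lhs => rw [← hQsymm]
      exact cj_transpose Q
    rw [this]
    simp only [Matrix.mul_assoc]
  have hpos2 : (Hᴴ * P₁ * H).PosDef :=
    hP₁pos.conjTranspose_mul_mul_same (mulVec_injective_iff_isUnit.mpr hH.isUnit)
  have hcH : Hᴴ * P₁ * H = c • H := by
    rw [hHherm, Matrix.mul_assoc, ← hT, hc, Matrix.mul_smul, Matrix.mul_one]
  rw [hcH] at hpos2
  have h00 : 0 < H ⟨0, hn⟩ ⟨0, hn⟩ := hH.diag_pos
  have hc00 : 0 < c * H ⟨0, hn⟩ ⟨0, hn⟩ := by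
    have := hpos2.diag_pos (i := ⟨0, hn⟩)
    simpa only [Matrix.smul_apply, smul_eq_mul] using this
  obtain ⟨hr1, hr2⟩ := Complex.pos_iff.mp h00
  obtain ⟨hs1, hs2⟩ := Complex.pos_iff.mp hc00
  -- `c` is a positive real
  have hHr : H ⟨0, hn⟩ ⟨0, hn⟩ = ((H ⟨0, hn⟩ ⟨0, hn⟩).re : ℂ) :=
    Complex.ext (by simp) (by simpa using hr2.symm)
  have hcim : c.im = 0 := by
    rw [hHr] at hs2
    simp only [Complex.mul_im, Complex.ofReal_re, Complex.ofReal_im, mul_zero, zero_add] at hs2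
    rcases mul_eq_zero.mp hs2.symm with h | h
    · exact h
    · exact absurd h hr1.ne'
  have hcre : 0 < c.re := by
    rw [hHr] at hs1
    simp only [Complex.mul_re, Complex.ofReal_re, Complex.ofReal_im, mul_zero, sub_zero] at hs1
    exact (mul_pos_iff_of_pos_right hr1).mp hs1
  obtain ⟨r, hr0, hrc⟩ : ∃ r : ℝ, 0 < r ∧ (r : ℂ) * r = c := by
    refine ⟨Real.sqrt c.re, Real.sqrt_pos.mpr hcre, ?_⟩
    rw [← Complex.ofReal_mul, Real.mul_self_sqrt hcre.le]
    exact Complex.ext (by simp) (by simp [hcim])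
  have hrne : (r : ℂ) ≠ 0 := by exact_mod_cast hr0.ne'
  have hconj : conj ((r : ℂ)⁻¹) = (r : ℂ)⁻¹ := by rw [map_inv₀, Complex.conj_ofReal]
  refine ⟨(r : ℂ)⁻¹ • A₀, ?_, fun g => ?_⟩
  · rw [cj_smul, Matrix.smul_mul, Matrix.mul_smul, smul_smul, hc, smul_smul, hconj, ← hrc]
    have h1 : (r : ℂ)⁻¹ * (r : ℂ)⁻¹ * ((r : ℂ) * r) = 1 := by field_simp
    rw [h1, one_smul]
  · rw [Matrix.mul_smul, key1, Matrix.smul_mul]

end intertwiner

end Cfsg.Agent.Lib.H24
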