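import Cfsg.Agent.Lib.H24.RealForm
import Cfsg.Agent.Lib.H24.CharFSInd
import Cfsg.Agent.Lib.L0.CharEquiv

/-!
# Frobenius–Schur indicator one and real representations (helper24's library)

* `exists_real_rep_of_fsInd_eq_one` : an irreducible character with indicator `1` is afforded by a
  real representation.
* `fsInd_eq_one_of_real_rep` : conversely.
-/

set_option autoImplicit false

namespace Cfsg.Agent.Lib.H24

open scoped ComplexConjugate Matrix
open Matrix Cfsg Cfsg.Agent.Lib.L0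

variable {G : Type*} [Group G] [Fintype G]

/-- The matrix form of a representation on a coordinate space. -/
noncomputable def matHom {n : ℕ} (ρ : Representation ℂ G (Fin n → ℂ)) :
    G →* Matrix (Fin n) (Fin n) ℂ where
  toFun g := LinearMap.toMatrix' (ρ g)
  map_one' := by rw [map_one]; exact LinearMap.toMatrix'_one
  map_mul' g h := by rw [map_mul]; exact LinearMap.toMatrix'_mul _ _

theorem matHom_apply {n : ℕ} (ρ : Representation ℂ G (Fin n → ℂ)) (g : G) :
    matHom ρ g = LinearMap.toMatrix' (ρ g) := rfl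

theorem toLin'_matHom {n : ℕ} (ρ : Representation ℂ G (Fin n → ℂ)) (g : G) :
    toLin' (matHom ρ g) = ρ g := by
  rw [matHom_apply, Matrix.toLin'_toMatrix']

theorem trace_matHom {n : ℕ} (ρ : Representation ℂ G (Fin n → ℂ)) (g : G) :
    (matHom ρ g).trace = ρ.character g := by
  rw [← Matrix.trace_toLin'_eq, toLin'_matHom]
  rfl

theorem exists_real_rep_of_fsInd_eq_one (χ : IrrCharacter G) (hν : fsInd (χ : G → ℂ) = 1) :
    ∃ (n : ℕ) (σ : Representation ℝ G (Fin n → ℝ)), ∀ g : G,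
      ((LinearMap.trace ℝ (Fin n → ℝ) (σ g) : ℝ) : ℂ) = (χ : G → ℂ) g := by
  classical
  obtain ⟨n, ρ, hρ, hχ⟩ := irr_exists_rep χ
  have hn : 0 < n := irreducible_dim_pos ρ hρ
  have hreal : ∀ s, (ρ.character s).im = 0 := by
    intro s
    rw [hχ]
    exact real_of_fsInd_ne_zero χ (by rw [hν]; exact one_ne_zero) s
  obtain ⟨B, hBne, hBinv, hBflip⟩ := exists_invForm_of_real ρ hρ hreal
  rw [hχ, hν, one_smul] at hBflip
  obtain ⟨R, hR⟩ : ∃ R, R = matHom ρ := ⟨_, rfl⟩
  obtain ⟨S, hS⟩ : ∃ S, S = LinearMap.toMatrix₂' ℂ B := ⟨_, rfl⟩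
  have hSsymm : Sᵀ = S := by
    ext i j
    rw [transpose_apply, hS, LinearMap.toMatrix₂'_apply, LinearMap.toMatrix₂'_apply]
    have h1 := congrArg (fun F : (Fin n → ℂ) →ₗ[ℂ] (Fin n → ℂ) →ₗ[ℂ] ℂ =>
      F (Pi.single i 1) (Pi.single j 1)) hBflip
    simpa only [LinearMap.flip_apply] using h1
  have hSdet : IsUnit S.det := by
    rw [isUnit_iff_ne_zero, ← Matrix.separatingLeft_iff_det_ne_zero, hS,
      LinearMap.separatingLeft_toMatrix₂'_iff, LinearMap.separatingLeft_iff_ker_eq_bot]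
    exact hBinv.ker_eq_bot hρ hBne
  have hSinv : ∀ g, (R g)ᵀ * S * R g = S := by
    intro g
    have h1 : B.compl₁₂ (ρ g) (ρ g) = B := by
      refine LinearMap.ext (fun v => LinearMap.ext (fun w => ?_))
      rw [LinearMap.compl₁₂_apply]
      exact hBinv g v w
    rw [hS, hR, matHom_apply, ← LinearMap.toMatrix₂'_compl₁₂, h1]
  have hschur : ∀ T : Matrix (Fin n) (Fin n) ℂ, (∀ g, R g * T = T * R g) →
      ∃ c : ℂ, T = c • 1 := by
    intro T hT
    have h1 : ∀ g, (toLin' T) ∘ₗ ρ g = ρ g ∘ₗ (toLin' T) := by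
      intro g
      rw [← toLin'_matHom ρ g, ← hR, ← Matrix.toLin'_mul, ← Matrix.toLin'_mul, hT]
    have h2 := schur_scalar ρ hρ (toLin' T) h1
    have h3 := congrArg LinearMap.toMatrix' h2
    rw [LinearMap.toMatrix'_toLin', map_smul, LinearMap.toMatrix'_id] at h3
    exact ⟨_, h3⟩
  obtain ⟨A, hA1, hA2⟩ := exists_intertwiner hn R S hSsymm hSdet hSinv hschur
  obtain ⟨T, Tinv, hT1, hT2, hT3⟩ := exists_real_conj (fun g => R g) A hA1 hA2
  -- the real matrices
  obtain ⟨X, hX⟩ : ∃ X : G → Matrix (Fin n) (Fin n) ℝ,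
      X = fun g => (Tinv * R g * T).map Complex.re := ⟨_, rfl⟩
  have hXc : ∀ g, (X g).map Complex.ofRealHom = Tinv * R g * T := by
    intro g
    rw [hX]
    exact ((cj_eq_self_iff _).mp (hT3 g)).symm
  have hinj : Function.Injective
      (fun M : Matrix (Fin n) (Fin n) ℝ => M.map Complex.ofRealHom) :=
    Matrix.map_injective Complex.ofReal_injective
  have hX1 : X 1 = 1 := by
    apply hinj
    show (X 1).map Complex.ofRealHom = (1 : Matrix (Fin n) (Fin n) ℝ).map Complex.ofRealHom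
    rw [hXc, map_one, Matrix.mul_one, hT2, Matrix.map_one _ (map_zero _) (map_one _)]
  have hXmul : ∀ g h, X (g * h) = X g * X h := by
    intro g h
    apply hinj
    show (X (g * h)).map Complex.ofRealHom = (X g * X h).map Complex.ofRealHom
    rw [Matrix.map_mul, hXc, hXc, hXc, map_mul]
    calc Tinv * (R g * R h) * T = Tinv * R g * 1 * R h * T := by
          simp only [Matrix.mul_one, Matrix.mul_assoc]
      _ = Tinv * R g * (T * Tinv) * R h * T := by rw [hT1]
      _ = Tinv * R g * T * (Tinv * R h * T) := by simp only [Matrix.mul_assoc]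
  let σ : Representation ℝ G (Fin n → ℝ) :=
    { toFun := fun g => toLin' (X g)
      map_one' := by rw [hX1, toLin'_one]; rfl
      map_mul' := fun g h => by rw [hXmul, toLin'_mul]; rfl }
  refine ⟨n, σ, fun g => ?_⟩
  show ((LinearMap.trace ℝ (Fin n → ℝ) (toLin' (X g)) : ℝ) : ℂ) = _
  rw [Matrix.trace_toLin'_eq]
  have h1 : (((X g).trace : ℝ) : ℂ) = ((X g).map Complex.ofRealHom).trace := by
    simp only [Matrix.trace, Matrix.diag_apply, Matrix.map_apply, Complex.ofRealHom_eq_coe,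
      Complex.ofReal_sum]
  rw [h1, hXc, Matrix.trace_mul_comm, ← Matrix.mul_assoc, hT1, Matrix.one_mul, hR, trace_matHom,
    hχ]

theorem fsInd_eq_one_of_real_rep (χ : IrrCharacter G) {n : ℕ}
    (σ : Representation ℝ G (Fin n → ℝ))
    (h : ∀ g : G, ((LinearMap.trace ℝ (Fin n → ℝ) (σ g) : ℝ) : ℂ) = (χ : G → ℂ) g) :
    fsInd (χ : G → ℂ) = 1 := by
  classical
  obtain ⟨X, hX⟩ : ∃ X : G → Matrix (Fin n) (Fin n) ℝ,
      X = fun g => LinearMap.toMatrix' (σ g) := ⟨_, rfl⟩
  have hX1 : X 1 = 1 := by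
    rw [hX]
    show LinearMap.toMatrix' (σ 1) = 1
    rw [map_one]
    exact LinearMap.toMatrix'_one
  have hXmul : ∀ g h, X (g * h) = X g * X h := by
    intro g h
    rw [hX]
    show LinearMap.toMatrix' (σ (g * h)) = _
    rw [map_mul]
    exact LinearMap.toMatrix'_mul _ _
  have hXtr : ∀ g, (X g).trace = LinearMap.trace ℝ (Fin n → ℝ) (σ g) := by
    intro g
    rw [hX, ← Matrix.trace_toLin'_eq, Matrix.toLin'_toMatrix']
  -- the complexification
  let ρ : Representation ℂ G (Fin n → ℂ) :=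
    { toFun := fun g => toLin' ((X g).map Complex.ofRealHom)
      map_one' := by
        rw [hX1, Matrix.map_one _ (map_zero _) (map_one _), toLin'_one]; rfl
      map_mul' := fun g h => by
        rw [hXmul, Matrix.map_mul, toLin'_mul]; rfl }
  have hρ_apply : ∀ g, ρ g = toLin' ((X g).map Complex.ofRealHom) := fun g => rfl
  have hchar : ρ.character = (χ : G → ℂ) := by
    funext g
    rw [← h g, ← hXtr]
    show LinearMap.trace ℂ (Fin n → ℂ) (ρ g) = _
    rw [hρ_apply, Matrix.trace_toLin'_eq]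
    simp only [Matrix.trace, Matrix.diag_apply, Matrix.map_apply, Complex.ofRealHom_eq_coe,
      Complex.ofReal_sum]
  obtain ⟨m, ρ', hρ', hχ'⟩ := irr_exists_rep χ
  obtain ⟨e⟩ := equiv_of_char_eq ρ' ρ (hχ'.trans hchar.symm)
  have hρ : ρ.IsIrreducible := Cfsg.Agent.Lib.H24.isIrreducible_of_equiv e hρ'
  have hn : 0 < n := irreducible_dim_pos ρ hρ
  have hreal : ∀ s, (ρ.character s).im = 0 := by
    intro s
    rw [hchar, ← h s]
    exact Complex.ofReal_im _
  obtain ⟨B, hBne, hBinv, hBflip⟩ := exists_invForm_of_real ρ hρ hreal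
  rw [hchar] at hBflip
  -- the symmetric invariant form
  obtain ⟨Mf, hMf⟩ : ∃ Mf, Mf = avgForm ρ (dotProductBilin ℂ ℂ) := ⟨_, rfl⟩
  have hMinv : IsInvForm ρ Mf := hMf ▸ isInvForm_avgForm ρ _
  obtain ⟨e0, he0⟩ : ∃ e0 : Fin n → ℂ, e0 = Pi.single ⟨0, hn⟩ 1 := ⟨_, rfl⟩
  have hG : (Nat.card G : ℂ) ≠ 0 := by exact_mod_cast (Nat.card_pos (α := G)).ne'
  have hMne : Mf e0 e0 ≠ 0 := by
    rw [hMf, avgForm_apply]
    have hterm : ∀ g, dotProductBilin ℂ ℂ (ρ g e0) (ρ g e0) =
        ((∑ k, (X g k ⟨0, hn⟩) ^ 2 : ℝ) : ℂ) := by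
      intro g
      rw [dotProductBilin_apply_apply, hρ_apply, toLin'_apply, he0, mulVec_single_one]
      simp [dotProduct, pow_two]
    simp only [hterm]
    rw [← Complex.ofReal_sum]
    have hpos : 0 < ∑ g, ∑ k, (X g k ⟨0, hn⟩) ^ 2 := by
      refine Finset.sum_pos' (fun g _ => Finset.sum_nonneg (fun k _ => sq_nonneg _))
        ⟨1, Finset.mem_univ _, ?_⟩
      rw [hX1]
      refine Finset.sum_pos' (fun k _ => sq_nonneg _) ⟨⟨0, hn⟩, Finset.mem_univ _, ?_⟩
      simp
    exact mul_ne_zero (inv_ne_zero hG) (by exact_mod_cast hpos.ne')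
  obtain ⟨c, hc⟩ := hBinv.eq_smul hρ hMinv hBne
  have hflip : ∀ v w, B w v = fsInd (χ : G → ℂ) * B v w := by
    intro v w
    have h3 := congrArg (fun F : (Fin n → ℂ) →ₗ[ℂ] (Fin n → ℂ) →ₗ[ℂ] ℂ => F v w) hBflip
    simpa only [LinearMap.flip_apply, LinearMap.smul_apply, smul_eq_mul] using h3
  have h1 : Mf e0 e0 = c * B e0 e0 := by
    rw [hc]
    simp only [LinearMap.smul_apply, smul_eq_mul]
  have h2 : B e0 e0 = fsInd (χ : G → ℂ) * B e0 e0 := hflip e0 e0
  have hB00 : B e0 e0 ≠ 0 := by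
    intro h0
    apply hMne
    rw [h1, h0, mul_zero]
  have h3 : (1 - fsInd (χ : G → ℂ)) * B e0 e0 = 0 := by linear_combination h2
  rcases mul_eq_zero.mp h3 with h4 | h4
  · linear_combination -h4
  · exact absurd h4 hB00

end Cfsg.Agent.Lib.H24
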