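import Mathlib
import Cfsg.Agent.Lib.L0.TildeGen
import Cfsg.Agent.Lib.H23.BlockHeightZero
import Cfsg.Agent.Lib.H23.BlockOsima
import Cfsg.Agent.Lib.H24.CharFS
import Cfsg.Agent.Lib.H24.CharFSInd

/-!
# Sums of irreducible characters over the `p`-regular elements (helper24)

`sReg p χ = ∑_{x p-regular} χ(x)`:
* `sReg_int`: it is a rational integer;
* `sReg_eq_zero_of_not_mem`: it vanishes outside the principal block;
* `sReg_ne_zero_of_mem`: it does not vanish in the principal block;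
* `sum_fsInd_mul_sReg`: for `p` odd, `∑_χ ν(χ) s(χ) = s(1)`.
-/

set_option autoImplicit false

namespace Cfsg.Agent.Lib.H24.RegSum

open Cfsg Cfsg.Agent.Lib.H24 Cfsg.Agent.Lib.L0 Cfsg.Agent.Lib.H23 Cfsg.Agent.Lib.L0.Tilde
open scoped ComplexConjugate

variable {G : Type*} [Group G] [Fintype G]

/-- The sum of `χ` over the `p`-regular elements. -/
noncomputable def sReg (p : ℕ) (χ : G → ℂ) : ℂ :=
  ∑ x : G, (if p ∣ orderOf x then 0 else χ x)

theorem sReg_comp_ringEquiv (p : ℕ) (χ : G → ℂ) (σ : ℂ ≃+* ℂ) :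
    sReg p ((σ : ℂ → ℂ) ∘ χ) = σ (sReg p χ) := by
  unfold sReg
  rw [map_sum]
  refine Finset.sum_congr rfl fun x _ => ?_
  split_ifs
  · rw [map_zero]
  · rfl

theorem sReg_int {p : ℕ} (hp : p.Prime) (χ : IrrCharacter G) :
    ∃ n : ℤ, sReg p (χ : G → ℂ) = n := by
  classical
  obtain ⟨n, hn⟩ := AA_int hp (isCharacter_of_irr (trivialIrr G).2) χ
  rw [AA_eq] at hn
  obtain ⟨m, hm⟩ : ∃ m : ℕ, Nat.card G = p ^ (Nat.card G).factorization p * m :=
    ⟨_, (Nat.ordProj_mul_ordCompl_eq_self (Nat.card G) p).symm⟩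
  have hG : (Nat.card G : ℂ) ≠ 0 := by exact_mod_cast (Nat.card_pos (α := G)).ne'
  have hpa : ((p ^ (Nat.card G).factorization p : ℕ) : ℂ) ≠ 0 := by
    exact_mod_cast (pow_pos hp.pos _).ne'
  have hsum : ∑ x : G, (if p ∣ orderOf x then 0
      else (trivialIrr G : G → ℂ) x * conj ((χ : G → ℂ) x)) = conj (sReg p (χ : G → ℂ)) := by
    unfold sReg
    rw [map_sum]
    refine Finset.sum_congr rfl fun x _ => ?_
    split_ifs
    · rw [map_zero]
    · rw [trivialIrr_apply, one_mul]
  rw [hsum] at hn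
  have h1 : conj (sReg p (χ : G → ℂ)) = ((n * m : ℤ) : ℂ) := by
    have h2 : (Nat.card G : ℂ) = ((p ^ (Nat.card G).factorization p : ℕ) : ℂ) * (m : ℂ) := by
      exact_mod_cast hm
    have hm0 : (m : ℂ) ≠ 0 := by
      intro h0
      rw [h0, mul_zero] at h2
      exact hG h2
    rw [h2] at hn
    push_cast
    rw [← hn]
    field_simp
  refine ⟨n * m, ?_⟩
  have h3 := congrArg conj h1
  rw [Complex.conj_conj, map_intCast] at h3
  exact h3

variable {p : ℕ} {M : Ideal AlgInt}

theorem sReg_eq_zero_of_not_mem (hM : IsPModular p M) (χ : IrrCharacter G)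
    (h : χ ∉ principalBlock M G) : sReg p (χ : G → ℂ) = 0 := by
  have hP := isPrime_of_isPModular hM
  have h1 : ¬ SameBlock M (χ : G → ℂ) (trivialIrr G : G → ℂ) := by
    intro h2
    exact h (sameBlock_symm h2)
  have h3 := sum_pRegular_mul_conj_eq_zero hM χ (trivialIrr G) h1
  have h4 : sReg p (χ : G → ℂ) = ∑ x : G, (if p ∣ orderOf x then 0
      else (χ : G → ℂ) x * conj ((trivialIrr G : G → ℂ) x)) := by
    unfold sReg
    refine Finset.sum_congr rfl fun x _ => ?_
    split_ifs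
    · rfl
    · rw [trivialIrr_apply, map_one, mul_one]
  rw [h4]
  exact h3

theorem omega_regElt_trivial (χ : IrrCharacter G) :
    omega (χ : G → ℂ) (regElt p (trivialIrr G : G → ℂ))
      = sReg p (χ : G → ℂ) / (χ : G → ℂ) 1 := by
  unfold omega
  congr 1
  rw [regElt, charEval_ofFun]
  unfold sReg
  refine Finset.sum_congr rfl fun x _ => ?_
  split_ifs
  · rw [zero_mul]
  · rw [trivialIrr_apply, map_one, one_mul]

theorem sReg_ne_zero_of_mem [Fact p.Prime] (hM : IsPModular p M) (χ : IrrCharacter G)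
    (h : χ ∈ principalBlock M G) : sReg p (χ : G → ℂ) ≠ 0 := by
  classical
  have hP := isPrime_of_isPModular hM
  intro h0
  have hsame : SameBlock M (trivialIrr G : G → ℂ) (χ : G → ℂ) := h
  have hz : regElt p (trivialIrr G : G → ℂ) ∈ Subalgebra.center ℂ (MonoidAlgebra ℂ G) :=
    regElt_mem_center p (irr_isClassFunction (trivialIrr G))
  have hz' : regElt p (trivialIrr G : G → ℂ) ∈ intCoeff (G := G) M :=
    regElt_mem_intCoeff p (trivialIrr G)
  have h1 := omega_sub_memLocalIdeal hsame hz hz'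
  rw [omega_regElt_trivial χ, h0, zero_div, sub_zero] at h1
  refine omega_regElt_not_memLocalIdeal hM (trivialIrr G) ?_ h1
  unfold blockHeight
  have hd : charDegree (trivialIrr G : G → ℂ) = 1 := by
    apply charDegree_eq_of_apply_one
    rw [trivialIrr_apply]; simp
  rw [hd]
  simp

end Cfsg.Agent.Lib.H24.RegSum
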