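import Mathlib
import Cfsg.Agent.Lib.H24.RegSumA

/-!
# Real characters in the principal block for odd `p` (helper24)

* `sum_fsInd_mul_sReg`: for `p` odd, `∑_χ ν(χ) s(χ) = s(1)`;
* `exists_second_real`: a nontrivial real character in `B₀` forces a second one which is not
  Galois conjugate to it (S4860).
-/

set_option autoImplicit false

namespace Cfsg.Agent.Lib.H24.RegSum

open Cfsg Cfsg.Agent.Lib.H24 Cfsg.Agent.Lib.L0 Cfsg.Agent.Lib.H23 Cfsg.Agent.Lib.L0.Tilde
open scoped ComplexConjugate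

variable {G : Type*} [Group G] [Fintype G]

theorem dvd_orderOf_sq_iff {p : ℕ} (hp : p.Prime) (hp2 : p ≠ 2) (s : G) :
    p ∣ orderOf (s * s) ↔ p ∣ orderOf s := by
  rw [← pow_two]
  constructor
  · intro h
    exact h.trans (orderOf_pow_dvd 2)
  · intro h
    have h1 : orderOf (s ^ 2) = orderOf s / Nat.gcd (orderOf s) 2 := orderOf_pow' s two_ne_zero
    have h2 : orderOf (s ^ 2) * Nat.gcd (orderOf s) 2 = orderOf s := by
      rw [h1]
      exact Nat.div_mul_cancel (Nat.gcd_dvd_left _ _)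
    rw [← h2] at h
    rcases (Nat.Prime.dvd_mul hp).1 h with h3 | h3
    · exact h3
    · exfalso
      have h4 : p ∣ 2 := h3.trans (Nat.gcd_dvd_right _ _)
      exact hp2 ((Nat.prime_dvd_prime_iff_eq hp Nat.prime_two).1 h4)

theorem sum_fsInd_mul_sReg [Fintype (IrrCharacter G)] {p : ℕ} (hp : p.Prime) (hp2 : p ≠ 2) :
    ∑ χ : IrrCharacter G, fsInd (χ : G → ℂ) * sReg p (χ : G → ℂ)
      = sReg p (trivialIrr G : G → ℂ) := by
  classical
  unfold sReg
  simp only [Finset.mul_sum]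
  rw [Finset.sum_comm]
  have h1 : ∀ x : G, ∑ χ : IrrCharacter G,
      fsInd (χ : G → ℂ) * (if p ∣ orderOf x then 0 else (χ : G → ℂ) x)
      = sqrtCount x * (if p ∣ orderOf x then 0 else 1) := by
    intro x
    split_ifs
    · simp
    · rw [mul_one, sqrtCount, card_sqrt_eq_sum]
  rw [Finset.sum_congr rfl fun x _ => h1 x, sum_sqrtCount_mul]
  refine Finset.sum_congr rfl fun s _ => ?_
  rw [trivialIrr_apply]
  by_cases h : p ∣ orderOf s
  · rw [if_pos h, if_pos ((dvd_orderOf_sq_iff hp hp2 s).2 h)]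
  · rw [if_neg h, if_neg (fun h' => h ((dvd_orderOf_sq_iff hp hp2 s).1 h'))]

theorem fsInd_comp_ringEquiv (χ : G → ℂ) (σ : ℂ ≃+* ℂ) :
    fsInd ((σ : ℂ → ℂ) ∘ χ) = σ (fsInd χ) := by
  unfold fsInd
  rw [map_mul, map_inv₀, map_natCast, map_sum]
  rfl

variable {p : ℕ} {M : Ideal AlgInt}

/-- For `p` odd: a nontrivial real-valued character in the principal block forces a second one
which is not Galois conjugate to it. -/
theorem exists_second_real [Fact p.Prime] (hp2 : p ≠ 2) (hM : IsPModular p M)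
    (α : IrrCharacter G) (hα : α ∈ principalBlock M G)
    (hα1 : ¬ ((α : G → ℂ) = fun _ => (1 : ℂ)))
    (hαr : ∀ g : G, ((α : G → ℂ) g).im = 0) :
    ∃ β : IrrCharacter G, β ∈ principalBlock M G ∧ ¬ ((β : G → ℂ) = fun _ => (1 : ℂ)) ∧
      (∀ g : G, ((β : G → ℂ) g).im = 0) ∧ β ≠ α ∧
      ∀ σ : ℂ ≃+* ℂ, (β : G → ℂ) ≠ (σ : ℂ → ℂ) ∘ (α : G → ℂ) := by
  classical
  have := Fintype.ofFinite (IrrCharacter G)
  have hp : p.Prime := Fact.out
  by_contra hcon
  push Not at hcon
  -- data of `α`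
  have hνα : fsInd (α : G → ℂ) = 1 ∨ fsInd (α : G → ℂ) = -1 := by
    rcases fsInd_irr_cases α with ⟨_, s, hs⟩ | ⟨h1, _⟩
    · exact absurd (hαr s) hs
    · exact h1
  have hsα : sReg p (α : G → ℂ) ≠ 0 := sReg_ne_zero_of_mem hM α hα
  obtain ⟨n, hn⟩ := sReg_int hp α
  have hαtriv : α ≠ trivialIrr G := by
    intro h
    apply hα1
    rw [h]
    rfl
  -- the key pointwise identity
  have hkey : ∀ β : IrrCharacter G, β ≠ trivialIrr G →
      fsInd (β : G → ℂ) * sReg p (β : G → ℂ)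
        = if (β ∈ principalBlock M G ∧ ∀ g : G, ((β : G → ℂ) g).im = 0)
          then fsInd (α : G → ℂ) * sReg p (α : G → ℂ) else 0 := by
    intro β hβ
    split_ifs with hP
    · obtain ⟨hβB, hβr⟩ := hP
      by_cases hβα : β = α
      · rw [hβα]
      · have hβ1 : ¬ ((β : G → ℂ) = fun _ => (1 : ℂ)) := by
          intro h
          apply hβ
          exact Subtype.ext h
        obtain ⟨σ, hσ⟩ := hcon β hβB hβ1 hβr hβα
        rw [hσ, fsInd_comp_ringEquiv, sReg_comp_ringEquiv, hn, map_intCast]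
        rcases hνα with h1 | h1
        · rw [h1, map_one]
        · rw [h1, map_neg, map_one]
    · rw [not_and_or] at hP
      rcases hP with hP | hP
      · rw [sReg_eq_zero_of_not_mem hM β hP, mul_zero]
      · push Not at hP
        obtain ⟨g, hg⟩ := hP
        rw [fsInd_eq_zero_of_not_real β ⟨g, hg⟩, zero_mul]
  have htot := sum_fsInd_mul_sReg (G := G) hp hp2
  rw [← Finset.add_sum_erase Finset.univ _ (Finset.mem_univ (trivialIrr G)), fsInd_trivialIrr,
    one_mul, add_eq_left] at htot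
  rw [Finset.sum_congr rfl (fun β hβ => hkey β (Finset.ne_of_mem_erase hβ)), Finset.sum_ite,
    Finset.sum_const_zero, add_zero, Finset.sum_const, nsmul_eq_mul] at htot
  have hcard : (Finset.filter (fun β : IrrCharacter G =>
      β ∈ principalBlock M G ∧ ∀ g : G, ((β : G → ℂ) g).im = 0)
      (Finset.univ.erase (trivialIrr G))).card ≠ 0 := by
    apply Finset.card_ne_zero_of_mem (a := α)
    rw [Finset.mem_filter, Finset.mem_erase]
    exact ⟨⟨hαtriv, Finset.mem_univ _⟩, hα, hαr⟩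
  have hνα0 : fsInd (α : G → ℂ) ≠ 0 := by
    rcases hνα with h1 | h1 <;> rw [h1] <;> norm_num
  rcases mul_eq_zero.1 htot with h1 | h1
  · exact hcard (by exact_mod_cast h1)
  · rcases mul_eq_zero.1 h1 with h2 | h2
    · exact hνα0 h2
    · exact hsα h2

end Cfsg.Agent.Lib.H24.RegSum
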