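import Cfsg.Agent.Lib.H24.RelGlaubA
import Cfsg.Agent.Lib.H24.InvOverD
import Cfsg.Agent.Lib.H23.WeightCoreA

/-!
# The quotient `N_Γ(Q) / Q` and images of subgroups (helper24)

For `Q ≤ Γ`: `Quo Q = N_Γ(Q) / Q`, `img Q X` the image of `X ∩ N_Γ(Q)`, `imgHom : X →* img Q X` for
`X ≤ N_Γ(Q)`, with kernel `X ∩ Q`; transport of characters along `imgHom`.
-/

set_option autoImplicit false

universe u

namespace Cfsg.Agent.Lib.H24.RelGlaub

open Cfsg Cfsg.Agent.Lib.L0 Cfsg.Agent.Lib.H23 Cfsg.Agent.Lib.H8 Cfsg.Agent.Lib.H24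
open Cfsg.Agent.Lib.H24.Glaub
open scoped ComplexConjugate

variable {Γ : Type u} [Group Γ]

section quo

variable (Q : Subgroup Γ)

/-- The normaliser of `Q`. -/
abbrev NQ : Subgroup Γ := Subgroup.normalizer (Q : Set Γ)

/-- The quotient `N_Γ(Q) / Q`. -/
abbrev Quo : Type u := (NQ Q) ⧸ (Q.subgroupOf (NQ Q))

/-- The quotient map. -/
def quoMk : NQ Q →* Quo Q := QuotientGroup.mk' _

theorem quoMk_surjective : Function.Surjective (quoMk Q) := QuotientGroup.mk'_surjective _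

theorem quoMk_eq_one_iff (x : NQ Q) : quoMk Q x = 1 ↔ (x : Γ) ∈ Q := by
  unfold quoMk
  rw [QuotientGroup.mk'_apply, QuotientGroup.eq_one_iff, Subgroup.mem_subgroupOf]

/-- The image of `X ∩ N_Γ(Q)` in the quotient. -/
def img (X : Subgroup Γ) : Subgroup (Quo Q) := (X.subgroupOf (NQ Q)).map (quoMk Q)

theorem mem_img {X : Subgroup Γ} {y : Quo Q} :
    y ∈ img Q X ↔ ∃ x : NQ Q, (x : Γ) ∈ X ∧ quoMk Q x = y := by
  unfold img
  rw [Subgroup.mem_map]
  rfl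

theorem img_mono {X Y : Subgroup Γ} (h : X ≤ Y) : img Q X ≤ img Q Y := by
  intro y hy
  rw [mem_img] at hy ⊢
  obtain ⟨x, hx, rfl⟩ := hy
  exact ⟨x, h hx, rfl⟩

variable {Q}

/-- The quotient map restricted to `X ≤ N_Γ(Q)`. -/
def imgHom {X : Subgroup Γ} (hX : X ≤ NQ Q) : X →* img Q X :=
  MonoidHom.codRestrict ((quoMk Q).comp (Subgroup.inclusion hX)) (img Q X)
    (fun x => (mem_img Q).mpr ⟨Subgroup.inclusion hX x, x.2, rfl⟩)

theorem coe_imgHom {X : Subgroup Γ} (hX : X ≤ NQ Q) (x : X) :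
    ((imgHom hX x : img Q X) : Quo Q) = quoMk Q ⟨x, hX x.2⟩ := rfl

theorem imgHom_surjective {X : Subgroup Γ} (hX : X ≤ NQ Q) : Function.Surjective (imgHom hX) := by
  rintro ⟨y, hy⟩
  obtain ⟨x, hx, rfl⟩ := (mem_img Q).mp hy
  exact ⟨⟨x, hx⟩, Subtype.ext rfl⟩

theorem imgHom_eq_one_iff {X : Subgroup Γ} (hX : X ≤ NQ Q) (x : X) :
    imgHom hX x = 1 ↔ (x : Γ) ∈ Q := by
  rw [← quoMk_eq_one_iff Q ⟨x, hX x.2⟩, ← coe_imgHom hX x]
  constructor
  · intro h
    rw [h]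
    rfl
  · intro h
    exact Subtype.ext h

theorem imgHom_eq_iff {X : Subgroup Γ} (hX : X ≤ NQ Q) (x y : X) :
    imgHom hX x = imgHom hX y ↔ (x : Γ)⁻¹ * y ∈ Q := by
  have h1 : imgHom hX x = imgHom hX y ↔ imgHom hX (x⁻¹ * y) = 1 := by
    rw [map_mul, map_inv, inv_mul_eq_one]
  rw [h1, imgHom_eq_one_iff]
  rfl

theorem imgHom_ker {X : Subgroup Γ} (hX : X ≤ NQ Q) : (imgHom hX).ker = Q.subgroupOf X := by
  ext x
  rw [MonoidHom.mem_ker, imgHom_eq_one_iff, Subgroup.mem_subgroupOf]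

theorem card_img [Finite Γ] {X : Subgroup Γ} (hX : X ≤ NQ Q) :
    Nat.card (img Q X) = Q.relIndex X := by
  have h1 := Subgroup.index_ker (imgHom hX)
  rw [imgHom_ker] at h1
  have h2 : (imgHom hX).range = ⊤ := MonoidHom.range_eq_top.mpr (imgHom_surjective hX)
  rw [h2] at h1
  unfold Subgroup.relIndex
  rw [h1]
  exact (Nat.card_congr Subgroup.topEquiv.toEquiv).symm

theorem isPGroup_img {p : ℕ} {P : Subgroup Γ} (hP : IsPGroup p P) (hPX : P ≤ NQ Q) :
    IsPGroup p (img Q P) :=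
  hP.of_surjective (imgHom hPX) (imgHom_surjective hPX)

/-- Conjugation is compatible with the quotient map. -/
theorem quoMk_conj (x g : NQ Q) :
    quoMk Q x * quoMk Q g * (quoMk Q x)⁻¹ = quoMk Q (x * g * x⁻¹) := by
  rw [map_mul, map_mul, map_inv]

theorem img_norm {X P : Subgroup Γ}
    (hPX : ∀ x ∈ P, ∀ g ∈ X, x * g * x⁻¹ ∈ X) :
    ∀ s ∈ img Q P, ∀ g ∈ img Q X, s * g * s⁻¹ ∈ img Q X := by
  intro s hs g hg
  obtain ⟨x, hx, rfl⟩ := (mem_img Q).mp hs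
  obtain ⟨y, hy, rfl⟩ := (mem_img Q).mp hg
  rw [quoMk_conj]
  exact (mem_img Q).mpr ⟨x * y * x⁻¹, hPX x hx y hy, rfl⟩

end quo

section pull

variable {Q : Subgroup Γ}

/-- Pull back a function along `imgHom`. -/
def pull {X : Subgroup Γ} (hX : X ≤ NQ Q) (β' : img Q X → ℂ) : X → ℂ := β' ∘ imgHom hX

theorem pull_apply {X : Subgroup Γ} (hX : X ≤ NQ Q) (β' : img Q X → ℂ) (x : X) :
    pull hX β' x = β' (imgHom hX x) := rfl

theorem isIrrCharacter_pull {X : Subgroup Γ} (hX : X ≤ NQ Q) {β' : img Q X → ℂ}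
    (h : IsIrrCharacter (img Q X) β') : IsIrrCharacter X (pull hX β') :=
  isIrrCharacter_comp_of_surjective (imgHom hX) (imgHom_surjective hX) h

theorem isCharacter_pull {X : Subgroup Γ} (hX : X ≤ NQ Q) {β' : img Q X → ℂ}
    (h : IsCharacter (img Q X) β') : IsCharacter X (pull hX β') :=
  isCharacter_comp (imgHom hX) h

theorem classInner_pull {X : Subgroup Γ} [Fintype X] [Fintype (img Q X)] (hX : X ≤ NQ Q)
    (a b : img Q X → ℂ) : classInner (pull hX a) (pull hX b) = classInner a b :=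
  Cfsg.Agent.Lib.H23.WeightCore.classInner_comp_surjective (imgHom hX) (imgHom_surjective hX) a b

theorem pull_injective {X : Subgroup Γ} (hX : X ≤ NQ Q) {a b : img Q X → ℂ}
    (h : pull hX a = pull hX b) : a = b := by
  funext y
  obtain ⟨x, rfl⟩ := imgHom_surjective hX y
  exact congrFun h x

theorem res_pull {X Y : Subgroup Γ} (hYX : Y ≤ X) (hX : X ≤ NQ Q) (β' : img Q X → ℂ) :
    res hYX (pull hX β') = pull (hYX.trans hX) (res (img_mono Q hYX) β') := rfl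

theorem pull_mul_left {X : Subgroup Γ} (hX : X ≤ NQ Q) (β' : img Q X → ℂ) (q x : X)
    (hq : (q : Γ) ∈ Q) : pull hX β' (q * x) = pull hX β' x := by
  rw [pull_apply, pull_apply, map_mul, (imgHom_eq_one_iff hX q).mpr hq, one_mul]

theorem pull_of_mem {X : Subgroup Γ} (hX : X ≤ NQ Q) (β' : img Q X → ℂ) (q : X)
    (hq : (q : Γ) ∈ Q) : pull hX β' q = pull hX β' 1 := by
  rw [pull_apply, pull_apply, (imgHom_eq_one_iff hX q).mpr hq, map_one]

/-- Deflation: an irreducible character of `X` trivial on `X ∩ Q` comes from `img Q X`. -/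
theorem exists_pull_eq [Finite Γ] {X : Subgroup Γ} (hX : X ≤ NQ Q) (β : IrrCharacter X)
    (h : ∀ x : X, (x : Γ) ∈ Q → (β : X → ℂ) x = (β : X → ℂ) 1) :
    ∃ β' : IrrCharacter (img Q X), pull hX (β' : img Q X → ℂ) = (β : X → ℂ) := by
  obtain ⟨ψ, hψ⟩ := Cfsg.Agent.Lib.H24.InvOver.exists_deflation_of_surjective (imgHom hX)
    (imgHom_surjective hX) β (fun z hz => h z ((imgHom_eq_one_iff hX z).mp hz))
  exact ⟨ψ, funext hψ⟩

/-- Invariance under conjugation is compatible with the quotient map. -/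
theorem invUnder_pull_iff {X : Subgroup Γ} (hX : X ≤ NQ Q) (x : NQ Q)
    (hxX : ∀ g ∈ X, (x : Γ) * g * (x : Γ)⁻¹ ∈ X) (β' : img Q X → ℂ) :
    InvUnder X (x : Γ) (pull hX β') ↔ InvUnder (img Q X) (quoMk Q x) β' := by
  constructor
  · intro h g' h' hgh
    obtain ⟨g, rfl⟩ := imgHom_surjective hX g'
    have h1 : h' = imgHom hX ⟨(x : Γ) * g * (x : Γ)⁻¹, hxX g g.2⟩ := by
      apply Subtype.ext
      rw [hgh, coe_imgHom, coe_imgHom, quoMk_conj]
      rfl
    rw [h1]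
    exact h g ⟨(x : Γ) * g * (x : Γ)⁻¹, hxX g g.2⟩ rfl
  · intro h g g' hgg'
    apply h (imgHom hX g) (imgHom hX g')
    rw [coe_imgHom, coe_imgHom, quoMk_conj]
    congr 1
    exact Subtype.ext hgg'

end pull

end Cfsg.Agent.Lib.H24.RelGlaub
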