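import Cfsg.Agent.Lib.H24.RelGlaubB

/-!
# The Glauberman correspondence in `N_Γ(Q) / Q` (helper24)

`quot_corr`: `P` a `p`-group normalising `Q ≤ T`, `p ∤ |T : Q|`, `D / Q = C_{T/Q}(P)`: the
Glauberman correspondence between the `P`-invariant irreducible characters of `T / Q` and the
irreducible characters of `D / Q`, inside the quotient `N_Γ(Q) / Q`.
-/

set_option autoImplicit false

universe u

namespace Cfsg.Agent.Lib.H24.RelGlaub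

open Cfsg Cfsg.Agent.Lib.L0 Cfsg.Agent.Lib.H23 Cfsg.Agent.Lib.H8 Cfsg.Agent.Lib.H24
open Cfsg.Agent.Lib.H24.Glaub
open scoped ComplexConjugate

variable {Γ : Type u} [Group Γ] [Fintype Γ]

omit [Fintype Γ] in
theorem img_fixed_eq {Q T P D : Subgroup Γ} (hDT : D ≤ T) (hPN : P ≤ NQ Q)
    (hD : ∀ t : Γ, t ∈ D ↔ t ∈ T ∧ ∀ x ∈ P, x * t * x⁻¹ * t⁻¹ ∈ Q) :
    img Q D = img Q T ⊓ Subgroup.centralizer (img Q P : Set (Quo Q)) := by
  ext y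
  rw [Subgroup.mem_inf, Subgroup.mem_centralizer_iff]
  constructor
  · intro hy
    refine ⟨img_mono Q hDT hy, ?_⟩
    obtain ⟨d, hd, rfl⟩ := (mem_img Q).mp hy
    intro s hs
    obtain ⟨x, hx, rfl⟩ := (mem_img Q).mp hs
    have h1 : ((x * d * x⁻¹ * d⁻¹ : NQ Q) : Γ) ∈ Q := ((hD d).mp hd).2 x hx
    have h2 := (quoMk_eq_one_iff Q _).mpr h1
    rw [map_mul, map_mul, map_mul, map_inv, map_inv, mul_inv_eq_one] at h2
    exact mul_inv_eq_iff_eq_mul.mp h2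
  · rintro ⟨hy, hc⟩
    obtain ⟨t, ht, rfl⟩ := (mem_img Q).mp hy
    refine (mem_img Q).mpr ⟨t, ?_, rfl⟩
    rw [hD]
    refine ⟨ht, fun x hx => ?_⟩
    have h1 := hc (quoMk Q ⟨x, hPN hx⟩) ((mem_img Q).mpr ⟨⟨x, hPN hx⟩, hx, rfl⟩)
    have h2 : quoMk Q (⟨x, hPN hx⟩ * t * ⟨x, hPN hx⟩⁻¹ * t⁻¹) = 1 := by
      rw [map_mul, map_mul, map_mul, map_inv, map_inv, mul_inv_eq_one]
      exact mul_inv_eq_iff_eq_mul.mpr h1
    exact (quoMk_eq_one_iff Q _).mp h2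

/-- The Glauberman correspondence for the `p`-group `P` acting on `T / Q`. -/
theorem quot_corr {p : ℕ} (hp : p.Prime) {Q T P D : Subgroup Γ} [Fintype (img Q D)]
    (hTN : T ≤ NQ Q) (hPN : P ≤ NQ Q) (hPT : ∀ x ∈ P, ∀ t ∈ T, x * t * x⁻¹ ∈ T)
    (hP : IsPGroup p P) (hidx : ¬ p ∣ Q.relIndex T) (hDT : D ≤ T)
    (hD : ∀ t : Γ, t ∈ D ↔ t ∈ T ∧ ∀ x ∈ P, x * t * x⁻¹ * t⁻¹ ∈ Q) :
    GCorr p (img_mono Q hDT) (fun χ => ∀ x ∈ img Q P, InvUnder (img Q T) x χ) := by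
  classical
  letI : Fintype (Quo Q) := Fintype.ofFinite _
  apply pgroup_corr hp (Nat.card (img Q P)) (img Q T) (img Q P) (img Q D) rfl
    (img_norm hPT) (isPGroup_img hP hPN)
  · rw [card_img hTN]
    exact hidx
  · exact img_fixed_eq hDT hPN hD

end Cfsg.Agent.Lib.H24.RelGlaub
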