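import Cfsg.Agent.Lib.H24.RelGlaubC
import Cfsg.Agent.Lib.H24.MatrixCoeff
import Cfsg.Agent.Lib.H24.CentralExt
import Cfsg.Agent.Lib.H23.FullyRamified

/-!
# Gallagher's theorem for an extendible character, quotient form (helper24)

`θ̂ ∈ Irr(T)` restricting irreducibly to `Q ⊴ T`:
* `classInner_mul_ext`: `[F₁ θ̂, F₂ θ̂] = [F₁, F₂]` for functions `F₁, F₂` constant on cosets of `Q`;
* `gall_iso`: the same for functions pulled back from `T / Q`;
* `gall_surj`: every irreducible character of `T` over `θ̂_Q` is `β θ̂` with `β` pulled back from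
  an irreducible character of `T / Q`.
-/

set_option autoImplicit false

universe u

namespace Cfsg.Agent.Lib.H24.RelGlaub

open Cfsg Cfsg.Agent.Lib.L0 Cfsg.Agent.Lib.H23 Cfsg.Agent.Lib.H8 Cfsg.Agent.Lib.H24
open Cfsg.Agent.Lib.H24.Glaub
open scoped ComplexConjugate

section typeLevel

variable {D : Type*} [Group D] [Fintype D] (Z : Subgroup D) [Fintype Z]

theorem sum_mul_normSq_of_coset_invariant (χ : IrrCharacter D)
    (hres : IsIrrCharacter Z (fun z : Z => (χ : D → ℂ) z)) (F : D → ℂ)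
    (hF : ∀ (g : D) (z : Z), F (g * z) = F g) :
    ∑ g : D, F g * ((χ : D → ℂ) g * conj ((χ : D → ℂ) g)) = ∑ g : D, F g := by
  have key : ∀ z : Z, ∑ g : D, F g * ((χ : D → ℂ) g * conj ((χ : D → ℂ) g)) =
      ∑ g : D, F g * ((χ : D → ℂ) (g * z) * conj ((χ : D → ℂ) (g * z))) := by
    intro z
    rw [← Equiv.sum_comp (Equiv.mulRight (z : D))]
    refine Finset.sum_congr rfl (fun g _ => ?_)
    rw [Equiv.coe_mulRight, hF]
  have h1 : (Nat.card Z : ℂ) * ∑ g : D, F g * ((χ : D → ℂ) g * conj ((χ : D → ℂ) g)) =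
      (Nat.card Z : ℂ) * ∑ g : D, F g := by
    calc (Nat.card Z : ℂ) * ∑ g : D, F g * ((χ : D → ℂ) g * conj ((χ : D → ℂ) g))
        = ∑ _z : Z, ∑ g : D, F g * ((χ : D → ℂ) g * conj ((χ : D → ℂ) g)) := by
          rw [Finset.sum_const, Finset.card_univ, nsmul_eq_mul, Nat.card_eq_fintype_card]
      _ = ∑ z : Z, ∑ g : D, F g * ((χ : D → ℂ) (g * z) * conj ((χ : D → ℂ) (g * z))) :=
          Finset.sum_congr rfl (fun z _ => key z)
      _ = ∑ g : D, F g * ∑ z : Z, ((χ : D → ℂ) (g * z) * conj ((χ : D → ℂ) (g * z))) := by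
          rw [Finset.sum_comm]
          refine Finset.sum_congr rfl (fun g _ => ?_)
          rw [Finset.mul_sum]
      _ = ∑ g : D, F g * (Nat.card Z : ℂ) := by
          refine Finset.sum_congr rfl (fun g _ => ?_)
          rw [sum_coset_norm Z χ hres g]
      _ = (Nat.card Z : ℂ) * ∑ g : D, F g := by
          rw [Finset.mul_sum]
          exact Finset.sum_congr rfl (fun g _ => mul_comm _ _)
  have hZ : (Nat.card Z : ℂ) ≠ 0 := Nat.cast_ne_zero.mpr (Nat.card_pos (α := Z)).ne'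
  exact mul_left_cancel₀ hZ h1

theorem classInner_mul_ext (χ : IrrCharacter D)
    (hres : IsIrrCharacter Z (fun z : Z => (χ : D → ℂ) z)) (F₁ F₂ : D → ℂ)
    (hF₁ : ∀ (g : D) (z : Z), F₁ (g * z) = F₁ g) (hF₂ : ∀ (g : D) (z : Z), F₂ (g * z) = F₂ g) :
    classInner (F₁ * (χ : D → ℂ)) (F₂ * (χ : D → ℂ)) = classInner F₁ F₂ := by
  unfold classInner
  congr 1
  have h := sum_mul_normSq_of_coset_invariant Z χ hres (fun g => F₁ g * conj (F₂ g))
    (fun g z => by simp only [hF₁, hF₂])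
  rw [← h]
  refine Finset.sum_congr rfl (fun g _ => ?_)
  simp only [Pi.mul_apply, map_mul]
  ring

end typeLevel

section amb

variable {Γ : Type u} [Group Γ] [Fintype Γ] {Q T : Subgroup Γ} [Fintype Q] [Fintype T]

omit [Fintype Γ] [Fintype Q] [Fintype T] in
theorem norm_of_le_NQ (hTN : T ≤ NQ Q) : ∀ t ∈ T, ∀ q ∈ Q, t * q * t⁻¹ ∈ Q := by
  intro t ht q hq
  exact (Subgroup.mem_normalizer_iff.mp (hTN ht) q).mp hq

omit [Fintype Q] [Fintype T] in
theorem le_NQ_of_norm (h : ∀ t ∈ T, ∀ q ∈ Q, t * q * t⁻¹ ∈ Q) : T ≤ NQ Q :=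
  fun t ht => mem_normalizer_of_norm (h t ht)

omit [Fintype Γ] [Fintype Q] [Fintype T] in
theorem irr_restrict_subgroupOf (hQT : Q ≤ T) (ϑ : T → ℂ) (h : IsIrrCharacter Q (res hQT ϑ)) :
    IsIrrCharacter (Q.subgroupOf T) (fun z : Q.subgroupOf T => ϑ z) :=
  irr_comp_equiv (eSub hQT) h

omit [Fintype Γ] in
theorem pull_mul_right {X : Subgroup Γ} (hX : X ≤ NQ Q) (β' : img Q X → ℂ) (x q : X)
    (hq : (q : Γ) ∈ Q) : pull hX β' (x * q) = pull hX β' x := by
  rw [pull_apply, pull_apply, map_mul, (imgHom_eq_one_iff hX q).mpr hq, mul_one]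

omit [Fintype Γ] in
/-- Gallagher isometry. -/
theorem gall_iso (hQT : Q ≤ T) (hTN : T ≤ NQ Q) [Fintype (img Q T)] (ϑ : IrrCharacter T)
    (hres : IsIrrCharacter Q (res hQT (ϑ : T → ℂ))) (F₁ F₂ : img Q T → ℂ) :
    classInner (pull hTN F₁ * (ϑ : T → ℂ)) (pull hTN F₂ * (ϑ : T → ℂ)) = classInner F₁ F₂ := by
  haveI : Fintype (Q.subgroupOf T) := Fintype.ofFinite _
  rw [classInner_mul_ext (Q.subgroupOf T) ϑ (irr_restrict_subgroupOf hQT _ hres) _ _
    (fun g z => pull_mul_right hTN F₁ g z z.2) (fun g z => pull_mul_right hTN F₂ g z z.2),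
    classInner_pull]

/-- Gallagher: every irreducible character over an extendible character is a product. -/
theorem gall_surj (hQT : Q ≤ T) (hTN : T ≤ NQ Q) (ϑ : IrrCharacter T)
    (hres : IsIrrCharacter Q (res hQT (ϑ : T → ℂ))) (ψ : T → ℂ) (hψ : IsIrrCharacter T ψ)
    (hcon : classInner (res hQT ψ) (res hQT (ϑ : T → ℂ)) ≠ 0) :
    ∃ β' : IrrCharacter (img Q T), ψ = pull hTN (β' : img Q T → ℂ) * (ϑ : T → ℂ) := by
  classical
  have hZn : (Q.subgroupOf T).Normal := normal_subgroupOf_of_norm (norm_of_le_NQ hTN)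
  letI : Fintype (Q.subgroupOf T) := Fintype.ofFinite _
  have hcon' : classInner (fun y : Q.subgroupOf T => ψ y)
      (fun y : Q.subgroupOf T => (ϑ : T → ℂ) y) ≠ 0 := by
    have h1 : (fun y : Q.subgroupOf T => ψ y) = (res hQT ψ) ∘ eSub hQT := rfl
    have h2 : (fun y : Q.subgroupOf T => (ϑ : T → ℂ) y) = (res hQT (ϑ : T → ℂ)) ∘ eSub hQT := rfl
    rw [h1, h2, classInner_comp_equiv]
    exact hcon
  obtain ⟨β, hβ, hβ1, hψeq⟩ := gallagher_exists (Q.subgroupOf T) (ϑ : T → ℂ) ϑ.2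
    (irr_restrict_subgroupOf hQT _ hres) ψ hψ hcon'
  have hβcf := isClassFunction_of_isCharacter (isCharacter_of_irr hβ)
  rw [Cfsg.Agent.Lib.L0.frobenius_reciprocity (Q.subgroupOf T) _ β hβcf] at hβ1
  have hone : IsIrrCharacter (Q.subgroupOf T) (1 : Q.subgroupOf T → ℂ) :=
    Cfsg.Agent.Lib.L0.isIrrCharacter_one
  have hβ2 : classInner (fun n : Q.subgroupOf T => β n) (1 : Q.subgroupOf T → ℂ) ≠ 0 := by
    intro h0
    apply hβ1
    rw [← classInner_conj_symm]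
    have : (fun _ : Q.subgroupOf T => (1 : ℂ)) = (1 : Q.subgroupOf T → ℂ) := rfl
    rw [this, h0, map_zero]
  have hsm := restrict_eq_smul_of_invariant (Q.subgroupOf T) β hβ (1 : Q.subgroupOf T → ℂ) hone hβ2
    (fun _ _ => rfl)
  have hβtriv : ∀ x : T, (x : Γ) ∈ Q → β x = β 1 := by
    intro x hx
    have h3 := congrFun hsm ⟨x, hx⟩
    have h4 := congrFun hsm 1
    simp only [Pi.smul_apply, Pi.one_apply, smul_eq_mul, mul_one] at h3 h4
    rw [h3]
    exact h4.symm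
  obtain ⟨β', hβ'⟩ := exists_pull_eq hTN ⟨β, hβ⟩ hβtriv
  refine ⟨β', ?_⟩
  rw [hψeq, hβ']

end amb

end Cfsg.Agent.Lib.H24.RelGlaub
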