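import Cfsg.Agent.Lib.H24.RelGlaubD
import Cfsg.Agent.Lib.H23.ExtGeneral
import Cfsg.Agent.Lib.H24.GlaubCyclic1

/-!
# Invariant canonical extensions (helper24)

`exists_inv_extension`: `Q ⊴ T` a `p`-group with `p ∤ |T : Q|`, `θ ∈ Irr(Q)` invariant in `T` and
under a subgroup `P` normalising `Q` and `T`.  Then `θ` has a `P`-invariant extension to `T` (the
canonical extension of Isaacs 8.16).
-/

set_option autoImplicit false

universe u

namespace Cfsg.Agent.Lib.H24.RelGlaub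

open Cfsg Cfsg.Agent.Lib.L0 Cfsg.Agent.Lib.H23 Cfsg.Agent.Lib.H8 Cfsg.Agent.Lib.H24
open Cfsg.Agent.Lib.H24.Glaub
open scoped ComplexConjugate

theorem detOrder_comp_equiv {K : Type*} [Group K] [Finite K] (e : K ≃* K) {χ : K → ℂ}
    (hχ : IsCharacter K χ) : Cfsg.detOrder (χ ∘ e) = Cfsg.detOrder χ := by
  unfold Cfsg.detOrder
  have h1 : Cfsg.detChar (χ ∘ e) = Cfsg.detChar χ ∘ e := detChar_comp e.toMonoidHom hχ
  rw [h1]
  let φ : (K → ℂ) →* (K → ℂ) :=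
    { toFun := fun f => f ∘ e, map_one' := rfl, map_mul' := fun _ _ => rfl }
  have hφ : Function.Injective φ := by
    intro f g h
    funext k
    have := congrFun h (e.symm k)
    simpa [φ] using this
  exact orderOf_injective φ hφ (Cfsg.detChar χ)

variable {Γ : Type u} [Group Γ] [Fintype Γ]

theorem exists_inv_extension {p : ℕ} (hp : p.Prime) {Q T P : Subgroup Γ} [Fintype Q] [Fintype T]
    (hQT : Q ≤ T) (hTQ : ∀ t ∈ T, ∀ q ∈ Q, t * q * t⁻¹ ∈ Q)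
    (hPT : ∀ x ∈ P, ∀ t ∈ T, x * t * x⁻¹ ∈ T) (hPQ : ∀ x ∈ P, ∀ q ∈ Q, x * q * x⁻¹ ∈ Q)
    (hQp : IsPGroup p Q) (hidx : ¬ p ∣ Q.relIndex T)
    (θ : IrrCharacter Q) (hθT : ∀ t ∈ T, InvUnder Q t (θ : Q → ℂ))
    (hθP : ∀ x ∈ P, InvUnder Q x (θ : Q → ℂ)) :
    ∃ ϑ : IrrCharacter T, res hQT (ϑ : T → ℂ) = (θ : Q → ℂ) ∧
      ∀ x ∈ P, InvUnder T x (ϑ : T → ℂ) := by
  classical
  haveI : Fact p.Prime := ⟨hp⟩
  have hZn : (Q.subgroupOf T).Normal := normal_subgroupOf_of_norm hTQ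
  letI : Fintype (Q.subgroupOf T) := Fintype.ofFinite _
  obtain ⟨ϑ₀, hϑ₀def⟩ : ∃ ϑ₀ : Q.subgroupOf T → ℂ, ϑ₀ = (θ : Q → ℂ) ∘ eSub hQT := ⟨_, rfl⟩
  have hϑ₀ : IsIrrCharacter (Q.subgroupOf T) ϑ₀ := by
    rw [hϑ₀def]
    exact irr_comp_equiv _ θ.2
  have hinv : ∀ (g : T) (n : Q.subgroupOf T),
      ϑ₀ ⟨g * n * g⁻¹, hZn.conj_mem (n : T) n.2 g⟩ = ϑ₀ n := by
    intro g n
    rw [hϑ₀def]
    exact hθT g g.2 (eSub hQT n) _ rfl
  obtain ⟨d, _, hd, hdvd⟩ := irr_apply_one_dvd_card ϑ₀ hϑ₀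
  have hcardZ : Nat.card (Q.subgroupOf T) = Nat.card Q := Nat.card_congr (eSub hQT).toEquiv
  obtain ⟨a, ha⟩ := IsPGroup.iff_card.mp hQp
  have hpi : Nat.Coprime (Q.subgroupOf T).index (p ^ a) :=
    Nat.Coprime.pow_right _ ((Nat.Prime.coprime_iff_not_dvd hp).mpr hidx).symm
  have hcop : Nat.Coprime (Q.subgroupOf T).index (Cfsg.detOrder ϑ₀ * d) := by
    apply Nat.Coprime.mul_right
    · refine Nat.Coprime.coprime_dvd_right ?_ hpi
      rw [← ha, ← hcardZ]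
      exact detOrder_dvd_card (isCharacter_of_irr hϑ₀)
    · refine Nat.Coprime.coprime_dvd_right ?_ hpi
      rw [← ha, ← hcardZ]
      exact hdvd
  obtain ⟨χ, ⟨hχ, hχZ, hχo⟩, huniq⟩ :=
    exists_unique_extension_coprime (Q.subgroupOf T) ϑ₀ hϑ₀ hinv d hd hcop
  refine ⟨⟨χ, hχ⟩, ?_, ?_⟩
  · funext q
    have h1 := hχZ ((eSub hQT).symm q)
    rw [hϑ₀def, Function.comp_apply, MulEquiv.apply_symm_apply] at h1
    rw [← h1]
    show χ ⟨(q : Γ), hQT q.2⟩ = χ ((eSub hQT).symm q : Q.subgroupOf T)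
    congr 1
  · intro x hx
    have hx' := inv_norm_of_norm (hPT x hx)
    rw [invUnder_iff_comp T x (hPT x hx) hx']
    apply huniq
    · exact irr_comp_equiv _ hχ
    · intro n
      have hmem : conjN T x (hPT x hx) hx' (n : T) ∈ Q.subgroupOf T :=
        Subgroup.mem_subgroupOf.mpr (hPQ x hx _ (Subgroup.mem_subgroupOf.mp n.2))
      have h2 := hχZ ⟨conjN T x (hPT x hx) hx' (n : T), hmem⟩
      show χ (conjN T x (hPT x hx) hx' (n : T)) = ϑ₀ n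
      rw [h2, hϑ₀def, Function.comp_apply, Function.comp_apply]
      exact hθP x hx (eSub hQT n) _ rfl
    · rw [detOrder_comp_equiv _ (isCharacter_of_irr hχ), hχo]
      exact Nat.Coprime.coprime_mul_right_right hcop

end Cfsg.Agent.Lib.H24.RelGlaub
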