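import Cfsg.Agent.Lib.H24.RelGlaubE

/-!
# Invariant constituents below invariant characters, non-coprime form (helper24)

`P` a `p`-group normalising `Q ⊴ K` with `p ∤ |K : Q|`.
* `exists_inv_constituent_rel`: a `P`-invariant `χ ∈ Irr(K)` has a `P`-invariant constituent in
  `Irr(Q)`;
* `exists_conj_in_C`: two such constituents are conjugate under `C`, where `C / Q = C_{K/Q}(P)`.
-/

set_option autoImplicit false

universe u

namespace Cfsg.Agent.Lib.H24.RelGlaub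

open Cfsg Cfsg.Agent.Lib.L0 Cfsg.Agent.Lib.H23 Cfsg.Agent.Lib.H8 Cfsg.Agent.Lib.H24
open Cfsg.Agent.Lib.H24.Glaub
open scoped ComplexConjugate

variable {Γ : Type u} [Group Γ] [Fintype Γ]

variable {p : ℕ} {Q K P C : Subgroup Γ} [Fintype Q] [Fintype K]

theorem exists_constituent (hQK : Q ≤ K) (χ : IrrCharacter K) :
    ∃ θ : IrrCharacter Q, resMult hQK (χ : K → ℂ) (θ : Q → ℂ) ≠ 0 := by
  classical
  letI : Fintype (IrrCharacter Q) := Fintype.ofFinite _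
  by_contra hcon
  push Not at hcon
  have h1 := charDegree_eq_sum_resMult hQK χ
  have h2 : charDegree (χ : K → ℂ) = 0 := by
    rw [h1]
    apply Finset.sum_eq_zero
    intro φ _
    rw [hcon φ, zero_mul]
  have h3 := Cfsg.Agent.Lib.H23.charDegree_pos _ χ.2
  omega

/-- The number of irreducible constituents of `χ_Q` divides `|K : Q|`. -/
theorem card_constituents_dvd (hQK : Q ≤ K) (hKQ : ∀ k ∈ K, ∀ q ∈ Q, k * q * k⁻¹ ∈ Q)
    (χ : IrrCharacter K) [Fintype (IrrCharacter Q)]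
    [DecidablePred (fun φ : IrrCharacter Q => resMult hQK (χ : K → ℂ) (φ : Q → ℂ) ≠ 0)] :
    (Finset.univ.filter
      (fun φ : IrrCharacter Q => resMult hQK (χ : K → ℂ) (φ : Q → ℂ) ≠ 0)).card ∣
      Q.relIndex K := by
  classical
  obtain ⟨θ₀, hθ₀⟩ := exists_constituent hQK χ
  letI : MulAction K (IrrCharacter Q) := irrAct Q K hKQ
  have hsmul : ∀ (k : K) (φ : IrrCharacter Q),
      resMult hQK (χ : K → ℂ) ((k • φ : IrrCharacter Q) : Q → ℂ) =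
        resMult hQK (χ : K → ℂ) (φ : Q → ℂ) := by
    intro k φ
    have hk' : (k : Γ)⁻¹ ∈ K := K.inv_mem k.2
    show resMult hQK (χ : K → ℂ) (((irrAct Q K hKQ).smul k φ : IrrCharacter Q) : Q → ℂ) = _
    rw [irrAct_smul_coe, resMult_conj_right hQK (hKQ _ hk') (inv_norm_of_norm (hKQ _ hk'))
      (invUnder_of_mem hk' (isClassFunction_of_isCharacter (isCharacter_of_irr χ.2)))]
  have horb : MulAction.orbit K θ₀ =
      {φ : IrrCharacter Q | resMult hQK (χ : K → ℂ) (φ : Q → ℂ) ≠ 0} := by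
    ext φ
    constructor
    · rintro ⟨k, rfl⟩
      show resMult hQK (χ : K → ℂ) ((k • θ₀ : IrrCharacter Q) : Q → ℂ) ≠ 0
      rw [hsmul]
      exact hθ₀
    · intro hφ
      obtain ⟨c, hc, hconj⟩ := exists_conj_of_constituents_amb hQK hKQ χ θ₀ φ hθ₀ hφ
      refine ⟨⟨c, hc⟩⁻¹, ?_⟩
      apply Subtype.ext
      show (((irrAct Q K hKQ).smul (⟨c, hc⟩⁻¹ : K) θ₀ : IrrCharacter Q) : Q → ℂ) = (φ : Q → ℂ)
      rw [irrAct_smul_coe, hconj]
      funext n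
      simp only [Function.comp_apply]
      apply congrArg
      apply Subtype.ext
      rw [conjN_apply, conjN_apply]
      simp
  have hstab : Q.subgroupOf K ≤ MulAction.stabilizer K θ₀ := by
    intro q hq
    rw [MulAction.mem_stabilizer_iff]
    apply Subtype.ext
    show (((irrAct Q K hKQ).smul q θ₀ : IrrCharacter Q) : Q → ℂ) = (θ₀ : Q → ℂ)
    funext n
    rw [irrAct_smul_apply]
    have hq' : (q : Γ) ∈ Q := Subgroup.mem_subgroupOf.mp hq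
    have hcf := isClassFunction_of_isCharacter (isCharacter_of_irr θ₀.2)
    have h1 := hcf n (⟨(q : Γ), hq'⟩⁻¹ : Q)
    rw [← h1]
    congr 1
  have h1 : (MulAction.stabilizer K θ₀).index ∣ (Q.subgroupOf K).index :=
    Subgroup.index_dvd_of_le hstab
  rw [MulAction.index_stabilizer, horb] at h1
  have h2 : ({φ : IrrCharacter Q | resMult hQK (χ : K → ℂ) (φ : Q → ℂ) ≠ 0} : Set _).ncard =
      (Finset.univ.filter
        (fun φ : IrrCharacter Q => resMult hQK (χ : K → ℂ) (φ : Q → ℂ) ≠ 0)).card := by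
    rw [Set.ncard_eq_toFinset_card']
    congr 1
    ext φ
    simp
  rw [h2] at h1
  exact h1

/-- A `P`-invariant irreducible character of `K` lies over a `P`-invariant irreducible character of
the normal `p`-subgroup `Q` of index prime to `p`. -/
theorem exists_inv_constituent_rel (hp : p.Prime) (hQK : Q ≤ K)
    (hKQ : ∀ k ∈ K, ∀ q ∈ Q, k * q * k⁻¹ ∈ Q) (hPQ : ∀ x ∈ P, ∀ q ∈ Q, x * q * x⁻¹ ∈ Q)
    (hP : IsPGroup p P) (hidx : ¬ p ∣ Q.relIndex K)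
    (χ : IrrCharacter K) (hχ : ∀ x ∈ P, InvUnder K x (χ : K → ℂ)) :
    ∃ θ : IrrCharacter Q, (∀ x ∈ P, InvUnder Q x (θ : Q → ℂ)) ∧
      resMult hQK (χ : K → ℂ) (θ : Q → ℂ) ≠ 0 := by
  classical
  letI : Fintype (IrrCharacter Q) := Fintype.ofFinite _
  set f : IrrCharacter Q → ℤ := fun φ =>
    if resMult hQK (χ : K → ℂ) (φ : Q → ℂ) ≠ 0 then 1 else 0 with hf
  have hfinv : ∀ (x : P) (φ : IrrCharacter Q), f ((irrAct Q P hPQ).smul x φ) = f φ := by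
    intro x φ
    have hx' : (x : Γ)⁻¹ ∈ P := P.inv_mem x.2
    have h1 : resMult hQK (χ : K → ℂ) (((irrAct Q P hPQ).smul x φ : IrrCharacter Q) : Q → ℂ) =
        resMult hQK (χ : K → ℂ) (φ : Q → ℂ) := by
      rw [irrAct_smul_coe, resMult_conj_right hQK (hPQ _ hx') (inv_norm_of_norm (hPQ _ hx'))
        (hχ _ hx')]
    show (if resMult hQK (χ : K → ℂ)
      (((irrAct Q P hPQ).smul x φ : IrrCharacter Q) : Q → ℂ) ≠ 0 then (1 : ℤ) else 0) = _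
    rw [h1]
  have h1 := sum_irr_modEq Q P hPQ hp hP f hfinv
  have h2 : (∑ φ : IrrCharacter Q, f φ) = ((Finset.univ.filter
      (fun φ : IrrCharacter Q => resMult hQK (χ : K → ℂ) (φ : Q → ℂ) ≠ 0)).card : ℤ) := by
    rw [hf, Finset.sum_boole]
  have h3 := card_constituents_dvd hQK hKQ χ
  have h4 : ¬ (p : ℤ) ∣ (∑ φ : IrrCharacter Q, f φ) := by
    rw [h2]
    intro h
    exact hidx ((Int.natCast_dvd_natCast.mp h).trans h3)
  by_contra hcon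
  push Not at hcon
  apply h4
  apply (Int.ModEq.dvd_iff h1).mpr
  apply Finset.dvd_sum
  intro φ _
  by_cases hinv : ∀ q ∈ P, InvUnder Q q (φ : Q → ℂ)
  · rw [if_pos hinv]
    show (p : ℤ) ∣ (if resMult hQK (χ : K → ℂ) (φ : Q → ℂ) ≠ 0 then (1 : ℤ) else 0)
    rw [if_neg (not_not.mpr (hcon φ hinv))]
    exact dvd_zero _
  · rw [if_neg hinv]
    exact dvd_zero _

/-- Two `P`-invariant constituents of `χ_Q` are conjugate under `C`, `C / Q = C_{K/Q}(P)`. -/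
theorem exists_conj_in_C (hp : p.Prime) (hQK : Q ≤ K)
    (hKQ : ∀ k ∈ K, ∀ q ∈ Q, k * q * k⁻¹ ∈ Q) (hPQ : ∀ x ∈ P, ∀ q ∈ Q, x * q * x⁻¹ ∈ Q)
    (hPK : ∀ x ∈ P, ∀ k ∈ K, x * k * x⁻¹ ∈ K)
    (hP : IsPGroup p P) (hidx : ¬ p ∣ Q.relIndex K)
    (hC : ∀ k : Γ, k ∈ C ↔ k ∈ K ∧ ∀ x ∈ P, x * k * x⁻¹ * k⁻¹ ∈ Q)
    (χ : IrrCharacter K) (θ θ' : IrrCharacter Q)
    (hθ : ∀ x ∈ P, InvUnder Q x (θ : Q → ℂ)) (hθ' : ∀ x ∈ P, InvUnder Q x (θ' : Q → ℂ))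
    (h : resMult hQK (χ : K → ℂ) (θ : Q → ℂ) ≠ 0)
    (h' : resMult hQK (χ : K → ℂ) (θ' : Q → ℂ) ≠ 0) :
    ∃ c ∈ C, ∀ q q' : Q, (q' : Γ) = c * q * c⁻¹ → (θ' : Q → ℂ) q = (θ : Q → ℂ) q' := by
  classical
  haveI : Fact p.Prime := ⟨hp⟩
  letI : Fintype (Quo Q) := Fintype.ofFinite _
  obtain ⟨k₀, hk₀, hconj⟩ := exists_conj_of_constituents_amb hQK hKQ χ θ θ' h h'
  have hKN : K ≤ NQ Q := le_NQ_of_norm hKQ
  have hPN : P ≤ NQ Q := le_NQ_of_norm hPQ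
  obtain ⟨Rel, hRel⟩ : ∃ Rel : Γ → Prop, ∀ k, Rel k ↔ (k ∈ K ∧ ∀ q q' : Q,
      (q' : Γ) = k * q * k⁻¹ → (θ' : Q → ℂ) q = (θ : Q → ℂ) q') := ⟨_, fun _ => Iff.rfl⟩
  have hRel0 : Rel k₀ := by
    rw [hRel]
    refine ⟨hk₀, fun q q' hq => ?_⟩
    rw [hconj, Function.comp_apply]
    apply congrArg
    exact Subtype.ext hq.symm
  obtain ⟨T, hTdef⟩ : ∃ T : Subgroup Γ, T = K ⊓ invStab Q (θ : Q → ℂ) := ⟨_, rfl⟩
  have hTK : T ≤ K := by rw [hTdef]; exact inf_le_left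
  have hQT : Q ≤ T := by
    rw [hTdef]
    refine le_inf hQK (fun q hq => ?_)
    exact ⟨Subgroup.le_normalizer hq,
      invUnder_of_mem hq (isClassFunction_of_isCharacter (isCharacter_of_irr θ.2))⟩
  have hTmem : ∀ t : Γ, t ∈ T ↔ t ∈ K ∧ InvUnder Q t (θ : Q → ℂ) := by
    intro t
    rw [hTdef, Subgroup.mem_inf, mem_invStab]
    constructor
    · rintro ⟨h1, -, h3⟩
      exact ⟨h1, h3⟩
    · rintro ⟨h1, h3⟩
      exact ⟨h1, hKN h1, h3⟩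
  obtain ⟨X', hX'def⟩ : ∃ X' : Set (Quo Q), X' = {y | ∃ k : NQ Q, Rel k ∧ quoMk Q k = y} :=
    ⟨_, rfl⟩
  have hstab : ∀ s ∈ img Q P, ∀ y ∈ X', s * y * s⁻¹ ∈ X' := by
    intro s hs y hy
    rw [hX'def] at hy ⊢
    obtain ⟨k, hk, rfl⟩ := hy
    obtain ⟨x, hx, rfl⟩ := (mem_img Q).mp hs
    refine ⟨x * k * x⁻¹, ?_, (quoMk_conj x k).symm⟩
    rw [hRel] at hk ⊢
    refine ⟨hPK x hx k hk.1, ?_⟩
    intro q q' hqq'
    have hx'Q := inv_norm_of_norm (hPQ x hx)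
    obtain ⟨q₁, hq₁⟩ : ∃ q₁ : Q, (q₁ : Γ) = (x : Γ)⁻¹ * q * x := ⟨⟨_, hx'Q q q.2⟩, rfl⟩
    obtain ⟨q₂, hq₂⟩ : ∃ q₂ : Q, (q₂ : Γ) = (k : Γ) * q₁ * (k : Γ)⁻¹ :=
      ⟨⟨_, hKQ k hk.1 q₁ q₁.2⟩, rfl⟩
    have e1 : (θ' : Q → ℂ) q = (θ' : Q → ℂ) q₁ := by
      apply hθ' x hx q₁ q
      rw [hq₁]
      group
    have e2 : (θ' : Q → ℂ) q₁ = (θ : Q → ℂ) q₂ := hk.2 q₁ q₂ hq₂
    have e3 : (θ : Q → ℂ) q' = (θ : Q → ℂ) q₂ := by
      apply hθ x hx q₂ q'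
      rw [hqq', hq₂, hq₁]
      simp only [Subgroup.coe_mul, Subgroup.coe_inv]
      group
    rw [e1, e2, e3]
  have himage : X' = (fun y => y * quoMk Q ⟨k₀, hKN hk₀⟩) '' (img Q T : Set (Quo Q)) := by
    rw [hX'def]
    ext y
    constructor
    · rintro ⟨k, hk, rfl⟩
      rw [hRel] at hk hRel0
      refine ⟨quoMk Q (k * (⟨k₀, hKN hk₀⟩ : NQ Q)⁻¹),
        (mem_img Q).mpr ⟨k * (⟨k₀, hKN hk₀⟩ : NQ Q)⁻¹, ?_, rfl⟩, ?_⟩
      · rw [hTmem]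
        refine ⟨K.mul_mem hk.1 (K.inv_mem hk₀), ?_⟩
        intro g g' hgg'
        have hk₀' := inv_norm_of_norm (hKQ k₀ hk₀)
        obtain ⟨a, ha⟩ : ∃ a : Q, (a : Γ) = k₀⁻¹ * g * k₀ := ⟨⟨_, hk₀' g g.2⟩, rfl⟩
        have e1 : (θ' : Q → ℂ) a = (θ : Q → ℂ) g := by
          apply hRel0.2 a g
          rw [ha]
          group
        have e2 : (θ' : Q → ℂ) a = (θ : Q → ℂ) g' := by
          apply hk.2 a g'
          rw [hgg', ha]
          simp only [Subgroup.coe_mul, Subgroup.coe_inv]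
          group
        rw [← e1, e2]
      · simp only [map_mul, map_inv, inv_mul_cancel_right]
    · rintro ⟨t', ht', rfl⟩
      obtain ⟨t, ht, rfl⟩ := (mem_img Q).mp ht'
      refine ⟨t * ⟨k₀, hKN hk₀⟩, ?_, map_mul _ _ _⟩
      rw [hRel] at hRel0 ⊢
      rw [hTmem] at ht
      refine ⟨K.mul_mem ht.1 hk₀, ?_⟩
      intro q q' hqq'
      obtain ⟨b, hb⟩ : ∃ b : Q, (b : Γ) = k₀ * q * k₀⁻¹ := ⟨⟨_, hKQ k₀ hk₀ q q.2⟩, rfl⟩
      have e1 : (θ' : Q → ℂ) q = (θ : Q → ℂ) b := hRel0.2 q b hb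
      have e2 : (θ : Q → ℂ) q' = (θ : Q → ℂ) b := by
        apply ht.2 b q'
        rw [hqq', hb]
        simp only [Subgroup.coe_mul]
        group
      rw [e1, e2]
  have hcard : Nat.card X' = Nat.card (img Q T) := by
    rw [himage, Nat.card_image_of_injective (mul_left_injective _)]
    rfl
  have hX' : ¬ p ∣ Nat.card X' := by
    rw [hcard, card_img (hTK.trans hKN)]
    intro hdvd
    apply hidx
    rw [← Subgroup.relIndex_mul_relIndex Q T K hQT hTK]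
    exact hdvd.mul_right _
  obtain ⟨y, hy, hfix⟩ := pfix (isPGroup_img hP hPN) X' hstab hX'
  rw [hX'def] at hy
  obtain ⟨k, hk, rfl⟩ := hy
  rw [hRel] at hk
  refine ⟨k, ?_, hk.2⟩
  rw [hC]
  refine ⟨hk.1, fun x hx => ?_⟩
  have h1 := hfix (quoMk Q ⟨x, hPN hx⟩) ((mem_img Q).mpr ⟨⟨x, hPN hx⟩, hx, rfl⟩)
  have h2 : quoMk Q (⟨x, hPN hx⟩ * k * ⟨x, hPN hx⟩⁻¹ * k⁻¹) = 1 := by
    rw [map_mul, map_mul, map_mul, map_inv, map_inv, mul_inv_eq_one]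
    exact h1
  exact (quoMk_eq_one_iff Q _).mp h2

end Cfsg.Agent.Lib.H24.RelGlaub
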