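import Cfsg.Agent.Lib.H24.RelGlaubF

/-!
# Parametrisation of the characters over an invariant `θ ∈ Irr(Q)` (helper24)

`Q ⊴ K`, `θ ∈ Irr(Q)` with inertia group `T` in `K` and an extension `ϑ ∈ Irr(T)`.  Then
`β' ↦ Φ β' = (β' ϑ)^K` is a bijection from `Irr(T / Q)` onto `Irr(K | θ)`.
-/

set_option autoImplicit false

universe u

namespace Cfsg.Agent.Lib.H24.RelGlaub

open Cfsg Cfsg.Agent.Lib.L0 Cfsg.Agent.Lib.H23 Cfsg.Agent.Lib.H8 Cfsg.Agent.Lib.H24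
open Cfsg.Agent.Lib.H24.Glaub
open scoped ComplexConjugate

variable {Γ : Type u} [Group Γ] [Fintype Γ]

section param

variable {Q T K : Subgroup Γ} [Fintype Q] [Fintype T] [Fintype K]

/-- The product `β ϑ` with `β` pulled back from `T / Q`. -/
def pm (hTN : T ≤ NQ Q) (ϑ : T → ℂ) (β' : img Q T → ℂ) : T → ℂ := pull hTN β' * ϑ

omit [Fintype Γ] in
theorem isIrr_pm (hQT : Q ≤ T) (hTN : T ≤ NQ Q) [Fintype (img Q T)] (ϑ : IrrCharacter T)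
    (hres : IsIrrCharacter Q (res hQT (ϑ : T → ℂ))) (β' : IrrCharacter (img Q T)) :
    IsIrrCharacter T (pm hTN (ϑ : T → ℂ) (β' : img Q T → ℂ)) := by
  apply isIrrCharacter_of_classInner_self_eq_one
  · exact isCharacter_mul (isCharacter_pull hTN (isCharacter_of_irr β'.2)) (isCharacter_of_irr ϑ.2)
  · unfold pm
    rw [gall_iso hQT hTN ϑ hres, irr_classInner_self β'.2]

omit [Fintype Γ] [Fintype Q] [Fintype T] in
theorem res_pm (hQT : Q ≤ T) (hTN : T ≤ NQ Q) (ϑ : T → ℂ) (β' : img Q T → ℂ) :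
    res hQT (pm hTN ϑ β') = (β' 1) • res hQT ϑ := by
  funext q
  show pull hTN β' ⟨q, hQT q.2⟩ * ϑ ⟨q, hQT q.2⟩ = β' 1 * ϑ ⟨q, hQT q.2⟩
  rw [pull_of_mem hTN β' ⟨q, hQT q.2⟩ q.2, pull_apply, map_one]

omit [Fintype Γ] [Fintype T] in
theorem classInner_res_pm (hQT : Q ≤ T) (hTN : T ≤ NQ Q) (ϑ : T → ℂ)
    (hres : IsIrrCharacter Q (res hQT ϑ)) (β' : img Q T → ℂ) :
    classInner (res hQT (pm hTN ϑ β')) (res hQT ϑ) = β' 1 := by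
  rw [res_pm, classInner_smul_left, irr_classInner_self hres, mul_one]

/-- The data for the parametrisation: `T` is the inertia group in `K` of `θ ∈ Irr(Q)`, `Q ⊴ K`,
and `ϑ ∈ Irr(T)` extends `θ`. -/
structure PData (Q T K : Subgroup Γ) (θ : IrrCharacter Q) (ϑ : IrrCharacter T) : Prop where
  hQT : Q ≤ T
  hTK : T ≤ K
  hKQ : ∀ k ∈ K, ∀ q ∈ Q, k * q * k⁻¹ ∈ Q
  hT : ∀ k : Γ, k ∈ T ↔ k ∈ K ∧ InvUnder Q k (θ : Q → ℂ)
  hϑ : res hQT (ϑ : T → ℂ) = (θ : Q → ℂ)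

namespace PData

variable {θ : IrrCharacter Q} {ϑ : IrrCharacter T}

omit [Fintype Q] [Fintype T] [Fintype K] in
theorem hTN (d : PData Q T K θ ϑ) : T ≤ NQ Q :=
  le_NQ_of_norm (fun t ht => d.hKQ t (d.hTK ht))

omit [Fintype Γ] [Fintype Q] [Fintype T] [Fintype K] in
theorem hres (d : PData Q T K θ ϑ) : IsIrrCharacter Q (res d.hQT (ϑ : T → ℂ)) := by
  rw [d.hϑ]
  exact θ.2

/-- The parametrisation `β' ↦ (β' ϑ)^K`. -/
noncomputable def Φ (d : PData Q T K θ ϑ) (β' : img Q T → ℂ) : K → ℂ :=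
  indA d.hTK (pm d.hTN (ϑ : T → ℂ) β')

variable [Fintype (img Q T)]

theorem pm_over (d : PData Q T K θ ϑ) (β' : IrrCharacter (img Q T)) :
    classInner (res d.hQT (pm d.hTN (ϑ : T → ℂ) (β' : img Q T → ℂ))) (θ : Q → ℂ) ≠ 0 := by
  have h1 := classInner_res_pm d.hQT d.hTN (ϑ : T → ℂ) d.hres (β' : img Q T → ℂ)
  rw [d.hϑ] at h1
  rw [h1]
  exact irr_one_ne_zero β'

theorem Φ_irr (d : PData Q T K θ ϑ) (β' : IrrCharacter (img Q T)) :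
    IsIrrCharacter K (d.Φ (β' : img Q T → ℂ)) ∧
      classInner (res (d.hQT.trans d.hTK) (d.Φ (β' : img Q T → ℂ))) (θ : Q → ℂ) =
        (β' : img Q T → ℂ) 1 := by
  have h1 := cliff_irr d.hQT d.hTK d.hKQ (θ : Q → ℂ) θ.2 d.hT _
    (isIrr_pm d.hQT d.hTN ϑ d.hres β') (d.pm_over β')
  refine ⟨h1.1, ?_⟩
  unfold Φ
  rw [h1.2]
  have h2 := classInner_res_pm d.hQT d.hTN (ϑ : T → ℂ) d.hres (β' : img Q T → ℂ)
  rw [d.hϑ] at h2
  exact h2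

theorem Φ_inj (d : PData Q T K θ ϑ) (β₁ β₂ : IrrCharacter (img Q T))
    (h : d.Φ (β₁ : img Q T → ℂ) = d.Φ (β₂ : img Q T → ℂ)) : β₁ = β₂ := by
  have h1 := cliff_inj d.hQT d.hTK d.hKQ (θ : Q → ℂ) θ.2 d.hT _ _
    (isIrr_pm d.hQT d.hTN ϑ d.hres β₁) (isIrr_pm d.hQT d.hTN ϑ d.hres β₂)
    (d.pm_over β₁) (d.pm_over β₂) h
  have h2 := gall_iso d.hQT d.hTN ϑ d.hres (β₁ : img Q T → ℂ) (β₂ : img Q T → ℂ)
  have h3 : pull d.hTN (β₁ : img Q T → ℂ) * (ϑ : T → ℂ) =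
      pull d.hTN (β₂ : img Q T → ℂ) * (ϑ : T → ℂ) := h1
  rw [h3] at h2
  have h4 := irr_classInner_self (isIrr_pm d.hQT d.hTN ϑ d.hres β₂)
  unfold pm at h4
  rw [h4] at h2
  by_contra hne
  have h5 := irr_classInner_ne β₁.2 β₂.2 (fun h => hne (Subtype.ext h))
  rw [h5] at h2
  exact one_ne_zero h2

theorem Φ_surj (d : PData Q T K θ ϑ) (χ : IrrCharacter K)
    (hχ : classInner (res (d.hQT.trans d.hTK) (χ : K → ℂ)) (θ : Q → ℂ) ≠ 0) :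
    ∃ β' : IrrCharacter (img Q T), d.Φ (β' : img Q T → ℂ) = (χ : K → ℂ) := by
  obtain ⟨ψ, hψ, hind, hmult⟩ := cliff_exists d.hQT d.hTK d.hKQ (θ : Q → ℂ) θ.2 d.hT
    (χ : K → ℂ) χ.2 hχ
  have hcon : classInner (res d.hQT ψ) (res d.hQT (ϑ : T → ℂ)) ≠ 0 := by
    rw [d.hϑ, hmult]
    exact hχ
  obtain ⟨β', hβ'⟩ := gall_surj d.hQT d.hTN ϑ d.hres ψ hψ hcon
  refine ⟨β', ?_⟩
  unfold Φ pm
  rw [← hβ', hind]

end PData

end param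

end Cfsg.Agent.Lib.H24.RelGlaub
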