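import Cfsg.Agent.Lib.H24.RelGlaubG

/-!
# Equivariance of the parametrisation (helper24)

In the setting of `PData`, an element `x` normalising `Q`, `T`, `K` and fixing `θ` and `ϑ`:
`Φ β'` is `x`-invariant if and only if `β'` is invariant under the image of `x` in `N(Q)/Q`.
-/

set_option autoImplicit false

universe u

namespace Cfsg.Agent.Lib.H24.RelGlaub

open Cfsg Cfsg.Agent.Lib.L0 Cfsg.Agent.Lib.H23 Cfsg.Agent.Lib.H8 Cfsg.Agent.Lib.H24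
open Cfsg.Agent.Lib.H24.Glaub
open scoped ComplexConjugate

variable {Γ : Type u} [Group Γ] [Fintype Γ]

variable {Q T K : Subgroup Γ} [Fintype Q] [Fintype T] [Fintype K]

omit [Fintype Q] [Fintype T] [Fintype K] in
/-- Pulling back commutes with conjugation. -/
theorem pull_conj {X : Subgroup Γ} (hX : X ≤ NQ Q) (x : NQ Q)
    (hxX : ∀ g ∈ X, (x : Γ) * g * (x : Γ)⁻¹ ∈ X) (β' : img Q X → ℂ)
    (hs : ∀ g ∈ img Q X, quoMk Q x * g * (quoMk Q x)⁻¹ ∈ img Q X) :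
    pull hX (β' ∘ conjN (img Q X) (quoMk Q x) hs (inv_norm_of_norm hs)) =
      (pull hX β') ∘ conjN X (x : Γ) hxX (inv_norm_of_norm hxX) := by
  funext t
  show β' (conjN (img Q X) (quoMk Q x) hs (inv_norm_of_norm hs) (imgHom hX t)) =
    β' (imgHom hX (conjN X (x : Γ) hxX (inv_norm_of_norm hxX) t))
  apply congrArg
  apply Subtype.ext
  rw [conjN_apply, coe_imgHom, coe_imgHom, quoMk_conj]
  rfl

namespace PData

variable {θ : IrrCharacter Q} {ϑ : IrrCharacter T}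

/-- Induction from the inertia group commutes with conjugation by an element fixing `θ`. -/
theorem indA_conj (d : PData Q T K θ ϑ) {x : Γ} (hxQ : ∀ q ∈ Q, x * q * x⁻¹ ∈ Q)
    (hxT : ∀ t ∈ T, x * t * x⁻¹ ∈ T) (hxK : ∀ k ∈ K, x * k * x⁻¹ ∈ K)
    (hxθ : InvUnder Q x (θ : Q → ℂ)) (ψ : T → ℂ) (hψ : IsIrrCharacter T ψ)
    (hover : classInner (res d.hQT ψ) (θ : Q → ℂ) ≠ 0) :
    indA d.hTK (ψ ∘ conjN T x hxT (inv_norm_of_norm hxT)) =
      (indA d.hTK ψ) ∘ conjN K x hxK (inv_norm_of_norm hxK) := by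
  obtain ⟨hχ, -⟩ := cliff_irr d.hQT d.hTK d.hKQ (θ : Q → ℂ) θ.2 d.hT ψ hψ hover
  have hχx : IsIrrCharacter K ((indA d.hTK ψ) ∘ conjN K x hxK (inv_norm_of_norm hxK)) :=
    irr_comp_equiv _ hχ
  have hψx : IsIrrCharacter T (ψ ∘ conjN T x hxT (inv_norm_of_norm hxT)) := irr_comp_equiv _ hψ
  have hθx : (θ : Q → ℂ) ∘ conjN Q x hxQ (inv_norm_of_norm hxQ) = (θ : Q → ℂ) :=
    (invUnder_iff_comp Q x hxQ (inv_norm_of_norm hxQ) _).mp hxθ
  have hoverx : classInner (res d.hQT (ψ ∘ conjN T x hxT (inv_norm_of_norm hxT)))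
      (θ : Q → ℂ) ≠ 0 := by
    have h1 : res d.hQT (ψ ∘ conjN T x hxT (inv_norm_of_norm hxT)) =
        (res d.hQT ψ) ∘ conjN Q x hxQ (inv_norm_of_norm hxQ) := rfl
    rw [h1]
    nth_rewrite 1 [← hθx]
    rw [classInner_comp_equiv]
    exact hover
  obtain ⟨hχ', -⟩ := cliff_irr d.hQT d.hTK d.hKQ (θ : Q → ℂ) θ.2 d.hT _ hψx hoverx
  by_contra hne
  have h0 := irr_classInner_ne hχ' hχx hne
  rw [frob_amb d.hTK _ _ (isClassFunction_of_isCharacter (isCharacter_of_irr hχx))] at h0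
  have h2 : res d.hTK ((indA d.hTK ψ) ∘ conjN K x hxK (inv_norm_of_norm hxK)) =
      (res d.hTK (indA d.hTK ψ)) ∘ conjN T x hxT (inv_norm_of_norm hxT) := rfl
  rw [h2, classInner_comp_equiv,
    ← frob_amb d.hTK _ _ (isClassFunction_of_isCharacter (isCharacter_of_irr hχ)),
    irr_classInner_self hχ] at h0
  exact one_ne_zero h0

variable [Fintype (img Q T)]

theorem img_norm_elt (d : PData Q T K θ ϑ) {x : Γ} (hxQ : ∀ q ∈ Q, x * q * x⁻¹ ∈ Q)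
    (hxT : ∀ t ∈ T, x * t * x⁻¹ ∈ T) :
    ∀ g ∈ img Q T, quoMk Q ⟨x, mem_normalizer_of_norm hxQ⟩ * g *
      (quoMk Q ⟨x, mem_normalizer_of_norm hxQ⟩)⁻¹ ∈ img Q T := by
  intro g hg
  obtain ⟨y, hy, rfl⟩ := (mem_img Q).mp hg
  rw [quoMk_conj]
  exact (mem_img Q).mpr ⟨_, hxT y hy, rfl⟩

/-- If `β'` is invariant under the image of `x`, then `Φ β'` is `x`-invariant. -/
theorem Φ_inv_of_inv (d : PData Q T K θ ϑ) {x : Γ} (hxQ : ∀ q ∈ Q, x * q * x⁻¹ ∈ Q)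
    (hxT : ∀ t ∈ T, x * t * x⁻¹ ∈ T) (hxK : ∀ k ∈ K, x * k * x⁻¹ ∈ K)
    (hxθ : InvUnder Q x (θ : Q → ℂ)) (hxϑ : InvUnder T x (ϑ : T → ℂ))
    (β' : IrrCharacter (img Q T))
    (hβ' : InvUnder (img Q T) (quoMk Q ⟨x, mem_normalizer_of_norm hxQ⟩) (β' : img Q T → ℂ)) :
    InvUnder K x (d.Φ (β' : img Q T → ℂ)) := by
  rw [invUnder_iff_comp K x hxK (inv_norm_of_norm hxK)]
  unfold Φ
  rw [← d.indA_conj hxQ hxT hxK hxθ _ (isIrr_pm d.hQT d.hTN ϑ d.hres β') (d.pm_over β')]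
  congr 1
  have h1 : InvUnder T x (pull d.hTN (β' : img Q T → ℂ)) :=
    (invUnder_pull_iff d.hTN ⟨x, mem_normalizer_of_norm hxQ⟩ hxT _).mpr hβ'
  have h2 := (invUnder_iff_comp T x hxT (inv_norm_of_norm hxT) _).mp h1
  have h3 := (invUnder_iff_comp T x hxT (inv_norm_of_norm hxT) _).mp hxϑ
  unfold pm
  funext t
  simp only [Function.comp_apply, Pi.mul_apply]
  rw [← congrFun h2 t, ← congrFun h3 t]
  rfl

/-- If `Φ β'` is `x`-invariant, then `β'` is invariant under the image of `x`. -/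
theorem inv_of_Φ_inv (d : PData Q T K θ ϑ) {x : Γ} (hxQ : ∀ q ∈ Q, x * q * x⁻¹ ∈ Q)
    (hxT : ∀ t ∈ T, x * t * x⁻¹ ∈ T) (hxK : ∀ k ∈ K, x * k * x⁻¹ ∈ K)
    (hxθ : InvUnder Q x (θ : Q → ℂ)) (hxϑ : InvUnder T x (ϑ : T → ℂ))
    (β' : IrrCharacter (img Q T)) (hΦ : InvUnder K x (d.Φ (β' : img Q T → ℂ))) :
    InvUnder (img Q T) (quoMk Q ⟨x, mem_normalizer_of_norm hxQ⟩) (β' : img Q T → ℂ) := by
  have hs := d.img_norm_elt hxQ hxT
  rw [invUnder_iff_comp (img Q T) _ hs (inv_norm_of_norm hs)]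
  obtain ⟨β'', hβ''⟩ : ∃ β'' : IrrCharacter (img Q T), (β'' : img Q T → ℂ) =
      (β' : img Q T → ℂ) ∘ conjN (img Q T) _ hs (inv_norm_of_norm hs) :=
    ⟨⟨_, irr_comp_equiv _ β'.2⟩, rfl⟩
  rw [← hβ'']
  congr 1
  apply d.Φ_inj
  have h1 := (invUnder_iff_comp K x hxK (inv_norm_of_norm hxK) _).mp hΦ
  unfold Φ at h1 ⊢
  rw [← d.indA_conj hxQ hxT hxK hxθ _ (isIrr_pm d.hQT d.hTN ϑ d.hres β') (d.pm_over β')] at h1
  rw [← h1]
  congr 1
  have h3 := (invUnder_iff_comp T x hxT (inv_norm_of_norm hxT) _).mp hxϑ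
  unfold pm
  rw [hβ'', pull_conj d.hTN ⟨x, mem_normalizer_of_norm hxQ⟩ hxT _ hs]
  funext t
  simp only [Function.comp_apply, Pi.mul_apply]
  rw [← congrFun h3 t]
  rfl

end PData

end Cfsg.Agent.Lib.H24.RelGlaub
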