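import Cfsg.Agent.Lib.H24.RelGlaubH

/-!
# The multiplicity formula (helper24)

For `Q ⊴ K`, `C ≤ K` containing `Q`, `θ ∈ Irr(Q)` with inertia groups `T` in `K` and `D ≤ T` in
`C`, and an extension `ϑ ∈ Irr(T)` of `θ`:
`[((β' ϑ)^K)_C, (γ' ϑ_D)^C] = [β'_{D/Q}, γ']` for `β' ∈ Irr(T/Q)`, `γ' ∈ Irr(D/Q)`.
-/

set_option autoImplicit false

universe u

namespace Cfsg.Agent.Lib.H24.RelGlaub

open Cfsg Cfsg.Agent.Lib.L0 Cfsg.Agent.Lib.H23 Cfsg.Agent.Lib.H8 Cfsg.Agent.Lib.H24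
open Cfsg.Agent.Lib.H24.Glaub
open scoped ComplexConjugate

variable {Γ : Type u} [Group Γ] [Fintype Γ]

variable {Q T K D C : Subgroup Γ} [Fintype Q] [Fintype T] [Fintype K] [Fintype D] [Fintype C]
  [Fintype (img Q T)] [Fintype (img Q D)]

theorem mult_formula {θ : IrrCharacter Q} {ϑ : IrrCharacter T} {ϑD : IrrCharacter D}
    (dK : PData Q T K θ ϑ) (dC : PData Q D C θ ϑD) (hCK : C ≤ K) (hDT : D ≤ T)
    (hϑD : (ϑD : D → ℂ) = res hDT (ϑ : T → ℂ))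
    (β' : IrrCharacter (img Q T)) (γ' : IrrCharacter (img Q D)) :
    classInner (res hCK (dK.Φ (β' : img Q T → ℂ))) (dC.Φ (γ' : img Q D → ℂ)) =
      classInner (res (img_mono Q hDT) (β' : img Q T → ℂ)) (γ' : img Q D → ℂ) := by
  classical
  obtain ⟨ψ, hψdef⟩ : ∃ ψ : T → ℂ, ψ = pm dK.hTN (ϑ : T → ℂ) (β' : img Q T → ℂ) := ⟨_, rfl⟩
  obtain ⟨η, hηdef⟩ : ∃ η : D → ℂ, η = pm dC.hTN (ϑD : D → ℂ) (γ' : img Q D → ℂ) := ⟨_, rfl⟩
  have hψ : IsIrrCharacter T ψ := by rw [hψdef]; exact isIrr_pm dK.hQT dK.hTN ϑ dK.hres β'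
  have hη : IsIrrCharacter D η := by rw [hηdef]; exact isIrr_pm dC.hQT dC.hTN ϑD dC.hres γ'
  obtain ⟨hχ, hχmult⟩ := dK.Φ_irr β'
  have hΦK : dK.Φ (β' : img Q T → ℂ) = indA dK.hTK ψ := by rw [hψdef]; rfl
  have hΦC : dC.Φ (γ' : img Q D → ℂ) = indA dC.hTK η := by rw [hηdef]; rfl
  rw [hΦK] at hχ hχmult ⊢
  rw [hΦC]
  obtain ⟨χ, hχdef⟩ : ∃ χ : K → ℂ, χ = indA dK.hTK ψ := ⟨_, rfl⟩
  rw [← hχdef] at hχ hχmult ⊢
  have hχc := isCharacter_of_irr hχ
  -- Step 1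
  have hcfC : IsClassFunction C (res hCK χ) :=
    isClassFunction_of_isCharacter (isCharacter_res hCK hχc)
  rw [← classInner_conj_symm, frob_amb dC.hTK η (res hCK χ) hcfC]
  have hres1 : res dC.hTK (res hCK χ) = res hDT (res dK.hTK χ) := rfl
  rw [hres1]
  -- Step 2
  have hne : classInner (res dK.hTK χ) ψ ≠ 0 := by
    rw [← classInner_conj_symm, ← frob_amb dK.hTK ψ χ (isClassFunction_of_isCharacter hχc),
      ← hχdef, irr_classInner_self hχ, map_one]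
    exact one_ne_zero
  obtain ⟨Δ, hΔ, hsum⟩ := exists_add_of_constituent (isCharacter_res dK.hTK hχc) hψ hne
  -- Step 3
  have hψθ : classInner (res dK.hQT ψ) (θ : Q → ℂ) = (β' : img Q T → ℂ) 1 := by
    have h2 := classInner_res_pm dK.hQT dK.hTN (ϑ : T → ℂ) dK.hres (β' : img Q T → ℂ)
    rw [dK.hϑ] at h2
    rw [hψdef]
    exact h2
  have hΔθ : classInner (res dK.hQT Δ) (θ : Q → ℂ) = 0 := by
    have h3 : res (dK.hQT.trans dK.hTK) χ = res dK.hQT ψ + res dK.hQT Δ := by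
      have h4 : res (dK.hQT.trans dK.hTK) χ = res dK.hQT (res dK.hTK χ) := rfl
      rw [h4, hsum]
      rfl
    rw [h3, classInner_add_left, hψθ] at hχmult
    exact left_eq_add.mp hχmult.symm
  -- Step 4
  have hηΔ : classInner η (res hDT Δ) = 0 := by
    by_contra h
    have h' : classInner (res hDT Δ) η ≠ 0 := by
      intro h0
      apply h
      rw [← classInner_conj_symm, h0, map_zero]
    obtain ⟨Δ', hΔ', hsum'⟩ := exists_add_of_constituent (isCharacter_res hDT hΔ) hη h'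
    have h5 : res dK.hQT Δ = res dC.hQT η + res dC.hQT Δ' := by
      have h6 : res dK.hQT Δ = res dC.hQT (res hDT Δ) := rfl
      rw [h6, hsum']
      rfl
    have hηθ : classInner (res dC.hQT η) (θ : Q → ℂ) = (γ' : img Q D → ℂ) 1 := by
      have h2 := classInner_res_pm dC.hQT dC.hTN (ϑD : D → ℂ) dC.hres (γ' : img Q D → ℂ)
      rw [dC.hϑ] at h2
      rw [hηdef]
      exact h2
    obtain ⟨n, hn⟩ := classInner_char_irr_nat (isCharacter_res dC.hQT hΔ') θ.2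
    obtain ⟨m, hm0, hm⟩ := irr_one_eq γ'
    rw [h5, classInner_add_left, hηθ, hn, hm] at hΔθ
    have h7 : m + n = 0 := by exact_mod_cast hΔθ
    omega
  -- Step 5
  have hresψ : res hDT ψ = pm dC.hTN (ϑD : D → ℂ) (res (img_mono Q hDT) (β' : img Q T → ℂ)) := by
    rw [hψdef]
    unfold pm
    rw [hϑD]
    rfl
  rw [hsum]
  have h8 : res hDT (ψ + Δ) = res hDT ψ + res hDT Δ := rfl
  rw [h8, classInner_add_right, hηΔ, add_zero, hresψ, hηdef]
  unfold pm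
  rw [gall_iso dC.hQT dC.hTN ϑD dC.hres, classInner_conj_symm]

end Cfsg.Agent.Lib.H24.RelGlaub
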