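import Cfsg.Agent.Lib.H24.RelGlaubI

/-!
# The relative Glauberman setting (helper24)

`RG p P K Q C`: `P` a `p`-group normalising `K`, `Q` the normal Sylow `p`-subgroup of `K`,
`C / Q = C_{K/Q}(P)`.  For a `P`-invariant `θ ∈ Irr(Q)`, `exists_setup` produces the inertia groups
`T` (in `K`) and `D` (in `C`), a `P`-invariant extension `ϑ` of `θ` to `T`, and the Glauberman
correspondence between `Irr_P(T/Q)` and `Irr(D/Q)`.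
-/

set_option autoImplicit false

universe u

namespace Cfsg.Agent.Lib.H24.RelGlaub

open Cfsg Cfsg.Agent.Lib.L0 Cfsg.Agent.Lib.H23 Cfsg.Agent.Lib.H8 Cfsg.Agent.Lib.H24
open Cfsg.Agent.Lib.H24.Glaub
open scoped ComplexConjugate

variable {Γ : Type u} [Group Γ] [Fintype Γ]

/-- The relative Glauberman setting. -/
structure RG (p : ℕ) (P K Q C : Subgroup Γ) : Prop where
  hp : p.Prime
  hP : IsPGroup p P
  hPK : ∀ x ∈ P, ∀ k ∈ K, x * k * x⁻¹ ∈ K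
  hPQ : ∀ x ∈ P, ∀ q ∈ Q, x * q * x⁻¹ ∈ Q
  hQK : Q ≤ K
  hKQ : ∀ k ∈ K, ∀ q ∈ Q, k * q * k⁻¹ ∈ Q
  hQp : IsPGroup p Q
  hidx : ¬ p ∣ Q.relIndex K
  hC : ∀ k : Γ, k ∈ C ↔ k ∈ K ∧ ∀ x ∈ P, x * k * x⁻¹ * k⁻¹ ∈ Q

namespace RG

variable {p : ℕ} {P K Q C : Subgroup Γ}

omit [Fintype Γ] in
theorem hCK (h : RG p P K Q C) : C ≤ K := fun c hc => ((h.hC c).mp hc).1

omit [Fintype Γ] in
theorem hQC (h : RG p P K Q C) : Q ≤ C := by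
  intro q hq
  rw [h.hC]
  refine ⟨h.hQK hq, fun x hx => ?_⟩
  exact Q.mul_mem (h.hPQ x hx q hq) (Q.inv_mem hq)

omit [Fintype Γ] in
theorem hCQ (h : RG p P K Q C) : ∀ c ∈ C, ∀ q ∈ Q, c * q * c⁻¹ ∈ Q :=
  fun c hc => h.hKQ c (h.hCK hc)

omit [Fintype Γ] in
theorem hPC (h : RG p P K Q C) : ∀ x ∈ P, ∀ c ∈ C, x * c * x⁻¹ ∈ C := by
  intro x hx c hc
  have hc' := (h.hC c).mp hc
  rw [h.hC]
  refine ⟨h.hPK x hx c hc'.1, fun y hy => ?_⟩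
  have h1 := hc'.2 (y * x) (P.mul_mem hy hx)
  have h2 := hc'.2 x hx
  have h3 : y * (x * c * x⁻¹) * y⁻¹ * (x * c * x⁻¹)⁻¹ =
      (y * x * c * (y * x)⁻¹ * c⁻¹) * (x * c * x⁻¹ * c⁻¹)⁻¹ := by group
  rw [h3]
  exact Q.mul_mem h1 (Q.inv_mem h2)

omit [Fintype Γ] in
theorem hidxC (h : RG p P K Q C) : ¬ p ∣ Q.relIndex C := by
  intro hdvd
  apply h.hidx
  rw [← Subgroup.relIndex_mul_relIndex Q C K h.hQC h.hCK]
  exact hdvd.mul_right _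

/-- The setting restricted to `C`. -/
theorem toC (h : RG p P K Q C) : RG p P C Q C where
  hp := h.hp
  hP := h.hP
  hPK := h.hPC
  hPQ := h.hPQ
  hQK := h.hQC
  hKQ := h.hCQ
  hQp := h.hQp
  hidx := h.hidxC
  hC := by
    intro k
    constructor
    · intro hk
      exact ⟨hk, ((h.hC k).mp hk).2⟩
    · rintro ⟨hk, -⟩
      exact hk

variable [Fintype Q] [Fintype K] [Fintype C]

/-- The data attached to a `P`-invariant `θ ∈ Irr(Q)`, auxiliary form. -/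
theorem exists_setup_aux (h : RG p P K Q C) (θ : IrrCharacter Q)
    (hθ : ∀ x ∈ P, InvUnder Q x (θ : Q → ℂ)) (T D : Subgroup Γ)
    (hTdef : T = K ⊓ invStab Q (θ : Q → ℂ)) (hDdef : D = C ⊓ invStab Q (θ : Q → ℂ))
    (hDT : D ≤ T) [Fintype T] [Fintype D] [Fintype (img Q T)] [Fintype (img Q D)] :
    ∃ (ϑ : IrrCharacter T) (ϑD : IrrCharacter D),
        PData Q T K θ ϑ ∧ PData Q D C θ ϑD ∧ (ϑD : D → ℂ) = res hDT (ϑ : T → ℂ) ∧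
        (∀ x ∈ P, ∀ t ∈ T, x * t * x⁻¹ ∈ T) ∧ (∀ x ∈ P, ∀ t ∈ D, x * t * x⁻¹ ∈ D) ∧
        (∀ x ∈ P, InvUnder T x (ϑ : T → ℂ)) ∧ (∀ x ∈ P, InvUnder D x (ϑD : D → ℂ)) ∧
        (∀ s ∈ img Q P, ∀ g ∈ img Q D, s * g * s⁻¹ = g) ∧
        GCorr p (img_mono Q hDT) (fun χ => ∀ s ∈ img Q P, InvUnder (img Q T) s χ) := by
  classical
  have hKN : K ≤ NQ Q := le_NQ_of_norm h.hKQ
  have hPN : P ≤ NQ Q := le_NQ_of_norm h.hPQ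
  have hTK : T ≤ K := by rw [hTdef]; exact inf_le_left
  have hDC : D ≤ C := by rw [hDdef]; exact inf_le_left
  have hTmem : ∀ t : Γ, t ∈ T ↔ t ∈ K ∧ InvUnder Q t (θ : Q → ℂ) := by
    intro t
    rw [hTdef, Subgroup.mem_inf, mem_invStab]
    constructor
    · rintro ⟨h1, -, h3⟩
      exact ⟨h1, h3⟩
    · rintro ⟨h1, h3⟩
      exact ⟨h1, hKN h1, h3⟩
  have hDmem : ∀ t : Γ, t ∈ D ↔ t ∈ C ∧ InvUnder Q t (θ : Q → ℂ) := by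
    intro t
    rw [hDdef, Subgroup.mem_inf, mem_invStab]
    constructor
    · rintro ⟨h1, -, h3⟩
      exact ⟨h1, h3⟩
    · rintro ⟨h1, h3⟩
      exact ⟨h1, hKN (h.hCK h1), h3⟩
  have hQinv : ∀ q ∈ Q, InvUnder Q q (θ : Q → ℂ) := fun q hq =>
    invUnder_of_mem hq (isClassFunction_of_isCharacter (isCharacter_of_irr θ.2))
  have hQT : Q ≤ T := fun q hq => (hTmem q).mpr ⟨h.hQK hq, hQinv q hq⟩
  have hQD : Q ≤ D := fun q hq => (hDmem q).mpr ⟨h.hQC hq, hQinv q hq⟩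
  have hPstab : ∀ x ∈ P, x ∈ invStab Q (θ : Q → ℂ) := fun x hx =>
    ⟨mem_normalizer_of_norm (h.hPQ x hx), hθ x hx⟩
  have hPT : ∀ x ∈ P, ∀ t ∈ T, x * t * x⁻¹ ∈ T := by
    intro x hx t ht
    rw [hTdef] at ht ⊢
    exact ⟨h.hPK x hx t ht.1, Subgroup.mul_mem _ (Subgroup.mul_mem _ (hPstab x hx) ht.2)
      (Subgroup.inv_mem _ (hPstab x hx))⟩
  have hPD : ∀ x ∈ P, ∀ t ∈ D, x * t * x⁻¹ ∈ D := by
    intro x hx t ht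
    rw [hDdef] at ht ⊢
    exact ⟨h.hPC x hx t ht.1, Subgroup.mul_mem _ (Subgroup.mul_mem _ (hPstab x hx) ht.2)
      (Subgroup.inv_mem _ (hPstab x hx))⟩
  have hTQ : ∀ t ∈ T, ∀ q ∈ Q, t * q * t⁻¹ ∈ Q := fun t ht => h.hKQ t (hTK ht)
  have hidxT : ¬ p ∣ Q.relIndex T := by
    intro hdvd
    apply h.hidx
    rw [← Subgroup.relIndex_mul_relIndex Q T K hQT hTK]
    exact hdvd.mul_right _
  have hθT : ∀ t ∈ T, InvUnder Q t (θ : Q → ℂ) := fun t ht => ((hTmem t).mp ht).2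
  have hDfix : ∀ t : Γ, t ∈ D ↔ t ∈ T ∧ ∀ x ∈ P, x * t * x⁻¹ * t⁻¹ ∈ Q := by
    intro t
    rw [hDmem, hTmem, h.hC]
    constructor
    · rintro ⟨⟨h1, h2⟩, h3⟩
      exact ⟨⟨h1, h3⟩, h2⟩
    · rintro ⟨⟨h1, h3⟩, h2⟩
      exact ⟨⟨h1, h2⟩, h3⟩
  obtain ⟨ϑ, hϑres, hϑP⟩ := exists_inv_extension h.hp hQT hTQ hPT h.hPQ h.hQp hidxT θ hθT hθ
  have hϑDirr : IsIrrCharacter D (res hDT (ϑ : T → ℂ)) := by
    apply isIrrCharacter_of_restrict_irr (Q.subgroupOf D)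
      (isCharacter_res hDT (isCharacter_of_irr ϑ.2))
    have h1 : (fun n : Q.subgroupOf D => res hDT (ϑ : T → ℂ) n) =
        (θ : Q → ℂ) ∘ eSub hQD := by
      rw [← hϑres]
      rfl
    rw [h1]
    exact irr_comp_equiv _ θ.2
  refine ⟨ϑ, ⟨res hDT (ϑ : T → ℂ), hϑDirr⟩, ⟨hQT, hTK, h.hKQ, hTmem, hϑres⟩,
    ⟨hQD, hDC, h.hCQ, hDmem, ?_⟩, rfl, hPT, hPD, hϑP, ?_, ?_, ?_⟩
  · rw [← hϑres]
    rfl
  · intro x hx g g' hgg'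
    exact hϑP x hx ⟨g, hDT g.2⟩ ⟨g', hDT g'.2⟩ hgg'
  · intro s hs g hg
    have h1 := img_fixed_eq hDT hPN hDfix
    rw [h1, Subgroup.mem_inf, Subgroup.mem_centralizer_iff] at hg
    rw [hg.2 s hs]
    group
  · exact quot_corr h.hp (hTK.trans hKN) hPN hPT h.hP hidxT hDT hDfix

/-- The data attached to a `P`-invariant `θ ∈ Irr(Q)`. -/
theorem exists_setup (h : RG p P K Q C) (θ : IrrCharacter Q)
    (hθ : ∀ x ∈ P, InvUnder Q x (θ : Q → ℂ)) :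
    ∃ (T D : Subgroup Γ) (hDT : D ≤ T), ∀ [Fintype T] [Fintype D] [Fintype (img Q T)]
      [Fintype (img Q D)], ∃ (ϑ : IrrCharacter T) (ϑD : IrrCharacter D),
        PData Q T K θ ϑ ∧ PData Q D C θ ϑD ∧ (ϑD : D → ℂ) = res hDT (ϑ : T → ℂ) ∧
        (∀ x ∈ P, ∀ t ∈ T, x * t * x⁻¹ ∈ T) ∧ (∀ x ∈ P, ∀ t ∈ D, x * t * x⁻¹ ∈ D) ∧
        (∀ x ∈ P, InvUnder T x (ϑ : T → ℂ)) ∧ (∀ x ∈ P, InvUnder D x (ϑD : D → ℂ)) ∧
        (∀ s ∈ img Q P, ∀ g ∈ img Q D, s * g * s⁻¹ = g) ∧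
        GCorr p (img_mono Q hDT) (fun χ => ∀ s ∈ img Q P, InvUnder (img Q T) s χ) := by
  refine ⟨K ⊓ invStab Q (θ : Q → ℂ), C ⊓ invStab Q (θ : Q → ℂ), inf_le_inf_right _ h.hCK, ?_⟩
  intro _ _ _ _
  exact h.exists_setup_aux θ hθ _ _ rfl rfl _

end RG

end Cfsg.Agent.Lib.H24.RelGlaub
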