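import Cfsg.Agent.Lib.H24.RelGlaubJ

/-!
# The package attached to an invariant `θ ∈ Irr(Q)` (helper24)

`exists_package`: in the relative Glauberman setting, for a `P`-invariant `θ ∈ Irr(Q)` there are
parametrisations `ΦK : Irr(T/Q) → Irr(K)`, `ΦC : Irr(D/Q) → Irr(C)` of the characters over `θ`,
compatible with `P`-invariance and multiplicities, together with the Glauberman correspondence
between `Irr_P(T/Q)` and `Irr(D/Q)`.
-/

set_option autoImplicit false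

universe u

namespace Cfsg.Agent.Lib.H24.RelGlaub

open Cfsg Cfsg.Agent.Lib.L0 Cfsg.Agent.Lib.H23 Cfsg.Agent.Lib.H8 Cfsg.Agent.Lib.H24
open Cfsg.Agent.Lib.H24.Glaub
open scoped ComplexConjugate

variable {Γ : Type u} [Group Γ] [Fintype Γ]

namespace RG

variable {p : ℕ} {P K Q C : Subgroup Γ} [Fintype Q] [Fintype K] [Fintype C]

theorem exists_package (h : RG p P K Q C) (θ : IrrCharacter Q)
    (hθ : ∀ x ∈ P, InvUnder Q x (θ : Q → ℂ)) :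
    ∃ (T D : Subgroup Γ) (hDT : D ≤ T), ∀ [Fintype (img Q D)],
      ∃ (ΦK : IrrCharacter (img Q T) → IrrCharacter K)
        (ΦC : IrrCharacter (img Q D) → IrrCharacter C) (Inv' : (img Q T → ℂ) → Prop),
        GCorr p (img_mono Q hDT) Inv' ∧ Function.Injective ΦC ∧
        (∀ χ : IrrCharacter K, resMult h.hQK (χ : K → ℂ) (θ : Q → ℂ) ≠ 0 → ∃ β', ΦK β' = χ) ∧
        (∀ ξ : IrrCharacter C, resMult h.hQC (ξ : C → ℂ) (θ : Q → ℂ) ≠ 0 → ∃ γ', ΦC γ' = ξ) ∧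
        (∀ β' : IrrCharacter (img Q T), Inv' (β' : img Q T → ℂ) ↔
          ∀ x ∈ P, InvUnder K x ((ΦK β' : IrrCharacter K) : K → ℂ)) ∧
        (∀ γ' : IrrCharacter (img Q D), ∀ x ∈ P, InvUnder C x ((ΦC γ' : IrrCharacter C) : C → ℂ)) ∧
        (∀ (β' : IrrCharacter (img Q T)) (γ' : IrrCharacter (img Q D)),
          resMult h.hCK ((ΦK β' : IrrCharacter K) : K → ℂ) ((ΦC γ' : IrrCharacter C) : C → ℂ) =
            resMult (img_mono Q hDT) (β' : img Q T → ℂ) (γ' : img Q D → ℂ)) := by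
  classical
  obtain ⟨T, D, hDT, hs⟩ := h.exists_setup θ hθ
  refine ⟨T, D, hDT, ?_⟩
  intro instD'
  letI : Fintype T := Fintype.ofFinite _
  letI : Fintype D := Fintype.ofFinite _
  letI : Fintype (img Q T) := Fintype.ofFinite _
  obtain ⟨ϑ, ϑD, dK, dC, hϑD, hPT, hPD, hϑP, hϑDP, hcent, corr⟩ := hs
  refine ⟨fun β' => ⟨dK.Φ (β' : img Q T → ℂ), (dK.Φ_irr β').1⟩,
    fun γ' => ⟨dC.Φ (γ' : img Q D → ℂ), (dC.Φ_irr γ').1⟩,
    fun χ => ∀ s ∈ img Q P, InvUnder (img Q T) s χ, corr, ?_, ?_, ?_, ?_, ?_, ?_⟩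
  · intro γ₁ γ₂ h12
    exact dC.Φ_inj γ₁ γ₂ (congrArg Subtype.val h12)
  · intro χ hχ
    obtain ⟨β', hβ'⟩ := dK.Φ_surj χ ((resMult_ne_zero_iff h.hQK χ θ).mp hχ)
    exact ⟨β', Subtype.ext hβ'⟩
  · intro ξ hξ
    obtain ⟨γ', hγ'⟩ := dC.Φ_surj ξ ((resMult_ne_zero_iff h.hQC ξ θ).mp hξ)
    exact ⟨γ', Subtype.ext hγ'⟩
  · intro β'
    constructor
    · intro hβ' x hx
      exact dK.Φ_inv_of_inv (h.hPQ x hx) (hPT x hx) (h.hPK x hx) (hθ x hx) (hϑP x hx) β'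
        (hβ' _ ((mem_img Q).mpr ⟨⟨x, mem_normalizer_of_norm (h.hPQ x hx)⟩, hx, rfl⟩))
    · intro hΦ s hs
      obtain ⟨x, hx, rfl⟩ := (mem_img Q).mp hs
      exact dK.inv_of_Φ_inv (h.hPQ x hx) (hPT x hx) (h.hPK x hx) (hθ x hx) (hϑP x hx) β'
        (hΦ x hx)
  · intro γ' x hx
    apply dC.Φ_inv_of_inv (h.hPQ x hx) (hPD x hx) (h.hPC x hx) (hθ x hx) (hϑDP x hx) γ'
    intro g g' hgg'
    have h1 := hcent _ ((mem_img Q).mpr ⟨⟨x, mem_normalizer_of_norm (h.hPQ x hx)⟩, hx, rfl⟩)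
      g g.2
    rw [h1] at hgg'
    rw [Subtype.ext hgg']
  · intro β' γ'
    have h1 := mult_formula dK dC h.hCK hDT hϑD β' γ'
    have h2 := resMult_spec h.hCK (isCharacter_of_irr (dK.Φ_irr β').1) (dC.Φ_irr γ').1
    have h3 := resMult_spec (img_mono Q hDT) (isCharacter_of_irr β'.2) γ'.2
    rw [h1, ← h3] at h2
    exact_mod_cast h2

end RG

end Cfsg.Agent.Lib.H24.RelGlaub
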