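import Cfsg.Statements.S2772
import Cfsg.Agent.S2800

/-!
# S2772, pieces (Q5) `q_ge_five` and (Q2) `q_eq_two` (helper24, for helper5)
-/

set_option autoImplicit false
open Cfsg

namespace Cfsg.Agent.Lib.H24.S2772

open Cfsg.Agent.Lib Cfsg.Agent.Lib.L0

section general

variable {K : Type*} [Group K]

theorem pCore_isPGroup_aux (p : ℕ) [Fact p.Prime] : IsPGroup p (Cfsg.pCore p K) :=
  Sylow.sSup_of_normal _ (fun _ hH => hH.2) (fun _ hH => hH.1)

/-- the normaliser of `T` normalises `Z(T)` -/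
theorem normalizer_le_normalizer_zOf (T : Subgroup K) :
    Subgroup.normalizer (T : Set K) ≤ Subgroup.normalizer (zOf T : Set K) := by
  have key : ∀ n ∈ Subgroup.normalizer (T : Set K), ∀ x ∈ zOf T, n * x * n⁻¹ ∈ zOf T := by
    intro n hn x hx
    rw [mem_zOf] at hx ⊢
    rw [Subgroup.mem_normalizer_iff] at hn
    refine ⟨(hn x).1 hx.1, ?_⟩
    intro s hs
    have hs' : n⁻¹ * s * n ∈ T := by
      rw [hn]; simpa [mul_assoc] using hs
    have := hx.2 _ hs'
    calc s * (n * x * n⁻¹) = n * ((n⁻¹ * s * n) * x) * n⁻¹ := by simp [mul_assoc]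
      _ = n * (x * (n⁻¹ * s * n)) * n⁻¹ := by rw [this]
      _ = n * x * n⁻¹ * s := by simp [mul_assoc]
  intro n hn
  rw [Subgroup.mem_normalizer_iff]
  intro x
  constructor
  · exact key n hn x
  · intro hx
    have := key n⁻¹ (Subgroup.inv_mem _ hn) _ hx
    simpa [mul_assoc] using this

end general

section counting

variable {K : Type*} [Group K] [Finite K]

theorem card_eq_of_dihedral (q : ℕ) (e : K ⧸ Cfsg.pCore 2 K ≃* DihedralGroup q) :
    Nat.card K = 2 * q * Nat.card (Cfsg.pCore 2 K) := by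
  rw [Subgroup.card_eq_card_quotient_mul_card_subgroup (Cfsg.pCore 2 K), Nat.card_congr e.toEquiv,
    DihedralGroup.nat_card]

/-- `|K| = 2^(a+1) q` -/
theorem exists_card_eq (q : ℕ) (e : K ⧸ Cfsg.pCore 2 K ≃* DihedralGroup q) :
    ∃ a : ℕ, Nat.card (Cfsg.pCore 2 K) = 2 ^ a ∧ Nat.card K = 2 ^ (a + 1) * q := by
  have : Fact (Nat.Prime 2) := ⟨Nat.prime_two⟩
  obtain ⟨a, ha⟩ := IsPGroup.iff_card.1 (pCore_isPGroup_aux (K := K) 2)
  refine ⟨a, ha, ?_⟩
  rw [card_eq_of_dihedral q e, ha, pow_succ]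
  ring

theorem sylow_index_eq (q : ℕ) (hq : q.Prime) (hq2 : q ≠ 2)
    (e : K ⧸ Cfsg.pCore 2 K ≃* DihedralGroup q) (S : Sylow 2 K) : (S : Subgroup K).index = q := by
  have : Fact (Nat.Prime 2) := ⟨Nat.prime_two⟩
  obtain ⟨a, _, hK⟩ := exists_card_eq q e
  obtain ⟨k, hk⟩ := IsPGroup.iff_card.1 S.isPGroup'
  have hmul := (S : Subgroup K).card_mul_index
  rw [hk, hK] at hmul
  have hodd : ¬ 2 ∣ (S : Subgroup K).index := S.not_dvd_index
  have hcop : Nat.Coprime (S : Subgroup K).index (2 ^ (a + 1)) :=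
    Nat.Coprime.pow_right _ ((Nat.Prime.coprime_iff_not_dvd Nat.prime_two).2 hodd).symm
  have hdvd : (S : Subgroup K).index ∣ 2 ^ (a + 1) * q := ⟨2 ^ k, by rw [← hmul]; ring⟩
  have hdq : (S : Subgroup K).index ∣ q := hcop.dvd_of_dvd_mul_left hdvd
  rcases (Nat.dvd_prime hq).1 hdq with h1 | h1
  · exfalso
    rw [h1, mul_one] at hmul
    have : q ∣ 2 ^ k := ⟨2 ^ (a + 1), by rw [hmul]; ring⟩
    have := (Nat.prime_dvd_prime_iff_eq hq Nat.prime_two).1 (hq.dvd_of_dvd_pow this)
    exact hq2 this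
  · exact h1

/-- the subgroups between a Sylow 2-subgroup and `K` -/
theorem eq_or_eq_top_of_sylow_le (q : ℕ) (hq : q.Prime) (hq2 : q ≠ 2)
    (e : K ⧸ Cfsg.pCore 2 K ≃* DihedralGroup q) (S : Sylow 2 K) (L : Subgroup K)
    (hSL : (S : Subgroup K) ≤ L) : L = S ∨ L = ⊤ := by
  have h := Subgroup.relIndex_mul_index hSL
  rw [sylow_index_eq q hq hq2 e S] at h
  have hd : L.index ∣ q := ⟨_, by rw [← h, mul_comm]⟩
  rcases (Nat.dvd_prime hq).1 hd with h1 | h1
  · right; exact Subgroup.index_eq_one.1 h1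
  · left
    rw [h1] at h
    have h2 : (S : Subgroup K).relIndex L = 1 := by
      have hq0 : 0 < q := hq.pos
      exact Nat.eq_of_mul_eq_mul_right hq0 (by rw [h, one_mul])
    exact le_antisymm (Subgroup.relIndex_eq_one.1 h2) hSL

theorem not_involves_S4 (q : ℕ) (hq : q.Prime) (hq5 : 5 ≤ q)
    (e : K ⧸ Cfsg.pCore 2 K ≃* DihedralGroup q) : ¬ Cfsg.Involves (Equiv.Perm (Fin 4)) K := by
  rintro ⟨A, R, hR, ⟨f⟩⟩
  obtain ⟨a, _, hK⟩ := exists_card_eq q e
  have h24 : Nat.card (↥A ⧸ R.subgroupOf A) = 24 := by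
    rw [Nat.card_congr f.toEquiv, Nat.card_perm, Nat.card_eq_fintype_card, Fintype.card_fin]
    rfl
  have h1 : 24 ∣ Nat.card A := by
    rw [← h24]; exact (R.subgroupOf A).card_quotient_dvd_card
  have h2 : Nat.card A ∣ Nat.card K := A.card_subgroup_dvd_card
  have h3 : 3 ∣ 2 ^ (a + 1) * q := by
    rw [← hK]; exact (Dvd.dvd.trans (by norm_num) h1).trans h2
  rcases (Nat.Prime.dvd_mul Nat.prime_three).1 h3 with h | h
  · have := Nat.Prime.dvd_of_dvd_pow Nat.prime_three h
    omega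
  · have := (Nat.prime_dvd_prime_iff_eq Nat.prime_three hq).1 h
    omega

end counting

section main

variable {H : Type*} [Group H] [Finite H] [IsSimpleGroup H]

/-- a nontrivial subgroup `X ≤ G` normalised by `G` and by `N_H(S')` cannot exist -/
theorem false_of_common_normal (G : Subgroup H) (hG : IsCoatom G) (S' X : Subgroup H)
    (hN : ¬ Subgroup.normalizer (S' : Set H) ≤ G) (hX : X ≠ ⊥) (hXG : X ≤ G)
    (h1 : G ≤ Subgroup.normalizer (X : Set H))
    (h2 : Subgroup.normalizer (S' : Set H) ≤ Subgroup.normalizer (X : Set H)) : False := by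
  have hlt : G < Subgroup.normalizer (X : Set H) := by
    refine lt_of_le_of_ne h1 ?_
    intro he
    apply hN
    rw [he]; exact h2
  have htop : Subgroup.normalizer (X : Set H) = ⊤ := hG.2 _ hlt
  have hXn : X.Normal := Subgroup.normalizer_eq_top_iff.1 htop
  rcases hXn.eq_bot_or_eq_top with h | h
  · exact hX h
  · apply hG.1
    rw [eq_top_iff, ← h]; exact hXG

end main

section final

theorem le_normalizer_of_forall_conj_mem {K : Type*} [Group K] {P X : Subgroup K}
    (h : ∀ p ∈ P, ∀ x ∈ X, p * x * p⁻¹ ∈ X) : P ≤ Subgroup.normalizer (X : Set K) := by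
  intro p hp
  rw [Subgroup.mem_normalizer_iff]
  intro x
  constructor
  · exact h p hp x
  · intro hx
    have := h p⁻¹ (inv_mem hp) _ hx
    simpa [mul_assoc] using this

theorem le_normalizer_map_subtype {H : Type*} [Group H] (G : Subgroup H) (Y : Subgroup ↥G)
    (hY : Subgroup.normalizer (Y : Set ↥G) = ⊤) :
    G ≤ Subgroup.normalizer ((Y.map G.subtype : Subgroup H) : Set H) := by
  have hYn : Y.Normal := Subgroup.normalizer_eq_top_iff.1 hY
  apply le_normalizer_of_forall_conj_mem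
  rintro g hg _ ⟨y, hy, rfl⟩
  refine ⟨(⟨g, hg⟩ : ↥G) * y * (⟨g, hg⟩ : ↥G)⁻¹, hYn.conj_mem y hy _, ?_⟩
  simp

/-- **(Q5)** of S2772: `q ≥ 5` is impossible. -/
theorem q_ge_five {H : Type*} [Group H] [Finite H] [IsSimpleGroup H] (hna : ¬ IsMulCommutative H) (G : Subgroup H) (hG : IsCoatom G) (hchar : Subgroup.centralizer (Cfsg.pCore 2 ↥G : Set ↥G) ≤ Cfsg.pCore 2 ↥G) (S : Sylow 2 ↥G) (hN : ¬ Subgroup.normalizer (((S : Subgroup ↥G).map G.subtype : Subgroup H) : Set H) ≤ G) (q : ℕ) (hq : q.Prime) (hD : Nonempty (↥G ⧸ Cfsg.pCore 2 ↥G ≃* DihedralGroup q)) (hq5 : 5 ≤ q) : False := by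
  obtain ⟨e⟩ := hD
  have : Fact (Nat.Prime 2) := ⟨Nat.prime_two⟩
  have hq2 : q ≠ 2 := by omega
  have hinj : Set.InjOn G.subtype ((S : Subgroup ↥G) : Set ↥G) :=
    fun a _ b _ hab => G.subtype_injective hab
  obtain ⟨a, hOa, hK⟩ := exists_card_eq q e
  -- `S ≠ 1`
  have hSne : (S : Subgroup ↥G) ≠ ⊥ := by
    intro hbot
    have h1 := sylow_index_eq q hq hq2 e S
    rw [hbot, Subgroup.index_bot, hK] at h1
    have h2 : 2 ^ (a + 1) * q = 1 * q := by rw [h1, one_mul]
    have h3 := Nat.eq_of_mul_eq_mul_right hq.pos h2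
    have h4 : 2 ∣ 2 ^ (a + 1) := dvd_pow_self 2 (Nat.succ_ne_zero a)
    rw [h3] at h4
    omega
  have hS'ne : (S : Subgroup ↥G).map G.subtype ≠ ⊥ := by
    intro h
    apply hSne
    rw [eq_bot_iff]
    intro x hx
    have h1 : G.subtype x ∈ (S : Subgroup ↥G).map G.subtype := Subgroup.mem_map_of_mem _ hx
    rw [h, Subgroup.mem_bot] at h1
    rw [Subgroup.mem_bot]
    exact Subtype.ext h1
  have hS'2 : IsPGroup 2 ((S : Subgroup ↥G).map G.subtype) := S.isPGroup'.map G.subtype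
  have hmapG : ∀ Y : Subgroup ↥G, Y.map G.subtype ≤ G := by
    rintro Y _ ⟨x, _, rfl⟩; exact x.2
  have hS4 := not_involves_S4 q hq hq5 e
  -- `C_G(Z(S))`
  have hC : Cfsg.HasNormalPComplement 2 ↥(Subgroup.centralizer
      (((S : Subgroup ↥G) ⊓ Subgroup.centralizer ((S : Subgroup ↥G) : Set ↥G) : Subgroup ↥G) : Set ↥G)) := by
    have hSC : (S : Subgroup ↥G) ≤ Subgroup.centralizer
        (((S : Subgroup ↥G) ⊓ Subgroup.centralizer ((S : Subgroup ↥G) : Set ↥G) : Subgroup ↥G) : Set ↥G) := by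
      intro s hs
      rw [Subgroup.mem_centralizer_iff]
      intro z hz
      exact ((Subgroup.mem_centralizer_iff.1 hz.2) s hs).symm
    rcases eq_or_eq_top_of_sylow_le q hq hq2 e S _ hSC with h | h
    · rw [h]; exact hasNormalPComplement_of_isPGroup S.isPGroup'
    · exfalso
      have hZn : Subgroup.normalizer ((zOf (S : Subgroup ↥G) : Subgroup ↥G) : Set ↥G) = ⊤ := by
        rw [eq_top_iff]
        intro g _
        have hg : g ∈ Subgroup.centralizer ((zOf (S : Subgroup ↥G) : Subgroup ↥G) : Set ↥G) := by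
          have : g ∈ (⊤ : Subgroup ↥G) := Subgroup.mem_top g
          rw [← h] at this
          exact this
        rw [Subgroup.mem_normalizer_iff]
        intro x
        constructor
        · intro hx
          have := (Subgroup.mem_centralizer_iff.1 hg) x hx
          rw [← this, mul_inv_cancel_right]; exact hx
        · intro hx
          have := (Subgroup.mem_centralizer_iff.1 hg) _ hx
          have e2 : x = g * x * g⁻¹ := by
            have h5 : g * x = g * (g * x * g⁻¹) := by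
              rw [← this]; simp [mul_assoc]
            exact mul_left_cancel h5
          rw [e2]; exact hx
      have hX : (zOf (S : Subgroup ↥G)).map G.subtype = zOf ((S : Subgroup ↥G).map G.subtype) :=
        (zOf_map G.subtype (S : Subgroup ↥G) hinj).symm
      apply false_of_common_normal G hG ((S : Subgroup ↥G).map G.subtype)
        ((zOf (S : Subgroup ↥G)).map G.subtype) hN
      · rw [hX]; exact zOf_ne_bot _ hS'2 hS'ne
      · exact hmapG _
      · exact le_normalizer_map_subtype G _ hZn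
      · rw [hX]; exact normalizer_le_normalizer_zOf _
  -- `N_G(J(S))`
  have hNJ : Cfsg.HasNormalPComplement 2 ↥(Subgroup.normalizer
      ((Cfsg.thompsonSubgroupAOf (S : Subgroup ↥G)) : Set ↥G)) := by
    have hSN : (S : Subgroup ↥G) ≤ Subgroup.normalizer
        ((Cfsg.thompsonSubgroupAOf (S : Subgroup ↥G)) : Set ↥G) :=
      Subgroup.le_normalizer.trans (H14.NPCG.normalizer_le_normalizer_thompsonSubgroupAOf _)
    rcases eq_or_eq_top_of_sylow_le q hq hq2 e S _ hSN with h | h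
    · rw [h]; exact hasNormalPComplement_of_isPGroup S.isPGroup'
    · exfalso
      have hX : (Cfsg.thompsonSubgroupAOf (S : Subgroup ↥G)).map G.subtype =
          Cfsg.thompsonSubgroupAOf ((S : Subgroup ↥G).map G.subtype) :=
        (H14.NPCG.thompsonSubgroupAOf_map G.subtype (S : Subgroup ↥G) hinj).symm
      apply false_of_common_normal G hG ((S : Subgroup ↥G).map G.subtype)
        ((Cfsg.thompsonSubgroupAOf (S : Subgroup ↥G)).map G.subtype) hN
      · rw [hX]; exact H14.NPCG.thompsonSubgroupAOf_ne_bot _ hS'2 hS'ne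
      · exact hmapG _
      · exact le_normalizer_map_subtype G _ h
      · rw [hX]; exact H14.NPCG.normalizer_le_normalizer_thompsonSubgroupAOf _
  -- Thompson's normal 2-complement theorem (S2800)
  obtain ⟨P, N, hNn, hcompl⟩ := Cfsg.Agent.S2800.result S (Or.inr hS4) hC hNJ
  have hcardN : Nat.card N = q := by
    rw [← hcompl.index_eq_card, sylow_index_eq q hq hq2 e P]
  have hcop : Nat.Coprime (Nat.card N) (Nat.card (Cfsg.pCore 2 ↥G)) := by
    rw [hcardN, hOa]
    exact Nat.Coprime.pow_right _ ((Nat.coprime_primes hq Nat.prime_two).2 hq2)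
  have hinf : N ⊓ Cfsg.pCore 2 ↥G = ⊥ := Subgroup.inf_eq_bot_of_coprime hcop
  have hcomm : ⁅N, Cfsg.pCore 2 ↥G⁆ = ⊥ := by
    rw [eq_bot_iff, ← hinf]
    exact Subgroup.commutator_le_inf N (Cfsg.pCore 2 ↥G)
  have hle : N ≤ Cfsg.pCore 2 ↥G :=
    (Subgroup.commutator_eq_bot_iff_le_centralizer.1 hcomm).trans hchar
  have hNbot : N = ⊥ := by
    rw [eq_bot_iff, ← hinf]; exact le_inf le_rfl hle
  rw [hNbot, Subgroup.card_bot] at hcardN
  omega

/-- **(Q2)** of S2772: `q = 2` is impossible. -/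
theorem q_eq_two {H : Type*} [Group H] [Finite H] (G : Subgroup H) (hD : Nonempty (↥G ⧸ Cfsg.pCore 2 ↥G ≃* DihedralGroup 2)) : False := by
  obtain ⟨e⟩ := hD
  have : Fact (Nat.Prime 2) := ⟨Nat.prime_two⟩
  obtain ⟨a, hOa, hK⟩ := exists_card_eq 2 e
  -- `G` is a 2-group
  have hG2 : IsPGroup 2 ↥G := IsPGroup.of_card (n := a + 2) (by rw [hK]; ring)
  have htop : Cfsg.pCore 2 ↥G = ⊤ := by
    rw [eq_top_iff]
    exact le_sSup (a := (⊤ : Subgroup ↥G)) ⟨inferInstance, hG2.to_subgroup _⟩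
  rw [htop, Subgroup.card_top] at hOa
  rw [hOa] at hK
  have h1 : 2 ^ a * 1 = 2 ^ a * 4 := by
    calc 2 ^ a * 1 = 2 ^ a := mul_one _
      _ = 2 ^ (a + 1) * 2 := hK
      _ = 2 ^ a * 4 := by ring
  have := Nat.eq_of_mul_eq_mul_left (Nat.pos_of_ne_zero (by positivity)) h1
  omega

end final

end Cfsg.Agent.Lib.H24.S2772
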