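import Mathlib
import Cfsg.Agent.Lib.H9.S3571Defs

/-!
# S3571, GROUP block, piece (C1a3) (helper24, twin seat)

If `A_m ≤ Γ ≤ Sym(m)`, `m ≥ 3`, and `H` is the full stabiliser in `Γ` of the `k`-set `Δ`, with
`|Γ| = n |H|`, then `n = C(m, k)`: `A_m` is transitive on the `k`-subsets (Mathlib
`Set.powersetCard.isPretransitive_alternatingGroup`), orbit-stabiliser, cancel `|H| > 0`.
-/

set_option autoImplicit false

namespace Cfsg.Agent.Lib.H24.S3571C1a3

open Equiv MulAction
open scoped Pointwise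

/-- the general form: only `3 ≤ m`, `A_m ≤ Γ`, `H ≤ Γ`, `|Γ| = n |H|` are used -/
theorem choose_of_stabilizer (m : ℕ) (Γ H : Subgroup (Perm (Fin m))) (n : ℕ) (hm : 3 ≤ m)
    (hA : alternatingGroup (Fin m) ≤ Γ) (hHΓ : H ≤ Γ) (hn : Nat.card ↥Γ = n * Nat.card ↥H)
    (Δ : Finset (Fin m)) (hΔ : ∀ g ∈ Γ, g ∈ H ↔ Δ.image g = Δ) : n = m.choose Δ.card := by
  classical
  -- the point `Δ` of the `k`-subsets
  set k := Δ.card with hk
  let s₀ : Set.powersetCard (Fin m) k := ⟨Δ, Set.powersetCard.mem_iff.mpr rfl⟩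
  -- transitivity of `Γ` on the `k`-subsets
  have hcard : 3 ≤ Nat.card (Fin m) := by simpa using hm
  have hAtr : IsPretransitive (alternatingGroup (Fin m)) (Set.powersetCard (Fin m) k) :=
    Set.powersetCard.isPretransitive_alternatingGroup hcard
  have hΓtr : IsPretransitive ↥Γ (Set.powersetCard (Fin m) k) := by
    refine ⟨fun s t => ?_⟩
    obtain ⟨a, ha⟩ := hAtr.exists_smul_eq s t
    refine ⟨⟨(a : Perm (Fin m)), hA a.2⟩, ?_⟩
    rw [← ha]
    apply Subtype.ext
    rfl
  -- the stabiliser of `s₀` in `Γ` is `H`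
  have hstab : stabilizer ↥Γ s₀ = H.subgroupOf Γ := by
    ext g
    rw [mem_stabilizer_iff, Subgroup.mem_subgroupOf, hΔ (g : Perm (Fin m)) g.2]
    constructor
    · intro h
      have h1 := congrArg (fun s : Set.powersetCard (Fin m) k => (s : Finset (Fin m))) h
      exact h1
    · intro h
      apply Subtype.ext
      exact h
  have hidx : (stabilizer ↥Γ s₀).index = m.choose k := by
    rw [index_stabilizer_of_transitive, Set.powersetCard.card]
    simp
  have hcs : Nat.card ↥(stabilizer ↥Γ s₀) = Nat.card ↥H := by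
    rw [hstab]
    exact Nat.card_congr (Subgroup.subgroupOfEquivOfLe hHΓ).toEquiv
  have hmul := (stabilizer ↥Γ s₀).card_mul_index
  rw [hcs, hidx, hn] at hmul
  have hpos : 0 < Nat.card ↥H := Nat.card_pos
  have : Nat.card ↥H * m.choose k = Nat.card ↥H * n := by rw [hmul, mul_comm]
  exact (Nat.eq_of_mul_eq_mul_left hpos this).symm

/-- (C1a3) in the exact shape of `Lib/H9/S3571Defs` -/
theorem c1a3 : Cfsg.Agent.Lib.H9.S3571.C1a3Stmt := by
  intro m Γ H n r hP Δ hΔ
  exact choose_of_stabilizer m Γ H n (by have := hP.hm; omega) hP.hA hP.hHΓ hP.hn Δ hΔ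

end Cfsg.Agent.Lib.H24.S3571C1a3
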