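import Cfsg.Agent.S2119
import Cfsg.Agent.Lib.H9.S3571Defs

/-!
helper24: S3571 (GR block, generic piece): an almost simple group with socle `T ≅ A_m`
(`m ≥ 4`, `m ≠ 6`, `C_G(T) = 1`) embeds in `S_m` with `T` going onto `A_m`.
-/

set_option autoImplicit false

namespace Cfsg.Agent.Lib.H24.S3571Emb

variable {G : Type*} [Group G]

theorem congr_conj {H K : Type*} [Group H] [Group K] (e : H ≃* K) (t : H) :
    MulAut.congr e (MulAut.conj t) = MulAut.conj (e t) := by
  ext a
  simp [MulAut.congr, MulAut.conj_apply]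

theorem exists_embedding (T : Subgroup G) [hT : T.Normal]
    (hTc : Subgroup.centralizer (T : Set G) = ⊥) (m : ℕ) (hm : 4 ≤ m) (h6 : m ≠ 6)
    (eT : ↥T ≃* ↥(alternatingGroup (Fin m))) :
    ∃ ι : G →* Equiv.Perm (Fin m), Function.Injective ι ∧
      ∀ t : ↥T, ι (t : G) = ((eT t : ↥(alternatingGroup (Fin m))) : Equiv.Perm (Fin m)) := by
  have hbij := Cfsg.Agent.S2119.result m hm h6
  let Φ : Equiv.Perm (Fin m) ≃* MulAut ↥(alternatingGroup (Fin m)) :=
    MulEquiv.ofBijective MulAut.conjNormal hbij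
  let ι : G →* Equiv.Perm (Fin m) :=
    Φ.symm.toMonoidHom.comp ((MulAut.congr eT).toMonoidHom.comp (MulAut.conjNormal (H := T)))
  have hι : ∀ g, ι g = Φ.symm (MulAut.congr eT (MulAut.conjNormal g)) := fun g => rfl
  refine ⟨ι, ?_, ?_⟩
  · rw [injective_iff_map_eq_one]
    intro g hg
    rw [hι] at hg
    have h1 : MulAut.congr eT (MulAut.conjNormal g) = 1 := by
      rwa [MulEquiv.map_eq_one_iff] at hg
    have h2 : (MulAut.conjNormal g : MulAut ↥T) = 1 := by
      rwa [MulEquiv.map_eq_one_iff] at h1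
    have hc : g ∈ Subgroup.centralizer (T : Set G) := by
      rw [Subgroup.mem_centralizer_iff]
      intro t ht
      have := congrArg (fun f : MulAut ↥T => ((f ⟨t, ht⟩ : ↥T) : G)) h2
      simp only [MulAut.conjNormal_apply, MulAut.one_apply] at this
      calc t * g = (g * t * g⁻¹) * g := by rw [this]
        _ = g * t := by group
    rw [hTc] at hc
    exact Subgroup.mem_bot.mp hc
  · intro t
    rw [hι, MulEquiv.symm_apply_eq]
    show MulAut.congr eT (MulAut.conjNormal (t : G)) =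
      MulAut.conjNormal ((eT t : ↥(alternatingGroup (Fin m))) : Equiv.Perm (Fin m))
    rw [MulAut.conjNormal_val, MulAut.conjNormal_val, congr_conj]

theorem map_eq_alternating (T : Subgroup G) (m : ℕ)
    (eT : ↥T ≃* ↥(alternatingGroup (Fin m))) (ι : G →* Equiv.Perm (Fin m))
    (hι : ∀ t : ↥T, ι (t : G) = ((eT t : ↥(alternatingGroup (Fin m))) : Equiv.Perm (Fin m))) :
    T.map ι = alternatingGroup (Fin m) := by
  ext σ
  constructor
  · rintro ⟨t, ht, rfl⟩
    have := hι ⟨t, ht⟩
    simp only at this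
    rw [this]
    exact (eT ⟨t, ht⟩).2
  · intro hσ
    refine ⟨(eT.symm ⟨σ, hσ⟩ : G), (eT.symm ⟨σ, hσ⟩).2, ?_⟩
    rw [hι, MulEquiv.apply_symm_apply]

universe u

/-- (EMB) in the exact shape of helper9's cut. -/
theorem emb : Cfsg.Agent.Lib.H9.S3571.EmbStmt.{u} := by
  intro G _ _ T hT hTc m hm h6 eT
  haveI := hT
  exact exists_embedding T hTc m (by omega) h6 eT

end Cfsg.Agent.Lib.H24.S3571Emb
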