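import Mathlib
import Cfsg.Agent.Lib.H9.S3776Defs

/-!
# S3776, piece (8) S1C (twin): `G' ≤ V`, all involutions are squares of central elements, every `x` with
`x² ∈ V` central ⟹ `G` commutative (uses LEMMA E with `T := V`).
-/

set_option autoImplicit false

namespace Cfsg.Agent.Lib.H24.S3776S1C

open Cfsg.Agent.Lib.H9.S3776

universe u

section core

variable {G : Type u} [Group G]

/-- the commutator in the shape of the cut -/
def C (x y : G) : G := x * y * x⁻¹ * y⁻¹

theorem C_self (x : G) : C x x = 1 := by unfold C; group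

theorem C_swap (x y : G) : C y x = (C x y)⁻¹ := by unfold C; group

theorem C_map {H : Type*} [Group H] (f : G →* H) (x y : G) : f (C x y) = C (f x) (f y) := by
  unfold C; simp

variable (V : Subgroup G) (hmem : ∀ x : G, x ∈ V ↔ x ^ 2 = 1)
  (hcen : ∀ v ∈ V, ∀ g : G, g * v = v * g) (h3 : ∀ x y : G, x * y * x⁻¹ * y⁻¹ ∈ V)

include hmem h3 in
theorem C_sq (x y : G) : C x y * C x y = 1 := by
  have := (hmem _).1 (h3 x y)
  rw [pow_two] at this
  exact this

include hmem h3 in
theorem C_symm (x y : G) : C y x = C x y := by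
  rw [C_swap]
  exact inv_eq_of_mul_eq_one_left (C_sq V hmem h3 x y)

include hcen h3 in
theorem C_cen (x y g : G) : g * C x y = C x y * g := hcen _ (h3 x y) g

include hmem hcen h3 in
theorem sq_comm (x y : G) : x ^ 2 * y = y * x ^ 2 := by
  have e1 : x * y = C x y * (y * x) := by unfold C; group
  have hcc := C_sq V hmem h3 x y
  have hcx := C_cen V hcen h3 x y
  calc x ^ 2 * y = x * (x * y) := by rw [pow_two, mul_assoc]
    _ = x * (C x y * (y * x)) := by rw [← e1]
    _ = C x y * (x * y) * x := by rw [← mul_assoc x, hcx x]; simp only [mul_assoc]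
    _ = C x y * (C x y * (y * x)) * x := by rw [← e1]
    _ = (C x y * C x y) * (y * x ^ 2) := by rw [pow_two]; simp only [mul_assoc]
    _ = y * x ^ 2 := by rw [hcc, one_mul]

include hcen h3 in
theorem mul_sq (g h : G) : (g * h) ^ 2 = C h g * (g ^ 2 * h ^ 2) := by
  have e1 : h * g = C h g * (g * h) := by unfold C; group
  have hcx := C_cen V hcen h3 h g
  calc (g * h) ^ 2 = g * (h * g) * h := by rw [pow_two]; simp only [mul_assoc]
    _ = g * (C h g * (g * h)) * h := by rw [← e1]
    _ = C h g * (g ^ 2 * h ^ 2) := by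
        rw [← mul_assoc g, hcx g]; simp only [pow_two, mul_assoc]

include hmem hcen h3 in
theorem mul_pow4 (g h : G) : (g * h) ^ 4 = g ^ 4 * h ^ 4 := by
  have hs := mul_sq V hcen h3 g h
  have hcc := C_sq V hmem h3 h g
  have hcx := C_cen V hcen h3 h g
  have hsq := sq_comm V hmem hcen h3 h (g ^ 2)
  calc (g * h) ^ 4 = (g * h) ^ 2 * (g * h) ^ 2 := by rw [← pow_add]
    _ = C h g * (g ^ 2 * h ^ 2) * (C h g * (g ^ 2 * h ^ 2)) := by rw [hs]
    _ = C h g * ((g ^ 2 * h ^ 2) * C h g) * (g ^ 2 * h ^ 2) := by simp only [mul_assoc]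
    _ = C h g * (C h g * (g ^ 2 * h ^ 2)) * (g ^ 2 * h ^ 2) := by rw [hcx (g ^ 2 * h ^ 2)]
    _ = (C h g * C h g) * (g ^ 2 * (h ^ 2 * g ^ 2) * h ^ 2) := by simp only [mul_assoc]
    _ = g ^ 2 * (g ^ 2 * h ^ 2) * h ^ 2 := by rw [hcc, one_mul, hsq]
    _ = g ^ 4 * h ^ 4 := by rw [← mul_assoc, ← pow_add, mul_assoc, ← pow_add]

include hmem hcen h3 in
theorem pow4_commute (g h : G) : Commute (g ^ 4) h := by
  have h1 : Commute (g ^ 2) h := sq_comm V hmem hcen h3 g h
  have : g ^ 4 = (g ^ 2) ^ 2 := by rw [← pow_mul]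
  rw [this]
  exact h1.pow_left 2

include hmem hcen h3 in
theorem mul_pow_four_mul (N : ℕ) (g h : G) : (g * h) ^ (4 * N) = g ^ (4 * N) * h ^ (4 * N) := by
  rw [pow_mul, pow_mul, pow_mul, mul_pow4 V hmem hcen h3]
  exact (pow4_commute V hmem hcen h3 g (h ^ 4)).mul_pow N

include hmem hcen h3 in
theorem mul_pow_two_pow (r : ℕ) (hr : 2 ≤ r) (g h : G) :
    (g * h) ^ (2 ^ r) = g ^ (2 ^ r) * h ^ (2 ^ r) := by
  obtain ⟨s, rfl⟩ := Nat.exists_eq_add_of_le hr
  have : 2 ^ (2 + s) = 4 * 2 ^ s := by rw [pow_add]; norm_num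
  rw [this]
  exact mul_pow_four_mul V hmem hcen h3 _ g h

include hcen h3 in
theorem C_mul_left (a b y : G) : C (a * b) y = C a y * C b y := by
  have hcx := C_cen V hcen h3 b y
  calc C (a * b) y = a * (C b y) * y * a⁻¹ * y⁻¹ := by unfold C; group
    _ = C b y * (a * y * a⁻¹ * y⁻¹) := by rw [hcx a]; group
    _ = C a y * C b y := by
        have := C_cen V hcen h3 b y (C a y)
        unfold C at this ⊢
        rw [← this]

theorem C_congr_left {x x' : G} (h : x * x'⁻¹ ∈ Subgroup.center G) (y : G) : C x y = C x' y := by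
  have hz := Subgroup.mem_center_iff.1 h
  have e : x = (x * x'⁻¹) * x' := by group
  set z := x * x'⁻¹ with hzdef
  have h1 : y * z = z * y := hz y
  have h2 : x'⁻¹ * z = z * x'⁻¹ := hz x'⁻¹
  calc C x y = z * x' * y * (x'⁻¹ * z⁻¹) * y⁻¹ := by rw [e]; unfold C; group
    _ = x' * y * x'⁻¹ * y⁻¹ := by
        have h3' : z * x' * y * (x'⁻¹ * z⁻¹) * y⁻¹ = z * (x' * y * x'⁻¹) * z⁻¹ * y⁻¹ := by group
        rw [h3']
        have h4 : z * (x' * y * x'⁻¹) = (x' * y * x'⁻¹) * z := (hz _).symm
        rw [h4]; group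
    _ = C x' y := rfl

end core

/-- **(S1C)** -/
theorem s1c : S1CStmt.{u} := by
  intro G E _ _ _ _ φ V hLE hyp fr h1 h2 h3 a b
  by_contra hab
  have hmem := fr.mem
  have hcen := fr.cen
  -- the exponent
  have hP : ∃ r : ℕ, ∀ g : G, g ^ (2 ^ r) ∈ V := by
    obtain ⟨n, hn⟩ := (IsPGroup.iff_card.1 hyp.pG)
    refine ⟨n, fun g => ?_⟩
    rw [← hn, pow_card_eq_one']
    exact V.one_mem
  classical
  set r := Nat.find hP with hr
  have hrP : ∀ g : G, g ^ (2 ^ r) ∈ V := Nat.find_spec hP
  have hcenter : ∀ x : G, x ∈ Subgroup.center G → ∀ y : G, x * y = y * x := by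
    intro x hx y
    exact ((Subgroup.mem_center_iff.1 hx) y).symm
  have hr2 : 2 ≤ r := by
    by_contra hlt
    have hlt' : r = 0 ∨ r = 1 := by omega
    rcases hlt' with h0 | h0
    · apply hab
      have := hrP a
      rw [h0] at this
      simp at this
      exact (hcen a this b).symm
    · apply hab
      have := hrP a
      rw [h0] at this
      simp at this
      exact hcenter a (h2 a this) b
  have hmin : ∃ g0 : G, g0 ^ (2 ^ (r - 1)) ∉ V := by
    have := Nat.find_min hP (m := r - 1) (by omega)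
    push Not at this
    exact this
  obtain ⟨g0, hg0⟩ := hmin
  have hmulpow := mul_pow_two_pow V hmem hcen h3 r hr2
  -- the hom π
  let π : G →* G :=
    { toFun := fun g => g ^ (2 ^ r)
      map_one' := one_pow _
      map_mul' := fun g h => hmulpow g h }
  have hπ : ∀ g, π g = g ^ (2 ^ r) := fun g => rfl
  have hπV : ∀ g, π g ∈ V := fun g => hrP g
  have hπφ : ∀ (e : E) (g : G), φ e (π g) = π (φ e g) := by
    intro e g; rw [hπ, hπ, map_pow]
  have hπg0 : π g0 ≠ 1 := by
    intro h
    apply hg0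
    rw [hmem]
    rw [hπ] at h
    rw [← pow_mul, ← pow_succ]
    have : r - 1 + 1 = r := by omega
    rw [this]; exact h
  have hsurj : ∀ v ∈ V, ∃ y : G, π y = v := by
    have hW : π.range ≤ V := by
      rintro _ ⟨g, rfl⟩; exact hπV g
    have hWinv : Inv φ π.range := by
      rintro e _ ⟨g, rfl⟩
      exact ⟨φ e g, (hπφ e g).symm⟩
    rcases fr.irr π.range hW hWinv with hbot | htop
    · exfalso
      apply hπg0
      have : π g0 ∈ π.range := ⟨g0, rfl⟩
      rw [hbot] at this
      exact Subgroup.mem_bot.1 this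
    · intro v hv
      rw [← htop] at hv
      exact hv
  -- squares are central
  have hsqc : ∀ x : G, x ^ 2 ∈ Subgroup.center G := by
    intro x
    rw [Subgroup.mem_center_iff]
    intro y
    exact (sq_comm V hmem hcen h3 x y).symm
  -- the levels below r are central
  have hK : ∀ s : ℕ, s + 1 ≤ r → ∀ g : G, g ^ (2 ^ s) ∈ V → g ∈ Subgroup.center G := by
    intro s
    induction s with
    | zero =>
      intro _ g hg
      simp at hg
      rw [Subgroup.mem_center_iff]
      intro y
      exact hcen g hg y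
    | succ s ih =>
      intro hs g hg
      obtain ⟨y, hy⟩ := hsurj _ hg
      -- w = y ^ (2 ^ (r - s - 1)) is a square
      have hexp : r - s - 1 = (r - s - 2) + 1 := by omega
      set w := y ^ (2 ^ (r - s - 1)) with hw
      have hwsq : w = (y ^ (2 ^ (r - s - 2))) ^ 2 := by
        rw [hw, hexp, pow_succ, pow_mul]
      have hwc : w ∈ Subgroup.center G := by rw [hwsq]; exact hsqc _
      have hwpow : w ^ (2 ^ (s + 1)) = g ^ (2 ^ (s + 1)) := by
        rw [← hy, hπ, hw, ← pow_mul, ← pow_add]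
        congr 2; omega
      have hcomm : Commute g w⁻¹ := by
        have := (Subgroup.mem_center_iff.1 ((Subgroup.center G).inv_mem hwc)) g
        exact this
      have hu : (g * w⁻¹) ^ (2 ^ (s + 1)) = 1 := by
        rw [hcomm.mul_pow, inv_pow, hwpow, mul_inv_cancel]
      have huV : (g * w⁻¹) ^ (2 ^ s) ∈ V := by
        rw [hmem, ← pow_mul, ← pow_succ]; exact hu
      have huc := ih (by omega) (g * w⁻¹) huV
      have : g = (g * w⁻¹) * w := by group
      rw [this]
      exact (Subgroup.center G).mul_mem huc hwc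
  have hker : ∀ x : G, π x = 1 → x ∈ Subgroup.center G := by
    intro x hx
    apply hK (r - 1) (by omega)
    rw [hmem, ← pow_mul, ← pow_succ]
    have : r - 1 + 1 = r := by omega
    rw [this]; exact hx
  have hsame : ∀ x x' : G, π x = π x' → x * x'⁻¹ ∈ Subgroup.center G := by
    intro x x' h
    apply hker
    rw [map_mul, map_inv, h, mul_inv_cancel]
  -- the section
  have hsec : ∀ v : ↥V, ∃ y : G, π y = (v : G) := fun v => hsurj v v.2
  choose σ hσ using hsec
  -- commutator facts
  have Csymm := C_symm V hmem h3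
  have CmulL := C_mul_left V hcen h3
  have CcongL : ∀ {x x' : G}, π x = π x' → ∀ y, C x y = C x' y :=
    fun {x x'} h y => C_congr_left (hsame x x' h) y
  have CcongR : ∀ {x x' : G}, π x = π x' → ∀ y, C y x = C y x' := by
    intro x x' h y
    rw [Csymm x y, Csymm x' y]; exact CcongL h y
  have CmulR : ∀ a b y : G, C y (a * b) = C y a * C y b := by
    intro a b y
    rw [Csymm (a * b) y, Csymm a y, Csymm b y]; exact CmulL a b y
  have hCV : ∀ x y : G, C x y ∈ V := fun x y => h3 x y
  -- the data for LEMMA E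
  let aV : E → ↥V → ↥V := fun e v => ⟨φ e v, fr.inv e v v.2⟩
  let bb : ↥V → ↥V → ↥V := fun t v => ⟨C (σ t) (σ v), hCV _ _⟩
  have haV : ∀ (e : E) (v : ↥V), ((aV e v : ↥V) : G) = φ e v := fun e v => rfl
  have hbb : ∀ t v : ↥V, ((bb t v : ↥V) : G) = C (σ t) (σ v) := fun t v => rfl
  have hV2 : ∀ v : ↥V, v * v = 1 := by
    intro v
    apply Subtype.ext
    have := (hmem v).1 v.2
    rw [pow_two] at this
    simpa using this
  have hadd : ∀ e (v w : ↥V), aV e (v * w) = aV e v * aV e w := by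
    intro e v w; apply Subtype.ext; simp [haV]
  have hcomp : ∀ e f (v : ↥V), aV (e * f) v = aV e (aV f v) := by
    intro e f v; apply Subtype.ext; simp [haV, map_mul]
  have hone : ∀ v : ↥V, aV 1 v = v := by
    intro v; apply Subtype.ext; simp [haV]
  have htwo : ∃ v w : ↥V, v ≠ 1 ∧ w ≠ 1 ∧ v ≠ w := by
    obtain ⟨x, y, hx, hy, hxy, hx1, hy1⟩ := fr.two
    refine ⟨⟨x, hx⟩, ⟨y, hy⟩, ?_, ?_, ?_⟩
    · intro h; apply hx1; simpa using congrArg Subtype.val h
    · intro h; apply hy1; simpa using congrArg Subtype.val h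
    · intro h; apply hxy; simpa using congrArg Subtype.val h
  have htrans : ∀ v w : ↥V, v ≠ 1 → w ≠ 1 → ∃ e, aV e v = w := by
    intro v w hv hw
    have hv' : (v : G) ≠ 1 := fun h => hv (Subtype.ext (by simpa using h))
    have hw' : (w : G) ≠ 1 := fun h => hw (Subtype.ext (by simpa using h))
    obtain ⟨e, he⟩ := fr.trans v w v.2 w.2 hv' hw'
    exact ⟨e, Subtype.ext (by rw [haV]; exact he)⟩
  have hirr : ∀ S : Subgroup ↥V, (∀ e, ∀ t ∈ S, aV e t ∈ S) → S = ⊥ ∨ S = ⊤ := by
    intro S hS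
    have hW : S.map V.subtype ≤ V := by
      rintro _ ⟨t, _, rfl⟩; exact t.2
    have hWinv : Inv φ (S.map V.subtype) := by
      rintro e _ ⟨t, ht, rfl⟩
      exact ⟨aV e t, hS e t ht, rfl⟩
    rcases fr.irr _ hW hWinv with hbot | htop
    · left
      rw [eq_bot_iff]
      intro t ht
      have : (V.subtype t) ∈ S.map V.subtype := ⟨t, ht, rfl⟩
      rw [hbot] at this
      rw [Subgroup.mem_bot]
      apply Subtype.ext
      simpa using Subgroup.mem_bot.1 this
    · right
      rw [eq_top_iff]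
      intro t _
      have : (t : G) ∈ S.map V.subtype := by rw [htop]; exact t.2
      obtain ⟨t', ht', htt⟩ := this
      have : t' = t := Subtype.ext (by simpa using htt)
      rw [← this]; exact ht'
  have hbL : ∀ t s v : ↥V, bb (t * s) v = bb t v * bb s v := by
    intro t s v
    apply Subtype.ext
    rw [Subgroup.coe_mul, hbb, hbb, hbb]
    have : π (σ (t * s)) = π (σ t * σ s) := by
      rw [map_mul, hσ, hσ, hσ, Subgroup.coe_mul]
    rw [CcongL this, CmulL]
  have hbR : ∀ t v w : ↥V, bb t (v * w) = bb t v * bb t w := by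
    intro t v w
    apply Subtype.ext
    rw [Subgroup.coe_mul, hbb, hbb, hbb]
    have : π (σ (v * w)) = π (σ v * σ w) := by
      rw [map_mul, hσ, hσ, hσ, Subgroup.coe_mul]
    rw [CcongR this, CmulR]
  have hbeq : ∀ e (t v : ↥V), bb (aV e t) (aV e v) = aV e (bb t v) := by
    intro e t v
    apply Subtype.ext
    rw [hbb, haV, hbb]
    have e1 : π (σ (aV e t)) = π (φ e (σ t)) := by rw [hσ, haV, ← hπφ, hσ]
    have e2 : π (σ (aV e v)) = π (φ e (σ v)) := by rw [hσ, haV, ← hπφ, hσ]
    rw [CcongL e1, CcongR e2]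
    exact (C_map (φ e).toMonoidHom (σ t) (σ v)).symm
  have hnz : ∃ t v : ↥V, bb t v ≠ 1 := by
    by_contra hcon
    push Not at hcon
    apply hab
    have ha : π a = π (σ ⟨π a, hπV a⟩) := by rw [hσ]
    have hb : π b = π (σ ⟨π b, hπV b⟩) := by rw [hσ]
    have h0 : C a b = 1 := by
      rw [CcongL ha, CcongR hb]
      have := hcon ⟨π a, hπV a⟩ ⟨π b, hπV b⟩
      have := congrArg Subtype.val this
      simpa [hbb] using this
    unfold C at h0
    calc a * b = (a * b * a⁻¹ * b⁻¹) * (b * a) := by group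
      _ = b * a := by rw [h0, one_mul]
  have hE := hLE E ↥V ↥V aV aV bb hyp.solv hV2 hV2 hadd hcomp hone hadd hcomp hone htwo htrans hirr
    hbL hbR hbeq hnz
  obtain ⟨v, _, hv1, _, _⟩ := htwo
  apply hE v v hv1 hv1
  apply Subtype.ext
  rw [hbb, C_self]; rfl

example : S1CStmt.{0} := s1c

end Cfsg.Agent.Lib.H24.S3776S1C
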