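import Mathlib
import Cfsg.Agent.Lib.H5.S3777Defs
import Cfsg.Agent.Lib.H5.S3777P1Defs
import Cfsg.Agent.Lib.H21.S3777Gen

/-!
# S3777 (Vaughan-Lee), (P1)-step piece **MD** (helper24)

`M/D` with `D = [A, M]`, `A ≤ M` normalised by `M`, `|M : A| = p ^ l`, `l ≥ 1`: the image of `A` is
central of index `p ^ l`, hence every centraliser of `M/D` has index `≤ p ^ (l - 1)`, and `(P3)` for
the smaller group `M/D` gives `|M'| ≤ p ^ tri (l - 1) * |[A, M]|`.

Also the transfer lemma (T4): `|G'| = |(G/N)'| * |N|` for `N ≤ G'` normal.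
-/

set_option autoImplicit false

namespace Cfsg.Agent.Lib.H24.S3777MD

open Cfsg.Agent.Lib.H5.S3777
open scoped commutatorElement

universe u

/-- the derived subgroup of a quotient is the image of the derived subgroup -/
theorem commutator_quotient_eq_map {G : Type u} [Group G] (N : Subgroup G) [N.Normal] :
    commutator (G ⧸ N) = (commutator G).map (QuotientGroup.mk' N) := by
  rw [commutator_def, commutator_def, Subgroup.map_commutator,
    Subgroup.map_top_of_surjective _ (QuotientGroup.mk'_surjective N)]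

/-- (T4) `|G'| = |(G/N)'| * |N|` for a normal subgroup `N ≤ G'` -/
theorem card_commutator_quotient {G : Type u} [Group G] [Finite G] (N : Subgroup G) [N.Normal]
    (hN : N ≤ commutator G) :
    Nat.card ↥(commutator G) = Nat.card ↥(commutator (G ⧸ N)) * Nat.card ↥N := by
  have hidx : (commutator (G ⧸ N)).index = (commutator G).index := by
    rw [commutator_quotient_eq_map]
    exact Subgroup.index_map_eq _ (QuotientGroup.mk'_surjective N)
      (by rw [QuotientGroup.ker_mk']; exact hN)
  have h1 := (commutator G).card_mul_index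
  have h2 := (commutator (G ⧸ N)).card_mul_index
  have h3 : Nat.card G = Nat.card (G ⧸ N) * Nat.card ↥N :=
    Subgroup.card_eq_card_quotient_mul_card_subgroup N
  have hpos : 0 < (commutator G).index := Nat.pos_of_ne_zero (Subgroup.index_ne_zero_of_finite)
  rw [hidx] at h2
  have h4 : Nat.card ↥(commutator G) * (commutator G).index =
      Nat.card ↥(commutator (G ⧸ N)) * Nat.card ↥N * (commutator G).index := by
    rw [h1, h3, ← h2]; ring
  exact Nat.eq_of_mul_eq_mul_right hpos h4

/-- **MD**: `|M'| ≤ p ^ tri (l - 1) * |[A, M]|` -/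
theorem md_bound (p : ℕ) [Fact p.Prime] {G : Type u} [Group G] [Finite G] (hG : IsPGroup p G)
    (hIH : IH.{u} p (Nat.card G)) (M A : Subgroup G) (hM : M ≠ ⊤) (hAM : A ≤ M)
    (hAn : M ≤ Subgroup.normalizer (A : Set G)) (l : ℕ) (hl : 1 ≤ l) (hidx : A.relIndex M = p ^ l) :
    Nat.card ↥⁅M, M⁆ ≤ p ^ tri (l - 1) * Nat.card ↥⁅A, M⁆ := by
  classical
  -- inside the type `↥M`
  set A' : Subgroup ↥M := A.subgroupOf M with hA'
  have hA'n : A'.Normal := (Subgroup.normal_subgroupOf_iff_le_normalizer hAM).mpr hAn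
  set D' : Subgroup ↥M := ⁅A', (⊤ : Subgroup ↥M)⁆ with hD'
  have hD'n : D'.Normal := Subgroup.commutator_normal A' ⊤
  have hD'A' : D' ≤ A' := Subgroup.commutator_le_left A' ⊤
  have hD'comm : D' ≤ commutator ↥M := by
    rw [commutator_def]
    exact Subgroup.commutator_mono le_top le_rfl
  -- the quotient
  let Q := ↥M ⧸ D'
  set Z : Subgroup Q := A'.map (QuotientGroup.mk' D') with hZ
  have hZc : Z ≤ Subgroup.center Q := by
    rintro _ ⟨a, ha, rfl⟩
    rw [Subgroup.mem_center_iff]
    intro q
    obtain ⟨m, rfl⟩ := QuotientGroup.mk'_surjective D' q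
    have hc : ⁅a⁻¹, m⁻¹⁆ ∈ D' :=
      Subgroup.commutator_mem_commutator (A'.inv_mem ha) (Subgroup.mem_top _)
    have : (QuotientGroup.mk' D') (m * a) = (QuotientGroup.mk' D') (a * m) := by
      rw [QuotientGroup.mk'_apply, QuotientGroup.mk'_apply, QuotientGroup.eq]
      have h2 : (m * a)⁻¹ * (a * m) = ⁅a⁻¹, m⁻¹⁆ := by
        rw [commutatorElement_def]
        group
      rw [h2]
      exact hc
    rw [map_mul, map_mul] at this
    exact this
  -- index of `Z`
  have hZidx : Z.index = p ^ l := by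
    rw [hZ, Subgroup.index_map_eq _ (QuotientGroup.mk'_surjective D')
      (by rw [QuotientGroup.ker_mk']; exact hD'A')]
    exact hidx
  -- all centralisers of `Q` have index `≤ p ^ (l - 1)`
  have hbr : ∀ q : Q, (Subgroup.centralizer ({q} : Set Q)).index ≤ p ^ (l - 1) :=
    fun q => Cfsg.Agent.Lib.H21.S3777Gen.index_centralizer_le_of_central p Z hZc l hl hZidx q
  -- `Q` is a smaller `p`-group
  have hQp : IsPGroup p Q := (hG.to_subgroup M).to_quotient D'
  have hMlt : Nat.card ↥M < Nat.card G := by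
    have hle : Nat.card ↥M ≤ Nat.card G := Subgroup.card_le_card_group M
    rcases Nat.lt_or_ge (Nat.card ↥M) (Nat.card G) with h | h
    · exact h
    · exact absurd (Subgroup.eq_top_of_card_eq M (le_antisymm hle h)) hM
  have hQle : Nat.card Q ≤ Nat.card ↥M :=
    Nat.le_of_dvd Nat.card_pos (Subgroup.card_quotient_dvd_card D')
  have hQlt : Nat.card Q < Nat.card G := lt_of_le_of_lt hQle hMlt
  have hP3 : P3 p Q := (hIH Q hQp hQlt).2.2
  have hcQ : Nat.card ↥(commutator Q) ≤ p ^ tri (l - 1) := hP3 (l - 1) hbr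
  -- transfer
  have hT4 : Nat.card ↥(commutator ↥M) = Nat.card ↥(commutator Q) * Nat.card ↥D' :=
    card_commutator_quotient D' hD'comm
  have hT1 : Nat.card ↥(commutator ↥M) = Nat.card ↥⁅M, M⁆ := by
    rw [← Subgroup.map_subtype_commutator M]
    exact (Subgroup.card_map_of_injective M.subtype_injective).symm
  have hTD : Nat.card ↥D' = Nat.card ↥⁅A, M⁆ := by
    have hmap : D'.map M.subtype = ⁅A, M⁆ := by
      rw [hD', Subgroup.map_commutator, hA', Subgroup.subgroupOf_map_subtype,
        inf_of_le_left hAM, ← MonoidHom.range_eq_map, Subgroup.range_subtype]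
    rw [← hmap]
    exact (Subgroup.card_map_of_injective M.subtype_injective).symm
  rw [← hT1, hT4, hTD]
  exact Nat.mul_le_mul_right _ hcQ

/-- (S2) in the exact shape of `Lib/H5/S3777P1Defs` -/
theorem s2 : S2Stmt.{u} := by
  intro p _ G _ _ hG hIH M A lam hM hAn hAM hidx hl
  have hp : p.Prime := Fact.out
  have hMtop : M ≠ ⊤ := by
    intro h
    rw [h, Subgroup.index_top] at hM
    exact hp.one_lt.ne hM
  have hnorm : M ≤ Subgroup.normalizer (A : Set G) := by
    rw [Subgroup.normalizer_eq_top_iff.mpr hAn]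
    exact le_top
  exact md_bound p hG hIH M A hMtop hAM hnorm lam hl hidx

end Cfsg.Agent.Lib.H24.S3777MD
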