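import Mathlib
import Cfsg.Agent.Lib.H27.S3814C1Defs
import Cfsg.Agent.Lib.H24.S3814R2Idx
import Cfsg.Agent.Lib.H12.S3814A3

/-!
# S3814, shape (I), Case 1, pieces (5) XRank2 and (6) XJ2 (helper24)

`K = M ⋊ X` with `M` an elementary abelian `c`-group: `X` has index `|M|` (a power of `c`) in `K`.
* XRank2: the `C_t × C_t` of `K` (`KFacts.f2`) is conjugate (inside `K`) into `X`
  (`rank2Index` applied in the group `↥K`).
* XJ2: the element of order `t t'` of `K` (`KFacts.j2`) is conjugate (inside `K`) into `X`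
  (helper12's `exists_conj_mem_hall` in the group `↥K`), then split into its parts.
-/

set_option autoImplicit false

namespace Cfsg.Agent.Lib.H24.S3814C1X

open Cfsg.Agent.H7.S3814Defs Cfsg.Agent.H27.S3814C1

universe u

variable {G : Type u} [Group G]

/-- the arithmetic of `K = M ⋊ X` inside `↥K` -/
theorem card_facts [Finite G] {K M X : Subgroup G} {c : ℕ} (hc : c.Prime)
    (hMK : M ≤ K) (hMn : K ≤ Subgroup.normalizer (M : Set G)) (hMe : ElemAb c M)
    (h : IsCompl K c M X) :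
    ∃ k : ℕ, Nat.card (M.subgroupOf K) = c ^ k ∧
      Nat.card K = Nat.card (X.subgroupOf K) * c ^ k ∧ (X.subgroupOf K).index = c ^ k ∧
      (Nat.card (X.subgroupOf K)).Coprime (c ^ k) := by
  have : Fact c.Prime := ⟨hc⟩
  have hn : (M.subgroupOf K).Normal := (Subgroup.normal_subgroupOf_iff_le_normalizer hMK).mpr hMn
  have hcompl : Subgroup.IsComplement' (M.subgroupOf K) (X.subgroupOf K) := by
    apply Subgroup.isComplement'_of_disjoint_and_mul_eq_univ
    · rw [disjoint_iff, eq_bot_iff]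
      intro x hx
      have h1 : (x : G) ∈ M ⊓ X := ⟨Subgroup.mem_subgroupOf.mp hx.1, Subgroup.mem_subgroupOf.mp hx.2⟩
      rw [h.inf, Subgroup.mem_bot] at h1
      exact Subgroup.mem_bot.mpr (Subtype.ext h1)
    · rw [← Subgroup.normal_mul, ← Subgroup.subgroupOf_sup hMK h.le, h.sup, Subgroup.subgroupOf_self]
      rfl
  have hMp : IsPGroup c (M.subgroupOf K) := by
    intro x
    refine ⟨1, ?_⟩
    rw [pow_one]
    apply Subtype.ext
    apply Subtype.ext
    have := hMe.2 _ (Subgroup.mem_subgroupOf.mp x.2)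
    simpa using this
  obtain ⟨k, hk⟩ := IsPGroup.iff_card.mp hMp
  have hcard : Nat.card (M.subgroupOf K) * Nat.card (X.subgroupOf K) = Nat.card K :=
    hcompl.card_mul_card
  have hXX : Nat.card (X.subgroupOf K) = Nat.card X :=
    Nat.card_congr (Subgroup.subgroupOfEquivOfLe h.le).toEquiv
  refine ⟨k, hk, by rw [← hcard, hk, mul_comm], ?_, ?_⟩
  · have h1 := Subgroup.card_mul_index (X.subgroupOf K)
    rw [← hcard, hk, mul_comm (c ^ k)] at h1
    exact Nat.eq_of_mul_eq_mul_left Nat.card_pos h1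
  · rw [hXX]; exact Nat.Coprime.pow_right k h.cop

/-- **PIECE XR2.** -/
theorem xRank2 : XRank2Stmt.{u} := by
  intro G _ σ p V K c M X t t' h0 hoth hcompl
  have hfin := h0.cex.fin
  have htp : t.Prime := h0.cex.prime t hoth.ht
  obtain ⟨k, -, -, hidx, -⟩ := card_facts h0.hc h0.hMK h0.hMn h0.hMe hcompl
  obtain ⟨e₁, he₁, e₂, he₂, o₁, o₂, hcomm, hnot⟩ := h0.kf.f2 t hoth.ht hoth.tp
  -- transfer to `↥K`
  have hR : Rank2 (⊤ : Subgroup K) t := by
    refine ⟨⟨e₁, he₁⟩, Subgroup.mem_top _, ⟨e₂, he₂⟩, Subgroup.mem_top _, ?_, ?_, ?_, ?_⟩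
    · rw [Subgroup.orderOf_mk]; exact o₁
    · rw [Subgroup.orderOf_mk]; exact o₂
    · exact Subtype.ext hcomm
    · intro hmem
      obtain ⟨n, hn⟩ := Subgroup.mem_zpowers_iff.mp hmem
      apply hnot
      refine Subgroup.mem_zpowers_iff.mpr ⟨n, ?_⟩
      have := congrArg (Subtype.val : K → G) hn
      simpa using this
  have hnd : ¬ t ∣ (X.subgroupOf K).index := by
    rw [hidx]
    intro hd
    exact hoth.tc ((Nat.prime_dvd_prime_iff_eq htp h0.hc).mp (htp.dvd_of_dvd_pow hd))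
  obtain ⟨f₁, hf₁, f₂, hf₂, p₁, p₂, pc, pn⟩ :=
    Cfsg.Agent.Lib.H24.S3814R2Idx.rank2Index K (X.subgroupOf K) t htp hR hnd
  refine ⟨(f₁ : G), Subgroup.mem_subgroupOf.mp hf₁, (f₂ : G), Subgroup.mem_subgroupOf.mp hf₂,
    ?_, ?_, ?_, ?_⟩
  · rw [Subgroup.orderOf_coe]; exact p₁
  · rw [Subgroup.orderOf_coe]; exact p₂
  · have := congrArg (Subtype.val : K → G) pc
    simpa using this
  · intro hmem
    obtain ⟨n, hn⟩ := Subgroup.mem_zpowers_iff.mp hmem
    apply pn
    refine Subgroup.mem_zpowers_iff.mpr ⟨n, ?_⟩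
    apply Subtype.ext
    simpa using hn

/-- **PIECE XJ2.** -/
theorem xJ2 : XJ2Stmt.{u} := by
  intro G _ σ p V K c M X t t' h0 hoth hcompl
  have hfin := h0.cex.fin
  have hsol := h0.cex.sol
  have htp : t.Prime := h0.cex.prime t hoth.ht
  have htp' : t'.Prime := h0.cex.prime t' hoth.ht'
  obtain ⟨k, -, hcard, -, hcop⟩ := card_facts h0.hc h0.hMK h0.hMn h0.hMe hcompl
  obtain ⟨x, hx, hox⟩ := h0.kf.j2 t hoth.ht t' hoth.ht' hoth.tp hoth.t'p hoth.tt'
  have hsolK : Group.IsSolvable K := Group.isSolvable_of_isSolvable_injective K.subtype_injective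
  have hox' : orderOf (⟨x, hx⟩ : K) = t * t' := by rw [Subgroup.orderOf_mk]; exact hox
  have hcopx : (orderOf (⟨x, hx⟩ : K)).Coprime (c ^ k) := by
    rw [hox']
    apply Nat.Coprime.pow_right
    exact Nat.Coprime.mul_left ((Nat.coprime_primes htp h0.hc).mpr hoth.tc)
      ((Nat.coprime_primes htp' h0.hc).mpr hoth.t'c)
  obtain ⟨y, hy⟩ := Cfsg.Agent.Lib.H12.S3814A3.exists_conj_mem_hall hcard hcop
    (X.subgroupOf K) rfl ⟨x, hx⟩ hcopx
  set g : G := ((y * ⟨x, hx⟩ * y⁻¹ : K) : G) with hg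
  have hgX : g ∈ X := Subgroup.mem_subgroupOf.mp hy
  have hog : orderOf g = t * t' := by
    rw [hg, Subgroup.orderOf_coe]
    have := (MulAut.conj y).orderOf_eq (⟨x, hx⟩ : K)
    rw [MulAut.conj_apply] at this
    rw [this, hox']
  obtain ⟨h1, h2, h3⟩ := Cfsg.Agent.Lib.H24.S3814F2.parts htp htp' g hog
  exact ⟨g ^ t', X.pow_mem hgX t', g ^ t, X.pow_mem hgX t, h1, h2, h3.eq⟩

example : XRank2Stmt.{0} := xRank2
example : XJ2Stmt.{0} := xJ2

end Cfsg.Agent.Lib.H24.S3814C1X
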