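import Mathlib
import Cfsg.Agent.Lib.H7.S3814Defs2
import Cfsg.Agent.Lib.H24.S3814F2

/-!
# S3814, piece F2 (helper24): bridge from `S3814F2.rank_two` to helper7's `F2Stmt`
-/

set_option autoImplicit false

namespace Cfsg.Agent.Lib.H24.S3814F2Stmt

open Cfsg.Agent.H7.S3814Defs

universe u

/-- **PIECE F2.** -/
theorem f2 : F2Stmt.{u} := by
  intro G _ σ hG t ht
  have := hG.fin
  have := hG.sol
  obtain ⟨x, z, hx, hz, hc, hxz⟩ :=
    Cfsg.Agent.Lib.H24.S3814F2.rank_two σ (by rw [hG.card4]) hG.prime hG.pairs hG.notriple t ht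
  exact ⟨z, Subgroup.mem_top z, x, Subgroup.mem_top x, hz, hx, hc.eq.symm, hxz⟩

example : F2Stmt.{0} := f2

end Cfsg.Agent.Lib.H24.S3814F2Stmt
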