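import Mathlib
import Cfsg.Agent.Lib.H8.S3814MPDefs

/-!
# S3814, block (MP), piece (9) K4 (helper24)

A normal elementary abelian `r`-subgroup `A` of `X` has order at most `r` and its nonidentity
elements are neutral.  From (K1), (K2), (K3) as in helper8's docstring.
-/

set_option autoImplicit false

namespace Cfsg.Agent.Lib.H24.S3814MPK4

open Cfsg.Agent.H7.S3814Defs Cfsg.Agent.Lib.H8.S3814MP

universe u

/-- an element `≠ 1` killed by the prime `r` has order `r` -/
theorem orderOf_eq_of_pow {G : Type*} [Group G] {r : ℕ} (hr : r.Prime) {a : G} (h1 : a ≠ 1)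
    (hr1 : a ^ r = 1) : orderOf a = r := by
  have hd : orderOf a ∣ r := orderOf_dvd_of_pow_eq_one hr1
  rcases (Nat.dvd_prime hr).mp hd with h | h
  · exact absurd (orderOf_eq_one_iff.mp h) h1
  · exact h

/-- **PIECE K4.** -/
theorem k4 : K4Stmt.{u} := by
  intro hK1 hK2 hK3 G _ _ r s V W X h A hAX hAn hAc hAr
  obtain ⟨c, hc, d, hd, pcd⟩ := h.rk_s
  have part1 : ∀ a ∈ A, ∀ b ∈ A, a ≠ 1 → b ∈ Subgroup.zpowers a := by
    intro a ha b hb ha1
    by_contra hnot
    have hb1 : b ≠ 1 := fun hb1 => hnot (hb1 ▸ Subgroup.one_mem _)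
    have hoa : orderOf a = r := orderOf_eq_of_pow h.hr ha1 (hAr a ha)
    have hob : orderOf b = r := orderOf_eq_of_pow h.hr hb1 (hAr b hb)
    have pab : IsRank2Pair r a b := ⟨hoa, hob, hAc a ha b hb, hnot⟩
    by_cases hall : ∀ g ∈ A, g ∈ Subgroup.closure ({a, b} : Set G)
    · -- `A = ⟨a, b⟩`: (K3)
      refine hK3 h (a := a) (b := b) (c := c) (d := d) ⟨hAX ha, hAX hb, hc, hd, pab, pcd, ?_, ?_, ?_, ?_⟩
      · exact hall _ (hAn c hc a ha)
      · exact hall _ (hAn c hc b hb)
      · exact hall _ (hAn d hd a ha)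
      · exact hall _ (hAn d hd b hb)
    · -- a third independent element: (K1)
      push Not at hall
      obtain ⟨g, hg, hgn⟩ := hall
      have hg1 : g ≠ 1 := fun hg1 => hgn (hg1 ▸ Subgroup.one_mem _)
      have hog : orderOf g = r := orderOf_eq_of_pow h.hr hg1 (hAr g hg)
      exact hK1 h (t := r) (e := a) (f := b) (g := g) h.hr (hAX ha) (hAX hb) (hAX hg) hoa hob hog
        (hAc a ha b hb) (hAc a ha g hg) (hAc b hb g hg) hnot hgn
  refine ⟨part1, ?_⟩
  intro a ha ha1
  have hoa : orderOf a = r := orderOf_eq_of_pow h.hr ha1 (hAr a ha)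
  have hca : c * a * c⁻¹ ∈ Subgroup.zpowers a := part1 a ha _ (hAn c hc a ha) ha1
  have hda : d * a * d⁻¹ ∈ Subgroup.zpowers a := part1 a ha _ (hAn d hd a ha) ha1
  constructor
  · intro hcol
    exact hK2 h (x := a) (hAX ha) hoa hcol (c := c) (d := d) hc hd pcd hca hda
  · intro hcol
    exact hK2 h.swapVW (x := a) (hAX ha) hoa hcol (c := c) (d := d) hc hd pcd hca hda

example : K4Stmt.{0} := k4

end Cfsg.Agent.Lib.H24.S3814MPK4
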