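import Mathlib
import Cfsg.Agent.Lib.H22.S3901Defs
import Cfsg.Agent.Lib.H6.FrobActG

/-!
# S3901, piece (1) LL (helper24): the local lemma of helper22's cut

`T` finite, `L ≤ M` normal, `|T : M| = q`, `M / L` a nontrivial `p`-group, every element outside
`L` of prime-power order, `V ≤ L` a nontrivial abelian normal `r`-subgroup: impossible.
-/

set_option autoImplicit false

namespace Cfsg.Agent.Lib.H24.S3901LL

open Cfsg.Agent.Lib.H22.S3901Defs

universe u

/-- an element whose power with exponent prime to its order lies in `L` lies in `L` -/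
theorem mem_of_pow_mem {T : Type u} [Group T] (L : Subgroup T) (x : T) (n : ℕ)
    (hcop : n.Coprime (orderOf x)) (hx : x ^ n ∈ L) : x ∈ L := by
  obtain ⟨e, he⟩ := exists_pow_eq_self_of_coprime hcop
  rw [← he]
  exact L.pow_mem hx e

/-- FACT 0': a product outside `L` of commuting nontrivial elements of coprime orders is impossible -/
theorem fact0' {T : Type u} [Group T] [Finite T] (L : Subgroup T)
    (h : ∀ x : T, x ∉ L → IsPrimePow (orderOf x)) (x c : T) (hxc : x * c ∉ L)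
    (hcomm : Commute x c) (hcop : Nat.Coprime (orderOf x) (orderOf c)) (hx1 : x ≠ 1)
    (hc1 : c ≠ 1) : False := by
  have hord : orderOf (x * c) = orderOf x * orderOf c :=
    hcomm.orderOf_mul_eq_mul_orderOf_of_coprime hcop
  have hpp := h _ hxc
  rw [hord] at hpp
  have hx1' : orderOf x ≠ 1 := by
    intro h1
    rw [orderOf_eq_one_iff] at h1
    exact hx1 h1
  have hc1' : orderOf c ≠ 1 := by
    intro h1
    rw [orderOf_eq_one_iff] at h1
    exact hc1 h1
  have hxpos : 0 < orderOf x := orderOf_pos x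
  have hcpos : 0 < orderOf c := orderOf_pos c
  rcases (hcop.isPrimePow_dvd_mul hpp).mp dvd_rfl with h1 | h1
  · have h2 := Nat.le_of_dvd hxpos h1
    have h3 : orderOf x * 2 ≤ orderOf x * orderOf c := Nat.mul_le_mul_left _ (by omega)
    omega
  · have h2 := Nat.le_of_dvd hcpos h1
    have h3 : 2 * orderOf c ≤ orderOf x * orderOf c := Nat.mul_le_mul_right _ (by omega)
    omega

/-- FACT 0: no element outside `L` commutes with a nontrivial element of `L` of coprime order -/
theorem fact0 {T : Type u} [Group T] [Finite T] (L : Subgroup T)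
    (h : ∀ x : T, x ∉ L → IsPrimePow (orderOf x)) (x c : T) (hx : x ∉ L) (hc : c ∈ L)
    (hcomm : Commute x c) (hcop : Nat.Coprime (orderOf x) (orderOf c)) (hc1 : c ≠ 1) : False := by
  have hxc : x * c ∉ L := fun hmem => hx (by simpa using L.mul_mem hmem (L.inv_mem hc))
  exact fact0' L h x c hxc hcomm hcop (fun h1 => hx (h1 ▸ L.one_mem)) hc1

/-- elements of a `p`-subgroup have `p`-power order -/
theorem orderOf_of_mem {T : Type u} [Group T] (P : Subgroup T) {p : ℕ} (hp : p.Prime)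
    (hPp : IsPGroup p P) (x : T) (hx : x ∈ P) : ∃ i, orderOf x = p ^ i := by
  obtain ⟨k, hk⟩ := hPp ⟨x, hx⟩
  have h1 : x ^ (p ^ k) = 1 := by
    have := congrArg Subtype.val hk
    simpa using this
  obtain ⟨i, -, hi⟩ := (Nat.dvd_prime_pow hp).mp (orderOf_dvd_of_pow_eq_one h1)
  exact ⟨i, hi⟩

/-- the piece of the coset `x0 (P ∩ L)` -/
abbrev XS {T : Type u} [Group T] (P L : Subgroup T) (x0 : T) : Type u :=
  {x : T // x ∈ P ∧ x0⁻¹ * x ∈ L}

/-- conjugation action on the coset piece -/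
@[reducible] def act {T : Type u} [Group T] (P L C : Subgroup T) [L.Normal] (x0 : T)
    (hCN : C ≤ Subgroup.normalizer (P : Set T)) (hCL : C ≤ L) : MulAction C (XS P L x0) where
  smul g x := ⟨(g : T) * x.1 * (g : T)⁻¹,
    (Subgroup.mem_normalizer_iff.mp (hCN g.2) x.1).mp x.2.1, by
      have h1 : x.1⁻¹ * (g : T) * x.1 ∈ L := by
        have := (inferInstance : L.Normal).conj_mem (g : T) (hCL g.2) x.1⁻¹
        simpa using this
      have h2 : x0⁻¹ * ((g : T) * x.1 * (g : T)⁻¹) = (x0⁻¹ * x.1) * (x.1⁻¹ * (g : T) * x.1) * (g : T)⁻¹ := by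
        group
      rw [h2]
      exact L.mul_mem (L.mul_mem x.2.2 h1) (L.inv_mem (hCL g.2))⟩
  one_smul x := Subtype.ext (by show ((1 : C) : T) * x.1 * ((1 : C) : T)⁻¹ = x.1; simp)
  mul_smul g g' x := Subtype.ext (by
    show ((g * g' : C) : T) * x.1 * ((g * g' : C) : T)⁻¹ = (g : T) * ((g' : T) * x.1 * (g' : T)⁻¹) * (g : T)⁻¹
    simp [mul_assoc])

/-- step (2): no element of `L ∩ N_T(P)` has prime order `s ≠ p` -/
theorem no_prime_elt {T : Type u} [Group T] [Finite T] (L : Subgroup T) [L.Normal]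
    (h : ∀ x : T, x ∉ L → IsPrimePow (orderOf x)) (P : Subgroup T) {p : ℕ} (hp : p.Prime)
    (hPp : IsPGroup p P) (x0 : T) (hx0P : x0 ∈ P) (hx0L : x0 ∉ L)
    (c : T) (hcL : c ∈ L) (hcN : c ∈ Subgroup.normalizer (P : Set T)) {s : ℕ} (hs : s.Prime)
    (hcs : orderOf c = s) (hsp : s ≠ p) : False := by
  classical
  have : Fact s.Prime := ⟨hs⟩
  have : Fact p.Prime := ⟨hp⟩
  set C : Subgroup T := Subgroup.zpowers c with hC
  have hCN : C ≤ Subgroup.normalizer (P : Set T) := (Subgroup.zpowers_le).mpr hcN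
  have hCL : C ≤ L := (Subgroup.zpowers_le).mpr hcL
  have hCs : IsPGroup s C := IsPGroup.of_card (n := 1) (by rw [pow_one, hC, Nat.card_zpowers, hcs])
  let _ : MulAction C (XS P L x0) := act P L C x0 hCN hCL
  -- cardinality of the coset piece
  have hcard : Nat.card (XS P L x0) = Nat.card (P ⊓ L : Subgroup T) := by
    refine Nat.card_congr
      { toFun := fun x => ⟨x0⁻¹ * x.1, ⟨P.mul_mem (P.inv_mem hx0P) x.2.1, x.2.2⟩⟩
        invFun := fun z => ⟨x0 * z.1, ⟨P.mul_mem hx0P z.2.1, by simpa using z.2.2⟩⟩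
        left_inv := fun x => Subtype.ext (by simp)
        right_inv := fun z => Subtype.ext (by simp) }
  obtain ⟨k, hk⟩ := (hPp.to_le (inf_le_left : P ⊓ L ≤ P)).exists_card_eq
  have hnd : ¬ s ∣ Nat.card (XS P L x0) := by
    rw [hcard, hk]
    intro hdvd
    exact hsp ((Nat.prime_dvd_prime_iff_eq hs hp).mp (hs.dvd_of_dvd_pow hdvd))
  obtain ⟨x, hxfix⟩ := hCs.nonempty_fixed_point_of_prime_not_dvd_card (XS P L x0) hnd
  have hfix : c * x.1 * c⁻¹ = x.1 := by
    have := hxfix ⟨c, Subgroup.mem_zpowers c⟩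
    exact congrArg Subtype.val this
  have hxL : x.1 ∉ L := by
    intro hmem
    apply hx0L
    have h1 : x0⁻¹ ∈ L := by
      have := L.mul_mem x.2.2 (L.inv_mem hmem)
      simpa using this
    simpa using L.inv_mem h1
  obtain ⟨i, hi⟩ := orderOf_of_mem P hp hPp x.1 x.2.1
  have hcomm : Commute x.1 c := by
    show x.1 * c = c * x.1
    have h1 : c * x.1 = c * x.1 * c⁻¹ * c := by group
    rw [h1, hfix]
  refine fact0 L h x.1 c hxL hcL hcomm ?_ ?_
  · rw [hi, hcs]
    exact Nat.Coprime.pow_left _ ((Nat.coprime_primes hp hs).mpr (Ne.symm hsp))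
  · intro h1
    rw [h1, orderOf_one] at hcs
    exact hs.one_lt.ne hcs

/-- **PIECE (1) LL.** -/
theorem ll : LLStmt.{u} := by
  intro T _ _ L M V _ _ _ p q r hp hq hr hpq hpr hqr hLM hidx hML hne h hVL hV1 hVab hVr
  classical
  have : Fact p.Prime := ⟨hp⟩
  have : Fact q.Prime := ⟨hq⟩
  obtain ⟨m, hmM, hmL⟩ := hne
  obtain ⟨k, hk⟩ := hML m hmM
  -- `m` is a `p`-element
  have hm_p : ∃ j, orderOf m = p ^ j := by
    obtain ⟨s, j, hs, hj, hsj⟩ := h m hmL
    have hs' : s.Prime := hs.nat_prime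
    by_cases hsp : s = p
    · exact ⟨j, by rw [← hsj, hsp]⟩
    · exfalso
      apply hmL
      refine mem_of_pow_mem L m (p ^ k) ?_ hk
      rw [← hsj]
      exact Nat.Coprime.pow _ _ ((Nat.coprime_primes hp hs').mpr (Ne.symm hsp))
  obtain ⟨j, hj⟩ := hm_p
  -- the Sylow `p`-subgroup of `M` through `m`
  have hZ : IsPGroup p (Subgroup.zpowers (⟨m, hmM⟩ : M)) :=
    IsPGroup.of_card (n := j) (by rw [Nat.card_zpowers, Subgroup.orderOf_mk, hj])
  obtain ⟨P0, hP0⟩ := hZ.exists_le_sylow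
  set P : Subgroup T := (P0 : Subgroup M).map M.subtype with hPdef
  have hmP : m ∈ P := ⟨⟨m, hmM⟩, hP0 (Subgroup.mem_zpowers _), rfl⟩
  have hPp : IsPGroup p P := P0.isPGroup'.map M.subtype
  -- Frattini and Cauchy
  have hfr : Subgroup.normalizer (P : Set T) ⊔ M = ⊤ := Sylow.normalizer_sup_eq_top P0
  have hq_dvd : q ∣ Nat.card (Subgroup.normalizer (P : Set T)) := by
    have h1 : M.relIndex (Subgroup.normalizer (P : Set T)) = q := by
      rw [← Subgroup.relIndex_sup_right, hfr, Subgroup.relIndex_top_right, hidx]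
    rw [← h1]
    exact Subgroup.index_dvd_card _
  obtain ⟨y', hy'⟩ := exists_prime_orderOf_dvd_card' q hq_dvd
  have hyN : (y' : T) ∈ Subgroup.normalizer (P : Set T) := y'.2
  have hyord : orderOf (y' : T) = q := by rw [← hy']; exact Subgroup.orderOf_coe y'
  generalize (y' : T) = y at hyN hyord
  -- `y ∉ L`
  have hyL : y ∉ L := fun hmem =>
    no_prime_elt L h P hp hPp m hmP hmL y hmem hyN hq hyord (Ne.symm hpq)
  have hy1 : y ≠ 1 := fun h1 => hyL (h1 ▸ L.one_mem)
  have hnorm : ∀ x ∈ P, y * x * y⁻¹ ∈ P := fun x hx => (Subgroup.mem_normalizer_iff.mp hyN x).mp hx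
  have hVn : ∀ g : T, ∀ v ∈ V, g * v * g⁻¹ ∈ V := fun g v hv =>
    (inferInstance : V.Normal).conj_mem v hv g
  have hcomm_of : ∀ a b : T, a * b * a⁻¹ = b → Commute a b := by
    intro a b hab
    show a * b = b * a
    have h1 : a * b = a * b * a⁻¹ * a := by group
    rw [h1, hab]
  have hordV : ∀ v ∈ V, ∃ i, orderOf v = r ^ i := by
    intro v hvV
    obtain ⟨k', hk'⟩ := hVr v hvV
    obtain ⟨i, -, hi⟩ := (Nat.dvd_prime_pow hr).mp (orderOf_dvd_of_pow_eq_one hk')
    exact ⟨i, hi⟩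
  -- T1
  have hcent := Cfsg.Agent.Lib.H6.FrobActG.t1_group P V y hq hyord hnorm (hVn y)
    (fun k _ v hv => hVn k v hv) hVab ?_ ?_ ?_
  · -- step (7)
    obtain ⟨⟨v, hvV⟩, hv1⟩ := (Subgroup.ne_bot_iff_exists_ne_one).mp hV1
    have hv1' : v ≠ 1 := fun h1 => hv1 (Subtype.ext h1)
    obtain ⟨i, hi⟩ := hordV v hvV
    refine fact0 L h m v hmL (hVL hvV) (hcomm_of m v (hcent m hmP v hvV)) ?_ hv1'
    rw [hj, hi]
    exact Nat.Coprime.pow _ _ ((Nat.coprime_primes hp hr).mpr hpr)
  · -- (4) `C_P(y) = 1`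
    intro c hcP hfix
    by_contra hc1
    obtain ⟨i, hi⟩ := orderOf_of_mem P hp hPp c hcP
    have hcm : Commute y c := hcomm_of y c hfix
    have hcop : Nat.Coprime (orderOf y) (orderOf c) := by
      rw [hyord, hi]
      exact Nat.Coprime.pow_right _ ((Nat.coprime_primes hq hp).mpr (Ne.symm hpq))
    by_cases hyc : y * c ∈ L
    · apply hyL
      refine mem_of_pow_mem L y (p ^ i) ?_ ?_
      · rw [hyord]
        exact Nat.Coprime.pow_left _ ((Nat.coprime_primes hp hq).mpr hpq)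
      · have h1 : (y * c) ^ (p ^ i) = y ^ (p ^ i) := by
          rw [hcm.mul_pow, ← hi, pow_orderOf_eq_one, mul_one]
        rw [← h1]
        exact L.pow_mem hyc _
    · exact fact0' L h y c hyc hcm hcop hy1 hc1
  · -- coprimality
    intro v hvV hpow
    obtain ⟨a, ha⟩ := hPp.exists_card_eq
    obtain ⟨i, hi⟩ := hordV v hvV
    rw [ha] at hpow
    have h1 : orderOf v ∣ p ^ a := orderOf_dvd_of_pow_eq_one hpow
    have h2 : Nat.Coprime (orderOf v) (p ^ a) := by
      rw [hi]
      exact Nat.Coprime.pow _ _ ((Nat.coprime_primes hr hp).mpr (Ne.symm hpr))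
    exact orderOf_eq_one_iff.mp (Nat.Coprime.eq_one_of_dvd h2 h1)
  · -- (5) `C_V(y) = 1`
    intro v hvV hfix
    by_contra hv1
    obtain ⟨i, hi⟩ := hordV v hvV
    refine fact0 L h y v hyL (hVL hvV) (hcomm_of y v hfix) ?_ hv1
    rw [hyord, hi]
    exact Nat.Coprime.pow_right _ ((Nat.coprime_primes hq hr).mpr hqr)

example : LLStmt.{0} := ll
example : LLStmt.{3} := ll

end Cfsg.Agent.Lib.H24.S3901LL
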