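import Cfsg.Agent.Lib.H24.S4415W5
import Cfsg.Agent.Lib.H2.S4415SN
import Cfsg.Agent.Lib.H18.S4415WT
import Cfsg.Agent.Lib.H21.S4415LUF

/-!
helper24: `frame : FrameStmt` (S4415, GOOD block) — twin of helper28's `H28.S4415G.frame`,
assembled from `frame_of` and the farmed-out pieces (S+N helper2, T helper18, L/U helper21).
-/

set_option autoImplicit false

namespace Cfsg.Agent.Lib.H24.S4415Frame

open Cfsg.Agent.Lib.H10.S4415 Cfsg.Agent.Lib.H24.S4415G Cfsg.Agent.Lib.H24.S4415W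

universe u v

theorem frame : FrameStmt.{u, v} := by
  intro S _ _ E _ _ _ ρ R b W x₁ x₂ x₃ e₁ e₂ e₃ hL hQ hbad
  classical
  have hex : ∃ A : Subgroup S, A ≤ R ∧ NormBy (RB R b) A ∧ Cfsg.IsElementaryAbelian 2 A ∧
      ∃ a ∈ A, ¬ (∀ w ∈ W, ρ a w = w) ∧ ¬ (∀ w ∈ W, ρ a w = -w) := by
    by_contra hcon
    apply hbad
    intro A hAR hN hEA a ha
    by_contra h2
    exact hcon ⟨A, hAR, hN, hEA, a, ha, fun h => h2 (Or.inl h), fun h => h2 (Or.inr h)⟩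
  obtain ⟨A, hAR, hAn, hEA, a₀, ha₀, h1, h2⟩ := hex
  have hAc : ∀ a ∈ A, ∀ a' ∈ A, a * a' = a' * a := fun a ha a' ha' => by
    have := hEA.1
    exact congrArg Subtype.val (mul_comm' (⟨a, ha⟩ : ↥A) ⟨a', ha'⟩)
  have hA2 : ∀ a ∈ A, a * a = 1 := fun a ha => by
    have := hEA.2 a ha
    rwa [pow_two] at this
  have hWA : ∀ a ∈ A, ∀ w ∈ W, ρ a w ∈ W := fun a ha =>
    hL.W_inv a (R_le_RB R b (hAR ha))
  have hAn' : ∀ g ∈ RB R b, ∀ a ∈ A, g * a * g⁻¹ ∈ A := hAn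
  have hS := Cfsg.Agent.Lib.H2.S4415SN.W_le_iSup_Vw ρ A hAc hA2 W hWA
  have hN := Cfsg.Agent.Lib.H2.S4415SN.two_weights ρ A hAc hA2 W hWA ⟨a₀, ha₀⟩ h1 h2
  have hT : ∀ χ₀ χ : ↥A → ZMod 3, Vw ρ A W χ₀ ≠ ⊥ → Vw ρ A W χ ≠ ⊥ →
      ∃ g : ↥(RB R b), act A (RB R b) hAn' g χ₀ = χ :=
    fun χ₀ χ h₀ h => Cfsg.Agent.Lib.H18.S4415WT.weights_transitive hL A hAn' hAc χ₀ χ h₀ h
  have hβ : ∀ χ : ↥A → ZMod 3, ∀ v ∈ Vw ρ A W χ,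
      ρ b v ∈ Vw ρ A W (act A (RB R b) hAn' (bRB R b) χ) :=
    fun χ v hv => map_Vw hAn' ρ W hL.W_inv (bRB R b) χ hv
  have hβ3 : ∀ χ : ↥A → ZMod 3, act A (RB R b) hAn' (bRB R b)
      (act A (RB R b) hAn' (bRB R b) (act A (RB R b) hAn' (bRB R b) χ)) = χ := by
    intro χ
    rw [← act_mul, ← act_mul, bRB_cube hL.b_ord, act_one]
  exact frame_of hL A hAR hAn' hAc a₀ ha₀ h1 h2 hS hN hT
    (Cfsg.Agent.Lib.H21.S4415LUF.line_of_moved (Vw ρ A W) (Vw_indep ρ A W hAc) (Vw_le_W ρ A W)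
      _ hβ hβ3 hQ)
    (Cfsg.Agent.Lib.H21.S4415LUF.moved_unique (Vw ρ A W) (Vw_indep ρ A W hAc) (Vw_le_W ρ A W)
      _ hβ hβ3 hQ)

end Cfsg.Agent.Lib.H24.S4415Frame
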