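import Cfsg.Agent.Lib.H24.S4415GDefs

/-!
helper24: derived toolkit for the monomial frame of S4415 (GOOD block):
`φ` is a monoid hom, sign cocycle, product of signs.
-/

set_option autoImplicit false

namespace Cfsg.Agent.Lib.H24.S4415G

open Cfsg.Agent.Lib.H10.S4415

variable {S E : Type*} [Group S] [AddCommGroup E] [Module (ZMod 3) E]
variable {ρ : Representation (ZMod 3) S E} {R : Subgroup S} {b : S} {W : Submodule (ZMod 3) E}
  {n : ℕ} {f : Fin n → E} {φ : ↥(RB R b) → Equiv.Perm (Fin n)}

theorem eq_zero_of_eq_neg {v : E} (h : v = -v) : v = 0 := by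
  have h2 : (2 : ZMod 3) • v = 0 := by
    rw [two_smul]; nth_rewrite 2 [h]; exact add_neg_cancel v
  have : v = ((2 : ZMod 3) * 2) • v := by
    rw [show ((2 : ZMod 3) * 2) = 1 from by decide, one_smul]
  rw [this, mul_smul, h2, smul_zero]

theorem f_ne_zero (hM : MonoFrame ρ R b W f φ) (i : Fin n) : f i ≠ 0 := hM.indep.ne_zero i

theorem idx_eq_of_pm (hM : MonoFrame ρ R b W f φ) {i j : Fin n}
    (h : f i = f j ∨ f i = -f j) : i = j := by
  rcases h with h | h
  · exact hM.indep.injective h
  · by_contra hij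
    have hinj : Function.Injective (![i, j] : Fin 2 → Fin n) := by
      intro a c hac
      fin_cases a <;> fin_cases c <;> simp_all
    have hli := hM.indep.comp _ hinj
    have hfe : f ∘ ![i, j] = ![f i, f j] := by
      ext k; fin_cases k <;> rfl
    rw [hfe] at hli
    have := (LinearIndependent.pair_iff.mp hli) 1 1 (by rw [one_smul, one_smul, h]; exact neg_add_cancel _)
    exact one_ne_zero this.1

theorem phi_one (hM : MonoFrame ρ R b W f φ) : φ 1 = 1 := by
  ext i
  have h1 := hM.mono 1 i
  simp only [Subgroup.coe_one, map_one, Module.End.one_apply] at h1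
  have := idx_eq_of_pm hM h1
  simp [← this]

theorem phi_mul (hM : MonoFrame ρ R b W f φ) (g h : ↥(RB R b)) : φ (g * h) = φ g * φ h := by
  ext i
  have h1 := hM.mono (g * h) i
  have h2 := hM.mono h i
  have h3 := hM.mono g (φ h i)
  simp only [Subgroup.coe_mul, map_mul, Module.End.mul_apply] at h1
  have key : f (φ (g * h) i) = f (φ g (φ h i)) ∨ f (φ (g * h) i) = -f (φ g (φ h i)) := by
    rcases h2 with h2 | h2 <;> rcases h3 with h3 | h3 <;> rcases h1 with h1 | h1 <;>
      rw [h2] at h1 <;> (try simp only [map_neg] at h1) <;> rw [h3] at h1 <;>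
      (try simp only [neg_neg] at h1) <;>
      first
        | exact Or.inl h1.symm
        | exact Or.inr h1.symm
        | exact Or.inl (neg_injective h1).symm
        | exact Or.inr (by rw [h1, neg_neg])
  have := idx_eq_of_pm hM key
  rw [Equiv.Perm.mul_apply]
  exact congrArg Fin.val this

/-- `φ` as a monoid homomorphism. -/
def phiHom (hM : MonoFrame ρ R b W f φ) : ↥(RB R b) →* Equiv.Perm (Fin n) where
  toFun := φ
  map_one' := phi_one hM
  map_mul' := phi_mul hM

@[simp] theorem phiHom_apply (hM : MonoFrame ρ R b W f φ) (g : ↥(RB R b)) : phiHom hM g = φ g := rfl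

end Cfsg.Agent.Lib.H24.S4415G
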