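import Cfsg.Agent.Lib.H24.S4415GDefs
import Cfsg.Agent.Lib.H28.S4415G2
import Cfsg.Agent.Lib.H5.S4415G3
import Cfsg.Agent.Lib.H5.S4415G4
import Cfsg.Agent.Lib.H16.S4415G5F

/-!
helper24: the GOOD block of S4415 closed: `good : GoodStmt`
(FrameStmt helper28, CardStmt helper5, ThreeStmt helper5, FourStmt helper16).
-/

set_option autoImplicit false

namespace Cfsg.Agent.Lib.H24.S4415Good

open Cfsg.Agent.Lib.H10.S4415 Cfsg.Agent.Lib.H24.S4415G

universe u v

theorem good : GoodStmt.{u, v} :=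
  good_of Cfsg.Agent.Lib.H28.S4415G.frame Cfsg.Agent.Lib.H5.S4415G3.card
    Cfsg.Agent.Lib.H5.S4415G4.three Cfsg.Agent.Lib.H16.S4415G5F.four

end Cfsg.Agent.Lib.H24.S4415Good
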