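import Mathlib

/-!
helper24: sign-weight spaces of a commuting family of involutions `ρ a`, `a ∈ A`, on a
`ZMod 3`-module, inside an invariant submodule `W` (S4415, GOOD block, generic part).
-/

set_option autoImplicit false

namespace Cfsg.Agent.Lib.H24.S4415W

variable {S E : Type*} [Group S] [AddCommGroup E] [Module (ZMod 3) E]

/-- The weight space of `χ : A → ZMod 3` inside `W`. -/
def Vw (ρ : Representation (ZMod 3) S E) (A : Subgroup S) (W : Submodule (ZMod 3) E)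
    (χ : ↥A → ZMod 3) : Submodule (ZMod 3) E where
  carrier := {w | w ∈ W ∧ ∀ a : ↥A, ρ (a : S) w = χ a • w}
  zero_mem' := ⟨W.zero_mem, fun a => by simp⟩
  add_mem' := by
    rintro x y ⟨hx, hx'⟩ ⟨hy, hy'⟩
    exact ⟨W.add_mem hx hy, fun a => by rw [map_add, hx' a, hy' a, smul_add]⟩
  smul_mem' := by
    rintro c x ⟨hx, hx'⟩
    exact ⟨W.smul_mem c hx, fun a => by rw [map_smul, hx' a, smul_comm]⟩

theorem mem_Vw {ρ : Representation (ZMod 3) S E} {A : Subgroup S} {W : Submodule (ZMod 3) E}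
    {χ : ↥A → ZMod 3} {w : E} :
    w ∈ Vw ρ A W χ ↔ w ∈ W ∧ ∀ a : ↥A, ρ (a : S) w = χ a • w := Iff.rfl

theorem Vw_le_W (ρ : Representation (ZMod 3) S E) (A : Subgroup S) (W : Submodule (ZMod 3) E)
    (χ : ↥A → ZMod 3) : Vw ρ A W χ ≤ W := fun _ h => h.1

theorem Vw_indep (ρ : Representation (ZMod 3) S E) (A : Subgroup S) (W : Submodule (ZMod 3) E)
    (hAc : ∀ a ∈ A, ∀ a' ∈ A, a * a' = a' * a) : iSupIndep (Vw ρ A W) := by
  have h1 : iSupIndep fun χ : ↥A → ZMod 3 =>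
      ⨅ a : ↥A, Module.End.maxGenEigenspace (ρ (a : S) : Module.End (ZMod 3) E) (χ a) := by
    apply Module.End.independent_iInf_maxGenEigenspace_of_forall_mapsTo
      (fun a : ↥A => (ρ (a : S) : Module.End (ZMod 3) E))
    intro i j μ
    apply Module.End.mapsTo_maxGenEigenspace_of_comm
    show ρ (j : S) * ρ (i : S) = ρ (i : S) * ρ (j : S)
    rw [← map_mul, ← map_mul, hAc j j.2 i i.2]
  refine h1.mono ?_
  intro χ w hw
  rw [Submodule.mem_iInf]
  intro a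
  apply Module.End.eigenspace_le_maxGenEigenspace
  rw [Module.End.mem_eigenspace_iff]
  exact hw.2 a

/-- Independence in the usable form. -/
theorem eq_zero_of_add_eq_zero (ρ : Representation (ZMod 3) S E) (A : Subgroup S)
    (W : Submodule (ZMod 3) E) (hAc : ∀ a ∈ A, ∀ a' ∈ A, a * a' = a' * a)
    (χ : ↥A → ZMod 3) {x y : E} (hx : x ∈ Vw ρ A W χ)
    (hy : y ∈ ⨆ (ψ : ↥A → ZMod 3) (_ : ψ ≠ χ), Vw ρ A W ψ) (hxy : x + y = 0) : x = 0 := by
  have hd := (Vw_indep ρ A W hAc) χ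
  have hx' : x ∈ ⨆ (ψ : ↥A → ZMod 3) (_ : ψ ≠ χ), Vw ρ A W ψ := by
    have : x = -y := eq_neg_of_add_eq_zero_left hxy
    rw [this]; exact Submodule.neg_mem _ hy
  exact (Submodule.disjoint_def.mp hd) x hx hx'

theorem Vw_le_biSup (ρ : Representation (ZMod 3) S E) (A : Subgroup S)
    (W : Submodule (ZMod 3) E) {χ ψ : ↥A → ZMod 3} (h : ψ ≠ χ) :
    Vw ρ A W ψ ≤ ⨆ (ψ : ↥A → ZMod 3) (_ : ψ ≠ χ), Vw ρ A W ψ :=
  le_iSup₂_of_le ψ h le_rfl

end Cfsg.Agent.Lib.H24.S4415W
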