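import Cfsg.Agent.Lib.H24.S4415W1

/-!
helper24: the action of a normalising subgroup `Γ` on the sign-weights of `A` (S4415, GOOD block).
-/

set_option autoImplicit false

namespace Cfsg.Agent.Lib.H24.S4415W

variable {S E : Type*} [Group S] [AddCommGroup E] [Module (ZMod 3) E]

/-- The conjugated weight `g • χ = χ (g⁻¹ · g)`. -/
def act (A Γ : Subgroup S) (hAn : ∀ g ∈ Γ, ∀ a ∈ A, g * a * g⁻¹ ∈ A) (g : ↥Γ)
    (χ : ↥A → ZMod 3) : ↥A → ZMod 3 :=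
  fun a => χ ⟨(g : S)⁻¹ * (a : S) * ((g : S)⁻¹)⁻¹, hAn _ (inv_mem g.2) a a.2⟩

variable {A Γ : Subgroup S} (hAn : ∀ g ∈ Γ, ∀ a ∈ A, g * a * g⁻¹ ∈ A)

theorem act_one (χ : ↥A → ZMod 3) : act A Γ hAn 1 χ = χ := by
  funext a
  unfold act
  congr 1
  apply Subtype.ext
  simp

theorem act_mul (g h : ↥Γ) (χ : ↥A → ZMod 3) :
    act A Γ hAn (g * h) χ = act A Γ hAn g (act A Γ hAn h χ) := by
  funext a
  unfold act
  congr 1
  apply Subtype.ext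
  simp only [Subgroup.coe_mul, mul_inv_rev, inv_inv]
  group

theorem act_inv_act (g : ↥Γ) (χ : ↥A → ZMod 3) :
    act A Γ hAn g⁻¹ (act A Γ hAn g χ) = χ := by
  rw [← act_mul, inv_mul_cancel, act_one]

theorem act_act_inv (g : ↥Γ) (χ : ↥A → ZMod 3) :
    act A Γ hAn g (act A Γ hAn g⁻¹ χ) = χ := by
  rw [← act_mul, mul_inv_cancel, act_one]

/-- Elements of the commutative group `A` fix every weight. -/
theorem act_of_mem (hAc : ∀ a ∈ A, ∀ a' ∈ A, a * a' = a' * a) (g : ↥Γ) (hg : (g : S) ∈ A)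
    (χ : ↥A → ZMod 3) : act A Γ hAn g χ = χ := by
  funext a
  unfold act
  congr 1
  apply Subtype.ext
  simp only [inv_inv]
  rw [mul_assoc, ← hAc _ hg _ a.2, ← mul_assoc, inv_mul_cancel, one_mul]

/-- `ρ g` maps the weight space of `χ` into that of `g • χ`. -/
theorem map_Vw (ρ : Representation (ZMod 3) S E) (W : Submodule (ZMod 3) E)
    (hW : ∀ g ∈ Γ, ∀ w ∈ W, ρ g w ∈ W) (g : ↥Γ) (χ : ↥A → ZMod 3) {w : E}
    (hw : w ∈ Vw ρ A W χ) : ρ (g : S) w ∈ Vw ρ A W (act A Γ hAn g χ) := by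
  refine ⟨hW g g.2 w hw.1, fun a => ?_⟩
  have h1 : (a : S) * (g : S) = (g : S) * ((g : S)⁻¹ * (a : S) * ((g : S)⁻¹)⁻¹) := by
    simp only [inv_inv]; group
  have h2 := hw.2 ⟨(g : S)⁻¹ * (a : S) * ((g : S)⁻¹)⁻¹, hAn _ (inv_mem g.2) a a.2⟩
  calc ρ (a : S) (ρ (g : S) w) = ρ ((a : S) * (g : S)) w := by rw [map_mul]; rfl
    _ = ρ (g : S) (ρ ((g : S)⁻¹ * (a : S) * ((g : S)⁻¹)⁻¹) w) := by rw [h1, map_mul]; rfl
    _ = act A Γ hAn g χ a • ρ (g : S) w := by rw [h2, map_smul]; rfl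

theorem rho_inv_rho (ρ : Representation (ZMod 3) S E) (g : S) (w : E) : ρ g⁻¹ (ρ g w) = w := by
  have : ρ g⁻¹ (ρ g w) = (ρ (g⁻¹ * g)) w := by rw [map_mul]; rfl
  rw [this, inv_mul_cancel, map_one]; rfl

theorem rho_rho_inv (ρ : Representation (ZMod 3) S E) (g : S) (w : E) : ρ g (ρ g⁻¹ w) = w := by
  have : ρ g (ρ g⁻¹ w) = (ρ (g * g⁻¹)) w := by rw [map_mul]; rfl
  rw [this, mul_inv_cancel, map_one]; rfl

theorem Vw_ne_bot_act (ρ : Representation (ZMod 3) S E) (W : Submodule (ZMod 3) E)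
    (hW : ∀ g ∈ Γ, ∀ w ∈ W, ρ g w ∈ W) (g : ↥Γ) (χ : ↥A → ZMod 3)
    (h : Vw ρ A W χ ≠ ⊥) : Vw ρ A W (act A Γ hAn g χ) ≠ ⊥ := by
  obtain ⟨w, hw, hw0⟩ := Submodule.exists_mem_ne_zero_of_ne_bot h
  intro hbot
  have := map_Vw hAn ρ W hW g χ hw
  rw [hbot, Submodule.mem_bot] at this
  apply hw0
  have h2 := rho_inv_rho ρ (g : S) w
  rw [this, map_zero] at h2
  exact h2.symm

end Cfsg.Agent.Lib.H24.S4415W
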