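import Cfsg.Agent.Lib.H24.S4415W2
import Cfsg.Agent.Lib.H24.S4415GDefs

/-!
helper24: `b` moves some weight (S4415, GOOD block).
-/

set_option autoImplicit false

namespace Cfsg.Agent.Lib.H24.S4415W

open Cfsg.Agent.Lib.H10.S4415 Cfsg.Agent.Lib.H24.S4415G

variable {S E : Type*} [Group S] [AddCommGroup E] [Module (ZMod 3) E]
variable {ρ : Representation (ZMod 3) S E} {R : Subgroup S} {b : S} {W : Submodule (ZMod 3) E}

/-- The kernel of the action of `R<b>` on the occurring weights. -/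
def wKer (ρ : Representation (ZMod 3) S E) (R : Subgroup S) (b : S) (W : Submodule (ZMod 3) E)
    (A : Subgroup S) (hAn : ∀ g ∈ RB R b, ∀ a ∈ A, g * a * g⁻¹ ∈ A) : Subgroup ↥(RB R b) where
  carrier := {g | ∀ χ : ↥A → ZMod 3, Vw ρ A W χ ≠ ⊥ → act A (RB R b) hAn g χ = χ}
  one_mem' := fun χ _ => act_one hAn χ
  mul_mem' := by
    intro g h hg hh χ hχ
    rw [act_mul, hh χ hχ, hg χ hχ]
  inv_mem' := by
    intro g hg χ hχ
    have := act_inv_act hAn g χ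
    rw [hg χ hχ] at this
    exact this

theorem wKer_conj (hW : InvBy ρ (RB R b) W) (A : Subgroup S)
    (hAn : ∀ g ∈ RB R b, ∀ a ∈ A, g * a * g⁻¹ ∈ A) (g h : ↥(RB R b))
    (hg : g ∈ wKer ρ R b W A hAn) : h * g * h⁻¹ ∈ wKer ρ R b W A hAn := by
  intro χ hχ
  have hψ : Vw ρ A W (act A (RB R b) hAn h⁻¹ χ) ≠ ⊥ := Vw_ne_bot_act hAn ρ W hW h⁻¹ χ hχ
  rw [act_mul, act_mul, hg _ hψ, act_act_inv]

theorem wKer_eq_top (hL : LinCtx ρ R b W) (A : Subgroup S)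
    (hAn : ∀ g ∈ RB R b, ∀ a ∈ A, g * a * g⁻¹ ∈ A)
    (hb : bRB R b ∈ wKer ρ R b W A hAn) : ∀ g : ↥(RB R b), g ∈ wKer ρ R b W A hAn := by
  set K := wKer ρ R b W A hAn with hK
  have hzp : ∀ c ∈ Subgroup.zpowers b, ∃ hc : c ∈ RB R b, (⟨c, hc⟩ : ↥(RB R b)) ∈ K := by
    intro c hc
    obtain ⟨k, rfl⟩ := Subgroup.mem_zpowers_iff.mp hc
    refine ⟨(RB R b).zpow_mem (b_mem_RB R b) k, ?_⟩
    have : (⟨b ^ k, (RB R b).zpow_mem (b_mem_RB R b) k⟩ : ↥(RB R b)) = (bRB R b) ^ k := by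
      apply Subtype.ext; simp [bRB]
    rw [this]
    exact K.zpow_mem hb k
  have hRle : R ≤ K.map (RB R b).subtype := by
    have hcomm : ⁅R, Subgroup.zpowers b⁆ ≤ K.map (RB R b).subtype := by
      rw [Subgroup.commutator_le]
      intro r hr c hc
      obtain ⟨hcΓ, hcK⟩ := hzp c hc
      have hrΓ : r ∈ RB R b := R_le_RB R b hr
      refine ⟨(⟨r, hrΓ⟩ * ⟨c, hcΓ⟩ * (⟨r, hrΓ⟩ : ↥(RB R b))⁻¹) * (⟨c, hcΓ⟩ : ↥(RB R b))⁻¹, ?_, ?_⟩
      · exact K.mul_mem (wKer_conj hL.W_inv A hAn _ _ hcK) (K.inv_mem hcK)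
      · simp [commutatorElement_def]
    intro r hr
    have hr' : r ∈ ⁅R, Subgroup.zpowers b⁆ := by rw [hL.R_comm]; exact hr
    exact hcomm hr'
  have hble : Subgroup.zpowers b ≤ K.map (RB R b).subtype := by
    intro c hc
    obtain ⟨hcΓ, hcK⟩ := hzp c hc
    exact ⟨⟨c, hcΓ⟩, hcK, rfl⟩
  have hle : RB R b ≤ K.map (RB R b).subtype := sup_le hRle hble
  intro g
  obtain ⟨k, hk, hkg⟩ := hle g.2
  have : k = g := Subtype.ext hkg
  rw [← this]; exact hk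


/-- `b` moves some occurring weight, provided the action on occurring weights is transitive and
there are at least two of them. -/
theorem exists_moved (hL : LinCtx ρ R b W) (A : Subgroup S)
    (hAn : ∀ g ∈ RB R b, ∀ a ∈ A, g * a * g⁻¹ ∈ A)
    (hT : ∀ χ₀ χ : ↥A → ZMod 3, Vw ρ A W χ₀ ≠ ⊥ → Vw ρ A W χ ≠ ⊥ →
      ∃ g : ↥(RB R b), act A (RB R b) hAn g χ₀ = χ)
    (htwo : ∃ χ ψ : ↥A → ZMod 3, Vw ρ A W χ ≠ ⊥ ∧ Vw ρ A W ψ ≠ ⊥ ∧ χ ≠ ψ) :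
    ∃ χ : ↥A → ZMod 3, Vw ρ A W χ ≠ ⊥ ∧ act A (RB R b) hAn (bRB R b) χ ≠ χ := by
  by_contra hcon
  push Not at hcon
  have hb : bRB R b ∈ wKer ρ R b W A hAn := fun χ hχ => hcon χ hχ
  have hall := wKer_eq_top hL A hAn hb
  obtain ⟨χ, ψ, hχ, hψ, hne⟩ := htwo
  obtain ⟨g, hg⟩ := hT χ ψ hχ hψ
  exact hne ((hall g χ hχ).symm.trans hg)

end Cfsg.Agent.Lib.H24.S4415W
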