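import Cfsg.Agent.Lib.H24.S4415W3

/-!
helper24: assembly of the monomial frame from the weight-space facts (S4415, GOOD block).
-/

set_option autoImplicit false

namespace Cfsg.Agent.Lib.H24.S4415W

open Cfsg.Agent.Lib.H10.S4415 Cfsg.Agent.Lib.H24.S4415G

variable {S E : Type*} [Group S] [AddCommGroup E] [Module (ZMod 3) E]
variable {ρ : Representation (ZMod 3) S E} {R : Subgroup S} {b : S} {W : Submodule (ZMod 3) E}

theorem zmod3_pm {c : ZMod 3} (hc : c ≠ 0) : c = 1 ∨ c = -1 := by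
  revert hc; revert c; decide

/-- The index type: the occurring weights. -/
abbrev I₀ (ρ : Representation (ZMod 3) S E) (A : Subgroup S) (W : Submodule (ZMod 3) E) : Type _ :=
  {χ : ↥A → ZMod 3 // Vw ρ A W χ ≠ ⊥}

section main

variable (hL : LinCtx ρ R b W) (A : Subgroup S) (hAR : A ≤ R)
  (hAn : ∀ g ∈ RB R b, ∀ a ∈ A, g * a * g⁻¹ ∈ A)
  (hAc : ∀ a ∈ A, ∀ a' ∈ A, a * a' = a' * a)

/-- The action on the occurring weights. -/
def actI (hW : InvBy ρ (RB R b) W) (g : ↥(RB R b)) (i : I₀ ρ A W) : I₀ ρ A W :=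
  ⟨act A (RB R b) hAn g i.1, Vw_ne_bot_act hAn ρ W hW g i.1 i.2⟩

theorem actI_inv_actI (hW : InvBy ρ (RB R b) W) (g : ↥(RB R b)) (i : I₀ ρ A W) :
    actI A hAn hW g⁻¹ (actI A hAn hW g i) = i :=
  Subtype.ext (act_inv_act hAn g i.1)

theorem actI_actI_inv (hW : InvBy ρ (RB R b) W) (g : ↥(RB R b)) (i : I₀ ρ A W) :
    actI A hAn hW g (actI A hAn hW g⁻¹ i) = i :=
  Subtype.ext (act_act_inv hAn g i.1)

/-- The permutation of the occurring weights induced by `g`. -/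
def permI (hW : InvBy ρ (RB R b) W) (g : ↥(RB R b)) : Equiv.Perm (I₀ ρ A W) where
  toFun := actI A hAn hW g
  invFun := actI A hAn hW g⁻¹
  left_inv := actI_inv_actI A hAn hW g
  right_inv := actI_actI_inv A hAn hW g

/-- A nonzero vector in each occurring weight space. -/
noncomputable def gen (i : I₀ ρ A W) : E :=
  (Submodule.exists_mem_ne_zero_of_ne_bot i.2).choose

theorem gen_mem (i : I₀ ρ A W) : gen A i ∈ Vw ρ A W i.1 :=
  (Submodule.exists_mem_ne_zero_of_ne_bot i.2).choose_spec.1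

theorem gen_ne (i : I₀ ρ A W) : gen A i ≠ 0 :=
  (Submodule.exists_mem_ne_zero_of_ne_bot i.2).choose_spec.2

include hL in
/-- All occurring weight spaces are lines, given one line and transitivity. -/
theorem all_lines
    (hT : ∀ χ₀ χ : ↥A → ZMod 3, Vw ρ A W χ₀ ≠ ⊥ → Vw ρ A W χ ≠ ⊥ →
      ∃ g : ↥(RB R b), act A (RB R b) hAn g χ₀ = χ)
    (m : I₀ ρ A W) (hm : ∀ w ∈ Vw ρ A W m.1, ∃ c : ZMod 3, w = c • gen A m)
    (i : I₀ ρ A W) : ∀ w ∈ Vw ρ A W i.1, ∃ c : ZMod 3, w = c • gen A i := by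
  intro w hw
  obtain ⟨g, hg⟩ := hT m.1 i.1 m.2 i.2
  have hback : ∀ x ∈ Vw ρ A W i.1, ρ ((g⁻¹ : ↥(RB R b)) : S) x ∈ Vw ρ A W m.1 := by
    intro x hx
    have := map_Vw hAn ρ W hL.W_inv g⁻¹ i.1 hx
    rw [← hg, act_inv_act] at this
    exact this
  obtain ⟨c, hc⟩ := hm _ (hback w hw)
  obtain ⟨c', hc'⟩ := hm _ (hback (gen A i) (gen_mem A i))
  have hc'0 : c' ≠ 0 := by
    intro h0
    rw [h0, zero_smul] at hc'
    have := rho_rho_inv ρ (g : S) (gen A i)
    rw [show ((g : S))⁻¹ = ((g⁻¹ : ↥(RB R b)) : S) from rfl, hc', map_zero] at this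
    exact gen_ne A i this.symm
  have hw' : w = c • ρ (g : S) (gen A m) := by
    have := rho_rho_inv ρ (g : S) w
    rw [show ((g : S))⁻¹ = ((g⁻¹ : ↥(RB R b)) : S) from rfl, hc, map_smul] at this
    exact this.symm
  have hgi : gen A i = c' • ρ (g : S) (gen A m) := by
    have := rho_rho_inv ρ (g : S) (gen A i)
    rw [show ((g : S))⁻¹ = ((g⁻¹ : ↥(RB R b)) : S) from rfl, hc', map_smul] at this
    exact this.symm
  refine ⟨c * c'⁻¹, ?_⟩
  rw [hgi, smul_smul, mul_assoc, inv_mul_cancel₀ hc'0, mul_one]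
  exact hw'

end main

end Cfsg.Agent.Lib.H24.S4415W
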