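import Cfsg.Agent.Lib.H24.S4415W4

/-!
helper24: the monomial frame from the weight-space facts (S4415, GOOD block), with the
generic pieces (spanning, two weights, transitivity, lines, uniqueness of the moved triple)
as hypotheses.
-/

set_option autoImplicit false

namespace Cfsg.Agent.Lib.H24.S4415W

open Cfsg.Agent.Lib.H10.S4415 Cfsg.Agent.Lib.H24.S4415G

variable {S E : Type*} [Group S] [AddCommGroup E] [Module (ZMod 3) E]
variable {ρ : Representation (ZMod 3) S E} {R : Subgroup S} {b : S} {W : Submodule (ZMod 3) E}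

theorem rho_ne_zero (ρ : Representation (ZMod 3) S E) (g : S) {v : E} (hv : v ≠ 0) :
    ρ g v ≠ 0 := by
  intro h
  have := rho_inv_rho ρ g v
  rw [h, map_zero] at this
  exact hv this.symm

theorem bRB_cube (hb : orderOf b = 3) : bRB R b * bRB R b * bRB R b = 1 := by
  apply Subtype.ext
  simp only [bRB, Subgroup.coe_mul, Subgroup.coe_one]
  have := pow_orderOf_eq_one b
  rw [hb] at this
  rw [← this, pow_succ, pow_two]

theorem frame_of [Finite S] (hL : LinCtx ρ R b W) (A : Subgroup S) (hAR : A ≤ R)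
    (hAn : ∀ g ∈ RB R b, ∀ a ∈ A, g * a * g⁻¹ ∈ A)
    (hAc : ∀ a ∈ A, ∀ a' ∈ A, a * a' = a' * a)
    (a₀ : S) (ha₀ : a₀ ∈ A) (h1 : ¬ ∀ w ∈ W, ρ a₀ w = w) (h2 : ¬ ∀ w ∈ W, ρ a₀ w = -w)
    (hS : W ≤ ⨆ χ : ↥A → ZMod 3, Vw ρ A W χ)
    (hN : ∃ χ ψ : ↥A → ZMod 3, Vw ρ A W χ ≠ ⊥ ∧ Vw ρ A W ψ ≠ ⊥ ∧ χ ≠ ψ)
    (hT : ∀ χ₀ χ : ↥A → ZMod 3, Vw ρ A W χ₀ ≠ ⊥ → Vw ρ A W χ ≠ ⊥ →
      ∃ g : ↥(RB R b), act A (RB R b) hAn g χ₀ = χ)
    (hLn : ∀ χ : ↥A → ZMod 3, act A (RB R b) hAn (bRB R b) χ ≠ χ →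
      ∀ v ∈ Vw ρ A W χ, v ≠ 0 → ∀ w ∈ Vw ρ A W χ, ∃ c : ZMod 3, w = c • v)
    (hU : ∀ χ ψ : ↥A → ZMod 3, act A (RB R b) hAn (bRB R b) χ ≠ χ →
      act A (RB R b) hAn (bRB R b) ψ ≠ ψ → (∃ v ∈ Vw ρ A W χ, v ≠ 0) →
      (∃ v ∈ Vw ρ A W ψ, v ≠ 0) →
      ψ = χ ∨ ψ = act A (RB R b) hAn (bRB R b) χ ∨
        ψ = act A (RB R b) hAn (bRB R b) (act A (RB R b) hAn (bRB R b) χ)) :
    ∃ (n : ℕ) (f : Fin n → E) (φ : ↥(RB R b) → Equiv.Perm (Fin n)), MonoFrame ρ R b W f φ := by
  classical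
  have : Finite ↥A := inferInstance
  have : Finite (I₀ ρ A W) := inferInstance
  let e : I₀ ρ A W ≃ Fin (Nat.card (I₀ ρ A W)) := Finite.equivFin _
  let f : Fin (Nat.card (I₀ ρ A W)) → E := fun k => gen A (e.symm k)
  let φ : ↥(RB R b) → Equiv.Perm (Fin (Nat.card (I₀ ρ A W))) :=
    fun g => e.symm.trans ((permI A hAn hL.W_inv g).trans e)
  have hφ : ∀ g k, φ g k = e (actI A hAn hL.W_inv g (e.symm k)) := fun g k => rfl
  have hχφ : ∀ g k, (e.symm (φ g k)).1 = act A (RB R b) hAn g (e.symm k).1 := by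
    intro g k; rw [hφ, Equiv.symm_apply_apply]; rfl
  have hinj : ∀ k l, (e.symm k).1 = (e.symm l).1 → k = l :=
    fun k l h => e.symm.injective (Subtype.ext h)
  -- a moved weight
  obtain ⟨χm, hχm, hmoved⟩ := exists_moved hL A hAn hT hN
  let m : I₀ ρ A W := ⟨χm, hχm⟩
  have hm_line : ∀ w ∈ Vw ρ A W m.1, ∃ c : ZMod 3, w = c • gen A m :=
    hLn χm hmoved (gen A m) (gen_mem A m) (gen_ne A m)
  have hlines := all_lines hL A hAn hT m hm_line
  -- mono
  have hmono : ∀ (g : ↥(RB R b)) (k : Fin (Nat.card (I₀ ρ A W))),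
      ρ (g : S) (f k) = f (φ g k) ∨ ρ (g : S) (f k) = -f (φ g k) := by
    intro g k
    have hmem := map_Vw hAn ρ W hL.W_inv g (e.symm k).1 (gen_mem A (e.symm k))
    obtain ⟨c, hc⟩ := hlines (actI A hAn hL.W_inv g (e.symm k)) _ hmem
    have hfk : f (φ g k) = gen A (actI A hAn hL.W_inv g (e.symm k)) := by
      show gen A (e.symm (φ g k)) = _
      rw [hφ, Equiv.symm_apply_apply]
    have hc0 : c ≠ 0 := by
      intro h0
      rw [h0, zero_smul] at hc
      exact rho_ne_zero ρ (g : S) (gen_ne A (e.symm k)) hc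
    rcases zmod3_pm hc0 with rfl | rfl
    · left; rw [hfk]; show ρ (g : S) (gen A (e.symm k)) = _; rw [hc, one_smul]
    · right; rw [hfk]; show ρ (g : S) (gen A (e.symm k)) = _; rw [hc, neg_smul, one_smul]
  refine ⟨Nat.card (I₀ ρ A W), f, φ, ⟨?_, ?_, ?_, hmono, ?_, ?_, ?_⟩⟩
  · -- fW
    intro k
    exact (gen_mem A (e.symm k)).1
  · -- indep
    have hind : iSupIndep (fun k : Fin (Nat.card (I₀ ρ A W)) => Vw ρ A W (e.symm k).1) :=
      (Vw_indep ρ A W hAc).comp (f := fun k : Fin (Nat.card (I₀ ρ A W)) => (e.symm k).1)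
        (fun k l h => hinj k l h)
    exact hind.linearIndependent _ (fun k => gen_mem A (e.symm k)) (fun k => gen_ne A (e.symm k))
  · -- span
    intro w hw
    have hle : (⨆ χ : ↥A → ZMod 3, Vw ρ A W χ) ≤ Submodule.span (ZMod 3) (Set.range f) := by
      apply iSup_le
      intro χ x hx
      by_cases hχ : Vw ρ A W χ = ⊥
      · rw [hχ, Submodule.mem_bot] at hx; rw [hx]; exact Submodule.zero_mem _
      · obtain ⟨c, hc⟩ := hlines ⟨χ, hχ⟩ x hx
        rw [hc]
        apply Submodule.smul_mem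
        apply Submodule.subset_span
        refine ⟨e ⟨χ, hχ⟩, ?_⟩
        show gen A (e.symm (e ⟨χ, hχ⟩)) = _
        rw [Equiv.symm_apply_apply]
    exact hle (hS hw)
  · -- trans
    intro k l
    obtain ⟨g, hg⟩ := hT (e.symm k).1 (e.symm l).1 (e.symm k).2 (e.symm l).2
    refine ⟨g, ?_⟩
    apply hinj
    rw [hχφ, hg]
  · -- three
    set β := act A (RB R b) hAn (bRB R b) with hβ
    have hβ3 : ∀ χ, β (β (β χ)) = χ := by
      intro χ
      rw [hβ, ← act_mul, ← act_mul, bRB_cube hL.b_ord, act_one]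
    have hmv : ∀ k, φ (bRB R b) k ≠ k ↔ β (e.symm k).1 ≠ (e.symm k).1 := by
      intro k
      constructor
      · intro h h'
        apply h
        apply hinj
        rw [hχφ]; exact h'
      · intro h h'
        apply h
        have h3 := hχφ (bRB R b) k
        rw [h'] at h3
        exact h3.symm
    set k0 := e m with hk0
    set k1 := φ (bRB R b) k0 with hk1
    set k2 := φ (bRB R b) k1 with hk2
    have hχ0 : (e.symm k0).1 = χm := by rw [hk0, Equiv.symm_apply_apply]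
    have hχ1 : (e.symm k1).1 = β χm := by rw [hk1, hχφ, hχ0]
    have hχ2 : (e.symm k2).1 = β (β χm) := by rw [hk2, hχφ, hχ1]
    have hcube : φ (bRB R b) k2 = k0 := by
      apply hinj
      rw [hχφ, hχ2, hχ0]; exact hβ3 χm
    have hm0 : φ (bRB R b) k0 ≠ k0 := by
      rw [hmv, hχ0]; exact hmoved
    have h01 : k0 ≠ k1 := fun h => hm0 h.symm
    have hm1 : φ (bRB R b) k1 ≠ k1 := by
      intro h
      have : φ (bRB R b) k1 = φ (bRB R b) k0 := h
      exact h01 ((φ (bRB R b)).injective this).symm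
    have h12 : k1 ≠ k2 := fun h => hm1 h.symm
    have h02 : k0 ≠ k2 := by
      intro h
      have : φ (bRB R b) k2 = k1 := by rw [← h]
      rw [hcube] at this
      exact h01 this
    have hm2 : φ (bRB R b) k2 ≠ k2 := by
      rw [hcube]; exact h02
    rw [← card_support_eq_three_iff, Finset.card_eq_three]
    refine ⟨k0, k1, k2, h01, h02, h12, ?_⟩
    ext k
    simp only [Equiv.Perm.mem_support, Finset.mem_insert, Finset.mem_singleton]
    constructor
    · intro hk
      have hk' := (hmv k).mp hk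
      rcases hU χm (e.symm k).1 hmoved hk' ⟨gen A m, gen_mem A m, gen_ne A m⟩
        ⟨gen A (e.symm k), gen_mem A (e.symm k), gen_ne A (e.symm k)⟩ with h | h | h
      · left; apply hinj; rw [h, hχ0]
      · right; left; apply hinj; rw [h, hχ1]
      · right; right; apply hinj; rw [h, hχ2]
    · rintro (rfl | rfl | rfl)
      · exact hm0
      · exact hm1
      · exact hm2
  · -- nonscalar
    have hφa : φ ⟨a₀, R_le_RB R b (hAR ha₀)⟩ = 1 := by
      ext k
      rw [hφ]
      have : actI A hAn hL.W_inv ⟨a₀, R_le_RB R b (hAR ha₀)⟩ (e.symm k) = e.symm k :=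
        Subtype.ext (act_of_mem hAn hAc _ ha₀ _)
      rw [this, Equiv.apply_symm_apply]; rfl
    have hpm : ∀ k, ρ a₀ (f k) = f k ∨ ρ a₀ (f k) = -f k := by
      intro k
      have := hmono ⟨a₀, R_le_RB R b (hAR ha₀)⟩ k
      rw [hφa] at this
      exact this
    refine ⟨⟨a₀, R_le_RB R b (hAR ha₀)⟩, hAR ha₀, hφa, ?_⟩
    by_contra hcon
    push Not at hcon
    have hspan : ∀ w ∈ W, w ∈ Submodule.span (ZMod 3) (Set.range f) := by
      intro w hw
      have hle : (⨆ χ : ↥A → ZMod 3, Vw ρ A W χ) ≤ Submodule.span (ZMod 3) (Set.range f) := by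
        apply iSup_le
        intro χ x hx
        by_cases hχ : Vw ρ A W χ = ⊥
        · rw [hχ, Submodule.mem_bot] at hx; rw [hx]; exact Submodule.zero_mem _
        · obtain ⟨c, hc⟩ := hlines ⟨χ, hχ⟩ x hx
          rw [hc]
          apply Submodule.smul_mem
          apply Submodule.subset_span
          refine ⟨e ⟨χ, hχ⟩, ?_⟩
          show gen A (e.symm (e ⟨χ, hχ⟩)) = _
          rw [Equiv.symm_apply_apply]
      exact hle (hS hw)
    by_cases hex : ∃ i, ρ a₀ (f i) = f i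
    · obtain ⟨i, hi⟩ := hex
      apply h1
      intro w hw
      have hall : Set.EqOn (ρ a₀) (LinearMap.id : E →ₗ[ZMod 3] E) (Set.range f) := by
        rintro _ ⟨j, rfl⟩
        rcases hpm j with h | h
        · exact h
        · exact absurd h (hcon i j hi)
      exact LinearMap.eqOn_span hall (hspan w hw)
    · push Not at hex
      apply h2
      intro w hw
      let nid : E →ₗ[ZMod 3] E := -LinearMap.id
      have hnid : ∀ x, nid x = -x := fun x => rfl
      have hall : Set.EqOn (⇑(ρ a₀)) (⇑nid) (Set.range f) := by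
        rintro _ ⟨j, rfl⟩
        rcases hpm j with h | h
        · exact absurd h (hex j)
        · rw [hnid]; exact h
      have := LinearMap.eqOn_span (f := ρ a₀) (g := nid) hall (hspan w hw)
      rw [hnid] at this
      exact this

end Cfsg.Agent.Lib.H24.S4415W
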