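import Mathlib
import Cfsg.Agent.Lib.H4.SLKDefs
import Cfsg.Agent.Lib.H11.SLKP23

/-!
# S2479 (helper4 blueprint): piece P25 `Rn_six` (helper24; twin)
-/

set_option autoImplicit false
open Polynomial

namespace Cfsg.Agent.Lib.H24.SLK

open Cfsg.Agent.Lib.H12.Cls Cfsg.Agent.Lib.H4.SLK

universe u v
variable {F : Type u} [Field F]

/-- NUM6 -/
theorem Rn_six (Q : ℕ) (hQ : 1 ≤ Q) : Rn Q 6 ≤ Q * ((Q + 1) ^ 5 + 3 * (Q + 1) ^ 4) := by
  obtain ⟨h1, h2, h3, -, -, h6⟩ := Cfsg.Agent.Lib.H11.SLK.tnum_small Q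
  unfold Rn
  have hg : Nat.gcd 6 Q ∣ 6 := Nat.gcd_dvd_left 6 Q
  have hgQ : Nat.gcd 6 Q ∣ Q := Nat.gcd_dvd_right 6 Q
  have hmem : Nat.gcd 6 Q ∈ Nat.divisors 6 := Nat.mem_divisors.mpr ⟨hg, by norm_num⟩
  have hd6 : Nat.divisors 6 = {1, 2, 3, 6} := by decide
  rw [hd6] at hmem
  simp only [Finset.mem_insert, Finset.mem_singleton] at hmem
  have e2 : (6 : ℕ) / 2 = 3 := by norm_num
  have e3 : (6 : ℕ) / 3 = 2 := by norm_num
  have e6 : (6 : ℕ) / 6 = 1 := by norm_num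
  have s2 : (2 : ℕ) ^ 2 - 1 = 3 := by norm_num
  have s3 : (3 : ℕ) ^ 2 - 1 = 8 := by norm_num
  have s6 : (6 : ℕ) ^ 2 - 1 = 35 := by norm_num
  rcases hmem with h | h | h | h
  · rw [h]
    have hd : (Nat.divisors 1).erase 1 = ∅ := by decide
    rw [hd, Finset.sum_empty, add_zero]
    obtain ⟨k, rfl⟩ := Nat.exists_eq_add_of_le hQ
    generalize tnum _ 6 6 = T at h6 ⊢
    linarith [Nat.zero_le (k ^ 2), Nat.zero_le (k ^ 3), Nat.zero_le (k ^ 4), Nat.zero_le (k ^ 5),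
      Nat.zero_le (k ^ 6), Nat.zero_le k]
  · rw [h]
    have hd : (Nat.divisors 2).erase 1 = {2} := by decide
    rw [hd, Finset.sum_singleton, e2, h3, s2]
    have hQ2 : 2 ≤ Q := Nat.le_of_dvd hQ (h ▸ hgQ)
    obtain ⟨k, rfl⟩ := Nat.exists_eq_add_of_le hQ2
    generalize tnum _ 6 6 = T at h6 ⊢
    linarith [Nat.zero_le (k ^ 2), Nat.zero_le (k ^ 3), Nat.zero_le (k ^ 4), Nat.zero_le (k ^ 5),
      Nat.zero_le (k ^ 6), Nat.zero_le k]
  · rw [h]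
    have hd : (Nat.divisors 3).erase 1 = {3} := by decide
    rw [hd, Finset.sum_singleton, e3, h2, s3]
    have hQ2 : 3 ≤ Q := Nat.le_of_dvd hQ (h ▸ hgQ)
    obtain ⟨k, rfl⟩ := Nat.exists_eq_add_of_le hQ2
    generalize tnum _ 6 6 = T at h6 ⊢
    linarith [Nat.zero_le (k ^ 2), Nat.zero_le (k ^ 3), Nat.zero_le (k ^ 4), Nat.zero_le (k ^ 5),
      Nat.zero_le (k ^ 6), Nat.zero_le k]
  · rw [h]
    have hd : (Nat.divisors 6).erase 1 = {2, 3, 6} := by decide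
    rw [hd, Finset.sum_insert (by decide), Finset.sum_insert (by decide), Finset.sum_singleton,
      e2, e3, e6, h1, h2, h3, s2, s3, s6]
    have hQ2 : 6 ≤ Q := Nat.le_of_dvd hQ (h ▸ hgQ)
    obtain ⟨k, rfl⟩ := Nat.exists_eq_add_of_le hQ2
    generalize tnum _ 6 6 = T at h6 ⊢
    linarith [Nat.zero_le (k ^ 2), Nat.zero_le (k ^ 3), Nat.zero_le (k ^ 4), Nat.zero_le (k ^ 5),
      Nat.zero_le (k ^ 6), Nat.zero_le k]

end Cfsg.Agent.Lib.H24.SLK
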