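import Mathlib

/-!
# S2332 piece ARITH-GEN (helper24)

`arith_gen`: the arithmetic that kills `χ(1) = N_n − 1` in the generic induction step of the
sharp minimal degree of `SL_n(q)`.
-/

set_option autoImplicit false

namespace Cfsg.Agent.Lib.H24.SLMin

open Finset

/-- `M k = 1 + q + ⋯ + q^(k-1)`. -/
def gsum (q k : ℕ) : ℕ := ∑ i ∈ range k, q ^ i

theorem gsum_mul_add (r k : ℕ) : gsum (r + 1) k * r + 1 = (r + 1) ^ k :=
  geom_sum_mul_add r k

theorem gsum_succ' (q k : ℕ) : gsum q (k + 1) = 1 + q * gsum q k := by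
  unfold gsum
  rw [Finset.sum_range_succ', Finset.mul_sum]
  simp [pow_succ, mul_comm, add_comm]

theorem one_add_le_gsum (q k : ℕ) (hk : 2 ≤ k) : 1 + q ≤ gsum q k := by
  obtain ⟨j, rfl⟩ : ∃ j, k = j + 2 := ⟨k - 2, by omega⟩
  rw [gsum_succ', gsum_succ']
  nlinarith [Nat.zero_le (q * gsum q j), Nat.zero_le (gsum q j)]

theorem arith_gen (q m D f₀ T : ℕ) (hq : 2 ≤ q) (hm : 2 ≤ m) (hD : D + 1 = f₀ + q ^ m)
    (hf₀ : (q ^ m - q) / (q - 1) ≤ f₀)
    (hT : T * (q - 1) = (q ^ (m + 1) - 1) * (q ^ m - 1))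
    (hdiv : (D : ℤ) ∣ (T : ℤ) * ((D : ℤ) - (q : ℤ) ^ m)) :
    (q ^ (m + 1) - q) / (q - 1) ≤ D := by
  obtain ⟨r, rfl⟩ : ∃ r, q = r + 1 := ⟨q - 1, by omega⟩
  have hr : 1 ≤ r := by omega
  set M := gsum (r + 1) m with hM
  have hqm : M * r + 1 = (r + 1) ^ m := gsum_mul_add r m
  have hqm1 : (1 + (r + 1) * M) * r + 1 = (r + 1) ^ (m + 1) := by
    rw [← gsum_succ']; exact gsum_mul_add r (m + 1)
  have hM2 : 1 + (r + 1) ≤ M := one_add_le_gsum (r + 1) m hm
  have hsub : r + 1 - 1 = r := by omega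
  rw [hsub] at hf₀ hT ⊢
  -- the two quotients
  have hN1 : ((r + 1) ^ (m + 1) - (r + 1)) / r = (r + 1) * M := by
    apply Nat.div_eq_of_eq_mul_left (by omega)
    rw [← hqm1]
    have : (1 + (r + 1) * M) * r + 1 - (r + 1) = (r + 1) * M * r := by
      have : (1 + (r + 1) * M) * r + 1 = (r + 1) * M * r + (r + 1) := by ring
      omega
    exact this
  have hN0 : ((r + 1) ^ m - (r + 1)) / r = M - 1 := by
    apply Nat.div_eq_of_eq_mul_left (by omega)
    rw [← hqm]
    have h1 : 1 ≤ M := by omega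
    obtain ⟨M', hM'⟩ : ∃ M', M = M' + 1 := ⟨M - 1, by omega⟩
    rw [hM']
    have : (M' + 1) * r + 1 - (r + 1) = M' * r := by
      have : (M' + 1) * r + 1 = M' * r + (r + 1) := by ring
      omega
    simpa using this
  rw [hN1]
  rw [hN0] at hf₀
  -- `D + 1 ≥ (r+1) M`
  have hge : (r + 1) * M ≤ D + 1 := by
    rw [hD, ← hqm]
    have : (r + 1) * M = M * r + M := by ring
    omega
  by_contra hlt
  push Not at hlt
  have hDeq : D + 1 = (r + 1) * M := by omega
  -- divisibility in ℕ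
  have hdiv1 : (D : ℤ) ∣ (T : ℤ) * ((r + 1 : ℕ) : ℤ) ^ m := by
    have h2 : (T : ℤ) * ((r + 1 : ℕ) : ℤ) ^ m
        = (T : ℤ) * (D : ℤ) - (T : ℤ) * ((D : ℤ) - ((r + 1 : ℕ) : ℤ) ^ m) := by ring
    rw [h2]
    exact dvd_sub (Dvd.intro_left _ rfl) hdiv
  have hdiv2 : D ∣ T * (r + 1) ^ m := by
    have : ((D : ℕ) : ℤ) ∣ ((T * (r + 1) ^ m : ℕ) : ℤ) := by
      push_cast
      push_cast at hdiv1
      exact hdiv1
    exact Int.natCast_dvd_natCast.mp this
  -- coprimality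
  have hcop_q : Nat.Coprime D (r + 1) := by
    have : Nat.Coprime D ((r + 1) * M) := by
      rw [← hDeq]
      exact (Nat.coprime_self_add_right.mpr (Nat.coprime_one_right D))
    exact Nat.Coprime.coprime_mul_right_right this
  have hcop_M : Nat.Coprime D M := by
    have : Nat.Coprime D ((r + 1) * M) := by
      rw [← hDeq]
      exact (Nat.coprime_self_add_right.mpr (Nat.coprime_one_right D))
    exact Nat.Coprime.coprime_mul_left_right this
  have hdiv3 : D ∣ T := (hcop_q.pow_right m).dvd_of_dvd_mul_right hdiv2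
  -- `T = (D + 2) * r * M`
  have hTeq : T = (D + 2) * r * M := by
    have h1 : (r + 1) ^ (m + 1) - 1 = (D + 2) * r := by
      rw [← hqm1]
      have : 1 + (r + 1) * M = D + 2 := by omega
      rw [this]; omega
    have h2 : (r + 1) ^ m - 1 = M * r := by omega
    rw [h1, h2] at hT
    have : T * r = ((D + 2) * r * M) * r := by rw [hT]; ring
    exact Nat.eq_of_mul_eq_mul_right (by omega) this
  have hdiv4 : D ∣ (D + 2) * r := by
    rw [hTeq] at hdiv3
    exact hcop_M.dvd_of_dvd_mul_right hdiv3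
  have hdiv5 : D ∣ 2 * r := by
    have : (D + 2) * r = D * r + 2 * r := by ring
    rw [this] at hdiv4
    exact (Nat.dvd_add_right (dvd_mul_right D r)).mp hdiv4
  have hle : D ≤ 2 * r := Nat.le_of_dvd (by omega) hdiv5
  -- but `D + 1 = (r+1) M ≥ (r+1)(r+2)`
  have : (r + 1) * (1 + (r + 1)) ≤ (r + 1) * M := Nat.mul_le_mul_left _ hM2
  nlinarith
end Cfsg.Agent.Lib.H24.SLMin
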