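import Mathlib
import Cfsg.Agent.S0995

/-!
# Self-centralizing elements of prime order: counting the classes (helper24)

If `C_G(z) = ⟨z⟩` with `z` of prime order `p`, the number of conjugacy classes of elements of
order `p` times `|N_G(⟨z⟩) : ⟨z⟩|` is `p - 1`.  (The counting argument is the one of helper5's
`S0995`, without the hypothesis that `G` is perfect.)
-/

set_option autoImplicit false

namespace Cfsg.Agent.Lib.H24

open Cfsg.Agent.Lib.H5 Cfsg.Agent.S0995 Subgroup

variable {G : Type*} [Group G]

theorem centralizer_zpowers_eq (z : G) :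
    centralizer ((zpowers z : Subgroup G) : Set G) = centralizer ({z} : Set G) := by
  rw [zpowers_eq_closure, centralizer_closure]

theorem card_classes_mul_relIndex [Finite G] (p : ℕ) [Fact p.Prime] (z : G) (hz : orderOf z = p)
    (hC : Subgroup.centralizer ({z} : Set G) = Subgroup.zpowers z) :
    Nat.card {C : ConjClasses G // ∃ g ∈ C.carrier, orderOf g = p} *
      (zpowers z).relIndex (normalizer ((zpowers z : Subgroup G) : Set G)) = p - 1 := by
  classical
  have hp : p.Prime := Fact.out
  obtain ⟨P, hzP⟩ := exists_sylow_mem_of_orderOf_eq z hz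
  have hPz := sylow_eq_zpowers p z hz hC P hzP
  have hPcard : Nat.card (P : Subgroup G) = p := by rw [hPz, Nat.card_zpowers, hz]
  have hcardQ : ∀ Q : Sylow p G, Nat.card (Q : Subgroup G) = p := by
    intro Q
    rw [Sylow.card_eq_multiplicity, ← Sylow.card_eq_multiplicity P, hPcard]
  -- centralizers of elements of order p have order p
  have hCent : ∀ g : G, orderOf g = p → Nat.card (centralizer ({g} : Set G)) = p := by
    intro g hg
    obtain ⟨Q, hgQ⟩ := exists_sylow_mem_of_orderOf_eq g hg
    obtain ⟨a, ha⟩ := MulAction.exists_smul_eq G P Q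
    have hmem : a⁻¹ * g * a ∈ (P : Subgroup G) := by
      have : g ∈ (a • P : Sylow p G) := ha ▸ hgQ
      exact (sylow_mem_smul_iff a P g).mp this
    have hord : orderOf (a⁻¹ * g * a) = p := by
      have := (MulAut.conj a⁻¹).orderOf_eq g
      simp only [MulAut.conj_apply, inv_inv] at this
      rw [this, hg]
    have hzp : zpowers (a⁻¹ * g * a) = zpowers z := by
      rw [← hPz]
      exact zpowers_eq_sylow_of_mem P hPcard _ hord hmem
    have h1 : centralizer ({a⁻¹ * g * a} : Set G) = zpowers z := by
      rw [centralizer_singleton_eq_of_zpowers_eq hzp, hC]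
    have h2 := card_centralizer_conj a⁻¹ g
    rw [inv_inv, h1, Nat.card_zpowers, hz] at h2
    exact h2.symm
  -- the number of elements of order p
  have hcount := card_orderOf_eq_prime (G := G) (p := p) hcardQ
  -- fibers
  let 𝒞 := {C : ConjClasses G // ∃ g ∈ C.carrier, orderOf g = p}
  have : Fintype 𝒞 := Fintype.ofFinite _
  let φ : {g : G // orderOf g = p} → 𝒞 :=
    fun g => ⟨ConjClasses.mk g.1, g.1, ConjClasses.mem_carrier_mk, g.2⟩
  have hGp : p ∣ Nat.card G := by
    have := orderOf_dvd_natCard z
    rwa [hz] at this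
  obtain ⟨m, hm⟩ := hGp
  have hfiber : ∀ c : 𝒞, Nat.card {g : {g : G // orderOf g = p} // φ g = c} = m := by
    rintro ⟨c, x, hxc, hx⟩
    rw [ConjClasses.mem_carrier_iff_mk_eq] at hxc
    subst hxc
    have e : {g : {g : G // orderOf g = p} // φ g = ⟨ConjClasses.mk x, x,
        ConjClasses.mem_carrier_mk, hx⟩} ≃ {g : G // IsConj x g} := by
      refine ⟨fun g => ⟨g.1.1, ?_⟩, fun g => ⟨⟨g.1, ?_⟩, ?_⟩, ?_, ?_⟩
      · have := congrArg Subtype.val g.2
        simp only [φ] at this
        rw [ConjClasses.mk_eq_mk_iff_isConj] at this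
        exact this.symm
      · rw [← orderOf_eq_of_isConj g.2, hx]
      · apply Subtype.ext
        simp only [φ]
        rw [ConjClasses.mk_eq_mk_iff_isConj]
        exact g.2.symm
      · intro g; rfl
      · intro g; rfl
    rw [Nat.card_congr e]
    have h1 := card_conj_mul_card_centralizer x
    rw [hCent x hx, hm] at h1
    have hp0 : 0 < p := hp.pos
    nlinarith [Nat.eq_of_mul_eq_mul_left hp0 (by rw [mul_comm] at h1; exact h1 :
      p * Nat.card {g : G // IsConj x g} = p * m)]
  have hsum : Nat.card {g : G // orderOf g = p} = Nat.card 𝒞 * m := by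
    rw [← Nat.card_congr (Equiv.sigmaFiberEquiv φ), Nat.card_sigma]
    simp only [hfiber]
    rw [Finset.sum_const, Finset.card_univ, smul_eq_mul, Nat.card_eq_fintype_card]
  have hN := card_normalizer_mul_card_sylow P
  have hCP : centralizer ((P : Subgroup G) : Set G) = (P : Subgroup G) := by
    rw [hPz, centralizer_zpowers_eq, hC]
  have hmul := card_centralizer_mul_relIndex_normalizer (P : Subgroup G)
  rw [hCP] at hmul
  rw [hPcard] at hmul
  rw [← hPz]
  set r := (P : Subgroup G).relIndex (normalizer ((P : Subgroup G) : Set G)) with hr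
  rw [← hmul, hm] at hN
  rw [hcount] at hsum
  have hm' : m = r * Nat.card (Sylow p G) := by
    have : p * (r * Nat.card (Sylow p G)) = p * m := by rw [← hN]; ring
    exact (Nat.eq_of_mul_eq_mul_left hp.pos this).symm
  rw [hm'] at hsum
  have hnp0 : 0 < Nat.card (Sylow p G) := Nat.card_pos
  have : Nat.card (Sylow p G) * (p - 1) = Nat.card (Sylow p G) * (Nat.card 𝒞 * r) := by
    rw [hsum]; ring
  exact (Nat.eq_of_mul_eq_mul_left hnp0 this).symm

end Cfsg.Agent.Lib.H24
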