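import Mathlib
import Cfsg.Agent.Lib.H5.SimpleTools

/-!
# Self-centralizing subgroups of prime order: a cyclic complement in the normalizer (helper24)

If `K` has prime order `p` and `C_G(K) = K`, then `N_G(K) / K` is cyclic and there is
`h ∈ N_G(K)` of order `e = |N_G(K) : K|` with `⟨h⟩ ∩ K = 1`.
-/

set_option autoImplicit false

namespace Cfsg.Agent.Lib.H24

open Subgroup

variable {G : Type*} [Group G]

theorem exists_generator_complement [Finite G] {p : ℕ} [Fact p.Prime] (K : Subgroup G)
    (hK : Nat.card K = p) (hC : centralizer (K : Set G) = K) :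
    ∃ h : G, h ∈ normalizer (K : Set G) ∧
      orderOf h = (K.subgroupOf (normalizer (K : Set G))).index ∧
      (K.subgroupOf (normalizer (K : Set G))).index ∣ p - 1 ∧
      ∀ c ∈ zpowers h, c ≠ 1 → c ∉ K := by
  have hp : p.Prime := Fact.out
  set N := normalizer (K : Set G) with hN
  set e := (K.subgroupOf N).index with he
  have hKN : K ≤ N := le_normalizer
  -- `e ∣ p - 1`
  have hedvd : e ∣ p - 1 := by
    have := Cfsg.Agent.Lib.H5.relIndex_centralizer_normalizer_dvd_of_card_prime K hK
    rwa [hC] at this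
  have he0 : 0 < e := Nat.pos_of_ne_zero Subgroup.index_ne_zero_of_finite
  have hcop : Nat.Coprime e p := by
    rw [Nat.coprime_comm, hp.coprime_iff_not_dvd]
    intro hdvd
    have h1 : e ≤ p - 1 := Nat.le_of_dvd (by have := hp.two_le; omega) hedvd
    have h2 : p ≤ e := Nat.le_of_dvd he0 hdvd
    have := hp.two_le
    omega
  -- the quotient is cyclic
  set φ : N →* MulAut K := K.normalizerMonoidHom with hφ
  have hker : φ.ker = K.subgroupOf N := by
    rw [hφ, normalizerMonoidHom_ker, hC]
  have hKcyc : IsCyclic K := isCyclic_of_prime_card hK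
  have hZcyc : IsCyclic (ZMod (Nat.card K))ˣ := by
    rw [hK]
    exact ZMod.isCyclic_units_prime hp
  have hAcyc : IsCyclic (MulAut K) :=
    isCyclic_of_injective (IsCyclic.mulAutMulEquiv K).toMonoidHom
      (IsCyclic.mulAutMulEquiv K).injective
  have hQcyc : IsCyclic (N ⧸ φ.ker) :=
    isCyclic_of_injective (QuotientGroup.kerLift φ) (QuotientGroup.kerLift_injective φ)
  obtain ⟨g, hg⟩ := hQcyc.exists_generator
  obtain ⟨n₀, rfl⟩ := QuotientGroup.mk_surjective g
  have hordg : orderOf (QuotientGroup.mk n₀ : N ⧸ φ.ker) = e := by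
    rw [orderOf_eq_card_of_forall_mem_zpowers hg, he, ← hker, Subgroup.index_eq_card]
  -- `n₀ ^ e ∈ K`
  have hn₀e : n₀ ^ e ∈ φ.ker := by
    rw [← QuotientGroup.eq_one_iff, QuotientGroup.mk_pow, ← hordg, pow_orderOf_eq_one]
  have hn₀ep : (n₀ ^ e) ^ p = 1 := by
    rw [hker, mem_subgroupOf] at hn₀e
    have h1 : (⟨((n₀ ^ e : N) : G), hn₀e⟩ : K) ^ p = 1 := by
      rw [← hK]
      exact pow_card_eq_one'
    have h2 := congrArg Subtype.val h1
    simp only [SubmonoidClass.mk_pow, OneMemClass.coe_one] at h2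
    apply Subtype.ext
    simpa using h2
  set h : N := n₀ ^ p with hh
  have hhe : h ^ e = 1 := by
    rw [hh, ← pow_mul, mul_comm, pow_mul, hn₀ep]
  have hord1 : orderOf h ∣ e := orderOf_dvd_of_pow_eq_one hhe
  have hord2 : e ∣ orderOf h := by
    have h1 : orderOf ((QuotientGroup.mk n₀ : N ⧸ φ.ker) ^ p) = e := by
      rw [Nat.Coprime.orderOf_pow (by rw [hordg]; exact hcop), hordg]
    have h2 := orderOf_map_dvd (QuotientGroup.mk' φ.ker) h
    rw [hh, map_pow, QuotientGroup.mk'_apply, h1] at h2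
    exact h2
  have hord : orderOf h = e := Nat.dvd_antisymm hord1 hord2
  refine ⟨(h : G), h.2, ?_, hedvd, ?_⟩
  · rw [Subgroup.orderOf_coe, hord]
  · intro c hc hc1 hcK
    apply hc1
    have h1 : orderOf c ∣ e := by
      have := orderOf_dvd_of_mem_zpowers hc
      rwa [Subgroup.orderOf_coe, hord] at this
    have h2 : orderOf c ∣ p := by
      have h3 : orderOf (⟨c, hcK⟩ : K) ∣ Nat.card K := orderOf_dvd_natCard _
      rw [hK] at h3
      have h4 : orderOf (⟨c, hcK⟩ : K) = orderOf c := by
        rw [← Subgroup.orderOf_coe]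
      rwa [h4] at h3
    have h3 : orderOf c ∣ 1 := by
      have := Nat.dvd_gcd h1 h2
      rwa [Nat.Coprime.gcd_eq_one hcop] at this
    exact orderOf_eq_one_iff.1 (Nat.dvd_one.1 h3)

end Cfsg.Agent.Lib.H24
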