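import Cfsg.Agent.Lib.H24.ShIFin
import Cfsg.Agent.Lib.H19.SHODDKEY
import Cfsg.Agent.Lib.H1.ShIWrap

/-!
# S3016: conclusion (I) from conclusion (II), all pieces plugged (helper24)

`concl_I` : for an odd prime `p` and an abelian extremely closed `p`-subgroup `H` of the finite group `G`,
if `N_G(H) O_{p'}(G) = G` then `⟨H^G⟩ ∩ N_G(H) = H`.
Pieces: I-KEY = helper19 (`H19.ShI.key_conj`), I-CORE = `inv_ker`, `lemma_I` (this library),
I-WRAP = helper1 (`H1.ShIWrap.concl_I_of_II`).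
-/

set_option autoImplicit false

universe u

namespace Cfsg.Agent.Lib.H24.ShI

variable {G : Type u} [Group G]

/-- The coprime-action lemma with all pieces plugged: `C_{[Y,H]}(H) = 1`. -/
theorem lemma_I_full [Finite G] {p : ℕ} [Fact p.Prime] (hp2 : p ≠ 2) (H : Subgroup G)
    (hHp : IsPGroup p H) (hHab : ∀ a ∈ H, ∀ b ∈ H, a * b = b * a)
    (Y : Subgroup G) (hYp : ¬ p ∣ Nat.card Y) (hnorm : ∀ h ∈ H, ∀ y ∈ Y, h * y * h⁻¹ ∈ Y)
    (hEC : EC H Y) : ⁅Y, H⁆ ⊓ Subgroup.centralizer (H : Set G) = ⊥ :=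
  lemma_I hp2 H hHp hHab
    (fun Y' h1 h2 h3 => Cfsg.Agent.Lib.H19.ShI.key_conj hp2 H Y' hHp hHab h1 h2 h3)
    Y hYp hnorm hEC

/-- Conclusion (I) of S3016 from conclusion (II). -/
theorem concl_I [Finite G] {p : ℕ} [Fact p.Prime] (hp2 : p ≠ 2) (H : Subgroup G)
    (hHp : IsPGroup p H) (hHab : IsMulCommutative H) (hcl : Cfsg.IsExtremelyClosed H)
    (hII : Subgroup.normalizer (H : Set G) ⊔ Cfsg.pPrimeCore p G = ⊤) :
    Subgroup.normalClosure (H : Set G) ⊓ Subgroup.normalizer (H : Set G) = H := by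
  have hab : ∀ a ∈ H, ∀ b ∈ H, a * b = b * a := by
    intro a ha b hb
    have := hHab.is_comm.comm (⟨a, ha⟩ : H) ⟨b, hb⟩
    exact congrArg Subtype.val this
  exact Cfsg.Agent.Lib.H1.ShIWrap.concl_I_of_II hp2 H hHp hHab hcl
    (fun Y h1 h2 h3 => lemma_I_full hp2 H hHp hab Y h1 h2 h3) hII

end Cfsg.Agent.Lib.H24.ShI
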