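import Cfsg.Agent.Lib.H24.ShICore
import Cfsg.Agent.Lib.H24.CharBasic

/-!
# S3016, conclusion (I): the finish `C_{[Y,H]}(H) = 1` (helper24)
-/

set_option autoImplicit false

universe u

namespace Cfsg.Agent.Lib.H24.ShI

open Cfsg Cfsg.Agent.Lib.L0 Cfsg.Agent.Lib.H23 Cfsg.Agent.Lib.H8 Cfsg.Agent.Lib.H24
open Cfsg.Agent.Lib.H24.Glaub
open scoped ComplexConjugate

variable {G : Type u} [Group G]

/-- `classInner` of a constant function. -/
theorem classInner_const {X : Type u} [Group X] [Fintype X] (c : ℂ) (ψ : X → ℂ) :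
    classInner (fun _ : X => c) ψ = c * classInner (fun _ : X => (1 : ℂ)) ψ := by
  unfold classInner
  rw [Finset.mul_sum, Finset.mul_sum, Finset.mul_sum]
  apply Finset.sum_congr rfl
  intro g _
  ring

/-- `C_{[Y,H]}(H) = 1`. -/
theorem lemma_I [Finite G] {p : ℕ} [hpf : Fact p.Prime] (hp2 : p ≠ 2) (H : Subgroup G)
    (hHp : IsPGroup p H) (hHab : ∀ a ∈ H, ∀ b ∈ H, a * b = b * a)
    (hkey : ∀ Y : Subgroup G, ¬ p ∣ Nat.card Y → (∀ h ∈ H, ∀ y ∈ Y, h * y * h⁻¹ ∈ Y) →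
      EC H Y → KeyStmt H Y)
    (Y : Subgroup G) (hYp : ¬ p ∣ Nat.card Y) (hnorm : ∀ h ∈ H, ∀ y ∈ Y, h * y * h⁻¹ ∈ Y)
    (hEC : EC H Y) : ⁅Y, H⁆ ⊓ Subgroup.centralizer (H : Set G) = ⊥ := by
  classical
  haveI : Fintype G := Fintype.ofFinite G
  have hp := hpf.out
  obtain ⟨Y1, hY1⟩ : ∃ Y1 : Subgroup G, Y1 = ⁅Y, H⁆ := ⟨_, rfl⟩
  rw [← hY1]
  have hY1Y : Y1 ≤ Y := by rw [hY1]; exact comm_le_of_norm hnorm
  haveI : Fintype Y1 := Fintype.ofFinite _
  haveI : Fintype Y := Fintype.ofFinite _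
  -- `H` normalises `Y1`
  have hn1 : ∀ s ∈ H, ∀ g ∈ Y1, s * g * s⁻¹ ∈ Y1 := by
    intro s hs
    have hle : Y1 ≤ Y1.comap (MulAut.conj s).toMonoidHom := by
      rw [hY1, Subgroup.commutator_le]
      intro y hy h hh
      rw [Subgroup.mem_comap, commutatorElement_def]
      show s * (y * h * y⁻¹ * h⁻¹) * s⁻¹ ∈ ⁅Y, H⁆
      have h0 := Subgroup.commutator_mem_commutator (hnorm s hs y hy)
        (H.mul_mem (H.mul_mem hs hh) (H.inv_mem hs))
      rw [commutatorElement_def] at h0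
      have e : s * (y * h * y⁻¹ * h⁻¹) * s⁻¹ =
          s * y * s⁻¹ * (s * h * s⁻¹) * (s * y * s⁻¹)⁻¹ * (s * h * s⁻¹)⁻¹ := by group
      rw [e]
      exact h0
    intro g hg
    exact hle hg
  -- `Y` normalises `Y1`
  have hn2 : ∀ g ∈ Y, ∀ m ∈ Y1, g * m * g⁻¹ ∈ Y1 := by
    intro g hg
    have hle : Y1 ≤ Y1.comap (MulAut.conj g).toMonoidHom := by
      rw [hY1, Subgroup.commutator_le]
      intro y hy h hh
      rw [Subgroup.mem_comap, commutatorElement_def]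
      show g * (y * h * y⁻¹ * h⁻¹) * g⁻¹ ∈ ⁅Y, H⁆
      have h0 := Subgroup.commutator_mem_commutator (Y.mul_mem hg hy) hh
      have h0' := Subgroup.commutator_mem_commutator hg hh
      rw [commutatorElement_def] at h0 h0'
      have e : g * (y * h * y⁻¹ * h⁻¹) * g⁻¹ =
          (g * y * h * (g * y)⁻¹ * h⁻¹) * (g * h * g⁻¹ * h⁻¹)⁻¹ := by group
      rw [e]
      exact Subgroup.mul_mem _ h0 (Subgroup.inv_mem _ h0')
    intro m hm
    exact hle hm
  have hcopY : (Nat.card Y).Coprime (Nat.card H) := by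
    obtain ⟨k, hk⟩ := IsPGroup.iff_card.mp hHp
    rw [hk]
    exact (Nat.Coprime.pow_left k ((Nat.Prime.coprime_iff_not_dvd hp).mpr hYp)).symm
  have hcop1 : (Nat.card Y1).Coprime (Nat.card H) :=
    Nat.Coprime.coprime_dvd_left (Subgroup.card_dvd_of_le hY1Y) hcopY
  have hsolv : Group.IsSolvable H := by
    exact Group.isSolvable_of_comm (fun a b => Subtype.ext (hHab a a.2 b b.2))
  -- every `H`-invariant irreducible character of `Y1` is trivial
  have htriv : ∀ Θ1 : IrrCharacter Y1, (∀ s ∈ H, InvUnder Y1 s (Θ1 : Y1 → ℂ)) →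
      Θ1 = ⟨fun _ => 1, Cfsg.Agent.Lib.H24.isIrrCharacter_one⟩ := by
    intro Θ1 hΘ1
    obtain ⟨χ, hχ, hχinv⟩ := exists_inv_over Y Y1 H hY1Y hnorm hn2 hn1 hcopY hsolv Θ1 hΘ1
    have hker := inv_ker hp hp2 H hHp hHab hkey _ Y rfl hYp hnorm hEC χ hχinv
    by_contra hne
    apply hχ
    have h1 : (resMult hY1Y (χ : Y → ℂ) (Θ1 : Y1 → ℂ) : ℂ) = 0 := by
      rw [resMult_spec hY1Y (isCharacter_of_irr χ.2) Θ1.2]
      have h2 : res hY1Y (χ : Y → ℂ) = fun _ : Y1 => (χ : Y → ℂ) 1 := by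
        funext w
        exact hker w (by rw [← hY1]; exact w.2) (hY1Y w.2)
      rw [h2, classInner_const]
      have h3 := Cfsg.Agent.Lib.H24.irr_orthonormal
        (⟨fun _ => 1, Cfsg.Agent.Lib.H24.isIrrCharacter_one⟩ : IrrCharacter Y1) Θ1
      rw [if_neg (fun h => hne h.symm)] at h3
      rw [show classInner (fun _ : Y1 => (1 : ℂ)) (Θ1 : Y1 → ℂ) = 0 from h3, mul_zero]
    exact_mod_cast h1
  -- count
  have hcount := solv_count_cent Y1 H hn1 hcop1 hsolv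
  haveI : Subsingleton {χ : IrrCharacter Y1 // ∀ s ∈ H, InvUnder Y1 s (χ : Y1 → ℂ)} := by
    constructor
    intro a b
    apply Subtype.ext
    rw [htriv a.1 a.2, htriv b.1 b.2]
  have hle1 : Nat.card (ConjClasses ↥(Y1 ⊓ Subgroup.centralizer (H : Set G))) ≤ 1 := by
    rw [← hcount]
    exact Finite.card_le_one_iff_subsingleton.mpr inferInstance
  haveI : Subsingleton (ConjClasses ↥(Y1 ⊓ Subgroup.centralizer (H : Set G))) :=
    Finite.card_le_one_iff_subsingleton.mp hle1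
  rw [Subgroup.eq_bot_iff_forall]
  intro z hz
  have h4 : ConjClasses.mk (⟨z, hz⟩ : ↥(Y1 ⊓ Subgroup.centralizer (H : Set G))) =
      ConjClasses.mk 1 := Subsingleton.elim _ _
  rw [ConjClasses.mk_eq_mk_iff_isConj, isConj_one_left] at h4
  exact congrArg Subtype.val h4

end Cfsg.Agent.Lib.H24.ShI
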