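import Cfsg.Agent.Lib.H24.SimsMODW2

/-!
# S3685 / S3385, piece (MOD): the fields `card_V`, `W_card` of `Setup.Mod` from the other fields (helper24)
-/

set_option autoImplicit false

namespace Cfsg.Agent.Lib.H24.Sims

open scoped Pointwise commutatorElement
open Cfsg.Agent.Lib.H5.Sims

variable {G : Type*} [Group G]

namespace Con

variable [Finite G] (S : Setup G)

theorem Yj_le_Vj (hC : S.Con) (j : ℤ) : S.Yj j ≤ S.Vj j :=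
  (hC.Y_le_Z j (S.Tj j) (S.isSyl_Tj j)).trans (hC.Z_le_V j (S.Tj j) (S.isSyl_Tj j))

theorem comm_XV_le_V (hC : S.Con) (j : ℤ) (X : Subgroup G) (hX : S.IsSyl j X) :
    ⁅S.Vj j, X⁆ ≤ S.Vj j := by
  rw [Subgroup.commutator_le]
  intro v hv y hy
  exact comm_mem_V S hC j hv (hX.1 hy)

/-- `|zOf X| = |Y_j| c` -/
theorem card_zOf (hL : S.Loc) (hC : S.Con)
    (hZ_eq : ∀ (j : ℤ) (X : Subgroup G), S.IsSyl j X → zOf X = S.Yj j ⊔ ⁅S.Vj j, X⁆)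
    (hY_disj : ∀ (j : ℤ) (X : Subgroup G), S.IsSyl j X → S.Yj j ⊓ ⁅S.Vj j, X⁆ = ⊥)
    (j : ℤ) (X : Subgroup G) (hX : S.IsSyl j X) :
    Nat.card ↥(zOf X) = Nat.card (S.Yj 0) * Nat.card ↥⁅S.Vj 0, S.Tj 0⁆ := by
  have hcomm : Comm (S.Yj j) ⁅S.Vj j, X⁆ := fun a ha b hb' =>
    Vj_abelian S hC j a (Yj_le_Vj S hC j ha) b (comm_XV_le_V S hC j X hX hb')
  rw [hZ_eq j X hX, card_sup_eq_mul hcomm (hY_disj j X hX), card_Yj S j, card_comm_eq S hL hC j X hX]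

/-- field `card_V` of `Setup.Mod`, from the Sylow fields -/
theorem mod_card_V (hL : S.Loc) (hC : S.Con)
    (hcomm_le : ∀ (j : ℤ) (X : Subgroup G), S.IsSyl j X → ⁅S.Vj j, X⁆ ≤ zOf X)
    (hZ_eq : ∀ (j : ℤ) (X : Subgroup G), S.IsSyl j X → zOf X = S.Yj j ⊔ ⁅S.Vj j, X⁆)
    (hY_disj : ∀ (j : ℤ) (X : Subgroup G), S.IsSyl j X → S.Yj j ⊓ ⁅S.Vj j, X⁆ = ⊥)
    (hZ_inf : ∀ (j : ℤ) (X X' : Subgroup G), S.IsSyl j X → S.IsSyl j X' → X ≠ X' →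
      zOf X ⊓ zOf X' = S.Yj j)
    (hZ_sup : ∀ (j : ℤ) (X X' : Subgroup G), S.IsSyl j X → S.IsSyl j X' → X ≠ X' →
      zOf X ⊔ zOf X' = S.Vj j) :
    ∀ j : ℤ, Nat.card (S.Vj j) = Nat.card (S.Yj 0) * Nat.card ↥⁅S.Vj 0, S.Tj 0⁆ ^ 2 := by
  intro j
  have hX : S.IsSyl j (S.Tj (j - 1)) := S.isSyl_Tj_pred j
  have hX' : S.IsSyl j (S.Tj j) := S.isSyl_Tj j
  have hne : S.Tj (j - 1) ≠ S.Tj j := hL.bent j
  have hZV : zOf (S.Tj (j - 1)) ≤ S.Vj j := hC.Z_le_V j (S.Tj (j - 1)) hX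
  have hCV : ⁅S.Vj j, S.Tj j⁆ ≤ S.Vj j := comm_XV_le_V S hC j (S.Tj j) hX'
  have hZs : zOf (S.Tj (j - 1)) ⊔ zOf (S.Tj j) = S.Vj j := hZ_sup j (S.Tj (j - 1)) (S.Tj j) hX hX' hne
  have hZi : zOf (S.Tj (j - 1)) ⊓ zOf (S.Tj j) = S.Yj j := hZ_inf j (S.Tj (j - 1)) (S.Tj j) hX hX' hne
  have hZe : zOf (S.Tj j) = S.Yj j ⊔ ⁅S.Vj j, S.Tj j⁆ := hZ_eq j (S.Tj j) hX'
  have hYd : S.Yj j ⊓ ⁅S.Vj j, S.Tj j⁆ = ⊥ := hY_disj j (S.Tj j) hX'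
  have hcl : ⁅S.Vj j, S.Tj j⁆ ≤ zOf (S.Tj j) := hcomm_le j (S.Tj j) hX'
  have hYZ : S.Yj j ≤ zOf (S.Tj (j - 1)) := hC.Y_le_Z j (S.Tj (j - 1)) hX
  -- `V_j = zOf T_(j-1) ⊔ ⁅V_j, T_j⁆`
  have hsup : zOf (S.Tj (j - 1)) ⊔ ⁅S.Vj j, S.Tj j⁆ = S.Vj j := by
    apply le_antisymm
    · exact sup_le hZV hCV
    · have h1 : zOf (S.Tj j) ≤ zOf (S.Tj (j - 1)) ⊔ ⁅S.Vj j, S.Tj j⁆ := by
        rw [hZe]
        exact sup_le (hYZ.trans le_sup_left) le_sup_right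
      calc S.Vj j = zOf (S.Tj (j - 1)) ⊔ zOf (S.Tj j) := hZs.symm
        _ ≤ zOf (S.Tj (j - 1)) ⊔ ⁅S.Vj j, S.Tj j⁆ := sup_le le_sup_left h1
  have hinf : zOf (S.Tj (j - 1)) ⊓ ⁅S.Vj j, S.Tj j⁆ = ⊥ := by
    rw [eq_bot_iff, ← hYd]
    refine le_inf ?_ inf_le_right
    rw [← hZi]
    exact le_inf inf_le_left (inf_le_right.trans hcl)
  have hcomm : Comm (zOf (S.Tj (j - 1))) ⁅S.Vj j, S.Tj j⁆ := fun a ha b hb' =>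
    Vj_abelian S hC j a (hZV ha) b (hCV hb')
  have e1 := card_sup_eq_mul hcomm hinf
  have e2 := card_zOf S hL hC hZ_eq hY_disj j (S.Tj (j - 1)) hX
  have e3 := card_comm_eq S hL hC j (S.Tj j) hX'
  rw [hsup, e2, e3] at e1
  rw [e1, pow_two, mul_assoc]

/-- field `W_card` of `Setup.Mod`, from `card_V`, `W_sup`, `W_disj` -/
theorem mod_W_card (hC : S.Con)
    (hcard_V : ∀ j : ℤ, Nat.card (S.Vj j) = Nat.card (S.Yj 0) * Nat.card ↥⁅S.Vj 0, S.Tj 0⁆ ^ 2)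
    (hW_sup : ∀ j : ℤ, ∀ t ∈ S.Pj j, orderOf t = 3 →
      S.Yj j ⊔ ⁅S.Vj j, Subgroup.zpowers t⁆ = S.Vj j)
    (hW_disj : ∀ j : ℤ, ∀ t ∈ S.Pj j, orderOf t = 3 →
      S.Yj j ⊓ ⁅S.Vj j, Subgroup.zpowers t⁆ = ⊥) :
    ∀ j : ℤ, ∀ t ∈ S.Pj j, orderOf t = 3 →
      Nat.card ↥⁅S.Vj j, Subgroup.zpowers t⁆ = Nat.card ↥⁅S.Vj 0, S.Tj 0⁆ ^ 2 := by
  intro j t ht ht3
  have hcomm : Comm (S.Yj j) ⁅S.Vj j, Subgroup.zpowers t⁆ := fun a ha b hb' =>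
    Vj_abelian S hC j a (Yj_le_Vj S hC j ha) b (W_le_V S hC j t ht hb')
  have h1 := card_sup_eq_mul hcomm (hW_disj j t ht ht3)
  rw [hW_sup j t ht ht3, hcard_V j, card_Yj S j] at h1
  have hpos : 0 < Nat.card (S.Yj 0) := Nat.card_pos
  exact (Nat.eq_of_mul_eq_mul_left hpos h1).symm

/-- assembly: `Setup.Mod` from the six Sylow fields (helper21's `mod_six`) and the three `t`-fields
`cV_three`, `W_sup`, `W_disj` (helper4's `mod_t`); the other seven fields are proved in `H24.Sims*`. -/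
theorem mod_of_nine (hb : S.Bent) (hL : S.Loc) (hC : S.Con)
    (f1 : ∀ (j : ℤ) (X : Subgroup G), S.IsSyl j X → ⁅S.Vj j, X⁆ ≤ zOf X)
    (f2 : ∀ (j : ℤ) (X : Subgroup G), S.IsSyl j X → zOf X = S.Yj j ⊔ ⁅S.Vj j, X⁆)
    (f3 : ∀ (j : ℤ) (X : Subgroup G), S.IsSyl j X → S.Yj j ⊓ ⁅S.Vj j, X⁆ = ⊥)
    (f5 : ∀ (j : ℤ) (X X' : Subgroup G), S.IsSyl j X → S.IsSyl j X' → X ≠ X' →
      zOf X ⊓ zOf X' = S.Yj j)
    (f6 : ∀ (j : ℤ) (X X' : Subgroup G), S.IsSyl j X → S.IsSyl j X' → X ≠ X' →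
      zOf X ⊔ zOf X' = S.Vj j)
    (f7 : ∀ (j : ℤ) (X X' : Subgroup G), S.IsSyl j X → S.IsSyl j X' → X ≠ X' →
      ∀ s ∈ X, s ∉ S.Qj j → ∀ x ∈ ⁅S.Vj j, X⁆, ∃ z ∈ zOf X', x = z * s * z⁻¹ * s⁻¹)
    (f10 : ∀ j : ℤ, ∀ t ∈ S.Pj j, orderOf t = 3 → ∀ v ∈ S.Vj j, t * v = v * t → v ∈ S.Yj j)
    (f12 : ∀ j : ℤ, ∀ t ∈ S.Pj j, orderOf t = 3 →
      S.Yj j ⊔ ⁅S.Vj j, Subgroup.zpowers t⁆ = S.Vj j)
    (f13 : ∀ j : ℤ, ∀ t ∈ S.Pj j, orderOf t = 3 →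
      S.Yj j ⊓ ⁅S.Vj j, Subgroup.zpowers t⁆ = ⊥) : S.Mod :=
  { comm_le := f1
    Z_eq := f2
    Y_disj := f3
    card_comm := (mod_cards S hb hL hC f2 f3).1
    Z_inf := f5
    Z_sup := f6
    comm_eq := f7
    card_Y_le := (mod_cards S hb hL hC f2 f3).2.1
    card_V := mod_card_V S hL hC f1 f2 f3 f5 f6
    cV_three := f10
    W_card := mod_W_card S hC (mod_card_V S hL hC f1 f2 f3 f5 f6) f12 f13
    W_sup := f12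
    W_disj := f13
    W_eq := mod_W_eq S hb hL hC
    W_norm := mod_W_norm S hb hL hC
    comm_le_W := mod_comm_le_W S hb hL hC }

end Con

end Cfsg.Agent.Lib.H24.Sims
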