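import Mathlib
import Cfsg.Agent.Lib.L0.CharOps
import Cfsg.Agent.Lib.L0.CharInner
import Cfsg.Agent.Lib.L0.CharInd
import Cfsg.Agent.Lib.L0.CharIndChar
import Cfsg.Agent.Lib.L0.CharDegree
import Cfsg.Agent.Lib.H24.CharBasic
import Cfsg.Agent.Lib.H24.CharOrth
import Cfsg.Agent.Lib.H23.DegreeDvd

/-!
# A large constituent of the permutation character on a TI subgroup's normalizer (helper24)

* `classInner_one_le_restrict`: the multiplicity of the trivial character does not decrease
  under restriction;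
* `exists_degree_ge_of_TI`: if `P ≤ N < G` and every `y` with `y⁻¹ x y ∈ N` for some
  `1 ≠ x ∈ P` lies in `N`, then some irreducible character of `G` has degree `≥ |P|`.
-/

set_option autoImplicit false

namespace Cfsg.Agent.Lib.H24.SmallDeg

open Cfsg Cfsg.Agent.Lib.L0 Cfsg.Agent.Lib.H24 Cfsg.Agent.Lib.H23
open scoped ComplexConjugate

section restrict

variable {G : Type*} [Group G] [Fintype G]

theorem classInner_one_le_restrict (Δ : Subgroup G) [Fintype Δ] {ψ : G → ℂ}
    (hψ : IsCharacter G ψ) :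
    ∃ a b : ℕ, classInner ψ (fun _ : G => (1 : ℂ)) = a ∧
      classInner (fun x : Δ => ψ x) (fun _ : Δ => (1 : ℂ)) = b ∧ a ≤ b := by
  classical
  obtain ⟨l, hl, rfl⟩ := isCharacter_exists_irr_decomp hψ
  clear hψ
  induction l with
  | nil =>
    refine ⟨0, 0, ?_, ?_, le_refl _⟩
    · simp [classInner_zero_left]
    · have : (fun x : Δ => ([] : List (G → ℂ)).sum (x : G)) = (0 : Δ → ℂ) := by
        funext x; simp
      rw [this, classInner_zero_left]; simp
  | cons φ l ih =>
    obtain ⟨a, b, ha, hb, hab⟩ := ih (fun χ hχ => hl χ (by simp [hχ]))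
    have hφ : IsIrrCharacter G φ := hl φ (by simp)
    have h1G : IsIrrCharacter G (fun _ : G => (1 : ℂ)) := Cfsg.Agent.Lib.H24.isIrrCharacter_one
    have h1Δ : IsIrrCharacter Δ (fun _ : Δ => (1 : ℂ)) := Cfsg.Agent.Lib.H24.isIrrCharacter_one
    obtain ⟨b₁, hb₁⟩ := classInner_char_char_nat
      (isCharacter_restrict Δ (isCharacter_of_irr hφ)) (isCharacter_of_irr h1Δ)
    have hsplit : (fun x : Δ => (φ :: l).sum (x : G)) =
        (fun x : Δ => φ x) + (fun x : Δ => l.sum (x : G)) := by
      funext x; simp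
    by_cases hφ1 : φ = (fun _ : G => (1 : ℂ))
    · refine ⟨a + 1, b + 1, ?_, ?_, by omega⟩
      · rw [List.sum_cons, classInner_add_left, ha, hφ1, irr_classInner_self h1G]
        push_cast; ring
      · rw [hsplit, classInner_add_left, hb]
        have : (fun x : Δ => φ x) = (fun _ : Δ => (1 : ℂ)) := by
          funext x; rw [hφ1]
        rw [this, irr_classInner_self h1Δ]
        push_cast; ring
    · refine ⟨a, b + b₁, ?_, ?_, by omega⟩
      · rw [List.sum_cons, classInner_add_left, ha, irr_classInner_ne hφ h1G hφ1, zero_add]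
      · rw [hsplit, classInner_add_left, hb, hb₁]
        push_cast; ring

end restrict

section TI

variable {G : Type*} [Group G] [Fintype G]

theorem indFun_one_apply_of_TI (P N : Subgroup G) (hPN : P ≤ N)
    (hTI : ∀ x ∈ P, x ≠ 1 → ∀ y : G, y⁻¹ * x * y ∈ N → y ∈ N) {x : G} (hx : x ∈ P)
    (hx1 : x ≠ 1) : indFun N (fun _ : N => (1 : ℂ)) x = 1 := by
  classical
  rw [indFun_apply]
  have h : ∀ y : G, extendByZero N (fun _ : N => (1 : ℂ)) (y⁻¹ * x * y) =
      if y ∈ N then 1 else 0 := by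
    intro y
    by_cases hy : y ∈ N
    · rw [if_pos hy, extendByZero_apply_of_mem N _
        (N.mul_mem (N.mul_mem (N.inv_mem hy) (hPN hx)) hy)]
    · rw [if_neg hy, extendByZero_apply_not_mem N _ (fun hmem => hy (hTI x hx hx1 y hmem))]
  rw [Finset.sum_congr rfl fun y _ => h y, Finset.sum_boole]
  have hc : (Finset.univ.filter (fun y : G => y ∈ N)).card = Nat.card N := by
    rw [Nat.card_eq_fintype_card, Fintype.card_subtype]
  rw [hc]
  have hN0 : (Nat.card N : ℂ) ≠ 0 := by exact_mod_cast (Nat.card_pos (α := N)).ne'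
  field_simp

theorem exists_degree_ge_of_TI (P N : Subgroup G) (hPN : P ≤ N) (hN : N ≠ ⊤)
    (hTI : ∀ x ∈ P, x ≠ 1 → ∀ y : G, y⁻¹ * x * y ∈ N → y ∈ N) :
    ∃ χ : IrrCharacter G, Nat.card P ≤ charDegree (χ : G → ℂ) := by
  classical
  by_contra hcon
  push Not at hcon
  have := Fintype.ofFinite (IrrCharacter G)
  have := Fintype.ofFinite N
  set π : G → ℂ := indFun N (fun _ : N => (1 : ℂ)) with hπdef
  have h1N : IsIrrCharacter N (fun _ : N => (1 : ℂ)) := Cfsg.Agent.Lib.H24.isIrrCharacter_one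
  have h1G : IsIrrCharacter G (fun _ : G => (1 : ℂ)) := Cfsg.Agent.Lib.H24.isIrrCharacter_one
  have hπ : IsCharacter G π := isCharacter_indFun N (isCharacter_of_irr h1N)
  have hπcf := isClassFunction_of_isCharacter hπ
  -- degrees
  have hd : ∀ χ : IrrCharacter G, (χ : G → ℂ) 1 = (charDegree (χ : G → ℂ) : ℂ) ∧
      0 < charDegree (χ : G → ℂ) := by
    intro χ
    obtain ⟨m, hm0, hm1, _⟩ := irr_apply_one_dvd_card (χ : G → ℂ) χ.2
    rw [charDegree_eq_of_apply_one hm1]
    exact ⟨hm1, hm0⟩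
  -- multiplicities
  choose n hn using fun χ : IrrCharacter G =>
    classInner_char_char_nat hπ (isCharacter_of_irr χ.2)
  have hexp : π = ∑ χ : IrrCharacter G, (n χ : ℂ) • (χ : G → ℂ) := by
    have h := classFunction_expansion π hπcf
    simp only [hn] at h
    exact h
  -- degree sum
  have hI : (∑ χ : IrrCharacter G, n χ * charDegree (χ : G → ℂ) : ℕ) = N.index := by
    have h1 : π 1 = (N.index : ℂ) := by
      rw [hπdef, indFun_apply_one, mul_one]
    have h2 : π 1 = ∑ χ : IrrCharacter G, (n χ : ℂ) * (charDegree (χ : G → ℂ) : ℂ) := by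
      conv_lhs => rw [hexp]
      rw [Finset.sum_apply]
      refine Finset.sum_congr rfl fun χ _ => ?_
      rw [Pi.smul_apply, smul_eq_mul, (hd χ).1]
    rw [h1] at h2
    exact_mod_cast h2.symm
  -- norm
  have hnorm : classInner π π = ∑ χ : IrrCharacter G, ((n χ : ℂ)) ^ 2 := by
    conv_lhs => rw [hexp, classInner_sum_left]
    refine Finset.sum_congr rfl fun χ _ => ?_
    rw [classInner_smul_left, ← hexp, ← classInner_conj_symm π, hn, Complex.conj_natCast, sq]
  -- Frobenius
  have hfrob : classInner π π =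
      classInner (fun _ : N => (1 : ℂ)) (fun h : N => π h) :=
    frobenius_reciprocity N _ π hπcf
  set Δ : Subgroup N := P.subgroupOf N with hΔ
  have := Fintype.ofFinite Δ
  obtain ⟨a, b, ha, hb, hab⟩ := classInner_one_le_restrict Δ
    (isCharacter_restrict N hπ)
  have hnorm' : classInner π π = a := by
    rw [hfrob, ← classInner_conj_symm, ha, Complex.conj_natCast]
  -- value of b
  set q : ℕ := Nat.card Δ with hq
  have hq0 : 0 < q := Nat.card_pos
  have hbq : b * q + 1 = q + N.index := by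
    have hval : ∀ x : Δ, π ((x : N) : G) =
        1 + (if x = 1 then ((N.index : ℂ) - 1) else 0) := by
      intro x
      by_cases hx : x = 1
      · rw [if_pos hx, hx]
        simp only [OneMemClass.coe_one]
        rw [hπdef, indFun_apply_one]; ring
      · rw [if_neg hx, add_zero]
        refine indFun_one_apply_of_TI P N hPN hTI (Subgroup.mem_subgroupOf.mp x.2) ?_
        intro h1
        apply hx
        apply Subtype.ext
        apply Subtype.ext
        simpa using h1
    have h1 : (b : ℂ) = (q : ℂ)⁻¹ * ∑ x : Δ, π ((x : N) : G) := by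
      rw [← hb]
      unfold classInner
      rw [hq]
      congr 1
      refine Finset.sum_congr rfl fun x _ => ?_
      rw [map_one, mul_one]
    have h2 : ∑ x : Δ, π ((x : N) : G) = (q : ℂ) + ((N.index : ℂ) - 1) := by
      rw [Finset.sum_congr rfl fun x _ => hval x, Finset.sum_add_distrib, Finset.sum_const,
        Finset.card_univ, Finset.sum_ite_eq' Finset.univ (1 : Δ), if_pos (Finset.mem_univ _),
        hq, Nat.card_eq_fintype_card]
      simp
    rw [h2] at h1
    have hq0' : (q : ℂ) ≠ 0 := by exact_mod_cast hq0.ne'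
    have h3 : (b : ℂ) * q + 1 = q + N.index := by
      rw [h1]; field_simp; ring
    exact_mod_cast h3
  -- q = |P|
  have hqP : q = Nat.card P := by
    rw [hq, hΔ]
    exact Nat.card_congr (Subgroup.subgroupOfEquivOfLe hPN).toEquiv
  -- multiplicity of the trivial character
  set χ₁ : IrrCharacter G := ⟨fun _ : G => (1 : ℂ), h1G⟩ with hχ₁
  have hn1 : n χ₁ = 1 := by
    have h := hn χ₁
    rw [hπdef, frobenius_reciprocity N _ _ (isClassFunction_of_isCharacter (isCharacter_of_irr h1G))]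
      at h
    have h' : classInner (fun _ : N => (1 : ℂ)) (fun h : N => (χ₁ : G → ℂ) h) = 1 :=
      irr_classInner_self h1N
    rw [h'] at h
    exact_mod_cast h.symm
  have hd1 : charDegree (χ₁ : G → ℂ) = 1 := by
    apply charDegree_eq_of_apply_one
    simp [hχ₁]
  -- sums
  have ha' : (∑ χ : IrrCharacter G, (n χ) ^ 2 : ℕ) = a := by
    have h := hnorm.symm.trans hnorm'
    exact_mod_cast h
  have hsplit1 := Finset.add_sum_erase Finset.univ
    (fun χ : IrrCharacter G => n χ * charDegree (χ : G → ℂ)) (Finset.mem_univ χ₁)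
  have hsplit2 := Finset.add_sum_erase Finset.univ
    (fun χ : IrrCharacter G => (n χ) ^ 2) (Finset.mem_univ χ₁)
  simp only [hn1, hd1] at hsplit1 hsplit2
  rw [hI] at hsplit1
  rw [ha'] at hsplit2
  have hterm : ∑ χ ∈ Finset.univ.erase χ₁, n χ * charDegree (χ : G → ℂ) ≤
      (q - 1) * ∑ χ ∈ Finset.univ.erase χ₁, (n χ) ^ 2 := by
    rw [Finset.mul_sum]
    refine Finset.sum_le_sum fun χ _ => ?_
    have h1 : charDegree (χ : G → ℂ) ≤ q - 1 := by
      have := hcon χ
      omega
    rcases Nat.eq_zero_or_pos (n χ) with h0 | h0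
    · rw [h0]; simp
    · calc n χ * charDegree (χ : G → ℂ) ≤ n χ * (q - 1) := Nat.mul_le_mul_left _ h1
        _ ≤ n χ * n χ * (q - 1) := by
          apply Nat.mul_le_mul_right
          exact Nat.le_mul_of_pos_left _ h0
        _ = (q - 1) * n χ ^ 2 := by ring
  have hI2 : 2 ≤ N.index := by
    have h0 : N.index ≠ 0 := Subgroup.index_ne_zero_of_finite
    have h1 : N.index ≠ 1 := fun h => hN (Subgroup.index_eq_one.mp h)
    omega
  set S1 := ∑ χ ∈ Finset.univ.erase χ₁, n χ * charDegree (χ : G → ℂ) with hS1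
  set S2 := ∑ χ ∈ Finset.univ.erase χ₁, (n χ) ^ 2 with hS2
  -- arithmetic in ℤ
  have e1 : (1 : ℤ) + S1 = N.index := by exact_mod_cast hsplit1
  have e2 : (1 : ℤ) + S2 = a := by
    have : 1 ^ 2 + S2 = a := hsplit2
    simpa using congrArg (Nat.cast : ℕ → ℤ) this
  have e3 : (S1 : ℤ) ≤ ((q : ℤ) - 1) * S2 := by
    have : ((q - 1 : ℕ) : ℤ) = (q : ℤ) - 1 := by
      rw [Nat.cast_sub hq0]; simp
    rw [← this]
    exact_mod_cast hterm
  have e4 : (a : ℤ) ≤ b := by exact_mod_cast hab
  have e5 : (b : ℤ) * q + 1 = q + N.index := by exact_mod_cast hbq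
  have e6 : (1 : ℤ) ≤ q := by exact_mod_cast hq0
  have e7 : (2 : ℤ) ≤ N.index := by exact_mod_cast hI2
  have e8 : (0 : ℤ) ≤ S2 := by positivity
  have e3' : (N.index : ℤ) - 1 ≤ ((q : ℤ) - 1) * ((a : ℤ) - 1) := by
    have h1 : (S1 : ℤ) = N.index - 1 := by linarith
    have h2 : (S2 : ℤ) = a - 1 := by linarith
    rw [← h1, ← h2]; exact e3
  have k1 : (q : ℤ) * ((N.index : ℤ) - 1) ≤ (q : ℤ) * (((q : ℤ) - 1) * ((a : ℤ) - 1)) :=
    mul_le_mul_of_nonneg_left e3' (by linarith)
  have k2 : ((q : ℤ) - 1) * ((q : ℤ) * ((a : ℤ) - 1)) ≤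
      ((q : ℤ) - 1) * ((q : ℤ) * ((b : ℤ) - 1)) := by
    apply mul_le_mul_of_nonneg_left _ (by linarith)
    apply mul_le_mul_of_nonneg_left _ (by linarith)
    linarith
  have k3 : (q : ℤ) * ((b : ℤ) - 1) = (N.index : ℤ) - 1 := by linarith
  rw [k3] at k2
  have k4 : (q : ℤ) * (((q : ℤ) - 1) * ((a : ℤ) - 1)) =
      ((q : ℤ) - 1) * ((q : ℤ) * ((a : ℤ) - 1)) := by ring
  have k5 : (q : ℤ) * ((N.index : ℤ) - 1) - ((q : ℤ) - 1) * ((N.index : ℤ) - 1) =
      (N.index : ℤ) - 1 := by ring
  linarith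

end TI

end Cfsg.Agent.Lib.H24.SmallDeg
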