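import Cfsg.Agent.Lib.H24.SmallDeg1
import Cfsg.Agent.Lib.H12.CliffordHom
import Cfsg.Agent.Lib.H23.ClassBound

/-!
# All irreducible degrees `< p` forces a normal abelian Sylow `p`-subgroup (helper24)

`normal_abelian_sylow_of_degree_lt`: induction on `|G|`; the hypothesis passes to subgroups and
quotients, Sylow subgroups are abelian, a minimal counterexample has a TI Sylow subgroup and then
`exists_degree_ge_of_TI` produces a character of degree `≥ |P| ≥ p`.
-/

set_option autoImplicit false

universe u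

namespace Cfsg.Agent.Lib.H24.SmallDeg

open Cfsg Cfsg.Agent.Lib.L0 Cfsg.Agent.Lib.H24 Cfsg.Agent.Lib.H23
open scoped ComplexConjugate Pointwise

section inherit

variable {G : Type*} [Group G] [Finite G]

theorem degree_lt_subgroup (p : ℕ) (hb : ∀ χ : IrrCharacter G, charDegree (χ : G → ℂ) < p)
    (K : Subgroup G) (ψ : IrrCharacter K) : charDegree (ψ : K → ℂ) < p := by
  classical
  have := Fintype.ofFinite G
  have := Fintype.ofFinite K
  obtain ⟨π, hπ, hne⟩ :=
    Cfsg.Agent.Lib.H12.exists_irr_over K.subtype K.subtype_injective ψ.2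
  obtain ⟨a, b, ha, hb', hab⟩ := degree_le_of_classInner_ne_zero ψ.2
    (isCharacter_comp K.subtype (isCharacter_of_irr hπ)) hne
  have h1 : charDegree (ψ : K → ℂ) = a := charDegree_eq_of_apply_one ha
  have h2 : charDegree π = b := by
    apply charDegree_eq_of_apply_one
    rw [← hb']; simp
  have h3 := hb ⟨π, hπ⟩
  simp only at h3
  omega

theorem degree_lt_quotient (p : ℕ) (hb : ∀ χ : IrrCharacter G, charDegree (χ : G → ℂ) < p)
    (D : Subgroup G) [D.Normal] (ψ : IrrCharacter (G ⧸ D)) :
    charDegree (ψ : G ⧸ D → ℂ) < p := by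
  have h := isIrrCharacter_comp_of_surjective (QuotientGroup.mk' D)
    (QuotientGroup.mk'_surjective D) ψ.2
  have h3 := hb ⟨_, h⟩
  have e : charDegree ((ψ : G ⧸ D → ℂ) ∘ (QuotientGroup.mk' D)) =
      charDegree (ψ : G ⧸ D → ℂ) := by
    unfold charDegree; simp
  simp only [e] at h3
  exact h3

theorem comm_of_isPGroup (p : ℕ) [hp : Fact p.Prime]
    (hb : ∀ χ : IrrCharacter G, charDegree (χ : G → ℂ) < p)
    (K : Subgroup G) (hK : IsPGroup p K) : ∀ x ∈ K, ∀ y ∈ K, x * y = y * x := by
  have hbK := degree_lt_subgroup p hb K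
  have hlin : ∀ χ : IrrCharacter K, (χ : K → ℂ) 1 = 1 := by
    intro χ
    obtain ⟨m, hm0, hm1, hmdvd⟩ := irr_apply_one_dvd_card (χ : K → ℂ) χ.2
    have hlt : m < p := by
      have := hbK χ
      rwa [charDegree_eq_of_apply_one hm1] at this
    obtain ⟨k, hk⟩ := IsPGroup.iff_card.mp hK
    rw [hk] at hmdvd
    obtain ⟨j, _, hj⟩ := (Nat.dvd_prime_pow hp.out).mp hmdvd
    have hj0 : j = 0 := by
      by_contra hne
      have : p ≤ p ^ j := Nat.le_self_pow hne p
      omega
    rw [hj0, pow_zero] at hj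
    rw [hm1, hj]; simp
  intro x hx y hy
  have := comm_of_forall_irr_one hlin ⟨x, hx⟩ ⟨y, hy⟩
  exact congrArg Subtype.val this

end inherit

theorem normal_abelian_sylow_of_degree_lt (p : ℕ) [hp : Fact p.Prime] :
    ∀ (n : ℕ) (G : Type u) [Group G] [Finite G], Nat.card G = n →
      (∀ χ : IrrCharacter G, charDegree (χ : G → ℂ) < p) →
      ∃ P : Subgroup G, P.Normal ∧ (∀ x ∈ P, ∀ y ∈ P, x * y = y * x) ∧ IsPGroup p P ∧
        ¬ p ∣ P.index := by
  intro n
  induction n using Nat.strong_induction_on with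
  | _ n ih =>
  intro G _ _ hcard hb
  classical
  have := Fintype.ofFinite G
  obtain ⟨P⟩ : Nonempty (Sylow p G) := inferInstance
  by_cases hPn : (P : Subgroup G).Normal
  · exact ⟨P, hPn, comm_of_isPGroup p hb P P.2, P.2, P.not_dvd_index⟩
  by_cases hTI : ∃ Q : Sylow p G, Q ≠ P ∧ (P : Subgroup G) ⊓ Q ≠ ⊥
  · obtain ⟨Q, hQP, hD⟩ := hTI
    set D : Subgroup G := (P : Subgroup G) ⊓ Q with hDdef
    set M : Subgroup G := Subgroup.normalizer (D : Set G) with hMdef
    have hcent : ∀ A : Sylow p G, D ≤ A → (A : Subgroup G) ≤ M := by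
      intro A hDA x hx
      apply Subgroup.centralizer_le_normalizer
      rw [Subgroup.mem_centralizer_iff]
      intro d hd
      exact comm_of_isPGroup p hb A A.2 d (hDA hd) x hx
    have hPM : (P : Subgroup G) ≤ M := hcent P inf_le_left
    have hQM : (Q : Subgroup G) ≤ M := hcent Q inf_le_right
    by_cases hM : M = ⊤
    · haveI : D.Normal := Subgroup.normalizer_eq_top_iff.mp hM
      have hlt : Nat.card (G ⧸ D) < n := by
        rw [← hcard, Subgroup.card_eq_card_quotient_mul_card_subgroup D]
        have h1 : 1 < Nat.card D := (Subgroup.one_lt_card_iff_ne_bot D).mpr hD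
        have h2 : 0 < Nat.card (G ⧸ D) := Nat.card_pos
        nlinarith
      obtain ⟨R, hRn, _, hRp, hRi⟩ := ih _ hlt (G ⧸ D) rfl (degree_lt_quotient p hb D)
      have hRc : IsPGroup p (R.comap (QuotientGroup.mk' D)) := by
        refine hRp.comap_of_ker_isPGroup _ ?_
        rw [QuotientGroup.ker_mk']
        exact P.2.to_le inf_le_left
      refine ⟨R.comap (QuotientGroup.mk' D), hRn.comap _, comm_of_isPGroup p hb _ hRc, hRc, ?_⟩
      rw [Subgroup.index_comap_of_surjective _ (QuotientGroup.mk'_surjective D)]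
      exact hRi
    · exfalso
      have hlt : Nat.card M < n := by
        rw [← hcard]
        have h1 : Nat.card M ≤ Nat.card G := Subgroup.card_le_card_group M
        have h2 : Nat.card M ≠ Nat.card G := fun h => hM (Subgroup.eq_top_of_card_eq M h)
        omega
      obtain ⟨R, hRn, _, hRp, hRi⟩ := ih _ hlt M rfl (degree_lt_subgroup p hb M)
      let RS : Sylow p M := hRp.toSylow hRi
      have hRSn : (RS : Subgroup M).Normal := hRn
      have := Sylow.unique_of_normal RS hRSn
      have key : ∀ A : Sylow p G, (A : Subgroup G) ≤ M →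
          (A : Subgroup G) = R.map M.subtype := by
        intro A hAM
        have hA' : IsPGroup p ((A : Subgroup G).subgroupOf M) := A.2.comap_subtype
        obtain ⟨S, hS⟩ := hA'.exists_le_sylow
        have hSR : S = RS := Subsingleton.elim _ _
        have hle : (A : Subgroup G) ≤ R.map M.subtype := by
          intro x hx
          have h1 : (⟨x, hAM hx⟩ : M) ∈ (A : Subgroup G).subgroupOf M :=
            Subgroup.mem_subgroupOf.mpr hx
          have h2 := hS h1
          rw [hSR] at h2
          exact ⟨⟨x, hAM hx⟩, h2, rfl⟩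
        exact (A.is_maximal' (hRp.map _) hle).symm
      have h := (key P hPM).trans (key Q hQM).symm
      exact hQP (Sylow.ext h).symm
  · push Not at hTI
    exfalso
    set N : Subgroup G := Subgroup.normalizer ((P : Subgroup G) : Set G) with hNdef
    have hN : N ≠ ⊤ := fun h => hPn (Subgroup.normalizer_eq_top_iff.mp h)
    have hTI' : ∀ x ∈ (P : Subgroup G), x ≠ 1 → ∀ y : G, y⁻¹ * x * y ∈ N → y ∈ N := by
      intro x hx hx1 y hy
      have hz : y⁻¹ * x * y ∈ ((y⁻¹ • P : Sylow p G) : Subgroup G) := by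
        rw [Sylow.coe_subgroup_smul]
        have := Subgroup.smul_mem_pointwise_smul x (MulAut.conj y⁻¹) (P : Subgroup G) hx
        simpa [MulAut.smul_def] using this
      have hz2 : y⁻¹ * x * y ∈ ((y⁻¹ • P : Sylow p G) : Subgroup G) ⊓ (P : Subgroup G) := by
        rw [← IsPGroup.inf_normalizer_sylow (y⁻¹ • P : Sylow p G).2 P]
        exact ⟨hz, hy⟩
      by_cases hPy : (y⁻¹ • P : Sylow p G) = P
      · have := Sylow.smul_eq_iff_mem_normalizer.mp hPy
        have := N.inv_mem this
        simpa using this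
      · exfalso
        have h0 := hTI (y⁻¹ • P : Sylow p G) hPy
        have h1 : y⁻¹ * x * y ∈ (P : Subgroup G) ⊓ ((y⁻¹ • P : Sylow p G) : Subgroup G) :=
          ⟨hz2.2, hz2.1⟩
        rw [h0, Subgroup.mem_bot] at h1
        apply hx1
        have : x = y * (y⁻¹ * x * y) * y⁻¹ := by group
        rw [this, h1]; group
    obtain ⟨χ, hχ⟩ := exists_degree_ge_of_TI (P : Subgroup G) N Subgroup.le_normalizer hN hTI'
    have hPnt : Nontrivial (P : Subgroup G) := by
      rw [Subgroup.nontrivial_iff_ne_bot]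
      intro h
      apply hPn
      rw [h]; infer_instance
    obtain ⟨k, hk0, hk⟩ := (P.2.nontrivial_iff_card).mp hPnt
    have h1 : p ≤ Nat.card (P : Subgroup G) := by
      rw [hk]; exact Nat.le_self_pow hk0.ne' p
    have h2 := hb χ
    omega

end Cfsg.Agent.Lib.H24.SmallDeg
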