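/-
S2545 piece L3 (helper24): the `p`-part of `|PSp_{2(m+1)}(F)|` equals the `p`-part of `|Sp_{2(m+1)}(F)|`
(`p = char F`), since the centre has order `gcd(2, q - 1)`, prime to `p`.
-/
import Cfsg.Agent.Lib.H8.SpBNA
import Cfsg.Agent.Lib.H2.SpCenter
import Cfsg.Prelude.Def_ParabolicCharacters

set_option autoImplicit false

namespace Cfsg.Agent.Lib.H24.SpBN

open Matrix Cfsg.Agent.Lib.H12.LS2 Cfsg.Agent.Lib.H5.LS2 Cfsg.Agent.Lib.H11.SpU Cfsg.Agent.Lib.H8.SpBN

variable {F : Type*} [Field F] {m : ℕ}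

theorem factorization_card_PSp [Fintype F] (p : ℕ) [Fact p.Prime] [CharP F p] :
    (Nat.card (Cfsg.PSp (m + 1) F)).factorization p = (Nat.card (Sp (m + 1) F)).factorization p := by
  classical
  have hp : p.Prime := Fact.out
  have hcard : Nat.card (Sp (m + 1) F) =
      Nat.card (Cfsg.PSp (m + 1) F) * Nat.card (Subgroup.center (Matrix.symplecticGroup (Fin (m + 1)) F)) :=
    Subgroup.card_eq_card_quotient_mul_card_subgroup _
  have hz : Nat.card (Subgroup.center (Matrix.symplecticGroup (Fin (m + 1)) F)) =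
      Nat.gcd 2 (Fintype.card F - 1) := Cfsg.Agent.Lib.H2.Sp.card_center (m + 1) (Nat.succ_le_succ (Nat.zero_le m))
  have hq : 1 < Fintype.card F := Fintype.one_lt_card
  have hpq : p ∣ Fintype.card F := by
    have h0 : ((Fintype.card F : ℕ) : F) = 0 := Nat.cast_card_eq_zero F
    exact (CharP.cast_eq_zero_iff F p _).1 h0
  have hnd : ¬ p ∣ Nat.gcd 2 (Fintype.card F - 1) := by
    intro h
    have h1 : p ∣ Fintype.card F - 1 := h.trans (Nat.gcd_dvd_right _ _)
    have h2 : p ∣ 1 := by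
      have := (Nat.dvd_sub hpq h1)
      have h3 : Fintype.card F - (Fintype.card F - 1) = 1 := by omega
      rwa [h3] at this
    exact hp.one_lt.ne' (Nat.dvd_one.1 h2)
  have hPS : Nat.card (Cfsg.PSp (m + 1) F) ≠ 0 := Nat.card_pos.ne'
  have hZ : Nat.card (Subgroup.center (Matrix.symplecticGroup (Fin (m + 1)) F)) ≠ 0 := Nat.card_pos.ne'
  rw [hcard, Nat.factorization_mul hPS hZ, Finsupp.add_apply, hz,
    Nat.factorization_eq_zero_of_not_dvd hnd, add_zero]

end Cfsg.Agent.Lib.H24.SpBN
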