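import Cfsg.Agent.Lib.H14.SuzM.Base

/-!
# S2048 (helper14 blueprint): piece ET `card_ker_dvd_of_lift` (helper24, twin)
-/

set_option autoImplicit false

namespace Cfsg.Agent.Lib.H24.SuzM

open Cfsg.Agent.Lib.H14.SuzM
open scoped commutatorElement

universe u

/-- cardinality of the kernel of a surjective hom -/
theorem card_ker_mul_card {Γ : Type*} {G : Type*} [Group Γ] [Group G] (σ : Γ →* G)
    (hs : Function.Surjective σ) : Nat.card σ.ker * Nat.card G = Nat.card Γ := by
  have h1 := Subgroup.card_mul_index σ.ker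
  rw [Subgroup.index_ker, MonoidHom.range_eq_top.mpr hs, Subgroup.card_top] at h1
  exact h1

/-- **ET**. -/
theorem card_ker_dvd_of_lift {G : Type u} [Group G] (K : Subgroup G) (m n : ℕ)
    (hperf : ⁅K, K⁆ = K)
    (hK : ∀ (L : Type u) [Group L] [Finite L] (τ : L →* ↥K), Cfsg.IsStemExtension τ →
      Nat.card τ.ker ∣ m)
    (hcore : ∀ (E : Type u) [Group E] [Finite E] (τ : E →* G), Cfsg.IsStemExtension τ →
      ∀ K' : Subgroup E, K' ⊓ τ.ker = ⊥ → K'.map τ = K → Nat.card τ.ker ∣ n)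
    (Γ : Type u) [Group Γ] [Finite Γ] (σ : Γ →* G) (hσ : Cfsg.IsStemExtension σ) :
    Nat.card σ.ker ∣ m * n := by
  obtain ⟨hs, hc, hcomm⟩ := hσ
  have hGfin : Finite G := Finite.of_surjective σ hs
  -- `N`
  have hNc : ∀ x ∈ σ.ker ⊓ SL.L σ K, ∀ y : Γ, y * x = x * y := fun x hx y =>
    Subgroup.mem_center_iff.mp (hc hx.1) y
  have hNn : (σ.ker ⊓ SL.L σ K).Normal := by
    constructor
    intro x hx g
    have : g * x * g⁻¹ = x := by rw [hNc x hx g]; group
    rw [this]
    exact hx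
  obtain ⟨N, hNdef⟩ : ∃ N : Subgroup Γ, N = σ.ker ⊓ SL.L σ K := ⟨_, rfl⟩
  rw [← hNdef] at hNc hNn
  have hNker : N ≤ σ.ker := by rw [hNdef]; exact inf_le_left
  -- `|N| ∣ m`
  have hNm : Nat.card ↥N ∣ m := by
    have h1 := hK ↥(SL.L σ K) (SL.tau σ K) (SL.tau_stem σ K hs hc hperf)
    have e : (SL.tau σ K).ker ≃ ↥(σ.ker ⊓ SL.L σ K) :=
      { toFun := fun x => ⟨x.1.1, Subgroup.mem_inf.mpr ⟨(SL.mem_ker_tau σ K x.1).1 x.2, x.1.2⟩⟩
        invFun := fun y => ⟨⟨y.1, (Subgroup.mem_inf.mp y.2).2⟩,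
          (SL.mem_ker_tau σ K ⟨y.1, (Subgroup.mem_inf.mp y.2).2⟩).2 (Subgroup.mem_inf.mp y.2).1⟩
        left_inv := fun x => rfl
        right_inv := fun y => rfl }
    rw [hNdef, ← Nat.card_congr e]
    exact h1
  -- the quotient extension
  let τ : Γ ⧸ N →* G := QuotientGroup.lift N σ hNker
  have hτmk : ∀ x : Γ, τ (QuotientGroup.mk x) = σ x := fun x => QuotientGroup.lift_mk N hNker x
  have hτs : Function.Surjective τ := by
    intro g
    obtain ⟨x, hx⟩ := hs g
    exact ⟨QuotientGroup.mk x, by rw [hτmk, hx]⟩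
  have hτstem : Cfsg.IsStemExtension τ := by
    refine ⟨hτs, ?_, ?_⟩
    · intro q hq
      obtain ⟨x, rfl⟩ := QuotientGroup.mk_surjective q
      have hx : x ∈ σ.ker := by
        rw [MonoidHom.mem_ker, ← hτmk]
        exact hq
      rw [Subgroup.mem_center_iff]
      intro r
      obtain ⟨y, rfl⟩ := QuotientGroup.mk_surjective r
      rw [← QuotientGroup.mk_mul, ← QuotientGroup.mk_mul, Subgroup.mem_center_iff.mp (hc hx) y]
    · intro q hq
      obtain ⟨x, rfl⟩ := QuotientGroup.mk_surjective q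
      have hx : x ∈ σ.ker := by
        rw [MonoidHom.mem_ker, ← hτmk]
        exact hq
      have h1 : (commutator Γ).map (QuotientGroup.mk' N) = commutator (Γ ⧸ N) := by
        simp only [commutator_def, Subgroup.map_commutator,
          Subgroup.map_top_of_surjective _ (QuotientGroup.mk'_surjective N)]
      rw [← h1]
      exact Subgroup.mem_map_of_mem _ (hcomm hx)
  have hK'1 : (SL.L σ K).map (QuotientGroup.mk' N) ⊓ τ.ker = ⊥ := by
    rw [Subgroup.eq_bot_iff_forall]
    intro q hq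
    obtain ⟨hq1, hq2⟩ := Subgroup.mem_inf.mp hq
    obtain ⟨y, hyL, rfl⟩ := Subgroup.mem_map.mp hq1
    have hy : y ∈ σ.ker := by
      rw [MonoidHom.mem_ker, ← hτmk]
      exact hq2
    have hyN : y ∈ N := by
      rw [hNdef]
      exact Subgroup.mem_inf.mpr ⟨hy, hyL⟩
    exact (QuotientGroup.eq_one_iff y).mpr hyN
  have hK'2 : ((SL.L σ K).map (QuotientGroup.mk' N)).map τ = K := by
    rw [Subgroup.map_map]
    have : τ.comp (QuotientGroup.mk' N) = σ := MonoidHom.ext hτmk
    rw [this]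
    exact SL.map_L σ K hs hperf
  have hτn : Nat.card τ.ker ∣ n := hcore (Γ ⧸ N) τ hτstem _ hK'1 hK'2
  -- cardinalities
  have c1 := card_ker_mul_card σ hs
  have c2 := card_ker_mul_card τ hτs
  have c3 := Subgroup.card_mul_index N
  rw [Subgroup.index_eq_card] at c3
  have hG0 : 0 < Nat.card G := Nat.card_pos
  have hcard : Nat.card σ.ker = Nat.card ↥N * Nat.card τ.ker := by
    have : Nat.card σ.ker * Nat.card G = Nat.card ↥N * Nat.card τ.ker * Nat.card G := by
      rw [c1, ← c3, ← c2]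
      ring
    exact Nat.eq_of_mul_eq_mul_right hG0 this
  rw [hcard]
  exact Nat.mul_dvd_mul hNm hτn

end Cfsg.Agent.Lib.H24.SuzM
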