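/-
S3701 piece ZETA (helper24): the cube root of unity.
-/
import Mathlib
import Cfsg.Agent.Lib.H7.T27Defs

set_option autoImplicit false

namespace Cfsg.Agent.Lib.H24.T27

open Cfsg Cfsg.Agent.Lib.H7.K4 Cfsg.Agent.Lib.H3.H108 Cfsg.Agent.Lib.H7.T27
open scoped ComplexConjugate

theorem zeta_prim : IsPrimitiveRoot ζ 3 := by
  have h := Complex.isPrimitiveRoot_exp 3 (by norm_num)
  have h2 : ζ = Complex.exp (2 * Real.pi * Complex.I / ((3 : ℕ) : ℂ)) := by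
    unfold ζ; norm_num
  rw [h2]; exact h

theorem zeta_facts : ζ ^ 3 = 1 ∧ ζ ≠ 1 ∧ 1 + ζ + ζ ^ 2 = 0 ∧ conj ζ = ζ ^ 2 ∧
    ∀ s : ZMod 3, ζ ^ s.val + ζ ^ (-s).val = ((cc s : ℤ) : ℂ) := by
  have hp := zeta_prim
  have h3 : ζ ^ 3 = 1 := hp.pow_eq_one
  have h1 : ζ ≠ 1 := hp.ne_one (by norm_num)
  have hsum : 1 + ζ + ζ ^ 2 = 0 := by
    have := hp.geom_sum_eq_zero (by norm_num)
    simpa [Finset.sum_range_succ] using this
  have hnorm : ‖ζ‖ = 1 := Complex.norm_eq_one_of_pow_eq_one h3 (by norm_num)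
  have hconj : conj ζ = ζ ^ 2 := by
    rw [← Complex.inv_eq_conj hnorm]
    have h0 : ζ ≠ 0 := by
      intro h; rw [h] at h3; norm_num at h3
    field_simp
    rw [← h3]
  refine ⟨h3, h1, hsum, hconj, ?_⟩
  intro s
  fin_cases s
  · show ζ ^ ((0 : ZMod 3)).val + ζ ^ (-(0 : ZMod 3)).val = ((cc 0 : ℤ) : ℂ)
    have e1 : ((0 : ZMod 3)).val = 0 := rfl
    have e2 : (-(0 : ZMod 3)).val = 0 := rfl
    rw [e1, e2]
    have : cc 0 = 2 := by decide
    rw [this]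
    push_cast
    norm_num
  · have e1 : ((1 : ZMod 3)).val = 1 := rfl
    have e2 : (-(1 : ZMod 3)).val = 2 := rfl
    show ζ ^ ((1 : ZMod 3)).val + ζ ^ (-(1 : ZMod 3)).val = ((cc 1 : ℤ) : ℂ)
    rw [e1, e2]
    have : cc 1 = -1 := by decide
    rw [this]
    push_cast
    linear_combination hsum
  · have e1 : ((2 : ZMod 3)).val = 2 := rfl
    have e2 : (-(2 : ZMod 3)).val = 1 := rfl
    show ζ ^ ((2 : ZMod 3)).val + ζ ^ (-(2 : ZMod 3)).val = ((cc 2 : ℤ) : ℂ)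
    rw [e1, e2]
    have : cc 2 = -1 := by decide
    rw [this]
    push_cast
    linear_combination hsum

end Cfsg.Agent.Lib.H24.T27
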