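import Mathlib
import Cfsg.Agent.Lib.H7.T648Defs
import Cfsg.Agent.Lib.H7.T648Model
import Cfsg.Agent.Lib.H23.ClassProduct

/-!
# S3702 piece CE (helper24), part a: the class equation of a triple of elements of the model, with the
localisation of the solutions (piece LOC) as a hypothesis

Port of `Lib/H18/T27CE3.count_eq_cnt_of_tri` to `HypTI` + the class multiplication formula
`H23.sum_sum_ite_conj_mul_eq`.
-/

set_option autoImplicit false

namespace Cfsg.Agent.Lib.H24.T648

open Cfsg Cfsg.Agent.Lib.H7.T648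
open scoped ComplexConjugate

/-- a sum over `G` of a function vanishing off `N` is a sum over the model -/
theorem sum_eq_sum_el {M : Type*} [Group M] [Fintype M] {A : M → Prop} {G : Type*} [Group G] [Fintype G]
    (h : HypTI M A G) (F : G → ℂ)
    (hF : ∀ g : G, g ∉ h.N → F g = 0) : ∑ g : G, F g = ∑ a : M, F (h.el a) := by
  classical
  have h1 : ∑ a : M, F (h.el a) = ∑ g ∈ (Finset.univ : Finset M).image h.el, F g := by
    rw [Finset.sum_image]
    intro a _ b _ hab
    exact h.el_injective hab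
  rw [h1]
  symm
  apply Finset.sum_subset (Finset.subset_univ _)
  intro g _ hg
  apply hF
  intro hgN
  apply hg
  rw [Finset.mem_image]
  exact ⟨h.e ⟨g, hgN⟩, Finset.mem_univ _, h.el_e ⟨g, hgN⟩⟩

/-- the number of solutions of `s₁^g s₂^k = s` in `G` is the number of solutions in `M648`, if all
solutions lie in `N × N` -/
theorem count_eq_cnt648_of {G : Type*} [Group G] [Fintype G] (h : Hyp648 G) [DecidableEq G] (s1 s2 s : M648)
    (key : ∀ g k : G, (g * h.el s1 * g⁻¹) * (k * h.el s2 * k⁻¹) = h.el s → g ∈ h.N ∧ k ∈ h.N) :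
    (∑ g : G, ∑ k : G, if (g * h.el s1 * g⁻¹) * (k * h.el s2 * k⁻¹) = h.el s then (1 : ℂ) else 0) =
      (cnt648 s1 s2 s : ℂ) := by
  rw [sum_eq_sum_el h]
  · have hin : ∀ a : M648,
        (∑ k : G, if (h.el a * h.el s1 * (h.el a)⁻¹) * (k * h.el s2 * k⁻¹) = h.el s
          then (1 : ℂ) else 0) =
        ∑ b : M648, if (a * s1 * a⁻¹) * (b * s2 * b⁻¹) = s then (1 : ℂ) else 0 := by
      intro a
      rw [sum_eq_sum_el h]
      · apply Finset.sum_congr rfl
        intro b _
        have hiff : (h.el a * h.el s1 * (h.el a)⁻¹) * (h.el b * h.el s2 * (h.el b)⁻¹) = h.el s ↔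
            (a * s1 * a⁻¹) * (b * s2 * b⁻¹) = s := by
          rw [← h.el_inv, ← h.el_inv, ← h.el_mul, ← h.el_mul, ← h.el_mul, ← h.el_mul, ← h.el_mul]
          exact h.el_injective.eq_iff
        exact if_congr hiff rfl rfl
      · intro k hk
        rw [if_neg]
        intro hgk
        exact hk (key _ _ hgk).2
    rw [Finset.sum_congr rfl (fun a _ => hin a)]
    unfold cnt648
    push_cast
    rfl
  · intro g hg
    apply Finset.sum_eq_zero
    intro k _
    rw [if_neg]
    intro hgk
    exact hg (key _ _ hgk).1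

/-- CE with LOC as a hypothesis: the class equation of a localisable triple. -/
theorem class_eq648_of {G : Type*} [Group G] [Fintype G] (h : Hyp648 G) [Fintype (IrrCharacter G)]
    (s1 s2 s : M648)
    (key : ∀ g k : G, (g * h.el s1 * g⁻¹) * (k * h.el s2 * k⁻¹) = h.el s → g ∈ h.N ∧ k ∈ h.N) :
    ∑ χ : IrrCharacter G, (χ : G → ℂ) (h.el s1) * (χ : G → ℂ) (h.el s2) * (χ : G → ℂ) (h.el s⁻¹) /
      (χ : G → ℂ) 1 = (cnt648 s1 s2 s : ℂ) / (Nat.card G : ℂ) := by
  classical
  have hG : (Nat.card G : ℂ) ≠ 0 := by exact_mod_cast (Nat.card_pos (α := G)).ne'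
  have hc := count_eq_cnt648_of h s1 s2 s key
  have hf := Cfsg.Agent.Lib.H23.sum_sum_ite_conj_mul_eq (h.el s1) (h.el s2) (h.el s)
  rw [hc, ← h.el_inv] at hf
  rw [eq_div_iff hG, mul_comm]
  exact hf.symm

end Cfsg.Agent.Lib.H24.T648
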