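import Mathlib
import Cfsg.Agent.Lib.H24.T648CEa
import Cfsg.Agent.Lib.H11.T648LOC

/-!
# S3702 piece CE (helper24): the class equation of a localisable triple of elements of `J648 \ {1}`

`class_eq648_of` (Lib/H24/T648CEa) + the localisation `mem_N_of_solution648` (helper11, Lib/H11/T648LOC).
-/

set_option autoImplicit false

namespace Cfsg.Agent.Lib.H24.T648

open Cfsg Cfsg.Agent.Lib.H7.T648
open scoped ComplexConjugate

/-- CE.  The class equation of a localisable triple of elements of `J648 \ {1}`. -/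
theorem class_eq648 {G : Type*} [Group G] [Fintype G] (h : Hyp648 G) [Fintype (IrrCharacter G)]
    (s1 s2 s : M648)
    (h1 : s1 ∈ J648) (h2 : s2 ∈ J648) (h3 : s ∈ J648) (h1' : s1 ≠ 1) (h2' : s2 ≠ 1) (h3' : s ≠ 1)
    (hgood : Good s1 ∨ Good s2 ∨ Good s)
    (hnc : ¬ (IsConj s1 s2 ∧ IsConj s s1⁻¹)) :
    ∑ χ : IrrCharacter G, (χ : G → ℂ) (h.el s1) * (χ : G → ℂ) (h.el s2) * (χ : G → ℂ) (h.el s⁻¹) /
      (χ : G → ℂ) 1 = (cnt648 s1 s2 s : ℂ) / (Nat.card G : ℂ) :=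
  class_eq648_of h s1 s2 s
    (Cfsg.Agent.Lib.H11.T648.mem_N_of_solution648 h s1 s2 s h1 h2 h3 h1' h2' h3' hgood hnc)

end Cfsg.Agent.Lib.H24.T648
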