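import Mathlib
import Cfsg.Agent.Lib.H14.ThetaDefs
import Cfsg.Agent.Lib.H24.ThetaSUMM2

/-!
# S1632, piece SUMM3 (architect helper14): summability of the norms of the dual Gaussian terms
-/

set_option autoImplicit false

namespace Cfsg.Agent.Lib.H24.Theta

open Complex Matrix
open Cfsg.Agent.Lib.H14.Theta

/-- expansion of `Q_C(y + I u)` for a symmetric `C` -/
theorem qf_add_I_mul {n : ℕ} (C : Matrix (Fin n) (Fin n) ℝ) (hC : C.IsSymm) (y u : Fin n → ℂ) :
    qf C (fun i => y i + I * u i) =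
      qf C y + 2 * I * (∑ i, y i * ∑ j, (C i j : ℂ) * u j) - qf C u := by
  unfold qf
  have h3 : ∑ i, ∑ j, (C i j : ℂ) * u i * y j = ∑ i, ∑ j, (C i j : ℂ) * y i * u j := by
    rw [Finset.sum_comm]
    refine Finset.sum_congr rfl (fun i _ => Finset.sum_congr rfl (fun j _ => ?_))
    rw [hC.apply i j]
    ring
  have h2 : ∑ i, y i * ∑ j, (C i j : ℂ) * u j = ∑ i, ∑ j, (C i j : ℂ) * y i * u j := by
    refine Finset.sum_congr rfl (fun i _ => ?_)
    rw [Finset.mul_sum]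
    refine Finset.sum_congr rfl (fun j _ => ?_)
    ring
  have h1 : ∀ i j, (C i j : ℂ) * (y i + I * u i) * (y j + I * u j) =
      (C i j : ℂ) * y i * y j + I * ((C i j : ℂ) * y i * u j) + I * ((C i j : ℂ) * u i * y j) -
        (C i j : ℂ) * u i * u j := by
    intro i j
    have hI : I * I = -1 := Complex.I_mul_I
    linear_combination ((C i j : ℂ) * u i * u j) * hI
  simp only [h1, Finset.sum_add_distrib, Finset.sum_sub_distrib, ← Finset.mul_sum]
  rw [h3, h2]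
  ring

/-- **SUMM3**. -/
theorem summable_dterm {n : ℕ}
    (h1 : ∀ (A : Matrix (Fin n) (Fin n) ℝ), IsPD A → ∀ σ : ℝ, 0 < σ → ∀ β : Fin n → ℝ,
      Summable (fun x : Fin n → ℤ =>
        Real.exp (-Real.pi * σ * qfR A (zr x) + 2 * Real.pi * ∑ i, β i * (x i : ℝ))))
    (C : Matrix (Fin n) (Fin n) ℝ) (hC : IsPD C) (s : ℂ) (hs : 0 < s.re) (u : Fin n → ℂ) :
    Summable (fun y : Fin n → ℤ => ‖dterm C s u y‖) := by
  have hs0 : s ≠ 0 := by
    rintro rfl
    simp at hs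
  have hσ : 0 < (s⁻¹).re := by
    rw [Complex.inv_re]
    exact div_pos hs (Complex.normSq_pos.2 hs0)
  set d : Fin n → ℂ := fun i => ∑ j, (C i j : ℂ) * u j with hd
  set β : Fin n → ℝ := fun i => (-(I * d i * s⁻¹)).re with hβ
  set K : ℝ := Real.exp (((Real.pi : ℂ) * s⁻¹ * qf C u).re) with hK
  refine ((h1 C hC (s⁻¹).re hσ β).mul_left K).congr (fun y => ?_)
  unfold dterm
  rw [Complex.norm_exp]
  have hq : qf C (fun i => (y i : ℂ) + I * u i) =
      ((qfR C (zr y) : ℝ) : ℂ) + 2 * I * (∑ i, (y i : ℂ) * d i) - qf C u := by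
    have := qf_add_I_mul C hC.1 (zc y) u
    rw [qf_zc_eq] at this
    exact this
  rw [hq, hK, ← Real.exp_add]
  congr 1
  have hz : -(Real.pi : ℂ) / s * (((qfR C (zr y) : ℝ) : ℂ) + 2 * I * (∑ i, (y i : ℂ) * d i) - qf C u) =
      (Real.pi : ℂ) * s⁻¹ * qf C u + (((-Real.pi * qfR C (zr y) : ℝ) : ℂ) * s⁻¹ +
        ((2 * Real.pi : ℝ) : ℂ) * ∑ i, (((y i : ℤ) : ℝ) : ℂ) * (-(I * d i * s⁻¹))) := by
    have hsum : ∑ i, (((y i : ℤ) : ℝ) : ℂ) * (-(I * d i * s⁻¹)) =
        -(I * s⁻¹) * ∑ i, (y i : ℂ) * d i := by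
      rw [Finset.mul_sum]
      refine Finset.sum_congr rfl (fun i _ => ?_)
      push_cast
      ring
    rw [hsum, div_eq_mul_inv]
    push_cast
    ring
  rw [hz, Complex.add_re, Complex.add_re, Complex.re_ofReal_mul, Complex.re_ofReal_mul, Complex.re_sum]
  congr 1
  congr 1
  · ring
  · congr 1
    refine Finset.sum_congr rfl (fun i _ => ?_)
    rw [Complex.re_ofReal_mul]
    ring

end Cfsg.Agent.Lib.H24.Theta
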