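import Mathlib
import Cfsg.Agent.Lib.H24.TnB

set_option autoImplicit false

/-!
# The normalizer of an element of order three, as a subgroup (helper24)
-/

namespace Cfsg.Agent.Lib.H24.Tn

open Cfsg.Geo Matrix QuadraticMap Module
open Cfsg.Agent.Lib.H29.Tensor Cfsg.Agent.Lib.H29.Orth

variable {ι : Type} [Fintype ι] [DecidableEq ι] {F : Type*} [Field F]

/-- the elements of `Ω` which commute with `G` or invert it, for `G ^ 3 = 1` -/
def normThree (G : End F (ι → F)) (hG : ∀ v, G (G (G v)) = v) (Ω : Subgroup (GL ι F)) :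
    Subgroup (GL ι F) where
  carrier := {x | x ∈ Ω ∧ ((∀ v, (x : Matrix ι ι F) *ᵥ G v = G ((x : Matrix ι ι F) *ᵥ v)) ∨
    (∀ v, (x : Matrix ι ι F) *ᵥ G v = G (G ((x : Matrix ι ι F) *ᵥ v))))}
  one_mem' := by
    refine ⟨Ω.one_mem, Or.inl fun v => ?_⟩
    rw [Units.val_one, Matrix.one_mulVec, Matrix.one_mulVec]
  mul_mem' := by
    rintro a b ⟨haΩ, ha⟩ ⟨hbΩ, hb⟩
    refine ⟨Ω.mul_mem haΩ hbΩ, ?_⟩
    rcases ha with ha | ha <;> rcases hb with hb | hb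
    · left
      intro v
      rw [gl_mul_mulVec, gl_mul_mulVec, hb, ha]
    · right
      intro v
      rw [gl_mul_mulVec, gl_mul_mulVec, hb, ha, ha]
    · right
      intro v
      rw [gl_mul_mulVec, gl_mul_mulVec, hb, ha]
    · left
      intro v
      rw [gl_mul_mulVec, gl_mul_mulVec, hb, ha, ha, hG]
  inv_mem' := by
    rintro a ⟨haΩ, ha⟩
    refine ⟨Ω.inv_mem haΩ, ?_⟩
    rcases ha with ha | ha
    · left
      intro v
      have h1 := ha (((a⁻¹ : GL ι F) : Matrix ι ι F) *ᵥ v)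
      rw [gl_mulVec_inv] at h1
      rw [← h1, gl_inv_mulVec]
    · right
      intro v
      have h1 : (a : Matrix ι ι F) *ᵥ G (G (((a⁻¹ : GL ι F) : Matrix ι ι F) *ᵥ v)) = G v := by
        rw [ha (G (((a⁻¹ : GL ι F) : Matrix ι ι F) *ᵥ v)),
          ha (((a⁻¹ : GL ι F) : Matrix ι ι F) *ᵥ v), gl_mulVec_inv, hG]
      rw [← h1, gl_inv_mulVec]

theorem mem_normThree {G : End F (ι → F)} {hG : ∀ v, G (G (G v)) = v} {Ω : Subgroup (GL ι F)}
    {x : GL ι F} : x ∈ normThree G hG Ω ↔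
      x ∈ Ω ∧ ((∀ v, (x : Matrix ι ι F) *ᵥ G v = G ((x : Matrix ι ι F) *ᵥ v)) ∨
        (∀ v, (x : Matrix ι ι F) *ᵥ G v = G (G ((x : Matrix ι ι F) *ᵥ v)))) := Iff.rfl

end Cfsg.Agent.Lib.H24.Tn
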