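import Mathlib
import Cfsg.Agent.Lib.H24.TnC

set_option autoImplicit false

/-!
# `Sp₂(2) ⊗ Sp_{n₂}(2)` is not maximal in `Ω⁺_{2 n₂}(2)` (helper24)

The intermediate subgroup is the normalizer in `Ω` of the element `ω ⊗ 1` of order three.
-/

namespace Cfsg.Agent.Lib.H24.Tn

open Cfsg.Geo Matrix QuadraticMap Module
open Cfsg.Agent.Lib.H29.Tensor Cfsg.Agent.Lib.H29.Orth

variable {ι : Type} [Fintype ι] [DecidableEq ι] {F : Type*} [Field F]

set_option maxHeartbeats 1600000 in
theorem tensor_two_not_maximal [Fintype F] (hq : Fintype.card F = 2)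
    (Q : QuadraticForm F (ι → F)) (hQ : (QuadraticMap.polarBilin Q).Nondegenerate)
    (hcard : 5 ≤ Fintype.card ι) (n₂ : ℕ) (hn₂ : 2 < n₂) (e : ι ≃ Fin 2 × Fin n₂) (P : GL ι F)
    (f₁ : (Fin 2 → F) → (Fin 2 → F) → F) (f₂ : (Fin n₂ → F) → (Fin n₂ → F) → F)
    (hf₁ : IsSymplecticForm f₁) (hf₂ : IsSymplecticForm f₂)
    (hT : IsTensorFormStructure id (polar (⇑Q)) f₁ f₂ e P)
    (hpure : ∀ (x₁ : Fin 2 → F) (x₂ : Fin n₂ → F), Q (tau e P x₁ x₂) = 0) :
    ∃ K : Subgroup (GL ι F), tensorProductSubgroup 2 n₂ e P ⊓ omegaGL (⇑Q) < K ∧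
      K < omegaGL (⇑Q) := by
  classical
  have h2 := f2_two (F := F) hq
  have hneg : ∀ x : F, -x = x := by
    intro x
    linear_combination (-x) * h2
  have hUU : ∀ x : Fin n₂ → F, x + x = 0 := by
    intro x
    linear_combination (norm := module) h2 • x
  have hVV : ∀ x : ι → F, x + x = 0 := by
    intro x
    linear_combination (norm := module) h2 • x
  obtain ⟨c, hc, hT⟩ := hT
  have hc1 : c = 1 := f2_eq_one hq hc
  have B1 := hf₁.bilinear
  have B2 := hf₂.bilinear
  have ht : ∀ (a a' : Fin 2 → F) (z z' : Fin n₂ → F),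
      polar Q (tau e P a z) (tau e P a' z') = f₁ a a' * f₂ z z' := by
    intro a a' z z'
    rw [form_tau e P B1 B2 c hT, hc1, one_mul]
  -- `f₁` on the basis
  have h00 : f₁ e0 e0 = 0 := hf₁.alternating _
  have h11 : f₁ e1 e1 = 0 := hf₁.alternating _
  have he0 : (e0 : Fin 2 → F) ≠ 0 := by
    intro h
    have := congrFun h 0
    simp [e0] at this
  have h01 : f₁ e0 e1 = 1 := by
    apply f2_eq_one hq
    intro h0
    obtain ⟨x, hx⟩ := (hf₁.nondegenerate e0 he0).2
    apply hx
    have hxe : x = x 0 • e0 + x 1 • e1 := by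
      ext i
      fin_cases i <;> simp [e0, e1]
    rw [hxe, B1.add_right, B1.smul_right, B1.smul_right, h00, h0]
    ring
  have h10 : f₁ e1 e0 = 1 := by rw [hf₁.skew, h01, hneg]
  -- `f₂`
  have f2symm : ∀ u w, f₂ w u = f₂ u w := by
    intro u w
    rw [hf₂.skew, hneg]
  have f2alt := hf₂.alternating
  have f2zr : ∀ u, f₂ u 0 = 0 := by
    intro u
    have := B2.smul_right 0 u 0
    simpa using this
  have f2zl : ∀ u, f₂ 0 u = 0 := by
    intro u
    rw [f2symm, f2zr]
  -- the forms on `phi`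
  have hB : ∀ u w u' w', polar Q (phi e P (u, w)) (phi e P (u', w')) = f₂ u w' + f₂ w u' := by
    intro u w u' w'
    rw [phi_apply, phi_apply, polar_add_left, polar_add_right, polar_add_right, ht, ht, ht, ht,
      h00, h01, h10, h11]
    ring
  have hQphi : ∀ u w, Q (phi e P (u, w)) = f₂ u w := by
    intro u w
    rw [phi_apply, QuadraticMap.map_add (⇑Q), hpure, hpure, ht, h01]
    ring
  have hphi0 : phi e P ((0 : Fin n₂ → F), (0 : Fin n₂ → F)) = 0 := by
    have : ((0 : Fin n₂ → F), (0 : Fin n₂ → F)) = 0 := rfl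
    rw [this, map_zero]
  -- the element `G0`
  have hG0iso : ∀ v, Q (G0 e P v) = Q v := by
    intro v
    obtain ⟨u, w, rfl⟩ := exists_phi e P v
    rw [G0_phi, hQphi, hQphi, B2.add_right, f2alt, add_zero, f2symm]
  have hG0pol : ∀ a b, polar Q (G0 e P a) (G0 e P b) = polar Q a b := by
    intro a b
    unfold polar
    rw [← map_add, hG0iso, hG0iso, hG0iso]
  have hG0sq : ∀ v, G0 e P (G0 e P v) = v + G0 e P v := by
    intro v
    obtain ⟨u, w, rfl⟩ := exists_phi e P v
    rw [G0_phi, G0_phi, ← map_add, Prod.mk_add_mk]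
  have hG0cube : ∀ v, G0 e P (G0 e P (G0 e P v)) = v := by
    intro v
    rw [hG0sq (G0 e P v), hG0sq v]
    linear_combination (norm := module) h2 • (G0 e P v)
  -- elements of the tensor product subgroup
  have htens : ∀ x : GL ι F, x ∈ tensorProductSubgroup 2 n₂ e P →
      ∃ (p q r s : F) (B : (Fin n₂ → F) →ₗ[F] (Fin n₂ → F)), p * s - q * r ≠ 0 ∧
        ∀ u w, (x : Matrix ι ι F) *ᵥ phi e P (u, w) =
          phi e P (p • B u + q • B w, r • B u + s • B w) := by
    intro x hx
    obtain ⟨A, B, hAB⟩ := tensor_apply e P x hx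
    refine ⟨(A : Matrix (Fin 2) (Fin 2) F) 0 0, (A : Matrix (Fin 2) (Fin 2) F) 0 1,
      (A : Matrix (Fin 2) (Fin 2) F) 1 0, (A : Matrix (Fin 2) (Fin 2) F) 1 1,
      Matrix.mulVecLin (B : Matrix (Fin n₂) (Fin n₂) F), ?_, ?_⟩
    · have hdet : IsUnit (A : Matrix (Fin 2) (Fin 2) F).det :=
        (Matrix.isUnit_iff_isUnit_det _).mp A.isUnit
      have := hdet.ne_zero
      rwa [Matrix.det_fin_two] at this
    · intro u w
      rw [phi_apply, Matrix.mulVec_add, hAB, hAB, tau_eq_phi, tau_eq_phi, ← map_add,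
        Prod.mk_add_mk]
      have e00 : ((A : Matrix (Fin 2) (Fin 2) F) *ᵥ e0) 0 = (A : Matrix (Fin 2) (Fin 2) F) 0 0 := by
        simp [Matrix.mulVec, dotProduct, Fin.sum_univ_two, e0]
      have e01 : ((A : Matrix (Fin 2) (Fin 2) F) *ᵥ e0) 1 = (A : Matrix (Fin 2) (Fin 2) F) 1 0 := by
        simp [Matrix.mulVec, dotProduct, Fin.sum_univ_two, e0]
      have e10 : ((A : Matrix (Fin 2) (Fin 2) F) *ᵥ e1) 0 = (A : Matrix (Fin 2) (Fin 2) F) 0 1 := by
        simp [Matrix.mulVec, dotProduct, Fin.sum_univ_two, e1]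
      have e11 : ((A : Matrix (Fin 2) (Fin 2) F) *ᵥ e1) 1 = (A : Matrix (Fin 2) (Fin 2) F) 1 1 := by
        simp [Matrix.mulVec, dotProduct, Fin.sum_univ_two, e1]
      rw [e00, e01, e10, e11]
      rfl
  -- special vectors
  obtain ⟨u₀, hu₀⟩ : ∃ u₀ : Fin n₂ → F, u₀ ≠ 0 := by
    refine ⟨Pi.single (⟨0, by omega⟩ : Fin n₂) 1, ?_⟩
    intro h
    have := congrFun h (⟨0, by omega⟩ : Fin n₂)
    simp at this
  obtain ⟨w₀, hw₀⟩ := (hf₂.nondegenerate u₀ hu₀).2
  have huw : f₂ u₀ w₀ = 1 := f2_eq_one hq hw₀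
  have hwu : f₂ w₀ u₀ = 1 := by rw [f2symm, huw]
  have hw₀0 : w₀ ≠ 0 := by
    rintro rfl
    rw [f2zr] at huw
    exact zero_ne_one huw
  obtain ⟨c₀, hc₀0, hcu, hcw⟩ : ∃ c₀ : Fin n₂ → F, c₀ ≠ 0 ∧ f₂ c₀ u₀ = 0 ∧ f₂ c₀ w₀ = 0 := by
    let L : (Fin n₂ → F) →ₗ[F] (F × F) :=
      { toFun := fun x => (f₂ x u₀, f₂ x w₀)
        map_add' := fun x y => by rw [B2.add_left, B2.add_left]; rfl
        map_smul' := fun a x => by rw [B2.smul_left, B2.smul_left]; rfl }
    have hker : LinearMap.ker L ≠ ⊥ := by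
      apply LinearMap.ker_ne_bot_of_finrank_lt
      rw [Module.finrank_prod, Module.finrank_self, Module.finrank_fintype_fun_eq_card,
        Fintype.card_fin]
      omega
    obtain ⟨c₀, hc₀mem, hc₀⟩ := Submodule.exists_mem_ne_zero_of_ne_bot hker
    have h3 : L c₀ = 0 := LinearMap.mem_ker.mp hc₀mem
    exact ⟨c₀, hc₀, congrArg Prod.fst h3, congrArg Prod.snd h3⟩
  obtain ⟨z, hzdef⟩ : ∃ z, z = phi e P (u₀, w₀) := ⟨_, rfl⟩
  obtain ⟨z', hz'def⟩ : ∃ z', z' = G0 e P z := ⟨_, rfl⟩
  have hz'phi : z' = phi e P (w₀, u₀ + w₀) := by rw [hz'def, hzdef, G0_phi]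
  have hG0z' : G0 e P z' = z + z' := by rw [hz'def, hG0sq]
  have hQz : Q z = 1 := by rw [hzdef, hQphi, huw]
  have hQz' : Q z' = 1 := by rw [hz'def, hG0iso, hQz]
  have hzz' : polar Q z z' = 1 := by
    rw [hzdef, hz'phi, hB, B2.add_right, f2alt, f2alt, huw]
    ring
  have hz'z : polar Q z' z = 1 := by rw [polar_comm, hzz']
  have hzz : polar Q z z = 0 := polar_self_zero (Q := Q) h2 z
  have hz'z'0 : polar Q z' z' = 0 := polar_self_zero (Q := Q) h2 z'
  -- the intermediate subgroup
  refine ⟨normThree (G0 e P) hG0cube (omegaGL (⇑Q)), ?_, ?_⟩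
  · -- the tensor product subgroup is strictly smaller
    rw [SetLike.lt_iff_le_and_exists]
    refine ⟨?_, ?_⟩
    · intro x hx
      obtain ⟨hxT, hxΩ⟩ := Subgroup.mem_inf.mp hx
      obtain ⟨p, q, r, s, B, hdet, hx⟩ := htens x hxT
      refine ⟨hxΩ, ?_⟩
      rcases gl2_key hq p q r s hdet with ⟨h1, h3⟩ | ⟨h1, h3⟩
      · left
        intro v
        obtain ⟨u, w, rfl⟩ := exists_phi e P v
        rw [G0_phi, hx, hx, G0_phi, map_add]
        subst h1 h3
        refine congrArg (phi e P) (Prod.ext ?_ ?_)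
        · show p • B w + q • (B u + B w) = q • B u + (p + q) • B w
          module
        · show q • B w + (p + q) • (B u + B w) = p • B u + q • B w + (q • B u + (p + q) • B w)
          module
      · right
        intro v
        obtain ⟨u, w, rfl⟩ := exists_phi e P v
        rw [G0_phi, hx, hx, G0_phi, G0_phi, map_add]
        subst h1 h3
        refine congrArg (phi e P) (Prod.ext ?_ ?_)
        · show s • B w + (s + r) • (B u + B w) =
            s • B u + (s + r) • B w + (r • B u + s • B w)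
          module
        · show r • B w + s • (B u + B w) =
            r • B u + s • B w + (s • B u + (s + r) • B w + (r • B u + s • B w))
          linear_combination (norm := module) (-h2) • (r • B u + s • B w)
    · -- an element of the normalizer which is not a tensor product
      obtain ⟨s₀, hs₀⟩ : ∃ s₀, s₀ = u₀ + w₀ + c₀ := ⟨_, rfl⟩
      obtain ⟨xR, hxRΩ, hxR⟩ := exists_omega_of_odd Q hQ hcard (rot Q z z')
        (Q_rot h2 hQz hQz' hzz') 3 (by decide) (rot_pow_three h2 hzz')
      refine ⟨xR, ⟨hxRΩ, Or.inl ?_⟩, ?_⟩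
      · intro v
        rw [hxR, hxR, rot_apply, rot_apply, map_add, map_add, map_smul, map_smul, map_add,
          hG0z', ← hz'def]
        have h5 : polar Q (G0 e P v) z' = polar Q v z := by
          rw [hz'def, hG0pol]
        have h6 : polar Q (G0 e P v) z = polar Q v z + polar Q v z' := by
          have h7 : z = G0 e P (z + z') := by
            rw [← hG0z', hz'def, hG0cube]
          rw [h7, hG0pol, ← h7, polar_add_right]
        rw [h5, h6]
        linear_combination (norm := module) h2 • (polar Q v z • z - polar Q v z' • z')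
      · intro hmem
        obtain ⟨hxT, -⟩ := Subgroup.mem_inf.mp hmem
        obtain ⟨p, q, r, s, B, hdet, hx⟩ := htens xR hxT
        have h5 := hx s₀ 0
        rw [hxR, rot_apply, map_zero, smul_zero, smul_zero, add_zero, add_zero] at h5
        have h6 : polar Q (phi e P (s₀, 0)) z' = 0 := by
          rw [hz'phi, hB, f2zl, hs₀, B2.add_left, B2.add_left, B2.add_right, B2.add_right,
            B2.add_right, f2alt, f2alt, huw, hwu, hcu, hcw]
          linear_combination h2
        have h7 : polar Q (phi e P (s₀, 0)) z = 1 := by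
          rw [hzdef, hB, f2zl, hs₀, B2.add_left, B2.add_left, f2alt, huw, hcw]
          ring
        rw [h6, h7, zero_smul, add_zero, one_smul, hzdef, ← map_add, Prod.mk_add_mk,
          zero_add] at h5
        obtain ⟨h8, h9⟩ := phi_inj e P h5
        rcases f2_cases hq r with hr | hr
        · rw [hr, zero_smul] at h9
          exact hw₀0 h9
        · rw [hr, one_smul] at h9
          rw [← h9] at h8
          rcases f2_cases hq p with hp | hp
          · rw [hp, zero_smul, hs₀] at h8
            have h10 : c₀ = w₀ := by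
              have h11 : u₀ + w₀ + c₀ + u₀ = w₀ + c₀ := by
                linear_combination (norm := module) h2 • u₀
              rw [h11] at h8
              have h12 : w₀ + c₀ + c₀ = c₀ := by rw [h8, zero_add]
              rw [add_assoc, hUU, add_zero] at h12
              exact h12.symm
            rw [h10, hwu] at hcu
            exact one_ne_zero hcu
          · rw [hp, one_smul, hs₀] at h8
            have h11 : u₀ + w₀ + c₀ + u₀ = w₀ + c₀ := by
              linear_combination (norm := module) h2 • u₀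
            rw [h11] at h8
            apply hc₀0
            have h12 : w₀ + (w₀ + c₀) = w₀ + w₀ := by rw [h8]
            rw [← add_assoc, hUU, zero_add] at h12
            exact h12
  · -- the normalizer is a proper subgroup of `Ω`
    rw [SetLike.lt_iff_le_and_exists]
    refine ⟨fun x hx => hx.1, ?_⟩
    obtain ⟨v₀, hv₀def⟩ : ∃ v₀, v₀ = phi e P (c₀, 0) := ⟨_, rfl⟩
    obtain ⟨y, hydef⟩ : ∃ y, y = z' + v₀ := ⟨_, rfl⟩
    have hQv₀ : Q v₀ = 0 := by rw [hv₀def, hQphi, f2zr]
    have hv₀z : polar Q v₀ z = 0 := by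
      rw [hv₀def, hzdef, hB, f2zl, hcw, add_zero]
    have hv₀z' : polar Q v₀ z' = 0 := by
      rw [hv₀def, hz'phi, hB, f2zl, B2.add_right, hcu, hcw]
      ring
    have hv₀0 : v₀ ≠ 0 := by
      intro h
      rw [hv₀def, ← hphi0] at h
      exact hc₀0 (phi_inj e P h).1
    have hQy : Q y = 1 := by
      rw [hydef, QuadraticMap.map_add (⇑Q), hQz', hQv₀, polar_comm, hv₀z']
      ring
    have hzy : polar Q z y = 1 := by
      rw [hydef, polar_add_right, hzz', polar_comm, hv₀z]
      ring
    obtain ⟨xH, hxHΩ, hxH⟩ := exists_omega_of_odd Q hQ hcard (rot Q z y)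
      (Q_rot h2 hQz hQy hzy) 3 (by decide) (rot_pow_three h2 hzy)
    have hHz : rot Q z y z = y := by
      rw [rot_apply, hzy, hzz, one_smul, zero_smul, add_zero]
      linear_combination (norm := module) h2 • z
    have hHz' : rot Q z y z' = z' + z := by
      have h5 : polar Q z' y = 0 := by
        rw [hydef, polar_add_right, hz'z'0, polar_comm, hv₀z', add_zero]
      rw [rot_apply, h5, hz'z, zero_smul, add_zero, one_smul]
    refine ⟨xH, hxHΩ, ?_⟩
    rintro ⟨-, hcomm | hinv⟩
    · have h5 := hcomm z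
      rw [← hz'def, hxH, hxH, hHz, hHz', hydef, map_add, hG0z'] at h5
      have h6 : G0 e P v₀ = 0 := by
        have h7 : z' + z + (z' + z) = z' + z + (z + z' + G0 e P v₀) := by rw [← h5]
        rw [hVV] at h7
        have h8 : z' + z + (z + z' + G0 e P v₀) = G0 e P v₀ := by
          linear_combination (norm := module) h2 • (z + z')
        rw [h8] at h7
        exact h7.symm
      apply hv₀0
      rw [← hG0cube v₀, h6, map_zero, map_zero]
    · have h5 := hinv z
      rw [← hz'def, hxH, hxH, hHz, hHz', hG0sq, hydef, map_add, hG0z'] at h5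
      -- `z' + z = z' + v₀ + (z + z' + G0 v₀)`
      have h6 : G0 e P v₀ = z' + v₀ := by
        have h7 : z' + z + (z' + z + z' + v₀) =
            z' + v₀ + (z + z' + G0 e P v₀) + (z' + z + z' + v₀) := by rw [← h5]
        have h8 : z' + z + (z' + z + z' + v₀) = z' + v₀ := by
          linear_combination (norm := module) h2 • (z' + z)
        have h9 : z' + v₀ + (z + z' + G0 e P v₀) + (z' + z + z' + v₀) = G0 e P v₀ := by
          linear_combination (norm := module) h2 • (z' + v₀ + z + z')
        rw [h8, h9] at h7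
        exact h7.symm
      -- apply the polar form with `z'`
      have h10 : polar Q (G0 e P v₀) z' = polar Q v₀ z := by
        rw [hz'def, hG0pol]
      rw [h6, polar_add_left, hz'z'0, hv₀z', hv₀z] at h10
      -- this is `0 = 0`; use instead the polar form with `z`
      have h11 : polar Q (G0 e P v₀) z = polar Q v₀ z + polar Q v₀ z' := by
        have h12 : z = G0 e P (z + z') := by
          rw [← hG0z', hz'def, hG0cube]
        rw [h12, hG0pol, ← h12, polar_add_right]
      rw [h6, polar_add_left, hz'z, hv₀z, hv₀z'] at h11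
      simp at h11

end Cfsg.Agent.Lib.H24.Tn
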