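import Cfsg.Agent.Lib.H25.TpDefs

/-!
# S5637-T2: duality `g ↦ (g⁻¹)ᵀ`, `NTs` from `NT` (helper25's farm-out, `tools/blueprints/S5637.md` §T2)
-/

set_option autoImplicit false
set_option linter.unusedSectionVars false
set_option linter.unusedVariables false

namespace Cfsg.Agent.Lib.H24.Tp

open Matrix Kronecker Module
open Cfsg.Geo
open Cfsg.Agent.Lib.H29.Tensor (pt kron_pt pt_add_left pt_add_right pt_smul_left pt_smul_right)
open Cfsg.Agent.Lib.H28 (tvGL tvGL_mulVec)
open Cfsg.Agent.Lib.H25.Tp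

variable {F : Type*} [Field F] {a b : ℕ}

/-! ### the automorphism `τ g = (g⁻¹)ᵀ` -/

/-- `τ g = (g⁻¹)ᵀ` -/
def t2Tau {ι : Type} [Fintype ι] [DecidableEq ι] : GL ι F →* GL ι F where
  toFun g :=
    { val := ((g⁻¹ : GL ι F) : Matrix ι ι F)ᵀ
      inv := (g : Matrix ι ι F)ᵀ
      val_inv := by
        rw [← Matrix.transpose_mul, ← Units.val_mul, mul_inv_cancel, Units.val_one,
          Matrix.transpose_one]
      inv_val := by
        rw [← Matrix.transpose_mul, ← Units.val_mul, inv_mul_cancel, Units.val_one,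
          Matrix.transpose_one] }
  map_one' := by
    apply Units.ext
    show ((1⁻¹ : GL ι F) : Matrix ι ι F)ᵀ = 1
    rw [inv_one, Units.val_one, Matrix.transpose_one]
  map_mul' g h := by
    apply Units.ext
    show (((g * h)⁻¹ : GL ι F) : Matrix ι ι F)ᵀ =
      ((g⁻¹ : GL ι F) : Matrix ι ι F)ᵀ * ((h⁻¹ : GL ι F) : Matrix ι ι F)ᵀ
    rw [_root_.mul_inv_rev, Units.val_mul, Matrix.transpose_mul]

theorem t2Tau_val {ι : Type} [Fintype ι] [DecidableEq ι] (g : GL ι F) :
    ((t2Tau g : GL ι F) : Matrix ι ι F) = ((g⁻¹ : GL ι F) : Matrix ι ι F)ᵀ := rfl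

theorem t2Tau_tau {ι : Type} [Fintype ι] [DecidableEq ι] (g : GL ι F) : t2Tau (t2Tau g) = g := by
  apply Units.ext
  rw [t2Tau_val]
  show ((t2Tau g : GL ι F).inv)ᵀ = _
  show ((g : Matrix ι ι F)ᵀ)ᵀ = _
  rw [Matrix.transpose_transpose]

theorem t2_gl_ext {ι : Type} [Fintype ι] [DecidableEq ι] {g h : GL ι F}
    (H : ∀ x : ι → F, (g : Matrix ι ι F) *ᵥ x = (h : Matrix ι ι F) *ᵥ x) : g = h := by
  apply Units.ext
  apply Matrix.mulVec_injective
  funext x
  exact H x

/-- `τ` maps the Kronecker group into itself -/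
theorem t2Tau_mem_kron {g : GL (Fin a × Fin b) F} (hg : g ∈ kroneckerSubgroup a b F) :
    t2Tau g ∈ kroneckerSubgroup a b F := by
  obtain ⟨a', b', hab⟩ := (kroneckerSubgroup a b F).inv_mem hg
  refine ⟨t2Tau a'⁻¹, t2Tau b'⁻¹, ?_⟩
  rw [t2Tau_val, t2Tau_val, t2Tau_val, inv_inv, inv_inv, hab]
  exact (Matrix.kroneckerMap_transpose _ _ _).symm

theorem t2Tau_mem_sl {ι : Type} [Fintype ι] [DecidableEq ι] {g : GL ι F}
    (hg : g ∈ specialLinear ι F) : t2Tau g ∈ specialLinear ι F := by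
  have h1 := (specialLinear ι F).inv_mem hg
  rw [Cfsg.Agent.Lib.H28.mem_specialLinear_iff] at h1 ⊢
  rw [t2Tau_val, Matrix.det_transpose, h1]

theorem t2Tau_mem_H0 {g : GL (Fin a × Fin b) F} (hg : g ∈ H0 a b F) : t2Tau g ∈ H0 a b F :=
  ⟨t2Tau_mem_kron hg.1, t2Tau_mem_sl hg.2⟩


/-! ### `τ` maps transvections to transvections -/

/-- `x ↦ v ⬝ᵥ x` as a functional -/
def t2Dot {ι : Type} [Fintype ι] (v : ι → F) : Dual F (ι → F) where
  toFun x := v ⬝ᵥ x
  map_add' x y := dotProduct_add v x y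
  map_smul' c x := by simp [dotProduct_smul]

@[simp] theorem t2Dot_apply {ι : Type} [Fintype ι] (v x : ι → F) : t2Dot v x = v ⬝ᵥ x := rfl

theorem t2_dual_apply {ι : Type} [Fintype ι] [DecidableEq ι] (f : Dual F (ι → F)) (x : ι → F) :
    f x = ∑ j, x j * f (Pi.single j 1) := by
  rw [LinearMap.pi_apply_eq_sum_univ f x]
  refine Finset.sum_congr rfl fun j _ => ?_
  rw [smul_eq_mul]
  congr 2
  funext k
  simp [Pi.single_apply, eq_comm]

theorem t2_tvGL_inv {ι : Type} [Fintype ι] [DecidableEq ι] (f : Dual F (ι → F)) (v : ι → F)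
    (h : f v = 0) : (tvGL f v h)⁻¹ = tvGL f (-v) (by rw [map_neg, h, neg_zero]) := by
  apply inv_eq_of_mul_eq_one_right
  apply t2_gl_ext
  intro x
  rw [Units.val_mul, ← Matrix.mulVec_mulVec, tvGL_mulVec, tvGL_mulVec, Units.val_one,
    Matrix.one_mulVec, map_add, map_smul, map_neg, h]
  simp

theorem t2Tau_isTv {ι : Type} [Fintype ι] [DecidableEq ι] {g : GL ι F} (hg : IsTv g) :
    IsTv (t2Tau g) := by
  obtain ⟨f, v, h, hf, hv, rfl⟩ := hg
  have h' : (-(t2Dot v)) (fun j => f (Pi.single j 1)) = 0 := by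
    rw [LinearMap.neg_apply, t2Dot_apply, neg_eq_zero, ← h, t2_dual_apply f v]
    rfl
  refine ⟨-(t2Dot v), fun j => f (Pi.single j 1), h', ?_, ?_, ?_⟩
  · intro h0
    apply hv
    funext j
    have := LinearMap.congr_fun h0 (Pi.single j 1)
    simpa using this
  · intro h0
    apply hf
    apply LinearMap.ext
    intro x
    rw [t2_dual_apply f x]
    have h1 : ∀ j, f (Pi.single j 1) = 0 := fun j => congrFun h0 j
    simp [h1]
  · apply t2_gl_ext
    intro x
    rw [t2Tau_val, Matrix.mulVec_transpose, tvGL_mulVec, t2_tvGL_inv]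
    funext j
    have h1 : (x ᵥ* ((tvGL f (-v) (by rw [map_neg, h, neg_zero]) : GL ι F) : Matrix ι ι F)) j =
        x ⬝ᵥ (((tvGL f (-v) (by rw [map_neg, h, neg_zero]) : GL ι F) : Matrix ι ι F) *ᵥ
          Pi.single j 1) := by
      rw [Matrix.mulVec_single_one]
      rfl
    rw [h1, tvGL_mulVec, dotProduct_add, dotProduct_smul, dotProduct_neg, dotProduct_single_one]
    simp only [Pi.add_apply, Pi.smul_apply, LinearMap.neg_apply, t2Dot_apply, smul_eq_mul]
    rw [dotProduct_comm x v]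
    ring


/-! ### the main statement -/

theorem t2_pt_single (k : Fin a) (l : Fin b) :
    pt (Pi.single k (1 : F)) (Pi.single l (1 : F)) = Pi.single (k, l) 1 := by
  funext ⟨i, j⟩
  simp only [pt, Pi.single_apply, Prod.mk.injEq]
  by_cases h1 : i = k <;> by_cases h2 : j = l <;> simp [h1, h2]

theorem t2_dot_pt (u : Fin a → F) (φ : Fin b → F) (m : Fin a × Fin b → F) :
    pt u φ ⬝ᵥ m = u ⬝ᵥ con m φ := by
  simp only [dotProduct, pt, con, Fintype.sum_prod_type, Finset.mul_sum]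
  refine Finset.sum_congr rfl fun i _ => Finset.sum_congr rfl fun j _ => ?_
  ring

/-- **T2.**  `NTs` from `NT` via the automorphism `g ↦ (g⁻¹)ᵀ`. -/
theorem nts_of_nt
    (hML : ∀ X : Subgroup (GL (Fin a × Fin b) F), H0 a b F ≤ X → NoTv X → NT X)
    (X : Subgroup (GL (Fin a × Fin b) F)) (hX : H0 a b F ≤ X) (hno : NoTv X) : NTs X := by
  classical
  -- the dual group
  have hX' : H0 a b F ≤ X.comap t2Tau := by
    intro h hh
    exact hX (t2Tau_mem_H0 hh)
  have hno' : NoTv (X.comap (t2Tau (F := F))) := by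
    intro g hg htv
    exact hno _ hg (t2Tau_isTv htv)
  have hNT := hML _ hX' hno'
  intro g hg φ hφ h1 h2
  set E : Matrix (Fin a × Fin b) (Fin a × Fin b) F := g.val - 1 with hE
  have hgE : g.val = 1 + E := by rw [hE]; abel
  -- E² = 0
  have hEE : E * E = 0 := by
    apply Matrix.mulVec_injective
    funext m
    rw [← Matrix.mulVec_mulVec, Matrix.zero_mulVec]
    exact h2 _ (h1 m)
  have hinv : ((g⁻¹ : GL (Fin a × Fin b) F) : Matrix (Fin a × Fin b) (Fin a × Fin b) F) = 1 - E := by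
    have h3 : g.val * (1 - E) = 1 := by
      rw [hgE]
      calc (1 + E) * (1 - E) = 1 - E * E := by noncomm_ring
        _ = 1 := by rw [hEE, sub_zero]
    calc ((g⁻¹ : GL (Fin a × Fin b) F) : Matrix (Fin a × Fin b) (Fin a × Fin b) F)
        = ((g⁻¹ : GL (Fin a × Fin b) F) : Matrix (Fin a × Fin b) (Fin a × Fin b) F) *
            (g.val * (1 - E)) := by rw [h3, mul_one]
      _ = 1 - E := by
          rw [← mul_assoc]
          show ((g⁻¹ : GL (Fin a × Fin b) F) : Matrix (Fin a × Fin b) (Fin a × Fin b) F) *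
            ((g : GL (Fin a × Fin b) F) : Matrix (Fin a × Fin b) (Fin a × Fin b) F) * (1 - E) = _
          rw [← Units.val_mul, inv_mul_cancel, Units.val_one, one_mul]
  have hτ : (t2Tau g).val - 1 = -Eᵀ := by
    show ((t2Tau g : GL (Fin a × Fin b) F) : Matrix (Fin a × Fin b) (Fin a × Fin b) F) - 1 = _
    rw [t2Tau_val, hinv, Matrix.transpose_sub, Matrix.transpose_one]
    abel
  have hmem : t2Tau g ∈ X.comap (t2Tau (F := F)) := by
    show t2Tau (t2Tau g) ∈ X
    rw [t2Tau_tau]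
    exact hg
  -- a coordinate where φ does not vanish
  obtain ⟨j0, hj0⟩ : ∃ j, φ j ≠ 0 := by
    by_contra hcon
    push Not at hcon
    exact hφ (funext hcon)
  -- columns of E
  have hcol : ∀ (p : Fin a × Fin b) (k : Fin a) (l : Fin b),
      E p (k, l) = φ l / φ j0 * E p (k, j0) := by
    intro p k l
    have h3 : con (pt (Pi.single k (1 : F))
        (Pi.single l (1 : F) - (φ l / φ j0) • Pi.single j0 (1 : F))) φ = 0 := by
      rw [con_pt, sub_dotProduct, smul_dotProduct, single_one_dotProduct, single_one_dotProduct,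
        smul_eq_mul, div_mul_cancel₀ _ hj0, sub_self, zero_smul]
    have h4 := h2 _ h3
    rw [sub_eq_add_neg, pt_add_right, ← neg_smul, pt_smul_right, t2_pt_single, t2_pt_single,
      Matrix.mulVec_add, Matrix.mulVec_smul, Matrix.mulVec_single_one,
      Matrix.mulVec_single_one] at h4
    have h5 := congrFun h4 p
    simp only [Pi.add_apply, Pi.smul_apply, Matrix.col_apply, smul_eq_mul, Pi.zero_apply] at h5
    linear_combination h5
  obtain ⟨z', hz'⟩ := hNT (t2Tau g) hmem φ hφ (by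
      intro m
      rw [hτ, Matrix.neg_mulVec]
      apply (Lv φ).neg_mem
      rw [mem_Lv]
      refine ⟨fun k => (∑ p, E p (k, j0) * m p) / φ j0, ?_⟩
      funext ⟨k, l⟩
      simp only [pt, Matrix.mulVec, dotProduct, Matrix.transpose_apply]
      rw [Finset.sum_div, Finset.sum_mul]
      refine Finset.sum_congr rfl fun p _ => ?_
      rw [hcol p k l]
      field_simp) (by
      intro u
      rw [hτ, Matrix.neg_mulVec, neg_eq_zero, Matrix.mulVec_transpose]
      funext q
      have h3 : (pt u φ ᵥ* E) q = pt u φ ⬝ᵥ (E *ᵥ Pi.single q 1) := by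
        rw [Matrix.mulVec_single_one]
        rfl
      rw [h3, t2_dot_pt, h1, dotProduct_zero]
      rfl)
  refine ⟨-z', ?_⟩
  have h6 : E = -(NN (a := a) φ z')ᵀ := by
    rw [← hz', hτ, Matrix.transpose_neg, Matrix.transpose_transpose, neg_neg]
  rw [h6]
  unfold NN
  rw [← Matrix.kroneckerMap_transpose, Matrix.transpose_one, Matrix.transpose_vecMulVec]
  have h7 : vecMulVec (-z') φ = -vecMulVec z' φ := by
    ext i j
    simp [vecMulVec_apply]
  rw [h7]
  ext ⟨i, j⟩ ⟨k, l⟩
  simp [kroneckerMap_apply]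

end Cfsg.Agent.Lib.H24.Tp
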