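import Mathlib
import Cfsg.Agent.Lib.H26.TwoMinDefs

set_option autoImplicit false

/-!
# S4409 (helper26 blueprint): auxiliary lemmas for the pieces K2V, K2Q, CV, CQ (helper24)
-/

namespace Cfsg.Agent.Lib.H24.TwoMin

open Cfsg.Agent.Lib.H26.TwoMin

variable {G : Type*} [Group G]

/-- an element of odd order lies in the subgroup generated by its square -/
theorem conj_eq_of_sq_conj_eq {g x : G} (hgo : Odd (orderOf g))
    (h : g ^ 2 * x * (g ^ 2)⁻¹ = x) : g * x * g⁻¹ = x := by
  obtain ⟨m, hm⟩ := hgo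
  have hg : (g ^ 2) ^ (m + 1) = g := by
    rw [← pow_mul]
    have : 2 * (m + 1) = orderOf g + 1 := by omega
    rw [this, pow_succ, pow_orderOf_eq_one, one_mul]
  have hc : Commute (g ^ 2) x := by
    unfold Commute SemiconjBy
    calc g ^ 2 * x = (g ^ 2 * x * (g ^ 2)⁻¹) * g ^ 2 := by group
      _ = x * g ^ 2 := by rw [h]
  have hc' : Commute g x := by
    rw [← hg]
    exact hc.pow_left (m + 1)
  calc g * x * g⁻¹ = x * g * g⁻¹ := by rw [hc'.eq]
    _ = x := by group

/-- **Lemma A**: an element of odd order normalizing a finite 2-subgroup `Y` and centralizing a subgroup `K` of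
index 2 of `Y` centralizes `Y`. -/
theorem centralizes_of_index_two {Y K : Subgroup G} {g : G} {a : ℕ} (hY : Nat.card ↥Y = 2 ^ a)
    (hKY : K ≤ Y) (hidx : (K.subgroupOf Y).index = 2) (hgo : Odd (orderOf g))
    (hgN : g ∈ Subgroup.normalizer (Y : Set G)) (hgK : ∀ k ∈ K, g * k * g⁻¹ = k) :
    ∀ u ∈ Y, g * u * g⁻¹ = u := by
  intro u hu
  by_cases huK : u ∈ K
  · exact hgK u huK
  have hvY : g * u * g⁻¹ ∈ Y := (Subgroup.mem_normalizer_iff.mp hgN u).mp hu
  have hvK : g * u * g⁻¹ ∉ K := by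
    intro hv
    apply huK
    have h1 := hgK _ hv
    -- g * (g u g⁻¹) * g⁻¹ = g u g⁻¹  ⟹  g u g⁻¹ = u
    have h2 : g * u * g⁻¹ = u := by
      have : g * u * g⁻¹ = g⁻¹ * (g * (g * u * g⁻¹) * g⁻¹) * g := by group
      rw [this, h1]; group
    rw [← h2]; exact hv
  -- `c = u⁻¹ (g u g⁻¹) ∈ K`
  have hcK : u⁻¹ * (g * u * g⁻¹) ∈ K := by
    have h := Subgroup.mul_mem_iff_of_index_two hidx
      (a := (⟨u⁻¹, Y.inv_mem hu⟩ : ↥Y)) (b := (⟨g * u * g⁻¹, hvY⟩ : ↥Y))
    have ha : (⟨u⁻¹, Y.inv_mem hu⟩ : ↥Y) ∉ K.subgroupOf Y := by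
      rw [Subgroup.mem_subgroupOf]
      intro h'
      exact huK (by simpa using K.inv_mem h')
    have hb : (⟨g * u * g⁻¹, hvY⟩ : ↥Y) ∉ K.subgroupOf Y := by
      rw [Subgroup.mem_subgroupOf]
      exact hvK
    have := h.mpr ⟨fun h' => absurd h' ha, fun h' => absurd h' hb⟩
    rw [Subgroup.mem_subgroupOf] at this
    exact this
  set c := u⁻¹ * (g * u * g⁻¹) with hc
  have hpow : ∀ j : ℕ, g ^ j * u * (g ^ j)⁻¹ = u * c ^ j := by
    intro j
    induction j with
    | zero => simp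
    | succ j ih =>
      have hcj : g * c ^ j * g⁻¹ = c ^ j := hgK _ (K.pow_mem hcK j)
      calc g ^ (j + 1) * u * (g ^ (j + 1))⁻¹ = g * (g ^ j * u * (g ^ j)⁻¹) * g⁻¹ := by
            rw [pow_succ']; group
        _ = g * (u * c ^ j) * g⁻¹ := by rw [ih]
        _ = (g * u * g⁻¹) * (g * c ^ j * g⁻¹) := by group
        _ = (g * u * g⁻¹) * c ^ j := by rw [hcj]
        _ = u * c * c ^ j := by rw [hc]; group
        _ = u * c ^ (j + 1) := by rw [pow_succ', mul_assoc]
  have hcn : c ^ orderOf g = 1 := by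
    have := hpow (orderOf g)
    rw [pow_orderOf_eq_one, one_mul, inv_one, mul_one] at this
    exact (mul_eq_left.mp this.symm)
  have hcY : c ∈ Y := hKY hcK
  have hc2 : c ^ (2 ^ a) = 1 := by
    have : Finite ↥Y := Nat.finite_of_card_ne_zero (by rw [hY]; positivity)
    have h := pow_card_eq_one' (G := ↥Y) (x := ⟨c, hcY⟩)
    rw [hY] at h
    have := congrArg (fun z : ↥Y => (z : G)) h
    simpa using this
  have hcop : Nat.Coprime (orderOf g) (2 ^ a) := by
    apply Nat.Coprime.pow_right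
    rw [Nat.coprime_two_right]
    exact hgo
  have hc1 : c = 1 := by
    have := pow_gcd_eq_one.mpr ⟨hcn, hc2⟩
    rw [Nat.Coprime] at hcop
    rwa [hcop, pow_one] at this
  have : g * u * g⁻¹ = u * c := by rw [hc]; group
  rw [this, hc1, mul_one]

/-- index of a subgroup from the cardinalities -/
theorem index_subgroupOf_eq_two {Y K : Subgroup G} {n : ℕ} (hKY : K ≤ Y) (hK : Nat.card ↥K = n)
    (hY : Nat.card ↥Y = 2 * n) (hn : 0 < n) : (K.subgroupOf Y).index = 2 := by
  have h1 := Subgroup.card_mul_index (K.subgroupOf Y)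
  have h2 : Nat.card ↥(K.subgroupOf Y) = Nat.card ↥K :=
    Nat.card_congr (Subgroup.subgroupOfEquivOfLe hKY).toEquiv
  rw [h2, hK, hY] at h1
  have : n * (K.subgroupOf Y).index = n * 2 := by rw [h1]; ring
  exact Nat.eq_of_mul_eq_mul_left hn this

/-- **MINC**: in a 2-group, a subgroup `C` not contained in `H` has an element outside `H` with square in `H`. -/
theorem exists_sq_mem {Y C H : Subgroup G} (h2 : IsPGroup 2 ↥Y) (hCY : C ≤ Y) (hne : ¬ C ≤ H) :
    ∃ c ∈ C, c ∉ H ∧ c ^ 2 ∈ H := by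
  classical
  have hex : ∃ n : ℕ, ∃ c ∈ C, c ∉ H ∧ orderOf c = n := by
    rw [SetLike.not_le_iff_exists] at hne
    obtain ⟨c, hc, hcH⟩ := hne
    exact ⟨orderOf c, c, hc, hcH, rfl⟩
  obtain ⟨c, hcC, hcH, hcn⟩ := Nat.find_spec hex
  refine ⟨c, hcC, hcH, ?_⟩
  by_contra hc2
  have hmin := Nat.find_min' hex ⟨c ^ 2, C.pow_mem hcC 2, hc2, rfl⟩
  rw [← hcn] at hmin
  -- orderOf c = 2 ^ k with k ≥ 1
  obtain ⟨k, hk⟩ := h2 ⟨c, hCY hcC⟩
  have hk' : c ^ (2 ^ k) = 1 := by
    have := congrArg (fun z : ↥Y => (z : G)) hk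
    simpa using this
  have hdvd : orderOf c ∣ 2 ^ k := orderOf_dvd_of_pow_eq_one hk'
  obtain ⟨j, -, hj⟩ := (Nat.dvd_prime_pow Nat.prime_two).mp hdvd
  have hc1 : c ≠ 1 := fun h => hcH (h ▸ H.one_mem)
  have hj0 : j ≠ 0 := by
    intro h0
    rw [h0, pow_zero, orderOf_eq_one_iff] at hj
    exact hc1 hj
  obtain ⟨i, rfl⟩ := Nat.exists_eq_succ_of_ne_zero hj0
  have h2dvd : 2 ∣ orderOf c := by rw [hj, pow_succ]; exact dvd_mul_left 2 _
  have hord : orderOf (c ^ 2) = orderOf c / 2 := orderOf_pow_of_dvd (by norm_num) h2dvd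
  rw [hord, hj, pow_succ, Nat.mul_div_cancel _ (by norm_num : 0 < 2)] at hmin
  have : 0 < 2 ^ i := by positivity
  omega

/-- **EXT**: adjoining an element `c` with `c² ∈ H`, commuting with `H`. -/
theorem exists_ext (H : Subgroup G) [Finite ↥H] (c : G) (hcomm : ∀ h ∈ H, c * h = h * c)
    (hc2 : c ^ 2 ∈ H) (hcH : c ∉ H) :
    ∃ A : Subgroup G, H ≤ A ∧ c ∈ A ∧ (∀ a ∈ A, a ∈ H ∨ c⁻¹ * a ∈ H) ∧ Nat.card ↥A = 2 * Nat.card ↥H := by
  classical
  have hcomm' : ∀ h ∈ H, c⁻¹ * h = h * c⁻¹ := by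
    intro h hh
    have := hcomm h hh
    calc c⁻¹ * h = c⁻¹ * (h * c) * c⁻¹ := by group
      _ = c⁻¹ * (c * h) * c⁻¹ := by rw [this]
      _ = h * c⁻¹ := by group
  let A : Subgroup G :=
    { carrier := {x | x ∈ H ∨ c⁻¹ * x ∈ H}
      one_mem' := Or.inl H.one_mem
      mul_mem' := by
        rintro x y (hx | hx) (hy | hy)
        · exact Or.inl (H.mul_mem hx hy)
        · right
          have : c⁻¹ * (x * y) = x * (c⁻¹ * y) := by
            rw [← mul_assoc, hcomm' x hx, mul_assoc]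
          rw [this]; exact H.mul_mem hx hy
        · right
          have : c⁻¹ * (x * y) = (c⁻¹ * x) * y := by group
          rw [this]; exact H.mul_mem hx hy
        · left
          have h1 := hcomm _ hx
          have : x * y = c ^ 2 * ((c⁻¹ * x) * (c⁻¹ * y)) := by
            calc x * y = c * (c⁻¹ * x) * c * (c⁻¹ * y) := by group
              _ = (c⁻¹ * x) * c * c * (c⁻¹ * y) := by rw [h1]
              _ = c * (c⁻¹ * x) * c * (c⁻¹ * y) := by rw [h1]
              _ = c * (c * (c⁻¹ * x)) * (c⁻¹ * y) := by rw [mul_assoc c (c⁻¹ * x) c, ← h1]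
              _ = c ^ 2 * ((c⁻¹ * x) * (c⁻¹ * y)) := by group
          rw [this]
          exact H.mul_mem hc2 (H.mul_mem hx hy)
      inv_mem' := by
        rintro x (hx | hx)
        · exact Or.inl (H.inv_mem hx)
        · right
          have h1 := hcomm' _ (H.inv_mem hx)
          have : c⁻¹ * x⁻¹ = (c⁻¹ * x)⁻¹ * (c ^ 2)⁻¹ := by
            calc c⁻¹ * x⁻¹ = c⁻¹ * (c⁻¹ * x)⁻¹ * c⁻¹ := by group
              _ = (c⁻¹ * x)⁻¹ * c⁻¹ * c⁻¹ := by rw [h1]
              _ = (c⁻¹ * x)⁻¹ * (c ^ 2)⁻¹ := by group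
          rw [this]
          exact H.mul_mem (H.inv_mem hx) (H.inv_mem hc2) }
  have hmemA : ∀ x, x ∈ A ↔ (x ∈ H ∨ c⁻¹ * x ∈ H) := fun _ => Iff.rfl
  refine ⟨A, fun h hh => Or.inl hh, (hmemA c).mpr (Or.inr (by simp)), fun a ha => (hmemA a).mp ha, ?_⟩
  -- cardinality
  let f : ↥H ⊕ ↥H → ↥A := fun s =>
    match s with
    | Sum.inl h => ⟨h, Or.inl h.2⟩
    | Sum.inr h => ⟨c * h, Or.inr (by simp)⟩
  have hf : Function.Bijective f := by
    constructor
    · rintro (h | h) (h' | h') heq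
      · have := congrArg Subtype.val heq
        simp only [f] at this
        rw [Subtype.ext this]
      · exfalso
        have := congrArg Subtype.val heq
        simp only [f] at this
        apply hcH
        have e : c = h * (h' : G)⁻¹ := by rw [this]; group
        rw [e]; exact H.mul_mem h.2 (H.inv_mem h'.2)
      · exfalso
        have := congrArg Subtype.val heq
        simp only [f] at this
        apply hcH
        have e : c = h' * (h : G)⁻¹ := by rw [← this]; group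
        rw [e]; exact H.mul_mem h'.2 (H.inv_mem h.2)
      · have := congrArg Subtype.val heq
        simp only [f] at this
        have := mul_left_cancel this
        rw [Subtype.ext this]
    · rintro ⟨a, ha⟩
      rcases ha with ha | ha
      · exact ⟨Sum.inl ⟨a, ha⟩, rfl⟩
      · refine ⟨Sum.inr ⟨c⁻¹ * a, ha⟩, ?_⟩
        apply Subtype.ext
        simp [f]
  have := Nat.card_congr (Equiv.ofBijective f hf)
  rw [← this, Nat.card_sum]
  ring

/-- commutativity of the extension -/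
theorem ext_comm (H A : Subgroup G) (c : G) (hcomm : ∀ h ∈ H, c * h = h * c)
    (hH : ∀ a ∈ H, ∀ b ∈ H, a * b = b * a) (hA : ∀ a ∈ A, a ∈ H ∨ c⁻¹ * a ∈ H) :
    ∀ a ∈ A, ∀ b ∈ A, a * b = b * a := by
  -- every element of `A` is `c ^ ε * h`; all these commute
  have key : ∀ a ∈ A, ∃ h ∈ H, a = h ∨ a = c * h := by
    intro a ha
    rcases hA a ha with h | h
    · exact ⟨a, h, Or.inl rfl⟩
    · exact ⟨c⁻¹ * a, h, Or.inr (by group)⟩
  intro a ha b hb
  obtain ⟨h, hh, ha'⟩ := key a ha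
  obtain ⟨k, hk, hb'⟩ := key b hb
  have e1 : h * (c * k) = c * k * h := by
    calc h * (c * k) = (h * c) * k := by group
      _ = (c * h) * k := by rw [hcomm h hh]
      _ = c * (h * k) := by group
      _ = c * (k * h) := by rw [hH h hh k hk]
      _ = c * k * h := by group
  have e2 : c * h * k = k * (c * h) := by
    calc c * h * k = c * (h * k) := by group
      _ = c * (k * h) := by rw [hH h hh k hk]
      _ = (c * k) * h := by group
      _ = (k * c) * h := by rw [hcomm k hk]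
      _ = k * (c * h) := by group
  have e3 : c * h * (c * k) = c * k * (c * h) := by
    calc c * h * (c * k) = c * (h * c) * k := by group
      _ = c * (c * h) * k := by rw [hcomm h hh]
      _ = c * c * (h * k) := by group
      _ = c * c * (k * h) := by rw [hH h hh k hk]
      _ = c * (c * k) * h := by group
      _ = c * (k * c) * h := by rw [hcomm k hk]
      _ = c * k * (c * h) := by group
  rcases ha' with ha' | ha' <;> rcases hb' with hb' | hb' <;> rw [ha', hb']
  · exact hH h hh k hk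
  · exact e1
  · exact e2
  · exact e3

end Cfsg.Agent.Lib.H24.TwoMin
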