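import Mathlib
import Cfsg.Agent.Lib.H26.TwoMinDefs
import Cfsg.Agent.Lib.H24.TwoMinAux

set_option autoImplicit false
open scoped commutatorElement

/-!
# S4409 (helper26 blueprint): piece CV `v4_centralizer_le` (helper24)
-/

namespace Cfsg.Agent.Lib.H24.TwoMin

open Cfsg.Agent.Lib.H26.TwoMin

variable {G : Type*} [Group G]

/-- an abelian subgroup of order 8 of exponent dividing 4 inside an `AFree` group is impossible -/
theorem afree_false {Y A : Subgroup G} (hA : AFree Y) (hAY : A ≤ Y)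
    (hcomm : ∀ a ∈ A, ∀ b ∈ A, a * b = b * a) (h8 : Nat.card ↥A = 8) (h4 : ∀ a ∈ A, a ^ 4 = 1) :
    False := by
  have hcyc : IsCyclic ↥A := hA A hAY hcomm h8
  obtain ⟨t, ht⟩ := hcyc.exists_generator
  have hord : orderOf t = Nat.card ↥A := orderOf_eq_card_of_forall_mem_zpowers ht
  have ht4 : t ^ 4 = 1 := by
    apply Subtype.ext
    have := h4 (t : G) t.2
    simpa using this
  have hdvd : orderOf t ∣ 4 := orderOf_dvd_of_pow_eq_one ht4
  rw [hord, h8] at hdvd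
  norm_num at hdvd

/-- adjoining to an abelian subgroup `H` of order 4 of an `AFree` group `Y` a further commuting element `c ∈ Y` with
`c² ∈ H`, `c⁴ = 1` is impossible -/
theorem ext_false {Y H : Subgroup G} [Finite ↥H] (hA : AFree Y) (hHY : H ≤ Y) (hH4 : Nat.card ↥H = 4)
    (hHc : ∀ a ∈ H, ∀ b ∈ H, a * b = b * a) {c : G} (hcY : c ∈ Y) (hcomm : ∀ h ∈ H, c * h = h * c)
    (hc2 : c ^ 2 ∈ H) (hcH : c ∉ H) (hc4 : c ^ 4 = 1) (hh4 : ∀ h ∈ H, h ^ 4 = 1) : False := by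
  obtain ⟨A, hHA, hcA, hmem, hcard⟩ := exists_ext H c hcomm hc2 hcH
  have hAY : A ≤ Y := by
    intro a ha
    rcases hmem a ha with h | h
    · exact hHY h
    · have : a = c * (c⁻¹ * a) := by group
      rw [this]
      exact Y.mul_mem hcY (hHY h)
  have hAc := ext_comm H A c hcomm hHc hmem
  have h8 : Nat.card ↥A = 8 := by rw [hcard, hH4]
  refine afree_false hA hAY hAc h8 ?_
  intro a ha
  rcases hmem a ha with h | h
  · exact hh4 a h
  · have e : a = c * (c⁻¹ * a) := by group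
    have hcm : Commute c (c⁻¹ * a) := hcomm _ h
    rw [e, hcm.mul_pow, hc4, hh4 _ h, one_mul]

/-- **CV**.  In an `AFree` 2-group a four-subgroup is self-centralizing. -/
theorem v4_centralizer_le [Finite G] {Y Y₀ : Subgroup G} (h2 : IsPGroup 2 ↥Y) (hA : AFree Y) (hle : Y₀ ≤ Y)
    (hV : V4Type Y₀) : Y ⊓ Subgroup.centralizer (Y₀ : Set G) ≤ Y₀ := by
  by_contra hne
  obtain ⟨c, hcC, hcH, hc2⟩ := exists_sq_mem h2 (inf_le_left : Y ⊓ Subgroup.centralizer (Y₀ : Set G) ≤ Y) hne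
  obtain ⟨h4, hexp⟩ := hV
  have hcY : c ∈ Y := hcC.1
  have hcomm : ∀ h ∈ Y₀, c * h = h * c := fun h hh =>
    ((Subgroup.mem_centralizer_iff.mp hcC.2) h hh).symm
  have hHc : ∀ a ∈ Y₀, ∀ b ∈ Y₀, a * b = b * a := by
    intro a ha b hb
    have ha2 := hexp a ha
    have hb2 := hexp b hb
    have hab2 := hexp (a * b) (Y₀.mul_mem ha hb)
    have hai : a⁻¹ = a := by rw [inv_eq_iff_mul_eq_one, ← pow_two, ha2]
    have hbi : b⁻¹ = b := by rw [inv_eq_iff_mul_eq_one, ← pow_two, hb2]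
    have : a * b = (a * b)⁻¹ := by
      rw [eq_comm, inv_eq_iff_mul_eq_one, ← pow_two, hab2]
    rw [this, mul_inv_rev, hai, hbi]
  have hc4 : c ^ 4 = 1 := by
    have : c ^ 4 = (c ^ 2) ^ 2 := by rw [← pow_mul]
    rw [this]; exact hexp _ hc2
  have hh4 : ∀ h ∈ Y₀, h ^ 4 = 1 := by
    intro h hh
    have : h ^ 4 = (h ^ 2) ^ 2 := by rw [← pow_mul]
    rw [this, hexp h hh, one_pow]
  exact ext_false hA hle h4 hHc hcY hcomm hc2 hcH hc4 hh4

end Cfsg.Agent.Lib.H24.TwoMin
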