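import Mathlib
import Cfsg.Agent.Lib.H26.TwoMinDefs
import Cfsg.Agent.Lib.H24.TwoMinAux
import Cfsg.Agent.Lib.H24.TwoMinCV

set_option autoImplicit false
open scoped commutatorElement

/-!
# S4409 (helper26 blueprint): piece CQ `q8_centralizer_le` (helper24)
-/

namespace Cfsg.Agent.Lib.H24.TwoMin

open Cfsg.Agent.Lib.H26.TwoMin

variable {G : Type*} [Group G]

/-- elements of `Q₈` outside `{1, z}` have order 4 -/
theorem q8_orderOf_four {Y₀ : Subgroup G} {z : G} (hQ : Q8Type Y₀ z) {x : G} (hx : x ∈ Y₀) (hx1 : x ≠ 1)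
    (hxz : x ≠ z) : orderOf x = 4 := by
  obtain ⟨-, -, hz1, hz2, hsq⟩ := hQ
  have hx2 : x ^ 2 = z := hsq x hx hx1 hxz
  have hord : orderOf x = 2 ^ (1 + 1) := by
    apply orderOf_eq_prime_pow
    · rw [pow_one, hx2]; exact hz1
    · have h22 : (2 : ℕ) ^ (1 + 1) = 2 * 2 := by norm_num
      rw [h22, pow_mul, hx2, hz2]
  rw [hord]; norm_num

/-- a subgroup of `Q₈` of smaller order misses an element -/
theorem exists_not_mem_of_card_lt {Y₀ K : Subgroup G} [Finite ↥K] (h : Nat.card ↥K < Nat.card ↥Y₀) :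
    ∃ w ∈ Y₀, w ∉ K := by
  by_contra hcon
  have hle : Y₀ ≤ K := fun w hw => by
    by_contra hwK
    exact hcon ⟨w, hw, hwK⟩
  have := Subgroup.card_le_of_le hle
  omega

/-- elements of `Q₈` outside `{1, z}` are not central -/
theorem q8_noncentral {Y₀ : Subgroup G} {z : G} (hQ : Q8Type Y₀ z) {x : G} (hx : x ∈ Y₀) (hx1 : x ≠ 1)
    (hxz : x ≠ z) : ∃ w ∈ Y₀, x * w ≠ w * x := by
  have hord := q8_orderOf_four hQ hx hx1 hxz
  obtain ⟨h8, hzY, hz1, hz2, hsq⟩ := hQ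
  have hx2 : x ^ 2 = z := hsq x hx hx1 hxz
  have hK : Nat.card ↥(Subgroup.zpowers x) = 4 := by rw [Nat.card_zpowers, hord]
  have : Finite ↥(Subgroup.zpowers x) := Nat.finite_of_card_ne_zero (by rw [hK]; norm_num)
  obtain ⟨w, hwY, hwK⟩ := exists_not_mem_of_card_lt (Y₀ := Y₀) (K := Subgroup.zpowers x)
    (by rw [hK, h8]; norm_num)
  refine ⟨w, hwY, ?_⟩
  intro hcomm
  have hxK : x ∈ Subgroup.zpowers x := Subgroup.mem_zpowers x
  have hw1 : w ≠ 1 := fun h => hwK (h ▸ (Subgroup.zpowers x).one_mem)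
  have hwz : w ≠ z := fun h => hwK (by rw [h, ← hx2]; exact (Subgroup.zpowers x).pow_mem hxK 2)
  have hw2 : w ^ 2 = z := hsq w hwY hw1 hwz
  have hxw1 : x * w ≠ 1 := by
    intro h
    apply hwK
    have : w = x⁻¹ := by
      rw [eq_inv_iff_mul_eq_one]
      exact mul_eq_one_comm.mp h
    rw [this]; exact (Subgroup.zpowers x).inv_mem hxK
  have hxwz : x * w ≠ z := by
    intro h
    apply hwK
    have : w = x := by
      have h' : x * w = x * x := by rw [h, ← hx2, pow_two]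
      exact mul_left_cancel h'
    rw [this]; exact hxK
  have h3 : (x * w) ^ 2 = z := hsq _ (Y₀.mul_mem hx hwY) hxw1 hxwz
  have hc : Commute x w := hcomm
  rw [hc.mul_pow, hx2, hw2, ← pow_two, hz2] at h3
  exact hz1 h3.symm

/-- **CQ**.  In an `AFree` 2-group a `Q₈`-subgroup contains its centralizer. -/
theorem q8_centralizer_le [Finite G] {Y Y₀ : Subgroup G} {z : G} (h2 : IsPGroup 2 ↥Y) (hA : AFree Y) (hle : Y₀ ≤ Y)
    (hQ : Q8Type Y₀ z) : Y ⊓ Subgroup.centralizer (Y₀ : Set G) ≤ Y₀ := by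
  by_contra hne
  obtain ⟨c, hcC, hcH, hc2⟩ := exists_sq_mem h2 (inf_le_left : Y ⊓ Subgroup.centralizer (Y₀ : Set G) ≤ Y) hne
  have hcY : c ∈ Y := hcC.1
  have hcomm : ∀ h ∈ Y₀, c * h = h * c := fun h hh =>
    ((Subgroup.mem_centralizer_iff.mp hcC.2) h hh).symm
  -- `c² ∈ {1, z}`
  have hc2' : c ^ 2 = 1 ∨ c ^ 2 = z := by
    by_contra hcon
    rw [not_or] at hcon
    obtain ⟨w, hw, hne'⟩ := q8_noncentral hQ hc2 hcon.1 hcon.2
    apply hne'
    have hcw : Commute c w := hcomm w hw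
    exact (hcw.pow_left 2).eq
  have hQ' := hQ
  obtain ⟨h8, hzY, hz1, hz2, hsq⟩ := hQ
  -- pick `i` of order 4
  have hordz : orderOf z = 2 := orderOf_eq_prime hz2 hz1
  have hKz : Nat.card ↥(Subgroup.zpowers z) = 2 := by rw [Nat.card_zpowers, hordz]
  have : Finite ↥(Subgroup.zpowers z) := Nat.finite_of_card_ne_zero (by rw [hKz]; norm_num)
  obtain ⟨i, hiY, hiK⟩ := exists_not_mem_of_card_lt (Y₀ := Y₀) (K := Subgroup.zpowers z)
    (by rw [hKz, h8]; norm_num)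
  have hi1 : i ≠ 1 := fun h => hiK (h ▸ (Subgroup.zpowers z).one_mem)
  have hiz : i ≠ z := fun h => hiK (h ▸ Subgroup.mem_zpowers z)
  have hi2 : i ^ 2 = z := hsq i hiY hi1 hiz
  have hordi := q8_orderOf_four hQ' hiY hi1 hiz
  have hH4 : Nat.card ↥(Subgroup.zpowers i) = 4 := by rw [Nat.card_zpowers, hordi]
  have hHY₀ : Subgroup.zpowers i ≤ Y₀ := (Subgroup.zpowers_le).mpr hiY
  have hiH : i ∈ Subgroup.zpowers i := Subgroup.mem_zpowers i
  have hHc : ∀ a ∈ Subgroup.zpowers i, ∀ b ∈ Subgroup.zpowers i, a * b = b * a := by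
    intro a ha b hb
    obtain ⟨m, rfl⟩ := Subgroup.mem_zpowers_iff.mp ha
    obtain ⟨n, rfl⟩ := Subgroup.mem_zpowers_iff.mp hb
    exact zpow_mul_comm i m n
  have hcomm' : ∀ h ∈ Subgroup.zpowers i, c * h = h * c := fun h hh => hcomm h (hHY₀ hh)
  have hc2H : c ^ 2 ∈ Subgroup.zpowers i := by
    rcases hc2' with h | h
    · rw [h]; exact (Subgroup.zpowers i).one_mem
    · rw [h, ← hi2]; exact (Subgroup.zpowers i).pow_mem hiH 2
  have hcH' : c ∉ Subgroup.zpowers i := fun h => hcH (hHY₀ h)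
  have hc4 : c ^ 4 = 1 := by
    have : c ^ 4 = (c ^ 2) ^ 2 := by rw [← pow_mul]
    rw [this]
    rcases hc2' with h | h
    · rw [h, one_pow]
    · rw [h, hz2]
  have hi4 : i ^ 4 = 1 := by
    have : i ^ 4 = (i ^ 2) ^ 2 := by rw [← pow_mul]
    rw [this, hi2, hz2]
  have hh4 : ∀ h ∈ Subgroup.zpowers i, h ^ 4 = 1 := by
    intro h hh
    obtain ⟨m, rfl⟩ := Subgroup.mem_zpowers_iff.mp hh
    rw [← zpow_natCast, ← zpow_mul, mul_comm, zpow_mul, zpow_natCast, hi4, one_zpow]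
  have : Finite ↥(Subgroup.zpowers i) := Nat.finite_of_card_ne_zero (by rw [hH4]; norm_num)
  exact ext_false hA (hHY₀.trans hle) hH4 hHc hcY hcomm' hc2H hcH' hc4 hh4

end Cfsg.Agent.Lib.H24.TwoMin
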