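import Mathlib
import Cfsg.Agent.Lib.H26.TwoMinDefs
import Cfsg.Agent.Lib.H24.TwoMinAux

set_option autoImplicit false
open scoped commutatorElement

/-!
# S4409 (helper26 blueprint): piece K2V `v4_no_fixed` (helper24)
-/

namespace Cfsg.Agent.Lib.H24.TwoMin

open Cfsg.Agent.Lib.H26.TwoMin

variable {G : Type*} [Group G]

/-- an odd-order element normalizing `Y` and fixing all of `Y` pointwise lies in the centralizer -/
theorem mem_centralizer_of_fix {Y : Subgroup G} {g : G} (h : ∀ u ∈ Y, g * u * g⁻¹ = u) :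
    g ∈ Subgroup.centralizer (Y : Set G) := by
  rw [Subgroup.mem_centralizer_iff]
  intro u hu
  have := h u hu
  calc u * g = (g * u * g⁻¹) * g := by rw [this]
    _ = g * u := by group

/-- **K2V**.  An odd-order element acting nontrivially on a four-group fixes no involution. -/
theorem v4_no_fixed {Y : Subgroup G} {g : G} (hV : V4Type Y) (hgo : Odd (orderOf g))
    (hgN : g ∈ Subgroup.normalizer (Y : Set G)) (hgC : g ∉ Subgroup.centralizer (Y : Set G)) :
    ∀ y ∈ Y, g * y * g⁻¹ = y → y = 1 := by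
  intro y hy hfix
  by_contra hy1
  obtain ⟨h4, hexp⟩ := hV
  have hy2 : y ^ 2 = 1 := hexp y hy
  have hord : orderOf y = 2 := orderOf_eq_prime hy2 hy1
  have hK : Nat.card ↥(Subgroup.zpowers y) = 2 := by rw [Nat.card_zpowers, hord]
  have hKY : Subgroup.zpowers y ≤ Y := (Subgroup.zpowers_le).mpr hy
  have hidx : ((Subgroup.zpowers y).subgroupOf Y).index = 2 :=
    index_subgroupOf_eq_two hKY hK (by rw [h4]) (by norm_num)
  have hfixK : ∀ k ∈ Subgroup.zpowers y, g * k * g⁻¹ = k := by
    intro k hk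
    obtain ⟨n, rfl⟩ := Subgroup.mem_zpowers_iff.mp hk
    rw [← conj_zpow, hfix]
  have hall := centralizes_of_index_two (a := 2) (by rw [h4]; norm_num) hKY hidx hgo hgN hfixK
  exact hgC (mem_centralizer_of_fix hall)

end Cfsg.Agent.Lib.H24.TwoMin
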