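import Mathlib
import Cfsg.Agent.Lib.H26.TwoMinDefs
import Cfsg.Agent.Lib.H24.TwoMinAux
import Cfsg.Agent.Lib.H24.TwoMinK2V

set_option autoImplicit false
open scoped commutatorElement

/-!
# S4409 (helper26 blueprint): piece K2Q `q8_no_fixed` (helper24)
-/

namespace Cfsg.Agent.Lib.H24.TwoMin

open Cfsg.Agent.Lib.H26.TwoMin

variable {G : Type*} [Group G]

/-- an odd-order element normalizing a `Q₈` fixes its involution -/
theorem q8_fix_z {Y : Subgroup G} {z g : G} (hQ : Q8Type Y z)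
    (hgN : g ∈ Subgroup.normalizer (Y : Set G)) : g * z * g⁻¹ = z := by
  obtain ⟨-, hzY, hz1, hz2, hsq⟩ := hQ
  have hwY : g * z * g⁻¹ ∈ Y := (Subgroup.mem_normalizer_iff.mp hgN z).mp hzY
  have hw2 : (g * z * g⁻¹) ^ 2 = 1 := by
    rw [conj_pow, hz2]; group
  have hw1 : g * z * g⁻¹ ≠ 1 := by
    intro h
    apply hz1
    have : z = g⁻¹ * (g * z * g⁻¹) * g := by group
    rw [this, h]; group
  by_contra hne
  have := hsq _ hwY hw1 hne
  rw [hw2] at this
  exact hz1 this.symm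

/-- **K2Q**.  An odd-order element acting nontrivially on `Q₈` fixes `z` and fixes no coset `y⟨z⟩ ≠ ⟨z⟩`. -/
theorem q8_no_fixed {Y : Subgroup G} {z g : G} (hQ : Q8Type Y z) (hgo : Odd (orderOf g))
    (hgN : g ∈ Subgroup.normalizer (Y : Set G)) (hgC : g ∉ Subgroup.centralizer (Y : Set G)) :
    g * z * g⁻¹ = z ∧ ∀ y ∈ Y, (g * y * g⁻¹ = y ∨ g * y * g⁻¹ = y * z) → (y = 1 ∨ y = z) := by
  have hz := q8_fix_z hQ hgN
  refine ⟨hz, ?_⟩
  intro y hy hor
  by_contra hcon
  rw [not_or] at hcon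
  obtain ⟨hy1, hyz⟩ := hcon
  obtain ⟨h8, hzY, hz1, hz2, hsq⟩ := hQ
  have hy2 : y ^ 2 = z := hsq y hy hy1 hyz
  -- `g` fixes `y`
  have hfix : g * y * g⁻¹ = y := by
    rcases hor with h | h
    · exact h
    · apply conj_eq_of_sq_conj_eq hgo
      calc g ^ 2 * y * (g ^ 2)⁻¹ = g * (g * y * g⁻¹) * g⁻¹ := by
            simp only [pow_two, mul_inv_rev, mul_assoc]
        _ = g * (y * z) * g⁻¹ := by rw [h]
        _ = (g * y * g⁻¹) * (g * z * g⁻¹) := by group
        _ = y * z * z := by rw [h, hz]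
        _ = y * z ^ 2 := by rw [pow_two, mul_assoc]
        _ = y := by rw [hz2, mul_one]
  have hord : orderOf y = 2 ^ (1 + 1) := by
    apply orderOf_eq_prime_pow
    · rw [pow_one, hy2]; exact hz1
    · have h22 : (2 : ℕ) ^ (1 + 1) = 2 * 2 := by norm_num
      rw [h22, pow_mul, hy2, hz2]
  have hK : Nat.card ↥(Subgroup.zpowers y) = 4 := by rw [Nat.card_zpowers, hord]; norm_num
  have hKY : Subgroup.zpowers y ≤ Y := (Subgroup.zpowers_le).mpr hy
  have hidx : ((Subgroup.zpowers y).subgroupOf Y).index = 2 :=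
    index_subgroupOf_eq_two hKY hK (by rw [h8]) (by norm_num)
  have hfixK : ∀ k ∈ Subgroup.zpowers y, g * k * g⁻¹ = k := by
    intro k hk
    obtain ⟨n, rfl⟩ := Subgroup.mem_zpowers_iff.mp hk
    rw [← conj_zpow, hfix]
  have hall := centralizes_of_index_two (a := 3) (by rw [h8]; norm_num) hKY hidx hgo hgN hfixK
  exact hgC (mem_centralizer_of_fix hall)

end Cfsg.Agent.Lib.H24.TwoMin
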