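import Mathlib
import Cfsg.Agent.Lib.H26.TwoMinDefs
import Cfsg.Agent.Lib.H26.TwoMinMBV
import Cfsg.Agent.Lib.H24.TwoMinAux
import Cfsg.Agent.Lib.H24.TwoMinCQ

set_option autoImplicit false
open scoped commutatorElement

/-!
# S4409 (helper26 blueprint): piece MBQ `caseB_q8` (helper24, twin)
-/

namespace Cfsg.Agent.Lib.H24.TwoMin

open Cfsg.Agent.Lib.H26.TwoMin

variable {G : Type*} [Group G]

/-- a `Q₈` is `AFree` -/
theorem q8_afree {W : Subgroup G} {z : G} (hQ : Q8Type W z) : AFree W := by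
  intro A hAW hAc hA8
  exfalso
  have hWfin : Finite ↥W := Nat.finite_of_card_ne_zero (by rw [hQ.1]; norm_num)
  have hAW' : A = W := Subgroup.eq_of_le_of_card_ge hAW (by rw [hQ.1, hA8])
  obtain ⟨h8, hzY, hz1, hz2, hsq⟩ := hQ
  have hordz : orderOf z = 2 := orderOf_eq_prime hz2 hz1
  have hKz : Nat.card ↥(Subgroup.zpowers z) = 2 := by rw [Nat.card_zpowers, hordz]
  have : Finite ↥(Subgroup.zpowers z) := Nat.finite_of_card_ne_zero (by rw [hKz]; norm_num)
  obtain ⟨i, hiY, hiK⟩ := exists_not_mem_of_card_lt (Y₀ := W) (K := Subgroup.zpowers z)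
    (by rw [hKz, h8]; norm_num)
  have hi1 : i ≠ 1 := fun h => hiK (h ▸ (Subgroup.zpowers z).one_mem)
  have hiz : i ≠ z := fun h => hiK (h ▸ Subgroup.mem_zpowers z)
  obtain ⟨w, hw, hne⟩ := q8_noncentral ⟨h8, hzY, hz1, hz2, hsq⟩ hiY hi1 hiz
  apply hne
  rw [← hAW'] at hiY hw
  exact hAc i hiY w hw

/-- **MBQ**.  Case `W = [X,H]` a `Q₈`: `|X : W| = 2` and `X = W C_X(W)`. -/
theorem caseB_q8 [Finite G] (L : Layer1 G) {X H : Subgroup G} {z : G} (h : Setup X H) (hQ : Q8Type ⁅X, H⁆ z) :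
    (⁅X, H⁆).relIndex X = 2 ∧ ⁅X, H⁆ ⊔ (X ⊓ Subgroup.centralizer ((⁅X, H⁆ : Subgroup G) : Set G)) = X := by
  have hca := setup_coprimeAction h
  have hHN := setup_le_normalizer h
  have hWX : ⁅X, H⁆ ≤ X := hca.commutator_le
  have hXW : X ≤ Subgroup.normalizer ((⁅X, H⁆ : Subgroup G) : Set G) :=
    Subgroup.normalizer_commutator_ge_left X H
  have hHW : H ≤ Subgroup.normalizer ((⁅X, H⁆ : Subgroup G) : Set G) :=
    Subgroup.normalizer_commutator_ge_right X H
  have hW8 : Nat.card ↥⁅X, H⁆ = 8 := hQ.1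
  have hWne : ⁅X, H⁆ ≠ ⊥ := by
    intro hb
    rw [hb, Subgroup.card_bot] at hW8
    omega
  obtain ⟨g, hgH, hgC⟩ := exists_not_mem_centralizer' (not_le_centralizer_commutator h hWne)
  have hgo := setup_odd_orderOf h hgH
  refine ⟨?_, L.q8_factor X _ z g h.two hWX hQ hXW hgo (hHN hgH) (hHW hgH) hgC⟩
  have hdec := Cfsg.Agent.Lib.H1.coprime_commutator_sup_centralizer hca
  obtain ⟨W, hWdef⟩ : ∃ W : Subgroup G, W = ⁅X, H⁆ := ⟨_, rfl⟩
  rw [← hWdef] at hWX hXW hHW hW8 hgC hdec hQ ⊢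
  by_cases hCW : X ⊓ Subgroup.centralizer (H : Set G) ≤ W
  · exfalso
    apply h.notfree
    have : X = W := by
      rw [← hdec]
      exact sup_eq_left.mpr hCW
    rw [this]
    exact q8_afree hQ
  obtain ⟨c, hcC, hcW, hc2⟩ :=
    exists_sq_mem h.two (inf_le_left : X ⊓ Subgroup.centralizer (H : Set G) ≤ X) hCW
  have hcX : c ∈ X := hcC.1
  have hcH : ∀ a ∈ H, a * c * a⁻¹ = c := by
    intro a ha
    have := Subgroup.mem_centralizer_iff.mp hcC.2 a ha
    rw [this]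
    group
  have hzc : Subgroup.zpowers c ≤ X := Subgroup.zpowers_le.mpr hcX
  have hUX : W ⊔ Subgroup.zpowers c ≤ X := sup_le hWX hzc
  have hHU : H ≤ Subgroup.normalizer ((W ⊔ Subgroup.zpowers c : Subgroup G) : Set G) := by
    intro a ha
    apply mem_normalizer_sup (hHW ha)
    rw [Subgroup.mem_normalizer_iff]
    intro x
    have hax : a * c * a⁻¹ = c := hcH a ha
    constructor
    · intro hx
      obtain ⟨n, rfl⟩ := Subgroup.mem_zpowers_iff.mp hx
      rw [← conj_zpow, hax]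
      exact Subgroup.zpow_mem_zpowers c n
    · intro hx
      obtain ⟨n, hn⟩ := Subgroup.mem_zpowers_iff.mp hx
      have h1 : a * (c ^ n) * a⁻¹ = c ^ n := by rw [← conj_zpow, hax]
      have h2 : a * x * a⁻¹ = a * c ^ n * a⁻¹ := by rw [← hn, h1]
      have : x = c ^ n := mul_left_cancel (mul_right_cancel h2)
      rw [this]
      exact Subgroup.zpow_mem_zpowers c n
  have hUeq : W ⊔ Subgroup.zpowers c = X := by
    by_contra hne
    have hlt : W ⊔ Subgroup.zpowers c < X := lt_of_le_of_ne hUX hne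
    have hAU := h.inv _ hlt hHU
    have hWU : W ≤ W ⊔ Subgroup.zpowers c := le_sup_left
    have hgU : g ∉ Subgroup.centralizer ((W ⊔ Subgroup.zpowers c : Subgroup G) : Set G) := by
      intro hg
      apply hgC
      exact Subgroup.centralizer_le (SetLike.coe_subset_coe.mpr hWU) hg
    have h2U : IsPGroup 2 ↥(W ⊔ Subgroup.zpowers c) := h.two.to_le hUX
    have hcU : c ∈ W ⊔ Subgroup.zpowers c :=
      (le_sup_right : Subgroup.zpowers c ≤ _) (Subgroup.mem_zpowers c)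
    rcases L.lemmaK _ g h2U hAU hgo (hHU hgH) hgU with hV | ⟨z', hQ'⟩
    · have := Subgroup.card_le_of_le hWU
      rw [hV.1, hW8] at this
      omega
    · have : W = W ⊔ Subgroup.zpowers c := Subgroup.eq_of_le_of_card_ge hWU (by rw [hQ'.1, hW8])
      apply hcW
      rw [this]
      exact hcU
  show (W.subgroupOf X).index = 2
  rw [Subgroup.index_eq_two_iff_exists_notMem_and]
  refine ⟨⟨c, hcX⟩, ?_, ?_⟩
  · rw [Subgroup.mem_subgroupOf]
    exact hcW
  · rintro ⟨b, hb⟩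
    rw [Subgroup.mem_subgroupOf, Subgroup.mem_subgroupOf]
    show b * c ∈ W ∨ b ∈ W
    have hb' : b ∈ W ⊔ Subgroup.zpowers c := by rw [hUeq]; exact hb
    obtain ⟨w, hw, y, hy, rfl⟩ := Cfsg.Agent.Lib.H1.mem_sup_of_le_normalizer (hzc.trans hXW) hb'
    obtain ⟨n, rfl⟩ := Subgroup.mem_zpowers_iff.mp hy
    have hc2' : c ^ (2 : ℤ) ∈ W := by
      rw [zpow_two, ← pow_two]
      exact hc2
    rcases Int.even_or_odd' n with ⟨k, hk | hk⟩
    · right
      apply W.mul_mem hw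
      rw [hk, zpow_mul]
      exact W.zpow_mem hc2' k
    · left
      have e : w * c ^ n * c = w * (c ^ (2 : ℤ)) ^ (k + 1) := by
        rw [hk, ← zpow_mul, mul_assoc, ← zpow_add_one]
        congr 2
        ring
      rw [e]
      exact W.mul_mem hw (W.zpow_mem hc2' (k + 1))

end Cfsg.Agent.Lib.H24.TwoMin
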