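import Mathlib
import Cfsg.Agent.Lib.H26.TwoMinDefs
import Cfsg.Agent.Lib.H24.TwoMinAux
import Cfsg.Agent.Lib.H24.TwoMinK2V
import Cfsg.Agent.Lib.H24.TwoMinCV

set_option autoImplicit false
open scoped commutatorElement

/-!
# S4409 (helper26 blueprint): piece P6 `min_q8` (helper24, twin)
-/

namespace Cfsg.Agent.Lib.H24.TwoMin

open Cfsg.Agent.Lib.H26.TwoMin

variable {G : Type*} [Group G]

/-- the centre `Z = Y ⊓ C(Y)` -/
abbrev cen (Y : Subgroup G) : Subgroup G := Y ⊓ Subgroup.centralizer (Y : Set G)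

theorem cen_comm {Y : Subgroup G} {x u : G} (hx : x ∈ cen Y) (hu : u ∈ Y) : u * x = x * u :=
  Subgroup.mem_centralizer_iff.mp hx.2 u hu

/-- `Z = {1, z}` -/
theorem exists_z {Y : Subgroup G} (hZ : Nat.card ↥(cen Y) = 2) :
    ∃ z ∈ cen Y, z ≠ 1 ∧ z ^ 2 = 1 ∧ ∀ x ∈ cen Y, x = 1 ∨ x = z := by
  obtain ⟨⟨z, hzZ⟩, hz1, huniq⟩ := (Nat.card_eq_two_iff' (1 : ↥(cen Y))).mp hZ
  have hz1' : z ≠ 1 := fun h => hz1 (Subtype.ext h)
  have hall : ∀ x ∈ cen Y, x = 1 ∨ x = z := by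
    intro x hx
    by_cases h : x = 1
    · exact Or.inl h
    · right
      have := huniq ⟨x, hx⟩ (fun h' => h (congrArg Subtype.val h'))
      exact congrArg Subtype.val this
  refine ⟨z, hzZ, hz1', ?_, hall⟩
  rcases hall (z ^ 2) ((cen Y).pow_mem hzZ 2) with h | h
  · exact h
  · exfalso
    apply hz1'
    have : z * z = z * 1 := by rw [← pow_two, h, mul_one]
    exact mul_left_cancel this

/-- the standing hypotheses of P6 -/
structure P6Ctx (Y : Subgroup G) (z : G) : Prop where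
  zZ : z ∈ cen Y
  z1 : z ≠ 1
  z2 : z ^ 2 = 1
  all : ∀ x ∈ cen Y, x = 1 ∨ x = z
  sq : ∀ x ∈ Y, x ^ 2 ∈ cen Y
  card : Nat.card ↥(cen Y) = 2

namespace P6Ctx

variable {Y : Subgroup G} {z : G}

theorem pow_four (C : P6Ctx Y z) {x : G} (hx : x ∈ Y) : x ^ 4 = 1 := by
  have : x ^ 4 = (x ^ 2) ^ 2 := by rw [← pow_mul]
  rw [this]
  rcases C.all _ (C.sq x hx) with h | h
  · rw [h, one_pow]
  · rw [h, C.z2]

theorem comm_or (C : P6Ctx Y z) {x y : G} (hx : x ∈ Y) (hy : y ∈ Y) :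
    x * y = y * x ∨ x * y = y * x * z := by
  have hx2 : x ^ 2 ∈ cen Y := C.sq x hx
  have hy2 : y ^ 2 ∈ cen Y := C.sq y hy
  have hxy2 : (x * y) ^ 2 ∈ cen Y := C.sq _ (Y.mul_mem hx hy)
  have h1 : y * (x ^ 2)⁻¹ = (x ^ 2)⁻¹ * y := cen_comm ((cen Y).inv_mem hx2) hy
  have hc : x * y * x⁻¹ * y⁻¹ = (x * y) ^ 2 * (x ^ 2)⁻¹ * (y ^ 2)⁻¹ := by
    symm
    calc (x * y) ^ 2 * (x ^ 2)⁻¹ * (y ^ 2)⁻¹ = x * y * x * (y * (x ^ 2)⁻¹) * (y ^ 2)⁻¹ := by
          simp only [pow_two, mul_assoc]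
      _ = x * y * x * ((x ^ 2)⁻¹ * y) * (y ^ 2)⁻¹ := by rw [h1]
      _ = x * y * x⁻¹ * y⁻¹ := by
          simp only [pow_two, mul_inv_rev, mul_assoc, mul_inv_cancel_left]
  have hcZ : x * y * x⁻¹ * y⁻¹ ∈ cen Y := by
    rw [hc]
    exact (cen Y).mul_mem ((cen Y).mul_mem hxy2 ((cen Y).inv_mem hx2)) ((cen Y).inv_mem hy2)
  have hgen : x * y = (x * y * x⁻¹ * y⁻¹) * (y * x) := by group
  rcases C.all _ hcZ with h | h
  · left
    rw [hgen, h, one_mul]
  · right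
    rw [hgen, h]
    exact (cen_comm C.zZ (Y.mul_mem hy hx)).symm

/-- the subgroup `⟨y⟩Z` for `y ∈ Y ∖ Z` -/
theorem exists_Hy (C : P6Ctx Y z) {y : G} (hy : y ∈ Y) (hyZ : y ∉ cen Y) :
    ∃ H : Subgroup G, cen Y ≤ H ∧ y ∈ H ∧ (∀ a ∈ H, a ∈ cen Y ∨ y⁻¹ * a ∈ cen Y) ∧ Nat.card ↥H = 4 ∧
      H ≤ Y ∧ (∀ a ∈ H, ∀ b ∈ H, a * b = b * a) := by
  have : Finite ↥(cen Y) := Nat.finite_of_card_ne_zero (by rw [C.card]; norm_num)
  have hcomm : ∀ h ∈ cen Y, y * h = h * y := fun h hh => cen_comm hh hy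
  obtain ⟨H, hZH, hyH, hmem, hcard⟩ := exists_ext (cen Y) y hcomm (C.sq y hy) hyZ
  have hZc : ∀ a ∈ cen Y, ∀ b ∈ cen Y, a * b = b * a := fun a ha b hb => cen_comm hb ha.1
  refine ⟨H, hZH, hyH, hmem, by rw [hcard, C.card], ?_, ext_comm (cen Y) H y hcomm hZc hmem⟩
  intro a ha
  rcases hmem a ha with h | h
  · exact h.1
  · have : a = y * (y⁻¹ * a) := by group
    rw [this]
    exact Y.mul_mem hy h.1

/-- `C_Y(y) ≤ ⟨y⟩Z` in an `AFree` group -/
theorem centralizer_le_Hy (C : P6Ctx Y z) (hA : AFree Y) {y : G} {H : Subgroup G}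
    (hmem : ∀ a ∈ H, a ∈ cen Y ∨ y⁻¹ * a ∈ cen Y) (hcard : Nat.card ↥H = 4) (hHY : H ≤ Y)
    (hHc : ∀ a ∈ H, ∀ b ∈ H, a * b = b * a) (hZH : cen Y ≤ H) {w : G} (hw : w ∈ Y)
    (hwy : w * y = y * w) : w ∈ H := by
  by_contra hwH
  have : Finite ↥H := Nat.finite_of_card_ne_zero (by rw [hcard]; norm_num)
  refine ext_false hA hHY hcard hHc hw ?_ (hZH (C.sq w hw)) hwH (C.pow_four hw)
    (fun h hh => C.pow_four (hHY hh))
  intro h hh
  rcases hmem h hh with hz | hz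
  · exact cen_comm hz hw
  · have e : h = y * (y⁻¹ * h) := by group
    have h1 : w * (y⁻¹ * h) = (y⁻¹ * h) * w := cen_comm hz hw
    calc w * h = w * (y * (y⁻¹ * h)) := by rw [← e]
      _ = (w * y) * (y⁻¹ * h) := by rw [mul_assoc]
      _ = y * (w * (y⁻¹ * h)) := by rw [hwy, mul_assoc]
      _ = y * ((y⁻¹ * h) * w) := by rw [h1]
      _ = (y * (y⁻¹ * h)) * w := by simp only [mul_assoc]
      _ = h * w := by rw [← e]

/-- `|Y| = 8` -/
theorem card_eight (C : P6Ctx Y z) (hA : AFree Y) {y : G} (hy : y ∈ Y) (hyZ : y ∉ cen Y) :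
    Nat.card ↥Y = 8 := by
  obtain ⟨H, hZH, hyH, hmem, hcard, hHY, hHc⟩ := C.exists_Hy hy hyZ
  have hex : ∃ x₀ ∈ Y, x₀ ∉ H := by
    by_contra hcon
    apply hyZ
    have hYH : Y ≤ H := fun x hx => by
      by_contra hxH
      exact hcon ⟨x, hx, hxH⟩
    refine Subgroup.mem_inf.mpr ⟨hy, ?_⟩
    rw [Subgroup.mem_centralizer_iff]
    intro u hu
    exact hHc u (hYH hu) y hyH
  obtain ⟨x₀, hx₀, hx₀H⟩ := hex
  have hnc : ∀ x ∈ Y, x ∉ H → x * y = y * x * z := by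
    intro x hx hxH
    rcases C.comm_or hx hy with h | h
    · exact absurd (C.centralizer_le_Hy hA hmem hcard hHY hHc hZH hx h) hxH
    · exact h
  have hzc : ∀ u ∈ Y, u * z = z * u := fun u hu => cen_comm C.zZ hu
  have hidx : (H.subgroupOf Y).index = 2 := by
    rw [Subgroup.index_eq_two_iff_exists_notMem_and]
    refine ⟨⟨x₀⁻¹, Y.inv_mem hx₀⟩, ?_, ?_⟩
    · rw [Subgroup.mem_subgroupOf]
      intro h
      apply hx₀H
      simpa using H.inv_mem h
    · rintro ⟨b, hb⟩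
      by_cases hbH : b ∈ H
      · right
        rw [Subgroup.mem_subgroupOf]
        exact hbH
      · left
        rw [Subgroup.mem_subgroupOf]
        show b * x₀⁻¹ ∈ H
        apply C.centralizer_le_Hy hA hmem hcard hHY hHc hZH (Y.mul_mem hb (Y.inv_mem hx₀))
        have h1 := hnc b hb hbH
        have h2 := hnc x₀ hx₀ hx₀H
        have hzx : x₀⁻¹ * z = z * x₀⁻¹ := hzc x₀⁻¹ (Y.inv_mem hx₀)
        have h3 : x₀⁻¹ * y = y * x₀⁻¹ * z := by
          symm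
          calc y * x₀⁻¹ * z = (x₀⁻¹ * (x₀ * y)) * x₀⁻¹ * z := by
                simp only [inv_mul_cancel_left]
            _ = (x₀⁻¹ * (y * x₀ * z)) * x₀⁻¹ * z := by rw [h2]
            _ = x₀⁻¹ * y * x₀ * (z * x₀⁻¹) * z := by simp only [mul_assoc]
            _ = x₀⁻¹ * y * x₀ * (x₀⁻¹ * z) * z := by rw [← hzx]
            _ = x₀⁻¹ * y * (z * z) := by simp only [mul_assoc, mul_inv_cancel_left]
            _ = x₀⁻¹ * y := by rw [← pow_two, C.z2, mul_one]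
        calc b * x₀⁻¹ * y = b * (x₀⁻¹ * y) := by rw [mul_assoc]
          _ = b * (y * x₀⁻¹ * z) := by rw [h3]
          _ = (b * y) * x₀⁻¹ * z := by simp only [mul_assoc]
          _ = (y * b * z) * x₀⁻¹ * z := by rw [h1]
          _ = y * b * (z * x₀⁻¹) * z := by simp only [mul_assoc]
          _ = y * b * (x₀⁻¹ * z) * z := by rw [← hzx]
          _ = y * (b * x₀⁻¹) * (z * z) := by simp only [mul_assoc]
          _ = y * (b * x₀⁻¹) := by rw [← pow_two, C.z2, mul_one]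
  have h1 := Subgroup.card_mul_index (H.subgroupOf Y)
  have h2 : Nat.card ↥(H.subgroupOf Y) = Nat.card ↥H :=
    Nat.card_congr (Subgroup.subgroupOfEquivOfLe hHY).toEquiv
  rw [h2, hcard, hidx] at h1
  exact h1.symm

/-- `g` fixes `z` -/
theorem fix_z (C : P6Ctx Y z) {g : G} (hgN : g ∈ Subgroup.normalizer (Y : Set G)) :
    g * z * g⁻¹ = z := by
  have hN := Subgroup.mem_normalizer_iff.mp hgN
  have hN' : ∀ u, u ∈ Y → g⁻¹ * u * g ∈ Y := by
    intro u hu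
    rw [hN]
    have : g * (g⁻¹ * u * g) * g⁻¹ = u := by group
    rw [this]
    exact hu
  have hwZ : g * z * g⁻¹ ∈ cen Y := by
    refine Subgroup.mem_inf.mpr ⟨(hN z).mp C.zZ.1, ?_⟩
    rw [Subgroup.mem_centralizer_iff]
    intro u hu
    have h := cen_comm C.zZ (hN' u hu)
    calc u * (g * z * g⁻¹) = g * ((g⁻¹ * u * g) * z) * g⁻¹ := by group
      _ = g * (z * (g⁻¹ * u * g)) * g⁻¹ := by rw [h]
      _ = g * z * g⁻¹ * u := by group
  rcases C.all _ hwZ with h | h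
  · exfalso
    apply C.z1
    have : z = g⁻¹ * (g * z * g⁻¹) * g := by group
    rw [this, h]
    group
  · exact h

/-- `g` fixes no coset `yZ ≠ Z` -/
theorem no_fixed_coset (C : P6Ctx Y z) (hY8 : Nat.card ↥Y = 8) {g : G} (hgo : Odd (orderOf g))
    (hgN : g ∈ Subgroup.normalizer (Y : Set G)) (hgC : g ∉ Subgroup.centralizer (Y : Set G))
    {y : G} (hy : y ∈ Y) (hyZ : y ∉ cen Y) : g * y * g⁻¹ ≠ y ∧ g * y * g⁻¹ ≠ y * z := by
  have hz := C.fix_z hgN
  have key : ¬ (g * y * g⁻¹ = y ∨ g * y * g⁻¹ = y * z) := by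
    intro hor
    have hfix : g * y * g⁻¹ = y := by
      rcases hor with h | h
      · exact h
      · apply conj_eq_of_sq_conj_eq hgo
        calc g ^ 2 * y * (g ^ 2)⁻¹ = g * (g * y * g⁻¹) * g⁻¹ := by
              simp only [pow_two, mul_inv_rev, mul_assoc]
          _ = g * (y * z) * g⁻¹ := by rw [h]
          _ = (g * y * g⁻¹) * (g * z * g⁻¹) := by group
          _ = y * z * z := by rw [h, hz]
          _ = y * z ^ 2 := by rw [pow_two, mul_assoc]
          _ = y := by rw [C.z2, mul_one]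
    obtain ⟨H, hZH, hyH, hmem, hcard, hHY, hHc⟩ := C.exists_Hy hy hyZ
    have hidx := index_subgroupOf_eq_two hHY hcard (by rw [hY8]) (by norm_num)
    have hZfix : ∀ a ∈ cen Y, g * a * g⁻¹ = a := by
      intro a ha
      rcases C.all a ha with h | h
      · rw [h]; group
      · rw [h]; exact hz
    have hfixH : ∀ k ∈ H, g * k * g⁻¹ = k := by
      intro k hk
      rcases hmem k hk with h | h
      · exact hZfix k h
      · obtain ⟨k', hk', rfl⟩ : ∃ k' ∈ cen Y, k = y * k' := ⟨y⁻¹ * k, h, by group⟩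
        calc g * (y * k') * g⁻¹ = (g * y * g⁻¹) * (g * k' * g⁻¹) := by group
          _ = y * k' := by rw [hfix, hZfix k' hk']
    exact hgC (mem_centralizer_of_fix
      (centralizes_of_index_two (a := 3) (by rw [hY8]; norm_num) hHY hidx hgo hgN hfixH))
  exact ⟨fun h => key (Or.inl h), fun h => key (Or.inr h)⟩

/-- every element outside `Z` squares to `z` -/
theorem sq_eq_z (C : P6Ctx Y z) (hA : AFree Y) (hY8 : Nat.card ↥Y = 8) {g : G} (hgo : Odd (orderOf g))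
    (hgN : g ∈ Subgroup.normalizer (Y : Set G)) (hgC : g ∉ Subgroup.centralizer (Y : Set G))
    {y : G} (hy : y ∈ Y) (hyZ : y ∉ cen Y) : y ^ 2 = z := by
  rcases C.all _ (C.sq y hy) with hy2 | hy2
  swap
  · exact hy2
  exfalso
  have hz := C.fix_z hgN
  have hN := Subgroup.mem_normalizer_iff.mp hgN
  obtain ⟨hne1, hne2⟩ := C.no_fixed_coset hY8 hgo hgN hgC hy hyZ
  obtain ⟨y', hy'⟩ : ∃ y', g * y * g⁻¹ = y' := ⟨_, rfl⟩
  rw [hy'] at hne1 hne2
  have hy'Y : y' ∈ Y := by rw [← hy']; exact (hN y).mp hy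
  have hy'2 : y' ^ 2 = 1 := by rw [← hy', conj_pow, hy2]; group
  obtain ⟨H, hZH, hyH, hmem, hcard, hHY, hHc⟩ := C.exists_Hy hy hyZ
  have hidx := index_subgroupOf_eq_two hHY hcard (by rw [hY8]) (by norm_num)
  have hy'H : y' ∉ H := by
    intro h
    rcases hmem y' h with h' | h'
    · rcases C.all _ h' with h1 | h1
      · apply hyZ
        have : y = 1 := by
          have : y = g⁻¹ * (g * y * g⁻¹) * g := by group
          rw [this, hy', h1]
          group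
        rw [this]
        exact (cen Y).one_mem
      · apply hyZ
        have : y = z := by
          have e : g * y * g⁻¹ = g * z * g⁻¹ := by rw [hy', h1, hz]
          exact mul_left_cancel (mul_right_cancel e)
        rw [this]
        exact C.zZ
    · rcases C.all _ h' with h1 | h1
      · apply hne1
        exact (inv_mul_eq_one.mp h1).symm
      · apply hne2
        rw [inv_mul_eq_iff_eq_mul] at h1
        exact h1
  have hnc : y' * y = y * y' * z := by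
    rcases C.comm_or hy'Y hy with h | h
    · exact absurd (C.centralizer_le_Hy hA hmem hcard hHY hHc hZH hy'Y h) hy'H
    · exact h
  have hzy' : y' * z = z * y' := cen_comm C.zZ hy'Y
  have ht2 : (y * y') ^ 2 = z := by
    calc (y * y') ^ 2 = y * (y' * y) * y' := by simp only [pow_two, mul_assoc]
      _ = y * (y * y' * z) * y' := by rw [hnc]
      _ = y ^ 2 * y' * (z * y') := by simp only [pow_two, mul_assoc]
      _ = y ^ 2 * y' * (y' * z) := by rw [← hzy']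
      _ = y ^ 2 * y' ^ 2 * z := by simp only [pow_two, mul_assoc]
      _ = z := by rw [hy2, hy'2, one_mul, one_mul]
  have htY : y * y' ∈ Y := Y.mul_mem hy hy'Y
  have htZ : y * y' ∉ cen Y := by
    intro h
    rcases C.all _ h with h1 | h1
    · rw [h1, one_pow] at ht2
      exact C.z1 ht2.symm
    · rw [h1, C.z2] at ht2
      exact C.z1 ht2.symm
  obtain ⟨hnt1, hnt2⟩ := C.no_fixed_coset hY8 hgo hgN hgC htY htZ
  obtain ⟨t', ht'⟩ : ∃ t', g * (y * y') * g⁻¹ = t' := ⟨_, rfl⟩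
  rw [ht'] at hnt1 hnt2
  have ht'Y : t' ∈ Y := by rw [← ht']; exact (hN _).mp htY
  have ht'2 : t' ^ 2 = z := by rw [← ht', conj_pow, ht2, hz]
  have hZ2 : ∀ k ∈ cen Y, k ^ 2 = 1 := by
    intro k hk
    rcases C.all _ hk with h1 | h1
    · rw [h1, one_pow]
    · rw [h1, C.z2]
  have hH2 : ∀ h ∈ H, h ^ 2 = 1 := by
    intro h hh
    rcases hmem h hh with h' | h'
    · exact hZ2 h h'
    · obtain ⟨k, hk, rfl⟩ : ∃ k ∈ cen Y, h = y * k := ⟨y⁻¹ * h, h', by group⟩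
      have hc : Commute y k := cen_comm hk hy
      rw [hc.mul_pow, hy2, one_mul]
      exact hZ2 k hk
  have ht'H : t' ∉ H := fun h => C.z1 (by rw [← ht'2, hH2 _ h])
  have hmemH : y'⁻¹ * t' ∈ H := by
    have h := Subgroup.mul_mem_iff_of_index_two hidx
      (a := (⟨y'⁻¹, Y.inv_mem hy'Y⟩ : ↥Y)) (b := (⟨t', ht'Y⟩ : ↥Y))
    have ha : (⟨y'⁻¹, Y.inv_mem hy'Y⟩ : ↥Y) ∉ H.subgroupOf Y := by
      rw [Subgroup.mem_subgroupOf]
      intro h'
      exact hy'H (by simpa using H.inv_mem h')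
    have hb : (⟨t', ht'Y⟩ : ↥Y) ∉ H.subgroupOf Y := by
      rw [Subgroup.mem_subgroupOf]
      exact ht'H
    have := h.mpr ⟨fun h' => absurd h' ha, fun h' => absurd h' hb⟩
    rw [Subgroup.mem_subgroupOf] at this
    exact this
  have hgen : t' = y' * (y * (y⁻¹ * (y'⁻¹ * t'))) := by group
  rcases hmem _ hmemH with h' | h'
  · have : t' ^ 2 = 1 := by
      obtain ⟨k, hk, hk'⟩ : ∃ k ∈ cen Y, t' = y' * k := ⟨y'⁻¹ * t', h', by group⟩
      have hc : Commute y' k := cen_comm hk hy'Y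
      rw [hk', hc.mul_pow, hy'2, one_mul]
      exact hZ2 k hk
    rw [ht'2] at this
    exact C.z1 this
  · rcases C.all _ h' with h1 | h1
    · apply hnt2
      rw [hgen, h1, mul_one, hnc]
    · apply hnt1
      rw [hgen, h1, ← mul_assoc, hnc, mul_assoc, ← pow_two, C.z2, mul_one]

end P6Ctx

/-- **P6**.  Minimal nonabelian case with centre `Z = {1, z}` of order 2: `Y` is `Q₈`. -/
theorem min_q8 [Finite G] {Y : Subgroup G} {g : G} (h2 : IsPGroup 2 ↥Y) (hA : AFree Y)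
    (hgo : Odd (orderOf g)) (hm : MinActs Y g)
    (hsq : ∀ x ∈ Y, x ^ 2 ∈ Subgroup.centralizer (Y : Set G))
    (hZ : Nat.card ↥(Y ⊓ Subgroup.centralizer (Y : Set G)) = 2) : ∃ z : G, Q8Type Y z := by
  obtain ⟨hgN, hgC, -⟩ := hm
  obtain ⟨z, hzZ, hz1, hz2, hall⟩ := exists_z hZ
  have C : P6Ctx Y z :=
    ⟨hzZ, hz1, hz2, hall, fun x hx => Subgroup.mem_inf.mpr ⟨Y.pow_mem hx 2, hsq x hx⟩, hZ⟩
  have hex : ∃ y₀ ∈ Y, g * y₀ * g⁻¹ ≠ y₀ := by
    by_contra hcon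
    apply hgC
    apply mem_centralizer_of_fix
    intro u hu
    by_contra h
    exact hcon ⟨u, hu, h⟩
  obtain ⟨y₀, hy₀, hmove⟩ := hex
  have hz := C.fix_z hgN
  have hy₀Z : y₀ ∉ cen Y := by
    intro h
    apply hmove
    rcases hall _ h with h1 | h1
    · rw [h1]; group
    · rw [h1]; exact hz
  have hY8 := C.card_eight hA hy₀ hy₀Z
  refine ⟨z, hY8, hzZ.1, hz1, hz2, ?_⟩
  intro y hy hy1 hyz
  apply C.sq_eq_z hA hY8 hgo hgN hgC hy
  intro h
  rcases hall _ h with h1 | h1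
  · exact hy1 h1
  · exact hyz h1

end Cfsg.Agent.Lib.H24.TwoMin
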