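/-
S2524 (architect helper19, blueprint tools/blueprints/S2524_U.md), **Step 3 of Theorem U as an abstract lemma** (helper24).

Same setting as `Cfsg.Agent.Lib.H20.UGlue.glue`: `p0` the projector of `W` onto `C = W^{U1}` (kernel `D`), `E` a `P`-invariant
subspace containing `D`, `T : E → V` linear for `P` on `E` and linear for `S` on `D`.  If `w j ∈ P` (`j : J`) are elements with
`(w j)⁻¹ K1 (w j) ≤ S` and every `c ∈ C0 = C ∩ E` lies in the span of the translates `(w j) D`, then `T` is `K1`-linear on `C0`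
(this is exactly hypothesis `hT3` of `glue`).
-/
import Mathlib

set_option autoImplicit false

namespace Cfsg.Agent.Lib.H24.UStep3

variable {G : Type*} [Group G] {W V : Type*} [AddCommGroup W] [Module ℂ W]
  [AddCommGroup V] [Module ℂ V]

theorem rep_mul_apply {X : Type*} [AddCommGroup X] [Module ℂ X] (r : G →* Module.End ℂ X) (g h : G) (x : X) :
    r (g * h) x = r g (r h x) := by
  rw [map_mul, Module.End.mul_apply]

/-- `K1`-linearity of `T` on a single translate `(w j) d`, `d ∈ D = ker p0`. -/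
theorem step3_translate (rW : G →* Module.End ℂ W) (rV : G →* Module.End ℂ V)
    (P S K1 : Subgroup G) (p0 : Module.End ℂ W) (E : Submodule ℂ W) (T : W →ₗ[ℂ] V)
    (hp0S : ∀ s ∈ S, p0 * rW s = rW s * p0)
    (hDE : ∀ x : W, p0 x = 0 → x ∈ E)
    (hTa : ∀ x ∈ P, ∀ e ∈ E, T (rW x e) = rV x (T e))
    (hTb : ∀ s ∈ S, ∀ d : W, p0 d = 0 → T (rW s d) = rV s (T d))
    (w : G) (hwP : w ∈ P) (hwK : ∀ k ∈ K1, w⁻¹ * k * w ∈ S)
    (k : G) (hk : k ∈ K1) (d : W) (hd : p0 d = 0) :
    T (rW k (rW w d)) = rV k (T (rW w d)) := by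
  have hs : w⁻¹ * k * w ∈ S := hwK k hk
  -- `D` is `S`-invariant
  have hsd : p0 (rW (w⁻¹ * k * w) d) = 0 := by
    have h1 := congrArg (fun f : Module.End ℂ W => f d) (hp0S _ hs)
    simp only [Module.End.mul_apply] at h1
    rw [h1, hd, map_zero]
  have hkw : k * w = w * (w⁻¹ * k * w) := by group
  calc T (rW k (rW w d)) = T (rW (k * w) d) := by rw [rep_mul_apply]
    _ = T (rW w (rW (w⁻¹ * k * w) d)) := by rw [hkw, rep_mul_apply]
    _ = rV w (T (rW (w⁻¹ * k * w) d)) := hTa w hwP _ (hDE _ hsd)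
    _ = rV w (rV (w⁻¹ * k * w) (T d)) := by rw [hTb _ hs d hd]
    _ = rV (k * w) (T d) := by rw [← rep_mul_apply, ← hkw]
    _ = rV k (rV w (T d)) := by rw [rep_mul_apply]
    _ = rV k (T (rW w d)) := by rw [hTa w hwP d (hDE d hd)]

/-- **Step 3**: `T` is `K1`-linear on `C0 = C ∩ E`. -/
theorem step3 {J : Type*} (rW : G →* Module.End ℂ W) (rV : G →* Module.End ℂ V)
    (P S K1 : Subgroup G) (p0 : Module.End ℂ W) (E : Submodule ℂ W) (T : W →ₗ[ℂ] V)
    (hp0S : ∀ s ∈ S, p0 * rW s = rW s * p0)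
    (hDE : ∀ x : W, p0 x = 0 → x ∈ E)
    (hTa : ∀ x ∈ P, ∀ e ∈ E, T (rW x e) = rV x (T e))
    (hTb : ∀ s ∈ S, ∀ d : W, p0 d = 0 → T (rW s d) = rV s (T d))
    (w : J → G) (hwP : ∀ j, w j ∈ P) (hwK : ∀ j, ∀ k ∈ K1, (w j)⁻¹ * k * w j ∈ S)
    (hC0 : ∀ c ∈ E, p0 c = c →
      c ∈ Submodule.span ℂ {x : W | ∃ (j : J) (d : W), p0 d = 0 ∧ x = rW (w j) d}) :
    ∀ k ∈ K1, ∀ c ∈ E, p0 c = c → T (rW k c) = rV k (T c) := by
  intro k hk c hcE hcC
  have hmem := hC0 c hcE hcC
  -- the set of vectors on which `T` commutes with `k` is a subspace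
  let Eq : Submodule ℂ W :=
    { carrier := {x | T (rW k x) = rV k (T x)}
      add_mem' := by
        intro a b ha hb
        show T (rW k (a + b)) = rV k (T (a + b))
        rw [map_add, map_add, map_add, map_add]
        rw [show T (rW k a) = rV k (T a) from ha, show T (rW k b) = rV k (T b) from hb]
      zero_mem' := by
        show T (rW k 0) = rV k (T 0)
        rw [map_zero, map_zero, map_zero]
      smul_mem' := by
        intro a x hx
        show T (rW k (a • x)) = rV k (T (a • x))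
        rw [map_smul, map_smul, map_smul, map_smul]
        rw [show T (rW k x) = rV k (T x) from hx] }
  have hle : Submodule.span ℂ {x : W | ∃ (j : J) (d : W), p0 d = 0 ∧ x = rW (w j) d} ≤ Eq := by
    rw [Submodule.span_le]
    rintro x ⟨j, d, hd, rfl⟩
    exact step3_translate rW rV P S K1 p0 E T hp0S hDE hTa hTb (w j) (hwP j) (hwK j) k hk d hd
  exact hle hmem

end Cfsg.Agent.Lib.H24.UStep3
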