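import Mathlib
import Cfsg.Agent.Lib.H24.UtiForm
import Cfsg.Agent.Lib.H24.ElusTiBasic

set_option autoImplicit false

/-!
# Chevalley–Warning for hermitian forms (helper24)

Let `K` be the fixed field of the involution `φ` of the finite field `F` (`[F : K] = 2`) and `B` a
hermitian form on the `F`-space `V`.  Viewing `V` over `K`, the conditions `B u u = 0` and
`B u (T u) = 0` (`T` an endomorphism) amount to one, respectively two, quadratic equations over `K`.
Hence (`exists_herm_common_zero`) in a subspace of `F`-dimension greater than `2 k + 1` there is a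
nonzero isotropic vector `u` with `B u (T j u) = 0` for `k` given endomorphisms `T j`.
-/

namespace Cfsg.Agent.Lib.H24.Uti

open Module
open Cfsg.Agent.Lib.H24.Elus (exists_common_zero)

section cw

variable {K : Type*} [Field K] {F : Type*} [Field F] [Algebra K F] {φ : F →+* F}
  {V : Type*} [AddCommGroup V] [Module F V] [Module K V] [IsScalarTower K F V]

/-- the `K`-bilinear form `(u, v) ↦ λ (B u (T v))` -/
noncomputable def formK (B : V →ₛₗ[φ] V →ₗ[F] F)
    (hfixK : ∀ k : K, φ (algebraMap K F k) = algebraMap K F k) (l : F →ₗ[K] K) (T : End F V) :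
    LinearMap.BilinForm K V :=
  LinearMap.mk₂ K (fun u v => l (B u (T v)))
    (fun u u' v => by
      rw [map_add, LinearMap.add_apply, map_add])
    (fun c u v => by
      rw [← algebraMap_smul F c u, map_smulₛₗ, LinearMap.smul_apply, hfixK, smul_eq_mul,
        ← Algebra.smul_def, map_smul])
    (fun u v v' => by
      rw [map_add, map_add, map_add])
    (fun c u v => by
      rw [← algebraMap_smul F c v, map_smul, map_smul, smul_eq_mul, ← Algebra.smul_def, map_smul])

theorem formK_apply (B : V →ₛₗ[φ] V →ₗ[F] F)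
    (hfixK : ∀ k : K, φ (algebraMap K F k) = algebraMap K F k) (l : F →ₗ[K] K) (T : End F V)
    (u v : V) : formK B hfixK l T u v = l (B u (T v)) := rfl

variable [Fintype K] [FiniteDimensional F V]

/-- Chevalley–Warning: a nonzero isotropic vector `u` with `B u (T j u) = 0` -/
theorem exists_herm_common_zero (B : V →ₛₗ[φ] V →ₗ[F] F) (hS : B.IsSymm)
    (hfixK : ∀ k : K, φ (algebraMap K F k) = algebraMap K F k)
    (hfix : ∀ x : F, φ x = x → ∃ k : K, algebraMap K F k = x) (hrank : finrank K F = 2)
    (k : ℕ) (T : Fin k → End F V) (H : Submodule F V) (hk : 2 * k + 1 < finrank F H) :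
    ∃ u ∈ H, u ≠ 0 ∧ B u u = 0 ∧ ∀ j, B u (T j u) = 0 := by
  classical
  haveI : Module.Finite K F := Module.finite_of_finrank_pos (by rw [hrank]; norm_num)
  haveI : Module.Finite K V := Module.Finite.trans F V
  obtain ⟨bK⟩ : Nonempty (Module.Basis (Fin 2) K F) := ⟨Module.finBasisOfFinrankEq K F hrank⟩
  -- a functional not vanishing at `1`
  obtain ⟨l₀, hl₀⟩ : ∃ l₀ : F →ₗ[K] K, l₀ 1 ≠ 0 := by
    by_contra hcon
    push Not at hcon
    exact one_ne_zero ((Module.forall_dual_apply_eq_zero_iff K (1 : F)).mp hcon)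
  -- the index set of the forms
  have hcard : Fintype.card (Option (Fin k × Fin 2)) = 2 * k + 1 := by
    rw [Fintype.card_option, Fintype.card_prod, Fintype.card_fin, Fintype.card_fin]
    ring
  obtain ⟨e⟩ : Nonempty (Option (Fin k × Fin 2) ≃ Fin (2 * k + 1)) :=
    ⟨Fintype.equivFinOfCardEq hcard⟩
  obtain ⟨A, hA⟩ : ∃ A : Option (Fin k × Fin 2) → LinearMap.BilinForm K V,
      A = fun o => match o with
        | none => formK B hfixK l₀ 1
        | some (j, ε) => formK B hfixK (bK.coord ε) (T j) := ⟨_, rfl⟩
  have hdim : 2 * (2 * k + 1) < finrank K ↥(H.restrictScalars K) := by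
    have h1 : finrank K ↥(H.restrictScalars K) = finrank K ↥H := rfl
    have h2 := Module.finrank_mul_finrank K F ↥H
    rw [h1, ← h2, hrank]
    omega
  obtain ⟨u, huH, hu0, hu⟩ := exists_common_zero (2 * k + 1) (fun j => A (e.symm j))
    (H.restrictScalars K) hdim
  refine ⟨u, huH, hu0, ?_, ?_⟩
  · have h1 := hu (e none)
    rw [Equiv.symm_apply_apply, hA] at h1
    change formK B hfixK l₀ 1 u u = 0 at h1
    rw [formK_apply, Module.End.one_apply] at h1
    obtain ⟨c, hc⟩ := hfix (B u u) (hS.eq u u)
    rw [← hc, Algebra.algebraMap_eq_smul_one, map_smul, smul_eq_mul] at h1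
    rcases mul_eq_zero.mp h1 with h | h
    · rw [← hc, h, map_zero]
    · exact absurd h hl₀
  · intro j
    rw [bK.ext_elem_iff]
    intro ε
    have h1 := hu (e (some (j, ε)))
    rw [Equiv.symm_apply_apply, hA] at h1
    change formK B hfixK (bK.coord ε) (T j) u u = 0 at h1
    rw [formK_apply, Module.Basis.coord_apply] at h1
    rw [h1, map_zero, Finsupp.zero_apply]

end cw

end Cfsg.Agent.Lib.H24.Uti
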