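import Mathlib
import Cfsg.Agent.Lib.H24.UtiHomog
import Cfsg.Agent.Lib.H24.UtiCW

set_option autoImplicit false

/-!
# Totally isotropic subspaces of a hermitian space: basic tools (helper24)

* `u_ti_sup`: orthogonal sums of totally isotropic subspaces;
* `exists_ti_in_UND`: a nondegenerate subspace of dimension `≥ 2 e` contains a totally isotropic
  subspace of dimension `e` (finite fields);
* `u_ti_cycSub`: a vector orthogonal to the first `deg g` vectors of its orbit spans a totally
  isotropic cyclic subspace;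
* `exists_ti_homog`: invariant totally isotropic subspaces of a nondegenerate invariant subspace of
  `ker g(y)`, `g` irreducible.
-/

namespace Cfsg.Agent.Lib.H24.Uti

open Polynomial Module
open Cfsg.Agent.Lib.H11.UFrames (orth mem_orth)
open Cfsg.Agent.Lib.H24.Elus

section ti

variable {F : Type*} [Field F] {φ : F →+* F} {V : Type*} [AddCommGroup V] [Module F V]
variable (B : V →ₛₗ[φ] V →ₗ[F] F)

theorem UTI_span_singleton (v : V) (hv : B v v = 0) : UTI B (Submodule.span F {v}) := by
  intro a ha b hb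
  obtain ⟨α, rfl⟩ := Submodule.mem_span_singleton.mp ha
  obtain ⟨β, rfl⟩ := Submodule.mem_span_singleton.mp hb
  rw [map_smul, map_smulₛₗ, LinearMap.smul_apply, hv, smul_zero, smul_zero]

/-- orthogonal sums of totally isotropic subspaces -/
theorem u_ti_sup [FiniteDimensional F V] (hR : ∀ u v, B u v = 0 → B v u = 0)
    (A A' W₁ W₂ : Submodule F V) (hA : UND B A)
    (horth : ∀ u ∈ A, ∀ v ∈ A', B u v = 0) (h1 : W₁ ≤ A) (h2 : W₂ ≤ A') (ht1 : UTI B W₁)
    (ht2 : UTI B W₂) :
    UTI B (W₁ ⊔ W₂) ∧ finrank F ↥(W₁ ⊔ W₂) = finrank F W₁ + finrank F W₂ := by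
  constructor
  · intro u hu v hv
    obtain ⟨a, ha, a', ha', rfl⟩ := Submodule.mem_sup.mp hu
    obtain ⟨b, hb, b', hb', rfl⟩ := Submodule.mem_sup.mp hv
    simp only [map_add, LinearMap.add_apply]
    rw [ht1 a ha b hb, ht2 a' ha' b' hb', horth a (h1 ha) b' (h2 hb'),
      hR _ _ (horth b (h1 hb) a' (h2 ha'))]
    simp
  · have h := Submodule.finrank_sup_add_finrank_inf_eq W₁ W₂
    have h0 : W₁ ⊓ W₂ = ⊥ := by
      rw [eq_bot_iff, ← u_inf_eq_bot_of_orth B hR A A' hA horth]
      exact inf_le_inf h1 h2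
    rw [h0, finrank_bot, add_zero] at h
    exact h

/-- a hyperbolic plane through an isotropic vector of a nondegenerate subspace -/
theorem exists_hyp_plane (hR : ∀ u v, B u v = 0 → B v u = 0) (U : Submodule F V) (hU : UND B U)
    (v : V) (hvU : v ∈ U) (hv0 : v ≠ 0) (hvv : B v v = 0) :
    ∃ P : Submodule F V, P ≤ U ∧ UND B P ∧ finrank F P = 2 ∧ v ∈ P := by
  obtain ⟨w, hw, hvw⟩ : ∃ w ∈ U, B v w ≠ 0 := by
    by_contra hcon
    push Not at hcon
    exact hv0 (hU v hvU hcon)
  have hwv : B w v ≠ 0 := fun h => hvw (hR _ _ h)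
  have hφ0 : ∀ c : F, φ c = 0 → c = 0 := fun c hc => by
    by_contra h
    have := congrArg (fun x => x * φ c⁻¹) hc
    simp only [zero_mul] at this
    rw [← map_mul, mul_inv_cancel₀ h, map_one] at this
    exact one_ne_zero this
  refine ⟨Submodule.span F {v, w}, ?_, ?_, ?_, Submodule.subset_span (by simp)⟩
  · rw [Submodule.span_le]
    intro x hx
    rcases hx with rfl | rfl
    · exact hvU
    · exact hw
  · intro x hx h
    obtain ⟨α, β, rfl⟩ := Submodule.mem_span_pair.mp hx
    have h1 := h v (Submodule.subset_span (by simp))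
    have h2 := h w (Submodule.subset_span (by simp))
    simp only [map_add, map_smulₛₗ, LinearMap.add_apply, LinearMap.smul_apply, hvv, smul_eq_mul,
      mul_zero, zero_add] at h1 h2
    have hβ : β = 0 := by
      rcases mul_eq_zero.mp h1 with h | h
      · exact hφ0 β h
      · exact absurd h hwv
    rw [hβ, map_zero, zero_mul, add_zero] at h2
    have hα : α = 0 := by
      rcases mul_eq_zero.mp h2 with h | h
      · exact hφ0 α h
      · exact absurd h hvw
    rw [hα, hβ, zero_smul, zero_smul, add_zero]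
  · have hli : LinearIndependent F ![v, w] := by
      rw [LinearIndependent.pair_iff]
      intro s t hst
      have h1 := congrArg (fun x => B v x) hst
      simp only [map_add, map_smul, hvv, smul_eq_mul, mul_zero, zero_add, map_zero] at h1
      have ht : t = 0 := by
        rcases mul_eq_zero.mp h1 with h | h
        · exact h
        · exact absurd h hvw
      rw [ht, zero_smul, add_zero] at hst
      have hs : s = 0 := by
        rcases smul_eq_zero.mp hst with h | h
        · exact h
        · exact absurd h hv0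
      exact ⟨hs, ht⟩
    have h := finrank_span_eq_card hli
    have hr : Set.range ![v, w] = {v, w} := by
      ext x
      simp only [Matrix.range_cons, Matrix.range_empty, Set.union_empty, Set.mem_union,
        Set.mem_singleton_iff, Set.mem_insert_iff]
    rw [hr, Fintype.card_fin] at h
    exact h

end ti

section finite

variable {K : Type*} [Field K] [Fintype K] {F : Type*} [Field F] [Algebra K F] {φ : F →+* F}
  {V : Type*} [AddCommGroup V] [Module F V] [Module K V] [IsScalarTower K F V]
  [FiniteDimensional F V]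
variable (B : V →ₛₗ[φ] V →ₗ[F] F)

/-- totally isotropic subspaces of a nondegenerate subspace -/
theorem exists_ti_in_UND (hS : B.IsSymm)
    (hfixK : ∀ k : K, φ (algebraMap K F k) = algebraMap K F k)
    (hfix : ∀ x : F, φ x = x → ∃ k : K, algebraMap K F k = x) (hrank : finrank K F = 2) :
    ∀ (e : ℕ) (U : Submodule F V), UND B U → 2 * e ≤ finrank F U →
      ∃ W : Submodule F V, W ≤ U ∧ UTI B W ∧ finrank F W = e := by
  have hR := refl_of_symm B hS
  intro e
  induction e with
  | zero =>
    intro U _ _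
    exact ⟨⊥, bot_le, UTI_bot B, finrank_bot F V⟩
  | succ e ih =>
    intro U hU he
    obtain ⟨v, hvU, hv0, hvv, -⟩ := exists_herm_common_zero B hS hfixK hfix hrank 0
      (fun j => j.elim0) U (by omega)
    obtain ⟨P, hPU, hP, hP2, hvP⟩ := exists_hyp_plane B hR U hU v hvU hv0 hvv
    have h1 := u_finrank_perp_in B hR U P hP hPU
    obtain ⟨W', hW'U, hW'ti, hW'e⟩ := ih (U ⊓ orth B P) (UND_perp_in B hR U P hU hP hPU)
      (by omega)
    have hL : Submodule.span F {v} ≤ P := by
      rw [Submodule.span_le]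
      intro x hx
      rw [Set.mem_singleton_iff] at hx
      rw [hx]
      exact hvP
    obtain ⟨hti, hdim⟩ := u_ti_sup B hR P (U ⊓ orth B P) (Submodule.span F {v}) W' hP
      (fun u hu w hw => (Submodule.mem_inf.mp hw).2 u hu) hL hW'U
      (UTI_span_singleton B v hvv) hW'ti
    refine ⟨Submodule.span F {v} ⊔ W', sup_le (hL.trans hPU) (hW'U.trans inf_le_left), hti, ?_⟩
    rw [hdim, finrank_span_singleton hv0, hW'e]
    omega

end finite

section cyc

variable {F : Type*} [Field F] {φ : F →+* F} {V : Type*} [AddCommGroup V] [Module F V]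
variable {B : V →ₛₗ[φ] V →ₗ[F] F} {y : End F V}

/-- a vector orthogonal to the first `deg g` vectors of its orbit is orthogonal to its cyclic
subspace -/
theorem u_vanish (g : F[X]) (hg : g.Monic) (u : V) (hgu : aeval y g u = 0)
    (hvan : ∀ j, j < g.natDegree → B u ((y ^ j) u) = 0) :
    ∀ p : F[X], B u (aeval y p u) = 0 := by
  have hlow : ∀ p : F[X], p.natDegree < g.natDegree → B u (aeval y p u) = 0 := by
    intro p hp
    rw [aeval_eq_sum_range, LinearMap.sum_apply, map_sum]
    apply Finset.sum_eq_zero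
    intro n hn
    rw [Finset.mem_range] at hn
    rw [LinearMap.smul_apply, map_smul, hvan n (by omega), smul_zero]
  intro p
  by_cases h1 : g = 1
  · rw [h1, map_one, Module.End.one_apply] at hgu
    rw [hgu, map_zero, LinearMap.zero_apply]
  have h2 := modByMonic_add_div p g
  have h3 : aeval y p u = aeval y (p %ₘ g) u := by
    conv_lhs => rw [← h2]
    rw [map_add, LinearMap.add_apply, mul_comm, map_mul, Module.End.mul_apply, hgu, map_zero,
      add_zero]
  rw [h3]
  exact hlow _ (natDegree_modByMonic_lt p hg h1)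

variable [Module.Finite F V]

/-- the cyclic subspace of a vector orthogonal to the beginning of its orbit -/
theorem u_ti_cycSub (hS : B.IsSymm) (hiso : ∀ u v, B (y u) (y v) = B u v) {N : ℕ} (hN : 0 < N)
    (hy : y ^ N = 1) (g : F[X]) (hg : Irreducible g) (hgm : g.Monic) (u : V) (hu0 : u ≠ 0)
    (hgu : aeval y g u = 0) (hvan : ∀ j, j < g.natDegree → B u ((y ^ j) u) = 0) :
    UTI B (cycSub y u) ∧ finrank F (cycSub y u) = g.natDegree := by
  have hfr := finrank_cycSub_irred y g hg hgm u hu0 hgu
  refine ⟨?_, hfr⟩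
  have hv := u_vanish g hgm u hgu hvan
  rcases u_ND_or_TI hS hiso hN hy g hg (cycSub y u) (cycSub_invariant y u)
    (cycSub_le_ker y u g hgu) hfr with h1 | h1
  · exfalso
    apply hu0
    apply h1 u (self_mem_cycSub y u)
    rintro _ ⟨p', rfl⟩
    exact hv p'
  · exact h1

end cyc

section homog

variable {K : Type*} [Field K] [Fintype K] {F : Type*} [Field F] [Algebra K F] {φ : F →+* F}
  {V : Type*} [AddCommGroup V] [Module F V] [Module K V] [IsScalarTower K F V]
  [FiniteDimensional F V]
variable {B : V →ₛₗ[φ] V →ₗ[F] F} {y : End F V}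

/-- an irreducible totally isotropic invariant subspace in an invariant subspace of `ker g(y)` of
dimension at least `2 deg g` -/
theorem exists_ti_irred (hS : B.IsSymm)
    (hfixK : ∀ k : K, φ (algebraMap K F k) = algebraMap K F k)
    (hfix : ∀ x : F, φ x = x → ∃ k : K, algebraMap K F k = x) (hrank : finrank K F = 2)
    (hiso : ∀ u v, B (y u) (y v) = B u v) {N : ℕ} (hN : 0 < N) (hy : y ^ N = 1)
    (g : F[X]) (hg : Irreducible g) (hgm : g.Monic)
    (H : Submodule F V) (hHinv : ∀ v ∈ H, y v ∈ H) (hHg : H ≤ LinearMap.ker (aeval y g))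
    (hdim : 2 * g.natDegree ≤ finrank F H) :
    ∃ Z : Submodule F V, Z ≤ H ∧ (∀ v ∈ Z, y v ∈ Z) ∧ UTI B Z ∧ finrank F Z = g.natDegree := by
  have hb := hg.natDegree_pos
  obtain ⟨u, huH, hu0, huu, hu⟩ := exists_herm_common_zero B hS hfixK hfix hrank
    (g.natDegree - 1) (fun j => y ^ (j.val + 1)) H (by omega)
  have hgu : aeval y g u = 0 := LinearMap.mem_ker.mp (hHg huH)
  have hvan : ∀ j, j < g.natDegree → B u ((y ^ j) u) = 0 := by
    intro j hj
    rcases Nat.eq_zero_or_pos j with rfl | hj0
    · rw [pow_zero, Module.End.one_apply]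
      exact huu
    · obtain ⟨j', rfl⟩ : ∃ j', j = j' + 1 := ⟨j - 1, by omega⟩
      exact hu ⟨j', by omega⟩
  obtain ⟨hZti, hZdim⟩ := u_ti_cycSub hS hiso hN hy g hg hgm u hu0 hgu hvan
  exact ⟨cycSub y u, cycSub_le y u H hHinv huH, cycSub_invariant y u, hZti, hZdim⟩

/-- invariant totally isotropic subspaces of a nondegenerate invariant subspace of `ker g(y)` -/
theorem exists_ti_homog (hS : B.IsSymm) (hφne : φ ≠ RingHom.id F)
    (hfixK : ∀ k : K, φ (algebraMap K F k) = algebraMap K F k)
    (hfix : ∀ x : F, φ x = x → ∃ k : K, algebraMap K F k = x) (hrank : finrank K F = 2)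
    (hiso : ∀ u v, B (y u) (y v) = B u v) {N : ℕ} (hN : 0 < N) (hy : y ^ N = 1)
    (g : F[X]) (hg : Irreducible g) (hgm : g.Monic) :
    ∀ (a' : ℕ) (U : Submodule F V), U ≤ LinearMap.ker (aeval y g) → (∀ v ∈ U, y v ∈ U) →
      UND B U → a' * (2 * g.natDegree) ≤ finrank F U →
      ∃ W : Submodule F V, W ≤ U ∧ (∀ v ∈ W, y v ∈ W) ∧ UTI B W ∧
        finrank F W = a' * g.natDegree := by
  have hR := refl_of_symm B hS
  have hb := hg.natDegree_pos
  intro a'
  induction a' with
  | zero =>
    intro U _ _ _ _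
    refine ⟨⊥, bot_le, ?_, UTI_bot B, by rw [finrank_bot, zero_mul]⟩
    intro v hv
    rw [Submodule.mem_bot] at hv ⊢
    rw [hv, map_zero]
  | succ a' ih =>
    intro U hUg hUinv hUnd hdim
    have hcls := uPeelClass_homog hS hφne hiso hN hy g hg hgm U
    obtain ⟨H, hHU, ⟨hHle, hHinv, hHnd⟩, hHdim⟩ := u_peel_exists hR hcls 2 U
      ⟨le_inf le_rfl hUg, hUinv, hUnd⟩ (by
        have : (a' + 1) * (2 * g.natDegree) = a' * (2 * g.natDegree) + 2 * g.natDegree := by ring
        omega)
    obtain ⟨Z, hZH, hZinv, hZti, hZdim⟩ := exists_ti_irred hS hfixK hfix hrank hiso hN hy g hg hgm H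
      hHinv (hHle.trans inf_le_right) (by omega)
    have h1 := u_finrank_perp_in B hR U H hHnd hHU
    obtain ⟨W', hW'U, hW'inv, hW'ti, hW'dim⟩ := ih (U ⊓ orth B H) (inf_le_left.trans hUg)
      (u_inf_orth_invariant hiso hN hy U H hUinv hHinv) (UND_perp_in B hR U H hUnd hHnd hHU) (by
        have : (a' + 1) * (2 * g.natDegree) = a' * (2 * g.natDegree) + 2 * g.natDegree := by ring
        omega)
    obtain ⟨hti, hdim'⟩ := u_ti_sup B hR H (U ⊓ orth B H) Z W' hHnd
      (fun a ha w hw => (Submodule.mem_inf.mp hw).2 a ha) hZH hW'U hZti hW'ti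
    refine ⟨Z ⊔ W', sup_le (hZH.trans hHU) (hW'U.trans inf_le_left),
      sup_invariant _ _ hZinv hW'inv, hti, ?_⟩
    rw [hdim', hZdim, hW'dim]
    ring

end homog

end Cfsg.Agent.Lib.H24.Uti
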