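import Mathlib
import Cfsg.Agent.Lib.H24.UtiAtom
import Cfsg.Agent.Lib.H24.UtiTI

set_option autoImplicit false

/-!
# Invariant totally isotropic subspaces for unitary isometries of odd prime order (helper24)

For an isometry `y` of order `r` (an odd prime different from the characteristic) of a
nondegenerate hermitian space of dimension `n` over the field with `q²` elements, with
`i = ord_r q`, `b = ord_r q²`, `c = cU q r`:
* `exists_ti_cyc_nsd`, `exists_ti_cyc_sd`: invariant totally isotropic subspaces inside the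
  non-fixed part;
* `exists_ti_invariant_u`: the sufficiency of the arithmetic conditions for the existence of an
  invariant totally isotropic `m`-space.
-/

namespace Cfsg.Agent.Lib.H24.Uti

open Polynomial Module
open Cfsg.Agent.Lib.H11.UFrames (orth mem_orth)
open Cfsg.Agent.Lib.H24.Elus
open Cfsg.Agent.Lib.H13

section suff

variable {K : Type*} [Field K] [Fintype K] {F : Type*} [Field F] [Fintype F] [Algebra K F]
  {p q : ℕ} [Fact p.Prime] [CharP F p]
  {φ : F →+* F} {V : Type*} [AddCommGroup V] [Module F V] [Module K V] [IsScalarTower K F V]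
  [Module.Finite F V] {B : V →ₛₗ[φ] V →ₗ[F] F} {y : End F V}

/-- invariant totally isotropic subspaces of the non-fixed part, no self-dual types -/
theorem exists_ti_cyc_nsd (hF : Fintype.card F = q ^ 2) (hφ : ∀ x, φ x = x ^ q)
    (hφ2 : ∀ x, φ (φ x) = x) (hφne : φ ≠ RingHom.id F) (hS : B.IsSymm) {r : ℕ} [Fact r.Prime]
    (hrp : r ≠ p) (hr2 : r ≠ 2)
    (hiso : ∀ u v, B (y u) (y v) = B u v) (hy : y ^ r = 1)
    (hi : ¬ orderOf (q : ZMod r) % 4 = 2) :
    ∀ (a' : ℕ) (U : Submodule F V), U ≤ LinearMap.ker (aeval y (cyclotomic r F)) →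
      (∀ v ∈ U, y v ∈ U) → UND B U →
      a' * (2 * orderOf ((q ^ 2 : ℕ) : ZMod r)) ≤ finrank F U →
      ∃ W : Submodule F V, W ≤ U ∧ (∀ v ∈ W, y v ∈ W) ∧ UTI B W ∧
        finrank F W = a' * orderOf ((q ^ 2 : ℕ) : ZMod r) := by
  classical
  have hr : r.Prime := Fact.out
  have hR := refl_of_symm B hS
  have hb0 : 0 < orderOf ((q ^ 2 : ℕ) : ZMod r) := CycFactor.orderOf_pos hF hr hrp
  have hcU : cU q r = 2 * orderOf ((q ^ 2 : ℕ) : ZMod r) := by
    unfold cU
    rw [if_neg hi]
  intro a'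
  induction a' with
  | zero =>
    intro U _ _ _ _
    refine ⟨⊥, bot_le, ?_, UTI_bot B, by rw [finrank_bot, zero_mul]⟩
    intro v hv
    rw [Submodule.mem_bot] at hv ⊢
    rw [hv, map_zero]
  | succ a' ih =>
    intro U hUc hU hnd hdim
    have hne : U ≠ ⊥ := by
      rintro rfl
      rw [finrank_bot] at hdim
      have : 0 < (a' + 1) * (2 * orderOf ((q ^ 2 : ℕ) : ZMod r)) :=
        Nat.mul_pos (Nat.succ_pos _) (by omega)
      omega
    obtain ⟨A, hAU, hAinv, hAnd, hAdim⟩ := exists_atom_u hF hφ hφ2 hφne hS hrp hr2 hiso hy U hU hnd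
      hUc hne
    rw [hcU] at hAdim
    have hAne : A ≠ ⊥ := by
      rintro rfl
      rw [finrank_bot] at hAdim
      omega
    obtain ⟨s, hs⟩ := exists_factor hF hrp hy A hAinv (hAU.trans hUc) hAne
    obtain ⟨u, hu, hu0⟩ := (Submodule.ne_bot_iff _).mp hs
    rw [Submodule.mem_inf, LinearMap.mem_ker] at hu
    have hZA : cycSub y u ≤ A := cycSub_le y u A hAinv hu.1
    have hZi : finrank F (cycSub y u) = orderOf ((q ^ 2 : ℕ) : ZMod r) :=
      finrank_cycSub hF hrp hy s u hu0 hu.2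
    have hZs : cycSub y u ≤ LinearMap.ker (aeval y s.1) := cycSub_le_ker y u s.1 hu.2
    have hZne : cycSub y u ≠ ⊥ := by
      intro h0
      have := self_mem_cycSub y u
      rw [h0] at this
      exact hu0 ((Submodule.mem_bot F).mp this)
    have hZti : UTI B (cycSub y u) := by
      rcases u_ND_or_TI hS hiso hr.pos hy s.1 (CycFactor.irreducible_S s) (cycSub y u)
        (cycSub_invariant y u) hZs
        (by rw [hZi, CycFactor.natDegree_S hF hr hrp s]) with h | h
      · exact absurd (mod_four_of_UND_irred hF hφ hφ2 hrp hr2 hiso hy s (cycSub y u)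
          (cycSub_invariant y u) hZs hZne h) hi
      · exact h
    have h1 := u_finrank_perp_in B hR U A hAnd hAU
    obtain ⟨W', hW'U, hW'inv, hW'ti, hW'dim⟩ := ih (U ⊓ orth B A)
      (inf_le_left.trans hUc) (u_inf_orth_invariant hiso hr.pos hy U A hU hAinv)
      (UND_perp_in B hR U A hnd hAnd hAU) (by
        have : (a' + 1) * (2 * orderOf ((q ^ 2 : ℕ) : ZMod r)) =
          a' * (2 * orderOf ((q ^ 2 : ℕ) : ZMod r)) + 2 * orderOf ((q ^ 2 : ℕ) : ZMod r) := by
          ring
        omega)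
    obtain ⟨hti, hdim'⟩ := u_ti_sup B hR A (U ⊓ orth B A) (cycSub y u) W' hAnd
      (fun a ha w hw => (Submodule.mem_inf.mp hw).2 a ha) hZA hW'U hZti hW'ti
    refine ⟨cycSub y u ⊔ W', sup_le (hZA.trans hAU) (hW'U.trans inf_le_left),
      sup_invariant _ _ (cycSub_invariant y u) hW'inv, hti, ?_⟩
    rw [hdim', hZi, hW'dim]
    ring

/-- invariant totally isotropic subspaces of the non-fixed part, all types self-dual -/
theorem exists_ti_cyc_sd [DecidableEq F] (hF : Fintype.card F = q ^ 2) (hφ : ∀ x, φ x = x ^ q)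
    (hφ2 : ∀ x, φ (φ x) = x) (hφne : φ ≠ RingHom.id F) (hS : B.IsSymm)
    (hfixK : ∀ k : K, φ (algebraMap K F k) = algebraMap K F k)
    (hfix : ∀ x : F, φ x = x → ∃ k : K, algebraMap K F k = x) (hrank : finrank K F = 2)
    {r : ℕ} [Fact r.Prime] (hrp : r ≠ p)
    (hiso : ∀ u v, B (y u) (y v) = B u v) (hy : y ^ r = 1)
    (hi : orderOf (q : ZMod r) % 4 = 2) :
    ∀ (a' : ℕ) (U : Submodule F V), U ≤ LinearMap.ker (aeval y (cyclotomic r F)) →
      (∀ v ∈ U, y v ∈ U) → UND B U →
      orderOf ((q ^ 2 : ℕ) : ZMod r) * (2 * a' + Fintype.card (CycFactor.S r F)) ≤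
        finrank F U + orderOf ((q ^ 2 : ℕ) : ZMod r) →
      ∃ W : Submodule F V, W ≤ U ∧ (∀ v ∈ W, y v ∈ W) ∧ UTI B W ∧
        finrank F W = a' * orderOf ((q ^ 2 : ℕ) : ZMod r) := by
  have hr : r.Prime := Fact.out
  have hR := refl_of_symm B hS
  have hrF : (r : F) ≠ 0 := CycFactor.natCast_ne_zero hr hrp
  have hb0 : 0 < orderOf ((q ^ 2 : ℕ) : ZMod r) := CycFactor.orderOf_pos hF hr hrp
  intro a'
  induction a' with
  | zero =>
    intro U _ _ _ _
    refine ⟨⊥, bot_le, ?_, UTI_bot B, by rw [finrank_bot, zero_mul]⟩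
    intro v hv
    rw [Submodule.mem_bot] at hv ⊢
    rw [hv, map_zero]
  | succ a' ih =>
    intro U hUc hU hnd hdim
    -- pigeonhole: some homogeneous component has dimension at least `2 b`
    have hirr := CycFactor.irreducible_fJ (F := F) (r := r)
    have hcop := CycFactor.coprime_fJ (F := F) hr hrp
    have hφ' : aeval y (∏ j, CycFactor.fJ (F := F) r j) = 0 := by
      rw [CycFactor.prod_fJ hr hrp]; exact aeval_pow_sub_one_of_pow hy
    obtain ⟨hsum, hdvd⟩ := invariant_mults (CycFactor.fJ (F := F) r) hirr hcop y hφ' U hU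
    rw [Fintype.sum_option] at hsum
    have h0 : U ⊓ LinearMap.ker (aeval y (CycFactor.fJ (F := F) r none)) = ⊥ := by
      show U ⊓ LinearMap.ker (aeval y (X - 1 : F[X])) = ⊥
      rw [eq_bot_iff, ← fix_inf_cyc (y := y) (r := r) hrF, inf_comm]
      exact inf_le_inf_left _ hUc
    rw [h0, finrank_bot, zero_add] at hsum
    obtain ⟨s, hs⟩ : ∃ s : CycFactor.S r F,
        2 * orderOf ((q ^ 2 : ℕ) : ZMod r) ≤ finrank F ↥(U ⊓ LinearMap.ker (aeval y s.1)) := by
      by_contra hcon
      push Not at hcon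
      have hle : ∀ s : CycFactor.S r F,
          finrank F ↥(U ⊓ LinearMap.ker (aeval y (CycFactor.fJ (F := F) r (some s)))) ≤
            orderOf ((q ^ 2 : ℕ) : ZMod r) := by
        intro s
        have h1 := hdvd (some s)
        rw [CycFactor.natDegree_fJ_some hF hr hrp s] at h1
        obtain ⟨k, hk⟩ := h1
        have h2 := hcon s
        change finrank F ↥(U ⊓ LinearMap.ker (aeval y (CycFactor.fJ (F := F) r (some s)))) <
          2 * orderOf ((q ^ 2 : ℕ) : ZMod r) at h2
        rw [hk] at h2 ⊢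
        have hk1 : k < 2 := by
          by_contra hk2
          push Not at hk2
          have := Nat.mul_le_mul_left (orderOf ((q ^ 2 : ℕ) : ZMod r)) hk2
          omega
        have hk1' : k ≤ 1 := by omega
        calc orderOf ((q ^ 2 : ℕ) : ZMod r) * k ≤ orderOf ((q ^ 2 : ℕ) : ZMod r) * 1 :=
              Nat.mul_le_mul_left _ hk1'
          _ = orderOf ((q ^ 2 : ℕ) : ZMod r) := mul_one _
      have h3 : finrank F U ≤
          Fintype.card (CycFactor.S r F) * orderOf ((q ^ 2 : ℕ) : ZMod r) := by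
        rw [← hsum]
        calc ∑ s : CycFactor.S r F,
            finrank F ↥(U ⊓ LinearMap.ker (aeval y (CycFactor.fJ (F := F) r (some s))))
            ≤ ∑ _s : CycFactor.S r F, orderOf ((q ^ 2 : ℕ) : ZMod r) :=
              Finset.sum_le_sum (fun s _ => hle s)
          _ = Fintype.card (CycFactor.S r F) * orderOf ((q ^ 2 : ℕ) : ZMod r) := by
            rw [Finset.sum_const, Finset.card_univ, smul_eq_mul]
      have h4 : orderOf ((q ^ 2 : ℕ) : ZMod r) * (2 * (a' + 1) + Fintype.card (CycFactor.S r F)) =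
          Fintype.card (CycFactor.S r F) * orderOf ((q ^ 2 : ℕ) : ZMod r) +
            2 * orderOf ((q ^ 2 : ℕ) : ZMod r) +
            2 * a' * orderOf ((q ^ 2 : ℕ) : ZMod r) := by ring
      omega
    have hsdeg := CycFactor.natDegree_S hF hr hrp s
    obtain ⟨Us, hUs⟩ : ∃ Us, Us = U ⊓ LinearMap.ker (aeval y s.1) := ⟨_, rfl⟩
    rw [← hUs] at hs
    have hUsnd : UND B Us := by
      rw [hUs]
      exact UND_ker_factor hF hφ hφ2 hS hrp hiso hy hi s U hU hnd
    have hUsinv : ∀ v ∈ Us, y v ∈ Us := by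
      rw [hUs]
      exact inf_ker_invariant U hU s.1
    have hUsU : Us ≤ U := by
      rw [hUs]
      exact inf_le_left
    have hcls := uPeelClass_homog hS hφne hiso hr.pos hy s.1 (CycFactor.irreducible_S s)
      (CycFactor.monic_S s) U
    obtain ⟨H, hHUs, ⟨hHle, hHinv, hHnd⟩, hHdim⟩ := u_peel_exists hR hcls 2 Us
      ⟨by rw [hUs], hUsinv, hUsnd⟩ (by rw [hsdeg]; exact hs)
    rw [hsdeg] at hHdim
    have hHU : H ≤ U := hHUs.trans hUsU
    obtain ⟨Z, hZH, hZinv, hZti, hZi⟩ := exists_ti_irred hS hfixK hfix hrank hiso hr.pos hy s.1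
      (CycFactor.irreducible_S s) (CycFactor.monic_S s) H hHinv (hHle.trans inf_le_right)
      (by rw [hsdeg]; omega)
    rw [hsdeg] at hZi
    have h1 := u_finrank_perp_in B hR U H hHnd hHU
    obtain ⟨W', hW'U, hW'inv, hW'ti, hW'dim⟩ := ih (U ⊓ orth B H)
      (inf_le_left.trans hUc) (u_inf_orth_invariant hiso hr.pos hy U H hU hHinv)
      (UND_perp_in B hR U H hnd hHnd hHU) (by
        have h4 : orderOf ((q ^ 2 : ℕ) : ZMod r) *
            (2 * (a' + 1) + Fintype.card (CycFactor.S r F)) =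
          orderOf ((q ^ 2 : ℕ) : ZMod r) * (2 * a' + Fintype.card (CycFactor.S r F)) +
            2 * orderOf ((q ^ 2 : ℕ) : ZMod r) := by ring
        omega)
    obtain ⟨hti, hdim'⟩ := u_ti_sup B hR H (U ⊓ orth B H) Z W' hHnd
      (fun a ha w hw => (Submodule.mem_inf.mp hw).2 a ha) hZH hW'U hZti hW'ti
    refine ⟨Z ⊔ W', sup_le (hZH.trans hHU) (hW'U.trans inf_le_left),
      sup_invariant _ _ hZinv hW'inv, hti, ?_⟩
    rw [hdim', hZi, hW'dim]
    ring

/-- sufficiency: an invariant totally isotropic `m`-space -/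
theorem exists_ti_invariant_u (hF : Fintype.card F = q ^ 2) (hφ : ∀ x, φ x = x ^ q)
    (hφ2 : ∀ x, φ (φ x) = x) (hφne : φ ≠ RingHom.id F) (hS : B.IsSymm)
    (hfixK : ∀ k : K, φ (algebraMap K F k) = algebraMap K F k)
    (hfix : ∀ x : F, φ x = x → ∃ k : K, algebraMap K F k = x) (hrank : finrank K F = 2)
    {r : ℕ} [Fact r.Prime] (hrp : r ≠ p) (hr2 : r ≠ 2)
    (hiso : ∀ u v, B (y u) (y v) = B u v) (hy : y ^ r = 1)
    (hndV : UND B ⊤) (n m : ℕ) (hV : finrank F V = n) (hmn : 2 * m ≤ n)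
    (b : ℕ) (hb : b = orderOf ((q ^ 2 : ℕ) : ZMod r))
    (h2 : 2 * (m % b) ≤ n % cU q r)
    (h3 : ¬ orderOf (q : ZMod r) % 4 = 2 ∨ (r - 1) / b + 2 * (m / b) ≤ n / b) :
    ∃ W : Submodule F V, finrank F W = m ∧ UTI B W ∧ ∀ v ∈ W, y v ∈ W := by
  classical
  have hr : r.Prime := Fact.out
  have hR := refl_of_symm B hS
  have hrF : (r : F) ≠ 0 := CycFactor.natCast_ne_zero hr hrp
  have hb0 : 0 < b := by rw [hb]; exact CycFactor.orderOf_pos hF hr hrp
  obtain ⟨Fx, hFx⟩ : ∃ Fx, Fx = LinearMap.ker (aeval y (X - 1 : F[X])) := ⟨_, rfl⟩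
  obtain ⟨Cy, hCy⟩ : ∃ Cy, Cy = LinearMap.ker (aeval y (cyclotomic r F)) := ⟨_, rfl⟩
  have htopinv : ∀ v ∈ (⊤ : Submodule F V), y v ∈ (⊤ : Submodule F V) := fun _ _ =>
    Submodule.mem_top
  have hsplit := finrank_split_fix hrF hy ⊤ htopinv
  rw [top_inf_eq, top_inf_eq, finrank_top, hV, ← hFx, ← hCy] at hsplit
  have hFxnd : UND B Fx := by
    have := UND_fix_part hS hφ2 hiso hrF hy ⊤ htopinv hndV
    rwa [top_inf_eq, ← hFx] at this
  have hCynd : UND B Cy := by
    have := UND_cyc_part hS hφ2 hiso hrF hy ⊤ htopinv hndV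
    rwa [top_inf_eq, ← hCy] at this
  have hCyinv : ∀ v ∈ Cy, y v ∈ Cy := by
    rw [hCy]
    exact fun v hv => SSClass.ker_aeval_invariant y _ v hv
  have hcdvd := cdvd_finrank_cyc_part_u hF hφ hφ2 hφne hS hrp hr2 hiso hy ⊤ htopinv hndV
  rw [top_inf_eq, ← hCy] at hcdvd
  obtain ⟨ef, hef⟩ : ∃ ef, ef = finrank F Fx := ⟨_, rfl⟩
  rw [← hef] at hsplit
  have hfix_orth : ∀ u ∈ Fx, ∀ w ∈ Cy, B u w = 0 := by
    rw [hFx, hCy]
    exact fun u hu w hw => u_fix_orth_cyc hS hφ2 hiso hrF hy u w hu hw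
  have hCyle : Cy ≤ LinearMap.ker (aeval y (cyclotomic r F)) := by rw [hCy]
  suffices hkey : ∃ a' e', a' * b + e' = m ∧ 2 * e' ≤ ef ∧ ∃ Wc : Submodule F V, Wc ≤ Cy ∧
      (∀ v ∈ Wc, y v ∈ Wc) ∧ UTI B Wc ∧ finrank F Wc = a' * b by
    obtain ⟨a', e', hsum, hee, Wc, hWcC, hWcinv, hWcti, hWcdim⟩ := hkey
    obtain ⟨Wf, hWfF, hWfti, hWfdim⟩ := exists_ti_in_UND B hS hfixK hfix hrank e' Fx hFxnd
      (by omega)
    obtain ⟨hti, hdim⟩ := u_ti_sup B hR Fx Cy Wf Wc hFxnd hfix_orth hWfF hWcC hWfti hWcti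
    refine ⟨Wf ⊔ Wc, by rw [hdim, hWfdim, hWcdim]; omega, hti, sup_invariant _ _ ?_ hWcinv⟩
    intro v hv
    have hv' := hWfF hv
    rw [hFx] at hv'
    rw [(mem_fix_iff v).mp hv']
    exact hv
  have hm := Nat.div_add_mod m b
  have hn := Nat.div_add_mod n b
  have hbot : ∃ Wc : Submodule F V, Wc ≤ Cy ∧ (∀ v ∈ Wc, y v ∈ Wc) ∧ UTI B Wc ∧
      finrank F Wc = 0 * b := by
    refine ⟨⊥, bot_le, ?_, UTI_bot B, by rw [finrank_bot, zero_mul]⟩
    intro v hv
    rw [Submodule.mem_bot] at hv ⊢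
    rw [hv, map_zero]
  by_cases hi : orderOf (q : ZMod r) % 4 = 2
  · have hcU : cU q r = b := by
      unfold cU
      rw [if_pos hi, hb]
    rw [hcU] at h2 hcdvd
    obtain ⟨a, ha⟩ := hcdvd
    have h3' : (r - 1) / b + 2 * (m / b) ≤ n / b := by
      rcases h3 with h | h
      · exact absurd hi h
      · exact h
    have hcard := CycFactor.card_S (F := F) hF hr hrp
    rw [← hb] at hcard
    obtain ⟨t, ht⟩ : ∃ t, t = Fintype.card (CycFactor.S r F) := ⟨_, rfl⟩
    rw [← ht] at hcard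
    have ht' : (r - 1) / b = t := by
      rw [← hcard]
      exact Nat.mul_div_cancel _ hb0
    rw [ht'] at h3'
    obtain ⟨amax, hamax⟩ : ∃ amax, amax = (a + 1 - t) / 2 := ⟨_, rfl⟩
    obtain ⟨a', ha'⟩ : ∃ a', a' = min (m / b) amax := ⟨_, rfl⟩
    have ha'm : a' ≤ m / b := by rw [ha']; exact min_le_left _ _
    have ha'a : a' ≤ amax := by rw [ha']; exact min_le_right _ _
    have hia' : b * a' ≤ b * (m / b) := Nat.mul_le_mul_left _ ha'm
    have hk : n % b ≤ ef := by
      have h5 : n = ef + b * a := by omega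
      rw [h5, Nat.add_mul_mod_self_left]
      exact Nat.mod_le _ _
    refine ⟨a', m - b * a', ?_, ?_, ?_⟩
    · rw [mul_comm]
      omega
    · rcases le_total (m / b) amax with hle | hle
      · have h5 : a' = m / b := by rw [ha', min_eq_left hle]
        rw [h5]
        omega
      · have h5 : a' = amax := by rw [ha', min_eq_right hle]
        have h6 : a ≤ 2 * amax + t := by omega
        have h7 : b * a ≤ 2 * (b * amax) + b * t := by
          calc b * a ≤ b * (2 * amax + t) := Nat.mul_le_mul_left _ h6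
            _ = 2 * (b * amax) + b * t := by ring
        have h8 : b * t + 2 * (b * (m / b)) ≤ b * (n / b) := by
          calc b * t + 2 * (b * (m / b)) = b * (t + 2 * (m / b)) := by ring
            _ ≤ b * (n / b) := Nat.mul_le_mul_left _ h3'
        have h9 : b * amax ≤ b * (m / b) := Nat.mul_le_mul_left _ hle
        rw [h5]
        omega
    · rcases Nat.eq_zero_or_pos a' with h0 | hpos
      · rw [h0]
        exact hbot
      · have h5 : 2 * a' + t ≤ a + 1 := by omega
        have h6 : b * (2 * a' + t) ≤ b * a + b := by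
          calc b * (2 * a' + t) ≤ b * (a + 1) := Nat.mul_le_mul_left _ h5
            _ = b * a + b := by ring
        have := exists_ti_cyc_sd hF hφ hφ2 hφne hS hfixK hfix hrank hrp hiso hy hi a' Cy hCyle
          hCyinv hCynd (by rw [← hb, ← ht, ha]; exact h6)
        rw [← hb] at this
        exact this
  · have hcU : cU q r = 2 * b := by
      unfold cU
      rw [if_neg hi, hb]
    rw [hcU] at h2 hcdvd
    obtain ⟨a, ha⟩ := hcdvd
    obtain ⟨a', ha'⟩ : ∃ a', a' = min (m / b) a := ⟨_, rfl⟩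
    have ha'm : a' ≤ m / b := by rw [ha']; exact min_le_left _ _
    have ha'a : a' ≤ a := by rw [ha']; exact min_le_right _ _
    have hia' : b * a' ≤ b * (m / b) := Nat.mul_le_mul_left _ ha'm
    have hk : n % (2 * b) ≤ ef := by
      have h5 : n = ef + 2 * b * a := by omega
      rw [h5, Nat.add_mul_mod_self_left]
      exact Nat.mod_le _ _
    refine ⟨a', m - b * a', ?_, ?_, ?_⟩
    · rw [mul_comm]
      omega
    · rcases le_total (m / b) a with hle | hle
      · have h5 : a' = m / b := by rw [ha', min_eq_left hle]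
        rw [h5]
        omega
      · have h5 : a' = a := by rw [ha', min_eq_right hle]
        have h6 : 2 * b * a = 2 * (b * a) := by ring
        rw [h5]
        omega
    · have h6 : a' * (2 * b) ≤ 2 * b * a := by
        calc a' * (2 * b) ≤ a * (2 * b) := Nat.mul_le_mul_right _ ha'a
          _ = 2 * b * a := by ring
      have := exists_ti_cyc_nsd hF hφ hφ2 hφne hS hrp hr2 hiso hy hi a' Cy hCyle hCyinv hCynd
        (by rw [← hb, ha]; exact h6)
      rw [← hb] at this
      exact this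

end suff

end Cfsg.Agent.Lib.H24.Uti
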