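import Mathlib
import Cfsg.Agent.Lib.H24.UtiSuff
import Cfsg.Agent.S0837
import Cfsg.Agent.Lib.H4.Herm

set_option autoImplicit false

/-!
# The standard unitary space and the fixed field (helper24)

* `fixK φ hφ2`: the fixed field of the involution `φ`, of index `2` (`finrank_fixK`), which provides
  the `K`-structure needed for the Chevalley–Warning arguments; `K`-free versions of
  `exists_ti_in_UND`, `exists_ti_homog`, `exists_ti_invariant_u`;
* the standard hermitian form `Bs φ n` and its relation to `Cfsg.hermForm`; elements of `SU` are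
  isometries (`su_iso`).
-/

namespace Cfsg.Agent.Lib.H24.Uti

open Polynomial Module
open Cfsg.Agent.Lib.H11.UFrames (orth mem_orth)
open Cfsg.Agent.Lib.H24.Elus
open Cfsg.Agent.Lib.H13
open Cfsg.Agent.S0837 (Bs Bs_apply Bs_symm Bs_nondeg)

section fixfield

variable {F : Type*} [Field F]

/-- an involution of `F` as a ring automorphism -/
def phiEquiv (φ : F →+* F) (hφ2 : ∀ x, φ (φ x) = x) : F ≃+* F :=
  { φ with
    invFun := φ
    left_inv := hφ2
    right_inv := hφ2 }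

theorem phiEquiv_apply (φ : F →+* F) (hφ2 : ∀ x, φ (φ x) = x) (x : F) :
    phiEquiv φ hφ2 x = φ x := rfl

/-- the fixed field of the involution `φ` -/
abbrev fixK (φ : F →+* F) (hφ2 : ∀ x, φ (φ x) = x) : Subfield F :=
  FixedPoints.subfield (Subgroup.zpowers (phiEquiv φ hφ2)) F

theorem phiEquiv_sq (φ : F →+* F) (hφ2 : ∀ x, φ (φ x) = x) : phiEquiv φ hφ2 ^ 2 = 1 := by
  ext x
  rw [pow_two, RingAut.mul_apply, phiEquiv_apply, phiEquiv_apply, hφ2]
  rfl

theorem mem_fixK_iff (φ : F →+* F) (hφ2 : ∀ x, φ (φ x) = x) (x : F) :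
    x ∈ fixK φ hφ2 ↔ φ x = x := by
  constructor
  · intro h
    exact h ⟨phiEquiv φ hφ2, Subgroup.mem_zpowers _⟩
  · intro h
    rintro ⟨g, hg⟩
    obtain ⟨k, rfl⟩ := Subgroup.mem_zpowers_iff.mp hg
    show (phiEquiv φ hφ2 ^ k) x = x
    have h2 : ∀ j : ℕ, (phiEquiv φ hφ2 ^ j) x = x := by
      intro j
      induction j with
      | zero => rfl
      | succ j ih => rw [pow_succ, RingAut.mul_apply, phiEquiv_apply, h, ih]
    obtain ⟨j, hj⟩ : ∃ j : ℕ, phiEquiv φ hφ2 ^ k = phiEquiv φ hφ2 ^ j := by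
      refine ⟨(k % 2).toNat, ?_⟩
      have h3 : (phiEquiv φ hφ2) ^ (2 : ℤ) = 1 := by
        have := phiEquiv_sq φ hφ2
        exact_mod_cast this
      have h4 : k = k % 2 + 2 * (k / 2) := (Int.emod_add_mul_ediv k 2).symm
      have h5 : (0 : ℤ) ≤ k % 2 := Int.emod_nonneg k (by norm_num)
      conv_lhs => rw [h4, zpow_add, zpow_mul, h3, one_zpow, mul_one]
      rw [← zpow_natCast, Int.toNat_of_nonneg h5]
    rw [hj]
    exact h2 j

theorem fixK_fix (φ : F →+* F) (hφ2 : ∀ x, φ (φ x) = x) (k : fixK φ hφ2) :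
    φ (algebraMap (fixK φ hφ2) F k) = algebraMap (fixK φ hφ2) F k :=
  (mem_fixK_iff φ hφ2 _).mp k.2

theorem fixK_surj (φ : F →+* F) (hφ2 : ∀ x, φ (φ x) = x) (x : F) (hx : φ x = x) :
    ∃ k : fixK φ hφ2, algebraMap (fixK φ hφ2) F k = x :=
  ⟨⟨x, (mem_fixK_iff φ hφ2 x).mpr hx⟩, rfl⟩

theorem finrank_fixK [Finite F] (φ : F →+* F) (hφ2 : ∀ x, φ (φ x) = x) (hφne : φ ≠ RingHom.id F) :
    finrank (fixK φ hφ2) F = 2 := by
  classical
  haveI : Fact (Nat.Prime 2) := ⟨Nat.prime_two⟩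
  have hne : phiEquiv φ hφ2 ≠ 1 := by
    intro h
    apply hφne
    ext x
    have := RingEquiv.congr_fun h x
    rw [phiEquiv_apply] at this
    rw [this]
    rfl
  have hord : orderOf (phiEquiv φ hφ2) = 2 := orderOf_eq_prime (phiEquiv_sq φ hφ2) hne
  haveI : Finite (Subgroup.zpowers (phiEquiv φ hφ2)) :=
    Nat.finite_of_card_ne_zero (by rw [Nat.card_zpowers, hord]; norm_num)
  haveI : Fintype (Subgroup.zpowers (phiEquiv φ hφ2)) := Fintype.ofFinite _
  rw [FixedPoints.finrank_eq_card (Subgroup.zpowers (phiEquiv φ hφ2)) F,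
    ← Nat.card_eq_fintype_card, Nat.card_zpowers, hord]

end fixfield

section wrappers

variable {F : Type*} [Field F] [Fintype F] {p q : ℕ} [Fact p.Prime] [CharP F p]
  {φ : F →+* F} {V : Type*} [AddCommGroup V] [Module F V]
  [Module.Finite F V] {B : V →ₛₗ[φ] V →ₗ[F] F} {y : End F V}

/-- totally isotropic subspaces of a nondegenerate subspace -/
theorem exists_ti_in_UND' (hS : B.IsSymm) (hφ2 : ∀ x, φ (φ x) = x) (hφne : φ ≠ RingHom.id F)
    (e : ℕ) (U : Submodule F V) (hU : UND B U) (he : 2 * e ≤ finrank F U) :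
    ∃ W : Submodule F V, W ≤ U ∧ UTI B W ∧ finrank F W = e := by
  haveI : Fintype (fixK φ hφ2) := Fintype.ofFinite _
  exact exists_ti_in_UND (K := fixK φ hφ2) B hS (fixK_fix φ hφ2) (fixK_surj φ hφ2)
    (finrank_fixK φ hφ2 hφne) e U hU he

/-- invariant totally isotropic subspaces of a nondegenerate invariant subspace of `ker g(y)` -/
theorem exists_ti_homog' (hS : B.IsSymm) (hφ2 : ∀ x, φ (φ x) = x) (hφne : φ ≠ RingHom.id F)
    (hiso : ∀ u v, B (y u) (y v) = B u v) {N : ℕ} (hN : 0 < N) (hy : y ^ N = 1)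
    (g : F[X]) (hg : Irreducible g) (hgm : g.Monic)
    (a' : ℕ) (U : Submodule F V) (hUg : U ≤ LinearMap.ker (aeval y g))
    (hUinv : ∀ v ∈ U, y v ∈ U) (hU : UND B U) (hdim : a' * (2 * g.natDegree) ≤ finrank F U) :
    ∃ W : Submodule F V, W ≤ U ∧ (∀ v ∈ W, y v ∈ W) ∧ UTI B W ∧
      finrank F W = a' * g.natDegree := by
  haveI : Fintype (fixK φ hφ2) := Fintype.ofFinite _
  exact exists_ti_homog (K := fixK φ hφ2) hS hφne (fixK_fix φ hφ2) (fixK_surj φ hφ2)
    (finrank_fixK φ hφ2 hφne) hiso hN hy g hg hgm a' U hUg hUinv hU hdim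

/-- sufficiency: an invariant totally isotropic `m`-space -/
theorem exists_ti_invariant_u' (hF : Fintype.card F = q ^ 2) (hφ : ∀ x, φ x = x ^ q)
    (hφ2 : ∀ x, φ (φ x) = x) (hφne : φ ≠ RingHom.id F) (hS : B.IsSymm)
    {r : ℕ} [Fact r.Prime] (hrp : r ≠ p) (hr2 : r ≠ 2)
    (hiso : ∀ u v, B (y u) (y v) = B u v) (hy : y ^ r = 1)
    (hndV : UND B ⊤) (n m : ℕ) (hV : finrank F V = n) (hmn : 2 * m ≤ n)
    (b : ℕ) (hb : b = orderOf ((q ^ 2 : ℕ) : ZMod r))
    (h2 : 2 * (m % b) ≤ n % cU q r)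
    (h3 : ¬ orderOf (q : ZMod r) % 4 = 2 ∨ (r - 1) / b + 2 * (m / b) ≤ n / b) :
    ∃ W : Submodule F V, finrank F W = m ∧ UTI B W ∧ ∀ v ∈ W, y v ∈ W := by
  haveI : Fintype (fixK φ hφ2) := Fintype.ofFinite _
  exact exists_ti_invariant_u (K := fixK φ hφ2) hF hφ hφ2 hφne hS (fixK_fix φ hφ2)
    (fixK_surj φ hφ2) (finrank_fixK φ hφ2 hφne) hrp hr2 hiso hy hndV n m hV hmn b hb h2 h3

end wrappers

section std

variable {F : Type*} [Field F] {φ : F →+* F}

theorem Bs_eq_herm {q : ℕ} (hφ : ∀ x, φ x = x ^ q) (n : ℕ) (u v : Fin n → F) :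
    Bs φ n u v = Cfsg.hermForm n F q v u := by
  rw [Bs_apply]
  unfold Cfsg.hermForm
  apply Finset.sum_congr rfl
  intro i _
  rw [hφ]

theorem UND_top_Bs (n : ℕ) : UND (Bs φ n) ⊤ :=
  fun u _ h => (Bs_nondeg φ n).1 u (fun v => h v Submodule.mem_top)

theorem su_iso {q : ℕ} (hφ : ∀ x, φ x = x ^ q) (n : ℕ)
    (x : Matrix.SpecialLinearGroup (Fin n) F) (hx : x ∈ Cfsg.SU n F q) (u v : Fin n → F) :
    Bs φ n (Matrix.toLin' (x : Matrix (Fin n) (Fin n) F) u)
      (Matrix.toLin' (x : Matrix (Fin n) (Fin n) F) v) = Bs φ n u v := by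
  rw [Bs_eq_herm hφ, Bs_eq_herm hφ, Matrix.toLin'_apply, Matrix.toLin'_apply]
  exact hx v u

theorem finrank_stdU (n : ℕ) : finrank F (Fin n → F) = n := by
  rw [Module.finrank_fintype_fun_eq_card, Fintype.card_fin]

end std

end Cfsg.Agent.Lib.H24.Uti
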