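import Mathlib
import Cfsg.Agent.Lib.H24.UtiStd

set_option autoImplicit false

/-!
# Roots in the norm-one group of `F_{q²}` and normalization of scalars (helper24)

For `|F| = q²` and `z` with `z ^ (q + 1) = 1`:
* `exists_root_of_coprime`: if `r` is prime to `q + 1` then `z = w ^ r` with `w ^ (q + 1) = 1`;
* `exists_root_of_pow_eq_one`: if `q + 1 = r t` and `z ^ t = 1` then `z = w ^ r` with
  `w ^ (q + 1) = 1`;
* `irreducible_X_pow_sub_C_of_not_pow`: if `r ∣ q + 1` is an odd prime and `z` is not such an `r`-th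
  power then `X ^ r - z` is irreducible;
* `u_normalize`: an isometry `x` with `x ^ r = z = w ^ r`, `w ^ (q + 1) = 1`, is a scalar multiple of
  the isometry `w⁻¹ x` of order dividing `r`.
-/

namespace Cfsg.Agent.Lib.H24.Uti

open Polynomial Module

section roots

variable {F : Type*} [Field F] [Fintype F] {q : ℕ}

theorem sq_sub_one_eq (q : ℕ) (hq : 0 < q) : q ^ 2 - 1 = (q - 1) * (q + 1) := by
  obtain ⟨k, rfl⟩ : ∃ k, q = k + 1 := ⟨q - 1, by omega⟩
  rw [Nat.add_sub_cancel]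
  have : (k + 1) ^ 2 = k * (k + 1 + 1) + 1 := by ring
  rw [this, Nat.add_sub_cancel]

theorem pow_sq_sub_one (hF : Fintype.card F = q ^ 2) (x : F) (hx : x ≠ 0) : x ^ (q ^ 2 - 1) = 1 := by
  rw [← hF]
  exact FiniteField.pow_card_sub_one_eq_one x hx

/-- `r`-th roots in the norm-one group, `r` prime to `q + 1` -/
theorem exists_root_of_coprime (hq : 0 < q) (r : ℕ) (hcop : Nat.Coprime r (q + 1)) (z : F)
    (hz : z ^ (q + 1) = 1) : ∃ w : F, w ^ r = z ∧ w ^ (q + 1) = 1 := by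
  obtain ⟨m, -, hm⟩ := Nat.exists_mul_mod_eq_one_of_coprime hcop (by omega)
  refine ⟨z ^ m, ?_, ?_⟩
  · have h1 := Nat.div_add_mod (r * m) (q + 1)
    rw [hm] at h1
    rw [← pow_mul, mul_comm, ← h1, pow_add, pow_mul, hz, one_pow, one_mul, pow_one]
  · rw [← pow_mul, mul_comm, pow_mul, hz, one_pow]

/-- `r`-th roots in the norm-one group, `r ∣ q + 1` -/
theorem exists_root_of_pow_eq_one (hF : Fintype.card F = q ^ 2) (hq : 0 < q) (r t : ℕ)
    (ht : q + 1 = r * t) (z : F) (hz0 : z ≠ 0) (hz : z ^ t = 1) :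
    ∃ w : F, w ^ r = z ∧ w ^ (q + 1) = 1 := by
  classical
  have ht0 : 0 < t := by
    rcases Nat.eq_zero_or_pos t with h | h
    · rw [h, mul_zero] at ht
      omega
    · exact h
  obtain ⟨γ, hγ⟩ := IsCyclic.exists_generator (α := Fˣ)
  have hord : orderOf γ = q ^ 2 - 1 := by
    rw [orderOf_eq_card_of_forall_mem_zpowers hγ, Nat.card_eq_fintype_card, Fintype.card_units, hF]
  obtain ⟨k, hk⟩ : ∃ k : ℕ, γ ^ k = Units.mk0 z hz0 := by
    have h1 := hγ (Units.mk0 z hz0)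
    rw [← mem_powers_iff_mem_zpowers] at h1
    exact Submonoid.mem_powers_iff _ _ |>.mp h1
  have h1 : γ ^ (k * t) = 1 := by
    rw [pow_mul, hk]
    apply Units.ext
    rw [Units.val_pow_eq_pow_val, Units.val_mk0, hz, Units.val_one]
  have h2 : q ^ 2 - 1 ∣ k * t := by
    rw [← hord]
    exact orderOf_dvd_of_pow_eq_one h1
  rw [sq_sub_one_eq q hq, ht, ← mul_assoc] at h2
  obtain ⟨k', hk'⟩ := Nat.dvd_of_mul_dvd_mul_right ht0 h2
  have hγpow : γ ^ ((q - 1) * (q + 1)) = 1 := by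
    rw [← sq_sub_one_eq q hq, ← hord]
    exact pow_orderOf_eq_one γ
  refine ⟨((γ ^ ((q - 1) * k') : Fˣ) : F), ?_, ?_⟩
  · rw [← Units.val_pow_eq_pow_val, ← pow_mul]
    have : (q - 1) * k' * r = k := by rw [hk']; ring
    rw [this, hk, Units.val_mk0]
  · rw [← Units.val_pow_eq_pow_val, ← pow_mul]
    have : (q - 1) * k' * (q + 1) = (q - 1) * (q + 1) * k' := by ring
    rw [this, pow_mul, hγpow, one_pow, Units.val_one]

/-- an `r`-th root of a norm-one element has norm one (`r ∣ q + 1` an odd prime) -/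
theorem pow_q_add_one_of_pow_r (hF : Fintype.card F = q ^ 2) (hq : 0 < q) (r : ℕ) (hr : r.Prime)
    (hr2 : r ≠ 2) (hrq : r ∣ q + 1) (v : F) (hv : (v ^ r) ^ (q + 1) = 1) : v ^ (q + 1) = 1 := by
  have hv0 : v ≠ 0 := by
    rintro rfl
    rw [zero_pow hr.pos.ne', zero_pow (by omega)] at hv
    exact zero_ne_one hv
  have h1 : (v ^ (q + 1)) ^ r = 1 := by
    rw [← pow_mul, mul_comm, pow_mul]
    exact hv
  have h2 : (v ^ (q + 1)) ^ (q - 1) = 1 := by
    rw [← pow_mul, mul_comm, ← sq_sub_one_eq q hq]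
    exact pow_sq_sub_one hF v hv0
  have hcop : Nat.Coprime r (q - 1) := by
    rw [Nat.Prime.coprime_iff_not_dvd hr]
    intro h
    have h3 : r ∣ (q + 1) - (q - 1) := Nat.dvd_sub hrq h
    have h4 : (q + 1) - (q - 1) = 2 := by omega
    rw [h4] at h3
    exact hr2 ((Nat.prime_dvd_prime_iff_eq hr Nat.prime_two).mp h3)
  have h5 := pow_gcd_eq_one.mpr ⟨h1, h2⟩
  rw [Nat.Coprime.gcd_eq_one hcop, pow_one] at h5
  exact h5

theorem irreducible_X_pow_sub_C_of_not_pow (hF : Fintype.card F = q ^ 2) (hq : 0 < q) (r : ℕ)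
    (hr : r.Prime) (hr2 : r ≠ 2) (hrq : r ∣ q + 1) (z : F) (hzq : z ^ (q + 1) = 1)
    (hno : ¬ ∃ w : F, w ^ r = z ∧ w ^ (q + 1) = 1) : Irreducible (X ^ r - C z : F[X]) := by
  apply X_pow_sub_C_irreducible_of_prime hr
  intro b hb
  apply hno
  refine ⟨b, hb, pow_q_add_one_of_pow_r hF hq r hr hr2 hrq b ?_⟩
  rw [hb]
  exact hzq

end roots

section normalize

variable {F : Type*} [Field F] {φ : F →+* F} {V : Type*} [AddCommGroup V] [Module F V]
  {B : V →ₛₗ[φ] V →ₗ[F] F}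

/-- the scalar of a scalar isometry has norm one -/
theorem scalar_norm_one {q : ℕ} (hφ : ∀ x, φ x = x ^ q) (z : F)
    (hiso : ∀ u v, B ((z • (1 : End F V)) u) ((z • (1 : End F V)) v) = B u v)
    (u : V) (hu : B u u ≠ 0) : z ^ (q + 1) = 1 := by
  have h := hiso u u
  simp only [LinearMap.smul_apply, Module.End.one_apply, map_smulₛₗ, map_smul,
    RingHom.id_apply, smul_eq_mul, hφ] at h
  have h2 : (z ^ (q + 1) - 1) * B u u = 0 := by
    rw [pow_succ]
    linear_combination h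
  rcases mul_eq_zero.mp h2 with h3 | h3
  · exact sub_eq_zero.mp h3
  · exact absurd h3 hu

/-- normalizing an isometry with `x ^ r` scalar -/
theorem u_normalize {q : ℕ} (hφ : ∀ x, φ x = x ^ q) (r : ℕ) (x : End F V)
    (hiso : ∀ u v, B (x u) (x v) = B u v) (z w : F) (hxr : x ^ r = z • 1) (hw : w ^ r = z)
    (hwq : w ^ (q + 1) = 1) :
    ∃ y : End F V, y ^ r = 1 ∧ (∀ u v, B (y u) (y v) = B u v) ∧ y = w⁻¹ • x ∧
      ∀ W : Submodule F V, (∀ v ∈ W, y v ∈ W) → ∀ v ∈ W, x v ∈ W := by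
  have hw0 : w ≠ 0 := by
    rintro rfl
    rw [zero_pow (by omega)] at hwq
    exact zero_ne_one hwq
  refine ⟨w⁻¹ • x, ?_, ?_, rfl, ?_⟩
  · rw [_root_.smul_pow, hxr, smul_smul, ← hw, inv_pow, inv_mul_cancel₀ (pow_ne_zero r hw0),
      one_smul]
  · intro u v
    simp only [LinearMap.smul_apply, map_smulₛₗ, RingHom.id_apply, smul_eq_mul, hφ,
      hiso]
    rw [← mul_assoc, ← pow_succ', inv_pow, hwq, inv_one, one_mul]
  · intro W hW v hv
    have h5 := hW v hv
    rw [LinearMap.smul_apply] at h5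
    have h6 := Submodule.smul_mem W w h5
    rwa [smul_smul, mul_inv_cancel₀ hw0, one_smul] at h6

end normalize

end Cfsg.Agent.Lib.H24.Uti
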