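import Mathlib
import Cfsg.Agent.Lib.H24.UtiStd

set_option autoImplicit false

/-!
# Unitary matrices from abstract isometries (helper24)

* `stdHerm φ ι`: the standard hermitian form on `ι → F`;
* `IsUn φ n M`: the matrix `M` preserves the standard hermitian form `Bs φ n`;
* `exists_u_of_isometry`: an isometry of a nondegenerate hermitian space of dimension `n` is
  represented by a unitary matrix of size `n` with the same kernel dimensions and determinant;
* `exists_u_sum`: orthogonal sums of unitary matrices.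
-/

namespace Cfsg.Agent.Lib.H24.Uti

open Polynomial Module
open Cfsg.Agent.Lib.H24.Elus
open Cfsg.Agent.Lib.H13
open Cfsg.Agent.S0837 (Bs Bs_apply Bs_symm Bs_nondeg)

section stdherm

variable {F : Type*} [Field F] (φ : F →+* F)

/-- the standard hermitian form on `ι → F` -/
def stdHerm (ι : Type*) [Fintype ι] : (ι → F) →ₛₗ[φ] (ι → F) →ₗ[F] F :=
  LinearMap.mk₂'ₛₗ φ (RingHom.id F) (fun u v => ∑ i, v i * φ (u i))
    (fun u u' v => by simp [mul_add, Finset.sum_add_distrib])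
    (fun c u v => by simp [Finset.mul_sum, mul_left_comm])
    (fun u v v' => by simp [add_mul, Finset.sum_add_distrib])
    (fun c u v => by simp [Finset.mul_sum, mul_assoc])

theorem stdHerm_apply (ι : Type*) [Fintype ι] (u v : ι → F) :
    stdHerm φ ι u v = ∑ i, v i * φ (u i) := rfl

theorem stdHerm_symm (hφ2 : ∀ x, φ (φ x) = x) (ι : Type*) [Fintype ι] :
    (stdHerm φ ι).IsSymm := by
  refine ⟨fun u v => ?_⟩
  rw [stdHerm_apply, stdHerm_apply, map_sum]
  refine Finset.sum_congr rfl fun i _ => ?_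
  rw [map_mul, hφ2, mul_comm]

theorem stdHerm_nondeg (ι : Type*) [Fintype ι] [DecidableEq ι] : (stdHerm φ ι).Nondegenerate := by
  constructor
  · intro u hu
    funext i
    have := hu (Pi.single i 1)
    rw [stdHerm_apply] at this
    simp only [Pi.single_apply, ite_mul, one_mul, zero_mul, Finset.sum_ite_eq',
      Finset.mem_univ, if_true] at this
    exact (map_eq_zero φ).1 this
  · intro v hv
    funext i
    have := hv (Pi.single i 1)
    rw [stdHerm_apply] at this
    have e : ∀ j, φ ((Pi.single i (1:F) : ι → F) j) = if j = i then 1 else 0 := by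
      intro j
      rw [Pi.single_apply]
      split_ifs <;> simp
    simp only [e, mul_ite, mul_one, mul_zero, Finset.sum_ite_eq', Finset.mem_univ,
      if_true] at this
    exact this

end stdherm

section transfer

variable {F : Type*} [Field F] {φ : F →+* F}

/-- the matrix `M` preserves the standard hermitian form -/
def IsUn (φ : F →+* F) (n : ℕ) (M : Matrix (Fin n) (Fin n) F) : Prop :=
  ∀ u v, Bs φ n (Matrix.toLin' M u) (Matrix.toLin' M v) = Bs φ n u v

theorem isUn_one (n : ℕ) : IsUn φ n (1 : Matrix (Fin n) (Fin n) F) := by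
  intro u v
  rw [Matrix.toLin'_one]
  rfl

variable [Finite F] {V' : Type*} [AddCommGroup V'] [Module F V'] [FiniteDimensional F V']

/-- a nondegenerate hermitian space is isometric to the standard one -/
theorem exists_stdU_equiv (hφne : φ ≠ RingHom.id F) (hφ2 : ∀ x, φ (φ x) = x)
    (B' : V' →ₛₗ[φ] V' →ₗ[F] F) (hS : B'.IsSymm) (hB : B'.Nondegenerate) (n : ℕ)
    (hdim : finrank F V' = n) :
    ∃ g : V' ≃ₗ[F] (Fin n → F), ∀ u v, Bs φ n (g u) (g v) = B' u v := by
  obtain ⟨b, hb⟩ := Cfsg.Agent.S0755.herm_onb φ hφne hφ2 n B' hS hB hdim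
  refine ⟨b.equivFun, fun u v => ?_⟩
  have hu : u = ∑ i, b.equivFun u i • b i := (b.sum_equivFun u).symm
  have hv : v = ∑ i, b.equivFun v i • b i := (b.sum_equivFun v).symm
  conv_rhs => rw [hu, hv]
  simp only [map_sum, LinearMap.sum_apply, map_smulₛₗ, LinearMap.smul_apply, smul_eq_mul, hb,
    map_smul, RingHom.id_apply]
  rw [Bs_apply]
  apply Finset.sum_congr rfl
  intro i _
  simp [mul_comm]

/-- an isometry of a nondegenerate hermitian space as a unitary matrix -/
theorem exists_u_of_isometry (hφne : φ ≠ RingHom.id F) (hφ2 : ∀ x, φ (φ x) = x)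
    (B' : V' →ₛₗ[φ] V' →ₗ[F] F) (hS : B'.IsSymm) (hB : B'.Nondegenerate) (n : ℕ)
    (hdim : finrank F V' = n) (x' : End F V') (hiso : ∀ u v, B' (x' u) (x' v) = B' u v) :
    ∃ M : Matrix (Fin n) (Fin n) F, IsUn φ n M ∧
      (∀ p : F[X], finrank F (LinearMap.ker (aeval (Matrix.toLin' M) p)) =
          finrank F (LinearMap.ker (aeval x' p))) ∧
      (∀ p : F[X], aeval x' p = 0 → aeval (Matrix.toLin' M) p = 0) ∧
      M.det = LinearMap.det x' := by
  obtain ⟨g, hg⟩ := exists_stdU_equiv hφne hφ2 B' hS hB n hdim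
  obtain ⟨ψ, hψ⟩ : ∃ ψ : End F (Fin n → F),
      ψ = (g : V' →ₗ[F] _) ∘ₗ x' ∘ₗ (g.symm : _ →ₗ[F] V') := ⟨_, rfl⟩
  have hint : ∀ v, g (x' v) = ψ (g v) := by
    intro v
    rw [hψ, LinearMap.comp_apply, LinearMap.comp_apply, LinearEquiv.coe_coe, LinearEquiv.coe_coe,
      g.symm_apply_apply]
  refine ⟨LinearMap.toMatrix' ψ, ?_, ?_, ?_, ?_⟩
  · intro u v
    rw [Matrix.toLin'_toMatrix']
    obtain ⟨u', rfl⟩ := g.surjective u
    obtain ⟨v', rfl⟩ := g.surjective v
    rw [← hint, ← hint, hg, hg, hiso]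
  · intro p
    rw [Matrix.toLin'_toMatrix']
    exact (SSClass.finrank_ker_eq_of_equiv x' ψ g hint p).symm
  · intro p hp
    rw [Matrix.toLin'_toMatrix']
    apply LinearMap.ext
    intro v
    obtain ⟨v', rfl⟩ := g.surjective v
    have h1 := SSClass.aeval_intertwine x' ψ (g : V' →ₗ[F] _) hint p v'
    rw [hp, LinearMap.zero_apply, LinearEquiv.coe_coe, map_zero] at h1
    rw [LinearMap.zero_apply]
    exact h1.symm
  · rw [LinearMap.det_toMatrix', hψ, LinearMap.det_conj]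

end transfer

section sum

variable {F : Type*} [Field F] {φ : F →+* F}

/-- the orthogonal sum of two sesquilinear forms -/
def uprodB {V₁ V₂ : Type*} [AddCommGroup V₁] [Module F V₁] [AddCommGroup V₂]
    [Module F V₂] (B₁ : V₁ →ₛₗ[φ] V₁ →ₗ[F] F) (B₂ : V₂ →ₛₗ[φ] V₂ →ₗ[F] F) :
    (V₁ × V₂) →ₛₗ[φ] (V₁ × V₂) →ₗ[F] F :=
  LinearMap.mk₂'ₛₗ φ (RingHom.id F) (fun u v => B₁ u.1 v.1 + B₂ u.2 v.2)
    (fun u u' v => by
      simp only [Prod.fst_add, Prod.snd_add, map_add, LinearMap.add_apply]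
      ring)
    (fun c u v => by
      simp only [Prod.smul_fst, Prod.smul_snd, map_smulₛₗ, LinearMap.smul_apply, smul_eq_mul]
      ring)
    (fun u v v' => by
      simp only [Prod.fst_add, Prod.snd_add, map_add]
      ring)
    (fun c u v => by
      simp only [Prod.smul_fst, Prod.smul_snd, map_smul, smul_eq_mul, RingHom.id_apply]
      ring)

theorem uprodB_apply {V₁ V₂ : Type*} [AddCommGroup V₁] [Module F V₁] [AddCommGroup V₂]
    [Module F V₂] (B₁ : V₁ →ₛₗ[φ] V₁ →ₗ[F] F) (B₂ : V₂ →ₛₗ[φ] V₂ →ₗ[F] F)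
    (u v : V₁ × V₂) : uprodB B₁ B₂ u v = B₁ u.1 v.1 + B₂ u.2 v.2 := rfl

theorem uprodB_symm {V₁ V₂ : Type*} [AddCommGroup V₁] [Module F V₁] [AddCommGroup V₂]
    [Module F V₂] (B₁ : V₁ →ₛₗ[φ] V₁ →ₗ[F] F) (B₂ : V₂ →ₛₗ[φ] V₂ →ₗ[F] F)
    (h₁ : B₁.IsSymm) (h₂ : B₂.IsSymm) : (uprodB B₁ B₂).IsSymm := by
  refine ⟨fun u v => ?_⟩
  rw [uprodB_apply, uprodB_apply, map_add, h₁.eq, h₂.eq]

theorem uprodB_nondeg {V₁ V₂ : Type*} [AddCommGroup V₁] [Module F V₁] [AddCommGroup V₂]
    [Module F V₂] (B₁ : V₁ →ₛₗ[φ] V₁ →ₗ[F] F) (B₂ : V₂ →ₛₗ[φ] V₂ →ₗ[F] F)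
    (h₁ : B₁.Nondegenerate) (h₂ : B₂.Nondegenerate) : (uprodB B₁ B₂).Nondegenerate := by
  constructor
  · intro v hv
    have h1 : v.1 = 0 := by
      apply h₁.1
      intro w
      have := hv (w, 0)
      rw [uprodB_apply] at this
      simpa using this
    have h2 : v.2 = 0 := by
      apply h₂.1
      intro w
      have := hv (0, w)
      rw [uprodB_apply] at this
      simpa using this
    exact Prod.ext h1 h2
  · intro v hv
    have h1 : v.1 = 0 := by
      apply h₁.2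
      intro w
      have := hv (w, 0)
      rw [uprodB_apply] at this
      simpa using this
    have h2 : v.2 = 0 := by
      apply h₂.2
      intro w
      have := hv (0, w)
      rw [uprodB_apply] at this
      simpa using this
    exact Prod.ext h1 h2

variable [Finite F]

/-- orthogonal sums of unitary matrices -/
theorem exists_u_sum (hφne : φ ≠ RingHom.id F) (hφ2 : ∀ x, φ (φ x) = x) (n₁ n₂ : ℕ)
    (M₁ : Matrix (Fin n₁) (Fin n₁) F) (M₂ : Matrix (Fin n₂) (Fin n₂) F)
    (h₁ : IsUn φ n₁ M₁) (h₂ : IsUn φ n₂ M₂) :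
    ∃ M : Matrix (Fin (n₁ + n₂)) (Fin (n₁ + n₂)) F, IsUn φ (n₁ + n₂) M ∧
      (∀ p : F[X], finrank F (LinearMap.ker (aeval (Matrix.toLin' M) p)) =
          finrank F (LinearMap.ker (aeval (Matrix.toLin' M₁) p)) +
          finrank F (LinearMap.ker (aeval (Matrix.toLin' M₂) p))) ∧
      (∀ p : F[X], aeval (Matrix.toLin' M₁) p = 0 → aeval (Matrix.toLin' M₂) p = 0 →
        aeval (Matrix.toLin' M) p = 0) ∧
      M.det = M₁.det * M₂.det := by
  obtain ⟨M, hM, hker, hzero, hdet⟩ := exists_u_of_isometry hφne hφ2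
    (uprodB (Bs φ n₁) (Bs φ n₂))
    (uprodB_symm _ _ (Bs_symm φ hφ2 n₁) (Bs_symm φ hφ2 n₂))
    (uprodB_nondeg _ _ (Bs_nondeg φ n₁) (Bs_nondeg φ n₂)) (n₁ + n₂)
    (by rw [Module.finrank_prod, finrank_stdU, finrank_stdU])
    ((Matrix.toLin' M₁).prodMap (Matrix.toLin' M₂)) (by
      intro u v
      rw [uprodB_apply, uprodB_apply]
      show Bs φ n₁ (Matrix.toLin' M₁ u.1) (Matrix.toLin' M₁ v.1) +
        Bs φ n₂ (Matrix.toLin' M₂ u.2) (Matrix.toLin' M₂ v.2) = _
      rw [h₁, h₂])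
  refine ⟨M, hM, fun p => ?_, fun p hp₁ hp₂ => ?_, ?_⟩
  · rw [hker p, finrank_ker_aeval_prodMap]
  · apply hzero
    rw [aeval_prodMap, hp₁, hp₂]
    exact LinearMap.prodMap_zero
  · rw [hdet, LinearMap.det_prodMap, LinearMap.det_toLin', LinearMap.det_toLin']

end sum

end Cfsg.Agent.Lib.H24.Uti
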