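import Mathlib
import Cfsg.Agent.Lib.H24.UtiTransfer
import Cfsg.Agent.Lib.H24.UtiCyc

set_option autoImplicit false

/-!
# Endomorphisms with `x ^ r = z` for irreducible `X ^ r - z` (helper24)

* `det_of_pow_eq_smul`: if `X ^ r - z` is irreducible (`r` odd) and `x ^ r = z` on a space of
  dimension `n₁ r` then `det x = z ^ n₁`;
* `shiftZ z`: the monomial endomorphism of `ZMod r → F` with `r`-th power `z`, an isometry of the
  standard hermitian form when `z ^ (q + 1) = 1`;
* `exists_u_mono`: unitary matrices `M` of size `n₁ r` with `M ^ r = z`.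
-/

namespace Cfsg.Agent.Lib.H24.Uti

open Polynomial Module
open Cfsg.Agent.Lib.H13
open Cfsg.Agent.S0837 (Bs Bs_apply Bs_symm Bs_nondeg)

section det

variable {F : Type*} [Field F] {V : Type*} [AddCommGroup V] [Module F V] [Module.Finite F V]

theorem aeval_X_pow_sub_C (r : ℕ) (z : F) (x : End F V) (hx : x ^ r = z • 1) :
    aeval x (X ^ r - C z : F[X]) = 0 := by
  rw [map_sub, map_pow, aeval_X, aeval_C, hx, Algebra.algebraMap_eq_smul_one, sub_self]

theorem det_mulRoot (r : ℕ) (hr : Odd r) (z : F) (n₁ : ℕ) :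
    LinearMap.det (SSClass.mulRoot (X ^ r - C z : F[X]) n₁) = z ^ n₁ := by
  have hr0 : 0 < r := hr.pos
  have hg0 : (X ^ r - C z : F[X]) ≠ 0 := X_pow_sub_C_ne_zero hr0 z
  have hgm : (X ^ r - C z : F[X]).Monic := monic_X_pow_sub_C z hr0.ne'
  haveI : Module.Finite F (AdjoinRoot (X ^ r - C z : F[X])) :=
    (AdjoinRoot.powerBasis hg0).finite
  have h1 : SSClass.mulRoot (X ^ r - C z : F[X]) n₁ =
      LinearMap.pi (fun i : Fin n₁ =>
        (LinearMap.mul F (AdjoinRoot (X ^ r - C z : F[X])) (AdjoinRoot.root _)).comp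
          (LinearMap.proj i)) := by
    apply LinearMap.ext
    intro v
    funext i
    rfl
  rw [h1, LinearMap.det_pi, Finset.prod_const, Finset.card_univ, Fintype.card_fin]
  congr 1
  have h2 : LinearMap.det (LinearMap.mul F (AdjoinRoot (X ^ r - C z : F[X])) (AdjoinRoot.root _)) =
      Algebra.norm F (AdjoinRoot.root (X ^ r - C z : F[X])) := by
    rw [Algebra.norm_apply, Algebra.coe_lmul_eq_mul]
  rw [h2]
  have h3 := Algebra.PowerBasis.norm_gen_eq_coeff_zero_minpoly (AdjoinRoot.powerBasis hg0)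
  rw [AdjoinRoot.powerBasis_gen, AdjoinRoot.powerBasis_dim, AdjoinRoot.minpoly_root hg0,
    hgm.leadingCoeff, inv_one, C_1, mul_one, natDegree_X_pow_sub_C] at h3
  rw [h3, hr.neg_one_pow, coeff_sub, coeff_X_pow, coeff_C_zero, if_neg hr0.ne]
  ring

/-- the determinant of an endomorphism with `x ^ r = z`, `X ^ r - z` irreducible -/
theorem det_of_pow_eq_smul (r : ℕ) (hr : Odd r) (z : F)
    (hirr : Irreducible (X ^ r - C z : F[X])) (x : End F V) (hx : x ^ r = z • 1) (n₁ : ℕ)
    (hn : finrank F V = n₁ * r) : LinearMap.det x = z ^ n₁ := by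
  have hr0 : 0 < r := hr.pos
  have hg0 : (X ^ r - C z : F[X]) ≠ 0 := X_pow_sub_C_ne_zero hr0 z
  haveI : Module.Finite F (AdjoinRoot (X ^ r - C z : F[X])) :=
    (AdjoinRoot.powerBasis hg0).finite
  have h0 : aeval (SSClass.mulRoot (X ^ r - C z : F[X]) n₁) (X ^ r - C z : F[X]) = 0 := by
    apply LinearMap.ext
    intro v
    rw [SSClass.aeval_mulRoot, AdjoinRoot.mk_self, zero_smul, LinearMap.zero_apply]
  obtain ⟨e, he⟩ := SSClass.exists_equiv_of_irreducible (X ^ r - C z : F[X]) hirr x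
    (SSClass.mulRoot (X ^ r - C z : F[X]) n₁) (aeval_X_pow_sub_C r z x hx) h0
    (by rw [hn, SSClass.finrank_block _ hg0, natDegree_X_pow_sub_C])
  have h1 : x = (e.symm : _ →ₗ[F] V) ∘ₗ SSClass.mulRoot (X ^ r - C z : F[X]) n₁ ∘ₗ
      (e : V →ₗ[F] _) := by
    apply LinearMap.ext
    intro v
    rw [LinearMap.comp_apply, LinearMap.comp_apply, LinearEquiv.coe_coe, LinearEquiv.coe_coe,
      ← he, e.symm_apply_apply]
  rw [h1]
  have h2 := LinearMap.det_conj (SSClass.mulRoot (X ^ r - C z : F[X]) n₁) e.symm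
  rw [LinearEquiv.symm_symm] at h2
  rw [h2, det_mulRoot r hr z n₁]

end det

section shift

variable {F : Type*} [Field F] {r : ℕ} [NeZero r]

/-- the monomial endomorphism with `r`-th power `z` -/
def shiftZ (z : F) : End F (ZMod r → F) where
  toFun f := fun j => (if j = 0 then z else 1) * f (j - 1)
  map_add' f g := by
    funext j
    simp only [Pi.add_apply, mul_add]
  map_smul' c f := by
    funext j
    simp only [Pi.smul_apply, smul_eq_mul, RingHom.id_apply]
    ring

theorem shiftZ_apply (z : F) (f : ZMod r → F) (j : ZMod r) :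
    shiftZ z f j = (if j = 0 then z else 1) * f (j - 1) := rfl

theorem shiftZ_pow_apply (z : F) (k : ℕ) (f : ZMod r → F) (j : ZMod r) :
    (shiftZ z ^ k) f j =
      (∏ l ∈ Finset.range k, (if j - (l : ZMod r) = 0 then z else 1)) * f (j - (k : ZMod r)) := by
  induction k generalizing f j with
  | zero => simp
  | succ k ih =>
    rw [pow_succ, Module.End.mul_apply, ih, shiftZ_apply, Finset.prod_range_succ, Nat.cast_succ,
      mul_assoc]
    congr 3
    ring

theorem shiftZ_pow (z : F) : (shiftZ z : End F (ZMod r → F)) ^ r = z • 1 := by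
  apply LinearMap.ext
  intro f
  funext j
  rw [shiftZ_pow_apply, ZMod.natCast_self, sub_zero, LinearMap.smul_apply, Module.End.one_apply,
    Pi.smul_apply, smul_eq_mul]
  congr 1
  have h1 : ∀ l ∈ Finset.range r, (if j - (l : ZMod r) = 0 then z else 1) =
      if l = j.val then z else 1 := by
    intro l hl
    rw [Finset.mem_range] at hl
    have : j - (l : ZMod r) = 0 ↔ l = j.val := by
      rw [sub_eq_zero]
      constructor
      · intro h
        rw [h, ZMod.val_natCast_of_lt hl]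
      · intro h
        rw [h, ZMod.natCast_zmod_val]
    simp only [this]
  rw [Finset.prod_congr rfl h1, Finset.prod_ite_eq', if_pos (Finset.mem_range.mpr (ZMod.val_lt j))]

theorem shiftZ_iso {φ : F →+* F} {q : ℕ} (hφ : ∀ x, φ x = x ^ q) (z : F) (hz : z ^ (q + 1) = 1)
    (f g : ZMod r → F) :
    stdHerm φ (ZMod r) (shiftZ z f) (shiftZ z g) = stdHerm φ (ZMod r) f g := by
  rw [stdHerm_apply, stdHerm_apply]
  rw [← Equiv.sum_comp (Equiv.subRight (1 : ZMod r)) (fun i => g i * φ (f i))]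
  apply Finset.sum_congr rfl
  intro j _
  rw [shiftZ_apply, shiftZ_apply, Equiv.subRight_apply, map_mul]
  have h1 : (if j = 0 then z else 1) * φ (if j = 0 then z else 1) = 1 := by
    split_ifs
    · rw [hφ, ← pow_succ', hz]
    · rw [map_one, mul_one]
  linear_combination (g (j - 1) * φ (f (j - 1))) * h1

end shift

section mono

variable {F : Type*} [Field F] [Finite F] {φ : F →+* F} {q : ℕ}

/-- unitary matrices with `M ^ r = z` -/
theorem exists_u_mono (hφ : ∀ x, φ x = x ^ q) (hφne : φ ≠ RingHom.id F)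
    (hφ2 : ∀ x, φ (φ x) = x) (r : ℕ) [NeZero r] (z : F) (hz : z ^ (q + 1) = 1) (n₁ : ℕ) :
    ∀ d : ℕ, d = n₁ * r → ∃ M : Matrix (Fin d) (Fin d) F, IsUn φ d M ∧
      aeval (Matrix.toLin' M) (X ^ r - C z : F[X]) = 0 := by
  classical
  induction n₁ with
  | zero =>
    intro d hd
    rw [zero_mul] at hd
    subst hd
    refine ⟨1, isUn_one 0, ?_⟩
    apply LinearMap.ext
    intro v
    exact Subsingleton.elim _ _
  | succ n₁ ih =>
    intro d hd
    obtain ⟨M', hM', hM'z⟩ := ih (n₁ * r) rfl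
    obtain ⟨C₀, hC₀, -, hC₀z, -⟩ := exists_u_of_isometry hφne hφ2 (stdHerm φ (ZMod r))
      (stdHerm_symm φ hφ2 (ZMod r)) (stdHerm_nondeg φ (ZMod r)) r
      (by rw [Module.finrank_fintype_fun_eq_card, ZMod.card]) (shiftZ z) (shiftZ_iso hφ z hz)
    obtain ⟨M, hM, -, hMz, -⟩ := exists_u_sum hφne hφ2 r (n₁ * r) C₀ M' hC₀ hM'
    have hd' : d = r + n₁ * r := by rw [hd]; ring
    subst hd'
    exact ⟨M, hM, hMz _ (hC₀z _ (aeval_X_pow_sub_C r z _ (shiftZ_pow z))) hM'z⟩

end mono

end Cfsg.Agent.Lib.H24.Uti
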