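import Mathlib
import Cfsg.Agent.Lib.H24.UtiMono
import Cfsg.Agent.Lib.H24.UtiOrd

set_option autoImplicit false

/-!
# Sufficiency for odd primes: elements of `PSU_n(q)` of odd prime order fixing a totally isotropic
`m`-space (helper24)
-/

namespace Cfsg.Agent.Lib.H24.Uti

open Polynomial Module
open Cfsg.Agent.Lib.H11.UFrames (orth mem_orth)
open Cfsg.Agent.Lib.H24.Elus
open Cfsg.Agent.Lib.H13

theorem gcd_dvd_div_of_padic (r : ℕ) [Fact r.Prime] (Q n₁ : ℕ) (hQ : 0 < Q) (hn₁ : 0 < n₁)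
    (hv : padicValNat r (n₁ * r) ≤ padicValNat r Q) : Nat.gcd Q n₁ ∣ Q / r := by
  have hr : r.Prime := Fact.out
  obtain ⟨k, hk⟩ := Nat.gcd_dvd_left Q n₁
  obtain ⟨k', hk'⟩ := Nat.gcd_dvd_right Q n₁
  have hg0 : Nat.gcd Q n₁ ≠ 0 := (Nat.gcd_pos_of_pos_left n₁ hQ).ne'
  have hk0 : k ≠ 0 := by
    rintro rfl
    rw [mul_zero] at hk
    omega
  have hk'0 : k' ≠ 0 := by
    rintro rfl
    rw [mul_zero] at hk'
    omega
  have hrk : r ∣ k := by
    by_contra hcon
    have h1 : padicValNat r Q = padicValNat r (Nat.gcd Q n₁) := by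
      conv_lhs => rw [hk]
      rw [padicValNat.mul hg0 hk0, padicValNat.eq_zero_of_not_dvd hcon, add_zero]
    have h2 : padicValNat r n₁ = padicValNat r (Nat.gcd Q n₁) + padicValNat r k' := by
      conv_lhs => rw [hk']
      rw [padicValNat.mul hg0 hk'0]
    have h3 : padicValNat r (n₁ * r) = padicValNat r n₁ + 1 := by
      rw [padicValNat.mul hn₁.ne' hr.ne_zero, padicValNat_self]
    omega
  obtain ⟨k₂, rfl⟩ := hrk
  refine ⟨k₂, ?_⟩
  apply Nat.div_eq_of_eq_mul_right hr.pos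
  conv_lhs => rw [hk]
  ring

section suff

variable {F : Type*} [Field F] [Fintype F] {p q : ℕ} [Fact p.Prime] [CharP F p]
  {φ : F →+* F} {V : Type*} [AddCommGroup V] [Module F V]
  [Module.Finite F V] {B : V →ₛₗ[φ] V →ₗ[F] F}

/-- the order of `q` modulo an odd prime divisor of `q + 1` -/
theorem orderOf_eq_two_of_dvd {r : ℕ} [Fact r.Prime] (hr2 : r ≠ 2) (hrq : r ∣ q + 1) :
    orderOf (q : ZMod r) = 2 := by
  have h1 : (q : ZMod r) = -1 := by
    rw [← ZMod.natCast_eq_zero_iff, Nat.cast_add, Nat.cast_one] at hrq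
    exact eq_neg_of_add_eq_zero_left hrq
  rw [h1]
  apply orderOf_eq_prime
  · rw [neg_one_sq]
  · exact neg_one_ne_one_zmod hr2

theorem suff_odd (hF : Fintype.card F = q ^ 2) (hφ : ∀ x, φ x = x ^ q)
    (hφ2 : ∀ x, φ (φ x) = x) (hφne : φ ≠ RingHom.id F) (hS : B.IsSymm)
    {r : ℕ} [Fact r.Prime] (hrp : r ≠ p) (hr2 : r ≠ 2)
    (x : End F V) (hiso : ∀ u v, B (x u) (x v) = B u v) (z : F) (hxr : x ^ r = z • 1)
    (hdet : LinearMap.det x = 1)
    (hndV : UND B ⊤) (n m : ℕ) (hV : finrank F V = n) (hm : 1 ≤ m) (hmn : 2 * m ≤ n)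
    (b : ℕ) (hb : b = orderOf ((q ^ 2 : ℕ) : ZMod r))
    (h2 : 2 * (m % b) ≤ n % cU q r)
    (h3 : ¬ orderOf (q : ZMod r) % 4 = 2 ∨ ((r - 1) / b + 2 * (m / b) ≤ n / b ∧
      (2 < orderOf (q : ZMod r) ∨ r ∣ m ∨ padicValNat r n ≤ padicValNat r (q + 1)))) :
    ∃ W : Submodule F V, finrank F W = m ∧ UTI B W ∧ ∀ v ∈ W, x v ∈ W := by
  classical
  have hr : r.Prime := Fact.out
  have hq0 : 0 < q := q_pos hF
  have hrodd : Odd r := hr.odd_of_ne_two hr2
  -- `z` has norm one
  have hVne : (⊤ : Submodule F V) ≠ ⊥ := by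
    intro h
    have h1 : finrank F (⊤ : Submodule F V) = 0 := by rw [h, finrank_bot]
    rw [finrank_top, hV] at h1
    omega
  obtain ⟨u₀, -, hu₀⟩ := exists_nonisotropic_in hS hφne ⊤ hndV hVne
  have hzq : z ^ (q + 1) = 1 := by
    apply scalar_norm_one (B := B) hφ z _ u₀ hu₀
    intro u v
    rw [← hxr]
    exact u_pow_iso hiso r u v
  have hz0 : z ≠ 0 := by
    rintro rfl
    rw [zero_pow (by omega)] at hzq
    exact zero_ne_one hzq
  by_cases hw : ∃ w : F, w ^ r = z ∧ w ^ (q + 1) = 1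
  · obtain ⟨w, hwr, hwq⟩ := hw
    obtain ⟨y, hyr, hyiso, -, hyinv⟩ := u_normalize (B := B) hφ r x hiso z w hxr hwr hwq
    obtain ⟨W, hWm, hWti, hWinv⟩ := exists_ti_invariant_u' hF hφ hφ2 hφne hS hrp hr2 hyiso hyr
      hndV n m hV hmn b hb h2 (by
        rcases h3 with h | h
        · exact Or.inl h
        · exact Or.inr h.1)
    exact ⟨W, hWm, hWti, hyinv W hWinv⟩
  · -- `r ∣ q + 1`
    have hrq : r ∣ q + 1 := by
      by_contra hcon
      exact hw (exists_root_of_coprime hq0 r ((Nat.Prime.coprime_iff_not_dvd hr).mpr hcon) z hzq)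
    have hi2 : orderOf (q : ZMod r) = 2 := orderOf_eq_two_of_dvd hr2 hrq
    have hirr : Irreducible (X ^ r - C z : F[X]) :=
      irreducible_X_pow_sub_C_of_not_pow hF hq0 r hr hr2 hrq z hzq hw
    have hgm : (X ^ r - C z : F[X]).Monic := monic_X_pow_sub_C z hr.ne_zero
    have hgdeg : (X ^ r - C z : F[X]).natDegree = r := natDegree_X_pow_sub_C
    have hgx : aeval x (X ^ r - C z : F[X]) = 0 := aeval_X_pow_sub_C r z x hxr
    have hxN : x ^ (r * (q + 1)) = 1 := by
      rw [pow_mul, hxr, _root_.smul_pow, one_pow, hzq, one_smul]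
    rcases h3 with h | h
    · rw [hi2] at h
      omega
    · rw [hi2] at h
      rcases h.2 with h4 | h4 | h4
      · omega
      · -- `r ∣ m`
        obtain ⟨a', ha'⟩ := h4
        obtain ⟨W, -, hWinv, hWti, hWdim⟩ := exists_ti_homog' hS hφ2 hφne hiso
          (Nat.mul_pos hr.pos (Nat.succ_pos q)) hxN (X ^ r - C z : F[X]) hirr hgm a' ⊤
          (by rw [hgx, LinearMap.ker_zero]) (fun _ _ => Submodule.mem_top) hndV
          (by rw [hgdeg, finrank_top, hV]; nlinarith)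
        refine ⟨W, ?_, hWti, hWinv⟩
        rw [hWdim, hgdeg, ha', mul_comm]
      · -- the determinant
        exfalso
        apply hw
        obtain ⟨n₁, hn₁⟩ : r ∣ n := by
          have := SSClass.natDegree_dvd_finrank _ hirr x hgx
          rwa [hgdeg, hV] at this
        have hn₁0 : 0 < n₁ := by
          rcases Nat.eq_zero_or_pos n₁ with h0 | h0
          · rw [h0, mul_zero] at hn₁
            omega
          · exact h0
        have hdet2 := det_of_pow_eq_smul r hrodd z hirr x hxr n₁ (by rw [hV, hn₁, mul_comm])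
        rw [hdet] at hdet2
        obtain ⟨t, ht⟩ := hrq
        have hgcd : z ^ (Nat.gcd (q + 1) n₁) = 1 := pow_gcd_eq_one.mpr ⟨hzq, hdet2.symm⟩
        have hdvd : Nat.gcd (q + 1) n₁ ∣ t := by
          have := gcd_dvd_div_of_padic r (q + 1) n₁ (Nat.succ_pos q) hn₁0 (by
            rw [mul_comm, ← hn₁]
            exact h4)
          rw [show (q + 1) / r = t by rw [ht, Nat.mul_div_cancel_left t hr.pos]] at this
          exact this
        obtain ⟨k, hk⟩ := hdvd
        exact exists_root_of_pow_eq_one hF hq0 r t ht z hz0 (by rw [hk, pow_mul, hgcd, one_pow])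

end suff

end Cfsg.Agent.Lib.H24.Uti
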