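import Mathlib
import Cfsg.Agent.Lib.H24.UtiOddSuff
import Cfsg.Agent.Lib.H24.ElusTiTwo
import Cfsg.Agent.Lib.H11.SuDec10

set_option autoImplicit false

/-!
# Involutions modulo scalars of the unitary group and totally isotropic subspaces (helper24)
-/

namespace Cfsg.Agent.Lib.H24.Uti

open Polynomial Module
open Cfsg.Agent.Lib.H11.UFrames (orth mem_orth)
open Cfsg.Agent.Lib.H24.Elus
open Cfsg.Agent.Lib.H13
open Cfsg.Agent.S0837 (Bs Bs_apply Bs_symm Bs_nondeg)

section invol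

variable {F : Type*} [Field F] [Fintype F] {φ : F →+* F} {V : Type*} [AddCommGroup V]
  [Module F V] [Module.Finite F V] {B : V →ₛₗ[φ] V →ₗ[F] F} {y : End F V}

theorem two_natCast_ne_zero (h2 : (2 : F) ≠ 0) : ((2 : ℕ) : F) ≠ 0 := by
  rw [Nat.cast_ofNat]
  exact h2

/-- an invariant totally isotropic subspace of an involutory isometry -/
theorem exists_ti_invol_u (h2 : (2 : F) ≠ 0) (hS : B.IsSymm) (hφ2 : ∀ x, φ (φ x) = x)
    (hφne : φ ≠ RingHom.id F) (hiso : ∀ u v, B (y u) (y v) = B u v) (hy : y ^ 2 = 1)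
    (hndV : UND B ⊤) (m : ℕ)
    (hm : m ≤ finrank F (LinearMap.ker (aeval y (X - 1 : F[X]))) / 2 +
      finrank F (LinearMap.ker (aeval y (cyclotomic 2 F))) / 2) :
    ∃ W : Submodule F V, finrank F W = m ∧ UTI B W ∧ ∀ v ∈ W, y v ∈ W := by
  haveI : Fact (Nat.Prime 2) := ⟨Nat.prime_two⟩
  have hrF := two_natCast_ne_zero h2
  have hR := refl_of_symm B hS
  obtain ⟨Fx, hFx⟩ : ∃ Fx, Fx = LinearMap.ker (aeval y (X - 1 : F[X])) := ⟨_, rfl⟩
  obtain ⟨V', hV'⟩ : ∃ V', V' = LinearMap.ker (aeval y (cyclotomic 2 F)) := ⟨_, rfl⟩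
  rw [← hFx, ← hV'] at hm
  have htopinv : ∀ v ∈ (⊤ : Submodule F V), y v ∈ (⊤ : Submodule F V) := fun _ _ =>
    Submodule.mem_top
  have hFxnd : UND B Fx := by
    have := UND_fix_part hS hφ2 hiso hrF hy ⊤ htopinv hndV
    rwa [top_inf_eq, ← hFx] at this
  have hV'nd : UND B V' := by
    have := UND_cyc_part hS hφ2 hiso hrF hy ⊤ htopinv hndV
    rwa [top_inf_eq, ← hV'] at this
  have hFxinv : ∀ P : Submodule F V, P ≤ Fx → ∀ v ∈ P, y v ∈ P := by
    intro P hP v hv
    have hv' := hP hv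
    rw [hFx] at hv'
    rw [(mem_fix_iff v).mp hv']
    exact hv
  have hV'inv : ∀ R : Submodule F V, R ≤ V' → ∀ v ∈ R, y v ∈ R := by
    intro R hR v hv
    have h1 := hR hv
    rw [hV', LinearMap.mem_ker, cyclotomic_two, map_add, aeval_X, map_one, LinearMap.add_apply,
      Module.End.one_apply] at h1
    have h3 : y v = -v := eq_neg_of_add_eq_zero_left h1
    rw [h3]
    exact Submodule.neg_mem _ hv
  have horth : ∀ u ∈ Fx, ∀ w ∈ V', B u w = 0 := by
    rw [hFx, hV']
    exact fun u hu w hw => u_fix_orth_cyc hS hφ2 hiso hrF hy u w hu hw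
  obtain ⟨W₁, hW₁, hW₁ti, hW₁d⟩ := exists_ti_in_UND' hS hφ2 hφne (min m (finrank F Fx / 2)) Fx
    hFxnd (by
      have := min_le_right m (finrank F Fx / 2)
      omega)
  obtain ⟨W₂, hW₂, hW₂ti, hW₂d⟩ := exists_ti_in_UND' hS hφ2 hφne
    (m - min m (finrank F Fx / 2)) V' hV'nd (by
      rcases le_total m (finrank F Fx / 2) with h | h
      · rw [min_eq_left h]
        omega
      · rw [min_eq_right h]
        omega)
  obtain ⟨hti, hdim⟩ := u_ti_sup B hR Fx V' W₁ W₂ hFxnd horth hW₁ hW₂ hW₁ti hW₂ti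
  refine ⟨W₁ ⊔ W₂, ?_, hti, sup_invariant _ _ (hFxinv W₁ hW₁) (hV'inv W₂ hW₂)⟩
  rw [hdim, hW₁d, hW₂d]
  have := min_le_left m (finrank F Fx / 2)
  omega

/-- the dimension of an invariant totally isotropic subspace of an involutory isometry -/
theorem ti_invol_le (h2 : (2 : F) ≠ 0) (hS : B.IsSymm) (hφ2 : ∀ x, φ (φ x) = x)
    (hiso : ∀ u v, B (y u) (y v) = B u v) (hy : y ^ 2 = 1)
    (hndV : UND B ⊤) (W : Submodule F V) (hWinv : ∀ v ∈ W, y v ∈ W) (hWti : UTI B W) :
    finrank F W ≤ finrank F (LinearMap.ker (aeval y (X - 1 : F[X]))) / 2 +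
      finrank F (LinearMap.ker (aeval y (cyclotomic 2 F))) / 2 := by
  haveI : Fact (Nat.Prime 2) := ⟨Nat.prime_two⟩
  have hrF := two_natCast_ne_zero h2
  have htopinv : ∀ v ∈ (⊤ : Submodule F V), y v ∈ (⊤ : Submodule F V) := fun _ _ =>
    Submodule.mem_top
  have hFxnd : UND B (LinearMap.ker (aeval y (X - 1 : F[X]))) := by
    have := UND_fix_part hS hφ2 hiso hrF hy ⊤ htopinv hndV
    rwa [top_inf_eq] at this
  have hV'nd : UND B (LinearMap.ker (aeval y (cyclotomic 2 F))) := by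
    have := UND_cyc_part hS hφ2 hiso hrF hy ⊤ htopinv hndV
    rwa [top_inf_eq] at this
  have h1 := finrank_split_fix hrF hy W hWinv
  have h3 := UTI_finrank_le B hφ2 _ (W ⊓ LinearMap.ker (aeval y (X - 1 : F[X]))) hFxnd
    inf_le_right (UTI_mono B inf_le_left hWti)
  have h4 := UTI_finrank_le B hφ2 _ (W ⊓ LinearMap.ker (aeval y (cyclotomic 2 F))) hV'nd
    inf_le_right (UTI_mono B inf_le_left hWti)
  omega

theorem finrank_invol_add (h2 : (2 : F) ≠ 0) (hy : y ^ 2 = 1) :
    finrank F (LinearMap.ker (aeval y (X - 1 : F[X]))) +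
      finrank F (LinearMap.ker (aeval y (cyclotomic 2 F))) = finrank F V := by
  haveI : Fact (Nat.Prime 2) := ⟨Nat.prime_two⟩
  have h1 := finrank_split_fix (two_natCast_ne_zero h2) hy ⊤ (fun _ _ => Submodule.mem_top)
  rwa [top_inf_eq, top_inf_eq, finrank_top] at h1

/-- isometries whose square is `λ²` with `λ` of norm `-1` -/
theorem exists_ti_eigen_u {q : ℕ} (h2 : (2 : F) ≠ 0) (hq : Odd q) (hφ : ∀ x, φ x = x ^ q)
    (hφ2 : ∀ x, φ (φ x) = x) {x : End F V}
    (hiso : ∀ u v, B (x u) (x v) = B u v) (lam : F) (hlam : lam ^ (q + 1) = -1)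
    (hx : ∀ v, x (x v) = (lam * lam) • v) (hndV : UND B ⊤) (m : ℕ)
    (hmn : 2 * m ≤ finrank F V) :
    ∃ W : Submodule F V, finrank F W = m ∧ UTI B W ∧ ∀ v ∈ W, x v ∈ W := by
  have hlam0 : lam ≠ 0 := by
    rintro rfl
    rw [zero_pow (by omega)] at hlam
    have : (1 : F) = 0 := by linear_combination hlam
    exact one_ne_zero this
  have key : ∀ κ : F, κ ^ (q + 1) = -1 → UTI B (LinearMap.ker (x - κ • (1 : End F V))) ∧
      ∀ W : Submodule F V, W ≤ LinearMap.ker (x - κ • (1 : End F V)) → ∀ v ∈ W, x v ∈ W := by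
    intro κ hκ
    have hmem : ∀ v, v ∈ LinearMap.ker (x - κ • (1 : End F V)) → x v = κ • v := by
      intro v hv
      rw [LinearMap.mem_ker, LinearMap.sub_apply, LinearMap.smul_apply, Module.End.one_apply,
        sub_eq_zero] at hv
      exact hv
    constructor
    · intro u hu v hv
      have h1 := hiso u v
      rw [hmem u hu, hmem v hv] at h1
      simp only [map_smulₛₗ, LinearMap.smul_apply, RingHom.id_apply, smul_eq_mul, hφ] at h1
      have h3 : (2 : F) * B u v = 0 := by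
        have h4 : κ * (κ ^ q * B u v) = κ ^ (q + 1) * B u v := by ring
        rw [h4, hκ] at h1
        linear_combination -h1
      rcases mul_eq_zero.mp h3 with h | h
      · exact absurd h h2
      · exact h
    · intro W hW v hv
      rw [hmem v (hW hv)]
      exact W.smul_mem κ hv
  have hlam' : (-lam) ^ (q + 1) = -1 := by
    rw [Even.neg_pow (by
      obtain ⟨k, hk⟩ := hq
      exact ⟨k + 1, by omega⟩), hlam]
  obtain ⟨hti₁, hinv₁⟩ := key lam hlam
  obtain ⟨hti₂, hinv₂⟩ := key (-lam) hlam'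
  have h2l : (2 * lam : F) ≠ 0 := mul_ne_zero h2 hlam0
  have hsup : LinearMap.ker (x - lam • (1 : End F V)) ⊔
      LinearMap.ker (x - (-lam) • (1 : End F V)) = ⊤ := by
    rw [eq_top_iff]
    intro v _
    have hv : v = (2 * lam)⁻¹ • (lam • v + x v) + (2 * lam)⁻¹ • (lam • v - x v) := by
      rw [← smul_add]
      have : lam • v + x v + (lam • v - x v) = (2 * lam) • v := by
        rw [mul_smul, two_smul]
        abel
      rw [this, smul_smul, inv_mul_cancel₀ h2l, one_smul]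
    rw [hv]
    apply Submodule.add_mem
    · apply Submodule.mem_sup_left
      apply Submodule.smul_mem
      rw [LinearMap.mem_ker, LinearMap.sub_apply, LinearMap.smul_apply, Module.End.one_apply,
        map_add, map_smul, hx, smul_add, smul_smul]
      abel
    · apply Submodule.mem_sup_right
      apply Submodule.smul_mem
      rw [LinearMap.mem_ker, LinearMap.sub_apply, LinearMap.smul_apply, Module.End.one_apply,
        map_sub, map_smul, hx, smul_sub, smul_smul]
      simp only [neg_mul, neg_smul]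
      abel
  have hdim := Submodule.finrank_sup_add_finrank_inf_eq
    (LinearMap.ker (x - lam • (1 : End F V))) (LinearMap.ker (x - (-lam) • (1 : End F V)))
  rw [hsup, finrank_top] at hdim
  have h5 := UTI_finrank_le B hφ2 ⊤ _ hndV le_top hti₁
  have h6 := UTI_finrank_le B hφ2 ⊤ _ hndV le_top hti₂
  rw [finrank_top] at h5 h6
  obtain ⟨W, hWle, hWm⟩ := exists_le_finrank_eq' (LinearMap.ker (x - lam • (1 : End F V))) m
    (by omega)
  exact ⟨W, hWm, UTI_mono B hWle hti₁, hinv₁ W hWle⟩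

end invol

section field

variable {F : Type*} [Field F] [Fintype F] {q : ℕ}

theorem exists_sqrt_norm (hF : Fintype.card F = q ^ 2) (hq : Odd q) (h2 : (2 : F) ≠ 0) (z : F)
    (hz : z ^ (q + 1) = 1) (hno : ¬ ∃ w : F, w ^ 2 = z ∧ w ^ (q + 1) = 1) :
    ∃ lam : F, lam * lam = z ∧ lam ^ (q + 1) = -1 := by
  have hz0 : z ≠ 0 := by
    rintro rfl
    rw [zero_pow (by omega)] at hz
    exact zero_ne_one hz
  have hchar : ringChar F ≠ 2 := by
    intro h
    have := CharP.cast_eq_zero F (ringChar F)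
    rw [h] at this
    exact h2 (by exact_mod_cast this)
  obtain ⟨k, hk⟩ := hq
  have hsq : IsSquare z := by
    rw [FiniteField.isSquare_iff hchar hz0, hF]
    have h1 : q ^ 2 / 2 = (q + 1) * k := by
      rw [hk]
      have : (2 * k + 1) ^ 2 = 2 * ((2 * k + 1 + 1) * k) + 1 := by ring
      rw [this]
      omega
    rw [h1, pow_mul, hz, one_pow]
  obtain ⟨lam, hlam⟩ := hsq
  refine ⟨lam, hlam.symm, ?_⟩
  have h3 : lam ^ (q + 1) * lam ^ (q + 1) = 1 := by
    rw [← mul_pow, ← hlam, hz]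
  rcases mul_self_eq_one_iff.mp h3 with h | h
  · exact absurd ⟨lam, by rw [pow_two, ← hlam], h⟩ hno
  · exact h

theorem exists_orderOf_of_dvd (hF : Fintype.card F = q ^ 2) (d : ℕ) (hd : d ∣ q + 1) :
    ∃ w : F, orderOf w = d ∧ w ^ (q + 1) = 1 := by
  classical
  have hq2 : 2 ≤ q := by
    have h1 : 1 < Fintype.card F := Fintype.one_lt_card
    rw [hF] at h1
    by_contra hlt
    have : q ≤ 1 := by omega
    have : q ^ 2 ≤ 1 := by nlinarith
    omega
  obtain ⟨γ, hγ⟩ := IsCyclic.exists_generator (α := Fˣ)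
  have hord : orderOf γ = q ^ 2 - 1 := by
    rw [orderOf_eq_card_of_forall_mem_zpowers hγ, Nat.card_eq_fintype_card, Fintype.card_units, hF]
  obtain ⟨e, he⟩ := hd
  have hd0 : 0 < d := by
    rcases Nat.eq_zero_or_pos d with h | h
    · rw [h, zero_mul] at he
      omega
    · exact h
  have he0 : 0 < e := by
    rcases Nat.eq_zero_or_pos e with h | h
    · rw [h, mul_zero] at he
      omega
    · exact h
  have hk0 : (q - 1) * e ≠ 0 := Nat.mul_ne_zero (by omega) he0.ne'
  have hprod : q ^ 2 - 1 = d * ((q - 1) * e) := by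
    rw [sq_sub_one_eq q (by omega), he]
    ring
  have hw : orderOf (γ ^ ((q - 1) * e)) = d := by
    rw [orderOf_pow_of_dvd hk0 (by rw [hord, hprod]; exact dvd_mul_left _ _), hord, hprod,
      Nat.mul_div_cancel _ (Nat.pos_of_ne_zero hk0)]
  refine ⟨((γ ^ ((q - 1) * e) : Fˣ) : F), ?_, ?_⟩
  · rw [orderOf_units, hw]
  · rw [← orderOf_dvd_iff_pow_eq_one, orderOf_units, hw, he]
    exact dvd_mul_right _ _

end field

section diag

variable {F : Type*} [Field F] {φ : F →+* F} {q : ℕ}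

theorem isUn_smul_diagonal (hφ : ∀ x, φ x = x ^ q) (n : ℕ) (w : F) (hw : w ^ (q + 1) = 1)
    (d : Fin n → F) (hd : ∀ k, d k ^ (q + 1) = 1) : IsUn φ n (w • Matrix.diagonal d) := by
  intro u v
  rw [Bs_apply, Bs_apply]
  apply Finset.sum_congr rfl
  intro k _
  rw [Matrix.toLin'_apply, Matrix.toLin'_apply, Matrix.smul_mulVec, Matrix.smul_mulVec,
    Pi.smul_apply, Pi.smul_apply, Matrix.mulVec_diagonal, Matrix.mulVec_diagonal, smul_eq_mul,
    smul_eq_mul, map_mul, map_mul, hφ w, hφ (d k)]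
  have h1 : w * w ^ q = 1 := by rw [← pow_succ', hw]
  have h2 : d k * d k ^ q = 1 := by rw [← pow_succ', hd k]
  linear_combination (v k * φ (u k) * (d k * d k ^ q)) * h1 + (v k * φ (u k)) * h2

end diag

section two

variable {F : Type*} [Field F] [Fintype F] {φ : F →+* F} {q : ℕ}

theorem toLin'_pow_eq_smul (n r : ℕ) (M : Matrix (Fin n) (Fin n) F) (z : F)
    (h : M ^ r = z • 1) : (Matrix.toLin' M) ^ r = z • (1 : End F (Fin n → F)) := by
  rw [← Matrix.toLin'_pow, h, map_smul, Matrix.toLin'_one]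
  rfl

theorem finrank_ker_add_id_eq (n : ℕ) (Y : Matrix (Fin n) (Fin n) F) :
    finrank F (LinearMap.ker (Matrix.toLin' Y + LinearMap.id)) =
      finrank F (LinearMap.ker (aeval (Matrix.toLin' Y) (cyclotomic 2 F))) := by
  have : aeval (Matrix.toLin' Y) (cyclotomic 2 F) = Matrix.toLin' Y + LinearMap.id := by
    rw [cyclotomic_two, map_add, aeval_X, map_one]
    rfl
  rw [this]

/-- sufficiency for `r = 2` -/
theorem suff_two (hF : Fintype.card F = q ^ 2) (hφ : ∀ x, φ x = x ^ q)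
    (hφ2 : ∀ x, φ (φ x) = x) (hφne : φ ≠ RingHom.id F) (h2 : (2 : F) ≠ 0) (hq : Odd q)
    (n m : ℕ) (hm : 1 ≤ m) (hmn : 2 * m ≤ n)
    (h : 2 * m < n ∨ padicValNat 2 (q + 1) ≤ padicValNat 2 n)
    (M : Matrix (Fin n) (Fin n) F) (hM : IsUn φ n M) (hdet : M.det = 1) (z : F)
    (hM2 : M ^ 2 = z • 1) :
    ∃ W : Submodule F (Fin n → F), finrank F W = m ∧ UTI (Bs φ n) W ∧
      ∀ v ∈ W, Matrix.toLin' M v ∈ W := by
  have hS := Bs_symm φ hφ2 n
  have hndV : UND (Bs φ n) ⊤ := UND_top_Bs n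
  have hx2 := toLin'_pow_eq_smul n 2 M z hM2
  have hVne : (⊤ : Submodule F (Fin n → F)) ≠ ⊥ := by
    intro h
    have h1 : finrank F (⊤ : Submodule F (Fin n → F)) = 0 := by rw [h, finrank_bot]
    rw [finrank_top, finrank_stdU] at h1
    omega
  obtain ⟨u₀, -, hu₀⟩ := exists_nonisotropic_in hS hφne ⊤ hndV hVne
  have hzq : z ^ (q + 1) = 1 := by
    apply scalar_norm_one (B := Bs φ n) hφ z _ u₀ hu₀
    intro u v
    rw [← hx2]
    exact u_pow_iso hM 2 u v
  by_cases hw : ∃ w : F, w ^ 2 = z ∧ w ^ (q + 1) = 1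
  · obtain ⟨w, hw2, hwq⟩ := hw
    have hw0 : w ≠ 0 := by
      rintro rfl
      rw [zero_pow (by omega)] at hwq
      exact zero_ne_one hwq
    obtain ⟨y, hy2, hyiso, hyeq, hyinv⟩ :=
      u_normalize (B := Bs φ n) hφ 2 (Matrix.toLin' M) hM z w hx2 hw2 hwq
    by_cases hfit : m ≤ finrank F (LinearMap.ker (aeval y (X - 1 : F[X]))) / 2 +
        finrank F (LinearMap.ker (aeval y (cyclotomic 2 F))) / 2
    · obtain ⟨W, hWm, hWti, hWinv⟩ := exists_ti_invol_u h2 hS hφ2 hφne hyiso hy2 hndV m hfit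
      exact ⟨W, hWm, hWti, hyinv W hWinv⟩
    · exfalso
      have hadd := finrank_invol_add (y := y) h2 hy2
      rw [finrank_stdU] at hadd
      have hv : padicValNat 2 (q + 1) ≤ padicValNat 2 n := by
        rcases h with h | h
        · omega
        · exact h
      have hodd : Odd (finrank F (LinearMap.ker (aeval y (cyclotomic 2 F)))) := by
        rw [Nat.odd_iff]
        omega
      obtain ⟨Y, hY⟩ : ∃ Y : Matrix (Fin n) (Fin n) F, Y = w⁻¹ • M := ⟨_, rfl⟩
      have hYY : Y * Y = 1 := by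
        rw [hY, Matrix.smul_mul, Matrix.mul_smul, ← pow_two, hM2, smul_smul, smul_smul, ← hw2]
        have : w⁻¹ * w⁻¹ * w ^ 2 = 1 := by field_simp
        rw [this, one_smul]
      have hYy : Matrix.toLin' Y = y := by
        rw [hY, hyeq, map_smul]
      have hdetY := Cfsg.Agent.Lib.H11.SuDec.det_of_invol h2 Y hYY
      rw [finrank_ker_add_id_eq, hYy, hodd.neg_one_pow] at hdetY
      have hMY : M = w • Y := by
        rw [hY, smul_smul, mul_inv_cancel₀ hw0, one_smul]
      have h5 : w ^ n = -1 := by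
        have h6 := hdet
        rw [hMY, Matrix.det_smul, Fintype.card_fin, hdetY] at h6
        linear_combination -h6
      exact Cfsg.Agent.Lib.H11.SuDec.pow_ne_neg_one_of_norm h2 (by omega) hv w hwq h5
  · obtain ⟨lam, hl2, hlq⟩ := exists_sqrt_norm hF hq h2 z hzq hw
    apply exists_ti_eigen_u h2 hq hφ hφ2 hM lam hlq _ hndV m (by rw [finrank_stdU]; exact hmn)
    intro v
    have := LinearMap.congr_fun hx2 v
    rw [pow_two, Module.End.mul_apply, LinearMap.smul_apply, Module.End.one_apply] at this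
    rw [this, hl2]

/-- necessity for `r = 2`: an element of `PSU_n(q)` of order two fixing no totally isotropic
`n/2`-space -/
theorem nec_two (hF : Fintype.card F = q ^ 2) (hφ : ∀ x, φ x = x ^ q)
    (hφ2 : ∀ x, φ (φ x) = x) (h2 : (2 : F) ≠ 0) (hq : Odd q)
    (n m : ℕ) (hn : 3 ≤ n) (hmn : 2 * m = n)
    (hv : padicValNat 2 n < padicValNat 2 (q + 1)) :
    ∃ M : Matrix (Fin n) (Fin n) F, IsUn φ n M ∧ M.det = 1 ∧ (∃ z : F, M ^ 2 = z • 1) ∧
      (∀ z : F, M ≠ z • 1) ∧
      ¬ ∃ W : Submodule F (Fin n → F), finrank F W = m ∧ UTI (Bs φ n) W ∧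
        ∀ v ∈ W, Matrix.toLin' M v ∈ W := by
  classical
  have hS := Bs_symm φ hφ2 n
  have hndV : UND (Bs φ n) ⊤ := UND_top_Bs n
  obtain ⟨ν, hν⟩ : ∃ ν, ν = padicValNat 2 n := ⟨_, rfl⟩
  have hdvd : 2 ^ (ν + 1) ∣ q + 1 :=
    (pow_dvd_pow 2 (by omega : ν + 1 ≤ padicValNat 2 (q + 1))).trans pow_padicValNat_dvd
  obtain ⟨w, hword, hwq⟩ := exists_orderOf_of_dvd hF (2 ^ (ν + 1)) hdvd
  have hw0 : w ≠ 0 := by
    rintro rfl
    rw [zero_pow (by omega)] at hwq
    exact zero_ne_one hwq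
  have hu : w ^ (2 ^ ν) = -1 := by
    have h1 : w ^ (2 ^ ν) * w ^ (2 ^ ν) = 1 := by
      rw [← pow_add, ← two_mul, ← pow_succ', ← hword, pow_orderOf_eq_one]
    rcases mul_self_eq_one_iff.mp h1 with h | h
    · exfalso
      exact pow_ne_one_of_lt_orderOf (pow_ne_zero ν (by norm_num))
        (by rw [hword]; exact Nat.pow_lt_pow_right (by norm_num) (by omega)) h
    · exact h
  obtain ⟨n', hn'⟩ : 2 ^ ν ∣ n := by
    rw [hν]
    exact pow_padicValNat_dvd
  have hn'odd : Odd n' := by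
    by_contra hcon
    rw [Nat.not_odd_iff_even] at hcon
    obtain ⟨k, hk⟩ := hcon
    have h3 : 2 ^ (ν + 1) ∣ n := ⟨k, by rw [hn', hk]; ring⟩
    rw [hν] at h3
    haveI : Fact (Nat.Prime 2) := ⟨Nat.prime_two⟩
    exact pow_succ_padicValNat_not_dvd (by omega : n ≠ 0) h3
  have hwn : w ^ n = -1 := by rw [hn', pow_mul, hu, hn'odd.neg_one_pow]
  -- the diagonal involution
  obtain ⟨d, hd⟩ : ∃ d : Fin n → F, d = fun k : Fin n => if (k : ℕ) = 0 then (-1 : F) else 1 := ⟨_, rfl⟩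
  have hdq : ∀ k, d k ^ (q + 1) = 1 := by
    intro k
    rw [hd]
    dsimp only
    split_ifs
    · rw [Even.neg_one_pow]
      obtain ⟨j, hj⟩ := hq
      exact ⟨j + 1, by omega⟩
    · rw [one_pow]
  have hdd : ∀ k, d k * d k = 1 := by
    intro k
    rw [hd]
    dsimp only
    split_ifs
    · rw [neg_mul_neg, one_mul]
    · rw [one_mul]
  have hDD : Matrix.diagonal d * Matrix.diagonal d = 1 := by
    rw [Matrix.diagonal_mul_diagonal, ← Matrix.diagonal_one]
    congr 1
    funext k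
    exact hdd k
  obtain ⟨k0, hk0⟩ : ∃ k0 : Fin n, (k0 : ℕ) = 0 := ⟨⟨0, by omega⟩, rfl⟩
  obtain ⟨k1, hk1⟩ : ∃ k1 : Fin n, (k1 : ℕ) = 1 := ⟨⟨1, by omega⟩, rfl⟩
  have hdk0 : d k0 = -1 := by rw [hd]; dsimp only; rw [if_pos hk0]
  have hdk1 : d k1 = 1 := by rw [hd]; dsimp only; rw [if_neg (by omega)]
  have hdetD : (Matrix.diagonal d).det = -1 := by
    rw [Matrix.det_diagonal, Finset.prod_eq_single k0, hdk0]
    · intro k _ hk
      rw [hd]
      dsimp only
      rw [if_neg]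
      intro h0
      apply hk
      apply Fin.ext
      rw [h0, hk0]
    · intro h
      exact absurd (Finset.mem_univ k0) h
  refine ⟨w • Matrix.diagonal d, isUn_smul_diagonal hφ n w hwq d hdq, ?_, ⟨w * w, ?_⟩, ?_, ?_⟩
  · rw [Matrix.det_smul, Fintype.card_fin, hdetD, hwn]
    ring
  · rw [pow_two, Matrix.smul_mul, Matrix.mul_smul, hDD, smul_smul]
  · intro c hc
    have e0 := congrFun (congrFun hc k0) k0
    have e1 := congrFun (congrFun hc k1) k1
    rw [Matrix.smul_apply, Matrix.diagonal_apply_eq, Matrix.smul_apply, Matrix.one_apply_eq,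
      smul_eq_mul, smul_eq_mul] at e0 e1
    rw [hdk0] at e0
    rw [hdk1] at e1
    have h3 : (2 : F) * w = 0 := by linear_combination e1 - e0
    rcases mul_eq_zero.mp h3 with h | h
    · exact h2 h
    · exact hw0 h
  · rintro ⟨W, hWm, hWti, hWinv⟩
    obtain ⟨y, hy⟩ : ∃ y : End F (Fin n → F), y = Matrix.toLin' (Matrix.diagonal d) := ⟨_, rfl⟩
    have hy2 : y ^ 2 = 1 := by
      rw [hy, ← Matrix.toLin'_pow, pow_two, hDD, Matrix.toLin'_one]
      rfl
    have hyiso : ∀ u v, Bs φ n (y u) (y v) = Bs φ n u v := by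
      have := isUn_smul_diagonal hφ n 1 (one_pow _) d hdq
      rw [one_smul] at this
      rw [hy]
      exact this
    have hWy : ∀ v ∈ W, y v ∈ W := by
      intro v hv
      have h3 := W.smul_mem w⁻¹ (hWinv v hv)
      rw [map_smul, LinearMap.smul_apply, smul_smul, inv_mul_cancel₀ hw0, one_smul] at h3
      rw [hy]
      exact h3
    have hle := ti_invol_le h2 hS hφ2 hyiso hy2 hndV W hWy hWti
    have hadd := finrank_invol_add (y := y) h2 hy2
    rw [finrank_stdU] at hadd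
    have hdetD' := Cfsg.Agent.Lib.H11.SuDec.det_of_invol h2 (Matrix.diagonal d) hDD
    rw [finrank_ker_add_id_eq, ← hy, hdetD] at hdetD'
    have hodd : Odd (finrank F (LinearMap.ker (aeval y (cyclotomic 2 F)))) := by
      by_contra hcon
      rw [Nat.not_odd_iff_even] at hcon
      rw [hcon.neg_one_pow] at hdetD'
      apply h2
      linear_combination -hdetD'
    rw [Nat.odd_iff] at hodd
    omega

end two

end Cfsg.Agent.Lib.H24.Uti
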