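import Mathlib
import Cfsg.Agent.Lib.H24.UtiTwo
import Cfsg.Agent.Lib.H2.Unitary3

set_option autoImplicit false

/-!
# Test elements of odd prime order in the unitary group (helper24)
-/

namespace Cfsg.Agent.Lib.H24.Uti

open Polynomial Module
open Cfsg.Agent.Lib.H11.UFrames (orth mem_orth)
open Cfsg.Agent.Lib.H24.Elus
open Cfsg.Agent.Lib.H13
open Cfsg.Agent.S0837 (Bs Bs_apply Bs_symm Bs_nondeg)

section atomelt

variable {F : Type*} [Field F] [Fintype F] {p q : ℕ} [Fact p.Prime] [CharP F p]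
  {φ : F →+* F}

theorem dvd_card_GU (hF : Fintype.card F = q ^ 2) (r : ℕ) [Fact r.Prime] (hrp : r ≠ p) :
    r ∣ Nat.card (Cfsg.GU (cU q r) F q) := by
  classical
  have hr : r.Prime := Fact.out
  have hq0 : 0 < q := q_pos hF
  have hc0 : 0 < cU q r := cU_pos hF hrp
  have hi0 : 0 < orderOf (q : ZMod r) := by
    have h1 : 0 < orderOf ((q ^ 2 : ℕ) : ZMod r) := CycFactor.orderOf_pos hF hr hrp
    rw [Nat.cast_pow] at h1
    exact (orderOf_pos_iff.mpr (IsOfFinOrder.of_pow (orderOf_pos_iff.mp h1) (by norm_num)))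
  have hneg := neg_pow_cU (q := q) (r := r) hi0
  rw [Cfsg.Agent.Lib.H2.Unitary.card_GU hF, Cfsg.Agent.Lib.H2.Unitary.ordGU]
  apply Dvd.dvd.mul_left
  apply Dvd.dvd.trans _ (Finset.dvd_prod_of_mem _ (Finset.mem_range.mpr (by omega :
    cU q r - 1 < cU q r)))
  have h1 : cU q r - 1 + 1 = cU q r := by omega
  rw [h1]
  split_ifs with he
  · have hodd : Odd (cU q r) := by
      obtain ⟨k, hk⟩ := he
      exact ⟨k, by omega⟩
    rw [hodd.neg_pow] at hneg
    rw [← ZMod.natCast_eq_zero_iff, Nat.cast_add, Nat.cast_pow, Nat.cast_one]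
    linear_combination -hneg
  · have hev : Even (cU q r) := by
      rw [← Nat.not_odd_iff_even]
      intro hodd
      apply he
      obtain ⟨k, hk⟩ := hodd
      exact ⟨k, by omega⟩
    rw [hev.neg_pow] at hneg
    rw [← ZMod.natCast_eq_zero_iff, Nat.cast_sub (Nat.one_le_pow _ q hq0), Nat.cast_pow,
      Nat.cast_one, hneg, sub_self]

theorem isUn_of_mem_GU (hφ : ∀ x, φ x = x ^ q) (n : ℕ) (g : Matrix.GeneralLinearGroup (Fin n) F)
    (hg : g ∈ Cfsg.GU n F q) : IsUn φ n (g : Matrix (Fin n) (Fin n) F) := by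
  intro u v
  rw [Bs_eq_herm hφ, Bs_eq_herm hφ, Matrix.toLin'_apply, Matrix.toLin'_apply]
  exact (Cfsg.Agent.Lib.H2.Unitary.mem_GU_iff g).mp hg v u

/-- an element of order `r` of `GU_c(q)`, `c = cU q r` -/
theorem exists_u_atom (hF : Fintype.card F = q ^ 2) (hφ : ∀ x, φ x = x ^ q) (r : ℕ)
    [Fact r.Prime] (hrp : r ≠ p) :
    ∃ Y : Matrix (Fin (cU q r)) (Fin (cU q r)) F, IsUn φ (cU q r) Y ∧ Y ^ r = 1 ∧ Y ≠ 1 := by
  classical
  have hr : r.Prime := Fact.out
  have hdvd := dvd_card_GU hF r hrp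
  obtain ⟨g, hg⟩ := exists_prime_orderOf_dvd_card' r hdvd
  refine ⟨((g : Matrix.GeneralLinearGroup (Fin (cU q r)) F) :
    Matrix (Fin (cU q r)) (Fin (cU q r)) F), isUn_of_mem_GU hφ _ _ g.2, ?_, ?_⟩
  · have := pow_orderOf_eq_one g
    rw [hg] at this
    have h2 := congrArg (fun x : ↥(Cfsg.GU (cU q r) F q) =>
      ((x : Matrix.GeneralLinearGroup (Fin (cU q r)) F) :
        Matrix (Fin (cU q r)) (Fin (cU q r)) F)) this
    exact h2
  · intro h
    have h1 : g = 1 := by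
      apply Subtype.ext
      apply Units.ext
      exact h
    rw [h1, orderOf_one] at hg
    exact hr.one_lt.ne hg

theorem toLin'_pow_eq_one (n r : ℕ) (M : Matrix (Fin n) (Fin n) F) (h : M ^ r = 1) :
    (Matrix.toLin' M) ^ r = 1 := by
  rw [← Matrix.toLin'_pow, h, Matrix.toLin'_one]
  rfl

theorem pow_eq_one_of_aeval (n r : ℕ) (M : Matrix (Fin n) (Fin n) F)
    (h : aeval (Matrix.toLin' M) (X ^ r - 1 : F[X]) = 0) : M ^ r = 1 := by
  rw [map_sub, map_pow, aeval_X, map_one, sub_eq_zero, ← Matrix.toLin'_pow] at h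
  apply Matrix.toLin'.injective
  rw [h, Matrix.toLin'_one]
  rfl

theorem aeval_of_pow_eq_one (n r : ℕ) (M : Matrix (Fin n) (Fin n) F) (h : M ^ r = 1) :
    aeval (Matrix.toLin' M) (X ^ r - 1 : F[X]) = 0 := by
  rw [map_sub, map_pow, aeval_X, map_one, toLin'_pow_eq_one n r M h, sub_self]

/-- an element of order `r` of the unitary group has no nonzero fixed vectors in dimension `c` -/
theorem atom_fix_zero (hF : Fintype.card F = q ^ 2) (hφ : ∀ x, φ x = x ^ q)
    (hφ2 : ∀ x, φ (φ x) = x) (hφne : φ ≠ RingHom.id F) {r : ℕ} [Fact r.Prime] (hrp : r ≠ p)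
    (hr2 : r ≠ 2) (Y : Matrix (Fin (cU q r)) (Fin (cU q r)) F) (hY : IsUn φ (cU q r) Y)
    (hYr : Y ^ r = 1) (hY1 : Y ≠ 1) :
    finrank F (LinearMap.ker (aeval (Matrix.toLin' Y) (X - 1 : F[X]))) = 0 := by
  classical
  have hr : r.Prime := Fact.out
  have hrF : (r : F) ≠ 0 := CycFactor.natCast_ne_zero hr hrp
  have hc0 : 0 < cU q r := cU_pos hF hrp
  obtain ⟨ψ, hψ⟩ : ∃ ψ : End F (Fin (cU q r) → F), ψ = Matrix.toLin' Y := ⟨_, rfl⟩
  rw [← hψ]
  have hψr : ψ ^ r = 1 := by rw [hψ]; exact toLin'_pow_eq_one _ r Y hYr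
  have hiso : ∀ u v, Bs φ (cU q r) (ψ u) (ψ v) = Bs φ (cU q r) u v := by rw [hψ]; exact hY
  have htop : ∀ v ∈ (⊤ : Submodule F (Fin (cU q r) → F)), ψ v ∈ (⊤ : Submodule F _) :=
    fun _ _ => Submodule.mem_top
  have hdvd := cdvd_finrank_cyc_part_u hF hφ hφ2 hφne (Bs_symm φ hφ2 _) hrp hr2 hiso hψr ⊤ htop
    (UND_top_Bs _)
  have hsplit := finrank_split_fix hrF hψr ⊤ htop
  rw [top_inf_eq] at hdvd
  rw [top_inf_eq, top_inf_eq, finrank_top, finrank_stdU] at hsplit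
  by_contra hne
  have hpos : 0 < finrank F (LinearMap.ker (aeval ψ (X - 1 : F[X]))) := Nat.pos_of_ne_zero hne
  have hcyc0 : finrank F (LinearMap.ker (aeval ψ (cyclotomic r F))) = 0 := by
    by_contra h0
    have := Nat.le_of_dvd (Nat.pos_of_ne_zero h0) hdvd
    omega
  have heq : finrank F (LinearMap.ker (aeval ψ (X - 1 : F[X]))) =
      finrank F (Fin (cU q r) → F) := by
    rw [finrank_stdU]
    omega
  have htop' : LinearMap.ker (aeval ψ (X - 1 : F[X])) = ⊤ := Submodule.eq_top_of_finrank_eq heq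
  apply hY1
  apply Matrix.toLin'.injective
  apply LinearMap.ext
  intro v
  have hv : v ∈ LinearMap.ker (aeval ψ (X - 1 : F[X])) := by rw [htop']; exact Submodule.mem_top
  rw [mem_fix_iff] at hv
  rw [← hψ, hv, Matrix.toLin'_one, LinearMap.id_apply]

/-- elements of order `r` have determinant one when `r ∤ q² - 1` -/
theorem det_eq_one_of_pow (hF : Fintype.card F = q ^ 2) {r : ℕ} [Fact r.Prime]
    (hi : 2 < orderOf (q : ZMod r)) (n : ℕ) (M : Matrix (Fin n) (Fin n) F) (hM : M ^ r = 1) :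
    M.det = 1 := by
  have hr : r.Prime := Fact.out
  have hq0 : 0 < q := q_pos hF
  have h1 : M.det ^ r = 1 := by rw [← Matrix.det_pow, hM, Matrix.det_one]
  have hd0 : M.det ≠ 0 := by
    intro h
    rw [h, zero_pow hr.ne_zero] at h1
    exact zero_ne_one h1
  have h2 : M.det ^ (q ^ 2 - 1) = 1 := pow_sq_sub_one hF _ hd0
  have hcop : Nat.Coprime r (q ^ 2 - 1) := by
    rw [Nat.Prime.coprime_iff_not_dvd hr]
    intro h
    rw [← ZMod.natCast_eq_zero_iff, Nat.cast_sub (Nat.one_le_pow _ q hq0), Nat.cast_pow,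
      Nat.cast_one, sub_eq_zero] at h
    have := orderOf_le_of_pow_eq_one (by norm_num) h
    omega
  have h3 := pow_gcd_eq_one.mpr ⟨h1, h2⟩
  rwa [Nat.Coprime.gcd_eq_one hcop, pow_one] at h3

theorem finrank_fix_one (n : ℕ) :
    finrank F (LinearMap.ker (aeval (Matrix.toLin' (1 : Matrix (Fin n) (Fin n) F))
      (X - 1 : F[X]))) = n := by
  have h1 : aeval (Matrix.toLin' (1 : Matrix (Fin n) (Fin n) F)) (X - 1 : F[X]) = 0 := by
    rw [map_sub, aeval_X, aeval_one, Matrix.toLin'_one]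
    exact sub_self _
  rw [h1, LinearMap.ker_zero, finrank_top, finrank_stdU]

/-- the first test element: `s` atoms and an `e`-dimensional fixed space -/
theorem exists_u_test1 (hF : Fintype.card F = q ^ 2) (hφ : ∀ x, φ x = x ^ q)
    (hφ2 : ∀ x, φ (φ x) = x) (hφne : φ ≠ RingHom.id F) {r : ℕ} [Fact r.Prime] (hrp : r ≠ p)
    (hr2 : r ≠ 2) (e : ℕ) :
    ∀ (s d : ℕ), d = s * cU q r + e → ∃ M : Matrix (Fin d) (Fin d) F, IsUn φ d M ∧ M ^ r = 1 ∧
      finrank F (LinearMap.ker (aeval (Matrix.toLin' M) (X - 1 : F[X]))) = e := by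
  intro s
  induction s with
  | zero =>
    intro d hd
    rw [zero_mul, zero_add] at hd
    subst hd
    exact ⟨1, isUn_one d, one_pow r, finrank_fix_one d⟩
  | succ s ih =>
    intro d hd
    obtain ⟨Y, hY, hYr, hY1⟩ := exists_u_atom (φ := φ) hF hφ r hrp
    have hYfix := atom_fix_zero hF hφ hφ2 hφne hrp hr2 Y hY hYr hY1
    obtain ⟨M', hM', hM'r, hM'fix⟩ := ih (s * cU q r + e) rfl
    obtain ⟨M, hM, hMker, hMz, -⟩ := exists_u_sum hφne hφ2 (cU q r) (s * cU q r + e) Y M' hY hM'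
    have hd' : d = cU q r + (s * cU q r + e) := by rw [hd]; ring
    subst hd'
    refine ⟨M, hM, ?_, ?_⟩
    · exact pow_eq_one_of_aeval _ r M (hMz _ (aeval_of_pow_eq_one _ r Y hYr)
        (aeval_of_pow_eq_one _ r M' hM'r))
    · rw [hMker, hYfix, hM'fix, zero_add]

end atomelt

end Cfsg.Agent.Lib.H24.Uti
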