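import Mathlib
import Cfsg.Agent.Lib.H24.UtiTest

set_option autoImplicit false

/-!
# Atoms of every type and multiplicity-free orthogonal sums (helper24)
-/

namespace Cfsg.Agent.Lib.H24.Uti

open Polynomial Module
open Cfsg.Agent.Lib.H11.UFrames (orth mem_orth)
open Cfsg.Agent.Lib.H24.Elus
open Cfsg.Agent.Lib.H13
open Cfsg.Agent.S0837 (Bs Bs_apply Bs_symm Bs_nondeg)

section poly

/-- the roots of a factor of the cyclotomic polynomial are powers of those of another -/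
theorem exists_pow_root {F : Type*} [Field F] (r : ℕ) (hr0 : 0 < r) (hrF : (r : F) ≠ 0)
    (s₀ s : F[X]) (hs₀ : Irreducible s₀) (hs₀d : s₀ ∣ cyclotomic r F)
    (hsd : s ∣ cyclotomic r F) (hsdeg : s.natDegree ≠ 0) : ∃ k : ℕ, s₀ ∣ s.comp (X ^ k) := by
  have : Fact (Irreducible s₀) := ⟨hs₀⟩
  obtain ⟨ζ, hζ⟩ : ∃ ζ : AdjoinRoot s₀, ζ = AdjoinRoot.root s₀ := ⟨_, rfl⟩
  have hrL : ((r : ℕ) : AdjoinRoot s₀) ≠ 0 := by
    rw [← map_natCast (algebraMap F (AdjoinRoot s₀))]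
    exact (_root_.map_ne_zero _).mpr hrF
  have : NeZero ((r : ℕ) : AdjoinRoot s₀) := ⟨hrL⟩
  have h1 : aeval ζ (cyclotomic r F) = 0 := by
    obtain ⟨g, hg⟩ := hs₀d
    rw [hg, map_mul, hζ, AdjoinRoot.aeval_eq s₀, AdjoinRoot.mk_self, zero_mul]
  have hprim : IsPrimitiveRoot ζ r := by
    rw [← isRoot_cyclotomic_iff, IsRoot.def, ← map_cyclotomic r (algebraMap F (AdjoinRoot s₀)),
      eval_map_algebraMap]
    exact h1
  have hdvd : s.map (algebraMap F (AdjoinRoot s₀)) ∣ (X ^ r - C 1 : (AdjoinRoot s₀)[X]) := by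
    have h2 : s ∣ (X ^ r - 1 : F[X]) := hsd.trans (cyclotomic.dvd_X_pow_sub_one r F)
    have := Polynomial.map_dvd (algebraMap F (AdjoinRoot s₀)) h2
    simpa using this
  have hsplit := (X_pow_sub_one_splits hprim).of_dvd (X_pow_sub_C_ne_zero hr0 1) hdvd
  obtain ⟨ξ, hξ⟩ := hsplit.exists_eval_eq_zero (by
    rw [degree_map]
    exact fun h => hsdeg (natDegree_eq_zero_iff_degree_le_zero.mpr (le_of_eq h)))
  have hξr : ξ ^ r = 1 := by
    obtain ⟨g, hg⟩ := hdvd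
    have := congrArg (eval ξ) hg
    rw [eval_mul, hξ, zero_mul, eval_sub, eval_pow, eval_X, eval_C] at this
    exact sub_eq_zero.mp this
  have : NeZero r := ⟨hr0.ne'⟩
  obtain ⟨k, -, hk⟩ := hprim.eq_pow_of_pow_eq_one hξr
  refine ⟨k, ?_⟩
  rw [← AdjoinRoot.mk_eq_zero, ← AdjoinRoot.aeval_eq, aeval_comp, map_pow, aeval_X, ← hζ, hk,
    ← eval_map_algebraMap]
  exact hξ

variable {F : Type*} [Field F] {V : Type*} [AddCommGroup V] [Module F V]

theorem ker_eq_bot_of_coprime (ψ : End F V) (p g : F[X]) (hcop : IsCoprime p g)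
    (hg : aeval ψ g = 0) : LinearMap.ker (aeval ψ p) = ⊥ := by
  have h := (disjoint_ker_aeval_of_isCoprime ψ hcop).eq_bot
  rwa [hg, LinearMap.ker_zero, inf_top_eq] at h

end poly

section types

variable {F : Type*} [Field F] [Fintype F] {p q : ℕ} [Fact p.Prime] [CharP F p]
  {φ : F →+* F}

theorem isUn_pow {n : ℕ} {M : Matrix (Fin n) (Fin n) F} (hM : IsUn φ n M) (k : ℕ) :
    IsUn φ n (M ^ k) := by
  intro u v
  rw [Matrix.toLin'_pow]
  exact u_pow_iso hM k u v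

theorem cU_eq_of_mod (q r : ℕ) (hi : orderOf (q : ZMod r) % 4 = 2) :
    cU q r = orderOf ((q ^ 2 : ℕ) : ZMod r) := by
  unfold cU
  rw [if_pos hi]

/-- an element of order `r` of `GU_c(q)` is annihilated by a single irreducible factor when
`i ≡ 2 (mod 4)` -/
theorem atom_single_type [DecidableEq F] (hF : Fintype.card F = q ^ 2) (hφ : ∀ x, φ x = x ^ q)
    (hφ2 : ∀ x, φ (φ x) = x) (hφne : φ ≠ RingHom.id F) {r : ℕ} [Fact r.Prime] (hrp : r ≠ p)
    (hr2 : r ≠ 2) (hi : orderOf (q : ZMod r) % 4 = 2)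
    (Y : Matrix (Fin (cU q r)) (Fin (cU q r)) F) (hY : IsUn φ (cU q r) Y)
    (hYr : Y ^ r = 1) (hY1 : Y ≠ 1) :
    ∃ s₀ : CycFactor.S r F, aeval (Matrix.toLin' Y) s₀.1 = 0 := by
  have hr : r.Prime := Fact.out
  have hrF : (r : F) ≠ 0 := CycFactor.natCast_ne_zero hr hrp
  have hc0 : 0 < cU q r := cU_pos hF hrp
  have hfix := atom_fix_zero hF hφ hφ2 hφne hrp hr2 Y hY hYr hY1
  obtain ⟨ψ, hψ⟩ : ∃ ψ : End F (Fin (cU q r) → F), ψ = Matrix.toLin' Y := ⟨_, rfl⟩
  rw [← hψ] at hfix ⊢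
  have hψr : ψ ^ r = 1 := by rw [hψ]; exact toLin'_pow_eq_one _ r Y hYr
  have htop : ∀ v ∈ (⊤ : Submodule F (Fin (cU q r) → F)), ψ v ∈ (⊤ : Submodule F _) :=
    fun _ _ => Submodule.mem_top
  have hsplit := finrank_split_fix hrF hψr ⊤ htop
  rw [top_inf_eq, top_inf_eq, finrank_top, finrank_stdU, hfix, zero_add] at hsplit
  have hcyc : LinearMap.ker (aeval ψ (cyclotomic r F)) = ⊤ :=
    Submodule.eq_top_of_finrank_eq (by rw [hsplit, finrank_stdU])
  have hne : (⊤ : Submodule F (Fin (cU q r) → F)) ≠ ⊥ := by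
    intro h
    have h1 : finrank F (⊤ : Submodule F (Fin (cU q r) → F)) = 0 := by rw [h, finrank_bot]
    rw [finrank_top, finrank_stdU] at h1
    omega
  obtain ⟨s₀, hs₀⟩ := exists_factor (q := q ^ 2) hF hrp hψr ⊤ htop (by rw [hcyc]) hne
  rw [top_inf_eq] at hs₀
  refine ⟨s₀, ?_⟩
  have hdvd := dvd_finrank_of_le_ker ψ s₀.1 (CycFactor.irreducible_S s₀)
    (LinearMap.ker (aeval ψ s₀.1)) (SSClass.ker_aeval_invariant ψ s₀.1) le_rfl
  rw [CycFactor.natDegree_S (q := q ^ 2) hF hr hrp s₀, ← cU_eq_of_mod q r hi] at hdvd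
  have hpos : 0 < finrank F (LinearMap.ker (aeval ψ s₀.1)) := by
    rw [Nat.pos_iff_ne_zero, Ne, Submodule.finrank_eq_zero]
    exact hs₀
  have hle := Nat.le_of_dvd hpos hdvd
  have hle2 := Submodule.finrank_le (LinearMap.ker (aeval ψ s₀.1))
  rw [finrank_stdU] at hle2
  have htop' : LinearMap.ker (aeval ψ s₀.1) = ⊤ :=
    Submodule.eq_top_of_finrank_eq (by rw [finrank_stdU]; omega)
  exact LinearMap.ker_eq_top.mp htop'

/-- atoms of every type when `i ≡ 2 (mod 4)` -/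
theorem exists_u_atom_type [DecidableEq F] (hF : Fintype.card F = q ^ 2) (hφ : ∀ x, φ x = x ^ q)
    (hφ2 : ∀ x, φ (φ x) = x) (hφne : φ ≠ RingHom.id F) {r : ℕ} [Fact r.Prime] (hrp : r ≠ p)
    (hr2 : r ≠ 2) (hi : orderOf (q : ZMod r) % 4 = 2) (s : CycFactor.S r F) :
    ∃ Y : Matrix (Fin (cU q r)) (Fin (cU q r)) F, IsUn φ (cU q r) Y ∧ Y ^ r = 1 ∧
      aeval (Matrix.toLin' Y) s.1 = 0 := by
  have hr : r.Prime := Fact.out
  have hrF : (r : F) ≠ 0 := CycFactor.natCast_ne_zero hr hrp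
  obtain ⟨Y, hY, hYr, hY1⟩ := exists_u_atom (φ := φ) hF hφ r hrp
  obtain ⟨s₀, hs₀⟩ := atom_single_type hF hφ hφ2 hφne hrp hr2 hi Y hY hYr hY1
  have hsdeg : s.1.natDegree ≠ 0 := by
    rw [CycFactor.natDegree_S (q := q ^ 2) hF hr hrp s]
    exact (CycFactor.orderOf_pos hF hr hrp).ne'
  obtain ⟨k, g, hg⟩ := exists_pow_root r hr.pos hrF s₀.1 s.1 (CycFactor.irreducible_S s₀)
    (CycFactor.dvd_S s₀) (CycFactor.dvd_S s) hsdeg
  refine ⟨Y ^ k, isUn_pow hY k, ?_, ?_⟩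
  · rw [← pow_mul, mul_comm, pow_mul, hYr, one_pow]
  · have h1 : aeval (Matrix.toLin' Y) (s.1.comp (X ^ k)) = 0 := by
      rw [hg, map_mul, hs₀, zero_mul]
    rw [aeval_comp, map_pow, aeval_X] at h1
    rw [Matrix.toLin'_pow]
    exact h1

end types

section multfree

variable {F : Type*} [Field F] [Fintype F] {φ : F →+* F}

/-- multiplicity-free orthogonal sums of atoms -/
theorem exists_u_multfree [DecidableEq F] (hφne : φ ≠ RingHom.id F) (hφ2 : ∀ x, φ (φ x) = x)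
    (r c₀ : ℕ) (A : F[X] → Matrix (Fin c₀) (Fin c₀) F) (e : ℕ) (T : Finset F[X]) :
    (∀ g ∈ T, IsUn φ c₀ (A g) ∧ (A g) ^ r = 1 ∧ aeval (Matrix.toLin' (A g)) g = 0 ∧
      IsCoprime g (X - 1)) →
    (∀ g ∈ T, ∀ g' ∈ T, g ≠ g' → IsCoprime g g') →
    ∀ d, d = T.card * c₀ + e → ∃ M : Matrix (Fin d) (Fin d) F, IsUn φ d M ∧ M ^ r = 1 ∧
      M.det = ∏ g ∈ T, (A g).det ∧
      finrank F (LinearMap.ker (aeval (Matrix.toLin' M) (X - 1 : F[X]))) = e ∧
      ∀ f : F[X], IsCoprime f (X - 1) → (∀ g ∈ T, f = g ∨ IsCoprime f g) →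
        finrank F (LinearMap.ker (aeval (Matrix.toLin' M) f)) = if f ∈ T then c₀ else 0 := by
  induction T using Finset.induction_on with
  | empty =>
    intro _ _ d hd
    rw [Finset.card_empty, zero_mul, zero_add] at hd
    subst hd
    refine ⟨1, isUn_one d, one_pow r, by rw [Matrix.det_one, Finset.prod_empty],
      finrank_fix_one d, ?_⟩
    intro f hf _
    rw [if_neg (Finset.notMem_empty f)]
    have h1 : aeval (Matrix.toLin' (1 : Matrix (Fin d) (Fin d) F)) (X - 1 : F[X]) = 0 := by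
      rw [map_sub, aeval_X, aeval_one, Matrix.toLin'_one]
      exact sub_self _
    rw [ker_eq_bot_of_coprime _ f (X - 1) hf h1, finrank_bot]
  | insert g₁ T hg₁ ih =>
    intro hT hpair d hd
    obtain ⟨hA₁, hA₁r, hA₁g, hg₁cop⟩ := hT g₁ (Finset.mem_insert_self g₁ T)
    obtain ⟨M', hM', hM'r, hM'det, hM'fix, hM'ker⟩ := ih
      (fun g hg => hT g (Finset.mem_insert_of_mem hg))
      (fun g hg g' hg' => hpair g (Finset.mem_insert_of_mem hg) g' (Finset.mem_insert_of_mem hg'))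
      (T.card * c₀ + e) rfl
    obtain ⟨M, hM, hMker, hMz, hMdet⟩ := exists_u_sum hφne hφ2 c₀ (T.card * c₀ + e) (A g₁) M'
      hA₁ hM'
    have hd' : d = c₀ + (T.card * c₀ + e) := by
      rw [hd, Finset.card_insert_of_notMem hg₁]
      ring
    subst hd'
    refine ⟨M, hM, ?_, ?_, ?_, ?_⟩
    · exact pow_eq_one_of_aeval _ r M (hMz _ (aeval_of_pow_eq_one _ r _ hA₁r)
        (aeval_of_pow_eq_one _ r M' hM'r))
    · rw [hMdet, hM'det, Finset.prod_insert hg₁]
    · rw [hMker, hM'fix, ker_eq_bot_of_coprime _ (X - 1) g₁ hg₁cop.symm hA₁g, finrank_bot,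
        zero_add]
    · intro f hf hfT
      rw [hMker]
      by_cases hfg : f = g₁
      · subst hfg
        rw [hA₁g, LinearMap.ker_zero, finrank_top, finrank_stdU,
          hM'ker f hf (fun g hg => Or.inr (hpair f (Finset.mem_insert_self f T) g
            (Finset.mem_insert_of_mem hg) (by rintro rfl; exact hg₁ hg))),
          if_neg hg₁, if_pos (Finset.mem_insert_self f T), add_zero]
      · have hcop : IsCoprime f g₁ := (hfT g₁ (Finset.mem_insert_self g₁ T)).resolve_left hfg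
        rw [ker_eq_bot_of_coprime _ f g₁ hcop hA₁g, finrank_bot, zero_add,
          hM'ker f hf (fun g hg => hfT g (Finset.mem_insert_of_mem hg))]
        by_cases hfT' : f ∈ T
        · rw [if_pos hfT', if_pos (Finset.mem_insert_of_mem hfT')]
        · rw [if_neg hfT', if_neg]
          rw [Finset.mem_insert]
          rintro (h | h)
          · exact hfg h
          · exact hfT' h

end multfree

end Cfsg.Agent.Lib.H24.Uti
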