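import Mathlib
import Cfsg.Agent.Lib.H24.UtiTypes

set_option autoImplicit false

/-!
# Invariant totally isotropic subspaces of the test elements (helper24)
-/

namespace Cfsg.Agent.Lib.H24.Uti

open Polynomial Module
open Cfsg.Agent.Lib.H11.UFrames (orth mem_orth)
open Cfsg.Agent.Lib.H24.Elus
open Cfsg.Agent.Lib.H13
open Cfsg.Agent.S0837 (Bs Bs_apply Bs_symm Bs_nondeg)

section abstract

variable {F : Type*} [Field F] [Fintype F] {p q : ℕ} [Fact p.Prime] [CharP F p]
  {φ : F →+* F} {V : Type*} [AddCommGroup V] [Module F V]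
  [Module.Finite F V] {B : V →ₛₗ[φ] V →ₗ[F] F} {y : End F V}

/-- the dimension of an invariant totally isotropic subspace: a multiple of `b` plus at most half
of the dimension of the fixed space -/
theorem ti_dim_of_fix (hF : Fintype.card F = q ^ 2) (hφ2 : ∀ x, φ (φ x) = x) (hS : B.IsSymm)
    {r : ℕ} [Fact r.Prime] (hrp : r ≠ p) (hiso : ∀ u v, B (y u) (y v) = B u v) (hy : y ^ r = 1)
    (hndV : UND B ⊤) (W : Submodule F V) (hWinv : ∀ v ∈ W, y v ∈ W) (hWti : UTI B W) :
    ∃ f k : ℕ, finrank F W = orderOf ((q ^ 2 : ℕ) : ZMod r) * k + f ∧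
      2 * f ≤ finrank F (LinearMap.ker (aeval y (X - 1 : F[X]))) := by
  classical
  have hr : r.Prime := Fact.out
  have hrF : (r : F) ≠ 0 := CycFactor.natCast_ne_zero hr hrp
  have htopinv : ∀ v ∈ (⊤ : Submodule F V), y v ∈ (⊤ : Submodule F V) := fun _ _ =>
    Submodule.mem_top
  have hFxnd : UND B (LinearMap.ker (aeval y (X - 1 : F[X]))) := by
    have := UND_fix_part hS hφ2 hiso hrF hy ⊤ htopinv hndV
    rwa [top_inf_eq] at this
  have h1 := finrank_split_fix hrF hy W hWinv
  have h3 := UTI_finrank_le B hφ2 _ (W ⊓ LinearMap.ker (aeval y (X - 1 : F[X]))) hFxnd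
    inf_le_right (UTI_mono B inf_le_left hWti)
  obtain ⟨k, hk⟩ := dvd_finrank_of_le_cyc (q := q ^ 2) hF hrp hy
    (W ⊓ LinearMap.ker (aeval y (cyclotomic r F))) (inf_ker_invariant W hWinv _) inf_le_right
  exact ⟨finrank F ↥(W ⊓ LinearMap.ker (aeval y (X - 1 : F[X]))), k, by rw [← h1, hk, add_comm],
    h3⟩

/-- if every irreducible factor of the cyclotomic polynomial occurs at most once in `y` (and
`i ≡ 2 (mod 4)`) then the invariant totally isotropic subspaces lie in the fixed space -/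
theorem ti_le_fix_of_mult_free [DecidableEq F] (hF : Fintype.card F = q ^ 2)
    (hφ : ∀ x, φ x = x ^ q) (hφ2 : ∀ x, φ (φ x) = x) (hS : B.IsSymm)
    {r : ℕ} [Fact r.Prime] (hrp : r ≠ p) (hiso : ∀ u v, B (y u) (y v) = B u v) (hy : y ^ r = 1)
    (hndV : UND B ⊤) (hi : orderOf (q : ZMod r) % 4 = 2)
    (hmult : ∀ s : CycFactor.S r F, finrank F (LinearMap.ker (aeval y s.1)) ≤
      orderOf ((q ^ 2 : ℕ) : ZMod r))
    (W : Submodule F V) (hWinv : ∀ v ∈ W, y v ∈ W) (hWti : UTI B W) :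
    2 * finrank F W ≤ finrank F (LinearMap.ker (aeval y (X - 1 : F[X]))) := by
  have hr : r.Prime := Fact.out
  have hrF : (r : F) ≠ 0 := CycFactor.natCast_ne_zero hr hrp
  have htopinv : ∀ v ∈ (⊤ : Submodule F V), y v ∈ (⊤ : Submodule F V) := fun _ _ =>
    Submodule.mem_top
  have hFxnd : UND B (LinearMap.ker (aeval y (X - 1 : F[X]))) := by
    have := UND_fix_part hS hφ2 hiso hrF hy ⊤ htopinv hndV
    rwa [top_inf_eq] at this
  have h1 := finrank_split_fix hrF hy W hWinv
  have h3 := UTI_finrank_le B hφ2 _ (W ⊓ LinearMap.ker (aeval y (X - 1 : F[X]))) hFxnd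
    inf_le_right (UTI_mono B inf_le_left hWti)
  have hcyc0 : W ⊓ LinearMap.ker (aeval y (cyclotomic r F)) = ⊥ := by
    by_contra hne
    obtain ⟨s, hs⟩ := exists_factor (q := q ^ 2) hF hrp hy
      (W ⊓ LinearMap.ker (aeval y (cyclotomic r F))) (inf_ker_invariant W hWinv _) inf_le_right hne
    obtain ⟨A', hA'⟩ : ∃ A', A' = W ⊓ LinearMap.ker (aeval y (cyclotomic r F)) ⊓
        LinearMap.ker (aeval y s.1) := ⟨_, rfl⟩
    rw [← hA'] at hs
    have hA'inv : ∀ v ∈ A', y v ∈ A' := by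
      rw [hA']
      exact inf_ker_invariant _ (inf_ker_invariant W hWinv _) _
    have hA'le : A' ≤ LinearMap.ker (aeval y s.1) := by
      rw [hA']
      exact inf_le_right
    have hA'W : A' ≤ W := by
      rw [hA']
      exact inf_le_left.trans inf_le_left
    have hdvd := dvd_finrank_of_le_ker y s.1 (CycFactor.irreducible_S s) A' hA'inv hA'le
    rw [CycFactor.natDegree_S (q := q ^ 2) hF hr hrp s] at hdvd
    have hpos : 0 < finrank F A' := by
      rw [Nat.pos_iff_ne_zero, Ne, Submodule.finrank_eq_zero]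
      exact hs
    have hle := Nat.le_of_dvd hpos hdvd
    have heq : A' = LinearMap.ker (aeval y s.1) :=
      Submodule.eq_of_le_of_finrank_le hA'le ((hmult s).trans hle)
    have hnd := UND_ker_factor hF hφ hφ2 hS hrp hiso hy hi s ⊤ htopinv hndV
    rw [top_inf_eq, ← heq] at hnd
    obtain ⟨u, hu, hu0⟩ := (Submodule.ne_bot_iff A').mp hs
    exact hu0 (hnd u hu (fun v hv => hWti u (hA'W hu) v (hA'W hv)))
  rw [hcyc0, finrank_bot, add_zero] at h1
  omega

end abstract

section invset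

variable {F : Type*} [Field F] [Fintype F] {q : ℕ}

/-- inverse-closed sets of nontrivial `r`-th roots of unity with product one -/
theorem exists_inv_closed_set [DecidableEq F] (hF : Fintype.card F = q ^ 2) (r : ℕ)
    [Fact r.Prime] (hr2 : r ≠ 2) (hrq : r ∣ q + 1) :
    ∀ h, 2 * h ≤ r - 1 → ∃ Λ : Finset F, (∀ μ ∈ Λ, μ ^ r = 1 ∧ μ ≠ 1) ∧ (∀ μ ∈ Λ, μ⁻¹ ∈ Λ) ∧
      Λ.card = 2 * h ∧ ∏ μ ∈ Λ, μ = 1 := by
  have hr : r.Prime := Fact.out
  obtain ⟨w, hword, -⟩ := exists_orderOf_of_dvd hF r hrq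
  have hprim : IsPrimitiveRoot w r := by
    rw [← hword]
    exact IsPrimitiveRoot.orderOf w
  have hcardP : ((Polynomial.nthRootsFinset r (1 : F)).erase 1).card = r - 1 := by
    rw [Finset.card_erase_of_mem ((Polynomial.mem_nthRootsFinset hr.pos 1).mpr (one_pow r)),
      hprim.card_nthRootsFinset]
  intro h
  induction h with
  | zero =>
    intro _
    exact ⟨∅, fun μ hμ => absurd hμ (Finset.notMem_empty μ),
      fun μ hμ => absurd hμ (Finset.notMem_empty μ), rfl, Finset.prod_empty⟩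
  | succ h ih =>
    intro hh
    obtain ⟨Λ, hΛ1, hΛ2, hΛc, hΛp⟩ := ih (by omega)
    obtain ⟨μ, hμP, hμΛ⟩ : ∃ μ, μ ∈ (Polynomial.nthRootsFinset r (1 : F)).erase 1 ∧ μ ∉ Λ :=
      Finset.exists_mem_notMem_of_card_lt_card (by rw [hcardP, hΛc]; omega)
    rw [Finset.mem_erase, Polynomial.mem_nthRootsFinset hr.pos] at hμP
    obtain ⟨hμ1, hμr⟩ := hμP
    have hμ0 : μ ≠ 0 := by
      rintro rfl
      rw [zero_pow hr.ne_zero] at hμr
      exact zero_ne_one hμr
    have hinvΛ : μ⁻¹ ∉ Λ := by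
      intro hcon
      have := hΛ2 _ hcon
      rw [inv_inv] at this
      exact hμΛ this
    have hinvne : μ ≠ μ⁻¹ := by
      intro hcon
      have h2 : μ ^ 2 = 1 := by
        rw [pow_two]
        nth_rewrite 2 [hcon]
        exact mul_inv_cancel₀ hμ0
      have h3 := pow_gcd_eq_one.mpr ⟨h2, hμr⟩
      have hcop : Nat.gcd 2 r = 1 := by
        rw [← Nat.coprime_iff_gcd_eq_one, Nat.coprime_primes Nat.prime_two hr]
        exact fun h => hr2 h.symm
      rw [hcop, pow_one] at h3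
      exact hμ1 h3
    have hinvr : μ⁻¹ ^ r = 1 := by rw [inv_pow, hμr, inv_one]
    have hinv1 : μ⁻¹ ≠ 1 := by
      intro hcon
      apply hμ1
      rw [← inv_inv μ, hcon, inv_one]
    refine ⟨insert μ (insert μ⁻¹ Λ), ?_, ?_, ?_, ?_⟩
    · intro ν hν
      rw [Finset.mem_insert, Finset.mem_insert] at hν
      rcases hν with rfl | rfl | hν
      · exact ⟨hμr, hμ1⟩
      · exact ⟨hinvr, hinv1⟩
      · exact hΛ1 ν hν
    · intro ν hν
      rw [Finset.mem_insert, Finset.mem_insert] at hν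
      rcases hν with rfl | rfl | hν
      · exact Finset.mem_insert_of_mem (Finset.mem_insert_self _ _)
      · rw [inv_inv]
        exact Finset.mem_insert_self _ _
      · exact Finset.mem_insert_of_mem (Finset.mem_insert_of_mem (hΛ2 ν hν))
    · rw [Finset.card_insert_of_notMem, Finset.card_insert_of_notMem hinvΛ, hΛc]
      · ring
      · rw [Finset.mem_insert]
        rintro (h1 | h1)
        · exact hinvne h1
        · exact hμΛ h1
    · rw [Finset.prod_insert, Finset.prod_insert hinvΛ, hΛp, mul_one, mul_inv_cancel₀ hμ0]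
      rw [Finset.mem_insert]
      rintro (h1 | h1)
      · exact hinvne h1
      · exact hμΛ h1

end invset

end Cfsg.Agent.Lib.H24.Uti
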