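import Mathlib
import Cfsg.Agent.Lib.H24.UtiNec

set_option autoImplicit false

/-!
# Necessity for odd primes (helper24)
-/

namespace Cfsg.Agent.Lib.H24.Uti

open Polynomial Module
open Cfsg.Agent.Lib.H11.UFrames (orth mem_orth)
open Cfsg.Agent.Lib.H24.Elus
open Cfsg.Agent.Lib.H13
open Cfsg.Agent.S0837 (Bs Bs_apply Bs_symm Bs_nondeg)

/-- every unitary matrix of determinant one and of order `r` modulo scalars fixes a totally
isotropic `m`-space -/
def UFix {F : Type*} [Field F] (φ : F →+* F) (n m r : ℕ) : Prop :=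
  ∀ M : Matrix (Fin n) (Fin n) F, IsUn φ n M → M.det = 1 → (∃ z : F, M ^ r = z • 1) →
    (∀ z : F, M ≠ z • 1) →
    ∃ W : Submodule F (Fin n → F), finrank F W = m ∧ UTI (Bs φ n) W ∧
      ∀ v ∈ W, Matrix.toLin' M v ∈ W

section nec

variable {F : Type*} [Field F] [Fintype F] {p q : ℕ} [Fact p.Prime] [CharP F p]
  {φ : F →+* F}

theorem eq_one_of_pow_eq_one (hF : Fintype.card F = q ^ 2) {r : ℕ} [Fact r.Prime]
    (hi : 2 < orderOf (q : ZMod r)) (z : F) (hz : z ^ r = 1) : z = 1 := by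
  have h := det_eq_one_of_pow hF hi 1 (z • (1 : Matrix (Fin 1) (Fin 1) F)) (by
    rw [_root_.smul_pow, one_pow, hz, one_smul])
  rwa [Matrix.det_smul, Matrix.det_one, mul_one, Fintype.card_fin, pow_one] at h

theorem smul_one_pow_entry (n r : ℕ) (hn : 0 < n) (z c : F)
    (h : (z • (1 : Matrix (Fin n) (Fin n) F)) ^ r = c • 1) : z ^ r = c := by
  rw [_root_.smul_pow, one_pow] at h
  have := congrFun (congrFun h ⟨0, hn⟩) ⟨0, hn⟩
  rw [Matrix.smul_apply, Matrix.smul_apply, Matrix.one_apply_eq, smul_eq_mul, smul_eq_mul,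
    mul_one, mul_one] at this
  exact this

/-- necessity of `b ≤ m` and `2 (m mod b) ≤ n mod c` when `i > 2` -/
theorem nec_odd_12 (hF : Fintype.card F = q ^ 2) (hφ : ∀ x, φ x = x ^ q)
    (hφ2 : ∀ x, φ (φ x) = x) (hφne : φ ≠ RingHom.id F) {r : ℕ} [Fact r.Prime] (hrp : r ≠ p)
    (hr2 : r ≠ 2) (hi : 2 < orderOf (q : ZMod r)) (n m : ℕ)
    (hd : ∃ d, n + 1 ≤ d + 2 * m ∧ d ≤ n ∧ 1 ≤ d ∧ cU q r ∣ d) (hfix : UFix φ n m r) :
    orderOf ((q ^ 2 : ℕ) : ZMod r) ≤ m ∧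
      2 * (m % orderOf ((q ^ 2 : ℕ) : ZMod r)) ≤ n % cU q r := by
  classical
  have hr : r.Prime := Fact.out
  have hc0 : 0 < cU q r := cU_pos hF hrp
  have hb0 : 0 < orderOf ((q ^ 2 : ℕ) : ZMod r) := CycFactor.orderOf_pos hF hr hrp
  have hcb : cU q r ≤ 2 * orderOf ((q ^ 2 : ℕ) : ZMod r) := by
    unfold cU
    split_ifs <;> omega
  obtain ⟨d, hd1, hd2, hd3, hd4⟩ := hd
  have hcn : cU q r ≤ n := (Nat.le_of_dvd hd3 hd4).trans hd2
  obtain ⟨M, hM, hMr, hMfix⟩ := exists_u_test1 hF hφ hφ2 hφne hrp hr2 (n % cU q r)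
    (n / cU q r) n (Nat.div_add_mod' n (cU q r)).symm
  have hmodlt : n % cU q r < cU q r := Nat.mod_lt n hc0
  obtain ⟨W, hWm, hWti, hWinv⟩ := hfix M hM (det_eq_one_of_pow hF hi n M hMr)
    ⟨1, by rw [hMr, one_smul]⟩ (by
      intro z hz
      have hz1 : z = 1 := by
        apply eq_one_of_pow_eq_one hF hi
        apply smul_one_pow_entry n r (by omega) z 1
        rw [← hz, hMr, one_smul]
      rw [hz1, one_smul] at hz
      rw [hz, finrank_fix_one] at hMfix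
      omega)
  obtain ⟨f, k, hfk, hf⟩ := ti_dim_of_fix hF hφ2 (Bs_symm φ hφ2 n) hrp hM
    (toLin'_pow_eq_one n r M hMr) (UND_top_Bs n) W hWinv hWti
  rw [hWm, hMfix] at *
  have hflt : f < orderOf ((q ^ 2 : ℕ) : ZMod r) := by omega
  have hmod : m % orderOf ((q ^ 2 : ℕ) : ZMod r) = f := by
    rw [hfk, Nat.mul_add_mod, Nat.mod_eq_of_lt hflt]
  refine ⟨?_, by rw [hmod]; exact hf⟩
  by_contra hlt
  push Not at hlt
  have hk0 : k = 0 := by
    by_contra hk
    have : orderOf ((q ^ 2 : ℕ) : ZMod r) * 1 ≤ orderOf ((q ^ 2 : ℕ) : ZMod r) * k :=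
      Nat.mul_le_mul_left _ (Nat.pos_of_ne_zero hk)
    omega
  rw [hk0, mul_zero, zero_add] at hfk
  have h1 : cU q r * (d / cU q r) = d := Nat.mul_div_cancel' hd4
  have h2 : cU q r * (d / cU q r) ≤ cU q r * (n / cU q r) :=
    Nat.mul_le_mul_left _ (Nat.div_le_div_right hd2)
  have h3 := Nat.div_add_mod n (cU q r)
  omega

/-- necessity of `n' - 2 m' ≥ s` when `i ≡ 2 (mod 4)`, `i > 2` -/
theorem nec_odd_3_big (hF : Fintype.card F = q ^ 2) (hφ : ∀ x, φ x = x ^ q)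
    (hφ2 : ∀ x, φ (φ x) = x) (hφne : φ ≠ RingHom.id F) {r : ℕ} [Fact r.Prime] (hrp : r ≠ p)
    (hr2 : r ≠ 2) (hi4 : orderOf (q : ZMod r) % 4 = 2) (hi : 2 < orderOf (q : ZMod r))
    (n m : ℕ) (hmn : 2 * m ≤ n) (hbm : orderOf ((q ^ 2 : ℕ) : ZMod r) ≤ m)
    (hfix : UFix φ n m r) :
    (r - 1) / orderOf ((q ^ 2 : ℕ) : ZMod r) + 2 * (m / orderOf ((q ^ 2 : ℕ) : ZMod r)) ≤
      n / orderOf ((q ^ 2 : ℕ) : ZMod r) := by
  classical
  have hr : r.Prime := Fact.out
  have hcb : cU q r = orderOf ((q ^ 2 : ℕ) : ZMod r) := cU_eq_of_mod q r hi4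
  obtain ⟨b₀, hb₀⟩ : ∃ b₀, b₀ = orderOf ((q ^ 2 : ℕ) : ZMod r) := ⟨_, rfl⟩
  rw [← hb₀] at hcb hbm ⊢
  have hb0 : 0 < b₀ := by rw [hb₀]; exact CycFactor.orderOf_pos hF hr hrp
  by_contra hnot
  push Not at hnot
  have hM'1 : 1 ≤ m / b₀ := (Nat.le_div_iff_mul_le hb0).mpr (by omega)
  have hNM : 2 * (m / b₀) ≤ n / b₀ := by
    rw [Nat.le_div_iff_mul_le hb0]
    have := Nat.div_mul_le_self m b₀
    nlinarith
  have hcard : Fintype.card (CycFactor.S r F) = (r - 1) / b₀ := by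
    have := CycFactor.card_S (q := q ^ 2) hF hr hrp
    rw [← hb₀] at this
    rw [← this, Nat.mul_div_cancel _ hb0]
  obtain ⟨σ', hσ'⟩ : ∃ σ', σ' = n / b₀ - 2 * (m / b₀) + 1 := ⟨_, rfl⟩
  obtain ⟨T₀, -, hT₀⟩ := Finset.exists_subset_card_eq (s := (Finset.univ : Finset (CycFactor.S r F)))
    (n := σ') (by rw [Finset.card_univ, hcard]; omega)
  obtain ⟨T, hT⟩ : ∃ T : Finset F[X], T = T₀.image (fun s => s.1) := ⟨_, rfl⟩
  have hTcard : T.card = σ' := by
    rw [hT, Finset.card_image_of_injective _ Subtype.val_injective, hT₀]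
  have hex : ∀ g : F[X], ∃ Y : Matrix (Fin (cU q r)) (Fin (cU q r)) F, g ∈ T →
      (IsUn φ (cU q r) Y ∧ Y ^ r = 1 ∧ aeval (Matrix.toLin' Y) g = 0) := by
    intro g
    by_cases hg : g ∈ T
    · rw [hT, Finset.mem_image] at hg
      obtain ⟨s, -, rfl⟩ := hg
      obtain ⟨Y, hY⟩ := exists_u_atom_type hF hφ hφ2 hφne hrp hr2 hi4 s
      exact ⟨Y, fun _ => hY⟩
    · exact ⟨1, fun h => absurd h hg⟩
  choose A hA using hex
  have hσn : σ' * cU q r ≤ n := by
    rw [hcb]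
    have h1 : σ' ≤ n / b₀ := by omega
    exact (Nat.mul_le_mul_right _ h1).trans (Nat.div_mul_le_self n b₀)
  obtain ⟨M, hM, hMr, -, hMfix, hMker⟩ := exists_u_multfree hφne hφ2 r (cU q r) A
    (n - σ' * cU q r) T
    (by
      intro g hg
      obtain ⟨h1, h2, h3⟩ := hA g hg
      refine ⟨h1, h2, h3, ?_⟩
      rw [hT, Finset.mem_image] at hg
      obtain ⟨s, -, rfl⟩ := hg
      exact CycFactor.coprime_fJ hr hrp (some s) none (by simp))
    (by
      intro g hg g' hg' hne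
      rw [hT, Finset.mem_image] at hg hg'
      obtain ⟨s, -, rfl⟩ := hg
      obtain ⟨s', -, rfl⟩ := hg'
      exact CycFactor.coprime_fJ hr hrp (some s) (some s') (by
        intro h
        apply hne
        rw [Option.some.injEq] at h
        rw [h]))
    n (by rw [hTcard]; omega)
  have hσpos : 0 < σ' * cU q r := Nat.mul_pos (by omega) (by rw [hcb]; exact hb0)
  obtain ⟨W, hWm, hWti, hWinv⟩ := hfix M hM (det_eq_one_of_pow hF hi n M hMr)
    ⟨1, by rw [hMr, one_smul]⟩ (by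
      intro z hz
      have hz1 : z = 1 := by
        apply eq_one_of_pow_eq_one hF hi
        apply smul_one_pow_entry n r (by omega) z 1
        rw [← hz, hMr, one_smul]
      rw [hz1, one_smul] at hz
      rw [hz, finrank_fix_one] at hMfix
      omega)
  have hle := ti_le_fix_of_mult_free hF hφ hφ2 (Bs_symm φ hφ2 n) hrp hM
    (toLin'_pow_eq_one n r M hMr) (UND_top_Bs n) hi4 (by
      intro s
      rw [hMker s.1 (CycFactor.coprime_fJ hr hrp (some s) none (by simp)) (by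
        intro g hg
        rw [hT, Finset.mem_image] at hg
        obtain ⟨s', -, rfl⟩ := hg
        by_cases hss : s = s'
        · left
          rw [hss]
        · right
          exact CycFactor.coprime_fJ hr hrp (some s) (some s') (by
            intro h
            apply hss
            rw [Option.some.injEq] at h
            exact h))]
      rw [← hb₀, ← hcb]
      split_ifs <;> omega) W hWinv hWti
  rw [hWm, hMfix, hcb] at hle
  have h1 := Nat.div_add_mod n b₀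
  have h2 := Nat.div_add_mod m b₀
  have h3 : n % b₀ < b₀ := Nat.mod_lt n hb0
  have h5 : σ' + 2 * (m / b₀) = n / b₀ + 1 := by omega
  have h6 : σ' * b₀ + 2 * (b₀ * (m / b₀)) = b₀ * (n / b₀) + b₀ := by
    have : (σ' + 2 * (m / b₀)) * b₀ = (n / b₀ + 1) * b₀ := by rw [h5]
    nlinarith [this]
  rw [hcb] at hσn
  omega

theorem coeff_zero_X_sub_C (μ : F) : -(X - C μ : F[X]).coeff 0 = μ := by
  rw [coeff_sub, coeff_X_zero, coeff_C_zero, zero_sub, neg_neg]

theorem isCoprime_X_sub_C_of_ne (μ ν : F) (h : μ ≠ ν) : IsCoprime (X - C μ : F[X]) (X - C ν) :=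
  isCoprime_X_sub_C_of_isUnit_sub (isUnit_iff_ne_zero.mpr (sub_ne_zero.mpr h))

theorem aeval_smul_one_X_sub_C (n : ℕ) (z μ : F) :
    aeval (Matrix.toLin' (z • (1 : Matrix (Fin n) (Fin n) F))) (X - C μ : F[X]) =
      (z - μ) • (1 : End F (Fin n → F)) := by
  rw [map_sub, aeval_X, aeval_C, map_smul, Matrix.toLin'_one, Algebra.algebraMap_eq_smul_one]
  exact (sub_smul z μ (1 : End F (Fin n → F))).symm

/-- necessity of `n - 2 m ≥ r - 1` when `i = 2` -/
theorem nec_odd_3_two (hF : Fintype.card F = q ^ 2) (hφ : ∀ x, φ x = x ^ q)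
    (hφ2 : ∀ x, φ (φ x) = x) (hφne : φ ≠ RingHom.id F) {r : ℕ} [Fact r.Prime] (hrp : r ≠ p)
    (hr2 : r ≠ 2) (hrq : r ∣ q + 1) (n m : ℕ) (hn : 3 ≤ n) (hm : 1 ≤ m) (hmn : 2 * m ≤ n)
    (hfix : UFix φ n m r) : r - 1 + 2 * m ≤ n := by
  classical
  have hr : r.Prime := Fact.out
  obtain ⟨r', hr'⟩ := hr.odd_of_ne_two hr2
  have hi2 : orderOf (q : ZMod r) = 2 := orderOf_eq_two_of_dvd hr2 hrq
  have hb1 : orderOf ((q ^ 2 : ℕ) : ZMod r) = 1 := by
    rw [orderOf_sq_of_even q r (by rw [hi2]; exact even_two), hi2]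
  by_contra hnot
  push Not at hnot
  obtain ⟨h, hh⟩ : ∃ h, h = (n - 2 * m + 2) / 2 := ⟨_, rfl⟩
  have hh1 : 2 * h ≤ r - 1 := by omega
  have hh2 : n + 1 ≤ 2 * h + 2 * m := by omega
  have hh3 : 2 * h ≤ n := by omega
  have hh4 : 1 ≤ h := by omega
  obtain ⟨Λ, hΛ1, -, hΛc, hΛp⟩ := exists_inv_closed_set hF r hr2 hrq h hh1
  obtain ⟨T, hT⟩ : ∃ T : Finset F[X], T = Λ.image (fun μ => X - C μ) := ⟨_, rfl⟩
  have hinj : Function.Injective (fun μ : F => (X - C μ : F[X])) := by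
    intro μ ν hμν
    have := congrArg (fun g : F[X] => -g.coeff 0) hμν
    simp only [coeff_zero_X_sub_C] at this
    exact this
  have hTcard : T.card = 2 * h := by
    rw [hT, Finset.card_image_of_injective _ hinj, hΛc]
  obtain ⟨A, hA⟩ : ∃ A : F[X] → Matrix (Fin 1) (Fin 1) F,
      A = fun g => (-g.coeff 0) • (1 : Matrix (Fin 1) (Fin 1) F) := ⟨_, rfl⟩
  have hAμ : ∀ μ : F, A (X - C μ) = μ • (1 : Matrix (Fin 1) (Fin 1) F) := by
    intro μ
    rw [hA]
    dsimp only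
    rw [coeff_zero_X_sub_C]
  have hμq : ∀ μ ∈ Λ, μ ^ (q + 1) = 1 := by
    intro μ hμ
    obtain ⟨k, hk⟩ := hrq
    rw [hk, pow_mul, (hΛ1 μ hμ).1, one_pow]
  obtain ⟨M, hM, hMr, hMdet, hMfix, hMker⟩ := exists_u_multfree hφne hφ2 r 1 A (n - 2 * h) T
    (by
      intro g hg
      rw [hT, Finset.mem_image] at hg
      obtain ⟨μ, hμ, rfl⟩ := hg
      rw [hAμ]
      refine ⟨?_, ?_, ?_, ?_⟩
      · have := isUn_smul_diagonal hφ 1 μ (hμq μ hμ) (fun _ => 1) (fun _ => one_pow _)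
        rwa [Matrix.diagonal_one] at this
      · rw [_root_.smul_pow, one_pow, (hΛ1 μ hμ).1, one_smul]
      · rw [aeval_smul_one_X_sub_C, sub_self, zero_smul]
      · have := isCoprime_X_sub_C_of_ne μ 1 (hΛ1 μ hμ).2
        rwa [C_1] at this)
    (by
      intro g hg g' hg' hne
      rw [hT, Finset.mem_image] at hg hg'
      obtain ⟨μ, -, rfl⟩ := hg
      obtain ⟨ν, -, rfl⟩ := hg'
      exact isCoprime_X_sub_C_of_ne μ ν (fun h => hne (by rw [h])))
    n (by rw [hTcard]; omega)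
  have hdet1 : M.det = 1 := by
    rw [hMdet, hT, Finset.prod_image (fun μ _ ν _ h => hinj h), ← hΛp]
    apply Finset.prod_congr rfl
    intro μ _
    rw [hAμ, Matrix.det_smul, Matrix.det_one, mul_one, Fintype.card_fin, pow_one]
  obtain ⟨μ₀, hμ₀⟩ : ∃ μ₀, μ₀ ∈ Λ := by
    apply Finset.card_pos.mp
    omega
  have hkerT : ∀ μ ∈ Λ, finrank F (LinearMap.ker (aeval (Matrix.toLin' M) (X - C μ : F[X]))) =
      1 := by
    intro μ hμ
    rw [hMker (X - C μ) (by
      have := isCoprime_X_sub_C_of_ne μ 1 (hΛ1 μ hμ).2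
      rwa [C_1] at this) (by
        intro g hg
        rw [hT, Finset.mem_image] at hg
        obtain ⟨ν, -, rfl⟩ := hg
        by_cases hμν : μ = ν
        · left
          rw [hμν]
        · right
          exact isCoprime_X_sub_C_of_ne μ ν hμν)]
    rw [if_pos]
    rw [hT, Finset.mem_image]
    exact ⟨μ, hμ, rfl⟩
  obtain ⟨W, hWm, hWti, hWinv⟩ := hfix M hM hdet1 ⟨1, by rw [hMr, one_smul]⟩ (by
      intro z hz
      have h1 := hkerT μ₀ hμ₀
      rw [hz, aeval_smul_one_X_sub_C] at h1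
      by_cases hzμ : z = μ₀
      · rw [hzμ, sub_self, zero_smul, LinearMap.ker_zero, finrank_top, finrank_stdU] at h1
        omega
      · have h2 : LinearMap.ker ((z - μ₀) • (1 : End F (Fin n → F))) = ⊥ := by
          rw [LinearMap.ker_eq_bot]
          intro u v huv
          rw [LinearMap.smul_apply, LinearMap.smul_apply, Module.End.one_apply,
            Module.End.one_apply] at huv
          exact smul_right_injective _ (sub_ne_zero.mpr hzμ) huv
        rw [h2, finrank_bot] at h1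
        omega)
  have hle := ti_le_fix_of_mult_free hF hφ hφ2 (Bs_symm φ hφ2 n) hrp hM
    (toLin'_pow_eq_one n r M hMr) (UND_top_Bs n) (by rw [hi2]) (by
      intro s
      rw [hb1, hMker s.1 (CycFactor.coprime_fJ hr hrp (some s) none (by simp)) (by
        intro g hg
        rw [hT, Finset.mem_image] at hg
        obtain ⟨ν, -, rfl⟩ := hg
        by_cases hdvd : s.1 ∣ (X - C ν : F[X])
        · left
          exact eq_of_monic_of_associated (CycFactor.monic_S s) (monic_X_sub_C ν)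
            ((CycFactor.irreducible_S s).associated_of_dvd (irreducible_X_sub_C ν) hdvd)
        · right
          exact ((CycFactor.irreducible_S s).coprime_iff_not_dvd).mpr hdvd)]
      split_ifs <;> omega) W hWinv hWti
  rw [hWm, hMfix] at hle
  omega

/-- necessity of `r ∣ m` or `(n)_r ≤ (q + 1)_r` when `i = 2` -/
theorem nec_odd_4 (hF : Fintype.card F = q ^ 2) (hφ : ∀ x, φ x = x ^ q)
    (hφ2 : ∀ x, φ (φ x) = x) (hφne : φ ≠ RingHom.id F) {r : ℕ} [Fact r.Prime]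
    (hr2 : r ≠ 2) (hrq : r ∣ q + 1) (n m : ℕ) (hn : 3 ≤ n)
    (hfix : UFix φ n m r) : r ∣ m ∨ padicValNat r n ≤ padicValNat r (q + 1) := by
  classical
  have hr : r.Prime := Fact.out
  have hrodd : Odd r := hr.odd_of_ne_two hr2
  have hq0 : 0 < q := q_pos hF
  haveI : NeZero r := ⟨hr.ne_zero⟩
  by_contra hnot
  push Not at hnot
  obtain ⟨hrm, hv⟩ := hnot
  obtain ⟨a, ha⟩ : ∃ a, a = padicValNat r (q + 1) := ⟨_, rfl⟩
  rw [← ha] at hv
  obtain ⟨t, ht⟩ : r ^ (a + 1) ∣ n := (pow_dvd_pow r (by omega)).trans pow_padicValNat_dvd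
  obtain ⟨n₁, hn₁⟩ : ∃ n₁, n₁ = r ^ a * t := ⟨_, rfl⟩
  have hnn₁ : n = n₁ * r := by rw [ht, hn₁]; ring
  obtain ⟨z, hzord, hzq⟩ := exists_orderOf_of_dvd hF (r ^ a) (by rw [ha]; exact pow_padicValNat_dvd)
  have hzn₁ : z ^ n₁ = 1 := by
    rw [← orderOf_dvd_iff_pow_eq_one, hzord, hn₁]
    exact dvd_mul_right _ _
  have hno : ¬ ∃ w : F, w ^ r = z ∧ w ^ (q + 1) = 1 := by
    rintro ⟨w, hwr, hwq⟩
    obtain ⟨t', ht'⟩ := hrq
    have h1 : z ^ t' = 1 := by rw [← hwr, ← pow_mul, ← ht', hwq]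
    rw [← orderOf_dvd_iff_pow_eq_one, hzord] at h1
    obtain ⟨k, hk⟩ := h1
    have h2 : r ^ (a + 1) ∣ q + 1 := ⟨k, by rw [ht', hk]; ring⟩
    rw [ha] at h2
    exact pow_succ_padicValNat_not_dvd (Nat.succ_ne_zero q) h2
  have hirr := irreducible_X_pow_sub_C_of_not_pow hF hq0 r hr hr2 hrq z hzq hno
  obtain ⟨M, hM, hMz⟩ := exists_u_mono hφ hφne hφ2 r z hzq n₁ n hnn₁
  have hMr : (Matrix.toLin' M) ^ r = z • (1 : End F (Fin n → F)) := by
    rw [map_sub, map_pow, aeval_X, aeval_C, Algebra.algebraMap_eq_smul_one, sub_eq_zero] at hMz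
    exact hMz
  have hMr' : M ^ r = z • (1 : Matrix (Fin n) (Fin n) F) := by
    apply Matrix.toLin'.injective
    rw [Matrix.toLin'_pow, hMr, map_smul, Matrix.toLin'_one]
    rfl
  have hdet : M.det = 1 := by
    rw [← LinearMap.det_toLin', det_of_pow_eq_smul r hrodd z hirr (Matrix.toLin' M) hMr n₁
      (by rw [finrank_stdU, hnn₁]), hzn₁]
  have hndV : UND (Bs φ n) ⊤ := UND_top_Bs n
  have hVne : (⊤ : Submodule F (Fin n → F)) ≠ ⊥ := by
    intro h
    have h1 : finrank F (⊤ : Submodule F (Fin n → F)) = 0 := by rw [h, finrank_bot]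
    rw [finrank_top, finrank_stdU] at h1
    omega
  obtain ⟨u₀, -, hu₀⟩ := exists_nonisotropic_in (Bs_symm φ hφ2 n) hφne ⊤ hndV hVne
  obtain ⟨W, hWm, -, hWinv⟩ := hfix M hM hdet ⟨z, hMr'⟩ (by
    intro c hc
    apply hno
    refine ⟨c, smul_one_pow_entry n r (by omega) c z (by rw [← hc, hMr']), ?_⟩
    apply scalar_norm_one (B := Bs φ n) hφ c _ u₀ hu₀
    intro u v
    have := hM u v
    rw [hc, map_smul, Matrix.toLin'_one] at this
    exact this)
  apply hrm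
  have := dvd_finrank_of_le_ker (Matrix.toLin' M) (X ^ r - C z : F[X]) hirr W hWinv (by
    rw [hMz, LinearMap.ker_zero]
    exact le_top)
  rwa [natDegree_X_pow_sub_C, hWm] at this

end nec

end Cfsg.Agent.Lib.H24.Uti
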