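import Mathlib
import Cfsg.Agent.Lib.H24.UtiNecOdd

set_option autoImplicit false

/-!
# Elements of prime order of `PSU_n(q)` fixing a totally isotropic `m`-space (helper24)
-/

namespace Cfsg.Agent.Lib.H24.Uti

open Polynomial Module
open Cfsg.Agent.Lib.H11.UFrames (orth mem_orth)
open Cfsg.Agent.Lib.H24.Elus
open Cfsg.Agent.Lib.H13
open Cfsg.Agent.S0837 (Bs Bs_apply Bs_symm Bs_nondeg)

section main

variable {F : Type*} [Field F] [Fintype F] {p q : ℕ} [Fact p.Prime] [CharP F p]
  {φ : F →+* F}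

theorem lhs_iff_UFix (hφ : ∀ x, φ x = x ^ q) (n m r : ℕ) :
    (∀ x : Matrix.SpecialLinearGroup (Fin n) F, x ∈ Cfsg.SU n F q →
      (∃ z : F, ((x ^ r : Matrix.SpecialLinearGroup (Fin n) F) : Matrix (Fin n) (Fin n) F) =
        z • (1 : Matrix (Fin n) (Fin n) F)) →
      (∀ z : F, (x : Matrix (Fin n) (Fin n) F) ≠ z • (1 : Matrix (Fin n) (Fin n) F)) →
      ∃ W : Submodule F (Fin n → F), Module.finrank F ↥W = m ∧
        (∀ u ∈ W, ∀ v ∈ W, Cfsg.hermForm n F q u v = 0) ∧
        W.map (Matrix.toLin' (x : Matrix (Fin n) (Fin n) F)) ≤ W) ↔ UFix φ n m r := by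
  constructor
  · intro h M hM hdet hMr hns
    obtain ⟨x, hxM⟩ : ∃ x : Matrix.SpecialLinearGroup (Fin n) F,
        (x : Matrix (Fin n) (Fin n) F) = M := ⟨⟨M, hdet⟩, rfl⟩
    obtain ⟨W, hWm, hWti, hWinv⟩ := h x (by
        intro u v
        have := hM v u
        rw [Bs_eq_herm hφ, Bs_eq_herm hφ, Matrix.toLin'_apply, Matrix.toLin'_apply, ← hxM] at this
        exact this) (by
        obtain ⟨z, hz⟩ := hMr
        exact ⟨z, by rw [Matrix.SpecialLinearGroup.coe_pow, hxM]; exact hz⟩) (by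
        rw [hxM]
        exact hns)
    rw [hxM] at hWinv
    refine ⟨W, hWm, ?_, ?_⟩
    · intro u hu v hv
      rw [Bs_eq_herm hφ]
      exact hWti v hv u hu
    · intro v hv
      exact hWinv (Submodule.mem_map_of_mem hv)
  · intro h x hx hxr hns
    obtain ⟨W, hWm, hWti, hWinv⟩ := h (x : Matrix (Fin n) (Fin n) F) (su_iso hφ n x hx) x.2 (by
        obtain ⟨z, hz⟩ := hxr
        exact ⟨z, by rw [← Matrix.SpecialLinearGroup.coe_pow]; exact hz⟩) hns
    refine ⟨W, hWm, ?_, ?_⟩
    · intro u hu v hv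
      have := hWti v hv u hu
      rw [Bs_eq_herm hφ] at this
      exact this
    · rintro _ ⟨v, hv, rfl⟩
      exact hWinv v hv

theorem su_ti_iff (hq : Fintype.card F = q ^ 2)
    (n m : ℕ) (hn : 3 ≤ n) (hm : 1 ≤ m) (hmn : 2 * m ≤ n)
    (r : ℕ) [Fact r.Prime]
    (hrΩ : r ∣ Nat.card {W : Submodule F (Fin n → F) // Module.finrank F ↥W = m ∧
      (∀ u ∈ W, ∀ v ∈ W, Cfsg.hermForm n F q u v = 0)})
    (i b c : ℕ) (hi : i = orderOf (q : ZMod r)) (hb : b = if Even i then i / 2 else i)
    (hc : c = if i % 4 = 0 then i else if i % 4 = 2 then i / 2 else 2 * i) :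
    (∀ x : Matrix.SpecialLinearGroup (Fin n) F, x ∈ Cfsg.SU n F q →
      (∃ z : F, ((x ^ r : Matrix.SpecialLinearGroup (Fin n) F) : Matrix (Fin n) (Fin n) F) =
        z • (1 : Matrix (Fin n) (Fin n) F)) →
      (∀ z : F, (x : Matrix (Fin n) (Fin n) F) ≠ z • (1 : Matrix (Fin n) (Fin n) F)) →
      ∃ W : Submodule F (Fin n → F), Module.finrank F ↥W = m ∧
        (∀ u ∈ W, ∀ v ∈ W, Cfsg.hermForm n F q u v = 0) ∧
        W.map (Matrix.toLin' (x : Matrix (Fin n) (Fin n) F)) ≤ W) ↔
    ((r = 2 ∧ p ≠ 2 ∧ (2 * m < n ∨ padicValNat 2 (q + 1) ≤ padicValNat 2 n)) ∨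
     (r ≠ p ∧ 2 < r ∧ b ≤ m ∧ 2 * (m % b) ≤ n % c ∧
       (i % 4 ≠ 2 ∨ (i % 4 = 2 ∧ (r - 1) / b + 2 * (m / b) ≤ n / b ∧
         (2 < i ∨ (i = 2 ∧ (r ∣ m ∨ padicValNat r n ≤ padicValNat r (q + 1)))))))) := by
  classical
  have hr : r.Prime := Fact.out
  obtain ⟨φ, hφ, hφ2⟩ := Cfsg.Agent.Lib.H4.exists_frob hq
  have hφne := Cfsg.Agent.S0837.phi_ne_id φ hq hφ
  rw [lhs_iff_UFix hφ n m r]
  obtain ⟨hrp, d, hd1, hd2, hd3, hd4⟩ := ti_count_consequence (p := p) hq n m hmn r hrΩ
  have hbeq := b_eq_orderOf_sq q r i b hi hb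
  have hceq := c_eq_cU q r i c hi hc
  have hi0 : 0 < i := by
    rw [hi]
    have h1 : 0 < orderOf ((q ^ 2 : ℕ) : ZMod r) := CycFactor.orderOf_pos hq hr hrp
    rw [Nat.cast_pow] at h1
    exact (orderOf_pos_iff.mpr (IsOfFinOrder.of_pow (orderOf_pos_iff.mp h1) (by norm_num)))
  by_cases hr2 : r = 2
  · -- `r = 2`
    have hp2 : p ≠ 2 := fun h => hrp (by rw [hr2, h])
    have h2F : (2 : F) ≠ 0 := by
      intro h
      have h1 : ((2 : ℕ) : F) = 0 := by rw [Nat.cast_ofNat]; exact h
      rw [CharP.cast_eq_zero_iff F p 2] at h1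
      exact hp2 ((Nat.prime_dvd_prime_iff_eq Fact.out Nat.prime_two).mp h1)
    have hqodd : Odd q := by
      obtain ⟨f, hf⟩ := exists_q_eq_pow (p := p) hq
      rw [hf]
      exact ((Fact.out : p.Prime).odd_of_ne_two hp2).pow
    constructor
    · intro hfix
      left
      refine ⟨hr2, hp2, ?_⟩
      by_contra hnot
      push Not at hnot
      obtain ⟨M, hM, hdet, hM2, hns, hno⟩ := nec_two hq hφ hφ2 h2F hqodd n m hn (by omega)
        hnot.2
      apply hno
      exact hfix M hM hdet (by rw [hr2]; exact hM2) hns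
    · rintro (⟨-, -, h⟩ | ⟨-, h, -⟩)
      · intro M hM hdet hMr hns
        obtain ⟨z, hz⟩ := hMr
        rw [hr2] at hz
        exact suff_two hq hφ hφ2 hφne h2F hqodd n m hm hmn h M hM hdet z hz
      · omega
  · -- `r` odd
    have hr3 : 2 < r := by
      have := hr.two_le
      omega
    have hcd : cU q r ∣ d := cU_dvd_of_neg_pow hr2 d hd4
    constructor
    · intro hfix
      right
      refine ⟨hrp, hr3, ?_⟩
      by_cases hi2 : 2 < i
      · have h12 := nec_odd_12 hq hφ hφ2 hφne hrp hr2 (by rw [← hi]; exact hi2) n m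
          ⟨d, hd1, hd2, hd3, hcd⟩ hfix
        rw [← hbeq, ← hceq] at h12
        refine ⟨h12.1, h12.2, ?_⟩
        by_cases hi4 : i % 4 = 2
        · right
          refine ⟨hi4, ?_, Or.inl hi2⟩
          have := nec_odd_3_big hq hφ hφ2 hφne hrp hr2 (by rw [← hi]; exact hi4)
            (by rw [← hi]; exact hi2) n m hmn (by rw [← hbeq]; exact h12.1) hfix
          rw [← hbeq] at this
          exact this
        · left
          exact hi4
      · have hi12 : i = 1 ∨ i = 2 := by omega
        rcases hi12 with h1 | h1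
        · have hb1 : b = 1 := by
            rw [hb, h1, if_neg (by decide)]
          rw [hb1]
          refine ⟨hm, by omega, Or.inl (by omega)⟩
        · have hb1 : b = 1 := by
            rw [hb, h1, if_pos (by decide)]
          have hrq : r ∣ q + 1 := by
            have h3 : (q : ZMod r) ^ 2 = 1 := by
              rw [← h1, hi]
              exact pow_orderOf_eq_one _
            have h4 : (q : ZMod r) ≠ 1 := by
              intro h
              rw [hi, h, orderOf_one] at h1
              omega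
            have h5 : (q : ZMod r) = -1 := by
              have h6 : ((q : ZMod r) - 1) * ((q : ZMod r) + 1) = 0 := by
                linear_combination h3
              rcases mul_eq_zero.mp h6 with h | h
              · exact absurd (sub_eq_zero.mp h) h4
              · exact eq_neg_of_add_eq_zero_left h
            rw [← ZMod.natCast_eq_zero_iff, Nat.cast_add, Nat.cast_one, h5, neg_add_cancel]
          rw [hb1]
          refine ⟨hm, by omega, Or.inr ⟨by omega, ?_, Or.inr ⟨h1, ?_⟩⟩⟩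
          · have := nec_odd_3_two hq hφ hφ2 hφne hrp hr2 hrq n m hn hm hmn hfix
            rw [Nat.div_one, Nat.div_one, Nat.div_one]
            exact this
          · exact nec_odd_4 hq hφ hφ2 hφne hr2 hrq n m hn hfix
    · rintro (⟨h, -⟩ | ⟨-, -, hbm, h2, h3⟩)
      · exact absurd h hr2
      · intro M hM hdet hMr hns
        obtain ⟨z, hz⟩ := hMr
        exact suff_odd hq hφ hφ2 hφne (Bs_symm φ hφ2 n) hrp hr2 (Matrix.toLin' M) hM z
          (toLin'_pow_eq_smul n r M z hz) (by rw [LinearMap.det_toLin', hdet]) (UND_top_Bs n) n m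
          (finrank_stdU n) hm hmn b hbeq (by rw [← hceq]; exact h2) (by
            rw [← hi]
            rcases h3 with h | ⟨-, h4, h5⟩
            · exact Or.inl h
            · right
              refine ⟨h4, ?_⟩
              rcases h5 with h | ⟨-, h⟩
              · exact Or.inl h
              · exact Or.inr h)

end main

end Cfsg.Agent.Lib.H24.Uti
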