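import Mathlib
import Cfsg.Agent.Lib.H24.UtiMain

set_option autoImplicit false

/-!
# Nondegenerate subspaces of hermitian spaces: basics (helper24)

* `exists_UND_sub`: a nondegenerate hermitian space has nondegenerate subspaces of every smaller
  dimension;
* `und_iff`: the nondegeneracy predicate of S5954 in terms of `UND`;
* `UFixNd`, `lhs_iff_UFixNd`: the left hand side of S5954 in terms of unitary matrices;
* `norm_one_of_pow_smul`: if a power of an isometry is a scalar, the scalar has norm one.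
-/

namespace Cfsg.Agent.Lib.H24.Uti

open Polynomial Module
open Cfsg.Agent.Lib.H11.UFrames (orth mem_orth)
open Cfsg.Agent.Lib.H24.Elus
open Cfsg.Agent.Lib.H13
open Cfsg.Agent.S0837 (Bs Bs_apply Bs_symm Bs_nondeg)

section lines

variable {F : Type*} [Field F] {φ : F →+* F} {V : Type*} [AddCommGroup V] [Module F V]
  {B : V →ₛₗ[φ] V →ₗ[F] F}

theorem UND_span_singleton (w : V) (hw : B w w ≠ 0) : UND B (Submodule.span F {w}) := by
  intro u hu h
  obtain ⟨c, rfl⟩ := Submodule.mem_span_singleton.mp hu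
  have h1 := h w (Submodule.mem_span_singleton_self w)
  rw [map_smulₛₗ, LinearMap.smul_apply, smul_eq_mul] at h1
  rcases mul_eq_zero.mp h1 with h2 | h2
  · rw [(map_eq_zero φ).mp h2, zero_smul]
  · exact absurd h2 hw

variable [FiniteDimensional F V]

/-- nondegenerate subspaces of `X` form a class with atoms of dimension one -/
theorem uPeelClass_lines (hS : B.IsSymm) (hφne : φ ≠ RingHom.id F) (X : Submodule F V) :
    UPeelClass B (fun A => A ≤ X ∧ UND B A) 1 where
  pos := Nat.one_pos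
  bot := ⟨bot_le, UND_bot B⟩
  nd := fun _ h => h.2
  perp := fun U A hU hA hAU => ⟨inf_le_left.trans hU.1,
    UND_perp_in B (refl_of_symm B hS) U A hU.2 hA.2 hAU⟩
  sup := fun A A' hA hA' horth => ⟨sup_le hA.1 hA'.1,
    UND_sup B (refl_of_symm B hS) A A' hA.2 hA'.2 horth⟩
  atom := by
    intro U hU hne
    obtain ⟨w, hwU, hww⟩ := exists_nonisotropic_in hS hφne U hU.2 hne
    have hw0 : w ≠ 0 := by
      rintro rfl
      apply hww
      rw [map_zero]
    refine ⟨Submodule.span F {w}, ?_, ⟨?_, UND_span_singleton w hww⟩, finrank_span_singleton hw0⟩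
    · rw [Submodule.span_singleton_le_iff_mem]
      exact hwU
    · rw [Submodule.span_singleton_le_iff_mem]
      exact hU.1 hwU

/-- nondegenerate subspaces of every dimension -/
theorem exists_UND_sub (hS : B.IsSymm) (hφne : φ ≠ RingHom.id F) (U : Submodule F V)
    (hU : UND B U) (k : ℕ) (hk : k ≤ finrank F U) :
    ∃ A : Submodule F V, A ≤ U ∧ UND B A ∧ finrank F A = k := by
  obtain ⟨A, hAU, hA, hAk⟩ := u_peel_exists (refl_of_symm B hS) (uPeelClass_lines hS hφne U) k U
    ⟨le_rfl, hU⟩ (by omega)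
  exact ⟨A, hAU, hA.2, by omega⟩

end lines

section norm

variable {F : Type*} [Field F] {φ : F →+* F} {V : Type*} [AddCommGroup V] [Module F V]
  [FiniteDimensional F V] {B : V →ₛₗ[φ] V →ₗ[F] F}

/-- if a power of an isometry is a scalar, the scalar has norm one -/
theorem norm_one_of_pow_smul {q : ℕ} (hφ : ∀ x, φ x = x ^ q) (hS : B.IsSymm)
    (hφne : φ ≠ RingHom.id F) (x : End F V) (hiso : ∀ u v, B (x u) (x v) = B u v) (r : ℕ)
    (z : F) (hxr : x ^ r = z • 1) (hndV : UND B ⊤) (hV : 0 < finrank F V) :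
    z ^ (q + 1) = 1 := by
  have hVne : (⊤ : Submodule F V) ≠ ⊥ := by
    intro h
    have h1 : finrank F (⊤ : Submodule F V) = 0 := by rw [h, finrank_bot]
    rw [finrank_top] at h1
    omega
  obtain ⟨u₀, -, hu₀⟩ := exists_nonisotropic_in hS hφne ⊤ hndV hVne
  apply scalar_norm_one (B := B) hφ z _ u₀ hu₀
  intro u v
  rw [← hxr]
  exact u_pow_iso hiso r u v

end norm

section std

variable {F : Type*} [Field F] [Fintype F] {p q : ℕ} [Fact p.Prime] [CharP F p]
  {φ : F →+* F}

/-- the nondegeneracy predicate of the statement -/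
theorem und_iff (hφ : ∀ x, φ x = x ^ q) (hφ2 : ∀ x, φ (φ x) = x) (n : ℕ)
    (W : Submodule F (Fin n → F)) :
    (∀ u ∈ W, u ≠ 0 → ∃ v ∈ W, Cfsg.hermForm n F q u v ≠ 0) ↔ UND (Bs φ n) W := by
  have hR := refl_of_symm _ (Bs_symm φ hφ2 n)
  constructor
  · intro h u hu hu0
    by_contra hne
    obtain ⟨v, hv, huv⟩ := h u hu hne
    apply huv
    rw [← Bs_eq_herm hφ]
    exact hR _ _ (hu0 v hv)
  · intro h u hu hne
    by_contra hcon
    push Not at hcon
    apply hne
    apply h u hu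
    intro v hv
    apply hR
    rw [Bs_eq_herm hφ]
    exact hcon v hv

/-- every unitary matrix of determinant one and of order `r` modulo scalars fixes a
nondegenerate `m`-space -/
def UFixNd {F : Type*} [Field F] (φ : F →+* F) (n m r : ℕ) : Prop :=
  ∀ M : Matrix (Fin n) (Fin n) F, IsUn φ n M → M.det = 1 → (∃ z : F, M ^ r = z • 1) →
    (∀ z : F, M ≠ z • 1) →
    ∃ W : Submodule F (Fin n → F), finrank F W = m ∧ UND (Bs φ n) W ∧
      ∀ v ∈ W, Matrix.toLin' M v ∈ W

theorem lhs_iff_UFixNd (hφ : ∀ x, φ x = x ^ q) (hφ2 : ∀ x, φ (φ x) = x) (n m r : ℕ) :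
    (∀ x : Matrix.SpecialLinearGroup (Fin n) F, x ∈ Cfsg.SU n F q →
      (∃ z : F, ((x ^ r : Matrix.SpecialLinearGroup (Fin n) F) : Matrix (Fin n) (Fin n) F) =
        z • (1 : Matrix (Fin n) (Fin n) F)) →
      (∀ z : F, (x : Matrix (Fin n) (Fin n) F) ≠ z • (1 : Matrix (Fin n) (Fin n) F)) →
      ∃ W : Submodule F (Fin n → F), Module.finrank F ↥W = m ∧
        (∀ u ∈ W, u ≠ 0 → ∃ v ∈ W, Cfsg.hermForm n F q u v ≠ 0) ∧
        W.map (Matrix.toLin' (x : Matrix (Fin n) (Fin n) F)) ≤ W) ↔ UFixNd φ n m r := by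
  constructor
  · intro h M hM hdet hMr hns
    obtain ⟨x, hxM⟩ : ∃ x : Matrix.SpecialLinearGroup (Fin n) F,
        (x : Matrix (Fin n) (Fin n) F) = M := ⟨⟨M, hdet⟩, rfl⟩
    obtain ⟨W, hWm, hWnd, hWinv⟩ := h x (by
        intro u v
        have := hM v u
        rw [Bs_eq_herm hφ, Bs_eq_herm hφ, Matrix.toLin'_apply, Matrix.toLin'_apply, ← hxM] at this
        exact this) (by
        obtain ⟨z, hz⟩ := hMr
        exact ⟨z, by rw [Matrix.SpecialLinearGroup.coe_pow, hxM]; exact hz⟩) (by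
        rw [hxM]
        exact hns)
    rw [hxM] at hWinv
    refine ⟨W, hWm, (und_iff hφ hφ2 n W).mp hWnd, ?_⟩
    intro v hv
    exact hWinv (Submodule.mem_map_of_mem hv)
  · intro h x hx hxr hns
    obtain ⟨W, hWm, hWnd, hWinv⟩ := h (x : Matrix (Fin n) (Fin n) F) (su_iso hφ n x hx) x.2 (by
        obtain ⟨z, hz⟩ := hxr
        exact ⟨z, by rw [← Matrix.SpecialLinearGroup.coe_pow]; exact hz⟩) hns
    refine ⟨W, hWm, (und_iff hφ hφ2 n W).mpr hWnd, ?_⟩
    rintro _ ⟨v, hv, rfl⟩
    exact hWinv v hv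

end std

end Cfsg.Agent.Lib.H24.Uti
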