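import Mathlib
import Cfsg.Agent.Lib.H24.UndBasic
import Cfsg.Agent.S0751

set_option autoImplicit false

/-!
# Isometries between nondegenerate subspaces of a hermitian space (helper24)

* `restrictU`: the restriction of a sesquilinear form to a subspace;
* `exists_isometry_of_UND`: nondegenerate subspaces of the same dimension are isometric;
* `exists_isometry_map_u`: they are conjugate under an isometry of the whole space (Witt).
-/

namespace Cfsg.Agent.Lib.H24.Uti

open Polynomial Module
open Cfsg.Agent.Lib.H11.UFrames (orth mem_orth)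
open Cfsg.Agent.S0837 (Bs Bs_apply Bs_symm Bs_nondeg)

section restrict

variable {F : Type*} [Field F] {φ : F →+* F} {V : Type*} [AddCommGroup V] [Module F V]

/-- the restriction of a sesquilinear form to a subspace -/
def restrictU (B : V →ₛₗ[φ] V →ₗ[F] F) (W : Submodule F V) : W →ₛₗ[φ] W →ₗ[F] F :=
  B.domRestrict₁₂ W W

theorem restrictU_apply (B : V →ₛₗ[φ] V →ₗ[F] F) (W : Submodule F V) (u v : W) :
    restrictU B W u v = B (u : V) (v : V) := rfl

theorem restrictU_symm {B : V →ₛₗ[φ] V →ₗ[F] F} (hS : B.IsSymm) (W : Submodule F V) :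
    (restrictU B W).IsSymm := by
  refine ⟨fun u v => ?_⟩
  rw [restrictU_apply, restrictU_apply]
  exact hS.eq _ _

theorem restrictU_nondeg {B : V →ₛₗ[φ] V →ₗ[F] F} (hS : B.IsSymm) (W : Submodule F V)
    (hW : UND B W) : (restrictU B W).Nondegenerate := by
  have hR := refl_of_symm B hS
  constructor
  · intro u hu
    apply Subtype.ext
    apply hW u.1 u.2
    intro v hv
    have := hu ⟨v, hv⟩
    rwa [restrictU_apply] at this
  · intro v hv
    apply Subtype.ext
    apply hW v.1 v.2
    intro u hu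
    have := hv ⟨u, hu⟩
    rw [restrictU_apply] at this
    exact hR _ _ this

theorem nondeg_of_UND_top {B : V →ₛₗ[φ] V →ₗ[F] F} (hS : B.IsSymm) (h : UND B ⊤) :
    B.Nondegenerate := by
  have hR := refl_of_symm B hS
  constructor
  · intro u hu
    exact h u Submodule.mem_top (fun v _ => hu v)
  · intro v hv
    exact h v Submodule.mem_top (fun u _ => hR _ _ (hv u))

end restrict

section witt

variable {F : Type*} [Field F] [Finite F] {φ : F →+* F} {V : Type*} [AddCommGroup V]
  [Module F V] [FiniteDimensional F V] {B : V →ₛₗ[φ] V →ₗ[F] F}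

theorem exists_isometry_of_UND (hφne : φ ≠ RingHom.id F) (hφ2 : ∀ x, φ (φ x) = x)
    (hS : B.IsSymm) (W W' : Submodule F V) (hW : UND B W) (hW' : UND B W')
    (hdim : finrank F W = finrank F W') :
    ∃ f : W ≃ₗ[F] W', ∀ u v : W, B (f u : V) (f v : V) = B (u : V) (v : V) := by
  obtain ⟨g, hg⟩ := exists_stdU_equiv hφne hφ2 (restrictU B W) (restrictU_symm hS W)
    (restrictU_nondeg hS W hW) (finrank F W) rfl
  obtain ⟨g', hg'⟩ := exists_stdU_equiv hφne hφ2 (restrictU B W') (restrictU_symm hS W')
    (restrictU_nondeg hS W' hW') (finrank F W) hdim.symm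
  refine ⟨g.trans g'.symm, fun u v => ?_⟩
  rw [← restrictU_apply B W', ← hg', LinearEquiv.trans_apply, LinearEquiv.trans_apply,
    LinearEquiv.apply_symm_apply, LinearEquiv.apply_symm_apply, hg, restrictU_apply]

/-- nondegenerate subspaces of the same dimension are conjugate under an isometry -/
theorem exists_isometry_map_u (hφne : φ ≠ RingHom.id F) (hφ2 : ∀ x, φ (φ x) = x)
    (hS : B.IsSymm) (hndV : UND B ⊤) (W W' : Submodule F V) (hW : UND B W) (hW' : UND B W')
    (hdim : finrank F W = finrank F W') :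
    ∃ e : V ≃ₗ[F] V, (∀ u v, B (e u) (e v) = B u v) ∧ ∀ w ∈ W, e w ∈ W' := by
  obtain ⟨f, hf⟩ := exists_isometry_of_UND hφne hφ2 hS W W' hW hW' hdim
  obtain ⟨e, he1, he2⟩ := Cfsg.Agent.S0751.result φ hφne hφ2 B hS (nondeg_of_UND_top hS hndV)
    W W' f hf
  refine ⟨e, he1, fun w hw => ?_⟩
  rw [he2 ⟨w, hw⟩]
  exact (f ⟨w, hw⟩).2

end witt

end Cfsg.Agent.Lib.H24.Uti
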