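import Mathlib
import Cfsg.Agent.Lib.H24.UndWitt

set_option autoImplicit false

/-!
# The unitary group acts transitively on nondegenerate subspaces (helper24)

* `UndSub F q n m`: the nondegenerate `m`-subspaces of the standard hermitian space; the action
  `undAction` of `GU_n(q)` on them is transitive, so their number divides `|GU_n(q)|`.
* `card_undsub_below`: the nondegenerate `m`-subspaces of a nondegenerate subspace `U` of
  dimension `k` of any hermitian space are as many as those of the standard space of dimension `k`.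
* `cU_le_of_dvd_ordGU`: if `r ≠ p` is an odd prime dividing `|GU_e(q)|` then `c ≤ e`.
-/

namespace Cfsg.Agent.Lib.H24.Uti

open Polynomial Module
open Cfsg.Agent.Lib.H11.UFrames (orth mem_orth)
open Cfsg.Agent.Lib.H24.Elus
open Cfsg.Agent.Lib.H13
open Cfsg.Agent.S0837 (Bs Bs_apply Bs_symm Bs_nondeg)

section iso

variable {F : Type*} [Field F] {φ : F →+* F} {V : Type*} [AddCommGroup V] [Module F V]
  {B : V →ₛₗ[φ] V →ₗ[F] F}

theorem UND_map_of_iso (f : V →ₗ[F] V) (hf : ∀ u v, B (f u) (f v) = B u v) (W : Submodule F V)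
    (hW : UND B W) : UND B (W.map f) := by
  rintro _ ⟨u, hu, rfl⟩ h
  have : u = 0 := by
    apply hW u hu
    intro v hv
    rw [← hf]
    exact h _ (Submodule.mem_map_of_mem hv)
  rw [this, map_zero]

end iso

section count

variable {F : Type*} [Field F] [Fintype F] {q : ℕ}

/-- the nondegenerate `m`-subspaces of the standard hermitian space -/
abbrev UndSub (F : Type*) [Field F] (q n m : ℕ) : Type _ :=
  {W : Submodule F (Fin n → F) // finrank F ↥W = m ∧
    (∀ u ∈ W, u ≠ 0 → ∃ v ∈ W, Cfsg.hermForm n F q u v ≠ 0)}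

theorem toLin'_GL_injective (n : ℕ) (g : Matrix.GeneralLinearGroup (Fin n) F) :
    Function.Injective (Matrix.toLin' (g : Matrix (Fin n) (Fin n) F)) := by
  intro u v huv
  have h1 : ∀ w : Fin n → F,
      Matrix.toLin' ((g⁻¹ : Matrix.GeneralLinearGroup (Fin n) F) : Matrix (Fin n) (Fin n) F)
        (Matrix.toLin' (g : Matrix (Fin n) (Fin n) F) w) = w := by
    intro w
    rw [← LinearMap.comp_apply, ← Matrix.toLin'_mul]
    have : ((g⁻¹ : Matrix.GeneralLinearGroup (Fin n) F) : Matrix (Fin n) (Fin n) F) *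
        (g : Matrix (Fin n) (Fin n) F) = 1 := by
      rw [← Units.val_mul, inv_mul_cancel, Units.val_one]
    rw [this, Matrix.toLin'_one, LinearMap.id_apply]
  rw [← h1 u, huv, h1 v]

theorem undsub_map (hF : Fintype.card F = q ^ 2) (n m : ℕ)
    (g : Matrix.GeneralLinearGroup (Fin n) F) (hg : g ∈ Cfsg.GU n F q)
    (W : Submodule F (Fin n → F))
    (hW : finrank F ↥W = m ∧ (∀ u ∈ W, u ≠ 0 → ∃ v ∈ W, Cfsg.hermForm n F q u v ≠ 0)) :
    finrank F ↥(W.map (Matrix.toLin' (g : Matrix (Fin n) (Fin n) F))) = m ∧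
      (∀ u ∈ W.map (Matrix.toLin' (g : Matrix (Fin n) (Fin n) F)), u ≠ 0 →
        ∃ v ∈ W.map (Matrix.toLin' (g : Matrix (Fin n) (Fin n) F)),
          Cfsg.hermForm n F q u v ≠ 0) := by
  obtain ⟨φ, hφ, hφ2⟩ := Cfsg.Agent.Lib.H4.exists_frob hF
  obtain ⟨h1, h2⟩ := hW
  refine ⟨?_, ?_⟩
  · rw [← h1]
    exact (LinearEquiv.finrank_eq (Submodule.equivMapOfInjective _ (toLin'_GL_injective n g) W)).symm
  · rw [und_iff hφ hφ2] at h2 ⊢
    exact UND_map_of_iso _ (isUn_of_mem_GU hφ n g hg) W h2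

/-- the action of the unitary group on nondegenerate subspaces -/
noncomputable def undAction (hF : Fintype.card F = q ^ 2) (n m : ℕ) :
    MulAction ↥(Cfsg.GU n F q) (UndSub F q n m) where
  smul := fun g W => ⟨W.1.map (Matrix.toLin'
    ((g : Matrix.GeneralLinearGroup (Fin n) F) : Matrix (Fin n) (Fin n) F)),
    undsub_map hF n m g.1 g.2 W.1 W.2⟩
  one_smul := fun W => by
    apply Subtype.ext
    show W.1.map (Matrix.toLin' (1 : Matrix (Fin n) (Fin n) F)) = W.1
    rw [Matrix.toLin'_one, Submodule.map_id]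
  mul_smul := fun g h W => by
    apply Subtype.ext
    show W.1.map (Matrix.toLin'
        (((g : Matrix.GeneralLinearGroup (Fin n) F) : Matrix (Fin n) (Fin n) F) *
        ((h : Matrix.GeneralLinearGroup (Fin n) F) : Matrix (Fin n) (Fin n) F))) =
      (W.1.map (Matrix.toLin'
        ((h : Matrix.GeneralLinearGroup (Fin n) F) : Matrix (Fin n) (Fin n) F))).map
        (Matrix.toLin' ((g : Matrix.GeneralLinearGroup (Fin n) F) : Matrix (Fin n) (Fin n) F))
    rw [Matrix.toLin'_mul, Submodule.map_comp]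

theorem undAction_smul_coe (hF : Fintype.card F = q ^ 2) (n m : ℕ) (g : ↥(Cfsg.GU n F q))
    (W : UndSub F q n m) :
    ((undAction hF n m).smul g W).1 = W.1.map (Matrix.toLin'
      ((g : Matrix.GeneralLinearGroup (Fin n) F) : Matrix (Fin n) (Fin n) F)) := rfl

/-- a unitary matrix as an element of `GU` -/
theorem exists_GU_of_isUn {φ : F →+* F} (hφ : ∀ x, φ x = x ^ q) (n : ℕ)
    (M M' : Matrix (Fin n) (Fin n) F) (hMM' : M * M' = 1) (hM'M : M' * M = 1)
    (hM : IsUn φ n M) :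
    ∃ g : ↥(Cfsg.GU n F q),
      ((g : Matrix.GeneralLinearGroup (Fin n) F) : Matrix (Fin n) (Fin n) F) = M := by
  refine ⟨⟨⟨M, M', hMM', hM'M⟩, ?_⟩, rfl⟩
  rw [Cfsg.Agent.Lib.H2.Unitary.mem_GU_iff]
  intro u v
  have := hM v u
  rw [Bs_eq_herm hφ, Bs_eq_herm hφ, Matrix.toLin'_apply, Matrix.toLin'_apply] at this
  exact this

theorem undAction_pretransitive (hF : Fintype.card F = q ^ 2) (n m : ℕ) :
    @MulAction.IsPretransitive ↥(Cfsg.GU n F q) (UndSub F q n m) (undAction hF n m).toSMul := by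
  letI := undAction hF n m
  obtain ⟨φ, hφ, hφ2⟩ := Cfsg.Agent.Lib.H4.exists_frob hF
  have hφne := Cfsg.Agent.S0837.phi_ne_id φ hF hφ
  constructor
  intro W W'
  obtain ⟨e, heiso, hemem⟩ := exists_isometry_map_u hφne hφ2 (Bs_symm φ hφ2 n) (UND_top_Bs n)
    W.1 W'.1 ((und_iff hφ hφ2 n W.1).mp W.2.2) ((und_iff hφ hφ2 n W'.1).mp W'.2.2)
    (by rw [W.2.1, W'.2.1])
  obtain ⟨g, hg⟩ := exists_GU_of_isUn hφ n
    (LinearMap.toMatrix' (e : (Fin n → F) →ₗ[F] (Fin n → F)))
    (LinearMap.toMatrix' (e.symm : (Fin n → F) →ₗ[F] (Fin n → F)))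
    (by
      rw [← LinearMap.toMatrix'_comp, LinearEquiv.comp_symm, LinearMap.toMatrix'_id])
    (by
      rw [← LinearMap.toMatrix'_comp, LinearEquiv.symm_comp, LinearMap.toMatrix'_id])
    (by
      intro u v
      rw [Matrix.toLin'_toMatrix']
      exact heiso u v)
  refine ⟨g, ?_⟩
  apply Subtype.ext
  show W.1.map (Matrix.toLin'
    ((g : Matrix.GeneralLinearGroup (Fin n) F) : Matrix (Fin n) (Fin n) F)) = W'.1
  rw [hg, Matrix.toLin'_toMatrix']
  apply Submodule.eq_of_le_of_finrank_eq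
  · rintro _ ⟨x, hx, rfl⟩
    exact hemem x hx
  · rw [LinearEquiv.finrank_map_eq, W.2.1, W'.2.1]

theorem card_undsub_dvd_card_GU (hF : Fintype.card F = q ^ 2) (n m : ℕ)
    (hne : Nonempty (UndSub F q n m)) :
    Nat.card (UndSub F q n m) ∣ Nat.card ↥(Cfsg.GU n F q) := by
  classical
  letI := undAction hF n m
  haveI := undAction_pretransitive hF n m
  obtain ⟨W₀⟩ := hne
  have h1 := MulAction.index_stabilizer_of_transitive ↥(Cfsg.GU n F q) W₀
  have h2 := Subgroup.index_dvd_card (MulAction.stabilizer ↥(Cfsg.GU n F q) W₀)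
  rw [h1] at h2
  exact h2

theorem nonempty_undsub (hF : Fintype.card F = q ^ 2) (n m : ℕ) (hmn : m ≤ n) :
    Nonempty (UndSub F q n m) := by
  obtain ⟨φ, hφ, hφ2⟩ := Cfsg.Agent.Lib.H4.exists_frob hF
  have hφne := Cfsg.Agent.S0837.phi_ne_id φ hF hφ
  obtain ⟨A, -, hA, hAdim⟩ := exists_UND_sub (Bs_symm φ hφ2 n) hφne ⊤ (UND_top_Bs n) m (by
    rw [finrank_top, finrank_stdU]
    exact hmn)
  exact ⟨⟨A, hAdim, (und_iff hφ hφ2 n A).mpr hA⟩⟩

end count

end Cfsg.Agent.Lib.H24.Uti
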