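import Mathlib
import Cfsg.Agent.Lib.H24.UndCount
import Cfsg.Agent.Lib.H2.Unitary3

set_option autoImplicit false

/-!
# Counting nondegenerate subspaces below a nondegenerate subspace (helper24)

* `card_undsub_below`: the nondegenerate `m`-subspaces of a nondegenerate subspace `U` of
  dimension `k` of any hermitian space are as many as those of the standard space of dimension `k`.
* `cU_le_of_dvd_ordGU`: if `r ≠ p` is an odd prime dividing `|GU_e(q)|` then `c ≤ e`.
-/

namespace Cfsg.Agent.Lib.H24.Uti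

open Polynomial Module
open Cfsg.Agent.Lib.H11.UFrames (orth mem_orth)
open Cfsg.Agent.Lib.H24.Elus
open Cfsg.Agent.Lib.H13
open Cfsg.Agent.S0837 (Bs Bs_apply Bs_symm Bs_nondeg)

section below

variable {F : Type*} [Field F] [Fintype F] {q : ℕ} {φ : F →+* F}

/-- nondegenerate subspaces of a nondegenerate subspace and of the standard space -/
theorem card_undsub_below (hφ : ∀ x, φ x = x ^ q) (hφ2 : ∀ x, φ (φ x) = x)
    (hφne : φ ≠ RingHom.id F) {V : Type*} [AddCommGroup V] [Module F V]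
    [FiniteDimensional F V] (B : V →ₛₗ[φ] V →ₗ[F] F) (hS : B.IsSymm) (U : Submodule F V)
    (hU : UND B U) (k m : ℕ) (hk : finrank F U = k) :
    Nat.card {W : Submodule F V // W ≤ U ∧ finrank F W = m ∧ UND B W} =
      Nat.card (UndSub F q k m) := by
  obtain ⟨g, hg⟩ := exists_stdU_equiv hφne hφ2 (restrictU B U) (restrictU_symm hS U)
    (restrictU_nondeg hS U hU) k hk
  have hg' : ∀ u v : U, Bs φ k (g u) (g v) = B (u : V) (v : V) := by
    intro u v
    rw [hg, restrictU_apply]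
  have memΦ : ∀ (W : Submodule F V) (x : Fin k → F),
      x ∈ (W.comap U.subtype).map (g : U →ₗ[F] (Fin k → F)) ↔
        ∃ u : U, (u : V) ∈ W ∧ g u = x := by
    intro W x
    constructor
    · rintro ⟨u, hu, rfl⟩
      exact ⟨u, hu, rfl⟩
    · rintro ⟨u, hu, rfl⟩
      exact ⟨u, hu, rfl⟩
  have memΨ : ∀ (W' : Submodule F (Fin k → F)) (x : V),
      x ∈ (W'.map (g.symm : (Fin k → F) →ₗ[F] U)).map U.subtype ↔
        ∃ u' ∈ W', ((g.symm u' : U) : V) = x := by
    intro W' x
    constructor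
    · rintro ⟨_, ⟨u', hu', rfl⟩, rfl⟩
      exact ⟨u', hu', rfl⟩
    · rintro ⟨u', hu', rfl⟩
      exact ⟨_, ⟨u', hu', rfl⟩, rfl⟩
  apply Nat.card_congr
  refine
    { toFun := fun W => ⟨(W.1.comap U.subtype).map (g : U →ₗ[F] (Fin k → F)), ?_, ?_⟩
      invFun := fun W' => ⟨(W'.1.map (g.symm : (Fin k → F) →ₗ[F] U)).map U.subtype,
        ?_, ?_, ?_⟩
      left_inv := ?_
      right_inv := ?_ }
  · rw [LinearEquiv.finrank_map_eq, LinearEquiv.finrank_eq (Submodule.comapSubtypeEquivOfLe W.2.1),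
      W.2.2.1]
  · rw [und_iff hφ hφ2]
    intro x hx h
    obtain ⟨u, hu, rfl⟩ := (memΦ _ _).mp hx
    have hu0 : (u : V) = 0 := by
      apply W.2.2.2 _ hu
      intro v hv
      have := h (g ⟨v, W.2.1 hv⟩) ((memΦ _ _).mpr ⟨⟨v, W.2.1 hv⟩, hv, rfl⟩)
      rw [hg'] at this
      exact this
    have : u = 0 := Subtype.ext hu0
    rw [this, map_zero]
  · exact Submodule.map_subtype_le _ _
  · rw [Submodule.finrank_map_subtype_eq, LinearEquiv.finrank_map_eq, W'.2.1]
  · have hW'nd := (und_iff hφ hφ2 k W'.1).mp W'.2.2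
    intro x hx h
    obtain ⟨u', hu', rfl⟩ := (memΨ _ _).mp hx
    have hu'0 : u' = 0 := by
      apply hW'nd u' hu'
      intro v' hv'
      have := h _ ((memΨ _ _).mpr ⟨v', hv', rfl⟩)
      rw [← hg', LinearEquiv.apply_symm_apply, LinearEquiv.apply_symm_apply] at this
      exact this
    rw [hu'0, map_zero]
    rfl
  · intro W
    apply Subtype.ext
    ext x
    show x ∈ (((W.1.comap U.subtype).map (g : U →ₗ[F] (Fin k → F))).map
      (g.symm : (Fin k → F) →ₗ[F] U)).map U.subtype ↔ x ∈ W.1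
    rw [memΨ]
    constructor
    · rintro ⟨u', hu', rfl⟩
      obtain ⟨u, hu, rfl⟩ := (memΦ _ _).mp hu'
      rw [LinearEquiv.symm_apply_apply]
      exact hu
    · intro hx
      refine ⟨g ⟨x, W.2.1 hx⟩, (memΦ _ _).mpr ⟨⟨x, W.2.1 hx⟩, hx, rfl⟩, ?_⟩
      rw [LinearEquiv.symm_apply_apply]
  · intro W'
    apply Subtype.ext
    ext x
    show x ∈ (((W'.1.map (g.symm : (Fin k → F) →ₗ[F] U)).map U.subtype).comap
      U.subtype).map (g : U →ₗ[F] (Fin k → F)) ↔ x ∈ W'.1
    rw [memΦ]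
    constructor
    · rintro ⟨u, hu, rfl⟩
      obtain ⟨u', hu', hu'eq⟩ := (memΨ _ _).mp hu
      have : g.symm u' = u := Subtype.ext hu'eq
      rw [← this, LinearEquiv.apply_symm_apply]
      exact hu'
    · intro hx
      exact ⟨g.symm x, (memΨ _ _).mpr ⟨x, hx, rfl⟩, LinearEquiv.apply_symm_apply g x⟩

end below

section arith

variable {F : Type*} [Field F] [Fintype F] {p q : ℕ} [Fact p.Prime] [CharP F p]

/-- an odd prime `r ≠ p` dividing `|GU_e(q)|` has `c ≤ e` -/
theorem cU_le_of_dvd_ordGU (hF : Fintype.card F = q ^ 2) {r : ℕ} [Fact r.Prime] (hrp : r ≠ p)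
    (hr2 : r ≠ 2) (e : ℕ) (h : r ∣ Cfsg.Agent.Lib.H2.Unitary.ordGU q e) : cU q r ≤ e := by
  have hr : r.Prime := Fact.out
  have hpp : p.Prime := Fact.out
  have hq0 : 0 < q := q_pos hF
  obtain ⟨f, hf⟩ := exists_q_eq_pow (p := p) hF
  have hrq : ¬ r ∣ q := by
    intro hd
    rw [hf] at hd
    exact hrp ((Nat.prime_dvd_prime_iff_eq hr hpp).mp (hr.dvd_of_dvd_pow hd))
  unfold Cfsg.Agent.Lib.H2.Unitary.ordGU at h
  rcases (Nat.Prime.dvd_mul hr).mp h with h1 | h1
  · exact absurd (hr.dvd_of_dvd_pow h1) hrq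
  · rw [Prime.dvd_finsetProd_iff hr.prime] at h1
    obtain ⟨i, hi, hdvd⟩ := h1
    rw [Finset.mem_range] at hi
    have hneg : (-(q : ZMod r)) ^ (i + 1) = 1 := by
      split_ifs at hdvd with he
      · have hodd : Odd (i + 1) := he.add_one
        rw [hodd.neg_pow]
        rw [← ZMod.natCast_eq_zero_iff, Nat.cast_add, Nat.cast_pow, Nat.cast_one] at hdvd
        linear_combination -hdvd
      · have hev : Even (i + 1) := by
          rw [Nat.even_add_one]
          exact he
        rw [hev.neg_pow]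
        rw [← ZMod.natCast_eq_zero_iff, Nat.cast_sub (Nat.one_le_pow _ q hq0), Nat.cast_pow,
          Nat.cast_one] at hdvd
        linear_combination hdvd
    have := Nat.le_of_dvd (Nat.succ_pos i) (cU_dvd_of_neg_pow hr2 (i + 1) hneg)
    omega

end arith

end Cfsg.Agent.Lib.H24.Uti
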