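import Mathlib
import Cfsg.Agent.Lib.H24.UndBasic

set_option autoImplicit false

/-!
# Nondegenerate subspaces fixed by unitary elements of odd prime order `r ≠ p` (helper24)

* `exists_und_invariant`: an isometry of odd prime order `r ≠ p` of a nondegenerate hermitian
  space of dimension `n` fixes a nondegenerate `m`-space as soon as `m mod c ≤ n mod c`.
* `und_suff_odd`: sufficiency of the conditions of S5954 for odd `r ≠ p`.
-/

namespace Cfsg.Agent.Lib.H24.Uti

open Polynomial Module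
open Cfsg.Agent.Lib.H11.UFrames (orth mem_orth)
open Cfsg.Agent.Lib.H24.Elus
open Cfsg.Agent.Lib.H13

section suff

variable {F : Type*} [Field F] [Fintype F] {p q : ℕ} [Fact p.Prime] [CharP F p]
  {φ : F →+* F} {V : Type*} [AddCommGroup V] [Module F V] [Module.Finite F V]
  {B : V →ₛₗ[φ] V →ₗ[F] F} {y : End F V}

theorem exists_und_invariant (hF : Fintype.card F = q ^ 2) (hφ : ∀ x, φ x = x ^ q)
    (hφ2 : ∀ x, φ (φ x) = x) (hφne : φ ≠ RingHom.id F) (hS : B.IsSymm) {r : ℕ} [Fact r.Prime]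
    (hrp : r ≠ p) (hr2 : r ≠ 2) (hiso : ∀ u v, B (y u) (y v) = B u v) (hy : y ^ r = 1)
    (hndV : UND B ⊤) (n m : ℕ) (hV : finrank F V = n) (hmn : m ≤ n)
    (hmod : m % cU q r ≤ n % cU q r) :
    ∃ W : Submodule F V, finrank F W = m ∧ UND B W ∧ ∀ v ∈ W, y v ∈ W := by
  classical
  have hr : r.Prime := Fact.out
  have hR := refl_of_symm B hS
  have hrF : (r : F) ≠ 0 := CycFactor.natCast_ne_zero hr hrp
  obtain ⟨c, hc⟩ : ∃ c, c = cU q r := ⟨_, rfl⟩
  rw [← hc] at hmod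
  have hc0 : 0 < c := by rw [hc]; exact cU_pos hF hrp
  obtain ⟨Fx, hFx⟩ : ∃ Fx, Fx = LinearMap.ker (aeval y (X - 1 : F[X])) := ⟨_, rfl⟩
  obtain ⟨V', hV'⟩ : ∃ V', V' = LinearMap.ker (aeval y (cyclotomic r F)) := ⟨_, rfl⟩
  have htopinv : ∀ v ∈ (⊤ : Submodule F V), y v ∈ (⊤ : Submodule F V) := fun _ _ =>
    Submodule.mem_top
  have hsplit := finrank_split_fix hrF hy ⊤ htopinv
  rw [top_inf_eq, top_inf_eq, finrank_top, hV, ← hFx, ← hV'] at hsplit
  have hFxnd : UND B Fx := by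
    have := UND_fix_part hS hφ2 hiso hrF hy ⊤ htopinv hndV
    rwa [top_inf_eq, ← hFx] at this
  have hV'nd : UND B V' := by
    have := UND_cyc_part hS hφ2 hiso hrF hy ⊤ htopinv hndV
    rwa [top_inf_eq, ← hV'] at this
  obtain ⟨m', hm'⟩ : c ∣ finrank F V' := by
    have := cdvd_finrank_cyc_part_u hF hφ hφ2 hφne hS hrp hr2 hiso hy ⊤ htopinv hndV
    rwa [top_inf_eq, ← hc, ← hV'] at this
  have hfmod : finrank F Fx % c = n % c := by
    rw [← hsplit, hm', Nat.add_mul_mod_self_left]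
  have hkf : n % c ≤ finrank F Fx := by
    rw [← hfmod]
    exact Nat.mod_le _ _
  -- the arithmetic
  obtain ⟨a, ha⟩ : ∃ a, a = m / c := ⟨_, rfl⟩
  obtain ⟨ℓ, hℓ⟩ : ∃ ℓ, ℓ = m % c := ⟨_, rfl⟩
  have hdm : c * a + ℓ = m := by rw [ha, hℓ]; exact Nat.div_add_mod m c
  obtain ⟨j, hj⟩ : ∃ j, j = a - m' := ⟨_, rfl⟩
  obtain ⟨s, hs⟩ : ∃ s, s = a - j := ⟨_, rfl⟩
  have hjs : c * j + c * s = c * a := by
    rw [← Nat.mul_add]
    congr 1
    omega
  have hsm' : c * s ≤ c * m' := Nat.mul_le_mul_left c (by omega)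
  have hef : ℓ + c * j ≤ finrank F Fx := by
    by_cases hj0 : a ≤ m'
    · have : j = 0 := by omega
      rw [this, mul_zero, add_zero, hℓ]
      exact hmod.trans hkf
    · have h1 : c * j = c * a - c * m' := by rw [hj, Nat.mul_sub]
      have h2 : c * m' ≤ c * a := Nat.mul_le_mul_left c (by omega)
      omega
  obtain ⟨P, hPle, hP, hPdim⟩ := exists_UND_sub hS hφne Fx hFxnd (ℓ + c * j) hef
  obtain ⟨R, hRle, hRQ, hRdim⟩ := u_peel_exists hR
    (uPeelClass_cyc hF hφ hφ2 hφne hS hrp hr2 hiso hy) s V'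
    ⟨by rw [hV'], by rw [hV']; exact SSClass.ker_aeval_invariant y _, hV'nd⟩ (by
      rw [← hc, hm', mul_comm s c]
      exact hsm')
  have hPR : ∀ u ∈ P, ∀ v ∈ R, B u v = 0 := fun u hu v hv =>
    u_fix_orth_cyc hS hφ2 hiso hrF hy u v (by rw [← hFx]; exact hPle hu) (hRQ.1 hv)
  refine ⟨P ⊔ R, ?_, UND_sup B hR P R hP hRQ.2.2 hPR, ?_⟩
  · have h := Submodule.finrank_sup_add_finrank_inf_eq P R
    rw [u_inf_eq_bot_of_orth B hR P R hP hPR, finrank_bot, add_zero, hPdim, hRdim, ← hc] at h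
    rw [h, mul_comm s c]
    omega
  · apply sup_invariant P R ?_ hRQ.2.1
    intro v hv
    have h1 : v ∈ LinearMap.ker (aeval y (X - 1 : F[X])) := by rw [← hFx]; exact hPle hv
    rw [(mem_fix_iff v).mp h1]
    exact hv

/-- sufficiency for odd `r ≠ p` -/
theorem und_suff_odd (hF : Fintype.card F = q ^ 2) (hφ : ∀ x, φ x = x ^ q)
    (hφ2 : ∀ x, φ (φ x) = x) (hφne : φ ≠ RingHom.id F) (hS : B.IsSymm)
    {r : ℕ} [Fact r.Prime] (hrp : r ≠ p) (hr2 : r ≠ 2)
    (x : End F V) (hiso : ∀ u v, B (x u) (x v) = B u v) (z : F) (hxr : x ^ r = z • 1)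
    (hdet : LinearMap.det x = 1)
    (hndV : UND B ⊤) (n m : ℕ) (hV : finrank F V = n) (hm : 1 ≤ m) (hmn : m ≤ n)
    (h : (orderOf (q : ZMod r) ≠ 2 ∧ m % cU q r ≤ n % cU q r) ∨
      (orderOf (q : ZMod r) = 2 ∧ (r ∣ m ∨ padicValNat r n ≤ padicValNat r (q + 1)))) :
    ∃ W : Submodule F V, finrank F W = m ∧ UND B W ∧ ∀ v ∈ W, x v ∈ W := by
  classical
  have hr : r.Prime := Fact.out
  have hR := refl_of_symm B hS
  have hq0 : 0 < q := q_pos hF
  have hrodd : Odd r := hr.odd_of_ne_two hr2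
  have hzq : z ^ (q + 1) = 1 :=
    norm_one_of_pow_smul hφ hS hφne x hiso r z hxr hndV (by rw [hV]; omega)
  have hz0 : z ≠ 0 := by
    rintro rfl
    rw [zero_pow (by omega)] at hzq
    exact zero_ne_one hzq
  by_cases hw : ∃ w : F, w ^ r = z ∧ w ^ (q + 1) = 1
  · obtain ⟨w, hwr, hwq⟩ := hw
    obtain ⟨y, hyr, hyiso, -, hyinv⟩ := u_normalize (B := B) hφ r x hiso z w hxr hwr hwq
    obtain ⟨W, hWm, hWnd, hWinv⟩ := exists_und_invariant hF hφ hφ2 hφne hS hrp hr2 hyiso hyr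
      hndV n m hV hmn (by
        rcases h with h | h
        · exact h.2
        · have hc1 : cU q r = 1 := by
            rw [cU_eq_of_mod q r (by rw [h.1]), orderOf_sq_of_even q r (by rw [h.1]; exact even_two),
              h.1]
          rw [hc1, Nat.mod_one, Nat.mod_one])
    exact ⟨W, hWm, hWnd, hyinv W hWinv⟩
  · -- `r ∣ q + 1`
    have hrq : r ∣ q + 1 := by
      by_contra hcon
      exact hw (exists_root_of_coprime hq0 r ((Nat.Prime.coprime_iff_not_dvd hr).mpr hcon) z hzq)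
    have hi2 : orderOf (q : ZMod r) = 2 := orderOf_eq_two_of_dvd hr2 hrq
    have hirr : Irreducible (X ^ r - C z : F[X]) :=
      irreducible_X_pow_sub_C_of_not_pow hF hq0 r hr hr2 hrq z hzq hw
    have hgm : (X ^ r - C z : F[X]).Monic := monic_X_pow_sub_C z hr.ne_zero
    have hgdeg : (X ^ r - C z : F[X]).natDegree = r := natDegree_X_pow_sub_C
    have hgx : aeval x (X ^ r - C z : F[X]) = 0 := aeval_X_pow_sub_C r z x hxr
    have hxN : x ^ (r * (q + 1)) = 1 := by
      rw [pow_mul, hxr, _root_.smul_pow, one_pow, hzq, one_smul]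
    rcases h with h | h
    · exact absurd hi2 h.1
    · rcases h.2 with h4 | h4
      · -- `r ∣ m`
        obtain ⟨a', ha'⟩ := h4
        have hQ := uPeelClass_homog hS hφne hiso (Nat.mul_pos hr.pos (Nat.succ_pos q)) hxN
          (X ^ r - C z : F[X]) hirr hgm ⊤
        obtain ⟨W, -, hWQ, hWdim⟩ := u_peel_exists hR hQ a' ⊤
          ⟨by rw [hgx, LinearMap.ker_zero, top_inf_eq], fun _ _ => Submodule.mem_top, hndV⟩
          (by rw [hgdeg, finrank_top, hV]; nlinarith)
        refine ⟨W, ?_, hWQ.2.2, hWQ.2.1⟩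
        rw [hWdim, hgdeg, ha', mul_comm]
      · -- the determinant
        exfalso
        apply hw
        obtain ⟨n₁, hn₁⟩ : r ∣ n := by
          have := SSClass.natDegree_dvd_finrank _ hirr x hgx
          rwa [hgdeg, hV] at this
        have hn₁0 : 0 < n₁ := by
          rcases Nat.eq_zero_or_pos n₁ with h0 | h0
          · rw [h0, mul_zero] at hn₁
            omega
          · exact h0
        have hdet2 := det_of_pow_eq_smul r hrodd z hirr x hxr n₁ (by rw [hV, hn₁, mul_comm])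
        rw [hdet] at hdet2
        obtain ⟨t, ht⟩ := hrq
        have hgcd : z ^ (Nat.gcd (q + 1) n₁) = 1 := pow_gcd_eq_one.mpr ⟨hzq, hdet2.symm⟩
        have hdvd : Nat.gcd (q + 1) n₁ ∣ t := by
          have := gcd_dvd_div_of_padic r (q + 1) n₁ (Nat.succ_pos q) hn₁0 (by
            rw [mul_comm, ← hn₁]
            exact h4)
          rw [show (q + 1) / r = t by rw [ht, Nat.mul_div_cancel_left t hr.pos]] at this
          exact this
        obtain ⟨k, hk⟩ := hdvd
        exact exists_root_of_pow_eq_one hF hq0 r t ht z hz0 (by rw [hk, pow_mul, hgcd, one_pow])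

end suff

end Cfsg.Agent.Lib.H24.Uti
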