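import Mathlib
import Cfsg.Agent.Lib.H24.UndBelow
import Cfsg.Agent.Lib.H2.Unitary4

set_option autoImplicit false

/-!
# Nondegenerate subspaces and unitary elements of odd prime order `r ≠ p`: necessity (helper24)

* `und_nec_odd`: if `r` (with `r ∤ q + 1`) divides the number of nondegenerate `m`-spaces and every
  element of order `r` of `SU_n(q)` fixes one of them, then `c ≤ m` and `m mod c ≤ n mod c`.
* `und_nec_odd_two`: if `r ∣ q + 1` and every element of order `r` of `PSU_n(q)` fixes a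
  nondegenerate `m`-space then `r ∣ m` or `(n)_r ≤ (q + 1)_r`.
-/

namespace Cfsg.Agent.Lib.H24.Uti

open Polynomial Module
open Cfsg.Agent.Lib.H11.UFrames (orth mem_orth)
open Cfsg.Agent.Lib.H24.Elus
open Cfsg.Agent.Lib.H13
open Cfsg.Agent.S0837 (Bs Bs_apply Bs_symm Bs_nondeg)

section nec

variable {F : Type*} [Field F] [Fintype F] {p q : ℕ} [Fact p.Prime] [CharP F p]
  {φ : F →+* F}

omit [Fact p.Prime] [CharP F p] in
/-- the determinant of a unitary matrix has norm one -/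
theorem det_norm_of_isUn (hF : Fintype.card F = q ^ 2) (hφ : ∀ x, φ x = x ^ q) (n : ℕ)
    (M M' : Matrix (Fin n) (Fin n) F) (hMM' : M * M' = 1) (hM'M : M' * M = 1)
    (hM : IsUn φ n M) : M.det ^ (q + 1) = 1 := by
  obtain ⟨g, hg⟩ := exists_GU_of_isUn hφ n M M' hMM' hM'M hM
  have := Cfsg.Agent.Lib.H2.Unitary.det_norm hF g.1 g.2
  rw [hg] at this
  rw [pow_succ']
  exact this

omit [Fact p.Prime] [CharP F p] in
theorem det_eq_one_of_isUn_pow (hF : Fintype.card F = q ^ 2) (hφ : ∀ x, φ x = x ^ q) {r : ℕ}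
    [Fact r.Prime] (hrq : ¬ r ∣ q + 1) (n : ℕ) (M : Matrix (Fin n) (Fin n) F) (hM : IsUn φ n M)
    (hMr : M ^ r = 1) : M.det = 1 := by
  have hr : r.Prime := Fact.out
  have h1 : M * M ^ (r - 1) = 1 := by
    rw [← pow_succ', Nat.sub_add_cancel hr.pos, hMr]
  have h2 : M ^ (r - 1) * M = 1 := by
    rw [← pow_succ, Nat.sub_add_cancel hr.pos, hMr]
  have h3 := det_norm_of_isUn hF hφ n M _ h1 h2 hM
  have h4 : M.det ^ r = 1 := by rw [← Matrix.det_pow, hMr, Matrix.det_one]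
  have h5 : M.det ^ Nat.gcd r (q + 1) = 1 := pow_gcd_eq_one.mpr ⟨h4, h3⟩
  rwa [(Nat.Prime.coprime_iff_not_dvd hr).mpr hrq, pow_one] at h5

omit [Fact p.Prime] [CharP F p] [Fintype F] in
/-- a unitary scalar matrix has norm one -/
theorem smul_norm_one_of_isUn (hφ : ∀ x, φ x = x ^ q) (hφ2 : ∀ x, φ (φ x) = x)
    (hφne : φ ≠ RingHom.id F) (n : ℕ) (hn : 0 < n) (z : F)
    (hM : IsUn φ n (z • (1 : Matrix (Fin n) (Fin n) F))) : z ^ (q + 1) = 1 := by
  have hVne : (⊤ : Submodule F (Fin n → F)) ≠ ⊥ := by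
    intro h
    have h1 : finrank F (⊤ : Submodule F (Fin n → F)) = 0 := by rw [h, finrank_bot]
    rw [finrank_top, finrank_stdU] at h1
    omega
  obtain ⟨u₀, -, hu₀⟩ := exists_nonisotropic_in (Bs_symm φ hφ2 n) hφne ⊤ (UND_top_Bs n) hVne
  apply scalar_norm_one (B := Bs φ n) hφ z _ u₀ hu₀
  intro u v
  have := hM u v
  rw [map_smul, Matrix.toLin'_one] at this
  exact this

/-- necessity of `c ≤ m` and `m mod c ≤ n mod c` when `r ∤ q + 1` -/
theorem und_nec_odd (hF : Fintype.card F = q ^ 2) (hφ : ∀ x, φ x = x ^ q)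
    (hφ2 : ∀ x, φ (φ x) = x) (hφne : φ ≠ RingHom.id F) {r : ℕ} [Fact r.Prime] (hrp : r ≠ p)
    (hr2 : r ≠ 2) (hrq : ¬ r ∣ q + 1) (n m : ℕ) (hmn : m ≤ n)
    (hrΩ : r ∣ Nat.card (UndSub F q n m)) (hfix : UFixNd φ n m r) :
    cU q r ≤ m ∧ m % cU q r ≤ n % cU q r := by
  classical
  have hr : r.Prime := Fact.out
  have hS := Bs_symm φ hφ2 n
  obtain ⟨c, hc⟩ : ∃ c, c = cU q r := ⟨_, rfl⟩
  rw [← hc]
  have hc0 : 0 < c := by rw [hc]; exact cU_pos hF hrp
  have hcn : c ≤ n := by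
    rw [hc]
    apply cU_le_of_dvd_ordGU hF hrp hr2 n
    rw [← Cfsg.Agent.Lib.H2.Unitary.card_GU hF n]
    exact hrΩ.trans (card_undsub_dvd_card_GU hF n m (nonempty_undsub hF n m hmn))
  obtain ⟨e, he⟩ : ∃ e, e = n % c := ⟨_, rfl⟩
  have hec : e < c := by rw [he]; exact Nat.mod_lt n hc0
  obtain ⟨M, hM, hMr, hMfix⟩ := exists_u_test1 hF hφ hφ2 hφne hrp hr2 e
    (n / c) n (by rw [← hc, he]; exact (Nat.div_add_mod' n c).symm)
  have hn0 : 0 < n := by omega
  obtain ⟨y, hy⟩ : ∃ y, y = Matrix.toLin' M := ⟨_, rfl⟩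
  rw [← hy] at hMfix
  have hyr : y ^ r = 1 := by rw [hy]; exact toLin'_pow_eq_one n r M hMr
  have hyiso : ∀ u v, Bs φ n (y u) (y v) = Bs φ n u v := by rw [hy]; exact hM
  have hMM' : M * M ^ (r - 1) = 1 := by
    rw [← pow_succ', Nat.sub_add_cancel hr.pos, hMr]
  have hM'M : M ^ (r - 1) * M = 1 := by
    rw [← pow_succ, Nat.sub_add_cancel hr.pos, hMr]
  obtain ⟨W, hWm, hWnd, hWinv⟩ := hfix M hM (det_eq_one_of_isUn_pow hF hφ hrq n M hM hMr)
    ⟨1, by rw [hMr, one_smul]⟩ (by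
      intro z hz
      have hz1 : z = 1 := by
        have h1 : z ^ r = 1 := by
          apply smul_one_pow_entry n r hn0 z 1
          rw [← hz, hMr, one_smul]
        have h2 : z ^ (q + 1) = 1 := smul_norm_one_of_isUn hφ hφ2 hφne n hn0 z (by rw [← hz]; exact hM)
        have h3 : z ^ Nat.gcd r (q + 1) = 1 := pow_gcd_eq_one.mpr ⟨h1, h2⟩
        rwa [(Nat.Prime.coprime_iff_not_dvd hr).mpr hrq, pow_one] at h3
      rw [hz1, one_smul] at hz
      rw [hy, hz, finrank_fix_one] at hMfix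
      omega)
  rw [← hy] at hWinv
  have hrF : (r : F) ≠ 0 := CycFactor.natCast_ne_zero hr hrp
  have hsplit := finrank_split_fix hrF hyr W hWinv
  rw [hWm] at hsplit
  obtain ⟨k, hk⟩ := cdvd_finrank_cyc_part_u hF hφ hφ2 hφne hS hrp hr2 hyiso hyr W hWinv hWnd
  rw [← hc] at hk
  have hle : finrank F ↥(W ⊓ LinearMap.ker (aeval y (X - 1 : F[X]))) ≤ e := by
    rw [← hMfix]
    exact Submodule.finrank_mono inf_le_right
  have hsecond : m % c ≤ e := by
    rw [← hsplit, hk, Nat.add_mul_mod_self_left, Nat.mod_eq_of_lt (by omega)]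
    exact hle
  refine ⟨?_, by rw [← he]; exact hsecond⟩
  by_contra hlt
  push Not at hlt
  have hme : m ≤ e := by
    rw [Nat.mod_eq_of_lt hlt] at hsecond
    exact hsecond
  -- the fixed points of `M` on the nondegenerate `m`-spaces
  letI := undAction hF n m
  haveI : Fintype (UndSub F q n m) := Fintype.ofFinite _
  obtain ⟨g, hg⟩ := exists_GU_of_isUn hφ n M _ hMM' hM'M hM
  have hgr : g ^ r = 1 := by
    apply Subtype.ext
    apply Units.ext
    rw [Subgroup.coe_pow, Units.val_pow_eq_pow_val, hg, hMr]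
    rfl
  obtain ⟨f, hf⟩ : ∃ f : Function.End (UndSub F q n m),
      f = MulAction.toEndHom (M := ↥(Cfsg.GU n F q)) g := ⟨_, rfl⟩
  have hfr : f ^ r ^ 1 = 1 := by
    rw [pow_one, hf, ← map_pow, hgr, map_one]
  have hmodeq := Equiv.Perm.card_fixedPoints_modEq hfr
  rw [Fintype.card_eq_nat_card, Fintype.card_eq_nat_card] at hmodeq
  have hdvd : r ∣ Nat.card ↥(Function.fixedPoints f) :=
    (Nat.modEq_zero_iff_dvd.mp (hmodeq.symm.trans (Nat.modEq_zero_iff_dvd.mpr hrΩ)))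
  have hfapp : ∀ W' : UndSub F q n m, (f W').1 = W'.1.map y := by
    intro W'
    rw [hf, hy, ← hg]
    rfl
  have hFixnd : UND (Bs φ n) (LinearMap.ker (aeval y (X - 1 : F[X]))) := by
    have := UND_fix_part hS hφ2 hyiso hrF hyr ⊤ (fun _ _ => Submodule.mem_top) (UND_top_Bs n)
    rwa [top_inf_eq] at this
  have hcard : Nat.card ↥(Function.fixedPoints f) =
      Nat.card {W' : Submodule F (Fin n → F) //
        W' ≤ LinearMap.ker (aeval y (X - 1 : F[X])) ∧ finrank F W' = m ∧ UND (Bs φ n) W'} := by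
    apply Nat.card_congr
    refine
      { toFun := fun W' => ⟨W'.1.1, ?_, W'.1.2.1, (und_iff hφ hφ2 n _).mp W'.1.2.2⟩
        invFun := fun W' => ⟨⟨W'.1, W'.2.2.1, (und_iff hφ hφ2 n _).mpr W'.2.2.2⟩, ?_⟩
        left_inv := fun W' => rfl
        right_inv := fun W' => rfl }
    · -- a fixed space lies in the fixed space of `y`
      have hfixed : (f W'.1).1 = W'.1.1 := congrArg Subtype.val W'.2
      rw [hfapp] at hfixed
      have hinv : ∀ v ∈ W'.1.1, y v ∈ W'.1.1 := by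
        intro v hv
        rw [← hfixed]
        exact Submodule.mem_map_of_mem hv
      have hnd' : UND (Bs φ n) W'.1.1 := (und_iff hφ hφ2 n _).mp W'.1.2.2
      have h1 := cdvd_finrank_cyc_part_u hF hφ hφ2 hφne hS hrp hr2 hyiso hyr W'.1.1 hinv hnd'
      rw [← hc] at h1
      have h2 := finrank_split_fix hrF hyr W'.1.1 hinv
      rw [W'.1.2.1] at h2
      have h3 : finrank F ↥(W'.1.1 ⊓ LinearMap.ker (aeval y (cyclotomic r F))) = 0 := by
        by_contra hne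
        have := Nat.le_of_dvd (Nat.pos_of_ne_zero hne) h1
        omega
      have h4 : W'.1.1 ⊓ LinearMap.ker (aeval y (X - 1 : F[X])) = W'.1.1 := by
        apply Submodule.eq_of_le_of_finrank_eq inf_le_left
        rw [W'.1.2.1]
        omega
      rw [← h4]
      exact inf_le_right
    · -- a subspace of the fixed space is fixed
      show f ⟨W'.1, W'.2.2.1, (und_iff hφ hφ2 n _).mpr W'.2.2.2⟩ =
        ⟨W'.1, W'.2.2.1, (und_iff hφ hφ2 n _).mpr W'.2.2.2⟩
      apply Subtype.ext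
      rw [hfapp]
      show W'.1.map y = W'.1
      apply le_antisymm
      · rintro _ ⟨v, hv, rfl⟩
        rw [(mem_fix_iff v).mp (W'.2.1 hv)]
        exact hv
      · intro v hv
        exact ⟨v, hv, (mem_fix_iff v).mp (W'.2.1 hv)⟩
  rw [hcard, card_undsub_below hφ hφ2 hφne (Bs φ n) hS _ hFixnd e m hMfix] at hdvd
  have h5 := cU_le_of_dvd_ordGU hF hrp hr2 e (by
    rw [← Cfsg.Agent.Lib.H2.Unitary.card_GU hF e]
    exact hdvd.trans (card_undsub_dvd_card_GU hF e m (nonempty_undsub hF e m hme)))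
  rw [← hc] at h5
  omega

/-- necessity of `r ∣ m` or `(n)_r ≤ (q + 1)_r` when `r ∣ q + 1` -/
theorem und_nec_odd_two (hF : Fintype.card F = q ^ 2) (hφ : ∀ x, φ x = x ^ q)
    (hφ2 : ∀ x, φ (φ x) = x) (hφne : φ ≠ RingHom.id F) {r : ℕ} [Fact r.Prime]
    (hr2 : r ≠ 2) (hrq : r ∣ q + 1) (n m : ℕ) (hn : 3 ≤ n)
    (hfix : UFixNd φ n m r) : r ∣ m ∨ padicValNat r n ≤ padicValNat r (q + 1) := by
  classical
  have hr : r.Prime := Fact.out
  have hrodd : Odd r := hr.odd_of_ne_two hr2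
  have hq0 : 0 < q := q_pos hF
  haveI : NeZero r := ⟨hr.ne_zero⟩
  by_contra hnot
  push Not at hnot
  obtain ⟨hrm, hv⟩ := hnot
  obtain ⟨a, ha⟩ : ∃ a, a = padicValNat r (q + 1) := ⟨_, rfl⟩
  rw [← ha] at hv
  obtain ⟨t, ht⟩ : r ^ (a + 1) ∣ n := (pow_dvd_pow r (by omega)).trans pow_padicValNat_dvd
  obtain ⟨n₁, hn₁⟩ : ∃ n₁, n₁ = r ^ a * t := ⟨_, rfl⟩
  have hnn₁ : n = n₁ * r := by rw [ht, hn₁]; ring
  obtain ⟨z, hzord, hzq⟩ := exists_orderOf_of_dvd hF (r ^ a) (by rw [ha]; exact pow_padicValNat_dvd)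
  have hzn₁ : z ^ n₁ = 1 := by
    rw [← orderOf_dvd_iff_pow_eq_one, hzord, hn₁]
    exact dvd_mul_right _ _
  have hno : ¬ ∃ w : F, w ^ r = z ∧ w ^ (q + 1) = 1 := by
    rintro ⟨w, hwr, hwq⟩
    obtain ⟨t', ht'⟩ := hrq
    have h1 : z ^ t' = 1 := by rw [← hwr, ← pow_mul, ← ht', hwq]
    rw [← orderOf_dvd_iff_pow_eq_one, hzord] at h1
    obtain ⟨k, hk⟩ := h1
    have h2 : r ^ (a + 1) ∣ q + 1 := ⟨k, by rw [ht', hk]; ring⟩
    rw [ha] at h2
    exact pow_succ_padicValNat_not_dvd (Nat.succ_ne_zero q) h2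
  have hirr := irreducible_X_pow_sub_C_of_not_pow hF hq0 r hr hr2 hrq z hzq hno
  obtain ⟨M, hM, hMz⟩ := exists_u_mono hφ hφne hφ2 r z hzq n₁ n hnn₁
  have hMr : (Matrix.toLin' M) ^ r = z • (1 : End F (Fin n → F)) := by
    rw [map_sub, map_pow, aeval_X, aeval_C, Algebra.algebraMap_eq_smul_one, sub_eq_zero] at hMz
    exact hMz
  have hMr' : M ^ r = z • (1 : Matrix (Fin n) (Fin n) F) := by
    apply Matrix.toLin'.injective
    rw [Matrix.toLin'_pow, hMr, map_smul, Matrix.toLin'_one]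
    rfl
  have hdet : M.det = 1 := by
    rw [← LinearMap.det_toLin', det_of_pow_eq_smul r hrodd z hirr (Matrix.toLin' M) hMr n₁
      (by rw [finrank_stdU, hnn₁]), hzn₁]
  obtain ⟨W, hWm, -, hWinv⟩ := hfix M hM hdet ⟨z, hMr'⟩ (by
    intro c hc
    apply hno
    refine ⟨c, smul_one_pow_entry n r (by omega) c z (by rw [← hc, hMr']), ?_⟩
    exact smul_norm_one_of_isUn hφ hφ2 hφne n (by omega) c (by rw [← hc]; exact hM))
  apply hrm
  have := dvd_finrank_of_le_ker (Matrix.toLin' M) (X ^ r - C z : F[X]) hirr W hWinv (by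
    rw [hMz, LinearMap.ker_zero]
    exact le_top)
  rwa [natDegree_X_pow_sub_C, hWm] at this

end nec

end Cfsg.Agent.Lib.H24.Uti
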