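import Mathlib
import Cfsg.Agent.Lib.H24.UndBasic
import Cfsg.Agent.Lib.H24.ElusUniA

set_option autoImplicit false

/-!
# Isometries of a hermitian space whose square is a scalar: nondegenerate subspaces (helper24)

* `exists_und_invol`: an involutory isometry fixes nondegenerate subspaces of every dimension.
* For an isometry `x` with `x² = λ²`, `λ` of norm `-1`: the eigenspaces `E_λ`, `E_{-λ}` are totally
  isotropic of dimension `n/2` (`eigen_dims`), an invariant nondegenerate subspace has even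
  dimension (`und_eigen_even`) and invariant nondegenerate subspaces of every even dimension exist
  (`exists_und_eigen`).
-/

namespace Cfsg.Agent.Lib.H24.Uti

open Polynomial Module
open Cfsg.Agent.Lib.H11.UFrames (orth mem_orth)
open Cfsg.Agent.Lib.H24.Elus
open Cfsg.Agent.Lib.H13

section invol

variable {F : Type*} [Field F] {φ : F →+* F} {V : Type*} [AddCommGroup V]
  [Module F V] [Module.Finite F V] {B : V →ₛₗ[φ] V →ₗ[F] F} {y : End F V}

/-- an involutory isometry fixes nondegenerate subspaces of every dimension -/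
theorem exists_und_invol (h2 : (2 : F) ≠ 0) (hS : B.IsSymm) (hφ2 : ∀ x, φ (φ x) = x)
    (hφne : φ ≠ RingHom.id F) (hiso : ∀ u v, B (y u) (y v) = B u v) (hy : y ^ 2 = 1)
    (hndV : UND B ⊤) (m : ℕ) (hm : m ≤ finrank F V) :
    ∃ W : Submodule F V, finrank F W = m ∧ UND B W ∧ ∀ v ∈ W, y v ∈ W := by
  haveI : Fact (Nat.Prime 2) := ⟨Nat.prime_two⟩
  have hrF : ((2 : ℕ) : F) ≠ 0 := by
    rw [Nat.cast_ofNat]
    exact h2
  have hR := refl_of_symm B hS
  obtain ⟨Fx, hFx⟩ : ∃ Fx, Fx = LinearMap.ker (aeval y (X - 1 : F[X])) := ⟨_, rfl⟩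
  obtain ⟨V', hV'⟩ : ∃ V', V' = LinearMap.ker (aeval y (cyclotomic 2 F)) := ⟨_, rfl⟩
  have htopinv : ∀ v ∈ (⊤ : Submodule F V), y v ∈ (⊤ : Submodule F V) := fun _ _ =>
    Submodule.mem_top
  have hFxnd : UND B Fx := by
    have := UND_fix_part hS hφ2 hiso hrF hy ⊤ htopinv hndV
    rwa [top_inf_eq, ← hFx] at this
  have hV'nd : UND B V' := by
    have := UND_cyc_part hS hφ2 hiso hrF hy ⊤ htopinv hndV
    rwa [top_inf_eq, ← hV'] at this
  have hadd : finrank F Fx + finrank F V' = finrank F V := by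
    have h1 := finrank_split_fix hrF hy ⊤ htopinv
    rwa [top_inf_eq, top_inf_eq, finrank_top, ← hFx, ← hV'] at h1
  have hFxinv : ∀ P : Submodule F V, P ≤ Fx → ∀ v ∈ P, y v ∈ P := by
    intro P hP v hv
    have hv' := hP hv
    rw [hFx] at hv'
    rw [(mem_fix_iff v).mp hv']
    exact hv
  have hV'inv : ∀ R : Submodule F V, R ≤ V' → ∀ v ∈ R, y v ∈ R := by
    intro R hR v hv
    have h1 := hR hv
    rw [hV', LinearMap.mem_ker, cyclotomic_two, map_add, aeval_X, map_one, LinearMap.add_apply,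
      Module.End.one_apply] at h1
    have h3 : y v = -v := eq_neg_of_add_eq_zero_left h1
    rw [h3]
    exact Submodule.neg_mem _ hv
  have horth : ∀ u ∈ Fx, ∀ w ∈ V', B u w = 0 := by
    rw [hFx, hV']
    exact fun u hu w hw => u_fix_orth_cyc hS hφ2 hiso hrF hy u w hu hw
  obtain ⟨W₁, hW₁, hW₁nd, hW₁d⟩ := exists_UND_sub hS hφne Fx hFxnd (min m (finrank F Fx))
    (min_le_right _ _)
  obtain ⟨W₂, hW₂, hW₂nd, hW₂d⟩ := exists_UND_sub hS hφne V' hV'nd
    (m - min m (finrank F Fx)) (by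
      rcases le_total m (finrank F Fx) with h | h
      · rw [min_eq_left h]
        omega
      · rw [min_eq_right h]
        omega)
  have horth' : ∀ u ∈ W₁, ∀ w ∈ W₂, B u w = 0 := fun u hu w hw =>
    horth u (hW₁ hu) w (hW₂ hw)
  refine ⟨W₁ ⊔ W₂, ?_, UND_sup B hR W₁ W₂ hW₁nd hW₂nd horth',
    sup_invariant _ _ (hFxinv W₁ hW₁) (hV'inv W₂ hW₂)⟩
  have h := Submodule.finrank_sup_add_finrank_inf_eq W₁ W₂
  rw [u_inf_eq_bot_of_orth B hR W₁ W₂ hW₁nd horth', finrank_bot, add_zero, hW₁d, hW₂d] at h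
  rw [h]
  have := min_le_left m (finrank F Fx)
  omega

end invol

section eigen

variable {F : Type*} [Field F] {φ : F →+* F} {V : Type*} [AddCommGroup V]
  [Module F V] {B : V →ₛₗ[φ] V →ₗ[F] F} {x : End F V}

theorem mem_eigen_iff (κ : F) (v : V) :
    v ∈ LinearMap.ker (x - κ • (1 : End F V)) ↔ x v = κ • v := by
  rw [LinearMap.mem_ker, LinearMap.sub_apply, LinearMap.smul_apply, Module.End.one_apply,
    sub_eq_zero]

/-- eigenspaces for eigenvalues of norm `-1` are totally isotropic -/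
theorem eigen_ti {q : ℕ} (h2 : (2 : F) ≠ 0) (hφ : ∀ x, φ x = x ^ q)
    (hiso : ∀ u v, B (x u) (x v) = B u v) (κ : F) (hκ : κ ^ (q + 1) = -1) :
    UTI B (LinearMap.ker (x - κ • (1 : End F V))) := by
  intro u hu v hv
  have h1 := hiso u v
  rw [(mem_eigen_iff κ u).mp hu, (mem_eigen_iff κ v).mp hv] at h1
  simp only [map_smulₛₗ, LinearMap.smul_apply, RingHom.id_apply, smul_eq_mul, hφ] at h1
  have h3 : (2 : F) * B u v = 0 := by
    have h4 : κ * (κ ^ q * B u v) = κ ^ (q + 1) * B u v := by ring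
    rw [h4, hκ] at h1
    linear_combination -h1
  rcases mul_eq_zero.mp h3 with h | h
  · exact absurd h h2
  · exact h

theorem eigen_sub_invariant (κ : F) (W : Submodule F V)
    (hW : W ≤ LinearMap.ker (x - κ • (1 : End F V))) : ∀ v ∈ W, x v ∈ W := by
  intro v hv
  rw [(mem_eigen_iff κ v).mp (hW hv)]
  exact W.smul_mem κ hv

/-- the eigencomponents of a vector of an invariant subspace -/
theorem eigen_components (h2 : (2 : F) ≠ 0) (lam : F) (hlam0 : lam ≠ 0)
    (hx : ∀ v, x (x v) = (lam * lam) • v) (W : Submodule F V) (hW : ∀ v ∈ W, x v ∈ W) (v : V)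
    (hv : v ∈ W) :
    ∃ v₁ ∈ W ⊓ LinearMap.ker (x - lam • (1 : End F V)),
      ∃ v₂ ∈ W ⊓ LinearMap.ker (x - (-lam) • (1 : End F V)), v = v₁ + v₂ := by
  have h2l : (2 * lam : F) ≠ 0 := mul_ne_zero h2 hlam0
  refine ⟨(2 * lam)⁻¹ • (lam • v + x v), ?_, (2 * lam)⁻¹ • (lam • v - x v), ?_, ?_⟩
  · rw [Submodule.mem_inf]
    refine ⟨W.smul_mem _ (W.add_mem (W.smul_mem _ hv) (hW v hv)), ?_⟩
    apply Submodule.smul_mem
    rw [mem_eigen_iff, map_add, map_smul, hx, smul_add, smul_smul]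
    abel
  · rw [Submodule.mem_inf]
    refine ⟨W.smul_mem _ (W.sub_mem (W.smul_mem _ hv) (hW v hv)), ?_⟩
    apply Submodule.smul_mem
    rw [mem_eigen_iff, map_sub, map_smul, hx, smul_sub, smul_smul]
    simp only [neg_mul, neg_smul]
    abel
  · rw [← smul_add]
    have : lam • v + x v + (lam • v - x v) = (2 * lam) • v := by
      rw [mul_smul, two_smul]
      abel
    rw [this, smul_smul, inv_mul_cancel₀ h2l, one_smul]

theorem eigen_inf_eq_bot (h2 : (2 : F) ≠ 0) (lam : F) (hlam0 : lam ≠ 0) :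
    LinearMap.ker (x - lam • (1 : End F V)) ⊓ LinearMap.ker (x - (-lam) • (1 : End F V)) = ⊥ := by
  rw [eq_bot_iff]
  intro v hv
  rw [Submodule.mem_inf, mem_eigen_iff, mem_eigen_iff] at hv
  rw [Submodule.mem_bot]
  have h1 : (2 * lam) • v = 0 := by
    have h3 : lam • v = (-lam) • v := hv.1.symm.trans hv.2
    rw [neg_smul] at h3
    rw [mul_smul, two_smul]
    nth_rewrite 1 [h3]
    exact neg_add_cancel _
  exact (smul_eq_zero.mp h1).resolve_left (mul_ne_zero h2 hlam0)

variable [Module.Finite F V]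

/-- the dimension of an invariant subspace is the sum of the dimensions of its eigenparts -/
theorem eigen_split (h2 : (2 : F) ≠ 0) (lam : F) (hlam0 : lam ≠ 0)
    (hx : ∀ v, x (x v) = (lam * lam) • v) (W : Submodule F V) (hW : ∀ v ∈ W, x v ∈ W) :
    finrank F ↥(W ⊓ LinearMap.ker (x - lam • (1 : End F V))) +
      finrank F ↥(W ⊓ LinearMap.ker (x - (-lam) • (1 : End F V))) = finrank F W := by
  have h := Submodule.finrank_sup_add_finrank_inf_eq
    (W ⊓ LinearMap.ker (x - lam • (1 : End F V)))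
    (W ⊓ LinearMap.ker (x - (-lam) • (1 : End F V)))
  have hsup : (W ⊓ LinearMap.ker (x - lam • (1 : End F V))) ⊔
      (W ⊓ LinearMap.ker (x - (-lam) • (1 : End F V))) = W := by
    apply le_antisymm
    · exact sup_le inf_le_left inf_le_left
    · intro v hv
      obtain ⟨v₁, hv₁, v₂, hv₂, rfl⟩ := eigen_components h2 lam hlam0 hx W hW v hv
      exact Submodule.add_mem _ (Submodule.mem_sup_left hv₁) (Submodule.mem_sup_right hv₂)
  have hinf : (W ⊓ LinearMap.ker (x - lam • (1 : End F V))) ⊓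
      (W ⊓ LinearMap.ker (x - (-lam) • (1 : End F V))) = ⊥ := by
    rw [eq_bot_iff, ← eigen_inf_eq_bot (x := x) h2 lam hlam0]
    exact inf_le_inf inf_le_right inf_le_right
  rw [hsup, hinf, finrank_bot, add_zero] at h
  exact h.symm

theorem neg_norm {q : ℕ} (hq : Odd q) (lam : F) (hlam : lam ^ (q + 1) = -1) :
    (-lam) ^ (q + 1) = -1 := by
  rw [Even.neg_pow (by
    obtain ⟨k, hk⟩ := hq
    exact ⟨k + 1, by omega⟩), hlam]

theorem ne_zero_of_norm {q : ℕ} (lam : F) (hlam : lam ^ (q + 1) = -1) : lam ≠ 0 := by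
  rintro rfl
  rw [zero_pow (by omega)] at hlam
  have : (1 : F) = 0 := by linear_combination hlam
  exact one_ne_zero this

/-- an invariant nondegenerate subspace has eigenparts of half the dimension -/
theorem und_eigen_half {q : ℕ} (h2 : (2 : F) ≠ 0) (hq : Odd q) (hφ : ∀ x, φ x = x ^ q)
    (hφ2 : ∀ x, φ (φ x) = x) (hiso : ∀ u v, B (x u) (x v) = B u v) (lam : F)
    (hlam : lam ^ (q + 1) = -1) (hx : ∀ v, x (x v) = (lam * lam) • v) (W : Submodule F V)
    (hW : ∀ v ∈ W, x v ∈ W) (hWnd : UND B W) :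
    2 * finrank F ↥(W ⊓ LinearMap.ker (x - lam • (1 : End F V))) = finrank F W ∧
    2 * finrank F ↥(W ⊓ LinearMap.ker (x - (-lam) • (1 : End F V))) = finrank F W := by
  have hlam0 := ne_zero_of_norm lam hlam
  have h1 := eigen_split h2 lam hlam0 hx W hW
  have h3 := UTI_finrank_le B hφ2 W (W ⊓ LinearMap.ker (x - lam • (1 : End F V))) hWnd inf_le_left
    (UTI_mono B inf_le_right (eigen_ti h2 hφ hiso lam hlam))
  have h4 := UTI_finrank_le B hφ2 W (W ⊓ LinearMap.ker (x - (-lam) • (1 : End F V))) hWnd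
    inf_le_left (UTI_mono B inf_le_right (eigen_ti h2 hφ hiso (-lam) (neg_norm hq lam hlam)))
  omega

end eigen

end Cfsg.Agent.Lib.H24.Uti
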