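import Mathlib
import Cfsg.Agent.Lib.H24.UndTwoA

set_option autoImplicit false

/-!
# Isometries with `x² = λ²`, `λ` of norm `-1`: invariant nondegenerate planes (helper24)
-/

namespace Cfsg.Agent.Lib.H24.Uti

open Polynomial Module
open Cfsg.Agent.Lib.H11.UFrames (orth mem_orth)
open Cfsg.Agent.Lib.H24.Elus
open Cfsg.Agent.Lib.H13

section planes

variable {F : Type*} [Field F] {φ : F →+* F} {V : Type*} [AddCommGroup V]
  [Module F V] [Module.Finite F V] {B : V →ₛₗ[φ] V →ₗ[F] F} {x : End F V}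

/-- a hyperbolic pair of eigenvectors spans an invariant nondegenerate plane -/
theorem und_eigen_pair (hS : B.IsSymm) (κ κ' : F) (a b : V) (ha : x a = κ • a)
    (hb : x b = κ' • b) (haa : B a a = 0) (hbb : B b b = 0) (hab : B a b ≠ 0) :
    (∀ v ∈ Submodule.span F {a} ⊔ Submodule.span F {b},
        x v ∈ Submodule.span F {a} ⊔ Submodule.span F {b}) ∧
      UND B (Submodule.span F {a} ⊔ Submodule.span F {b}) ∧
      finrank F ↥(Submodule.span F {a} ⊔ Submodule.span F {b}) = 2 := by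
  have hR := refl_of_symm B hS
  have hba : B b a ≠ 0 := fun h => hab (hR _ _ h)
  have hmemA : a ∈ Submodule.span F {a} ⊔ Submodule.span F {b} :=
    Submodule.mem_sup_left (Submodule.mem_span_singleton_self a)
  have hmemB : b ∈ Submodule.span F {a} ⊔ Submodule.span F {b} :=
    Submodule.mem_sup_right (Submodule.mem_span_singleton_self b)
  have hcoef : ∀ s t : F, (∀ w ∈ Submodule.span F {a} ⊔ Submodule.span F {b},
      B (s • a + t • b) w = 0) → s = 0 ∧ t = 0 := by
    intro s t h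
    have h1 := h a hmemA
    have h3 := h b hmemB
    simp only [map_add, map_smulₛₗ, LinearMap.add_apply, LinearMap.smul_apply, smul_eq_mul,
      haa, hbb, mul_zero, zero_add, add_zero] at h1 h3
    constructor
    · rcases mul_eq_zero.mp h3 with h | h
      · exact (map_eq_zero φ).mp h
      · exact absurd h hab
    · rcases mul_eq_zero.mp h1 with h | h
      · exact (map_eq_zero φ).mp h
      · exact absurd h hba
  refine ⟨?_, ?_, ?_⟩
  · apply sup_invariant
    · intro v hv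
      obtain ⟨c, rfl⟩ := Submodule.mem_span_singleton.mp hv
      rw [map_smul, ha, smul_smul]
      exact Submodule.smul_mem _ _ (Submodule.mem_span_singleton_self a)
    · intro v hv
      obtain ⟨c, rfl⟩ := Submodule.mem_span_singleton.mp hv
      rw [map_smul, hb, smul_smul]
      exact Submodule.smul_mem _ _ (Submodule.mem_span_singleton_self b)
  · intro u hu h
    obtain ⟨_, hu₁, _, hu₂, rfl⟩ := Submodule.mem_sup.mp hu
    obtain ⟨s, rfl⟩ := Submodule.mem_span_singleton.mp hu₁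
    obtain ⟨t, rfl⟩ := Submodule.mem_span_singleton.mp hu₂
    obtain ⟨hs, ht⟩ := hcoef s t h
    rw [hs, ht, zero_smul, zero_smul, add_zero]
  · apply le_antisymm
    · have h1 := Submodule.finrank_add_le_finrank_add_finrank (Submodule.span F {a})
        (Submodule.span F {b})
      have h3 := finrank_span_singleton (K := F) (v := a) (by
        rintro rfl
        apply hab
        rw [map_zero, LinearMap.zero_apply])
      have h4 := finrank_span_singleton (K := F) (v := b) (by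
        rintro rfl
        apply hab
        rw [map_zero])
      omega
    · apply two_le_finrank_of_pair _ a b hmemA hmemB
      intro s t hst
      apply hcoef s t
      intro w _
      rw [hst, map_zero, LinearMap.zero_apply]

/-- a nonzero eigenvector in an invariant nondegenerate subspace has a partner -/
theorem exists_eigen_partner {q : ℕ} (h2 : (2 : F) ≠ 0) (hφ : ∀ x, φ x = x ^ q)
    (hiso : ∀ u v, B (x u) (x v) = B u v) (lam : F) (hlam : lam ^ (q + 1) = -1)
    (hx : ∀ v, x (x v) = (lam * lam) • v) (U : Submodule F V) (hU : ∀ v ∈ U, x v ∈ U)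
    (hnd : UND B U) (a : V) (haU : a ∈ U) (ha : x a = lam • a) (ha0 : a ≠ 0) :
    ∃ b ∈ U, x b = (-lam) • b ∧ B a b ≠ 0 := by
  have hlam0 := ne_zero_of_norm lam hlam
  obtain ⟨v, hv, hav⟩ : ∃ v ∈ U, B a v ≠ 0 := by
    by_contra hcon
    push Not at hcon
    exact ha0 (hnd a haU hcon)
  obtain ⟨v₁, hv₁, v₂, hv₂, rfl⟩ := eigen_components h2 lam hlam0 hx U hU v hv
  rw [Submodule.mem_inf] at hv₁ hv₂
  refine ⟨v₂, hv₂.1, (mem_eigen_iff _ _).mp hv₂.2, ?_⟩
  have h1 : B a v₁ = 0 :=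
    eigen_ti h2 hφ hiso lam hlam a ((mem_eigen_iff _ _).mpr ha) v₁ hv₁.2
  rw [map_add, h1, zero_add] at hav
  exact hav

/-- invariant nondegenerate planes -/
theorem exists_und_eigen_plane {q : ℕ} (h2 : (2 : F) ≠ 0) (hq : Odd q) (hφ : ∀ x, φ x = x ^ q)
    (hS : B.IsSymm) (hiso : ∀ u v, B (x u) (x v) = B u v) (lam : F) (hlam : lam ^ (q + 1) = -1)
    (hx : ∀ v, x (x v) = (lam * lam) • v) (U : Submodule F V) (hU : ∀ v ∈ U, x v ∈ U)
    (hnd : UND B U) (hne : U ≠ ⊥) :
    ∃ A : Submodule F V, A ≤ U ∧ (∀ v ∈ A, x v ∈ A) ∧ UND B A ∧ finrank F A = 2 := by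
  have hlam0 := ne_zero_of_norm lam hlam
  have hR := refl_of_symm B hS
  have key : ∀ κ : F, κ ^ (q + 1) = -1 → (∀ v, x (x v) = (κ * κ) • v) →
      ∀ a ∈ U, x a = κ • a → a ≠ 0 →
      ∃ A : Submodule F V, A ≤ U ∧ (∀ v ∈ A, x v ∈ A) ∧ UND B A ∧ finrank F A = 2 := by
    intro κ hκ hxκ a haU ha ha0
    obtain ⟨b, hbU, hb, hab⟩ := exists_eigen_partner h2 hφ hiso κ hκ hxκ U hU hnd a haU ha ha0
    have haa : B a a = 0 :=
      eigen_ti h2 hφ hiso κ hκ a ((mem_eigen_iff _ _).mpr ha) a ((mem_eigen_iff _ _).mpr ha)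
    have hbb : B b b = 0 :=
      eigen_ti h2 hφ hiso (-κ) (neg_norm hq κ hκ) b ((mem_eigen_iff _ _).mpr hb) b
        ((mem_eigen_iff _ _).mpr hb)
    obtain ⟨h1, h3, h4⟩ := und_eigen_pair hS κ (-κ) a b ha hb haa hbb hab
    refine ⟨_, sup_le ?_ ?_, h1, h3, h4⟩
    · rw [Submodule.span_singleton_le_iff_mem]
      exact haU
    · rw [Submodule.span_singleton_le_iff_mem]
      exact hbU
  obtain ⟨u, hu, hu0⟩ := (Submodule.ne_bot_iff U).mp hne
  obtain ⟨u₁, hu₁, u₂, hu₂, rfl⟩ := eigen_components h2 lam hlam0 hx U hU u hu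
  rw [Submodule.mem_inf] at hu₁ hu₂
  by_cases h1 : u₁ = 0
  · have h3 : u₂ ≠ 0 := by
      intro h
      apply hu0
      rw [h1, h, add_zero]
    exact key (-lam) (neg_norm hq lam hlam) (fun v => by rw [hx, neg_mul_neg]) u₂ hu₂.1
      ((mem_eigen_iff _ _).mp hu₂.2) h3
  · exact key lam hlam hx u₁ hu₁.1 ((mem_eigen_iff _ _).mp hu₁.2) h1

/-- invariant nondegenerate subspaces form a class with atoms of dimension two -/
theorem uPeelClass_eigen {q : ℕ} (h2 : (2 : F) ≠ 0) (hq : Odd q) (hφ : ∀ x, φ x = x ^ q)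
    (hS : B.IsSymm) (hiso : ∀ u v, B (x u) (x v) = B u v) (lam : F) (hlam : lam ^ (q + 1) = -1)
    (hx : ∀ v, x (x v) = (lam * lam) • v) {N : ℕ} (hN : 0 < N) (hxN : x ^ N = 1) :
    UPeelClass B (fun A => (∀ v ∈ A, x v ∈ A) ∧ UND B A) 2 where
  pos := by norm_num
  bot := ⟨fun v hv => by
    rw [Submodule.mem_bot] at hv ⊢
    rw [hv, map_zero], UND_bot B⟩
  nd := fun _ h => h.2
  perp := fun U A hU hA hAU => ⟨u_inf_orth_invariant hiso hN hxN U A hU.1 hA.1,
    UND_perp_in B (refl_of_symm B hS) U A hU.2 hA.2 hAU⟩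
  sup := fun A A' hA hA' horth => ⟨sup_invariant A A' hA.1 hA'.1,
    UND_sup B (refl_of_symm B hS) A A' hA.2 hA'.2 horth⟩
  atom := by
    intro U hU hne
    obtain ⟨A, hAU, hAinv, hAnd, hAdim⟩ :=
      exists_und_eigen_plane h2 hq hφ hS hiso lam hlam hx U hU.1 hU.2 hne
    exact ⟨A, hAU, ⟨hAinv, hAnd⟩, hAdim⟩

/-- invariant nondegenerate subspaces of every even dimension -/
theorem exists_und_eigen {q : ℕ} (h2 : (2 : F) ≠ 0) (hq : Odd q) (hφ : ∀ x, φ x = x ^ q)
    (hS : B.IsSymm) (hiso : ∀ u v, B (x u) (x v) = B u v) (lam : F) (hlam : lam ^ (q + 1) = -1)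
    (hx : ∀ v, x (x v) = (lam * lam) • v) {N : ℕ} (hN : 0 < N) (hxN : x ^ N = 1)
    (hndV : UND B ⊤) (m : ℕ) (hme : Even m) (hm : m ≤ finrank F V) :
    ∃ W : Submodule F V, finrank F W = m ∧ UND B W ∧ ∀ v ∈ W, x v ∈ W := by
  obtain ⟨k, hk⟩ := hme
  obtain ⟨W, -, hWQ, hWdim⟩ := u_peel_exists (refl_of_symm B hS)
    (uPeelClass_eigen h2 hq hφ hS hiso lam hlam hx hN hxN) k ⊤
    ⟨fun _ _ => Submodule.mem_top, hndV⟩ (by rw [finrank_top]; omega)
  exact ⟨W, by rw [hWdim]; omega, hWQ.2, hWQ.1⟩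

end planes

end Cfsg.Agent.Lib.H24.Uti
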