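import Mathlib
import Cfsg.Agent.Lib.H24.UndTwoB
import Cfsg.Agent.Lib.H24.UndNecOdd

set_option autoImplicit false

/-!
# Elements of order two of `PSU_n(q)` and nondegenerate subspaces (helper24)

* `und_suff_two`: sufficiency of the condition of S5954 for `r = 2 ≠ p`.
* `und_nec_two`: necessity.
-/

namespace Cfsg.Agent.Lib.H24.Uti

open Polynomial Module
open Cfsg.Agent.Lib.H11.UFrames (orth mem_orth)
open Cfsg.Agent.Lib.H24.Elus
open Cfsg.Agent.Lib.H13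
open Cfsg.Agent.S0837 (Bs Bs_apply Bs_symm Bs_nondeg)

section two

variable {F : Type*} [Field F] [Fintype F] {φ : F →+* F} {q : ℕ}

theorem sq_apply_of_pow (n : ℕ) (M : Matrix (Fin n) (Fin n) F) (c : F) (hM2 : M ^ 2 = c • 1)
    (v : Fin n → F) : Matrix.toLin' M (Matrix.toLin' M v) = c • v := by
  have := LinearMap.congr_fun (toLin'_pow_eq_smul n 2 M c hM2) v
  rw [pow_two, Module.End.mul_apply, LinearMap.smul_apply, Module.End.one_apply] at this
  exact this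

/-- the determinant of a unitary matrix with `M² = λ²`, `λ` of norm `-1` -/
theorem det_eigen (h2 : (2 : F) ≠ 0) (hq : Odd q) (hφ : ∀ x, φ x = x ^ q)
    (hφ2 : ∀ x, φ (φ x) = x) (n : ℕ) (M : Matrix (Fin n) (Fin n) F) (hM : IsUn φ n M) (lam : F)
    (hlam : lam ^ (q + 1) = -1) (hM2 : M ^ 2 = (lam * lam) • 1) :
    ∃ k, n = 2 * k ∧ M.det = (-(lam * lam)) ^ k := by
  have hlam0 := ne_zero_of_norm lam hlam
  have hx := sq_apply_of_pow n M (lam * lam) hM2
  obtain ⟨-, hhalf⟩ := und_eigen_half h2 hq hφ hφ2 hM lam hlam hx ⊤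
    (fun _ _ => Submodule.mem_top) (UND_top_Bs n)
  rw [top_inf_eq, finrank_top, finrank_stdU] at hhalf
  obtain ⟨Y, hY⟩ : ∃ Y : Matrix (Fin n) (Fin n) F, Y = lam⁻¹ • M := ⟨_, rfl⟩
  have hYY : Y * Y = 1 := by
    rw [hY, Matrix.smul_mul, Matrix.mul_smul, ← pow_two, hM2, smul_smul, smul_smul]
    have : lam⁻¹ * lam⁻¹ * (lam * lam) = 1 := by field_simp
    rw [this, one_smul]
  have hker : LinearMap.ker (Matrix.toLin' Y + LinearMap.id) =
      LinearMap.ker (Matrix.toLin' M - (-lam) • (1 : End F (Fin n → F))) := by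
    ext v
    rw [mem_eigen_iff, LinearMap.mem_ker, LinearMap.add_apply, LinearMap.id_apply, hY, map_smul,
      LinearMap.smul_apply]
    constructor
    · intro h
      have h1 : lam⁻¹ • Matrix.toLin' M v = -v := eq_neg_of_add_eq_zero_left h
      have h3 := congrArg (fun w => lam • w) h1
      simp only [smul_smul, mul_inv_cancel₀ hlam0, one_smul, smul_neg] at h3
      rw [h3, neg_smul]
    · intro h
      have h1 : lam⁻¹ * -lam = -1 := by field_simp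
      rw [h, smul_smul, h1, neg_one_smul, neg_add_cancel]
  have hdetY := Cfsg.Agent.Lib.H11.SuDec.det_of_invol h2 Y hYY
  rw [hker] at hdetY
  have hMY : M = lam • Y := by
    rw [hY, smul_smul, mul_inv_cancel₀ hlam0, one_smul]
  obtain ⟨k, hk⟩ : ∃ k, k = finrank F ↥(LinearMap.ker
      (Matrix.toLin' M - (-lam) • (1 : End F (Fin n → F)))) := ⟨_, rfl⟩
  rw [← hk] at hhalf hdetY
  have hpow : lam ^ n = (lam * lam) ^ k := by rw [← hhalf, pow_mul, pow_two]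
  refine ⟨k, hhalf.symm, ?_⟩
  rw [hMY, Matrix.det_smul, Fintype.card_fin, hdetY, hpow, neg_pow (lam * lam)]
  ring

/-- sufficiency for `r = 2` -/
theorem und_suff_two (hF : Fintype.card F = q ^ 2) (hφ : ∀ x, φ x = x ^ q)
    (hφ2 : ∀ x, φ (φ x) = x) (hφne : φ ≠ RingHom.id F) (h2 : (2 : F) ≠ 0) (hq : Odd q)
    (n m : ℕ) (hm : 1 ≤ m) (hmn : m ≤ n)
    (h : Odd n ∨ Even m ∨ (padicValNat 2 n ≤ padicValNat 2 (q + 1) ∧ q % 4 = 3))
    (M : Matrix (Fin n) (Fin n) F) (hM : IsUn φ n M) (hdet : M.det = 1) (z : F)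
    (hM2 : M ^ 2 = z • 1) :
    ∃ W : Submodule F (Fin n → F), finrank F W = m ∧ UND (Bs φ n) W ∧
      ∀ v ∈ W, Matrix.toLin' M v ∈ W := by
  have hS := Bs_symm φ hφ2 n
  have hndV : UND (Bs φ n) ⊤ := UND_top_Bs n
  have hx2 := toLin'_pow_eq_smul n 2 M z hM2
  have hzq : z ^ (q + 1) = 1 :=
    norm_one_of_pow_smul hφ hS hφne (Matrix.toLin' M) hM 2 z hx2 hndV (by
      rw [finrank_stdU]; omega)
  by_cases hw : ∃ w : F, w ^ 2 = z ∧ w ^ (q + 1) = 1
  · obtain ⟨w, hw2, hwq⟩ := hw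
    obtain ⟨y, hy2, hyiso, -, hyinv⟩ :=
      u_normalize (B := Bs φ n) hφ 2 (Matrix.toLin' M) hM z w hx2 hw2 hwq
    obtain ⟨W, hWm, hWnd, hWinv⟩ := exists_und_invol h2 hS hφ2 hφne hyiso hy2 hndV m (by
      rw [finrank_stdU]; exact hmn)
    exact ⟨W, hWm, hWnd, hyinv W hWinv⟩
  · obtain ⟨lam, hl2, hlq⟩ := exists_sqrt_norm hF hq h2 z hzq hw
    rw [← hl2] at hM2
    obtain ⟨k, hnk, hdetk⟩ := det_eigen h2 hq hφ hφ2 n M hM lam hlq hM2
    have hx := sq_apply_of_pow n M (lam * lam) hM2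
    have hxN : (Matrix.toLin' M) ^ (2 * (q + 1)) = 1 := by
      rw [pow_mul, hx2, _root_.smul_pow, one_pow, hzq, one_smul]
    rcases h with h | h | h
    · exfalso
      rw [hnk] at h
      exact (Nat.not_even_iff_odd.mpr h) (even_two_mul k)
    · exact exists_und_eigen h2 hq hφ hS hM lam hlq hx (by omega : 0 < 2 * (q + 1)) hxN hndV m h
        (by rw [finrank_stdU]; exact hmn)
    · exfalso
      obtain ⟨hv, hq4⟩ := h
      rw [hdet, hl2] at hdetk
      have hk0 : 0 < k := by omega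
      have hqe : Even (q + 1) := by
        obtain ⟨j, hj⟩ := hq
        exact ⟨j + 1, by omega⟩
      have ht1 : (-z) ^ (q + 1) = 1 := by rw [hqe.neg_pow, hzq]
      have hgcd : (-z) ^ (Nat.gcd (q + 1) k) = 1 := pow_gcd_eq_one.mpr ⟨ht1, hdetk.symm⟩
      haveI : Fact (Nat.Prime 2) := ⟨Nat.prime_two⟩
      have hdvd := gcd_dvd_div_of_padic 2 (q + 1) k (Nat.succ_pos q) hk0 (by
        rw [mul_comm, ← hnk]
        exact hv)
      obtain ⟨j, hj⟩ := hdvd
      have h5 : (-z) ^ ((q + 1) / 2) = 1 := by rw [hj, pow_mul, hgcd, one_pow]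
      have h6 : Even ((q + 1) / 2) := ⟨(q + 1) / 4, by omega⟩
      rw [h6.neg_pow, ← hl2, ← pow_two, ← pow_mul, Nat.mul_div_cancel' hqe.two_dvd, hlq] at h5
      apply h2
      linear_combination -h5

/-- a unitary matrix of determinant one with `M² = λ²` -/
theorem exists_u_eigen (h2 : (2 : F) ≠ 0) (hq : Odd q) (hφ : ∀ x, φ x = x ^ q)
    (hφ2 : ∀ x, φ (φ x) = x) (hφne : φ ≠ RingHom.id F) (n : ℕ) (hne : Even n) (lam : F)
    (hlam : lam ^ (q + 1) = -1) (hdetc : (-(lam * lam)) ^ (n / 2) = 1) :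
    ∃ M : Matrix (Fin n) (Fin n) F, IsUn φ n M ∧ M.det = 1 ∧ M ^ 2 = (lam * lam) • 1 := by
  have hzq : (lam * lam) ^ (q + 1) = 1 := by
    rw [mul_pow, hlam, neg_mul_neg, one_mul]
  obtain ⟨M, hM, hMz⟩ := exists_u_mono hφ hφne hφ2 2 (lam * lam) hzq (n / 2) n
    (Nat.div_mul_cancel hne.two_dvd).symm
  have hMr : (Matrix.toLin' M) ^ 2 = (lam * lam) • (1 : End F (Fin n → F)) := by
    rw [map_sub, map_pow, aeval_X, aeval_C, Algebra.algebraMap_eq_smul_one, sub_eq_zero] at hMz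
    exact hMz
  have hMr' : M ^ 2 = (lam * lam) • (1 : Matrix (Fin n) (Fin n) F) := by
    apply Matrix.toLin'.injective
    rw [Matrix.toLin'_pow, hMr, map_smul, Matrix.toLin'_one]
    rfl
  refine ⟨M, hM, ?_, hMr'⟩
  obtain ⟨k, hnk, hdetk⟩ := det_eigen h2 hq hφ hφ2 n M hM lam hlam hMr'
  have : n / 2 = k := by omega
  rw [hdetk, ← this, hdetc]

/-- an element of order two modulo scalars fixing no nondegenerate subspace of odd dimension -/
theorem not_ufixnd_of_eigen (h2 : (2 : F) ≠ 0) (hq : Odd q) (hφ : ∀ x, φ x = x ^ q)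
    (hφ2 : ∀ x, φ (φ x) = x) (hφne : φ ≠ RingHom.id F) (n m : ℕ) (hn : 0 < n) (hne : Even n)
    (hmo : Odd m) (lam : F) (hlam : lam ^ (q + 1) = -1)
    (hdetc : (-(lam * lam)) ^ (n / 2) = 1) : ¬ UFixNd φ n m 2 := by
  intro hfix
  obtain ⟨M, hM, hdet, hM2⟩ := exists_u_eigen h2 hq hφ hφ2 hφne n hne lam hlam hdetc
  obtain ⟨W, hWm, hWnd, hWinv⟩ := hfix M hM hdet ⟨_, hM2⟩ (by
    intro c hc
    have h1 : c ^ 2 = lam * lam := smul_one_pow_entry n 2 hn c _ (by rw [← hc, hM2])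
    have h3 : c ^ (q + 1) = 1 :=
      smul_norm_one_of_isUn hφ hφ2 hφne n hn c (by rw [← hc]; exact hM)
    have h4 : (c - lam) * (c + lam) = 0 := by linear_combination h1
    have h5 : c ^ (q + 1) = -1 := by
      rcases mul_eq_zero.mp h4 with h | h
      · rw [sub_eq_zero.mp h, hlam]
      · rw [eq_neg_of_add_eq_zero_left h, neg_norm hq lam hlam]
    apply h2
    linear_combination h5 - h3)
  have hx := sq_apply_of_pow n M (lam * lam) hM2
  obtain ⟨h1, -⟩ := und_eigen_half h2 hq hφ hφ2 hM lam hlam hx W hWinv hWnd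
  rw [hWm] at h1
  obtain ⟨j, hj⟩ := hmo
  omega

/-- necessity for `r = 2` -/
theorem und_nec_two (hF : Fintype.card F = q ^ 2) (hφ : ∀ x, φ x = x ^ q)
    (hφ2 : ∀ x, φ (φ x) = x) (hφne : φ ≠ RingHom.id F) (h2 : (2 : F) ≠ 0) (hq : Odd q)
    (n m : ℕ) (hn : 0 < n) (hne : Even n) (hmo : Odd m)
    (hv : q % 4 = 1 ∨ (q % 4 = 3 ∧ padicValNat 2 (q + 1) < padicValNat 2 n)) :
    ¬ UFixNd φ n m 2 := by
  have hqe : Even (q + 1) := by
    obtain ⟨j, hj⟩ := hq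
    exact ⟨j + 1, by omega⟩
  rcases hv with hq4 | ⟨hq4, hv⟩
  · -- `λ² = -1`
    have hz : (-1 : F) ^ (q + 1) = 1 := hqe.neg_one_pow
    have hno : ¬ ∃ w : F, w ^ 2 = -1 ∧ w ^ (q + 1) = 1 := by
      rintro ⟨w, hw2, hwq⟩
      have h1 : w ^ (q + 1) = -1 := by
        have h3 : q + 1 = 2 * ((q + 1) / 2) := (Nat.mul_div_cancel' hqe.two_dvd).symm
        have h4 : Odd ((q + 1) / 2) := ⟨q / 4, by omega⟩
        rw [h3, pow_mul, hw2, h4.neg_one_pow]
      apply h2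
      linear_combination h1 - hwq
    obtain ⟨lam, hl2, hlq⟩ := exists_sqrt_norm hF hq h2 (-1) hz hno
    exact not_ufixnd_of_eigen h2 hq hφ hφ2 hφne n m hn hne hmo lam hlq (by
      rw [hl2, neg_neg, one_pow])
  · -- `-λ²` of order `(q + 1)_2`
    have : Fact (Nat.Prime 2) := ⟨Nat.prime_two⟩
    obtain ⟨a, ha⟩ : ∃ a, a = padicValNat 2 (q + 1) := ⟨_, rfl⟩
    rw [← ha] at hv
    obtain ⟨t, htord, htq⟩ := exists_orderOf_of_dvd hF (2 ^ a) (by
      rw [ha]; exact pow_padicValNat_dvd)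
    have hz : (-t) ^ (q + 1) = 1 := by rw [hqe.neg_pow, htq]
    have hno : ¬ ∃ w : F, w ^ 2 = -t ∧ w ^ (q + 1) = 1 := by
      rintro ⟨w, hw2, hwq⟩
      have h3 : q + 1 = 2 * ((q + 1) / 2) := (Nat.mul_div_cancel' hqe.two_dvd).symm
      have h4 : Even ((q + 1) / 2) := ⟨(q + 1) / 4, by omega⟩
      have h5 : t ^ ((q + 1) / 2) = 1 := by
        rw [← h4.neg_pow, ← hw2, ← pow_mul, ← h3, hwq]
      rw [← orderOf_dvd_iff_pow_eq_one, htord] at h5
      obtain ⟨j, hj⟩ := h5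
      have h6 : 2 ^ (a + 1) ∣ q + 1 := ⟨j, by rw [h3, hj]; ring⟩
      rw [ha] at h6
      exact pow_succ_padicValNat_not_dvd (Nat.succ_ne_zero q) h6
    obtain ⟨lam, hl2, hlq⟩ := exists_sqrt_norm hF hq h2 (-t) hz hno
    exact not_ufixnd_of_eigen h2 hq hφ hφ2 hφne n m hn hne hmo lam hlq (by
      rw [hl2, neg_neg, ← orderOf_dvd_iff_pow_eq_one, htord]
      obtain ⟨j, hj⟩ : 2 ^ (a + 1) ∣ n :=
        (pow_dvd_pow 2 (by omega)).trans pow_padicValNat_dvd
      refine ⟨j, ?_⟩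
      have h7 : 2 ^ (a + 1) * j = 2 * (2 ^ a * j) := by ring
      rw [hj, h7, Nat.mul_div_cancel_left _ (by norm_num)])

end two

end Cfsg.Agent.Lib.H24.Uti
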