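import Mathlib
import Cfsg.Agent.Lib.H24.UndBasic
import Cfsg.Agent.Lib.H24.ElusUniA

set_option autoImplicit false

/-!
# Unipotent isometries of a hermitian form: orthogonal decomposition into cyclic blocks (helper24)

Let `y = 1 + N` be an isometry of a hermitian form `B`, with `N` nilpotent.  Every nonzero
nondegenerate invariant subspace `U` contains a nonzero nondegenerate invariant cyclic subspace
(`exists_piece_u`), hence is an orthogonal sum of such blocks; sub-multisets of the multiset of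
block dimensions give invariant nondegenerate subspaces (`exists_und_blocks`).
-/

namespace Cfsg.Agent.Lib.H24.Uti

open Polynomial Module
open Cfsg.Agent.Lib.H11.UFrames (orth mem_orth)
open Cfsg.Agent.Lib.H24.Elus
open Cfsg.Agent.Lib.H13

section uni

variable {F : Type*} [Field F] {φ : F →+* F} {V : Type*} [AddCommGroup V] [Module F V]
  {B : V →ₛₗ[φ] V →ₗ[F] F} {y N : End F V}

theorem uni_adj_u (hiso : ∀ u v, B (y u) (y v) = B u v) (hyN : ∀ v, y v = v + N v) (a b : V) :
    B (N a) b = - B (y a) (N b) := by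
  have h := hiso a b
  rw [hyN b] at h
  rw [hyN a] at h ⊢
  simp only [map_add, LinearMap.add_apply] at h ⊢
  linear_combination h

/-- vanishing: `B (N^k a) b = 0` when `N^k b = 0` -/
theorem uni_vanish_u (hiso : ∀ u v, B (y u) (y v) = B u v) (hyN : ∀ v, y v = v + N v) (k : ℕ) :
    ∀ a b : V, (N ^ k) b = 0 → B ((N ^ k) a) b = 0 := by
  induction k with
  | zero =>
    intro a b hb
    rw [pow_zero, Module.End.one_apply] at hb
    rw [hb, map_zero]
  | succ k ih =>
    intro a b hb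
    rw [pow_succ', Module.End.mul_apply, uni_adj_u hiso hyN, uni_comm_pow hyN, neg_eq_zero]
    apply ih
    rw [← Module.End.mul_apply, ← pow_succ]
    exact hb

/-- transfer: `B (N^k a) b = (-1)^k B a (N^k b)` when `N^(k+1) b = 0` -/
theorem uni_transfer_u (hiso : ∀ u v, B (y u) (y v) = B u v) (hyN : ∀ v, y v = v + N v)
    (k : ℕ) :
    ∀ a b : V, (N ^ (k + 1)) b = 0 → B ((N ^ k) a) b = (-1) ^ k * B a ((N ^ k) b) := by
  induction k with
  | zero =>
    intro a b _
    rw [pow_zero, pow_zero, one_mul]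
    rfl
  | succ k ih =>
    intro a b hb
    have hb' : (N ^ (k + 1)) (N b) = 0 := by
      rw [← Module.End.mul_apply, ← pow_succ]
      exact hb
    have hfix : y ((N ^ (k + 1)) b) = (N ^ (k + 1)) b := by
      apply uni_fix hyN
      rw [← Module.End.mul_apply, ← pow_succ']
      exact hb
    have h1 : (N ^ (k + 1)) a = N ((N ^ k) a) := by
      rw [pow_succ', Module.End.mul_apply]
    have h2 : (N ^ k) (N b) = (N ^ (k + 1)) b := by
      rw [pow_succ, Module.End.mul_apply]
    rw [h1, uni_adj_u hiso hyN, uni_comm_pow hyN, ih (y a) (N b) hb', h2]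
    have h3 : B (y a) ((N ^ (k + 1)) b) = B a ((N ^ (k + 1)) b) := by
      conv_lhs => rw [← hfix]
      rw [hiso]
    rw [h3]
    ring

/-- nondegeneracy from the top form -/
theorem UND_of_top (hiso : ∀ u v, B (y u) (y v) = B u v) (hyN : ∀ v, y v = v + N v) (k : ℕ)
    (P : Submodule F V) (hPN : ∀ v ∈ P, N v ∈ P) (hk : ∀ v ∈ P, (N ^ (k + 1)) v = 0)
    (htop : ∀ a ∈ P, (∀ b ∈ P, B a ((N ^ k) b) = 0) → ∃ a' ∈ P, a = N a') : UND B P := by
  intro a ha h
  have hpowmem : ∀ (j : ℕ) (v : V), v ∈ P → (N ^ j) v ∈ P := fun j v hv =>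
    pow_mem_of_invariant N P hPN j v hv
  have key : ∀ j : ℕ, j ≤ k + 1 → ∃ aj ∈ P, a = (N ^ j) aj := by
    intro j
    induction j with
    | zero =>
      intro _
      exact ⟨a, ha, rfl⟩
    | succ j ih =>
      intro hj
      obtain ⟨aj, haj, hajeq⟩ := ih (by omega)
      have h1 : ∀ b ∈ P, B aj ((N ^ k) b) = 0 := by
        intro b hb
        have h2 : (N ^ (j + 1)) ((N ^ (k - j)) b) = 0 := by
          rw [pow_add_apply]
          have : j + 1 + (k - j) = k + 1 := by omega
          rw [this]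
          exact hk b hb
        have h3 := uni_transfer_u hiso hyN j aj ((N ^ (k - j)) b) h2
        rw [← hajeq, h _ (hpowmem _ b hb), pow_add_apply] at h3
        have h4 : j + (k - j) = k := by omega
        rw [h4] at h3
        have h5 : ((-1 : F) ^ j) ≠ 0 := pow_ne_zero _ (neg_ne_zero.mpr one_ne_zero)
        rcases mul_eq_zero.mp h3.symm with h6 | h6
        · exact absurd h6 h5
        · exact h6
      obtain ⟨a', ha', ha'eq⟩ := htop aj haj h1
      refine ⟨a', ha', ?_⟩
      rw [hajeq, ha'eq, ← Module.End.mul_apply, ← pow_succ]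
  obtain ⟨a', ha', ha'eq⟩ := key (k + 1) le_rfl
  rw [ha'eq, hk a' ha']

/-- the top condition for a cyclic subspace -/
theorem top_single_u (hiso : ∀ u v, B (y u) (y v) = B u v) (hyN : ∀ v, y v = v + N v) (k : ℕ)
    (v : V) (hv : (N ^ (k + 1)) v = 0) (hvv : B v ((N ^ k) v) ≠ 0) :
    ∀ a ∈ cycSub N v, (∀ b ∈ cycSub N v, B a ((N ^ k) b) = 0) → ∃ a' ∈ cycSub N v, a = N a' := by
  rintro _ ⟨g, rfl⟩ h
  rw [evalAt_apply] at h ⊢
  have h1 := h v (self_mem_cycSub N v)
  have hz : B (N (aeval N g.divX v)) ((N ^ k) v) = 0 := by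
    have := uni_vanish_u hiso hyN 1 (aeval N g.divX v) ((N ^ k) v) (by
      rw [pow_add_apply, add_comm]; exact hv)
    rwa [pow_one] at this
  rw [aeval_eq_coeff_add, map_add, LinearMap.add_apply, hz, add_zero, map_smulₛₗ,
    LinearMap.smul_apply, smul_eq_mul] at h1
  have h0 : g.coeff 0 = 0 := by
    rcases mul_eq_zero.mp h1 with h2 | h2
    · exact (map_eq_zero φ).mp h2
    · exact absurd h2 hvv
  refine ⟨aeval N g.divX v, ⟨g.divX, rfl⟩, ?_⟩
  rw [aeval_eq_coeff_add, h0, zero_smul, zero_add]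

/-- a sesquilinear expression which does not vanish has a nonzero diagonal value -/
theorem exists_top_nonisotropic (hφne : φ ≠ RingHom.id F) (T : End F V) (U : Submodule F V)
    (a b : V) (ha : a ∈ U) (hb : b ∈ U) (hab : B a (T b) ≠ 0) : ∃ v ∈ U, B v (T v) ≠ 0 := by
  by_contra hcon
  push Not at hcon
  have hexp : ∀ s : F, s * B a (T b) + φ s * B b (T a) = 0 := by
    intro s
    have h1 := hcon (a + s • b) (U.add_mem ha (U.smul_mem s hb))
    have h2 := hcon a ha
    have h3 := hcon b hb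
    simp only [map_add, map_smul, map_smulₛₗ, LinearMap.add_apply, LinearMap.smul_apply,
      smul_eq_mul, h2, h3, mul_zero, zero_add, add_zero] at h1
    linear_combination h1
  have h1 := hexp 1
  rw [map_one, one_mul, one_mul] at h1
  apply hφne
  apply RingHom.ext
  intro s
  rw [RingHom.id_apply]
  have h3 : (s - φ s) * B a (T b) = 0 := by
    linear_combination hexp s - φ s * h1
  rcases mul_eq_zero.mp h3 with h | h
  · exact (sub_eq_zero.mp h).symm
  · exact absurd h hab

section fd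

variable [FiniteDimensional F V]

/-- every nonzero nondegenerate invariant subspace contains a nonzero nondegenerate invariant
cyclic subspace -/
theorem exists_piece_u (hS : B.IsSymm) (hφne : φ ≠ RingHom.id F)
    (hiso : ∀ u v, B (y u) (y v) = B u v) (hyN : ∀ v, y v = v + N v) (p : ℕ)
    (hNp : ∀ v, (N ^ p) v = 0) (U : Submodule F V) (hU : ∀ v ∈ U, y v ∈ U) (hnd : UND B U)
    (hne : U ≠ ⊥) :
    ∃ P : Submodule F V, P ≤ U ∧ (∀ v ∈ P, y v ∈ P) ∧ UND B P ∧ P ≠ ⊥ ∧ finrank F P ≤ p := by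
  classical
  have hR := refl_of_symm B hS
  have hUN : ∀ v ∈ U, N v ∈ U := by
    intro v hv
    have := hU v hv
    rw [hyN] at this
    exact (Submodule.add_mem_iff_right U hv).mp this
  have hex : ∃ e, ∀ v ∈ U, (N ^ e) v = 0 := ⟨p, fun v _ => hNp v⟩
  have he₀ : ∀ v ∈ U, (N ^ (Nat.find hex)) v = 0 := Nat.find_spec hex
  have he₀p : Nat.find hex ≤ p := Nat.find_min' hex (fun v _ => hNp v)
  have he₀pos : Nat.find hex ≠ 0 := by
    intro h0
    obtain ⟨u, hu, hu0⟩ := (Submodule.ne_bot_iff U).mp hne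
    have := he₀ u hu
    rw [h0, pow_zero, Module.End.one_apply] at this
    exact hu0 this
  obtain ⟨k, hk⟩ : ∃ k, Nat.find hex = k + 1 := Nat.exists_eq_succ_of_ne_zero he₀pos
  have hmin : ¬ ∀ v ∈ U, (N ^ k) v = 0 := Nat.find_min hex (by omega)
  push Not at hmin
  obtain ⟨b, hb, hb0⟩ := hmin
  rw [hk] at he₀ he₀p
  have hNkb : (N ^ k) b ∈ U := pow_mem_of_invariant N U hUN k b hb
  obtain ⟨a, ha, hab⟩ : ∃ a ∈ U, B a ((N ^ k) b) ≠ 0 := by
    by_contra hcon
    push Not at hcon
    apply hb0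
    apply hnd _ hNkb
    intro v hv
    exact hR _ _ (hcon v hv)
  obtain ⟨v, hv, hvv⟩ := exists_top_nonisotropic hφne (N ^ k) U a b ha hb hab
  have hyinv : ∀ P : Submodule F V, (∀ v ∈ P, N v ∈ P) → ∀ v ∈ P, y v ∈ P := by
    intro P hP v hv
    rw [hyN]
    exact Submodule.add_mem _ hv (hP v hv)
  have hPU : cycSub N v ≤ U := cycSub_le N v U hUN hv
  refine ⟨cycSub N v, hPU, hyinv _ (cycSub_invariant N v), ?_, ?_, ?_⟩
  · exact UND_of_top hiso hyN k _ (cycSub_invariant N v) (fun w hw => he₀ w (hPU hw))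
      (top_single_u hiso hyN k v (he₀ v hv) hvv)
  · intro hbot
    have := self_mem_cycSub N v
    rw [hbot, Submodule.mem_bot] at this
    rw [this, map_zero, LinearMap.zero_apply] at hvv
    exact hvv rfl
  · refine (finrank_cycSub_le N v (X ^ (k + 1)) (monic_X_pow _) ?_).trans ?_
    · rw [map_pow, aeval_X]
      exact he₀ v hv
    · rw [natDegree_X_pow]
      exact he₀p

/-- the block decomposition: sub-multisets of the multiset of block dimensions give invariant
nondegenerate subspaces -/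
theorem exists_und_blocks (hS : B.IsSymm) (hφne : φ ≠ RingHom.id F)
    (hiso : ∀ u v, B (y u) (y v) = B u v) (hyN : ∀ v, y v = v + N v) (p : ℕ)
    (hNp : ∀ v, (N ^ p) v = 0) {r : ℕ} (hr : 0 < r) (hyr : y ^ r = 1) :
    ∀ (U : Submodule F V), (∀ v ∈ U, y v ∈ U) → UND B U →
      ∃ μ : Multiset ℕ, (∀ a ∈ μ, 0 < a ∧ a ≤ p) ∧ μ.sum = finrank F U ∧
        ∀ ν : Multiset ℕ, ν ≤ μ → ∃ W : Submodule F V, W ≤ U ∧ finrank F W = ν.sum ∧ UND B W ∧
          ∀ v ∈ W, y v ∈ W := by
  have hR := refl_of_symm B hS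
  intro U
  induction h : finrank F U using Nat.strong_induction_on generalizing U with
  | _ n ih =>
    intro hU hnd
    by_cases hne : U = ⊥
    · refine ⟨0, fun a ha => absurd ha (Multiset.notMem_zero a), ?_, ?_⟩
      · rw [Multiset.sum_zero, ← h, hne, finrank_bot]
      · intro ν hν
        rw [Multiset.le_zero] at hν
        refine ⟨⊥, bot_le, by rw [hν, Multiset.sum_zero, finrank_bot], UND_bot B, ?_⟩
        intro v hv
        rw [Submodule.mem_bot] at hv ⊢
        rw [hv, map_zero]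
    · obtain ⟨P₀, hP₀U, hP₀inv, hP₀nd, hP₀ne, hP₀dim⟩ :=
        exists_piece_u hS hφne hiso hyN p hNp U hU hnd hne
      have h1 := u_finrank_perp_in B hR U P₀ hP₀nd hP₀U
      have hpos : 0 < finrank F P₀ := by
        rw [Nat.pos_iff_ne_zero]
        intro h0
        exact hP₀ne (Submodule.finrank_eq_zero.mp h0)
      obtain ⟨μ', hμ'1, hμ'2, hμ'3⟩ := ih (finrank F ↥(U ⊓ orth B P₀))
        (by omega) (U ⊓ orth B P₀) rfl (u_inf_orth_invariant hiso hr hyr U P₀ hU hP₀inv)
        (UND_perp_in B hR U P₀ hnd hP₀nd hP₀U)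
      refine ⟨finrank F P₀ ::ₘ μ', ?_, ?_, ?_⟩
      · intro a ha
        rcases Multiset.mem_cons.mp ha with h3 | h3
        · rw [h3]
          exact ⟨hpos, hP₀dim⟩
        · exact hμ'1 a h3
      · rw [Multiset.sum_cons, hμ'2, h1, h]
      · intro ν hν
        by_cases hmem : finrank F P₀ ∈ ν
        · have h3 : ν.erase (finrank F P₀) ≤ μ' := Multiset.erase_le_iff_le_cons.mpr hν
          obtain ⟨W', hW'le, hW'dim, hW'nd, hW'inv⟩ := hμ'3 _ h3
          have horth : ∀ u ∈ P₀, ∀ v ∈ W', B u v = 0 := fun u hu v hv =>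
            (Submodule.mem_inf.mp (hW'le hv)).2 u hu
          refine ⟨P₀ ⊔ W', sup_le hP₀U (hW'le.trans inf_le_left), ?_,
            UND_sup B hR P₀ W' hP₀nd hW'nd horth, sup_invariant P₀ W' hP₀inv hW'inv⟩
          have h4 := Submodule.finrank_sup_add_finrank_inf_eq P₀ W'
          rw [u_inf_eq_bot_of_orth B hR P₀ W' hP₀nd horth, finrank_bot, add_zero, hW'dim,
            Multiset.sum_erase hmem] at h4
          exact h4
        · have h3 : ν ≤ μ' := (Multiset.le_cons_of_notMem hmem).mp hν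
          obtain ⟨W', hW'le, hW'dim, hW'nd, hW'inv⟩ := hμ'3 _ h3
          exact ⟨W', hW'le.trans inf_le_left, hW'dim, hW'nd, hW'inv⟩

/-- the existence of an invariant nondegenerate `m`-space from the partition condition -/
theorem uni_exists_und (hS : B.IsSymm) (hφne : φ ≠ RingHom.id F)
    (hiso : ∀ u v, B (y u) (y v) = B u v) (hyN : ∀ v, y v = v + N v) (p : ℕ)
    (hNp : ∀ v, (N ^ p) v = 0) {r : ℕ} (hr : 0 < r) (hyr : y ^ r = 1) (hndV : UND B ⊤)
    (n m : ℕ) (hn : finrank F V = n)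
    (hPC : ∀ μ : Multiset ℕ, (∀ a ∈ μ, 0 < a ∧ a ≤ p) → μ.sum = n →
      ∃ ν : Multiset ℕ, ν ≤ μ ∧ ν.sum = m) :
    ∃ W : Submodule F V, finrank F W = m ∧ UND B W ∧ ∀ v ∈ W, y v ∈ W := by
  obtain ⟨μ, hμ1, hμ2, hμ3⟩ := exists_und_blocks hS hφne hiso hyN p hNp hr hyr ⊤
    (fun _ _ => Submodule.mem_top) hndV
  rw [finrank_top, hn] at hμ2
  obtain ⟨ν, hνμ, hνm⟩ := hPC μ hμ1 hμ2
  obtain ⟨W, -, hWdim, hWnd, hWinv⟩ := hμ3 ν hνμ
  exact ⟨W, by rw [hWdim, hνm], hWnd, hWinv⟩

end fd

end uni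

end Cfsg.Agent.Lib.H24.Uti
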