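import Mathlib
import Cfsg.Agent.Lib.H24.UndUniA
import Cfsg.Agent.Lib.H24.UndNecOdd
import Cfsg.Agent.Lib.H11.Jordan9
import Cfsg.Agent.Lib.H11.Jordan5

set_option autoImplicit false

/-!
# Unipotent elements of the unitary group and nondegenerate subspaces (helper24)

* `und_nec_uni`: if every element of order `p` of `PSU_n(q)` fixes a nondegenerate `m`-space, every
  partition of `n` with parts at most `p` contains a partition of `m`.
* `und_suff_uni`: the converse.
* `two_parts_iff`: for `p = 2` the partition condition says `n` odd or `m` even.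
-/

namespace Cfsg.Agent.Lib.H24.Uti

open Polynomial Module
open Cfsg.Agent.Lib.H11.UFrames (orth mem_orth)
open Cfsg.Agent.Lib.H24.Elus
open Cfsg.Agent.Lib.H13
open Cfsg.Agent.Lib.H13.AutPSU
open Cfsg.Agent.Lib.H11.Jordan
open Cfsg.Agent.S0837 (Bs Bs_apply Bs_symm Bs_nondeg)

section ct

variable {F : Type*} [Field F] {φ : F →+* F} {q : ℕ}

/-- a matrix with `ct D M * M = 1` is unitary -/
theorem isUn_of_ct (D : UF F q) (hφD : ∀ x, φ x = D.τ x) (n : ℕ)
    (M : Matrix (Fin n) (Fin n) F) (h : ct D M * M = 1) : IsUn φ n M := by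
  have h1 : M.transpose * M.map φ = 1 := by
    have h2 := congrArg Matrix.transpose h
    rw [Matrix.transpose_mul, Matrix.transpose_one] at h2
    have h3 : (ct D M).transpose = M.map φ := by
      ext i j
      simp [ct_apply, hφD]
    rw [h3] at h2
    exact h2
  intro u v
  rw [Bs_apply, Bs_apply, Matrix.toLin'_apply, Matrix.toLin'_apply]
  have h4 : ∀ k, φ ((M.mulVec u) k) = ((M.map φ).mulVec (fun i => φ (u i))) k := by
    intro k
    simp [Matrix.mulVec, dotProduct, map_sum, map_mul]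
  simp_rw [h4]
  change dotProduct (M.mulVec v) ((M.map φ).mulVec fun i => φ (u i)) =
    dotProduct v (fun i => φ (u i))
  rw [← Matrix.vecMul_transpose, ← Matrix.dotProduct_mulVec, Matrix.mulVec_mulVec, h1,
    Matrix.one_mulVec]

end ct

section nec

variable {F : Type*} [Field F] [Fintype F] {p q : ℕ} [Fact p.Prime] [CharP F p]
  {φ : F →+* F}

/-- necessity of the partition condition for `r = p` -/
theorem und_nec_uni (hF : Fintype.card F = q ^ 2) (hφ : ∀ x, φ x = x ^ q)
    (hφ2 : ∀ x, φ (φ x) = x) (n m : ℕ) (hn : 0 < n) (hmn : m ≤ n)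
    (hfix : UFixNd φ n m p) :
    ∀ μ : Multiset ℕ, (∀ a ∈ μ, 0 < a ∧ a ≤ p) → μ.sum = n →
      ∃ ν : Multiset ℕ, ν ≤ μ ∧ ν.sum = m := by
  classical
  have hpp : p.Prime := Fact.out
  intro μ hμ hsum
  by_cases hall : ∀ a ∈ μ, a = 1
  · have h1 : μ = Multiset.replicate (Multiset.card μ) 1 := Multiset.eq_replicate_card.mpr hall
    have h3 : Multiset.card μ = n := by
      rw [← hsum]
      conv_rhs => rw [h1]
      rw [Multiset.sum_replicate, smul_eq_mul, mul_one]
    refine ⟨Multiset.replicate m 1, ?_, ?_⟩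
    · rw [h1, h3, Multiset.replicate_le_replicate]
      exact hmn
    · rw [Multiset.sum_replicate, smul_eq_mul, mul_one]
  · obtain ⟨f, hf⟩ := exists_q_eq_pow (p := p) hF
    have D : UF F q := UF.ofCard hf hF
    obtain ⟨u, hu⟩ := exists_of_multiset (K := F) μ (fun a ha => (hμ a ha).1) hsum
    obtain ⟨M, hMU, hconj⟩ := hu.exists_unitary D
    have hM : HasType M μ := hu.of_isConj hconj
    have hMun : IsUn φ n M := isUn_of_ct D (fun x => by rw [hφ, D.hτ]) n M hMU
    have hMp0 : (M - 1) ^ p = 0 := (hM.pow_eq_zero_iff p).mpr (fun a ha => (hμ a ha).2)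
    have hMp : M ^ p = 1 := by
      rw [sub_one_pow_char p M] at hMp0
      exact sub_eq_zero.mp hMp0
    have hdet : M.det = 1 := by
      have h1 : M.det ^ p = 1 := by rw [← Matrix.det_pow, hMp, Matrix.det_one]
      have h3 : (M.det - 1) ^ p = 0 := by rw [sub_pow_char, one_pow, h1, sub_self]
      exact sub_eq_zero.mp (pow_eq_zero_iff hpp.ne_zero |>.mp h3)
    obtain ⟨W, hWm, hWnd, hWinv⟩ := hfix M hMun hdet ⟨1, by rw [hMp, one_smul]⟩ (by
      intro z hz
      apply hall
      apply hM.eq_one_iff.mp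
      have h1 : ((z - 1) • (1 : Matrix (Fin n) (Fin n) F)) ^ p = (0 : F) • 1 := by
        rw [zero_smul, ← hMp0, hz, sub_smul, one_smul]
      have h3 := smul_one_pow_entry n p hn (z - 1) 0 h1
      have h4 : z = 1 := sub_eq_zero.mp (pow_eq_zero_iff hpp.ne_zero |>.mp h3)
      rw [hz, h4, one_smul])
    have hS := Bs_symm φ hφ2 n
    have hR := refl_of_symm _ hS
    have hyp : (Matrix.toLin' M) ^ p = 1 := toLin'_pow_eq_one n p M hMp
    have hW' := u_orth_invariant hMun hpp.pos hyp W hWinv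
    have hc : IsCompl W (orth (Bs φ n) W) :=
      IsCompl.of_eq (u_disjoint_orth _ hR W hWnd) (u_sup_orth_eq_top _ hR W hWnd)
    obtain ⟨ν, hν, hνs⟩ := hM.exists_le_of_invariant_compl W _ hc hWinv hW'
    exact ⟨ν, hν, by rw [hνs, hWm]⟩

/-- sufficiency of the partition condition for `r = p` -/
theorem und_suff_uni (hF : Fintype.card F = q ^ 2) (hφ : ∀ x, φ x = x ^ q)
    (hφ2 : ∀ x, φ (φ x) = x) (hφne : φ ≠ RingHom.id F) (n m : ℕ) (hn : 0 < n)
    (hPC : ∀ μ : Multiset ℕ, (∀ a ∈ μ, 0 < a ∧ a ≤ p) → μ.sum = n →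
      ∃ ν : Multiset ℕ, ν ≤ μ ∧ ν.sum = m)
    (M : Matrix (Fin n) (Fin n) F) (hM : IsUn φ n M) (z : F) (hMp : M ^ p = z • 1) :
    ∃ W : Submodule F (Fin n → F), finrank F W = m ∧ UND (Bs φ n) W ∧
      ∀ v ∈ W, Matrix.toLin' M v ∈ W := by
  have hpp : p.Prime := Fact.out
  have hS := Bs_symm φ hφ2 n
  have hndV : UND (Bs φ n) ⊤ := UND_top_Bs n
  have hq0 : 0 < q := q_pos hF
  have hxp := toLin'_pow_eq_smul n p M z hMp
  have hzq : z ^ (q + 1) = 1 :=
    norm_one_of_pow_smul hφ hS hφne (Matrix.toLin' M) hM p z hxp hndV (by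
      rw [finrank_stdU]; exact hn)
  have hcop : Nat.Coprime p (q + 1) := by
    rw [Nat.Prime.coprime_iff_not_dvd hpp]
    intro hd
    have h1 : p ∣ q := p_dvd_q (p := p) hF
    have h3 : p ∣ 1 := (Nat.dvd_add_right h1).mp hd
    exact hpp.one_lt.ne' (Nat.dvd_one.mp h3)
  obtain ⟨w, hwp, hwq⟩ := exists_root_of_coprime hq0 p hcop z hzq
  obtain ⟨y, hyp, hyiso, -, hyinv⟩ :=
    u_normalize (B := Bs φ n) hφ p (Matrix.toLin' M) hM z w hxp hwp hwq
  have hyN : ∀ v, y v = v + (y - 1) v := by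
    intro v
    rw [LinearMap.sub_apply, Module.End.one_apply, add_sub_cancel]
  have hNp : ∀ v, ((y - 1) ^ p) v = 0 := by
    have hpoly : ((X : F[X]) - 1) ^ p = X ^ p - 1 := by rw [sub_pow_char, one_pow]
    have h1 := congrArg (aeval y) hpoly
    rw [map_pow, map_sub, map_sub, map_pow, aeval_X, map_one, hyp, sub_self] at h1
    intro v
    rw [h1, LinearMap.zero_apply]
  obtain ⟨W, hW1, hW2, hW3⟩ := uni_exists_und hS hφne hyiso hyN p hNp hpp.pos hyp hndV n m
    (finrank_stdU n) hPC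
  exact ⟨W, hW1, hW2, hyinv W hW3⟩

end nec

section comb

theorem even_sum_of_no_one (μ : Multiset ℕ) (hμ : ∀ a ∈ μ, a = 1 ∨ a = 2) (h1 : 1 ∉ μ) :
    Even μ.sum := by
  have h2 : ∀ a ∈ μ, a = 2 := by
    intro a ha
    rcases hμ a ha with h | h
    · exact absurd (h ▸ ha) h1
    · exact h
  rw [Multiset.eq_replicate_card.mpr h2, Multiset.sum_replicate, smul_eq_mul]
  exact even_two.mul_left _

/-- partitions with parts `1`, `2`: sub-partitions of even size -/
theorem exists_sub_even :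
    ∀ μ : Multiset ℕ, (∀ a ∈ μ, a = 1 ∨ a = 2) → ∀ m, Even m → m ≤ μ.sum →
      ∃ ν : Multiset ℕ, ν ≤ μ ∧ ν.sum = m := by
  intro μ
  induction μ using Multiset.induction_on with
  | empty =>
    intro _ m _ hm
    rw [Multiset.sum_zero] at hm
    exact ⟨0, le_rfl, by rw [Multiset.sum_zero]; omega⟩
  | cons a μ' ih =>
    intro hμ m hme hm
    have hμ' : ∀ b ∈ μ', b = 1 ∨ b = 2 := fun b hb => hμ b (Multiset.mem_cons_of_mem hb)
    rw [Multiset.sum_cons] at hm
    by_cases hle : m ≤ μ'.sum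
    · obtain ⟨ν, hν, hνs⟩ := ih hμ' m hme hle
      exact ⟨ν, hν.trans (Multiset.le_cons_self μ' a), hνs⟩
    · push Not at hle
      rcases hμ a (Multiset.mem_cons_self a μ') with ha | ha
      · exact ⟨a ::ₘ μ', le_rfl, by rw [Multiset.sum_cons]; omega⟩
      · by_cases hm2 : m = μ'.sum + 2
        · exact ⟨a ::ₘ μ', le_rfl, by rw [Multiset.sum_cons]; omega⟩
        · have hm1 : m = μ'.sum + 1 := by omega
          have h1 : 1 ∈ μ' := by
            by_contra hno
            obtain ⟨k, hk⟩ := even_sum_of_no_one μ' hμ' hno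
            obtain ⟨j, hj⟩ := hme
            omega
          refine ⟨a ::ₘ μ'.erase 1, Multiset.cons_le_cons a (Multiset.erase_le 1 μ'), ?_⟩
          have h3 := Multiset.sum_erase h1
          rw [Multiset.sum_cons]
          omega

/-- for `p = 2` the partition condition says that `n` is odd or `m` is even -/
theorem two_parts_iff (n m : ℕ) (hmn : m ≤ n) :
    (∀ μ : Multiset ℕ, (∀ a ∈ μ, 0 < a ∧ a ≤ 2) → μ.sum = n →
      ∃ ν : Multiset ℕ, ν ≤ μ ∧ ν.sum = m) ↔ (Odd n ∨ Even m) := by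
  constructor
  · intro h
    by_contra hcon
    push Not at hcon
    obtain ⟨hn, hm⟩ := hcon
    rw [Nat.not_odd_iff_even] at hn
    rw [Nat.not_even_iff_odd] at hm
    obtain ⟨k, hk⟩ := hn
    obtain ⟨ν, hν, hνs⟩ := h (Multiset.replicate k 2) (by
      intro a ha
      rw [Multiset.eq_of_mem_replicate ha]
      omega) (by
      rw [Multiset.sum_replicate, smul_eq_mul]
      omega)
    obtain ⟨j, -, rfl⟩ := Multiset.le_replicate_iff.mp hν
    rw [Multiset.sum_replicate, smul_eq_mul] at hνs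
    obtain ⟨i, hi⟩ := hm
    omega
  · intro h μ hμ hsum
    have hμ' : ∀ a ∈ μ, a = 1 ∨ a = 2 := by
      intro a ha
      have := hμ a ha
      omega
    by_cases hme : Even m
    · exact exists_sub_even μ hμ' m hme (by omega)
    · have hno : Odd n := by
        rcases h with h | h
        · exact h
        · exact absurd h hme
      rw [Nat.not_even_iff_odd] at hme
      have h1 : 1 ∈ μ := by
        by_contra hno1
        obtain ⟨k, hk⟩ := even_sum_of_no_one μ hμ' hno1
        obtain ⟨j, hj⟩ := hno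
        omega
      have h3 := Multiset.sum_erase h1
      obtain ⟨j, hj⟩ := hme
      obtain ⟨ν, hν, hνs⟩ := exists_sub_even (μ.erase 1)
        (fun a ha => hμ' a (Multiset.mem_of_mem_erase ha)) (m - 1) ⟨j, by omega⟩ (by omega)
      refine ⟨1 ::ₘ ν, ?_, by rw [Multiset.sum_cons]; omega⟩
      rw [← Multiset.cons_erase h1]
      exact Multiset.cons_le_cons 1 hν

end comb

end Cfsg.Agent.Lib.H24.Uti
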