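import Mathlib
import Cfsg.Agent.Lib.H24.UndOdd
import Cfsg.Agent.Lib.H24.UndTwoC
import Cfsg.Agent.Lib.H24.UndUniB

set_option autoImplicit false

/-!
# Elements of prime order of `PSU_n(q)` fixing a nondegenerate `m`-space (helper24)
-/

namespace Cfsg.Agent.Lib.H24.Uti

open Polynomial Module
open Cfsg.Agent.Lib.H11.UFrames (orth mem_orth)
open Cfsg.Agent.Lib.H24.Elus
open Cfsg.Agent.Lib.H13
open Cfsg.Agent.S0837 (Bs Bs_apply Bs_symm Bs_nondeg)

section main

variable {F : Type*} [Field F] [Fintype F] {p q : ℕ} [Fact p.Prime] [CharP F p]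

theorem dvd_of_orderOf_eq_two {q r : ℕ} [Fact r.Prime] (h1 : orderOf (q : ZMod r) = 2) :
    r ∣ q + 1 := by
  have h3 : (q : ZMod r) ^ 2 = 1 := by
    rw [← h1]
    exact pow_orderOf_eq_one _
  have h4 : (q : ZMod r) ≠ 1 := by
    intro h
    rw [h, orderOf_one] at h1
    omega
  have h5 : (q : ZMod r) = -1 := by
    have h6 : ((q : ZMod r) - 1) * ((q : ZMod r) + 1) = 0 := by
      linear_combination h3
    rcases mul_eq_zero.mp h6 with h | h
    · exact absurd (sub_eq_zero.mp h) h4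
    · exact eq_neg_of_add_eq_zero_left h
  rw [← ZMod.natCast_eq_zero_iff, Nat.cast_add, Nat.cast_one, h5, neg_add_cancel]

theorem su_nd_iff (hq : Fintype.card F = q ^ 2)
    (n m : ℕ) (hn : 3 ≤ n) (hm : 1 ≤ m) (hmn : 2 * m < n)
    (r : ℕ) [Fact r.Prime]
    (hrΩ : r ∣ Nat.card {W : Submodule F (Fin n → F) // Module.finrank F ↥W = m ∧
      (∀ u ∈ W, u ≠ 0 → ∃ v ∈ W, Cfsg.hermForm n F q u v ≠ 0)})
    (i c : ℕ) (hi : i = orderOf (q : ZMod r))
    (hc : c = if i % 4 = 0 then i else if i % 4 = 2 then i / 2 else 2 * i) :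
    (∀ x : Matrix.SpecialLinearGroup (Fin n) F, x ∈ Cfsg.SU n F q →
      (∃ z : F, ((x ^ r : Matrix.SpecialLinearGroup (Fin n) F) : Matrix (Fin n) (Fin n) F) =
        z • (1 : Matrix (Fin n) (Fin n) F)) →
      (∀ z : F, (x : Matrix (Fin n) (Fin n) F) ≠ z • (1 : Matrix (Fin n) (Fin n) F)) →
      ∃ W : Submodule F (Fin n → F), Module.finrank F ↥W = m ∧
        (∀ u ∈ W, u ≠ 0 → ∃ v ∈ W, Cfsg.hermForm n F q u v ≠ 0) ∧
        W.map (Matrix.toLin' (x : Matrix (Fin n) (Fin n) F)) ≤ W) ↔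
    ((r = p ∧ 2 < p ∧ (∀ μ : Multiset ℕ, (∀ a ∈ μ, 0 < a ∧ a ≤ p) → μ.sum = n →
        ∃ ν : Multiset ℕ, ν ≤ μ ∧ ν.sum = m)) ∨
     (r = p ∧ p = 2 ∧ (Odd n ∨ Even m)) ∨
     (r = 2 ∧ p ≠ 2 ∧ (Odd n ∨ Even m ∨
       (padicValNat 2 n ≤ padicValNat 2 (q + 1) ∧ q % 4 = 3))) ∨
     (r ≠ p ∧ 2 < r ∧ ((i ≠ 2 ∧ c ≤ m ∧ m % c ≤ n % c) ∨
       (i = 2 ∧ (r ∣ m ∨ padicValNat r n ≤ padicValNat r (q + 1)))))) := by
  classical
  have hr : r.Prime := Fact.out
  have hpp : p.Prime := Fact.out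
  obtain ⟨φ, hφ, hφ2⟩ := Cfsg.Agent.Lib.H4.exists_frob hq
  have hφne := Cfsg.Agent.S0837.phi_ne_id φ hq hφ
  rw [lhs_iff_UFixNd hφ hφ2 n m r]
  have hceq := c_eq_cU q r i c hi hc
  have hn0 : 0 < n := by omega
  have hmn' : m ≤ n := by omega
  by_cases hrp : r = p
  · -- `r = p`
    have hPC : UFixNd φ n m r ↔ (∀ μ : Multiset ℕ, (∀ a ∈ μ, 0 < a ∧ a ≤ p) → μ.sum = n →
        ∃ ν : Multiset ℕ, ν ≤ μ ∧ ν.sum = m) := by
      rw [hrp]
      constructor
      · intro hfix
        exact und_nec_uni hq hφ hφ2 n m hn0 hmn' hfix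
      · intro h M hM _ hMr _
        obtain ⟨z, hz⟩ := hMr
        exact und_suff_uni hq hφ hφ2 hφne n m hn0 h M hM z hz
    rw [hPC]
    by_cases hp2 : p = 2
    · have h2 : (∀ μ : Multiset ℕ, (∀ a ∈ μ, 0 < a ∧ a ≤ p) → μ.sum = n →
          ∃ ν : Multiset ℕ, ν ≤ μ ∧ ν.sum = m) ↔ (Odd n ∨ Even m) := by
        rw [hp2]
        exact two_parts_iff n m hmn'
      rw [h2]
      constructor
      · intro h
        exact Or.inr (Or.inl ⟨hrp, hp2, h⟩)
      · rintro (⟨-, h, -⟩ | ⟨-, -, h⟩ | ⟨-, h, -⟩ | ⟨h, -⟩)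
        · omega
        · exact h
        · exact absurd hp2 h
        · exact absurd hrp h
    · constructor
      · intro h
        refine Or.inl ⟨hrp, ?_, h⟩
        have := hpp.two_le
        omega
      · rintro (⟨-, -, h⟩ | ⟨-, h, -⟩ | ⟨h, h', -⟩ | ⟨h, -⟩)
        · exact h
        · exact absurd h hp2
        · exact absurd (hrp ▸ h) hp2
        · exact absurd hrp h
  · by_cases hr2 : r = 2
    · -- `r = 2`
      have hp2 : p ≠ 2 := fun h => hrp (by rw [hr2, h])
      have h2F : (2 : F) ≠ 0 := by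
        intro h
        have h1 : ((2 : ℕ) : F) = 0 := by rw [Nat.cast_ofNat]; exact h
        rw [CharP.cast_eq_zero_iff F p 2] at h1
        exact hp2 ((Nat.prime_dvd_prime_iff_eq Fact.out Nat.prime_two).mp h1)
      have hqodd : Odd q := by
        obtain ⟨f, hf⟩ := exists_q_eq_pow (p := p) hq
        rw [hf]
        exact ((Fact.out : p.Prime).odd_of_ne_two hp2).pow
      constructor
      · intro hfix
        refine Or.inr (Or.inr (Or.inl ⟨hr2, hp2, ?_⟩))
        by_contra hnot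
        push Not at hnot
        obtain ⟨hno, hme, h3⟩ := hnot
        rw [Nat.not_odd_iff_even] at hno
        rw [Nat.not_even_iff_odd] at hme
        rw [hr2] at hfix
        refine und_nec_two hq hφ hφ2 hφne h2F hqodd n m hn0 hno hme ?_ hfix
        obtain ⟨j, hj⟩ := hqodd
        by_cases hq4 : q % 4 = 3
        · right
          refine ⟨hq4, ?_⟩
          by_contra hle
          push Not at hle
          exact h3 hle hq4
        · left
          omega
      · rintro (⟨h, -⟩ | ⟨h, -⟩ | ⟨-, -, h⟩ | ⟨-, h, -⟩)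
        · exact absurd h hrp
        · exact absurd h hrp
        · intro M hM hdet hMr _
          obtain ⟨z, hz⟩ := hMr
          rw [hr2] at hz
          exact und_suff_two hq hφ hφ2 hφne h2F hqodd n m hm hmn' h M hM hdet z hz
        · omega
    · -- `r` odd
      have hr3 : 2 < r := by
        have := hr.two_le
        omega
      have hsuff : ((orderOf (q : ZMod r) ≠ 2 ∧ m % cU q r ≤ n % cU q r) ∨
          (orderOf (q : ZMod r) = 2 ∧ (r ∣ m ∨ padicValNat r n ≤ padicValNat r (q + 1)))) →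
          UFixNd φ n m r := by
        intro h M hM hdet hMr _
        obtain ⟨z, hz⟩ := hMr
        exact und_suff_odd hq hφ hφ2 hφne (Bs_symm φ hφ2 n) hrp hr2 (Matrix.toLin' M) hM z
          (toLin'_pow_eq_smul n r M z hz) (by rw [LinearMap.det_toLin', hdet]) (UND_top_Bs n) n m
          (finrank_stdU n) hm hmn' h
      by_cases hi2 : i = 2
      · have hrq : r ∣ q + 1 := dvd_of_orderOf_eq_two (by rw [← hi]; exact hi2)
        constructor
        · intro hfix
          refine Or.inr (Or.inr (Or.inr ⟨hrp, hr3, Or.inr ⟨hi2, ?_⟩⟩))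
          exact und_nec_odd_two hq hφ hφ2 hφne hr2 hrq n m hn hfix
        · rintro (⟨h, -⟩ | ⟨h, -⟩ | ⟨h, -⟩ | ⟨-, -, ⟨h, -⟩ | ⟨-, h⟩⟩)
          · exact absurd h hrp
          · exact absurd h hrp
          · exact absurd h hr2
          · exact absurd hi2 h
          · exact hsuff (Or.inr ⟨by rw [← hi]; exact hi2, h⟩)
      · have hrq : ¬ r ∣ q + 1 := by
          intro h
          apply hi2
          rw [hi]
          exact orderOf_eq_two_of_dvd hr2 h
        constructor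
        · intro hfix
          have := und_nec_odd hq hφ hφ2 hφne hrp hr2 hrq n m hmn' hrΩ hfix
          rw [← hceq] at this
          exact Or.inr (Or.inr (Or.inr ⟨hrp, hr3, Or.inl ⟨hi2, this⟩⟩))
        · rintro (⟨h, -⟩ | ⟨h, -⟩ | ⟨h, -⟩ | ⟨-, -, ⟨-, -, h⟩ | ⟨h, -⟩⟩)
          · exact absurd h hrp
          · exact absurd h hrp
          · exact absurd h hr2
          · exact hsuff (Or.inl ⟨by rw [← hi]; exact hi2, by rw [← hceq]; exact h⟩)
          · exact absurd h hi2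

end main

end Cfsg.Agent.Lib.H24.Uti
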