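import Cfsg.Agent.Lib.H11.UniMax7

/-!
# `GU_n`-similarity group maximal in `SL_n` for `6 ≤ n` (lowering the bound `9 ≤ n` of helper11's
`Cfsg.Agent.Lib.H11.UniMax.uni_sim_maximal`).

The bound `9 ≤ n` entered helper11's proof only through `exists_iso_perp_ne` and step (iii) of `Tset_all`;
both are redone here with sharper counting, the rest is copied.
-/

set_option autoImplicit false
set_option linter.unusedSimpArgs false
set_option linter.unusedSectionVars false
set_option linter.unusedVariables false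

namespace Cfsg.Agent.Lib.H24.UniMaxLow

open Matrix Module
open Cfsg.Agent.Lib.H28 Cfsg.Agent.Lib.H11.SubspMax
open Cfsg.Agent.Lib.H11.SimMax (Tset Tset_sub tvGL_neg)
open Cfsg.Agent.Lib.H11.UniMax

variable {ι : Type} [Fintype ι] [DecidableEq ι] {F : Type*} [Field F]
variable {σ : F ≃+* F} {f : (ι → F) → (ι → F) → F}

section herm
variable (hf : Cfsg.Geo.IsUnitaryForm σ f)
include hf

/-- a vector of prescribed non-zero norm orthogonal to `k` vectors, `2 k < n` -/
theorem exists_perp_norm_low [Finite F] {k : ℕ} (vs : Fin k → ι → F)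
    (h : 2 * k < Fintype.card ι) (d : F) (hd0 : d ≠ 0) (hd : σ d = d) :
    ∃ y, f y y = d ∧ ∀ i, f y (vs i) = 0 := by
  have hU : finrank F (Submodule.span F (Set.range vs)) ≤ k := by
    have := finrank_range_le_card (R := F) vs
    simpa [Set.finrank] using this
  obtain ⟨y1, hy1vs, hy1U⟩ := exists_perp_notMem hf vs (Submodule.span F (Set.range vs)) (by omega)
  by_cases h1 : f y1 y1 = 0
  · obtain ⟨y2, hy2U, hy12⟩ := exists_perp_ne hf _ y1 hy1U
    have hy2vs : ∀ i, f y2 (vs i) = 0 := fun i =>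
      f_symm_zero hf (hy2U (vs i) (Submodule.subset_span ⟨i, rfl⟩))
    obtain ⟨c, hc⟩ := exists_norm_add hf y1 y2 h1 hy12 d hd
    refine ⟨y2 + c • y1, hc, fun i => ?_⟩
    rw [hf.add_left, hf.smul_left, hy2vs i, hy1vs i, mul_zero, add_zero]
  · have hfix : σ (d / f y1 y1) = d / f y1 y1 := by
      rw [map_div₀, hd, f_self_fixed hf]
    obtain ⟨μ, hμ⟩ := exists_norm hf _ (div_ne_zero hd0 h1) hfix
    refine ⟨μ • y1, ?_, fun i => ?_⟩
    · rw [hf.smul_left, f_smul_right hf, ← mul_assoc, hμ, div_mul_cancel₀ _ h1]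
    · rw [hf.smul_left, hy1vs i, mul_zero]

/-- a norm-one scalar different from `1` -/
theorem exists_norm_one_ne : ∃ l : F, l * σ l = 1 ∧ σ l ≠ 1 := by
  obtain ⟨θ, hθ⟩ := exists_not_fixed hf
  have hθ0 : θ ≠ 0 := by
    rintro rfl
    exact hθ (map_zero σ)
  have hσθ0 : σ θ ≠ 0 := by
    intro h0
    apply hθ0
    have := congrArg σ h0
    rwa [hf.involutive, map_zero] at this
  refine ⟨θ / σ θ, ?_, ?_⟩
  · rw [map_div₀, hf.involutive]
    field_simp
  · rw [map_div₀, hf.involutive]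
    intro h1
    apply hθ
    field_simp at h1
    exact h1

/-- an isotropic vector orthogonal to `z` and not orthogonal to `u` (`5 ≤ n`) -/
theorem exists_iso_perp_ne_low [Finite F] (hn : 5 ≤ Fintype.card ι) (z u : ι → F)
    (h : ∀ c : F, u ≠ c • z) : ∃ w, f w w = 0 ∧ f w z = 0 ∧ f u w ≠ 0 := by
  obtain ⟨p, hpz, hup⟩ := exists_perp_ne_single hf z u h
  by_cases hpp : f p p = 0
  · exact ⟨p, hpp, hpz, hup⟩
  have hfix : σ (-(f p p)) = -(f p p) := by rw [map_neg, f_self_fixed hf]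
  obtain ⟨y, hyy, hyvs⟩ := exists_perp_norm_low hf ![z, p] (by simpa using (by omega : 4 < Fintype.card ι)) _
    (neg_ne_zero.2 hpp) hfix
  have hyz : f y z = 0 := by simpa using hyvs 0
  have hyp : f y p = 0 := by simpa using hyvs 1
  have hpy : f p y = 0 := f_symm_zero hf hyp
  have hiso : ∀ l : F, l * σ l = 1 → f (p + l • y) (p + l • y) = 0 := by
    intro l hl
    rw [hf.add_left, f_add_right hf, f_add_right hf, hf.smul_left, hf.smul_left, f_smul_right hf,
      f_smul_right hf, hyy, hyp, hpy]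
    linear_combination (-(f p p)) * hl
  have hperp : ∀ l : F, f (p + l • y) z = 0 := by
    intro l
    rw [hf.add_left, hf.smul_left, hpz, hyz, mul_zero, add_zero]
  have hval : ∀ l : F, f u (p + l • y) = f u p + σ l * f u y := by
    intro l
    rw [f_add_right hf, f_smul_right hf]
  by_cases h1 : f u p + f u y = 0
  · obtain ⟨l, hl, hl1⟩ := exists_norm_one_ne hf
    refine ⟨p + l • y, hiso l hl, hperp l, ?_⟩
    rw [hval]
    intro h2
    have h3 : (σ l - 1) * f u y = 0 := by linear_combination h2 - h1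
    rcases mul_eq_zero.1 h3 with h4 | h4
    · exact hl1 (sub_eq_zero.1 h4)
    · rw [h4, add_zero] at h1
      exact hup h1
  · refine ⟨p + (1 : F) • y, hiso 1 (by rw [map_one, mul_one]), hperp 1, ?_⟩
    rw [hval, map_one, one_mul]
    exact h1

/-- an isotropic vector orthogonal to `w` and to `k` further vectors, outside `F w` (`k + 4 ≤ n`) -/
theorem exists_iso_perp_rad [Finite F] {k : ℕ} (vs : Fin k → ι → F) (w : ι → F)
    (h : k + 4 ≤ Fintype.card ι) :
    ∃ x, f x x = 0 ∧ f x w = 0 ∧ (∀ i, f x (vs i) = 0) ∧ x ∉ Submodule.span F {w} := by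
  have hU : finrank F (Submodule.span F {w}) ≤ 1 := by
    have := finrank_span_le_card (R := F) ({w} : Set (ι → F))
    simpa using this
  obtain ⟨x1, hx1, hx1U⟩ := exists_perp_notMem hf (Matrix.vecCons w vs) (Submodule.span F {w})
    (by omega)
  have hx1w : f x1 w = 0 := by simpa using hx1 0
  have hx1vs : ∀ i, f x1 (vs i) = 0 := fun i => by simpa using hx1 i.succ
  by_cases h1 : f x1 x1 = 0
  · exact ⟨x1, h1, hx1w, hx1vs, hx1U⟩
  obtain ⟨x2, hx2, hx2U⟩ := exists_perp_notMem hf (Matrix.vecCons x1 (Matrix.vecCons w vs))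
    (Submodule.span F {w}) (by omega)
  have hx21 : f x2 x1 = 0 := by simpa using hx2 0
  have hx2w : f x2 w = 0 := by simpa using hx2 (1 : Fin (k + 2))
  have hx2vs : ∀ i, f x2 (vs i) = 0 := fun i => by simpa using hx2 i.succ.succ
  by_cases h2 : f x2 x2 = 0
  · exact ⟨x2, h2, hx2w, hx2vs, hx2U⟩
  have hfix : σ (-(f x1 x1) / f x2 x2) = -(f x1 x1) / f x2 x2 := by
    rw [map_div₀, map_neg, f_self_fixed hf, f_self_fixed hf]
  have hne : -(f x1 x1) / f x2 x2 ≠ 0 := div_ne_zero (neg_ne_zero.2 h1) h2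
  obtain ⟨μ, hμ⟩ := exists_norm hf _ hne hfix
  refine ⟨x1 + μ • x2, ?_, ?_, ?_, ?_⟩
  · rw [hf.add_left, f_add_right hf, f_add_right hf, hf.smul_left, hf.smul_left,
      f_smul_right hf, f_smul_right hf, hx21, f_symm_zero hf hx21]
    have : μ * σ μ * f x2 x2 = -(f x1 x1) := by
      rw [hμ]; field_simp
    linear_combination this
  · rw [hf.add_left, hf.smul_left, hx1w, hx2w, mul_zero, add_zero]
  · intro i
    rw [hf.add_left, hf.smul_left, hx1vs i, hx2vs i, mul_zero, add_zero]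
  · intro hmem
    obtain ⟨c, hc⟩ := Submodule.mem_span_singleton.1 hmem
    have h3 : f (x1 + μ • x2) x1 = f x1 x1 := by
      rw [hf.add_left, hf.smul_left, hx21, mul_zero, add_zero]
    rw [← hc, hf.smul_left, f_symm_zero hf hx1w, mul_zero] at h3
    exact h1 h3.symm

/-- the key step: if `fr z ∈ Tset M w` with `w` isotropic and `z ∉ F w`, then every functional
killing `w` is in `Tset M w` -/
theorem Tset_all_low [Finite F] (hn : 6 ≤ Fintype.card ι) (M : Subgroup (GL ι F))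
    (hNM : Cfsg.Geo.similarityGroup f ⊓ Cfsg.Geo.specialLinear ι F ≤ M)
    (w z : ι → F) (hww : f w w = 0) (hz : fr hf z ∈ Tset M w)
    (hzw : ∀ c : F, z ≠ c • w) (φ : Dual F (ι → F)) (hφ : φ w = 0) : φ ∈ Tset M w := by
  obtain ⟨c0, hc0, hc0s⟩ := exists_skew hf
  have hwz : f w z = 0 := by
    obtain ⟨h1, -⟩ := hz
    rwa [fr_apply] at h1
  -- (i) an isotropic `y0 ⊥ w` with `f y0 z ≠ 0`
  obtain ⟨y0, hy0y0, hy0w, hzy0⟩ := exists_iso_perp_ne_low hf (by omega) w z hzw
  have hwy0 : f w y0 = 0 := f_symm_zero hf hy0w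
  have hy0z : (fr hf z) y0 ≠ 0 := by
    rw [fr_apply]; exact f_symm_ne hf hzy0
  -- (iii) an isotropic `x ⊥ w, y0, z` outside `F w`
  obtain ⟨x, hxx, hxw, hxvs, hxU⟩ := exists_iso_perp_rad hf ![y0, z] w
    (by simpa using (by omega : 6 ≤ Fintype.card ι))
  have hxy0 : f x y0 = 0 := by simpa using hxvs 0
  have hxz : f x z = 0 := by simpa using hxvs 1
  have hwx : f w x = 0 := f_symm_zero hf hxw
  have hline : ∀ a : F, a • fr hf x ∈ Tset M w := fun a =>
    Tset_line hf M hNM w hz x y0 hxx hy0y0 hwx hwy0 hxy0 (by rw [fr_apply]; exact hxz) hy0z a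
  -- (iv) all `fr v` with `v ⊥ w`
  have hxne : ∀ c : F, x ≠ c • w := by
    intro c hc
    apply hxU
    rw [Submodule.mem_span_singleton]
    exact ⟨c, hc.symm⟩
  obtain ⟨p, hpw, hxp⟩ := exists_perp_ne_single hf w x hxne
  have hcase : ∀ v, f v w = 0 → f x v ≠ 0 → fr hf v ∈ Tset M w := by
    intro v hvw hxv
    obtain ⟨c, hc⟩ := exists_norm_add hf x v hxx hxv 0 (map_zero σ)
    have hvx : f v x ≠ 0 := f_symm_ne hf hxv
    have hwy : f w (v + c • x) = 0 := by
      rw [f_add_right hf, f_smul_right hf, hwx, f_symm_zero hf hvw, mul_zero, add_zero]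
    have h1 := Tset_op2 hf M hNM w (hline (1 / (c0 * f v x))) (v + c • x) hc hwy c0 hc0s
    have h2 : (c0 * ((1 / (c0 * f v x)) • fr hf x) (v + c • x)) = 1 := by
      rw [LinearMap.smul_apply, fr_apply, hf.add_left, hf.smul_left, hxx, mul_zero, add_zero,
        smul_eq_mul]
      field_simp
    rw [h2, one_smul] at h1
    have h3 := Tset_sub M w h1 (hline (σ c))
    rw [fr_add, fr_smul, add_sub_cancel_right] at h3
    exact h3
  have hallv : ∀ v, f v w = 0 → fr hf v ∈ Tset M w := by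
    intro v hvw
    by_cases hxv : f x v = 0
    · have h1 : fr hf (v + p) ∈ Tset M w := by
        apply hcase
        · rw [hf.add_left, hvw, hpw, add_zero]
        · rw [f_add_right hf, hxv, zero_add]; exact hxp
      have h2 : fr hf p ∈ Tset M w := hcase p hpw hxp
      have := Tset_sub M w h1 h2
      rwa [← fr_sub, add_sub_cancel_right] at this
    · exact hcase v hvw hxv
  obtain ⟨v, rfl⟩ := exists_fr hf φ
  rw [fr_apply] at hφ
  exact hallv v (f_symm_zero hf hφ)

/-- Claim B, independent case -/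
theorem full_of_indep_low [Finite F] (hn : 6 ≤ Fintype.card ι) (M : Subgroup (GL ι F))
    (hNM : Cfsg.Geo.similarityGroup f ⊓ Cfsg.Geo.specialLinear ι F ≤ M)
    (u z : ι → F) (hz0 : z ≠ 0) (hz : fr hf z ∈ Tset M u) (h : ∀ c : F, u ≠ c • z) :
    ∃ w, w ≠ 0 ∧ f w w = 0 ∧ ∀ φ : Dual F (ι → F), φ w = 0 → φ ∈ Tset M w := by
  obtain ⟨c0, hc0, hc0s⟩ := exists_skew hf
  have huz : f u z = 0 := by
    obtain ⟨h1, -⟩ := hz
    rwa [fr_apply] at h1
  obtain ⟨w, hww, hwz, huw⟩ := exists_iso_perp_ne_low hf (by omega) z u h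
  have hw0 : w ≠ 0 := by
    rintro rfl
    exact huw (f_zero_right hf u)
  have h1 := Tset_op1 hf M hNM u hz w hww (by rw [fr_apply]; exact hwz) c0 hc0s
  have h2 : (c0 * f u w) • fr hf z = fr hf (σ (c0 * f u w) • z) := by
    rw [fr_smul, hf.involutive]
  rw [h2] at h1
  have hcoef : σ (c0 * f u w) ≠ 0 := by
    intro h0
    have := congrArg σ h0
    rw [hf.involutive, map_zero] at this
    exact (mul_ne_zero hc0 huw) this
  refine ⟨w, hw0, hww, Tset_all_low hf hn M hNM w _ hww h1 ?_⟩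
  intro c hc
  -- then `z` is a multiple of `w`, contradiction with `f u z = 0`, `f u w ≠ 0`
  have hz' : z = ((σ (c0 * f u w))⁻¹ * c) • w := by
    rw [← smul_smul, ← hc, smul_smul, inv_mul_cancel₀ hcoef, one_smul]
  have h3 : f u z = σ ((σ (c0 * f u w))⁻¹ * c) * f u w := by
    rw [hz', f_smul_right hf]
  rw [huz] at h3
  rcases mul_eq_zero.1 h3.symm with h4 | h4
  · have h5 : (σ (c0 * f u w))⁻¹ * c = 0 := by
      have := congrArg σ h4
      rwa [hf.involutive, map_zero] at this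
    apply hz0
    rw [hz', h5, zero_smul]
  · exact huw h4

/-- Claim B -/
theorem exists_full_centre_low [Finite F] (hn : 6 ≤ Fintype.card ι) (M : Subgroup (GL ι F))
    (hNM : Cfsg.Geo.similarityGroup f ⊓ Cfsg.Geo.specialLinear ι F ≤ M)
    (u z : ι → F) (hu0 : u ≠ 0) (hz0 : z ≠ 0) (hz : fr hf z ∈ Tset M u)
    (hnot : ¬ ∃ a : F, σ a = -a ∧ z = a • u) :
    ∃ w, w ≠ 0 ∧ f w w = 0 ∧ ∀ φ : Dual F (ι → F), φ w = 0 → φ ∈ Tset M w := by
  by_cases hind : ∀ c : F, u ≠ c • z
  · exact full_of_indep_low hf hn M hNM u z hz0 hz hind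
  push Not at hind
  obtain ⟨b, hb⟩ := hind
  obtain ⟨c0, hc0, hc0s⟩ := exists_skew hf
  have hb0 : b ≠ 0 := by
    rintro rfl
    rw [zero_smul] at hb
    exact hu0 hb
  have hza : z = b⁻¹ • u := by rw [hb, smul_smul, inv_mul_cancel₀ hb0, one_smul]
  have huz : f u z = 0 := by
    obtain ⟨h1, -⟩ := hz
    rwa [fr_apply] at h1
  have huu : f u u = 0 := by
    have : f u z = σ b⁻¹ * f u u := by
      conv_lhs => rw [hza]
      rw [f_smul_right hf]
    rw [huz] at this
    rcases mul_eq_zero.1 this.symm with h4 | h4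
    · exfalso
      have := congrArg σ h4
      rw [hf.involutive, map_zero] at this
      exact (inv_ne_zero hb0) this
    · exact h4
  have ha : σ b⁻¹ ≠ -b⁻¹ := fun h => hnot ⟨b⁻¹, h, hza⟩
  obtain ⟨w', hw'w', hw'u⟩ := exists_partner hf u hu0 huu
  have huw' : f u w' = 1 := by rw [hf.herm, hw'u, map_one]
  obtain ⟨h1, h2⟩ := hz
  -- conjugate the unitary transvection at `w'` by `t'`
  obtain ⟨t', ht'⟩ : ∃ t' : GL ι F, t' = tvGL (fr hf z) u h1 := ⟨_, rfl⟩
  have ht'M : t' ∈ M := by rw [ht']; exact h2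
  have hconj : t' * τ hf w' c0 hw'w' * t'⁻¹ ∈ M :=
    M.mul_mem (M.mul_mem ht'M (hNM (τ_mem hf w' c0 hw'w' hc0s))) (M.inv_mem ht'M)
  have hT : c0 • ψ hf t' w' ∈ Tset M ((t' : Matrix ι ι F) *ᵥ w') := by
    refine ⟨ψ_self hf t' w' hw'w' c0, ?_⟩
    rw [← conj_τ]
    exact hconj
  have hcentre : (t' : Matrix ι ι F) *ᵥ w' = w' + σ b⁻¹ • u := by
    rw [ht', tvGL_mulVec, fr_apply, hza, f_smul_right hf, hw'u, mul_one]
  have hfun : c0 • ψ hf t' w' = fr hf ((-c0) • (w' - z)) := by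
    apply LinearMap.ext
    intro x
    have hinv : ((t'⁻¹ : GL ι F) : Matrix ι ι F) *ᵥ x = x - f x z • u := by
      have h3 : (-(fr hf z)) u = 0 := by rw [LinearMap.neg_apply, h1, neg_zero]
      rw [ht', ← tvGL_neg (fr hf z) u h1 h3, tvGL_mulVec, LinearMap.neg_apply, fr_apply, neg_smul,
        sub_eq_add_neg]
    rw [LinearMap.smul_apply, ψ_apply, hinv, fr_apply, f_smul_right hf, map_neg, hc0s, neg_neg,
      f_sub_left hf, hf.smul_left, huw', mul_one, f_sub_right hf, smul_eq_mul]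
  rw [hcentre, hfun] at hT
  have hz2 : (-c0) • (w' - z) ≠ 0 := by
    intro h0
    have h3 : f ((-c0) • (w' - z)) u = -c0 := by
      rw [hf.smul_left, f_sub_left hf, hw'u, f_symm_zero hf huz, sub_zero, mul_one]
    rw [h0, f_zero_left hf] at h3
    exact hc0 (neg_eq_zero.1 h3.symm)
  apply full_of_indep_low hf hn M hNM _ _ hz2 hT
  intro c hc
  -- compare `f · u` and `f · w'`
  have e1 : f (w' + σ b⁻¹ • u) u = 1 := by
    rw [hf.add_left, hf.smul_left, huu, mul_zero, add_zero, hw'u]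
  have e2 : f (c • (-c0) • (w' - z)) u = -(c * c0) := by
    rw [hf.smul_left, hf.smul_left, f_sub_left hf, hw'u, f_symm_zero hf huz]
    ring
  have e3 : f (w' + σ b⁻¹ • u) w' = σ b⁻¹ := by
    rw [hf.add_left, hf.smul_left, hw'w', huw', zero_add, mul_one]
  have e4 : f (c • (-c0) • (w' - z)) w' = c * c0 * b⁻¹ := by
    rw [hf.smul_left, hf.smul_left, f_sub_left hf, hw'w', hza, hf.smul_left, huw']
    ring
  rw [hc] at e1 e3
  rw [e2] at e1
  rw [e4] at e3
  apply ha
  rw [← e3]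
  linear_combination (-b⁻¹) * e1

/-- the similarity group of a unitary form is maximal in `SL_n`, `6 ≤ n` -/
theorem uni_sim_maximal [Finite F] (hn : 6 ≤ Fintype.card ι) :
    Cfsg.Geo.IsMaximalIn (Cfsg.Geo.specialLinear ι F)
      (Cfsg.Geo.similarityGroup f ⊓ Cfsg.Geo.specialLinear ι F) := by
  have : Nontrivial ι := by
    rw [← Fintype.one_lt_card_iff_nontrivial]; omega
  have hn5 : 5 ≤ Fintype.card ι := by omega
  refine ⟨sim_lt hf hn5, ?_⟩
  intro M hNM hMS
  by_cases hMN : M = Cfsg.Geo.similarityGroup f ⊓ Cfsg.Geo.specialLinear ι F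
  · left; exact hMN
  right
  apply le_antisymm hMS
  obtain ⟨h, hhM, hhN⟩ : ∃ h ∈ M, h ∉ Cfsg.Geo.similarityGroup f := by
    by_contra hcon
    push Not at hcon
    apply hMN
    apply le_antisymm _ hNM
    intro g hg
    exact ⟨hcon g hg, hMS hg⟩
  obtain ⟨v, hv0, hvv, hvc⟩ : ∃ v : ι → F, v ≠ 0 ∧ f v v = 0 ∧
      ∀ e : F, σ e = e → ψ hf h v ≠ e • fr hf ((h : Matrix ι ι F) *ᵥ v) := by
    by_contra hcon
    push Not at hcon
    exact hhN (mem_sim_of_prop hf hn5 h hcon)
  obtain ⟨c0, hc0, hc0s⟩ := exists_skew hf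
  obtain ⟨u, hu⟩ : ∃ u, u = (h : Matrix ι ι F) *ᵥ v := ⟨_, rfl⟩
  have hu0 : u ≠ 0 := by
    intro h0
    apply hv0
    have := gl_inv_mulVec h v
    rw [← hu, h0, Matrix.mulVec_zero] at this
    exact this.symm
  obtain ⟨zv, hzv⟩ := exists_fr hf (ψ hf h v)
  have hzv0 : zv ≠ 0 := by
    rintro rfl
    apply hvc 0 (map_zero σ)
    rw [hzv, fr_zero, zero_smul]
  have hT : c0 • ψ hf h v ∈ Tset M u := by
    rw [hu]
    refine ⟨ψ_self hf h v hvv c0, ?_⟩
    rw [← conj_τ hf h v c0 hvv]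
    exact M.mul_mem (M.mul_mem hhM (hNM (τ_mem hf v c0 hvv hc0s))) (M.inv_mem hhM)
  have hfun : c0 • ψ hf h v = fr hf ((-c0) • zv) := by
    rw [fr_smul, map_neg, hc0s, neg_neg, hzv]
  rw [hfun] at hT
  have hz0 : (-c0) • zv ≠ 0 := smul_ne_zero (neg_ne_zero.2 hc0) hzv0
  have hnot : ¬ ∃ a : F, σ a = -a ∧ (-c0) • zv = a • u := by
    rintro ⟨a, ha, hza⟩
    have hzv' : zv = (-a / c0) • u := by
      have : zv = (-c0)⁻¹ • ((-c0) • zv) := by
        rw [smul_smul, inv_mul_cancel₀ (neg_ne_zero.2 hc0), one_smul]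
      rw [this, hza, smul_smul]
      congr 1
      field_simp
    have he : σ (-a / c0) = -a / c0 := by
      rw [map_div₀, map_neg, ha, hc0s]
      field_simp
    apply hvc (-a / c0) he
    rw [hzv, hzv', fr_smul, he, hu]
  obtain ⟨w, hw0, hww, hfull⟩ := exists_full_centre_low hf hn M hNM u _ hu0 hz0 hT hnot
  apply sl_le_of_tvGL
  intro φ u' hφ
  exact all_full hf hn5 M hNM w hw0 hww hfull φ u' hφ

end herm

end Cfsg.Agent.Lib.H24.UniMaxLow
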