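import Mathlib

/-!
# S2244 piece COMM1 (architect helper29): the commutator step
-/

set_option autoImplicit false

namespace Cfsg.Agent.Lib.H24.Wc

/-- elements of `X ⊔ N` are products `x * n` when `N ≤ U` and `U` normalises `X`. -/
theorem comm1_dec {G : Type*} [Group G] (U X N : Subgroup G) (hNU : N ≤ U)
    (hX : ∀ g ∈ U, ∀ x ∈ X, g * x * g⁻¹ ∈ X) :
    ∀ g ∈ X ⊔ N, ∃ x ∈ X, ∃ n ∈ N, g = x * n := by
  let P : Subgroup G :=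
    { carrier := {g | ∃ x ∈ X, ∃ n ∈ N, g = x * n}
      one_mem' := ⟨1, X.one_mem, 1, N.one_mem, by simp⟩
      mul_mem' := by
        rintro _ _ ⟨x, hx, n, hn, rfl⟩ ⟨x', hx', n', hn', rfl⟩
        refine ⟨x * (n * x' * n⁻¹), X.mul_mem hx (hX n (hNU hn) x' hx'), n * n', N.mul_mem hn hn', ?_⟩
        group
      inv_mem' := by
        rintro _ ⟨x, hx, n, hn, rfl⟩
        refine ⟨n⁻¹ * x⁻¹ * n⁻¹⁻¹, hX n⁻¹ (U.inv_mem (hNU hn)) x⁻¹ (X.inv_mem hx), n⁻¹, N.inv_mem hn, ?_⟩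
        group }
  have hle : X ⊔ N ≤ P :=
    sup_le (fun x hx => ⟨x, hx, 1, N.one_mem, by simp⟩) (fun n hn => ⟨1, X.one_mem, n, hn, by simp⟩)
  exact fun g hg => hle hg

/-- the case `d ∈ X ⊔ N`. -/
theorem comm_step_right {G : Type*} [Group G] (U X N N' : Subgroup G) (hNU : N ≤ U)
    (hX : ∀ g ∈ U, ∀ x ∈ X, g * x * g⁻¹ ∈ X)
    (hc : ∀ g ∈ U, ∀ n ∈ N, g * n * g⁻¹ * n⁻¹ ∈ N')
    (a d c : G) (ha : a ∈ U) (hrel : a * d = d * a * c)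
    (h : d ∈ X ⊔ N) : c ∈ X ⊔ N' := by
  obtain ⟨x, hx, n, hn, rfl⟩ := comm1_dec U X N hNU hX d h
  have hc_eq : c = a⁻¹ * (x * n)⁻¹ * a * (x * n) := by
    have : c = ((x * n) * a)⁻¹ * (a * (x * n)) := by rw [hrel]; group
    rw [this]; group
  have hm₁ : a⁻¹ * n⁻¹ * a * n ∈ N' := by
    have := hc a⁻¹ (U.inv_mem ha) n⁻¹ (N.inv_mem hn)
    simpa using this
  have hy : a⁻¹ * x⁻¹ * a * x ∈ X := by
    have := hX a⁻¹ (U.inv_mem ha) x⁻¹ (X.inv_mem hx)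
    rw [inv_inv] at this
    exact X.mul_mem this hx
  have hy' : n⁻¹ * (a⁻¹ * x⁻¹ * a * x) * n ∈ X := by
    have := hX n⁻¹ (U.inv_mem (hNU hn)) _ hy
    rwa [inv_inv] at this
  have : c = (a⁻¹ * n⁻¹ * a * n) * (n⁻¹ * (a⁻¹ * x⁻¹ * a * x) * n) := by rw [hc_eq]; group
  rw [this]
  exact (X ⊔ N').mul_mem (Subgroup.mem_sup_right hm₁) (Subgroup.mem_sup_left hy')

set_option linter.unusedVariables false in
/-- **COMM1**. -/
theorem comm_step {G : Type*} [Group G] (U X N N' : Subgroup G) (hXU : X ≤ U) (hNU : N ≤ U) (hN'N : N' ≤ N)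
    (hX : ∀ g ∈ U, ∀ x ∈ X, g * x * g⁻¹ ∈ X)
    (hN : ∀ g ∈ U, ∀ x ∈ N, g * x * g⁻¹ ∈ N)
    (hN' : ∀ g ∈ U, ∀ x ∈ N', g * x * g⁻¹ ∈ N')
    (hc : ∀ g ∈ U, ∀ n ∈ N, g * n * g⁻¹ * n⁻¹ ∈ N')
    (a d c : G) (ha : a ∈ U) (hd : d ∈ U) (hrel : a * d = d * a * c)
    (h : a ∈ X ⊔ N ∨ d ∈ X ⊔ N) : c ∈ X ⊔ N' := by
  rcases h with h | h
  · have hrel' : d * a = a * d * c⁻¹ := by rw [hrel]; group
    have := comm_step_right U X N N' hNU hX hc d a c⁻¹ hd hrel' h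
    have h2 := (X ⊔ N').inv_mem this
    rwa [inv_inv] at h2
  · exact comm_step_right U X N N' hNU hX hc a d c ha hrel h

end Cfsg.Agent.Lib.H24.Wc
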