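import Mathlib

/-!
# S2244 piece COMMGEN (architect helper29): commutators of closures modulo a subgroup normalised by the generators
-/

set_option autoImplicit false

namespace Cfsg.Agent.Lib.H24.Wc

/-- **COMMGEN**. -/
theorem comm_closure {G : Type*} [Group G] (S T : Set G) (N' : Subgroup G)
    (hS : ∀ s ∈ S, ∀ x ∈ N', s * x * s⁻¹ ∈ N' ∧ s⁻¹ * x * s ∈ N')
    (hT : ∀ t ∈ T, ∀ x ∈ N', t * x * t⁻¹ ∈ N' ∧ t⁻¹ * x * t ∈ N')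
    (hST : ∀ s ∈ S, ∀ t ∈ T, s * t * s⁻¹ * t⁻¹ ∈ N')
    (g : G) (hg : g ∈ Subgroup.closure S) (n : G) (hn : n ∈ Subgroup.closure T) :
    g * n * g⁻¹ * n⁻¹ ∈ N' := by
  have hnorm : ∀ R : Set G, (∀ s ∈ R, ∀ x ∈ N', s * x * s⁻¹ ∈ N' ∧ s⁻¹ * x * s ∈ N') →
      Subgroup.closure R ≤ Subgroup.normalizer (N' : Set G) := by
    intro R hR
    rw [Subgroup.closure_le]
    intro s hs
    rw [SetLike.mem_coe, Subgroup.mem_normalizer_iff]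
    intro x
    constructor
    · intro hx; exact (hR s hs x hx).1
    · intro hx
      have := (hR s hs _ hx).2
      have e : s⁻¹ * (s * x * s⁻¹) * s = x := by group
      rwa [e] at this
  have hconj : ∀ k ∈ Subgroup.normalizer (N' : Set G), ∀ x ∈ N', k * x * k⁻¹ ∈ N' :=
    fun k hk x hx => (Subgroup.mem_normalizer_iff.1 hk x).1 hx
  have hSM := hnorm S hS
  have hTM := hnorm T hT
  -- step A: generators `t` of `T`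
  have stepA : ∀ t ∈ T, ∀ g ∈ Subgroup.closure S, g * t * g⁻¹ * t⁻¹ ∈ N' := by
    intro t ht g hg
    induction hg using Subgroup.closure_induction with
    | mem s hs => exact hST s hs t ht
    | one => simp
    | mul g₁ g₂ hg₁ _ ih₁ ih₂ =>
      have e : g₁ * g₂ * t * (g₁ * g₂)⁻¹ * t⁻¹ =
          (g₁ * (g₂ * t * g₂⁻¹ * t⁻¹) * g₁⁻¹) * (g₁ * t * g₁⁻¹ * t⁻¹) := by group
      rw [e]
      exact N'.mul_mem (hconj g₁ (hSM hg₁) _ ih₂) ih₁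
    | inv g₁ hg₁ ih =>
      have e : g₁⁻¹ * t * g₁⁻¹⁻¹ * t⁻¹ = g₁⁻¹ * (g₁ * t * g₁⁻¹ * t⁻¹)⁻¹ * g₁⁻¹⁻¹ := by group
      rw [e]
      exact hconj g₁⁻¹ (Subgroup.inv_mem _ (hSM hg₁)) _ (N'.inv_mem ih)
  -- step B
  induction hn using Subgroup.closure_induction with
  | mem t ht => exact stepA t ht g hg
  | one => simp
  | mul n₁ n₂ hn₁ _ ih₁ ih₂ =>
    have e : g * (n₁ * n₂) * g⁻¹ * (n₁ * n₂)⁻¹ =
        (g * n₁ * g⁻¹ * n₁⁻¹) * (n₁ * (g * n₂ * g⁻¹ * n₂⁻¹) * n₁⁻¹) := by group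
    rw [e]
    exact N'.mul_mem ih₁ (hconj n₁ (hTM hn₁) _ ih₂)
  | inv n₁ hn₁ ih =>
    have e : g * n₁⁻¹ * g⁻¹ * n₁⁻¹⁻¹ = n₁⁻¹ * (g * n₁ * g⁻¹ * n₁⁻¹)⁻¹ * n₁⁻¹⁻¹ := by group
    rw [e]
    exact hconj n₁⁻¹ (Subgroup.inv_mem _ (hTM hn₁)) _ (N'.inv_mem ih)

end Cfsg.Agent.Lib.H24.Wc
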