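import Mathlib

/-!
# S2244 piece TSEP (architect helper29): torus separation by a trace idempotent
-/

set_option autoImplicit false

namespace Cfsg.Agent.Lib.H24.Wc

open Finset

/-- The absolute trace of a finite field as a natural-number multiple. -/
theorem tsep_frob (F : Type*) [Field F] [Fintype F] :
    ∃ e : ℕ, 0 < e ∧ Fintype.card F = ringChar F ^ e ∧
      ∀ a : F, ∃ n : ℕ, (n : F) = ∑ k ∈ Finset.range e, a ^ (ringChar F ^ k) := by
  classical
  have : Fact (ringChar F).Prime := ⟨CharP.char_is_prime F _⟩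
  let _ : Algebra (ZMod (ringChar F)) F := ZMod.algebra F (ringChar F)
  have hcard : Fintype.card F = ringChar F ^ Module.finrank (ZMod (ringChar F)) F := by
    have := Module.card_eq_pow_finrank (K := ZMod (ringChar F)) (V := F)
    rwa [ZMod.card] at this
  refine ⟨Module.finrank (ZMod (ringChar F)) F, ?_, hcard, ?_⟩
  · rcases Nat.eq_zero_or_pos (Module.finrank (ZMod (ringChar F)) F) with h0 | h0
    · rw [h0, pow_zero] at hcard
      have := Fintype.one_lt_card (α := F)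
      omega
    · exact h0
  · intro a
    refine ⟨(Algebra.trace (ZMod (ringChar F)) F a).val, ?_⟩
    have h := FiniteField.algebraMap_trace_eq_sum_pow (ZMod (ringChar F)) F a
    rw [Nat.card_zmod] at h
    rw [← h, ← map_natCast (algebraMap (ZMod (ringChar F)) F), ZMod.natCast_zmod_val]

/-- **TSEP**. -/
theorem tsep {F : Type*} [Field F] [Fintype F] {ι : Type*} [DecidableEq ι]
    {Θ : Type*} [CommGroup Θ] [Fintype Θ] (hΘ : ((Fintype.card Θ : ℕ) : F) ≠ 0)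
    (χ : ι → Θ →* Fˣ) (A : AddSubgroup (ι → F))
    (hA : ∀ (h : Θ) (v : ι → F), v ∈ A → (fun i => ((χ i h : Fˣ) : F) * v i) ∈ A)
    (β : ι)
    (hsep : ∀ ρ, ρ ≠ β → ∀ k : ℕ, ∃ h : Θ, χ ρ h ≠ χ β h ^ (ringChar F ^ k))
    (hsq : ∀ y : Fˣ, ∃ h : Θ, χ β h = y ^ 2)
    (v : ι → F) (hv : v ∈ A) (c : F) : Pi.single β (c * v β) ∈ A := by
  classical
  obtain ⟨p, hp⟩ : ∃ p, p = ringChar F := ⟨_, rfl⟩
  rw [← hp] at hsep
  have hpprime : p.Prime := hp ▸ CharP.char_is_prime F _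
  have hp2 : 2 ≤ p := hpprime.two_le
  obtain ⟨e, he, hcard, htr⟩ := tsep_frob F
  rw [← hp] at hcard htr
  obtain ⟨c', hc'⟩ : ∃ c' : F, c' = c / ((Fintype.card Θ : ℕ) : F) := ⟨_, rfl⟩
  choose nat hnat using fun h : Θ => htr (c' * ((χ β h : Fˣ) : F)⁻¹)
  have hw : ∑ h : Θ, nat h • (fun i => ((χ i h : Fˣ) : F) * v i) ∈ A :=
    A.sum_mem (fun h _ => A.nsmul_mem (hA h v hv) _)
  -- the character sums
  let S : ι → ℕ → F := fun ρ k => ∑ h : Θ, ((χ ρ h : Fˣ) : F) * (((χ β h : Fˣ) : F)⁻¹) ^ (p ^ k)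
  have hSsum : ∀ ρ k, (∃ h : Θ, χ ρ h ≠ χ β h ^ (p ^ k)) → S ρ k = 0 := by
    intro ρ k ⟨h, hh⟩
    let f : Θ →* F := (Units.coeHom F).comp (χ ρ * ((χ β)⁻¹) ^ (p ^ k))
    have hf : ∀ h' : Θ, f h' = ((χ ρ h' : Fˣ) : F) * (((χ β h' : Fˣ) : F)⁻¹) ^ (p ^ k) := by
      intro h'
      simp [f, Units.val_mul, Units.val_pow_eq_pow_val]
    have hne : f ≠ 1 := by
      intro h1
      apply hh
      have h2 : f h = 1 := by rw [h1]; rfl
      have h3 : ((χ ρ h * ((χ β h)⁻¹) ^ (p ^ k) : Fˣ) : F) = 1 := by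
        simpa [f] using h2
      have h4 : χ ρ h * ((χ β h)⁻¹) ^ (p ^ k) = 1 := Units.ext h3
      rw [inv_pow, mul_inv_eq_one] at h4
      exact h4
    have := sum_hom_units_eq_zero f hne
    show ∑ h' : Θ, ((χ ρ h' : Fˣ) : F) * (((χ β h' : Fˣ) : F)⁻¹) ^ (p ^ k) = 0
    rw [← this]
    exact Finset.sum_congr rfl fun h' _ => (hf h').symm
  have hS0 : ∀ ρ, ρ ≠ β → ∀ k, S ρ k = 0 := fun ρ hρ k => hSsum ρ k (hsep ρ hρ k)
  have hSβ0 : S β 0 = ((Fintype.card Θ : ℕ) : F) := by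
    show ∑ h : Θ, ((χ β h : Fˣ) : F) * (((χ β h : Fˣ) : F)⁻¹) ^ (p ^ 0) = _
    have : ∀ h : Θ, ((χ β h : Fˣ) : F) * (((χ β h : Fˣ) : F)⁻¹) ^ (p ^ 0) = 1 := by
      intro h
      rw [pow_zero, pow_one, mul_inv_cancel₀ (Units.ne_zero _)]
    rw [Finset.sum_congr rfl fun h _ => this h, Finset.sum_const, Finset.card_univ, nsmul_eq_mul,
      mul_one]
  have hSβk : ∀ k, 0 < k → k < e → S β k = 0 := by
    intro k hk0 hke
    apply hSsum
    obtain ⟨g, hg⟩ := IsCyclic.exists_generator (α := Fˣ)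
    obtain ⟨h, hh⟩ := hsq g
    refine ⟨h, ?_⟩
    rw [hh]
    intro heq
    -- g ^ 2 = (g ^ 2) ^ (p ^ k)
    have hord : orderOf g = p ^ e - 1 := by
      rw [orderOf_eq_card_of_forall_mem_zpowers hg, Nat.card_eq_fintype_card, Fintype.card_units, hcard]
    have hpk : 2 ≤ p ^ k := le_trans hp2 (Nat.le_self_pow (Nat.pos_iff_ne_zero.1 hk0) p)
    have h1 : g ^ (2 * p ^ k - 2) = 1 := by
      have h2 : g ^ (2 * p ^ k) = g ^ 2 := by rw [pow_mul]; exact heq.symm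
      have h3 : g ^ (2 * p ^ k - 2) * g ^ 2 = 1 * g ^ 2 := by
        rw [← pow_add, one_mul, Nat.sub_add_cancel (by omega), h2]
      exact mul_right_cancel h3
    have hdvd := orderOf_dvd_of_pow_eq_one h1
    rw [hord] at hdvd
    have hle := Nat.le_of_dvd (by omega) hdvd
    have hpow : p ^ (k + 1) ≤ p ^ e := Nat.pow_le_pow_right (by omega) hke
    have hpow2 : 2 * p ^ k ≤ p ^ (k + 1) := by
      rw [pow_succ, mul_comm]; exact Nat.mul_le_mul_left _ hp2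
    omega
  -- the coordinates of `w`
  have key : ∀ ρ, ∑ h : Θ, (nat h : F) * (((χ ρ h : Fˣ) : F) * v ρ) =
      (∑ k ∈ Finset.range e, c' ^ (p ^ k) * S ρ k) * v ρ := by
    intro ρ
    calc ∑ h : Θ, (nat h : F) * (((χ ρ h : Fˣ) : F) * v ρ)
        = ∑ h : Θ, ∑ k ∈ Finset.range e,
            c' ^ (p ^ k) * (((χ ρ h : Fˣ) : F) * (((χ β h : Fˣ) : F)⁻¹) ^ (p ^ k)) * v ρ := by
          refine Finset.sum_congr rfl fun h _ => ?_
          rw [hnat h, Finset.sum_mul]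
          refine Finset.sum_congr rfl fun k _ => ?_
          rw [mul_pow]; ring
      _ = ∑ k ∈ Finset.range e, ∑ h : Θ,
            c' ^ (p ^ k) * (((χ ρ h : Fˣ) : F) * (((χ β h : Fˣ) : F)⁻¹) ^ (p ^ k)) * v ρ :=
          Finset.sum_comm
      _ = (∑ k ∈ Finset.range e, c' ^ (p ^ k) * S ρ k) * v ρ := by
          rw [Finset.sum_mul]
          refine Finset.sum_congr rfl fun k _ => ?_
          show _ = c' ^ (p ^ k) * (∑ h : Θ, ((χ ρ h : Fˣ) : F) * (((χ β h : Fˣ) : F)⁻¹) ^ (p ^ k)) * v ρ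
          rw [Finset.mul_sum, Finset.sum_mul]
  convert hw using 1
  funext ρ
  rw [Finset.sum_apply]
  simp only [Pi.smul_apply, nsmul_eq_mul]
  rw [key ρ]
  by_cases hρ : ρ = β
  · subst hρ
    rw [Pi.single_eq_same]
    have hsum : ∑ k ∈ Finset.range e, c' ^ (p ^ k) * S ρ k = c' * ((Fintype.card Θ : ℕ) : F) := by
      rw [Finset.sum_eq_single 0]
      · rw [pow_zero, pow_one, hSβ0]
      · intro k hk hk0
        rw [hSβk k (Nat.pos_of_ne_zero hk0) (Finset.mem_range.1 hk), mul_zero]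
      · intro h0
        exact absurd (Finset.mem_range.2 he) h0
    rw [hsum, hc', div_mul_cancel₀ _ hΘ]
  · rw [Pi.single_eq_of_ne hρ]
    have hsum : ∑ k ∈ Finset.range e, c' ^ (p ^ k) * S ρ k = 0 := by
      refine Finset.sum_eq_zero fun k _ => ?_
      rw [hS0 ρ hρ k, mul_zero]
    rw [hsum, zero_mul]

end Cfsg.Agent.Lib.H24.Wc
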