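import Cfsg.Agent.Lib.H24.PiChar
import Cfsg.Agent.Lib.L0.CharInd
import Cfsg.Agent.Lib.L0.CharIndChar

/-!
# Regular wreath products: base group, product subgroups, induction (helper24's library)

For `W = D ≀ᵣ Q`:
* `base D Q` : the base group (kernel of `rightHom`), `baseEquiv : base D Q ≃* (Q → D)`.
* `prodSub H` : `∏ H q` inside the base group; `wrSub H` : `H ≀ᵣ Q` inside `W`.
* `prodFun H lam` : the outer product function on `prodSub H`; `prodHom`, `wrHom` : the
  corresponding homomorphisms into `ℂˣ`.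
* `indFun_prodFun` : inducing an outer product from `prodSub H` to the base group gives the outer
  product of the induced functions.
-/

set_option autoImplicit false

namespace Cfsg.Agent.Lib.H24.WrM

open scoped ComplexConjugate
open Cfsg Cfsg.Agent.Lib.L0 Cfsg.Agent.Lib.H24 RegularWreathProduct

variable {D Q : Type*} [Group D] [Group Q]

/-- The base group of the regular wreath product. -/
def base (D Q : Type*) [Group D] [Group Q] : Subgroup (D ≀ᵣ Q) :=
  (rightHom : D ≀ᵣ Q →* Q).ker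

instance base_normal : (base D Q).Normal := MonoidHom.normal_ker _

theorem mem_base (w : D ≀ᵣ Q) : w ∈ base D Q ↔ w.right = 1 := MonoidHom.mem_ker

/-- The base group is the power `Q → D`. -/
def baseEquiv : base D Q ≃* (Q → D) where
  toFun b := b.1.left
  invFun f := ⟨⟨f, 1⟩, (mem_base _).mpr rfl⟩
  left_inv b := by
    apply Subtype.ext
    ext
    · rfl
    · exact ((mem_base _).mp b.2).symm
  right_inv f := rfl
  map_mul' a b := by
    funext q
    have ha : a.1.right = 1 := (mem_base _).mp a.2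
    simp [ha]

theorem baseEquiv_apply (b : base D Q) (q : Q) : baseEquiv b q = b.1.left q := rfl

theorem baseEquiv_symm_coe (f : Q → D) : ((baseEquiv (D := D) (Q := Q)).symm f : D ≀ᵣ Q) = ⟨f, 1⟩ :=
  rfl

/-- The subgroup `∏ H q` of the base group. -/
def prodSub (H : Q → Subgroup D) : Subgroup (D ≀ᵣ Q) where
  carrier := {w | w.right = 1 ∧ ∀ q, w.left q ∈ H q}
  one_mem' := ⟨rfl, fun q => (H q).one_mem⟩
  mul_mem' := by
    rintro a b ⟨ha1, ha⟩ ⟨hb1, hb⟩
    refine ⟨by simp [ha1, hb1], fun q => ?_⟩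
    simp only [mul_left, Pi.mul_apply, ha1, inv_one, one_mul]
    exact (H q).mul_mem (ha q) (hb q)
  inv_mem' := by
    rintro a ⟨ha1, ha⟩
    refine ⟨by simp [ha1], fun q => ?_⟩
    simp only [inv_left, Pi.inv_apply, ha1, one_mul]
    exact (H q).inv_mem (ha q)

theorem mem_prodSub (H : Q → Subgroup D) (w : D ≀ᵣ Q) :
    w ∈ prodSub H ↔ w.right = 1 ∧ ∀ q, w.left q ∈ H q := Iff.rfl

theorem prodSub_le_base (H : Q → Subgroup D) : prodSub H ≤ base D Q :=
  fun w hw => (mem_base w).mpr hw.1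

/-- The subgroup `H ≀ᵣ Q` of `D ≀ᵣ Q`. -/
def wrSub (H : Subgroup D) : Subgroup (D ≀ᵣ Q) where
  carrier := {w | ∀ q, w.left q ∈ H}
  one_mem' := fun q => H.one_mem
  mul_mem' := by
    intro a b ha hb q
    simp only [mul_left, Pi.mul_apply]
    exact H.mul_mem (ha q) (hb _)
  inv_mem' := by
    intro a ha q
    simp only [inv_left, Pi.inv_apply]
    exact H.inv_mem (ha _)

theorem mem_wrSub (H : Subgroup D) (w : D ≀ᵣ Q) : w ∈ wrSub H ↔ ∀ q, w.left q ∈ H := Iff.rfl

theorem prodSub_le_wrSub (H : Subgroup D) : prodSub (fun _ : Q => H) ≤ wrSub H :=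
  fun _ hw => hw.2

theorem inl_mem_wrSub (H : Subgroup D) (c : Q) : (inl c : D ≀ᵣ Q) ∈ wrSub H :=
  fun _ => H.one_mem

theorem prodSub_eq_inf (H : Subgroup D) : prodSub (fun _ : Q => H) = wrSub H ⊓ base D Q := by
  ext w
  rw [Subgroup.mem_inf, mem_prodSub, mem_wrSub, mem_base]
  exact and_comm

theorem wrSub_sup_base (H : Subgroup D) : wrSub H ⊔ base D Q = ⊤ := by
  rw [eq_top_iff]
  intro w _
  have h1 : w = (⟨w.left, 1⟩ : D ≀ᵣ Q) * inl w.right := by
    ext
    · simp
    · simp
  rw [h1]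
  refine Subgroup.mul_mem _ (Subgroup.mem_sup_right ((mem_base _).mpr rfl))
    (Subgroup.mem_sup_left (inl_mem_wrSub H _))

section Fin

variable [Fintype Q]

/-- The outer product of functions on the `H q`, as a function on `prodSub H`. -/
def prodFun (H : Q → Subgroup D) (lam : ∀ q, H q → ℂ) : prodSub H → ℂ :=
  fun w => ∏ q, lam q ⟨w.1.left q, w.2.2 q⟩

/-- The outer product of linear characters, as a homomorphism. -/
def prodHom (H : Q → Subgroup D) (lam : ∀ q, H q →* ℂˣ) : prodSub H →* ℂˣ where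
  toFun w := ∏ q, lam q ⟨w.1.left q, w.2.2 q⟩
  map_one' := by
    apply Finset.prod_eq_one
    intro q _
    exact map_one (lam q)
  map_mul' a b := by
    rw [← Finset.prod_mul_distrib]
    refine Finset.prod_congr rfl (fun q _ => ?_)
    rw [← map_mul]
    congr 1
    apply Subtype.ext
    have ha : a.1.right = 1 := a.2.1
    simp [ha]

theorem prodHom_coe (H : Q → Subgroup D) (lam : ∀ q, H q →* ℂˣ) (w : prodSub H) :
    ((prodHom H lam w : ℂˣ) : ℂ) = prodFun H (fun q h => ((lam q h : ℂˣ) : ℂ)) w := by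
  simp only [prodHom, prodFun, MonoidHom.coe_mk, OneHom.coe_mk, Units.coe_prod]

/-- The homomorphism `w ↦ ∏ lam (w.left q)` on `H ≀ᵣ Q`. -/
def wrHom (H : Subgroup D) (lam : H →* ℂˣ) : wrSub (Q := Q) H →* ℂˣ where
  toFun w := ∏ q, lam ⟨w.1.left q, w.2 q⟩
  map_one' := by
    apply Finset.prod_eq_one
    intro q _
    exact map_one lam
  map_mul' a b := by
    have h1 : ∏ q, lam ⟨b.1.left q, b.2 q⟩ =
        ∏ q, lam ⟨b.1.left (a.1.right⁻¹ * q), b.2 _⟩ :=
      (Fintype.prod_equiv (Equiv.mulLeft a.1.right⁻¹)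
        (fun q => lam ⟨b.1.left (a.1.right⁻¹ * q), b.2 _⟩)
        (fun q => lam ⟨b.1.left q, b.2 q⟩) (fun q => rfl)).symm
    rw [h1, ← Finset.prod_mul_distrib]
    refine Finset.prod_congr rfl (fun q _ => ?_)
    rw [← map_mul]
    congr 1

theorem wrHom_apply (H : Subgroup D) (lam : H →* ℂˣ) (w : wrSub (Q := Q) H) :
    wrHom H lam w = ∏ q, lam ⟨w.1.left q, w.2 q⟩ := rfl

/-- `prodSub H` is the product of the `H q`. -/
def prodSubEquiv (H : Q → Subgroup D) : prodSub H ≃ (∀ q, H q) where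
  toFun w q := ⟨w.1.left q, w.2.2 q⟩
  invFun g := ⟨⟨fun q => (g q : D), 1⟩, rfl, fun q => (g q).2⟩
  left_inv w := by
    apply Subtype.ext
    ext
    · rfl
    · exact w.2.1.symm
  right_inv g := rfl

theorem card_prodSub [Finite D] (H : Q → Subgroup D) :
    Nat.card (prodSub H) = ∏ q, Nat.card (H q) := by
  rw [Nat.card_congr (prodSubEquiv H), Nat.card_pi]

theorem extendByZero_prodFun [Fintype (base D Q)] (H : Q → Subgroup D) (lam : ∀ q, H q → ℂ)
    (u : base D Q) :
    extendByZero ((prodSub H).subgroupOf (base D Q))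
      (fun x => prodFun H lam ⟨(x : base D Q).1, Subgroup.mem_subgroupOf.mp x.2⟩) u =
    ∏ q, extendByZero (H q) (lam q) (u.1.left q) := by
  by_cases hu : ∀ q, u.1.left q ∈ H q
  · have hmem : u ∈ (prodSub H).subgroupOf (base D Q) :=
      Subgroup.mem_subgroupOf.mpr ⟨(mem_base _).mp u.2, hu⟩
    rw [extendByZero_apply_of_mem _ _ hmem]
    simp only [prodFun]
    refine Finset.prod_congr rfl (fun q _ => ?_)
    rw [extendByZero_apply_of_mem _ _ (hu q)]
  · have hmem : u ∉ (prodSub H).subgroupOf (base D Q) := by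
      intro h
      exact hu (Subgroup.mem_subgroupOf.mp h).2
    rw [extendByZero_apply_not_mem _ _ hmem]
    push Not at hu
    obtain ⟨q, hq⟩ := hu
    exact (Finset.prod_eq_zero (Finset.mem_univ q)
      (extendByZero_apply_not_mem (H q) (lam q) hq)).symm

/-- Inducing an outer product from `∏ H q` to the base group `∏ D`. -/
theorem indFun_prodFun [DecidableEq Q] [Fintype D] [Fintype (base D Q)] (H : Q → Subgroup D)
    (lam : ∀ q, H q → ℂ) :
    indFun ((prodSub H).subgroupOf (base D Q))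
      (fun x => prodFun H lam ⟨(x : base D Q).1, Subgroup.mem_subgroupOf.mp x.2⟩) =
    fun b : base D Q => ∏ q, indFun (H q) (lam q) (b.1.left q) := by
  funext b
  rw [indFun_apply]
  simp only [indFun_apply]
  rw [Finset.prod_mul_distrib, Finset.prod_univ_sum, Fintype.piFinset_univ]
  have hcard : Nat.card ((prodSub H).subgroupOf (base D Q)) = ∏ q, Nat.card (H q) := by
    rw [Nat.card_congr (Subgroup.subgroupOfEquivOfLe (prodSub_le_base H)).toEquiv, card_prodSub]
  rw [hcard]
  push_cast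
  rw [Finset.prod_inv_distrib]
  congr 1
  refine Fintype.sum_equiv baseEquiv.toEquiv _ _ (fun y => ?_)
  rw [extendByZero_prodFun]
  refine Finset.prod_congr rfl (fun q _ => ?_)
  congr 1
  have h1 : (y⁻¹ * b * y).1.left = (baseEquiv y)⁻¹ * baseEquiv b * baseEquiv y := by
    show baseEquiv (y⁻¹ * b * y) = _
    rw [map_mul, map_mul, map_inv]
  rw [h1]
  rfl

end Fin

end Cfsg.Agent.Lib.H24.WrM
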