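import Cfsg.Agent.Lib.H24.WreathM1
import Cfsg.Agent.Lib.H24.CentralExt
import Cfsg.Agent.Lib.H24.InvOverD
import Cfsg.Agent.Lib.H23.Ito
import Cfsg.Agent.Lib.H23.MGroup
import Cfsg.Agent.Lib.H18.ItoPSolv
import Cfsg.Agent.Lib.H22.UniqueOrderP

/-!
# `M ≀ᵣ C_p` is an M-group when `M` is (helper24's library)
-/

set_option autoImplicit false

namespace Cfsg.Agent.Lib.H24.WrM

open scoped ComplexConjugate
open Cfsg Cfsg.Agent.Lib.L0 Cfsg.Agent.Lib.H24 Cfsg.Agent.Lib.H23 RegularWreathProduct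

variable {D Q : Type*} [Group D] [Group Q]

section Index

variable [Finite D] [Finite Q]

theorem relIndex_prodSub_base (H : Subgroup D) :
    (prodSub (fun _ : Q => H)).relIndex (base D Q) = (wrSub (Q := Q) H).index := by
  set K₀ := prodSub (fun _ : Q => H) with hK₀
  set K := wrSub (Q := Q) H with hK
  set B := base D Q with hB
  have h1 : K₀.relIndex K * K.index = K₀.index :=
    Subgroup.relIndex_mul_index (prodSub_le_wrSub H)
  have h2 : K₀.relIndex B * B.index = K₀.index :=
    Subgroup.relIndex_mul_index (prodSub_le_base _)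
  have h3 : B.relIndex K = B.index := by
    have := Subgroup.relIndex_sup_right (H := K) (K := B)
    rw [wrSub_sup_base, Subgroup.relIndex_top_right] at this
    exact this.symm
  have h4 : K₀.relIndex K = B.relIndex K := by
    rw [hK₀, prodSub_eq_inf, Subgroup.inf_relIndex_left]
  rw [h4, h3, ← h2, mul_comm] at h1
  have hB0 : B.index ≠ 0 := Subgroup.index_ne_zero_of_finite
  exact (Nat.eq_of_mul_eq_mul_right (Nat.pos_of_ne_zero hB0) h1).symm

end Index

section Cases

variable [Fintype D] [Fintype Q] [DecidableEq Q] [Fintype (D ≀ᵣ Q)] [Fintype (base D Q)]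

/-- A product of induced functions on the base group, induced further to the wreath product. -/
theorem indFun_base_prod (H : Q → Subgroup D) (lam : ∀ q, H q → ℂ) (θ : base D Q → ℂ)
    (hθ : ∀ b : base D Q, θ b = ∏ q, indFun (H q) (lam q) (b.1.left q)) :
    indFun (base D Q) θ = indFun (prodSub H) (prodFun H lam) := by
  rw [← indFun_trans (prodSub H) (base D Q) (prodSub_le_base H) (prodFun H lam)]
  congr 1
  rw [indFun_prodFun]
  funext b
  exact hθ b

/-- The non-invariant case: `χ` is induced from the base group. -/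
theorem noninv_case (H : Q → Subgroup D) (lam : ∀ q, H q →* ℂˣ) (θ : base D Q → ℂ)
    (hθirr : IsIrrCharacter (base D Q) θ)
    (hθ : ∀ b : base D Q,
      θ b = ∏ q, indFun (H q) (fun h => ((lam q h : ℂˣ) : ℂ)) (b.1.left q))
    (hT : inertia (base D Q) θ = base D Q)
    (χ : D ≀ᵣ Q → ℂ) (hχ : IsIrrCharacter (D ≀ᵣ Q) χ)
    (hcon : classInner (fun b : base D Q => χ b) θ ≠ 0) :
    χ = indFun (prodSub H) (fun w => ((prodHom H lam w : ℂˣ) : ℂ)) := by
  classical
  have : Fintype (inertia (base D Q) θ) := Fintype.ofFinite _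
  have hBT : base D Q ≤ inertia (base D Q) θ :=
    le_inertia (base D Q) (isClassFunction_of_isCharacter (isCharacter_of_irr hθirr))
  obtain ⟨ψ, hψ, hind, hmult⟩ :=
    clifford_correspondence (base D Q) (inertia (base D Q) θ) hBT θ hθirr (fun g => Iff.rfl) χ hχ
      hcon
  have hsurj : Function.Surjective (Subgroup.inclusion hBT) := by
    intro t
    have ht : (t : D ≀ᵣ Q) ∈ base D Q := hT.le t.2
    exact ⟨⟨t.1, ht⟩, rfl⟩
  have hres_irr : IsIrrCharacter (base D Q) (resTo (base D Q) (inertia (base D Q) θ) hBT ψ) := by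
    rw [resTo_eq_comp]
    exact isIrrCharacter_comp_of_surjective (Subgroup.inclusion hBT) hsurj hψ
  have hres_eq : resTo (base D Q) (inertia (base D Q) θ) hBT ψ = θ := by
    by_contra hne
    have h0 := irr_classInner_ne hres_irr hθirr hne
    rw [hmult] at h0
    exact hcon h0
  rw [← hind]
  have h1 : indFun (inertia (base D Q) θ) ψ = indFun (base D Q) θ := by
    apply indFun_congr hT
    intro x h1 h2
    exact (congrFun hres_eq ⟨x, h2⟩).symm ▸ rfl
  rw [h1, indFun_base_prod H (fun q h => ((lam q h : ℂˣ) : ℂ)) θ hθ]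
  congr 1
  funext w
  exact (prodHom_coe H lam w).symm

/-- The invariant case: `χ` is induced from a linear character of `H ≀ᵣ Q`. -/
theorem inv_case (hQ : ∀ a b : Q, a * b = b * a) (H : Subgroup D) (lam : H →* ℂˣ)
    (θ : base D Q → ℂ) (hθirr : IsIrrCharacter (base D Q) θ)
    (hθ : ∀ b : base D Q, θ b = ∏ q : Q, indFun H (fun h => ((lam h : ℂˣ) : ℂ)) (b.1.left q))
    (χ : D ≀ᵣ Q → ℂ) (hχ : IsIrrCharacter (D ≀ᵣ Q) χ)
    (hcon : classInner (fun b : base D Q => χ b) θ ≠ 0) :
    ∃ ν : wrSub (Q := Q) H →* ℂˣ, χ = indFun (wrSub H) (fun w => ((ν w : ℂˣ) : ℂ)) := by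
  classical
  have hχc := isCharacter_of_irr hχ
  have hχcl := isClassFunction_of_isCharacter hχc
  have : Fintype (wrSub (Q := Q) H) := Fintype.ofFinite _
  have : Fintype (prodSub (fun _ : Q => H)) := Fintype.ofFinite _
  have : Fintype ((prodSub (fun _ : Q => H)).subgroupOf (wrSub H)) := Fintype.ofFinite _
  have h2 : indFun (base D Q) θ = indFun (prodSub (fun _ : Q => H))
      (prodFun (fun _ : Q => H) (fun _ h => ((lam h : ℂˣ) : ℂ))) :=
    indFun_base_prod (fun _ : Q => H) (fun _ h => ((lam h : ℂˣ) : ℂ)) θ hθ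
  have hne1 : classInner (indFun (prodSub (fun _ : Q => H))
      (prodFun (fun _ : Q => H) (fun _ h => ((lam h : ℂˣ) : ℂ)))) χ ≠ 0 := by
    rw [← h2, frobenius_reciprocity (base D Q) θ χ hχcl, ← classInner_conj_symm]
    intro h0
    exact hcon ((map_eq_zero _).mp h0)
  set Φ : wrSub (Q := Q) H → ℂ := indFun ((prodSub (fun _ : Q => H)).subgroupOf (wrSub H))
    (fun x => prodFun (fun _ : Q => H) (fun _ h => ((lam h : ℂˣ) : ℂ))
      ⟨(x : wrSub (Q := Q) H).1, Subgroup.mem_subgroupOf.mp x.2⟩) with hΦ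
  have h4 : indFun (wrSub H) Φ = indFun (prodSub (fun _ : Q => H))
      (prodFun (fun _ : Q => H) (fun _ h => ((lam h : ℂˣ) : ℂ))) :=
    indFun_trans (prodSub (fun _ : Q => H)) (wrSub H) (prodSub_le_wrSub H) _
  have hne2 : classInner Φ (fun k : wrSub (Q := Q) H => χ k) ≠ 0 := by
    rw [← frobenius_reciprocity (wrSub H) Φ χ hχcl, h4]
    exact hne1
  obtain ⟨l, hl, hsum⟩ :=
    isCharacter_exists_irr_decomp (isCharacter_restrict (wrSub (Q := Q) H) hχc)
  obtain ⟨ν, hνl, hνne⟩ : ∃ ν ∈ l, classInner Φ ν ≠ 0 := by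
    by_contra hcon2
    push Not at hcon2
    apply hne2
    rw [hsum, classInner_list_sum_right]
    apply List.sum_eq_zero
    intro x hx
    rw [List.mem_map] at hx
    obtain ⟨y, hy, rfl⟩ := hx
    exact hcon2 y hy
  have hν := hl ν hνl
  have hνc := isCharacter_of_irr hν
  have hνcl := isClassFunction_of_isCharacter hνc
  set N₀ : Subgroup (wrSub (Q := Q) H) := (prodSub (fun _ : Q => H)).subgroupOf (wrSub H) with hN₀
  set μ := wrHom (Q := Q) H lam with hμ
  have hΛμ : (fun x : N₀ => prodFun (fun _ : Q => H) (fun _ h => ((lam h : ℂˣ) : ℂ))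
      ⟨(x : wrSub (Q := Q) H).1, Subgroup.mem_subgroupOf.mp x.2⟩) =
      fun y : N₀ => ((μ (y : wrSub (Q := Q) H) : ℂˣ) : ℂ) := by
    funext x
    simp only [prodFun, hμ, wrHom_apply, Units.coe_prod]
  have hN₀eq : N₀ = (base D Q).subgroupOf (wrSub H) := by
    rw [hN₀, prodSub_eq_inf, Subgroup.inf_subgroupOf_left]
  haveI hN₀n : N₀.Normal := by
    rw [hN₀eq]
    infer_instance
  have hπ : IsIrrCharacter (wrSub (Q := Q) H) (fun k => ((μ k : ℂˣ) : ℂ)) :=
    isIrrCharacter_of_hom μ
  have hπres : IsIrrCharacter N₀ (fun y : N₀ => ((μ (y : wrSub (Q := Q) H) : ℂˣ) : ℂ)) :=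
    isIrrCharacter_of_hom (μ.comp N₀.subtype)
  have hcon' : classInner (fun y : N₀ => ν y)
      (fun y : N₀ => ((μ (y : wrSub (Q := Q) H) : ℂˣ) : ℂ)) ≠ 0 := by
    rw [← hΛμ, ← classInner_conj_symm]
    intro h0
    apply hνne
    rw [hΦ, frobenius_reciprocity N₀ _ ν hνcl]
    exact (map_eq_zero _).mp h0
  obtain ⟨β, hβ, hβ1, hνβ⟩ :=
    gallagher_exists N₀ (fun k => ((μ k : ℂˣ) : ℂ)) hπ hπres ν hν hcon'
  have hβc := isCharacter_of_irr hβ
  have hβcl := isClassFunction_of_isCharacter hβc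
  have hβcon : classInner (fun n : N₀ => β n) (fun _ : N₀ => (1 : ℂ)) ≠ 0 := by
    rw [frobenius_reciprocity N₀ _ β hβcl] at hβ1
    rw [← classInner_conj_symm]
    intro h0
    exact hβ1 ((map_eq_zero _).mp h0)
  have hone : IsIrrCharacter N₀ (fun _ : N₀ => (1 : ℂ)) := isIrrCharacter_one (G := N₀)
  have hβres := restrict_eq_smul_of_invariant N₀ β hβ (fun _ : N₀ => (1 : ℂ)) hone hβcon
    (fun g n => rfl)
  have hβconst : ∀ n : N₀, β n = β 1 := by
    intro n
    have h1 := congrFun hβres n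
    have h2 := congrFun hβres 1
    simp only [Pi.smul_apply, smul_eq_mul, mul_one] at h1 h2
    rw [h1, ← h2]
    rfl
  let f : wrSub (Q := Q) H →* Q := (rightHom : D ≀ᵣ Q →* Q).comp (wrSub H).subtype
  have hf : Function.Surjective f := fun c => ⟨⟨inl c, inl_mem_wrSub H c⟩, rfl⟩
  have hker : ∀ z : wrSub (Q := Q) H, f z = 1 → β z = β 1 := by
    intro z hz
    have hzN : z ∈ N₀ := by
      rw [hN₀eq, Subgroup.mem_subgroupOf]
      exact (mem_base _).mpr hz
    exact hβconst ⟨z, hzN⟩
  obtain ⟨ψ', hψ'⟩ := Cfsg.Agent.Lib.H24.InvOver.exists_deflation_of_surjective f hf ⟨β, hβ⟩ hker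
  have hβone : β 1 = 1 := by
    have h1 : (ψ' : Q → ℂ) 1 = β 1 := by
      have := hψ' 1
      rw [map_one] at this
      exact this
    rw [← h1]
    exact Cfsg.Agent.Lib.L0.irr_apply_one_of_comm hQ ψ'.2
  have hν1 : ν 1 = 1 := by
    rw [hνβ]
    simp [hβone]
  refine ⟨linearCharHom hνc hν1, ?_⟩
  have hνeq : (fun w : wrSub (Q := Q) H => ((linearCharHom hνc hν1 w : ℂˣ) : ℂ)) = ν :=
    funext (fun w => linearCharHom_apply hνc hν1 w)
  rw [hνeq]
  have hne3 : classInner (indFun (wrSub H) ν) χ ≠ 0 := by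
    rw [frobenius_reciprocity (wrSub H) ν χ hχcl, hsum, ← classInner_conj_symm,
      classInner_irr_list_sum hl hν]
    simp only [map_natCast]
    exact Nat.cast_ne_zero.mpr (List.count_pos_iff.mpr hνl).ne'
  have hIndc : IsCharacter (D ≀ᵣ Q) (indFun (wrSub H) ν) := isCharacter_indFun (wrSub H) hνc
  obtain ⟨a, b, ha, hb, hab⟩ := degree_le_of_classInner_ne_zero hχ hIndc hne3
  obtain ⟨a', b', ha', hb', hab'⟩ :=
    degree_le_of_classInner_ne_zero hθirr (isCharacter_restrict (base D Q) hχc) hcon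
  have hb1 : indFun (wrSub H) ν 1 = ((wrSub (Q := Q) H).index : ℂ) := by
    rw [indFun_apply_one, hν1, mul_one]
  have hθ1 : θ 1 = ((wrSub (Q := Q) H).index : ℂ) := by
    have h5 := congrFun (indFun_prodFun (fun _ : Q => H) (fun _ h => ((lam h : ℂˣ) : ℂ)))
      (1 : base D Q)
    rw [← hθ 1, indFun_apply_one] at h5
    rw [← h5]
    have h6 : prodFun (fun _ : Q => H) (fun _ h => ((lam h : ℂˣ) : ℂ))
        ⟨((1 : (prodSub (fun _ : Q => H)).subgroupOf (base D Q)) : base D Q).1,
          Subgroup.mem_subgroupOf.mp (1 : (prodSub (fun _ : Q => H)).subgroupOf (base D Q)).2⟩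
        = 1 := by
      simp only [prodFun]
      apply Finset.prod_eq_one
      intro q _
      have h7 : ∀ (hm : (1 : D) ∈ H), lam ⟨1, hm⟩ = 1 := fun hm => map_one lam
      simp [h7]
    rw [h6, mul_one]
    congr 1
    exact relIndex_prodSub_base H
  have e1 : (a : ℂ) = b' := by
    rw [← ha, ← hb']
    rfl
  have e1' : a = b' := by exact_mod_cast e1
  have e2 : (b : ℂ) = a' := by rw [← hb, ← ha', hb1, hθ1]
  have e2' : b = a' := by exact_mod_cast e2
  have hab2 : a = b := by omega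
  have hdeg : χ 1 = indFun (wrSub H) ν 1 := by rw [ha, hb, hab2]
  exact (Cfsg.Agent.Lib.H18.Ito.eq_of_constituent_of_degree_eq (indFun (wrSub H) ν) hIndc
    ⟨χ, hχ⟩ hne3 hdeg).symm

end Cases

/-- The M-group property: every irreducible character is induced from a linear character. -/
def IsMGrp (M : Type*) [Group M] [Fintype M] : Prop :=
  ∀ χ : M → ℂ, IsIrrCharacter M χ →
    ∃ (H : Subgroup M) (lam : H →* ℂˣ), χ = indFun H (fun h => ((lam h : ℂˣ) : ℂ))

section Main

variable [Fintype D] [Fintype Q] [DecidableEq Q] [Fintype (D ≀ᵣ Q)]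

theorem index_base [Finite Q] : (base D Q).index = Nat.card Q := by
  have hsurj : Function.Surjective (rightHom : D ≀ᵣ Q →* Q) := fun c => ⟨inl c, rfl⟩
  rw [base, Subgroup.index_ker, MonoidHom.range_eq_top.mpr hsurj, Subgroup.card_top]

/-- If `D` is an M-group and `Q` has prime order, then `D ≀ᵣ Q` is an M-group. -/
theorem isMGrp_wreath {p : ℕ} [hp : Fact p.Prime] (hD : IsMGrp D) (hQ : Nat.card Q = p) :
    IsMGrp (D ≀ᵣ Q) := by
  intro χ hχ
  classical
  letI : Fintype (base D Q) := Fintype.ofFinite _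
  have hχc := isCharacter_of_irr hχ
  have hχB : IsCharacter (base D Q) (fun b : base D Q => χ b) :=
    isCharacter_restrict (base D Q) hχc
  have hχ1 : (fun b : base D Q => χ b) 1 ≠ 0 := irr_one_ne_zero ⟨χ, hχ⟩
  obtain ⟨θ, hθirr, hcon⟩ := exists_irr_constituent hχB hχ1
  have hθ' : IsIrrCharacter (Q → D) (θ ∘ (baseEquiv (D := D) (Q := Q)).symm) :=
    isIrrCharacter_comp_of_surjective (baseEquiv (D := D) (Q := Q)).symm.toMonoidHom
      (baseEquiv (D := D) (Q := Q)).symm.surjective hθirr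
  obtain ⟨φ, hφ, hθφ⟩ := exists_piChar_of_isIrrCharacter hθ'
  have hθval : ∀ b : base D Q, θ b = ∏ q, φ q (b.1.left q) := by
    intro b
    have h1 := congrFun hθφ (baseEquiv b)
    simp only [Function.comp_apply, MulEquiv.symm_apply_apply] at h1
    rw [h1]
    rfl
  have hQcomm : ∀ a b : Q, a * b = b * a := by
    have : IsCyclic Q := isCyclic_of_prime_card hQ
    intro a b
    exact IsMulCommutative.is_comm.comm a b
  have hidx : (base D Q).index = p := by rw [index_base, hQ]
  by_cases hT : inertia (base D Q) θ = base D Q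
  · have hM : ∀ q, ∃ (H : Subgroup D) (lam : H →* ℂˣ),
        φ q = indFun H (fun h => ((lam h : ℂˣ) : ℂ)) := fun q => hD (φ q) (hφ q)
    choose H lam hHlam using hM
    refine ⟨prodSub H, prodHom H lam, ?_⟩
    apply noninv_case H lam θ hθirr ?_ hT χ hχ hcon
    intro b
    rw [hθval b]
    refine Finset.prod_congr rfl (fun q _ => ?_)
    rw [← hHlam q]
  · have hBT : base D Q ≤ inertia (base D Q) θ :=
      le_inertia (base D Q) (isClassFunction_of_isCharacter (isCharacter_of_irr hθirr))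
    have hlt : base D Q < inertia (base D Q) θ := lt_of_le_of_ne hBT (Ne.symm hT)
    have htop : inertia (base D Q) θ = ⊤ :=
      Cfsg.Agent.Lib.H22.eq_top_of_index_prime_of_lt hidx hlt
    have hφeq : ∀ c : Q, φ c = φ 1 := by
      intro c
      have hc : (inl c : D ≀ᵣ Q) ∈ inertia (base D Q) θ := by
        rw [htop]
        trivial
      rw [mem_inertia] at hc
      have h1 : piChar (fun q => φ (c * q)) = piChar φ := by
        funext f
        have h2 := hc ((baseEquiv (D := D) (Q := Q)).symm f)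
        rw [hθval, hθval] at h2
        simp only [piChar]
        have h3 : ∏ q, φ (c * q) (f q) = ∏ q, φ q (f (c⁻¹ * q)) :=
          Fintype.prod_equiv (Equiv.mulLeft c) (fun q' => φ (c * q') (f q'))
            (fun q => φ q (f (c⁻¹ * q))) (fun q' => by simp)
        rw [h3]
        have h4 : ∀ q, ((baseEquiv (D := D) (Q := Q)).symm f : D ≀ᵣ Q).left q = f q := fun q => rfl
        have h5 : ∀ q, (inl c * ((baseEquiv (D := D) (Q := Q)).symm f : D ≀ᵣ Q) * (inl c)⁻¹).left q
            = f (c⁻¹ * q) := by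
          intro q
          simp [baseEquiv_symm_coe]
        simp only [h4, h5] at h2
        exact h2
      have h3 := piChar_irr_injective (fun q => hφ (c * q)) hφ h1
      have h4 := congrFun h3 1
      simpa using h4
    obtain ⟨H, lam, hHlam⟩ := hD (φ 1) (hφ 1)
    have hθ2 : ∀ b : base D Q,
        θ b = ∏ q : Q, indFun H (fun h => ((lam h : ℂˣ) : ℂ)) (b.1.left q) := by
      intro b
      rw [hθval b]
      refine Finset.prod_congr rfl (fun q _ => ?_)
      rw [hφeq q, ← hHlam]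
    obtain ⟨ν, hν⟩ := inv_case hQcomm H lam θ hθirr hθ2 χ hχ hcon
    exact ⟨wrSub H, ν, hν⟩

end Main

end Cfsg.Agent.Lib.H24.WrM
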