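import Cfsg.Agent.Lib.H24.WreathM2

/-!
# Dade: every finite solvable group embeds in an M-group (helper24's library)

* `exists_normal_prime_index` : a nontrivial finite solvable group has a normal subgroup of prime
  index.
* `kkHom` : the Krasner–Kaloujnine embedding `G →* M₀ ≀ᵣ (G ⧸ N)` attached to `φ : N →* M₀`.
* `exists_mGroup_embedding` : the theorem.
-/

set_option autoImplicit false

namespace Cfsg.Agent.Lib.H24.WrM

open Cfsg Cfsg.Agent.Lib.L0 Cfsg.Agent.Lib.H24 Cfsg.Agent.Lib.H23 RegularWreathProduct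

universe u

section PrimeIndex

variable {G : Type*} [Group G] [Finite G]

theorem exists_normal_prime_index [Nontrivial G] (hG : Group.IsSolvable G) :
    ∃ N : Subgroup G, N.Normal ∧ N.index.Prime := by
  classical
  have hbot : (⊥ : Subgroup G).Normal ∧ (⊥ : Subgroup G) ≠ ⊤ := ⟨inferInstance, bot_ne_top⟩
  obtain ⟨N, -, hNmax⟩ := Finite.exists_le_maximal
    (p := fun N : Subgroup G => N.Normal ∧ N ≠ ⊤) hbot
  obtain ⟨⟨hNn, hNtop⟩, hmax⟩ := hNmax
  haveI := hNn
  refine ⟨N, hNn, ?_⟩
  have hidx1 : N.index ≠ 1 := fun h => hNtop (Subgroup.index_eq_one.mp h)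
  have hidx0 : N.index ≠ 0 := Subgroup.index_ne_zero_of_finite
  haveI hnt : Nontrivial (G ⧸ N) := by
    apply Finite.one_lt_card_iff_nontrivial.mp
    show 1 < N.index
    omega
  haveI hsimple : IsSimpleGroup (G ⧸ N) := by
    refine ⟨fun Hb hHb => ?_⟩
    set K := Hb.comap (QuotientGroup.mk' N) with hK
    have hKn : K.Normal := hHb.comap _
    have hNK : N ≤ K := by
      intro x hx
      rw [hK, Subgroup.mem_comap]
      have : QuotientGroup.mk' N x = 1 := (QuotientGroup.eq_one_iff x).mpr hx
      rw [this]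
      exact Hb.one_mem
    have hmap : K.map (QuotientGroup.mk' N) = Hb :=
      Subgroup.map_comap_eq_self_of_surjective (QuotientGroup.mk'_surjective N) Hb
    by_cases hKtop : K = ⊤
    · right
      rw [← hmap, hKtop, ← MonoidHom.range_eq_map,
        MonoidHom.range_eq_top.mpr (QuotientGroup.mk'_surjective N)]
    · left
      have hKN : K ≤ N := hmax ⟨hKn, hKtop⟩ hNK
      have : K = N := le_antisymm hKN hNK
      rw [← hmap, this, QuotientGroup.map_mk'_self]
  have hsolv : Group.IsSolvable (G ⧸ N) :=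
    solvable_of_surjective (QuotientGroup.mk'_surjective N)
  have hcomm : ∀ a b : G ⧸ N, a * b = b * a := IsSimpleGroup.comm_iff_isSolvable.mpr hsolv
  letI : CommGroup (G ⧸ N) := { (inferInstance : Group (G ⧸ N)) with mul_comm := hcomm }
  exact IsSimpleGroup.prime_card (α := G ⧸ N)

end PrimeIndex

section KK

variable {G : Type*} [Group G] (N : Subgroup G) [N.Normal] {M₀ : Type*} [Group M₀] (φ : N →* M₀)

theorem kk_mem (g : G) (q : G ⧸ N) :
    (q.out)⁻¹ * g * (((g : G ⧸ N))⁻¹ * q).out ∈ N := by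
  rw [← QuotientGroup.eq_one_iff]
  simp [QuotientGroup.out_eq']

/-- The Krasner–Kaloujnine embedding. -/
noncomputable def kkHom : G →* M₀ ≀ᵣ (G ⧸ N) where
  toFun g := ⟨fun q => φ ⟨(q.out)⁻¹ * g * (((g : G ⧸ N))⁻¹ * q).out, kk_mem N g q⟩, (g : G ⧸ N)⟩
  map_one' := by
    ext q
    · have h1 : (⟨(q.out)⁻¹ * 1 * ((((1 : G) : G ⧸ N))⁻¹ * q).out, kk_mem N 1 q⟩ : N) = 1 := by
        apply Subtype.ext
        simp
      simp only [h1, map_one]
      rfl
    · rfl
  map_mul' g h := by
    ext q
    · simp only [mul_left, Pi.mul_apply]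
      rw [← map_mul]
      congr 1
      apply Subtype.ext
      simp [mul_assoc]
    · simp

theorem kkHom_injective (hφ : Function.Injective φ) : Function.Injective (kkHom N φ) := by
  rw [injective_iff_map_eq_one]
  intro g hg
  have hg1 : (g : G ⧸ N) = 1 := congrArg RegularWreathProduct.right hg
  have h2 : φ ⟨((1 : G ⧸ N).out)⁻¹ * g * (((g : G ⧸ N))⁻¹ * 1).out, kk_mem N g 1⟩ = 1 :=
    congrFun (congrArg RegularWreathProduct.left hg) 1
  rw [← map_one φ] at h2
  have h3 := congrArg Subtype.val (hφ h2)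
  simp only [hg1, inv_one, one_mul, Subgroup.coe_one] at h3
  have h4 : g = (1 : G ⧸ N).out * ((1 : G ⧸ N).out⁻¹ * g * (1 : G ⧸ N).out) *
      ((1 : G ⧸ N).out)⁻¹ := by group
  rw [h4, h3]
  group

end KK

section Main

theorem exists_mGroup_embedding_aux : ∀ (n : ℕ) (G : Type u) [Group G] [Finite G],
    Group.IsSolvable G → Nat.card G = n →
    ∃ (M : Type u) (_ : Group M) (_ : Fintype M), IsMGrp M ∧
      ∃ f : G →* M, Function.Injective f := by
  intro n
  induction n using Nat.strong_induction_on with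
  | _ n ih =>
    intro G _ _ hsolv hcard
    classical
    rcases subsingleton_or_nontrivial G with hsub | hnt
    · letI : Fintype G := Fintype.ofFinite G
      refine ⟨G, inferInstance, inferInstance, ?_, MonoidHom.id G, fun _ _ h => h⟩
      intro χ hχ
      exact monomial_of_nilpotent χ hχ
    · obtain ⟨N, hNn, hNp⟩ := exists_normal_prime_index hsolv
      haveI := hNn
      haveI : Fact N.index.Prime := ⟨hNp⟩
      have hlt : Nat.card N < n := by
        rw [← hcard, ← Subgroup.card_mul_index N]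
        have := hNp.one_lt
        have hpos : 0 < Nat.card N := Nat.card_pos
        nlinarith
      obtain ⟨M₀, instG, instF, hM₀, φ, hφ⟩ := ih (Nat.card N) hlt N inferInstance rfl
      letI : Fintype (G ⧸ N) := Fintype.ofFinite _
      letI : Fintype (M₀ ≀ᵣ (G ⧸ N)) := Fintype.ofFinite _
      refine ⟨M₀ ≀ᵣ (G ⧸ N), inferInstance, inferInstance, ?_, kkHom N φ, kkHom_injective N φ hφ⟩
      exact isMGrp_wreath (p := N.index) hM₀ rfl

theorem exists_mGroup_embedding {G : Type u} [Group G] [Finite G] (hsolv : Group.IsSolvable G) :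
    ∃ (M : Type u) (_ : Group M) (_ : Fintype M), IsMGrp M ∧
      ∃ f : G →* M, Function.Injective f :=
  exists_mGroup_embedding_aux _ G hsolv rfl

end Main

end Cfsg.Agent.Lib.H24.WrM
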